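import Mathlib
import Cfsg.Prelude.Def_Characters
import Cfsg.Prelude.Def_Blocks
import Cfsg.Agent.Characters.Core
import Cfsg.Agent.Blocks.PrincipalConstGen
import Cfsg.Agent.Classification.BGValues
import Cfsg.Agent.Classification.RTwo.General
import Cfsg.Agent.Classification.RTwo.BlockMem

/-!
# Characters of the principal 2-block are constant on the cosets of the core

Setting `Hyp t z π` of `RTwo.General`: `π : C(t) →* Q` surjective with odd kernel.

* `irr_eq_of_map`: `χ` in the principal 2-block, `x y : C(t)`, `π x = π y`, `t` a power of `x`: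
  `χ x = χ y`;
* `exists_values`: so on `{x | t ∈ zpowers x}` the character comes from a class function of `Q`;
* `exists_fixed_moved`: a character splits into the `K`-fixed and the `K`-moved part, for `K`
  normal;
* `moved_eq_zero`: the `K`-moved part of the restriction to `C(t)` of a character of the
  principal 2-block vanishes at all elements having `t` as a power.
-/

set_option autoImplicit false
set_option linter.unusedSectionVars false

namespace Cfsg.Agent.Classification.QDW.CoreConst

open Cfsg Cfsg.Agent.Characters Cfsg.Agent.Classification.RTwo.General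
  Cfsg.Agent.Classification.BGBlockB0
open scoped ComplexConjugate

universe u v

section Conj

/-- 2-elements congruent modulo a normal subgroup of odd order are conjugate by an element of that
subgroup. -/
theorem exists_conj_ker {C D : Type*} [Group C] [Finite C] [Group D] (π : C →* D)
    (hodd : Odd (Nat.card π.ker)) (a b : C) (m : ℕ) (ha : a ^ 2 ^ m = 1) (hb : b ^ 2 ^ m = 1)
    (hab : π a = π b) : ∃ c : C, π c = 1 ∧ c * a * c⁻¹ = b := by
  set L : Subgroup C := (Subgroup.zpowers (π b)).comap π with hL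
  have haL : a ∈ L := by
    rw [hL, Subgroup.mem_comap, hab]
    exact Subgroup.mem_zpowers _
  have hbL : b ∈ L := by
    rw [hL, Subgroup.mem_comap]
    exact Subgroup.mem_zpowers _
  have hodd' : Odd (Nat.card (π.comp L.subtype).ker) := by
    refine Odd.of_dvd_nat hodd ?_
    refine Subgroup.card_dvd_of_injective
      ((L.subtype.comp (π.comp L.subtype).ker.subtype).codRestrict π.ker (fun x => x.2)) ?_
    intro x y hxy
    have h1 : (((x : L) : C)) = (((y : L) : C)) := by
      have h2 := congrArg (fun w : π.ker => (w : C)) hxy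
      exact h2
    exact Subtype.ext (Subtype.ext h1)
  have h1 := BGValues.isConj_of_ker_odd (π.comp L.subtype) hodd' (⟨a, haL⟩ : L) (⟨b, hbL⟩ : L) m
    (Subtype.ext ha) (Subtype.ext hb) hab
  obtain ⟨g, hg⟩ := isConj_iff.1 h1
  have hg' : (g : C) * a * (g : C)⁻¹ = b := congrArg Subtype.val hg
  obtain ⟨j, hj⟩ := Subgroup.mem_zpowers_iff.1 (show π (g : C) ∈ Subgroup.zpowers (π b) from g.2)
  refine ⟨b ^ (-j) * g, ?_, ?_⟩
  · rw [map_mul, map_zpow, ← hj, ← zpow_add, neg_add_cancel, zpow_zero]
  · calc b ^ (-j) * (g : C) * a * (b ^ (-j) * (g : C))⁻¹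
        = b ^ (-j) * ((g : C) * a * (g : C)⁻¹) * (b ^ (-j))⁻¹ := by group
      _ = b := by rw [hg']; group

end Conj

section Parts

/-- The decomposition of the elements of a finite group into 2-part and odd part by one common
exponent. -/
theorem exists_exponent (C : Type*) [Group C] [Finite C] :
    ∃ (m r k : ℕ), Odd r ∧ Odd k ∧ (∀ x : C, (x ^ k) ^ 2 ^ m = 1) ∧
      (∀ x : C, ((x ^ k)⁻¹ * x) ^ r = 1) := by
  obtain ⟨m, r, hr, hmr⟩ := Nat.exists_eq_two_pow_mul_odd (n := Nat.card C) Nat.card_pos.ne'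
  have hcop : Nat.Coprime (2 ^ (m + 1)) r := Nat.Coprime.pow_left _ (Nat.coprime_two_left.2 hr)
  obtain ⟨k, hk1, hk2⟩ := Nat.chineseRemainder hcop 1 0
  obtain ⟨c, hc⟩ := (Nat.modEq_zero_iff_dvd).1 hk2
  have hdvd : ((2 ^ (m + 1) : ℕ) : ℤ) ∣ 1 - k := by
    have := hk1.dvd
    push_cast at this ⊢
    exact this
  refine ⟨m, r, k, hr, ?_, fun x => ?_, fun x => ?_⟩
  · obtain ⟨d, hd⟩ := hdvd
    push_cast at hd
    rw [pow_succ] at hd
    have h2 : (k : ℤ) = 2 * (-(2 ^ m * d)) + 1 := by linear_combination -hd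
    have h3 : Odd (k : ℤ) := ⟨_, h2⟩
    exact_mod_cast h3
  · rw [← pow_mul, hc, show r * c * 2 ^ m = Nat.card C * c by rw [hmr]; ring, pow_mul,
      pow_card_eq_one', one_pow]
  · obtain ⟨d, hd⟩ := hdvd
    push_cast at hd
    have h1 : (x ^ k)⁻¹ * x = x ^ ((1 : ℤ) - k) := by
      rw [zpow_sub, zpow_one, zpow_natCast]
      exact ((Commute.refl x).pow_right k).inv_right.symm.eq
    rw [h1, ← zpow_natCast, ← zpow_mul, hd, pow_succ,
      show (2 ^ m * 2 * d * (r : ℤ) : ℤ) = ((Nat.card C : ℕ) : ℤ) * (2 * d) by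
        rw [hmr]; push_cast; ring, zpow_mul, zpow_natCast, pow_card_eq_one', one_zpow]

end Parts

section Values

variable {G : Type u} [Group G] [Finite G] {Q : Type v} [Group Q] {t : G} {z : Q}
  {π : (Subgroup.centralizer ({t} : Set G)) →* Q}

/-- A character of the principal 2-block at `a * u * n`, with `a` a 2-element having `t` as a
power, `u` of odd order commuting with `a` and `n` in the kernel commuting with `a`. -/
theorem irr_mul_ker (h : Hyp t z π) (M : Ideal AlgInt) (hM : IsPModular 2 M)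
    (χ : IrrCharacter G) (hχ : χ ∈ principalBlock M G)
    (a u n : Subgroup.centralizer ({t} : Set G)) (hta : t ∈ Subgroup.zpowers (a : G)) {m : ℕ}
    (ham : a ^ 2 ^ m = 1) (hau : Commute a u) (hu : Odd (orderOf u)) (hn : π n = 1)
    (han : Commute a n) :
    (χ : G → ℂ) ((a : G) * (u : G) * (n : G)) = (χ : G → ℂ) ((a : G) * (u : G)) := by
  have : Fact (Nat.Prime 2) := ⟨Nat.prime_two⟩
  have hcent : ∀ c : G, Commute (a : G) c → c ∈ Subgroup.centralizer ({t} : Set G) := by
    intro c hc
    rw [Subgroup.mem_centralizer_singleton_iff]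
    obtain ⟨k, hk⟩ := Subgroup.mem_zpowers_iff.1 hta
    rw [← hk]
    exact (hc.symm.zpow_right k).eq
  set N0 : Subgroup (Subgroup.centralizer ({t} : Set G)) :=
    π.ker ⊓ Subgroup.centralizer ({a} : Set (Subgroup.centralizer ({t} : Set G))) with hN0
  set N : Subgroup G := N0.map (Subgroup.centralizer ({t} : Set G)).subtype with hN
  have hmem : ∀ x : G, x ∈ N ↔ ∃ y : Subgroup.centralizer ({t} : Set G),
      π y = 1 ∧ Commute a y ∧ (y : G) = x := by
    intro x
    rw [hN, Subgroup.mem_map]
    constructor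
    · rintro ⟨y, hy, rfl⟩
      rw [hN0, Subgroup.mem_inf, MonoidHom.mem_ker, Subgroup.mem_centralizer_singleton_iff] at hy
      exact ⟨y, hy.1, Commute.symm hy.2, rfl⟩
    · rintro ⟨y, h1, h2, rfl⟩
      refine ⟨y, ?_, rfl⟩
      rw [hN0, Subgroup.mem_inf, MonoidHom.mem_ker, Subgroup.mem_centralizer_singleton_iff]
      exact ⟨h1, h2.symm⟩
  refine Cfsg.Agent.Blocks.PrincipalConstGen.irr_const 2 M hM (u := (a : G)) ?_ N ?_ ?_ ?_ ?_ ?_ ?_ χ hχ
  · have h1 : (a : G) ^ 2 ^ m = 1 := congrArg Subtype.val ham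
    obtain ⟨l, -, hl⟩ := (Nat.dvd_prime_pow Nat.prime_two).1 (orderOf_dvd_of_pow_eq_one h1)
    exact ⟨l, hl⟩
  · intro x hx
    obtain ⟨y, -, hy, rfl⟩ := (hmem x).1 hx
    exact congrArg Subtype.val hy.eq
  · intro c hc x hx
    obtain ⟨y, hy1, hy2, rfl⟩ := (hmem x).1 hx
    have hcC := hcent c hc
    refine (hmem _).2 ⟨⟨c, hcC⟩ * y * (⟨c, hcC⟩)⁻¹, ?_, ?_, rfl⟩
    · rw [map_mul, map_mul, map_inv, hy1, mul_one, mul_inv_cancel]
    · have hc' : Commute a (⟨c, hcC⟩ : Subgroup.centralizer ({t} : Set G)) := Subtype.ext hc.eq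
      exact (hc'.mul_right hy2).mul_right hc'.inv_right
  · rw [Nat.coprime_two_right]
    refine Odd.of_dvd_nat h.odd_ker ?_
    have h1 : Nat.card N = Nat.card N0 :=
      Nat.card_congr (N0.equivMapOfInjective _ (Subgroup.subtype_injective _)).toEquiv.symm
    rw [h1]
    exact Subgroup.card_dvd_of_le inf_le_left
  · exact congrArg Subtype.val hau.eq
  · rw [Subgroup.orderOf_coe]
    exact hu.not_two_dvd_nat
  · exact (hmem _).2 ⟨n, hn, han, rfl⟩

/-- A character of the principal 2-block is constant on the fibres of `π` over the elements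
having `z` as a power. -/
theorem irr_eq_of_map (h : Hyp t z π) (M : Ideal AlgInt) (hM : IsPModular 2 M)
    (χ : IrrCharacter G) (hχ : χ ∈ principalBlock M G)
    (x y : Subgroup.centralizer ({t} : Set G)) (hx : z ∈ Subgroup.zpowers (π x))
    (hxy : π x = π y) : (χ : G → ℂ) x = (χ : G → ℂ) y := by
  obtain ⟨m, r, k, hr, hk, h2, hodd⟩ := exists_exponent (Subgroup.centralizer ({t} : Set G))
  have hab : π (y ^ k) = π (x ^ k) := by rw [map_pow, map_pow, hxy]
  obtain ⟨c, hc, hcab⟩ := exists_conj_ker π h.odd_ker (y ^ k) (x ^ k) m (h2 y) (h2 x) hab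
  -- `t` is a power of the 2-part of `x`
  have hta : t ∈ Subgroup.zpowers ((x ^ k : Subgroup.centralizer ({t} : Set G)) : G) := by
    obtain ⟨s, hs⟩ := Subgroup.mem_zpowers_iff.1 (mem_zpowers_of_map h hx)
    refine Subgroup.mem_zpowers_iff.2 ⟨s, ?_⟩
    have h1 : t ^ k = t := by
      obtain ⟨l, hl⟩ := hk
      rw [hl, pow_succ, pow_mul, sq, t_mul_t h, one_pow, one_mul]
    rw [Subgroup.coe_pow, ← zpow_natCast, ← zpow_mul, mul_comm, zpow_mul, hs, zpow_natCast, h1]
  set a := x ^ k with ha
  set u := a⁻¹ * x with hu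
  have hau : Commute a u := ((Commute.refl a).inv_right).mul_right ((Commute.refl x).pow_left k)
  set v := (y ^ k)⁻¹ * y with hv
  set v' := c * v * c⁻¹ with hv'
  have hbv : Commute (y ^ k) v :=
    ((Commute.refl (y ^ k)).inv_right).mul_right ((Commute.refl y).pow_left k)
  have hav' : Commute a v' := by
    have h1 : Commute (c * y ^ k * c⁻¹) (c * v * c⁻¹) := by
      show c * y ^ k * c⁻¹ * (c * v * c⁻¹) = c * v * c⁻¹ * (c * y ^ k * c⁻¹)
      have h2 : y ^ k * v = v * y ^ k := hbv.eq
      calc c * y ^ k * c⁻¹ * (c * v * c⁻¹) = c * (y ^ k * v) * c⁻¹ := by group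
        _ = c * (v * y ^ k) * c⁻¹ := by rw [h2]
        _ = _ := by group
    rwa [hcab] at h1
  have huo : Odd (orderOf u) := Odd.of_dvd_nat hr (orderOf_dvd_of_pow_eq_one (hodd x))
  -- the quotient of the odd parts
  set n := u⁻¹ * v' with hn
  have hπn : π n = 1 := by
    rw [hn, hv', hu, hv]
    simp only [map_mul, map_inv, hc, hab, ← hxy, inv_one, mul_one, one_mul, mul_inv_rev, inv_inv]
    rw [ha]
    simp only [map_pow]
    group
  have han : Commute a n := hau.inv_right.mul_right hav'
  have h3 := irr_mul_ker h M hM χ hχ a u n hta (h2 x) hau huo hπn han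
  have h4 : (χ : G → ℂ) y = (χ : G → ℂ) (c * y * c⁻¹ : Subgroup.centralizer ({t} : Set G)) :=
    (Core.isIrr_isClassFunction χ.2 (y : G) (c : G)).symm
  have h5 : (c * y * c⁻¹ : Subgroup.centralizer ({t} : Set G)) = a * u * n := by
    have h6 : c * y * c⁻¹ = (c * y ^ k * c⁻¹) * v' := by rw [hv', hv]; group
    rw [h6, hcab, hn]
    group
  have h7 : x = a * u := by rw [hu]; group
  rw [h4, h5, Subgroup.coe_mul, Subgroup.coe_mul, h3, ← Subgroup.coe_mul, ← h7]

theorem inB_eq_of_map (h : Hyp t z π) (M : Ideal AlgInt) (hM : IsPModular 2 M)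
    {X : G → ℂ} (hX : InB (principalBlock M G) X)
    (x y : Subgroup.centralizer ({t} : Set G)) (hx : z ∈ Subgroup.zpowers (π x))
    (hxy : π x = π y) : X x = X y := by
  obtain ⟨χ, hχ, rfl | rfl⟩ := hX
  · exact irr_eq_of_map h M hM χ hχ x y hx hxy
  · rw [Pi.neg_apply, Pi.neg_apply, irr_eq_of_map h M hM χ hχ x y hx hxy]

/-- On the set of elements having `t` as a power a character of the principal block comes from a
class function of `Q`. -/
theorem exists_values (h : Hyp t z π) (M : Ideal AlgInt) (hM : IsPModular 2 M)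
    {X : G → ℂ} (hX : InB (principalBlock M G) X) :
    ∃ F : Q → ℂ, IsClassFunction Q F ∧ (∀ q, z ∉ Subgroup.zpowers q → F q = 0) ∧
      ∀ x : Subgroup.centralizer ({t} : Set G), z ∈ Subgroup.zpowers (π x) → X x = F (π x) := by
  classical
  choose s hs using h.surj
  have hDD : ∀ q g : Q, z ∈ Subgroup.zpowers q → z ∈ Subgroup.zpowers (g * q * g⁻¹) := by
    intro q g h1
    obtain ⟨k, hk⟩ := Subgroup.mem_zpowers_iff.1 h1
    refine Subgroup.mem_zpowers_iff.2 ⟨k, ?_⟩
    rw [conj_zpow, hk, ← (z_comm h g).eq, mul_inv_cancel_right]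
  refine ⟨fun q => if z ∈ Subgroup.zpowers q then X (s q) else 0, ?_, ?_, ?_⟩
  · intro q g
    have hiff : z ∈ Subgroup.zpowers (g * q * g⁻¹) ↔ z ∈ Subgroup.zpowers q := by
      refine ⟨fun h1 => ?_, hDD q g⟩
      have h2 := hDD _ g⁻¹ h1
      have h3 : g⁻¹ * (g * q * g⁻¹) * g⁻¹⁻¹ = q := by group
      rwa [h3] at h2
    by_cases hq : z ∈ Subgroup.zpowers q
    · have hq' : z ∈ Subgroup.zpowers (g * q * g⁻¹) := hDD q g hq
      simp only [if_pos hq, if_pos hq']
      have h1 : X (s (g * q * g⁻¹)) =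
          X (s g * s q * (s g)⁻¹ : Subgroup.centralizer ({t} : Set G)) := by
        refine inB_eq_of_map h M hM hX _ _ (by rw [hs]; exact hq') ?_
        rw [hs, map_mul, map_mul, map_inv, hs, hs]
      rw [h1]
      exact isClassFunction_signed hX.signedIrr (s q : G) (s g : G)
    · have hq' : z ∉ Subgroup.zpowers (g * q * g⁻¹) := fun h1 => hq (hiff.1 h1)
      simp only [if_neg hq, if_neg hq']
  · intro q hq
    exact if_neg hq
  · intro x hx
    simp only [if_pos hx]
    exact inB_eq_of_map h M hM hX _ _ hx (hs _).symm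

end Values

section FixedMoved

variable {C : Type u} [Group C] [Finite C]

open scoped Classical in
/-- A character splits into the part fixed by the normal subgroup `K` and the part moved
by `K`. -/
theorem exists_fixed_moved (K : Subgroup C) [K.Normal] [Fintype K] {χ : C → ℂ}
    (hχ : IsCharacter C χ) :
    ∃ χ₀ χ₁ : C → ℂ, IsCharacter C χ₀ ∧ IsCharacter C χ₁ ∧ χ = χ₀ + χ₁ ∧
      (∀ x, χ₀ x = (Nat.card K : ℂ)⁻¹ * ∑ k : K, χ (x * k)) ∧
      (∀ x, ∀ k ∈ K, χ₀ (x * k) = χ₀ x) ∧ (∀ x, ∑ k : K, χ₁ (x * k) = 0) := by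
  obtain ⟨n, ρ, rfl⟩ := hχ
  let U : Subrepresentation ρ :=
    { toSubmodule :=
        { carrier := {v | ∀ k ∈ K, ρ k v = v}
          add_mem' := by
            intro a b ha hb k hk
            rw [map_add, ha k hk, hb k hk]
          zero_mem' := by
            intro k _
            exact map_zero _
          smul_mem' := by
            intro c v hv k hk
            rw [map_smul, hv k hk] }
      apply_mem_toSubmodule := by
        intro g v hv k hk
        have h1 : g⁻¹ * k * g⁻¹⁻¹ ∈ K := ‹K.Normal›.conj_mem k hk g⁻¹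
        have h2 : ρ k (ρ g v) = ρ g (ρ (g⁻¹ * k * g⁻¹⁻¹) v) := by
          rw [← Module.End.mul_apply, ← Module.End.mul_apply, ← map_mul, ← map_mul]
          congr 2
          group
        show ρ k (ρ g v) = ρ g v
        rw [h2, hv _ h1] }
  have hU : ∀ v, v ∈ U.toSubmodule ↔ ∀ k ∈ K, ρ k v = v := fun v => Iff.rfl
  obtain ⟨U', hU'⟩ := Core.exists_isCompl_sub U
  have hcard : (Nat.card K : ℂ) ≠ 0 := Core.card_ne_zero_complex
  have hfix : ∀ x, ∀ k ∈ K, U.toRepresentation.character (x * k) =
      U.toRepresentation.character x := by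
    intro x k hk
    have h1 : U.toRepresentation k = 1 := by
      exact LinearMap.ext fun v => Subtype.ext ((hU v).1 v.2 k hk)
    show LinearMap.trace ℂ _ (U.toRepresentation (x * k)) = LinearMap.trace ℂ _ (U.toRepresentation x)
    rw [map_mul, h1, mul_one]
  have hmov : ∀ x, ∑ k : K, U'.toRepresentation.character (x * k) = 0 := by
    intro x
    have h0 : ∑ k : K, U'.toRepresentation (k : C) = 0 := by
      ext v
      have hmem : (∑ k : K, U'.toRepresentation (k : C)) v ∈ (⊤ : Submodule ℂ U'.toSubmodule) :=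
        Submodule.mem_top
      set w : U'.toSubmodule := (∑ k : K, U'.toRepresentation (k : C)) v with hw
      have hwU : (w : Fin n → ℂ) ∈ U.toSubmodule := by
        rw [hU]
        intro k hk
        have h2 : U'.toRepresentation k w = w := by
          rw [hw, ← Module.End.mul_apply, Finset.mul_sum]
          congr 1
          refine Fintype.sum_equiv (Equiv.mulLeft (⟨k, hk⟩ : K)) _ _ fun l => ?_
          rw [← map_mul]
          rfl
        exact congrArg Subtype.val h2
      have h3 : (w : Fin n → ℂ) ∈ U.toSubmodule ⊓ U'.toSubmodule := ⟨hwU, w.2⟩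
      rw [hU'.inf_eq_bot, Submodule.mem_bot] at h3
      rw [h3]
      simp
    have h1 : ∑ k : K, U'.toRepresentation.character (x * k) =
        LinearMap.trace ℂ _ (U'.toRepresentation x * ∑ k : K, U'.toRepresentation (k : C)) := by
      rw [Finset.mul_sum, map_sum]
      refine Finset.sum_congr rfl fun k _ => ?_
      rw [← map_mul]
      rfl
    rw [h1, h0, mul_zero, map_zero]
  have hadd := Core.character_eq_add_of_isCompl U U' hU'
  refine ⟨U.toRepresentation.character, U'.toRepresentation.character,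
    Core.isCharacter_of_rep _, Core.isCharacter_of_rep _, hadd, ?_, hfix, hmov⟩
  intro x
  have h1 : ∑ k : K, ρ.character (x * k) = (Nat.card K : ℂ) * U.toRepresentation.character x := by
    rw [hadd]
    simp only [Pi.add_apply, Finset.sum_add_distrib, hmov, add_zero]
    rw [Finset.sum_congr rfl (fun (k : K) _ => hfix x (k : C) k.2), Finset.sum_const,
      Finset.card_univ, nsmul_eq_mul, ← Nat.card_eq_fintype_card]
  show U.toRepresentation.character x = _
  rw [h1, ← mul_assoc, inv_mul_cancel₀ hcard, one_mul]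

end FixedMoved

section Moved

variable {G : Type u} [Group G] [Finite G] {Q : Type v} [Group Q] {t : G} {z : Q}
  {π : (Subgroup.centralizer ({t} : Set G)) →* Q}

/-- The part moved by the core of the restriction to `C(t)` of a character of the principal
2-block vanishes at the elements having `t` as a power. -/
theorem exists_moved (h : Hyp t z π) (M : Ideal AlgInt) (hM : IsPModular 2 M)
    (χ : IrrCharacter G) (hχ : χ ∈ principalBlock M G) :
    ∃ χ₀ χ₁ : Subgroup.centralizer ({t} : Set G) → ℂ, IsCharacter _ χ₀ ∧ IsCharacter _ χ₁ ∧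
      (∀ x : Subgroup.centralizer ({t} : Set G), (χ : G → ℂ) x = χ₀ x + χ₁ x) ∧
      (∀ x y, π x = π y → χ₀ x = χ₀ y) ∧
      (∀ x, z ∈ Subgroup.zpowers (π x) → χ₁ x = 0) ∧
      (∀ x, χ₀ x = (Nat.card π.ker : ℂ)⁻¹ * ∑ᶠ k : π.ker, (χ : G → ℂ) (x * (k : Subgroup.centralizer ({t} : Set G)))) := by
  classical
  let _ : Fintype π.ker := Fintype.ofFinite _
  obtain ⟨χ₀, χ₁, h0, h1, hadd, havg, hfix, hmov⟩ :=
    exists_fixed_moved π.ker (Core.isCharacter_comp
      (Subgroup.centralizer ({t} : Set G)).subtype (Core.isIrr_isCharacter χ.2))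
  refine ⟨χ₀, χ₁, h0, h1, fun x => congrFun hadd x, ?_, ?_, ?_⟩
  · intro x y hxy
    have h2 : y = x * (x⁻¹ * y) := by group
    rw [h2, hfix x (x⁻¹ * y)]
    rw [MonoidHom.mem_ker, map_mul, map_inv, hxy, inv_mul_cancel]
  · intro x hx
    have h2 : χ₀ x = (χ : G → ℂ) x := by
      rw [havg x]
      have h3 : ∀ k : π.ker, ((χ : G → ℂ) ∘ (Subgroup.centralizer ({t} : Set G)).subtype) (x * k) =
          (χ : G → ℂ) x := by
        intro k
        refine (irr_eq_of_map h M hM χ hχ x (x * k) hx ?_).symm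
        rw [map_mul, k.2, mul_one]
      rw [Finset.sum_congr rfl (fun k _ => h3 k), Finset.sum_const, Finset.card_univ, nsmul_eq_mul,
        ← Nat.card_eq_fintype_card, ← mul_assoc, inv_mul_cancel₀ Core.card_ne_zero_complex, one_mul]
    have h4 : (χ : G → ℂ) x = χ₀ x + χ₁ x := congrFun hadd x
    rw [← h2] at h4
    linear_combination -h4
  · intro x
    rw [havg x, finsum_eq_sum_of_fintype]
    rfl

end Moved

end Cfsg.Agent.Classification.QDW.CoreConst
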