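import Mathlib

/-!
# Subgroups of sharply 3-transitive groups containing a torus

`G` acts on `Ω`, `|Ω| = q + 1`, sharply 3-transitively modulo the kernel `Z`, with abelian two-point
stabilisers, `q > 5`.

* `split`: a proper subgroup containing a two-point stabiliser has index at least `q + 1`, with
  equality only for the two point stabilisers;
* `nonsplit`: a proper transitive subgroup containing `Z` has index at least `q + 2`, or contains the
  normal regular subgroup `X` of a point stabiliser.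
-/

set_option autoImplicit false
set_option linter.unusedSectionVars false
set_option linter.unusedVariables false

namespace Cfsg.Agent.Classification.QDW.LineIndex

open MulAction

/-- `G` acts on `Ω`, `|Ω| = q + 1`, sharply 3-transitively modulo the kernel `Z`, with abelian
two-point stabilisers. -/
structure Sharp (G : Type*) [Group G] (Ω : Type*) [MulAction G Ω] (q : ℕ) (Z : Subgroup G) :
    Prop where
  card : Nat.card Ω = q + 1
  ker : ∀ z ∈ Z, ∀ x : Ω, z • x = x
  two : ∀ a b c d : Ω, a ≠ b → c ≠ d → ∃ g : G, g • a = c ∧ g • b = d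
  three : ∀ a b x y : Ω, a ≠ b → x ≠ a → x ≠ b → y ≠ a → y ≠ b →
    ∃ g : G, g • a = a ∧ g • b = b ∧ g • x = y
  sharp : ∀ a b x : Ω, a ≠ b → x ≠ a → x ≠ b → ∀ g : G, g • a = a → g • b = b → g • x = x →
    g ∈ Z
  comm : ∀ a b : Ω, a ≠ b → ∀ g h : G, g • a = a → g • b = b → h • a = a → h • b = b →
    g * h = h * g

section Orbit

variable {G : Type*} [Group G] {Ω : Type*} [MulAction G Ω] [Finite G] [Finite Ω]

/-- Orbit-stabiliser for a subgroup. -/
theorem card_mul (K : Subgroup G) (x : Ω) :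
    (orbit K x).ncard * Nat.card (K ⊓ stabilizer G x : Subgroup G) = Nat.card K := by
  have h1 : Nat.card (stabilizer K x) = Nat.card (K ⊓ stabilizer G x : Subgroup G) := by
    refine Nat.card_congr
      { toFun := fun g => ⟨g.1, g.1.2, g.2⟩
        invFun := fun g => ⟨⟨g.1, g.2.1⟩, g.2.2⟩
        left_inv := fun g => rfl
        right_inv := fun g => rfl }
  rw [← h1, ← MulAction.index_stabilizer, mul_comm, Subgroup.card_mul_index]

theorem mem_orbit' {K : Subgroup G} {x y : Ω} : y ∈ orbit K x ↔ ∃ g ∈ K, g • x = y := by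
  constructor
  · rintro ⟨g, rfl⟩
    exact ⟨g, g.2, rfl⟩
  · rintro ⟨g, hg, rfl⟩
    exact ⟨⟨g, hg⟩, rfl⟩

theorem ncard_orbit {K : Subgroup G} {x : Ω} (S : Set Ω) (h1 : ∀ g ∈ K, g • x ∈ S)
    (h2 : ∀ y ∈ S, ∃ g ∈ K, g • x = y) : (orbit K x).ncard = S.ncard := by
  congr 1
  ext y
  rw [mem_orbit']
  constructor
  · rintro ⟨g, hg, rfl⟩
    exact h1 g hg
  · exact h2 y

end Orbit

namespace Sharp

variable {G : Type*} [Group G] {Ω : Type*} [MulAction G Ω] [Finite G] {q : ℕ} {Z : Subgroup G}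

theorem finite (h : Sharp G Ω q Z) : Finite Ω := by
  apply Nat.finite_of_card_ne_zero
  rw [h.card]
  omega

theorem le_stab (h : Sharp G Ω q Z) (a : Ω) : Z ≤ stabilizer G a := fun z hz => h.ker z hz a

theorem ncard_compl_one (h : Sharp G Ω q Z) (a : Ω) : ({a}ᶜ : Set Ω).ncard = q := by
  have := h.finite
  have h1 := Set.ncard_add_ncard_compl ({a} : Set Ω)
  rw [Set.ncard_singleton, h.card] at h1
  omega

theorem ncard_compl_two (h : Sharp G Ω q Z) {a b : Ω} (hab : a ≠ b) :
    ({a, b}ᶜ : Set Ω).ncard = q - 1 := by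
  have := h.finite
  have h1 := Set.ncard_add_ncard_compl ({a, b} : Set Ω)
  rw [Set.ncard_pair hab, h.card] at h1
  omega

/-- The two-point stabiliser. -/
def D (G : Type*) [Group G] {Ω : Type*} [MulAction G Ω] (a b : Ω) : Subgroup G :=
  stabilizer G a ⊓ stabilizer G b

theorem mem_D {a b : Ω} {g : G} : g ∈ D G a b ↔ g • a = a ∧ g • b = b := Iff.rfl

/-- The order of the two-point stabiliser. -/
theorem card_D (h : Sharp G Ω q Z) {a b : Ω} (hab : a ≠ b) (hq : 2 ≤ q) :
    Nat.card (D G a b) = (q - 1) * Nat.card Z := by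
  have := h.finite
  have h1 := h.ncard_compl_two hab
  obtain ⟨x, hx⟩ : ({a, b}ᶜ : Set Ω).Nonempty := by
    rw [← Set.ncard_pos, h1]; omega
  simp only [Set.mem_compl_iff, Set.mem_insert_iff, Set.mem_singleton_iff, not_or] at hx
  rw [← card_mul (D G a b) x, ncard_orbit ({a, b}ᶜ : Set Ω), h1]
  · congr 1
    have h2 : D G a b ⊓ stabilizer G x = Z := by
      ext g
      constructor
      · rintro ⟨⟨h3, h4⟩, h5⟩
        exact h.sharp a b x hab hx.1 hx.2 g h3 h4 h5
      · intro hg
        exact ⟨⟨h.ker g hg a, h.ker g hg b⟩, h.ker g hg x⟩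
    rw [h2]
  · intro g hg
    simp only [Set.mem_compl_iff, Set.mem_insert_iff, Set.mem_singleton_iff, not_or]
    constructor
    · intro h3
      apply hx.1
      have : g • x = g • a := by rw [h3]; exact (mem_D.1 hg).1.symm
      exact MulAction.injective g this
    · intro h3
      apply hx.2
      have : g • x = g • b := by rw [h3]; exact (mem_D.1 hg).2.symm
      exact MulAction.injective g this
  · intro y hy
    simp only [Set.mem_compl_iff, Set.mem_insert_iff, Set.mem_singleton_iff, not_or] at hy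
    obtain ⟨g, h3, h4, h5⟩ := h.three a b x y hab hx.1 hx.2 hy.1 hy.2
    exact ⟨g, ⟨h3, h4⟩, h5⟩

/-- A subgroup of a point stabiliser transitive on the other points. -/
theorem card_of_trans (h : Sharp G Ω q Z) {a b : Ω} (hab : a ≠ b) {K : Subgroup G}
    (hK : K ≤ stabilizer G a) (ht : ∀ y : Ω, y ≠ a → ∃ g ∈ K, g • b = y) :
    Nat.card K = q * Nat.card (K ⊓ stabilizer G b : Subgroup G) := by
  have := h.finite
  rw [← card_mul K b, ncard_orbit ({a}ᶜ : Set Ω), h.ncard_compl_one]
  · intro g hg h3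
    apply hab
    have h4 : g • a = a := hK hg
    have h5 : g • b = a := h3
    exact (MulAction.injective g (h5.trans h4.symm)).symm
  · intro y hy
    exact ht y hy

theorem card_of_trans' (h : Sharp G Ω q Z) {a : Ω} {K : Subgroup G}
    (ht : ∀ y : Ω, ∃ g ∈ K, g • a = y) :
    Nat.card K = (q + 1) * Nat.card (K ⊓ stabilizer G a : Subgroup G) := by
  have := h.finite
  rw [← card_mul K a, ncard_orbit (Set.univ : Set Ω), Set.ncard_univ, h.card]
  · intro g _
    exact Set.mem_univ _
  · intro y _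
    exact ht y

theorem card_stab (h : Sharp G Ω q Z) {a b : Ω} (hab : a ≠ b) (hq : 2 ≤ q) :
    Nat.card (stabilizer G a) = q * ((q - 1) * Nat.card Z) := by
  rw [h.card_of_trans hab le_rfl, ← h.card_D hab hq]
  · rfl
  · intro y hy
    obtain ⟨g, h1, h2⟩ := h.two a b a y hab hy.symm
    exact ⟨g, h1, h2⟩

theorem card_G (h : Sharp G Ω q Z) {a b : Ω} (hab : a ≠ b) (hq : 2 ≤ q) :
    Nat.card G = (q + 1) * (q * ((q - 1) * Nat.card Z)) := by
  have h1 := h.card_of_trans' (a := a) (K := ⊤) (fun y => by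
    by_cases hy : y = a
    · exact ⟨1, Subgroup.mem_top _, by rw [one_smul, hy]⟩
    · obtain ⟨g, h1, h2⟩ := h.two a b y a hab hy
      exact ⟨g, Subgroup.mem_top _, h1⟩)
  rw [Subgroup.card_top, top_inf_eq, h.card_stab hab hq] at h1
  exact h1

/-- An element fixing three points is in the kernel. -/
theorem mem_of_fix (h : Sharp G Ω q Z) {g : G} (hg : g ∉ Z) : (fixedBy Ω g).ncard ≤ 2 := by
  have := h.finite
  by_contra hcon
  push Not at hcon
  obtain ⟨a, b, c, ha, hb, hc, hab, hac, hbc⟩ := (Set.two_lt_ncard_iff (Set.toFinite _)).1 hcon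
  exact hg (h.sharp a b c hab hac.symm hbc.symm g ha hb hc)

section Split

variable {a b : Ω} {H : Subgroup G}

/-- `H` fixes a point of the pair. -/
theorem index_of_le_stab (h : Sharp G Ω q Z) (hab : a ≠ b) (hq : 2 ≤ q)
    (hH : H ≤ stabilizer G a) : q + 1 ≤ H.index ∧ (H.index = q + 1 → H = stabilizer G a) := by
  have h1 : (stabilizer G a).index = q + 1 := by
    have h2 := (stabilizer G a).card_mul_index
    rw [h.card_stab hab hq, h.card_G hab hq, mul_comm] at h2
    have h3 : 0 < q * ((q - 1) * Nat.card Z) := by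
      have : 0 < Nat.card Z := Nat.card_pos
      have : 0 < q - 1 := by omega
      positivity
    exact Nat.eq_of_mul_eq_mul_right h3 h2
  have h2 := Subgroup.relIndex_mul_index hH
  rw [h1] at h2
  have h3 : H.index ≠ 0 := Subgroup.index_ne_zero_of_finite
  have h4 : H.relIndex (stabilizer G a) ≠ 0 := by
    intro h5
    rw [h5, zero_mul] at h2
    exact h3 h2.symm
  have h5 : 0 < H.relIndex (stabilizer G a) := Nat.pos_of_ne_zero h4
  refine ⟨by rw [← h2]; exact Nat.le_mul_of_pos_left _ h5, fun h6 => ?_⟩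
  have h7 : H.relIndex (stabilizer G a) = 1 := by
    rw [h6] at h2
    exact Nat.eq_of_mul_eq_mul_right (by omega : 0 < q + 1) (by rw [h2, one_mul])
  exact le_antisymm hH (Subgroup.relIndex_eq_one.1 h7)

/-- The set of the other points. -/
theorem three' (h : Sharp G Ω q Z) (hab : a ≠ b) {x y : Ω} (hx : x ∈ ({a, b}ᶜ : Set Ω))
    (hy : y ∈ ({a, b}ᶜ : Set Ω)) : ∃ g ∈ D G a b, g • x = y := by
  simp only [Set.mem_compl_iff, Set.mem_insert_iff, Set.mem_singleton_iff, not_or] at hx hy
  obtain ⟨g, h3, h4, h5⟩ := h.three a b x y hab hx.1 hx.2 hy.1 hy.2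
  exact ⟨g, ⟨h3, h4⟩, h5⟩

theorem sharp' (h : Sharp G Ω q Z) (hab : a ≠ b) {x : Ω} (hx : x ∈ ({a, b}ᶜ : Set Ω)) {g : G}
    (hg : g ∈ D G a b) (hgx : g • x = x) : g ∈ Z := by
  simp only [Set.mem_compl_iff, Set.mem_insert_iff, Set.mem_singleton_iff, not_or] at hx
  exact h.sharp a b x hab hx.1 hx.2 g hg.1 hg.2 hgx

theorem exists_D_notMem (h : Sharp G Ω q Z) (hab : a ≠ b) (hq : 3 ≤ q) :
    ∃ d ∈ D G a b, d ∉ Z := by
  by_contra hcon
  push Not at hcon
  have h1 : D G a b ≤ Z := hcon
  have h2 := Subgroup.card_le_of_le h1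
  rw [h.card_D hab (by omega)] at h2
  have h3 : 0 < Nat.card Z := Nat.card_pos
  have h4 : 2 * Nat.card Z ≤ (q - 1) * Nat.card Z := Nat.mul_le_mul_right _ (by omega)
  omega

/-- The case that `H` is transitive and `H_a = D a b`. -/
theorem false_of_mate (h : Sharp G Ω q Z) (hab : a ≠ b) (hq : 5 < q) (hD : D G a b ≤ H)
    (ht : ∀ y : Ω, ∃ g ∈ H, g • a = y) (hE : ∀ g ∈ H, g • a = a → g • b = b) : False := by
  have := h.finite
  -- the mates
  set M : Ω → Ω → Prop := fun y y' => ∃ g ∈ H, g • a = y ∧ g • b = y' with hM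
  have hM2 : ∀ y y' y'', M y y' → M y y'' → y' = y'' := by
    rintro y y' y'' ⟨g, hg, hga, hgb⟩ ⟨k, hk, hka, hkb⟩
    have h1 : (k⁻¹ * g) • a = a := by rw [mul_smul, hga, ← hka, inv_smul_smul]
    have h2 := hE _ (mul_mem (inv_mem hk) hg) h1
    rw [mul_smul, inv_smul_eq_iff, hgb, hkb] at h2
    exact h2
  have hM3 : ∀ g ∈ H, ∀ y y', M y y' → M (g • y) (g • y') := by
    rintro g hg y y' ⟨k, hk, hka, hkb⟩
    exact ⟨g * k, mul_mem hg hk, by rw [mul_smul, hka], by rw [mul_smul, hkb]⟩
  obtain ⟨d, hd, hdZ⟩ := h.exists_D_notMem hab (by omega)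
  obtain ⟨k, hk, hka⟩ := ht b
  have hkb : k • b = a := by
    by_contra h1
    have h2 : k • b ∈ ({a, b}ᶜ : Set Ω) := by
      simp only [Set.mem_compl_iff, Set.mem_insert_iff, Set.mem_singleton_iff, not_or]
      refine ⟨h1, fun h3 => hab ?_⟩
      exact MulAction.injective k (hka.trans h3.symm)
    apply hdZ
    refine h.sharp' hab h2 hd ?_
    have h3 : (k⁻¹ * d * k) • a = a := by
      rw [mul_smul, mul_smul, hka, hd.2, ← hka, inv_smul_smul]
    have h4 := hE _ (mul_mem (mul_mem (inv_mem hk) (hD hd)) hk) h3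
    rw [mul_smul, mul_smul, inv_smul_eq_iff] at h4
    exact h4
  have hM4 : ∀ y y', M y y' → M y' y := by
    rintro y y' ⟨g, hg, hga, hgb⟩
    exact ⟨g * k, mul_mem hg hk, by rw [mul_smul, hka, hgb], by rw [mul_smul, hkb, hga]⟩
  have hMab : M a b := ⟨1, one_mem H, one_smul _ _, one_smul _ _⟩
  have hMba : M b a := hM4 _ _ hMab
  have hMne : ∀ y y', M y y' → y ≠ y' := by
    rintro y y' ⟨g, hg, rfl, rfl⟩ h1
    exact hab (MulAction.injective g h1)
  have hM5 : ∀ y y', y ∈ ({a, b}ᶜ : Set Ω) → M y y' → y' ∈ ({a, b}ᶜ : Set Ω) := by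
    intro y y' hy hyy
    simp only [Set.mem_compl_iff, Set.mem_insert_iff, Set.mem_singleton_iff, not_or] at hy ⊢
    constructor
    · rintro rfl
      exact hy.2 (hM2 _ _ _ (hM4 _ _ hyy) hMab)
    · rintro rfl
      exact hy.1 (hM2 _ _ _ (hM4 _ _ hyy) hMba)
  have hMex : ∀ y, ∃ y', M y y' := by
    intro y
    obtain ⟨g, hg, hga⟩ := ht y
    exact ⟨g • b, g, hg, hga, rfl⟩
  obtain ⟨x, hx⟩ : ({a, b}ᶜ : Set Ω).Nonempty := by
    rw [← Set.ncard_pos, h.ncard_compl_two hab]; omega
  obtain ⟨x', hxx⟩ := hMex x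
  obtain ⟨c, hc, hcx⟩ := h.three' hab hx (hM5 _ _ hx hxx)
  have hcx' : c • x' = x := by
    have h1 := hM3 c (hD hc) _ _ hxx
    rw [hcx] at h1
    exact hM2 _ _ _ h1 (hM4 _ _ hxx)
  have hcy : ∀ y ∈ ({a, b}ᶜ : Set Ω), M y (c • y) := by
    intro y hy
    obtain ⟨e, he, hey⟩ := h.three' hab hx hy
    have h1 := hM3 e (hD he) _ _ hxx
    have h2 : c • y = e • x' := by
      rw [← hey, ← mul_smul, h.comm a b hab c e hc.1 hc.2 he.1 he.2, mul_smul, hcx]
    rw [h2, ← hey]
    exact h1
  have hcM : ∀ w w', M w w' → c • w = w ∨ c • w = w' := by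
    intro w w' hw
    by_cases h1 : w ∈ ({a, b}ᶜ : Set Ω)
    · exact Or.inr (hM2 _ _ _ (hcy w h1) hw)
    · simp only [Set.mem_compl_iff, Set.mem_insert_iff, Set.mem_singleton_iff, not_not] at h1
      rcases h1 with rfl | rfl
      · exact Or.inl hc.1
      · exact Or.inl hc.2
  have hcfix : ∀ w, c • w = w → w = a ∨ w = b := by
    intro w hw
    by_contra h1
    have h2 : w ∈ ({a, b}ᶜ : Set Ω) := h1
    exact hMne _ _ (hcy w h2) hw.symm
  -- the conjugates of `c`
  have key : ∀ y ∈ ({a, b}ᶜ : Set Ω), ∃ e ∈ H, e • y = y ∧ (∀ y', M y y' → e • y' = y') ∧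
      e • a = b ∧ ∀ w w', M w w' → e • w = w ∨ e • w = w' := by
    intro y hy
    obtain ⟨g, hg, hga⟩ := ht y
    have hyy : M y (g • b) := ⟨g, hg, hga, rfl⟩
    have h1 : ∀ w w', M w w' → (g * c * g⁻¹) • w = w ∨ (g * c * g⁻¹) • w = w' := by
      intro w w' hw
      have h2 := hM3 g⁻¹ (inv_mem hg) _ _ hw
      rcases hcM _ _ h2 with h3 | h3
      · left
        rw [mul_smul, mul_smul, h3, smul_inv_smul]
      · right
        rw [mul_smul, mul_smul, h3, smul_inv_smul]
    refine ⟨g * c * g⁻¹, mul_mem (mul_mem hg (hD hc)) (inv_mem hg), ?_, ?_, ?_, h1⟩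
    · rw [mul_smul, mul_smul, ← hga, inv_smul_smul, hc.1]
    · intro y' hy'
      have h2 := hM2 _ _ _ hy' hyy
      rw [h2, mul_smul, mul_smul, inv_smul_smul, hc.2]
    · refine (h1 a b hMab).resolve_left fun h2 => ?_
      rw [mul_smul, mul_smul, ← eq_inv_smul_iff] at h2
      simp only [Set.mem_compl_iff, Set.mem_insert_iff, Set.mem_singleton_iff, not_or] at hy
      rcases hcfix _ h2 with h3 | h3
      · rw [inv_smul_eq_iff, hga] at h3
        exact hy.1 h3.symm
      · rw [inv_smul_eq_iff] at h3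
        rw [← h3] at hyy
        exact hy.2 (hM2 _ _ _ (hM4 _ _ hyy) hMab)
  obtain ⟨e₀, he₀, he₀x, he₀x', he₀a, -⟩ := key x hx
  have hcover : ({a, b}ᶜ : Set Ω) ⊆ fixedBy Ω e₀ ∪ fixedBy Ω (e₀ * c) := by
    intro y hy
    obtain ⟨e, he, hey, -, hea, heM⟩ := key y hy
    have hw : e₀⁻¹ * e ∈ D G a b := by
      have h1 : (e₀⁻¹ * e) • a = a := by rw [mul_smul, hea, ← he₀a, inv_smul_smul]
      exact ⟨h1, hE _ (mul_mem (inv_mem he₀) he) h1⟩
    rcases heM x x' hxx with h1 | h1
    · left
      have h2 : e₀⁻¹ * e ∈ Z := by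
        refine h.sharp' hab hx hw ?_
        rw [mul_smul, h1, inv_smul_eq_iff, he₀x]
      have h3 := h.ker _ h2 y
      rw [mul_smul, hey, inv_smul_eq_iff] at h3
      exact h3.symm
    · right
      have h2 : c⁻¹ * (e₀⁻¹ * e) ∈ Z := by
        refine h.sharp' hab hx (mul_mem (inv_mem hc) hw) ?_
        rw [mul_smul, mul_smul, h1, inv_smul_eq_iff, inv_smul_eq_iff, hcx, he₀x' _ hxx]
      have h3 := h.ker _ h2 y
      rw [mul_smul, mul_smul, hey, inv_smul_eq_iff, inv_smul_eq_iff] at h3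
      change (e₀ * c) • y = y
      rw [mul_smul]
      exact h3.symm
  have hne : ∀ e : G, e • a = b → e ∉ Z := fun e he hZ => hab ((h.ker e hZ a).symm.trans he)
  have h1 := Set.ncard_le_ncard hcover
  have h2 := Set.ncard_union_le (fixedBy Ω e₀) (fixedBy Ω (e₀ * c))
  have h3 := h.mem_of_fix (hne e₀ he₀a)
  have h4 := h.mem_of_fix (hne (e₀ * c) (by rw [mul_smul, hc.1, he₀a]))
  rw [h.ncard_compl_two hab] at h1
  omega

/-- A proper subgroup containing a two-point stabiliser has index at least `q + 1`, with equality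
only for the two point stabilisers. -/
theorem split (h : Sharp G Ω q Z) (hab : a ≠ b) (hq : 5 < q) (hD : D G a b ≤ H) (hH : H ≠ ⊤) :
    q + 1 ≤ H.index ∧ (H.index = q + 1 → H = stabilizer G a ∨ H = stabilizer G b) := by
  have hfin := h.finite
  have hZ : 0 < Nat.card Z := Nat.card_pos
  have hq1 : 0 < q - 1 := by omega
  by_cases hA : H ≤ stabilizer G a
  · have h1 := h.index_of_le_stab hab (by omega) hA
    exact ⟨h1.1, fun h2 => Or.inl (h1.2 h2)⟩
  by_cases hB : H ≤ stabilizer G b
  · have h1 := h.index_of_le_stab hab.symm (by omega) hB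
    exact ⟨h1.1, fun h2 => Or.inr (h1.2 h2)⟩
  obtain ⟨h₁, hh₁, h₁a⟩ := SetLike.not_le_iff_exists.1 hA
  obtain ⟨h₂, hh₂, h₂b⟩ := SetLike.not_le_iff_exists.1 hB
  by_cases hC : ∀ g ∈ H, g • a = a ∨ g • a = b
  · have h₁b : h₁ • a = b := (hC h₁ hh₁).resolve_left h₁a
    have hHa : H ⊓ stabilizer G a = D G a b := by
      apply le_antisymm
      · rintro g ⟨hg, hga⟩
        refine ⟨hga, ?_⟩
        have h3 := hC (g * h₁) (mul_mem hg hh₁)
        rw [mul_smul, h₁b] at h3
        refine h3.resolve_left fun h4 => hab ?_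
        have h5 : g • a = a := hga
        exact (MulAction.injective g (h4.trans h5.symm)).symm
      · intro g hg
        exact ⟨hD hg, hg.1⟩
    have h3 := card_mul H a
    rw [ncard_orbit ({a, b} : Set Ω) (fun g hg => hC g hg) (by
      rintro y (rfl | rfl)
      · exact ⟨1, one_mem H, one_smul _ _⟩
      · exact ⟨h₁, hh₁, h₁b⟩), Set.ncard_pair hab, hHa, h.card_D hab (by omega)] at h3
    have h4 := H.card_mul_index
    rw [h.card_G hab (by omega), ← h3] at h4
    have h5 : 0 < (q - 1) * Nat.card Z := by positivity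
    have h6 : 2 * H.index = (q + 1) * q := by
      apply Nat.eq_of_mul_eq_mul_right h5
      calc 2 * H.index * ((q - 1) * Nat.card Z) = 2 * ((q - 1) * Nat.card Z) * H.index := by ring
        _ = (q + 1) * (q * ((q - 1) * Nat.card Z)) := h4
        _ = (q + 1) * q * ((q - 1) * Nat.card Z) := by ring
    have h7 : q + 1 < H.index := by nlinarith
    exact ⟨h7.le, fun h8 => absurd h8 h7.ne'⟩
  · exfalso
    push Not at hC
    obtain ⟨g₀, hg₀, hg₀a, hg₀b⟩ := hC
    have hg₀' : g₀ • a ∈ ({a, b}ᶜ : Set Ω) := by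
      simp only [Set.mem_compl_iff, Set.mem_insert_iff, Set.mem_singleton_iff, not_or]
      exact ⟨hg₀a, hg₀b⟩
    have hO : ∀ y ∈ ({a, b}ᶜ : Set Ω), ∃ g ∈ H, g • a = y := by
      intro y hy
      obtain ⟨e, he, hey⟩ := h.three' hab hg₀' hy
      exact ⟨e * g₀, mul_mem (hD he) hg₀, by rw [mul_smul, hey]⟩
    have ht : ∀ y : Ω, ∃ g ∈ H, g • a = y := by
      intro y
      by_cases hy : y ∈ ({a, b}ᶜ : Set Ω)
      · exact hO y hy
      · simp only [Set.mem_compl_iff, Set.mem_insert_iff, Set.mem_singleton_iff, not_not] at hy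
        rcases hy with rfl | rfl
        · exact ⟨1, one_mem H, one_smul _ _⟩
        · by_cases h3 : h₂ • y = a
          · exact ⟨h₂⁻¹, inv_mem hh₂, by rw [inv_smul_eq_iff, h3]⟩
          · obtain ⟨g, hg, hga⟩ := hO (h₂ • y) (by
              simp only [Set.mem_compl_iff, Set.mem_insert_iff, Set.mem_singleton_iff, not_or]
              exact ⟨h3, h₂b⟩)
            exact ⟨h₂⁻¹ * g, mul_mem (inv_mem hh₂) hg, by rw [mul_smul, hga, inv_smul_smul]⟩
    by_cases hE : ∀ g ∈ H, g • a = a → g • b = b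
    · exact h.false_of_mate hab hq hD ht hE
    · push Not at hE
      obtain ⟨g₁, hg₁, hg₁a, hg₁b⟩ := hE
      apply hH
      have hg₁' : g₁ • b ∈ ({a, b}ᶜ : Set Ω) := by
        simp only [Set.mem_compl_iff, Set.mem_insert_iff, Set.mem_singleton_iff, not_or]
        exact ⟨fun h3 => hab (MulAction.injective g₁ (hg₁a.trans h3.symm)), hg₁b⟩
      have h3 : Nat.card (H ⊓ stabilizer G a : Subgroup G) = q * ((q - 1) * Nat.card Z) := by
        rw [h.card_of_trans hab inf_le_right]
        · have h4 : H ⊓ stabilizer G a ⊓ stabilizer G b = D G a b := by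
            apply le_antisymm
            · rintro g ⟨⟨-, hga⟩, hgb⟩
              exact ⟨hga, hgb⟩
            · intro g hg
              exact ⟨⟨hD hg, hg.1⟩, hg.2⟩
          rw [h4, h.card_D hab (by omega)]
        · intro y hy
          by_cases hyb : y = b
          · exact ⟨1, one_mem _, by rw [one_smul, hyb]⟩
          · obtain ⟨e, he, hey⟩ := h.three' hab hg₁' (y := y) (by
              simp only [Set.mem_compl_iff, Set.mem_insert_iff, Set.mem_singleton_iff, not_or]
              exact ⟨hy, hyb⟩)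
            refine ⟨e * g₁, mul_mem ⟨hD he, he.1⟩ ⟨hg₁, hg₁a⟩, ?_⟩
            rw [mul_smul, hey]
      have h4 := h.card_of_trans' ht
      rw [h3, ← h.card_G hab (by omega)] at h4
      exact Subgroup.eq_top_of_card_eq H h4

end Split

section NonSplit

variable {a : Ω} {K H : Subgroup G}

/-- A large subgroup of a point stabiliser is transitive on the other points. -/
theorem trans_of_card (h : Sharp G Ω q Z) (hq : 1 ≤ q) (hK : K ≤ stabilizer G a) (hZK : Z ≤ K)
    (hc : q * Nat.card Z ≤ Nat.card K) {x y : Ω} (hx : x ≠ a) (hy : y ≠ a) :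
    ∃ g ∈ K, g • x = y := by
  classical
  by_contra hcon
  push Not at hcon
  have := h.finite
  have := Fintype.ofFinite Ω
  have := Fintype.ofFinite G
  have := Fintype.ofFinite K
  have hfix : ∀ g : K, Fintype (fixedBy Ω g) := fun g => Fintype.ofFinite _
  have hquo : Fintype (Quotient (orbitRel K Ω)) := Fintype.ofFinite _
  have hB := MulAction.sum_card_fixedBy_eq_card_orbits_mul_card_group K Ω
  -- the number of orbits
  have h3 : 2 < Fintype.card (Quotient (orbitRel K Ω)) := by
    rw [Fintype.two_lt_card_iff]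
    refine ⟨Quotient.mk _ a, Quotient.mk _ x, Quotient.mk _ y, ?_, ?_, ?_⟩
    · intro h1
      have h2 := Quotient.exact h1
      rw [← Quotient.eq_iff_equiv] at h2
      have h3 := (orbitRel_apply).1 (Quotient.exact h1)
      obtain ⟨g, hg⟩ := h3
      have h4 : (g : G) • x = a := hg
      have h5 : (g : G) • a = a := hK g.2
      exact hx (MulAction.injective (g : G) (h4.trans h5.symm))
    · intro h1
      have h3 := (orbitRel_apply).1 (Quotient.exact h1)
      obtain ⟨g, hg⟩ := h3
      have h4 : (g : G) • y = a := hg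
      have h5 : (g : G) • a = a := hK g.2
      exact hy (MulAction.injective (g : G) (h4.trans h5.symm))
    · intro h1
      have h3 := (orbitRel_apply).1 (Quotient.exact h1.symm)
      obtain ⟨g, hg⟩ := h3
      exact hcon g g.2 hg
  -- the sum
  have h4 : ∀ g : K, Fintype.card (fixedBy Ω g) ≤ 2 + if (g : G) ∈ Z then q - 1 else 0 := by
    intro g
    have h5 : Fintype.card (fixedBy Ω g) = (fixedBy Ω (g : G)).ncard := by
      rw [← Nat.card_eq_fintype_card]
      rfl
    rw [h5]
    split_ifs with h6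
    · have h7 := Set.ncard_le_card (fixedBy Ω (g : G))
      rw [h.card] at h7
      omega
    · exact h.mem_of_fix h6
  have h5 : ∑ g : K, (2 + if (g : G) ∈ Z then q - 1 else 0) =
      2 * Nat.card K + (q - 1) * Nat.card Z := by
    rw [Finset.sum_add_distrib, Finset.sum_const, Finset.card_univ, smul_eq_mul, mul_comm,
      ← Nat.card_eq_fintype_card, ← Finset.sum_filter, Finset.sum_const, smul_eq_mul,
      mul_comm _ (q - 1)]
    congr 2
    rw [← Fintype.card_subtype, ← Nat.card_eq_fintype_card]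
    refine Nat.card_congr
      { toFun := fun g => ⟨g.1, g.2⟩
        invFun := fun g => ⟨⟨g.1, hZK g.2⟩, g.2⟩
        left_inv := fun g => rfl
        right_inv := fun g => rfl }
  have h6 := Finset.sum_le_sum (s := Finset.univ) fun g (_ : g ∈ Finset.univ) => h4 g
  rw [hB, h5, ← Nat.card_eq_fintype_card (α := K)] at h6
  have h7 : 3 * Nat.card K ≤ Fintype.card (Quotient (orbitRel K Ω)) * Nat.card K :=
    Nat.mul_le_mul_right _ h3
  have h8 : 0 < Nat.card Z := Nat.card_pos
  obtain ⟨n, rfl⟩ : ∃ n, q = n + 1 := ⟨q - 1, by omega⟩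
  simp only [Nat.add_sub_cancel] at h6
  nlinarith

/-- A subgroup of order `(q - 1) |Z|` of a point stabiliser fixes another point. -/
theorem fix_of_card (h : Sharp G Ω q Z) (hq : 2 ≤ q) (hK : K ≤ stabilizer G a) (hZK : Z ≤ K)
    (hc : Nat.card K = (q - 1) * Nat.card Z) : ∃ b, b ≠ a ∧ ∀ g ∈ K, g • b = b := by
  classical
  have := h.finite
  have hZ : 0 < Nat.card Z := Nat.card_pos
  -- a point with stabiliser `Z`
  obtain ⟨x, hx, hxK⟩ : ∃ x, x ≠ a ∧ ∀ g ∈ K, g • x = x → g ∈ Z := by
    by_contra hcon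
    push Not at hcon
    choose! f hf1 hf2 hf3 using hcon
    let F : ({a}ᶜ : Set Ω) × Z → K := fun p =>
      ⟨f p.1 * p.2, mul_mem (hf1 _ p.1.2) (hZK p.2.2)⟩
    have hF : Function.Injective F := by
      rintro ⟨⟨x, hx⟩, z⟩ ⟨⟨y, hy⟩, z'⟩ hxy
      have h1 : f x * (z : G) = f y * z' := congrArg Subtype.val hxy
      have hx' : x ≠ a := hx
      have hy' : y ≠ a := hy
      have h2 : (f x * (z : G)) • x = x := by
        rw [mul_smul, h.ker z z.2, hf2 x hx']
      have h3 : (f x * (z : G)) • y = y := by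
        rw [h1, mul_smul, h.ker z' z'.2, hf2 y hy']
      have h4 : (f x * (z : G)) • a = a := by
        rw [mul_smul, h.ker z z.2]
        exact hK (hf1 x hx')
      by_cases h5 : x = y
      · subst h5
        have h6 : (z : G) = z' := mul_left_cancel h1
        have h7 : z = z' := Subtype.ext h6
        rw [h7]
      · exfalso
        have h6 := h.sharp a x y hx'.symm hy' (Ne.symm h5) _ h4 h2 h3
        apply hf3 x hx'
        have h7 : f x = (f x * (z : G)) * (z : G)⁻¹ := by group
        rw [h7]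
        exact mul_mem h6 (inv_mem z.2)
    have h1 := Nat.card_le_card_of_injective F hF
    rw [Nat.card_prod, Nat.card_coe_set_eq, h.ncard_compl_one, hc] at h1
    have h2 := Nat.le_of_mul_le_mul_right h1 hZ
    omega
  have h1 : K ⊓ stabilizer G x = Z := by
    ext g
    constructor
    · rintro ⟨h1, h2⟩
      exact hxK g h1 h2
    · intro hg
      exact ⟨hZK hg, h.ker g hg x⟩
  have h2 := card_mul K x
  rw [h1, hc] at h2
  have h3 := Nat.eq_of_mul_eq_mul_right hZ h2
  have hsub : orbit K x ⊆ ({a}ᶜ : Set Ω) := by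
    rintro _ ⟨g, rfl⟩ h4
    have h5 : (g : G) • a = a := hK g.2
    have h6 : (g : G) • x = a := h4
    exact hx (MulAction.injective (g : G) (h6.trans h5.symm))
  have h4 : (({a}ᶜ : Set Ω) \ orbit K x).ncard = 1 := by
    rw [Set.ncard_sdiff hsub, h.ncard_compl_one, h3]
    omega
  obtain ⟨b, hb⟩ := Set.ncard_eq_one.1 h4
  have hb1 : b ∈ (({a}ᶜ : Set Ω) \ orbit K x) := by rw [hb]; exact Set.mem_singleton b
  refine ⟨b, hb1.1, fun g hg => ?_⟩
  have h5 : g • b ∈ (({a}ᶜ : Set Ω) \ orbit K x) := by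
    constructor
    · intro h6
      have h7 : g • a = a := hK hg
      have h8 : g • b = a := h6
      exact hb1.1 (MulAction.injective g (h8.trans h7.symm))
    · intro h6
      apply hb1.2
      rw [mem_orbit'] at h6 ⊢
      obtain ⟨k, hk, hkx⟩ := h6
      exact ⟨g⁻¹ * k, mul_mem (inv_mem hg) hk, by rw [mul_smul, hkx, inv_smul_smul]⟩
  rw [hb] at h5
  exact h5

/-- A transitive proper subgroup containing `Z` has index greater than `q + 1` or is
2-transitive. -/
theorem index_of_trans (h : Sharp G Ω q Z) (hq : 5 < q) (hZH : Z ≤ H) (hH : H ≠ ⊤)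
    (ht : ∀ y : Ω, ∃ g ∈ H, g • a = y) : q + 1 < H.index ∨
      ∀ x y, x ≠ a → y ≠ a → ∃ g ∈ H, g • a = a ∧ g • x = y := by
  have := h.finite
  have hZ : 0 < Nat.card Z := Nat.card_pos
  obtain ⟨b, hba⟩ : ∃ b : Ω, b ≠ a := by
    have h1 : ({a}ᶜ : Set Ω).Nonempty := by
      rw [← Set.ncard_pos, h.ncard_compl_one]; omega
    exact h1
  have hZK : Z ≤ H ⊓ stabilizer G a := le_inf hZH (h.le_stab a)
  obtain ⟨k, hk⟩ := Subgroup.card_dvd_of_le hZK
  have h1 := h.card_of_trans' ht
  have h2 := H.card_mul_index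
  rw [h.card_G hba.symm (by omega), h1, hk] at h2
  have h3 : k * H.index = q * (q - 1) := by
    have h4 : 0 < (q + 1) * Nat.card Z := by positivity
    apply Nat.eq_of_mul_eq_mul_left h4
    calc (q + 1) * Nat.card Z * (k * H.index) = (q + 1) * (Nat.card Z * k) * H.index := by ring
      _ = (q + 1) * (q * ((q - 1) * Nat.card Z)) := h2
      _ = (q + 1) * Nat.card Z * (q * (q - 1)) := by ring
  rcases lt_trichotomy k (q - 1) with h4 | h4 | h4
  · left
    by_contra h5
    push Not at h5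
    obtain ⟨n, rfl⟩ : ∃ n, q = n + 2 := ⟨q - 2, by omega⟩
    have h6 : k ≤ n := by omega
    have h7 : k * H.index ≤ n * (n + 2 + 1) := Nat.mul_le_mul h6 h5
    rw [h3] at h7
    have h8 : n + 2 - 1 = n + 1 := by omega
    rw [h8] at h7
    nlinarith
  · left
    have h5 : Nat.card (H ⊓ stabilizer G a : Subgroup G) = (q - 1) * Nat.card Z := by
      rw [hk, h4, mul_comm]
    obtain ⟨c, hca, hc⟩ := h.fix_of_card (by omega) inf_le_right hZK h5
    have h6 : H ⊓ stabilizer G a ≤ D G a c := fun g hg => ⟨hg.2, hc g hg⟩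
    have h7 : H ⊓ stabilizer G a = D G a c := by
      refine Subgroup.eq_of_le_of_card_ge h6 ?_
      rw [h5, h.card_D hca.symm (by omega)]
    have h8 : D G a c ≤ H := by rw [← h7]; exact inf_le_left
    obtain ⟨h9, h10⟩ := h.split hca.symm hq h8 hH
    refine lt_of_le_of_ne h9 fun h11 => ?_
    rcases h10 h11.symm with h12 | h12
    · obtain ⟨g, hg, hga⟩ := ht c
      rw [h12] at hg
      exact hca (hga.symm.trans hg)
    · obtain ⟨g, hg, hga⟩ := ht c
      rw [h12] at hg
      have h13 : g • c = c := hg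
      exact hca (MulAction.injective g (h13.trans hga.symm))
  · right
    intro x y hx hy
    obtain ⟨g, hg, hgx⟩ := h.trans_of_card (by omega) inf_le_right hZK (by
      rw [hk, mul_comm]
      exact Nat.mul_le_mul_left _ (by omega)) hx hy
    exact ⟨g, hg.1, hg.2, hgx⟩

end NonSplit

end Sharp

/-- A normal Hall subgroup lies in every subgroup of order divisible by its order. -/
theorem le_of_dvd {G : Type*} [Group G] [Finite G] {S X K : Subgroup G} {m : ℕ} (hXS : X ≤ S)
    (hKS : K ≤ S) (hN : ∀ s ∈ S, ∀ x ∈ X, s * x * s⁻¹ ∈ X) (hcop : (Nat.card X).Coprime m)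
    (hS : Nat.card S = Nat.card X * m) (hd : Nat.card X ∣ Nat.card K) : X ≤ K := by
  have hn : (X.subgroupOf S).Normal := ⟨by
    rintro ⟨x, hx⟩ hxX ⟨s, hs⟩
    rw [Subgroup.mem_subgroupOf] at hxX ⊢
    exact hN s hs x hxX⟩
  have h1 := Subgroup.relIndex_dvd_index_of_normal (X.subgroupOf S) (K.subgroupOf S)
  rw [Subgroup.relIndex_subgroupOf hKS] at h1
  have h2 : (X.subgroupOf S).index = m := by
    have h3 := (X.subgroupOf S).card_mul_index
    rw [Nat.card_congr (Subgroup.subgroupOfEquivOfLe hXS).toEquiv, hS] at h3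
    exact Nat.eq_of_mul_eq_mul_left Nat.card_pos h3
  rw [h2] at h1
  have h3 : Nat.card (X ⊓ K : Subgroup G) * X.relIndex K = Nat.card K := by
    have h4 := (X.subgroupOf K).card_mul_index
    have h5 : Nat.card (X.subgroupOf K) = Nat.card (X ⊓ K : Subgroup G) := by
      refine Nat.card_congr
        { toFun := fun g => ⟨g.1, g.2, g.1.2⟩
          invFun := fun g => ⟨⟨g.1, g.2.2⟩, g.2.1⟩
          left_inv := fun g => rfl
          right_inv := fun g => rfl }
    rw [h5] at h4
    exact h4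
  have h4 : Nat.card X ∣ Nat.card (X ⊓ K : Subgroup G) := by
    have h5 : Nat.card X ∣ Nat.card (X ⊓ K : Subgroup G) * m := by
      refine (hd.trans ?_)
      rw [← h3]
      exact Nat.mul_dvd_mul_left _ h1
    exact hcop.dvd_of_dvd_mul_right h5
  have h5 : X ⊓ K = X :=
    Subgroup.eq_of_le_of_card_ge inf_le_left (Nat.le_of_dvd Nat.card_pos h4)
  rw [← h5]
  exact inf_le_right

end Cfsg.Agent.Classification.QDW.LineIndex
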