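import Mathlib
import Cfsg.Agent.Classification.InvCent.CTorus
import Cfsg.Agent.Classification.QDW.LineIndex

/-!
# The action of `C` of type `GL₂(q)/Z₀`, `GU₂(q)/Z₀` on the projective line

`C` acts on the cosets of `N = N_C(U)`, sharply 3-transitively modulo `Z`
(`sharp`). Consequences: a proper subgroup containing the torus `T` of order `|Z| (q - ε)` has index at
least `q + 1` (`index_eps_one`, `index_eps_neg`, `index_of_cHyp`).
-/

set_option autoImplicit false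
set_option linter.unusedSectionVars false
set_option linter.unusedVariables false

open Cfsg

namespace Cfsg.Agent.Classification.QDW.LineC

open Cfsg.Agent.Classification.InvCent Cfsg.Agent.Classification.QDW.LineIndex MulAction

/-- A counting criterion for transitivity. -/
theorem trans_of_ncard {G : Type*} [Group G] {Ω : Type*} [MulAction G Ω] [Finite G] [Finite Ω]
    {K : Subgroup G} {x : Ω} {S : Set Ω} (hS : ∀ g ∈ K, g • x ∈ S)
    (hc : S.ncard * Nat.card (K ⊓ stabilizer G x : Subgroup G) ≤ Nat.card K) :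
    ∀ y ∈ S, ∃ g ∈ K, g • x = y := by
  intro y hy
  have h1 := card_mul K x
  have h3 : orbit K x ⊆ S := by
    rintro _ ⟨g, rfl⟩
    exact hS g g.2
  have h4 : S.ncard ≤ (orbit K x).ncard := by
    rw [← h1] at hc
    exact Nat.le_of_mul_le_mul_right hc Nat.card_pos
  have h5 := Set.eq_of_subset_of_ncard_le h3 h4
  rw [← h5] at hy
  exact mem_orbit'.1 hy

variable {C : Type*} [Group C] {q : ℕ} {δ : ℤ} {Z T T₁ U : Subgroup C} {s s₁ : C}

/-- The normalizer of the root group. -/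
def N (U : Subgroup C) : Subgroup C := Subgroup.normalizer (U : Set C)

theorem mem_N {g : C} : g ∈ N U ↔ ∀ v, v ∈ U ↔ g * v * g⁻¹ ∈ U := Subgroup.mem_normalizer_iff

theorem U_le_N : U ≤ N U := Subgroup.le_normalizer

variable [Finite C]

theorem mem_N_of {g : C} (h : ∀ v ∈ U, g * v * g⁻¹ ∈ U) : g ∈ N U :=
  Subgroup.mem_normalizer_fintype (S := (U : Set C)) h

theorem conj_pow_q (hb : Base q Z U) {v : C} (hv : v ∈ U) (g : C) : (g * v * g⁻¹) ^ q = 1 := by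
  rw [conj_pow, hb.pow_card_U hv]; group

/-- `U` is a TI subgroup. -/
theorem ti (hb : Base q Z U) {v g : C} (hv : v ∈ U) (hv1 : v ≠ 1) (hg : g * v * g⁻¹ ∈ U) :
    g ∈ N U := by
  refine mem_N_of fun w hw => ?_
  have h1 : g * v * g⁻¹ ≠ 1 := by
    intro h2
    apply hv1
    have h3 : v = g⁻¹ * (g * v * g⁻¹) * g := by group
    rw [h3, h2]; group
  obtain ⟨z, hz, w', hw', he⟩ := hb.cent_U _ hg h1 (g * w * g⁻¹) (by
    have h3 := hb.U_comm v hv w hw
    calc g * w * g⁻¹ * (g * v * g⁻¹) = g * (w * v) * g⁻¹ := by group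
      _ = g * (v * w) * g⁻¹ := by rw [h3]
      _ = g * v * g⁻¹ * (g * w * g⁻¹) := by group)
  have h4 := hb.mem_U_of_mem_ZU (one_mem Z) (conj_pow_q hb hw g) (by
    rw [one_mul, he]; exact hb.mul_mem_ZU hz hw')
  exact h4

section SplitTorus

variable (hb : Base q Z U) (h₁ : Torus q 1 Z T₁ s₁) (hn : ∀ τ ∈ T₁, ∀ v ∈ U, τ * v * τ⁻¹ ∈ U)

include hb h₁ hn

theorem T₁_le_N : T₁ ≤ N U := fun τ hτ => mem_N_of fun v hv => hn τ hτ v hv

theorem card_T₁ : Nat.card T₁ = Nat.card Z * (q - 1) := by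
  have h1 := h₁.card
  have h2 := hb.one_lt_q
  have h3 : ((q : ℤ) - 1) = ((q - 1 : ℕ) : ℤ) := by omega
  rw [h3] at h1
  exact_mod_cast h1

theorem coprime_T₁ : (Nat.card T₁).Coprime q := by
  rw [card_T₁ hb h₁ hn]
  refine Nat.Coprime.mul_left hb.coprime ?_
  have h2 := hb.one_lt_q
  obtain ⟨n, rfl⟩ : ∃ n, q = n + 1 := ⟨q - 1, by omega⟩
  simp

theorem eq_one_of_T₁_U {x : C} (hx : x ∈ T₁) (hx' : x ∈ U) : x = 1 := by
  have h1 : orderOf x ∣ Nat.card T₁ := by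
    rw [← Subgroup.orderOf_mk (H := T₁) x hx]
    exact orderOf_dvd_natCard _
  have h2 : orderOf x ∣ q := orderOf_dvd_of_pow_eq_one (hb.pow_card_U hx')
  exact orderOf_eq_one_iff.1 (Nat.eq_one_of_dvd_coprimes (coprime_T₁ hb h₁ hn) h1 h2)

theorem mem_Z_of_T₁_ZU {x : C} (hx : x ∈ T₁) (hx' : x ∈ hb.ZU) : x ∈ Z := by
  obtain ⟨z, hz, v, hv, he⟩ := hb.mem_ZU.1 hx'
  have h1 : v ∈ T₁ := by
    have h2 : v = z⁻¹ * x := by rw [he]; group
    rw [h2]
    exact mul_mem (inv_mem (h₁.Z_le hz)) hx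
  rw [he, eq_one_of_T₁_U hb h₁ hn h1 hv, mul_one]
  exact hz

theorem card_N : Nat.card (N U) = q * (Nat.card Z * (q - 1)) := by
  classical
  have hZU : hb.ZU ≤ N U := by
    intro x hx
    obtain ⟨z, hz, v, hv, rfl⟩ := hb.mem_ZU.1 hx
    exact mul_mem (T₁_le_N hb h₁ hn (h₁.Z_le hz)) (U_le_N hv)
  apply le_antisymm
  · -- the upper bound
    obtain ⟨v, hv, hv1⟩ := hb.exists_ne_one
    let F : (N U) ⧸ (hb.ZU.subgroupOf (N U)) → ({1}ᶜ : Set U) := fun x =>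
      ⟨⟨(x.out : C) * v * (x.out : C)⁻¹, (mem_N.1 x.out.2 v).1 hv⟩, by
        intro h1
        apply hv1
        have h2 : (x.out : C) * v * (x.out : C)⁻¹ = 1 := congrArg Subtype.val h1
        have h3 : v = (x.out : C)⁻¹ * ((x.out : C) * v * (x.out : C)⁻¹) * x.out := by group
        rw [h3, h2]; group⟩
    have hF : Function.Injective F := by
      intro x y hxy
      have h1 : (x.out : C) * v * (x.out : C)⁻¹ = (y.out : C) * v * (y.out : C)⁻¹ :=
        congrArg (fun w : ({1}ᶜ : Set U) => ((w : U) : C)) hxy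
      have h2 : ((x.out : C)⁻¹ * y.out) * v = v * ((x.out : C)⁻¹ * y.out) := by
        calc ((x.out : C)⁻¹ * y.out) * v
            = (x.out : C)⁻¹ * ((y.out : C) * v * (y.out : C)⁻¹) * y.out := by group
          _ = (x.out : C)⁻¹ * ((x.out : C) * v * (x.out : C)⁻¹) * y.out := by rw [h1]
          _ = v * ((x.out : C)⁻¹ * y.out) := by group
      have h3 : (x.out)⁻¹ * y.out ∈ hb.ZU.subgroupOf (N U) := by
        rw [Subgroup.mem_subgroupOf, hb.mem_ZU]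
        exact hb.cent_U v hv hv1 _ h2
      have h4 := QuotientGroup.eq.2 h3
      rw [QuotientGroup.out_eq', QuotientGroup.out_eq'] at h4
      exact h4
    have h1 := Nat.card_le_card_of_injective F hF
    have h2 : Nat.card ({1}ᶜ : Set U) = q - 1 := by
      have h3 := Set.ncard_add_ncard_compl ({1} : Set U)
      rw [Set.ncard_singleton, hb.card_U] at h3
      rw [Nat.card_coe_set_eq]
      omega
    have h3 := (hb.ZU.subgroupOf (N U)).card_mul_index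
    rw [Nat.card_congr (Subgroup.subgroupOfEquivOfLe hZU).toEquiv, hb.card_ZU] at h3
    have h4 : (hb.ZU.subgroupOf (N U)).index ≤ q - 1 := by rw [← h2]; exact h1
    rw [← h3]
    calc Nat.card Z * q * (hb.ZU.subgroupOf (N U)).index ≤ Nat.card Z * q * (q - 1) :=
          Nat.mul_le_mul_left _ h4
      _ = q * (Nat.card Z * (q - 1)) := by ring
  · -- the lower bound
    let F : U × T₁ → N U := fun x => ⟨x.1 * x.2, mul_mem (U_le_N x.1.2) (T₁_le_N hb h₁ hn x.2.2)⟩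
    have hF : Function.Injective F := by
      rintro ⟨v, τ⟩ ⟨v', τ'⟩ hxy
      have h1 : (v : C) * τ = v' * τ' := congrArg Subtype.val hxy
      have h2 : (v' : C)⁻¹ * v = τ' * (τ : C)⁻¹ := by
        rw [inv_mul_eq_iff_eq_mul, ← mul_assoc, ← h1]; group
      have h3 : (v' : C)⁻¹ * v = 1 := eq_one_of_T₁_U hb h₁ hn
        (by rw [h2]; exact mul_mem τ'.2 (inv_mem τ.2)) (mul_mem (inv_mem v'.2) v.2)
      have h4 : (v : C) = v' := (inv_mul_eq_one.1 h3).symm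
      rw [h3] at h2
      have h5 : (τ : C) = τ' := (mul_inv_eq_one.1 h2.symm).symm
      exact Prod.ext (Subtype.ext h4) (Subtype.ext h5)
    have h1 := Nat.card_le_card_of_injective F hF
    rw [Nat.card_prod, hb.card_U, card_T₁ hb h₁ hn] at h1
    exact h1

/-- `N = U T₁`. -/
theorem exists_of_N {g : C} (hg : g ∈ N U) : ∃ v ∈ U, ∃ τ ∈ T₁, g = v * τ := by
  let F : U × T₁ → N U := fun x => ⟨x.1 * x.2, mul_mem (U_le_N x.1.2) (T₁_le_N hb h₁ hn x.2.2)⟩
  have hF : Function.Injective F := by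
    rintro ⟨v, τ⟩ ⟨v', τ'⟩ hxy
    have h1 : (v : C) * τ = v' * τ' := congrArg Subtype.val hxy
    have h2 : (v' : C)⁻¹ * v = τ' * (τ : C)⁻¹ := by
      rw [inv_mul_eq_iff_eq_mul, ← mul_assoc, ← h1]; group
    have h3 : (v' : C)⁻¹ * v = 1 := eq_one_of_T₁_U hb h₁ hn
      (by rw [h2]; exact mul_mem τ'.2 (inv_mem τ.2)) (mul_mem (inv_mem v'.2) v.2)
    have h4 : (v : C) = v' := (inv_mul_eq_one.1 h3).symm
    rw [h3] at h2
    have h5 : (τ : C) = τ' := (mul_inv_eq_one.1 h2.symm).symm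
    exact Prod.ext (Subtype.ext h4) (Subtype.ext h5)
  have hs : Function.Surjective F := by
    refine ((Nat.bijective_iff_injective_and_card F).2 ⟨hF, ?_⟩).2
    rw [Nat.card_prod, hb.card_U, card_T₁ hb h₁ hn, card_N hb h₁ hn]
  obtain ⟨⟨v, τ⟩, he⟩ := hs ⟨g, hg⟩
  exact ⟨v, v.2, τ, τ.2, (congrArg Subtype.val he).symm⟩

theorem index_N : (N U).index = q + 1 := by
  have h1 := (N U).card_mul_index
  rw [card_N hb h₁ hn, hb.card_C] at h1
  have h2 := hb.one_lt_q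
  obtain ⟨n, rfl⟩ : ∃ n, q = n + 1 := ⟨q - 1, by omega⟩
  have h3 : 0 < (n + 1) * (Nat.card Z * (n + 1 - 1)) := by
    have : 0 < Nat.card Z := Nat.card_pos
    have : 0 < n + 1 - 1 := by omega
    positivity
  apply Nat.eq_of_mul_eq_mul_left h3
  rw [h1]
  have h4 : (n + 1) ^ 2 - 1 = n * (n + 2) := by
    have : (n + 1) ^ 2 = n * (n + 2) + 1 := by ring
    omega
  rw [h4, Nat.add_sub_cancel]
  ring

/-- The elements `x` of `N` with `x ^ q = 1`. -/
theorem mem_U_of_pow {x : C} (hx : x ∈ N U) (hxq : x ^ q = 1) : x ∈ U := by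
  obtain ⟨v, hv, τ, hτ, rfl⟩ := exists_of_N hb h₁ hn hx
  have h1 : ∀ n : ℕ, ∃ w ∈ U, (v * τ) ^ n = w * τ ^ n := by
    intro n
    induction n with
    | zero => exact ⟨1, one_mem U, by simp⟩
    | succ n ih =>
      obtain ⟨w, hw, he⟩ := ih
      refine ⟨w * (τ ^ n * v * (τ ^ n)⁻¹), mul_mem hw (hn _ (pow_mem hτ n) v hv), ?_⟩
      rw [pow_succ, he, pow_succ]
      group
  obtain ⟨w, hw, he⟩ := h1 q
  rw [hxq] at he
  have h2 : τ ^ q = 1 := by
    refine eq_one_of_T₁_U hb h₁ hn (pow_mem hτ q) ?_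
    have h3 : τ ^ q = w⁻¹ := eq_inv_of_mul_eq_one_right he.symm
    rw [h3]
    exact inv_mem hw
  have h3 : τ = 1 := by
    have h4 : orderOf τ ∣ Nat.card T₁ := by
      rw [← Subgroup.orderOf_mk (H := T₁) τ hτ]
      exact orderOf_dvd_natCard _
    exact orderOf_eq_one_iff.1 (Nat.eq_one_of_dvd_coprimes (coprime_T₁ hb h₁ hn) h4
      (orderOf_dvd_of_pow_eq_one h2))
  rw [h3, mul_one]
  exact hv

/-- The point at infinity. -/
abbrev inf (U : Subgroup C) : C ⧸ N U := ((1 : C) : C ⧸ N U)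

theorem smul_inf {g : C} : g • (inf U) = inf U ↔ g ∈ N U := by
  change ((g * 1 : C) : C ⧸ N U) = ((1 : C) : C ⧸ N U) ↔ g ∈ N U
  rw [mul_one, QuotientGroup.eq, mul_one, inv_mem_iff]

theorem stab_inf : stabilizer C (inf U) = N U := by
  ext g
  exact smul_inf hb h₁ hn

/-- `U` acts semiregularly on the other points. -/
theorem semireg {v : C} (hv : v ∈ U) {x : C ⧸ N U} (hx : x ≠ inf U) (h : v • x = x) : v = 1 := by
  obtain ⟨g, rfl⟩ := QuotientGroup.mk_surjective x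
  by_contra hv1
  apply hx
  have h1 : ((v * g : C) : C ⧸ N U) = ((g : C) : C ⧸ N U) := h
  have h2 : g⁻¹ * v * g ∈ N U := by
    have h3 := QuotientGroup.eq.1 h1.symm
    have h4 : g⁻¹ * (v * g) = g⁻¹ * v * g := by group
    rwa [h4] at h3
  have h3 : g⁻¹ * v * g⁻¹⁻¹ ∈ U := by
    rw [inv_inv]
    refine mem_U_of_pow hb h₁ hn h2 ?_
    have := conj_pow_q hb hv g⁻¹
    rwa [inv_inv] at this
  have h4 := ti hb hv hv1 h3
  exact QuotientGroup.eq.2 (by rw [mul_one]; exact h4)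

theorem card_line : Nat.card (C ⧸ N U) = q + 1 := index_N hb h₁ hn

/-- `U` is transitive on the other points. -/
theorem U_trans {x y : C ⧸ N U} (hx : x ≠ inf U) (hy : y ≠ inf U) : ∃ v ∈ U, v • x = y := by
  have h2 : U ⊓ stabilizer C x = ⊥ := by
    rw [eq_bot_iff]
    rintro v ⟨hv, hvx⟩
    exact semireg hb h₁ hn hv hx hvx
  have h4 : ({inf U}ᶜ : Set (C ⧸ N U)).ncard = q := by
    have h5 := Set.ncard_add_ncard_compl ({inf U} : Set (C ⧸ N U))
    rw [Set.ncard_singleton, card_line hb h₁ hn] at h5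
    omega
  refine trans_of_ncard (S := ({inf U}ᶜ : Set (C ⧸ N U))) (fun v hv h4 => ?_) ?_ y hy
  · apply hx
    have h5 : v • x = inf U := h4
    have h6 : v • inf U = inf U := (smul_inf hb h₁ hn).2 (U_le_N hv)
    exact MulAction.injective v (h5.trans h6.symm)
  · rw [h4, h2, Subgroup.card_bot, mul_one, hb.card_U]

/-- The point zero. -/
abbrev zer (U : Subgroup C) (s₁ : C) : C ⧸ N U := ((s₁ : C) : C ⧸ N U)

theorem exists_T₁_notMem (hq : 3 ≤ q) : ∃ τ ∈ T₁, τ ∉ Z := by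
  by_contra hcon
  push Not at hcon
  have h1 : T₁ ≤ Z := hcon
  have h2 := Subgroup.card_le_of_le h1
  rw [card_T₁ hb h₁ hn] at h2
  have h3 : 0 < Nat.card Z := Nat.card_pos
  have h4 : Nat.card Z * 2 ≤ Nat.card Z * (q - 1) := Nat.mul_le_mul_left _ (by omega)
  omega

theorem s₁_notMem (hq : 3 ≤ q) : s₁ ∉ N U := by
  intro h1
  obtain ⟨v, hv, τ, hτ, he⟩ := exists_of_N hb h₁ hn h1
  obtain ⟨τ', hτ', hτZ⟩ := exists_T₁_notMem hb h₁ hn hq
  have hvT : ∀ x ∈ T₁, v * x * v⁻¹ ∈ T₁ := by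
    intro x hx
    have h2 : v = s₁ * τ⁻¹ := by rw [he]; group
    have h3 : v * x * v⁻¹ = s₁ * (τ⁻¹ * x * τ) * s₁⁻¹ := by rw [h2]; group
    rw [h3]
    exact h₁.s_conj _ (mul_mem (mul_mem (inv_mem hτ) hx) hτ)
  have h2 : v * τ' * v⁻¹ * τ'⁻¹ = 1 := by
    refine eq_one_of_T₁_U hb h₁ hn (mul_mem (hvT _ hτ') (inv_mem hτ')) ?_
    have h3 : v * τ' * v⁻¹ * τ'⁻¹ = v * (τ' * v⁻¹ * τ'⁻¹) := by group
    rw [h3]
    exact mul_mem hv (hn _ hτ' _ (inv_mem hv))
  have h3 : v * τ' = τ' * v := by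
    have h4 : v * τ' = (v * τ' * v⁻¹ * τ'⁻¹) * τ' * v := by group
    rw [h4, h2, one_mul]
  have h4 := h₁.cent _ hτ' hτZ v h3
  have h5 := eq_one_of_T₁_U hb h₁ hn h4 hv
  rw [h5, one_mul] at he
  exact h₁.s_notMem (he ▸ hτ)

theorem zer_ne (hq : 3 ≤ q) : zer U s₁ ≠ inf U := by
  intro h1
  have h2 := QuotientGroup.eq.1 h1
  rw [mul_one, inv_mem_iff] at h2
  exact s₁_notMem hb h₁ hn hq h2

theorem T₁_zer {τ : C} (hτ : τ ∈ T₁) : τ • zer U s₁ = zer U s₁ := by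
  change ((τ * s₁ : C) : C ⧸ N U) = ((s₁ : C) : C ⧸ N U)
  rw [QuotientGroup.eq]
  have h2 : (τ * s₁)⁻¹ * s₁ = s₁ * τ⁻¹ * s₁⁻¹ := by
    rw [h₁.s_inv, mul_inv_rev, h₁.s_inv]
  rw [h2]
  exact T₁_le_N hb h₁ hn (h₁.s_conj _ (inv_mem hτ))

/-- The stabiliser of infinity and zero. -/
theorem D_eq (hq : 3 ≤ q) : Sharp.D C (inf U) (zer U s₁) = T₁ := by
  ext g
  rw [Sharp.mem_D]
  constructor
  · rintro ⟨h1, h2⟩
    rw [smul_inf hb h₁ hn] at h1
    obtain ⟨v, hv, τ, hτ, rfl⟩ := exists_of_N hb h₁ hn h1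
    rw [mul_smul, T₁_zer hb h₁ hn hτ] at h2
    rw [semireg hb h₁ hn hv (zer_ne hb h₁ hn hq) h2, one_mul]
    exact hτ
  · intro hg
    exact ⟨(smul_inf hb h₁ hn).2 (T₁_le_N hb h₁ hn hg), T₁_zer hb h₁ hn hg⟩

theorem mem_Z_of_fix {τ : C} (hτ : τ ∈ T₁) {x : C ⧸ N U} (hq : 3 ≤ q) (hx : x ≠ inf U)
    (hx' : x ≠ zer U s₁) (h : τ • x = x) : τ ∈ Z := by
  obtain ⟨v, hv, rfl⟩ := U_trans hb h₁ hn (zer_ne hb h₁ hn hq) hx
  have hv1 : v ≠ 1 := by
    rintro rfl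
    exact hx' (one_smul _ _)
  have h1 : (v⁻¹ * (τ * v * τ⁻¹)) • zer U s₁ = zer U s₁ := by
    rw [mul_smul, mul_smul, T₁_zer hb h₁ hn (inv_mem hτ), mul_smul, h, inv_smul_smul]
  have h2 := semireg hb h₁ hn (mul_mem (inv_mem hv) (hn _ hτ _ hv)) (zer_ne hb h₁ hn hq) h1
  have h3 : τ * v = v * τ := by
    have h4 : τ * v * τ⁻¹ = v := (inv_mul_eq_one.1 h2).symm
    calc τ * v = (τ * v * τ⁻¹) * τ := by group
      _ = v * τ := by rw [h4]
  have h4 : τ ∈ hb.ZU := hb.mem_ZU.2 (hb.cent_U v hv hv1 τ h3)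
  exact mem_Z_of_T₁_ZU hb h₁ hn hτ h4

/-- `T₁` is transitive on the remaining points. -/
theorem T₁_trans (hq : 3 ≤ q) {x y : C ⧸ N U} (hx : x ≠ inf U)
    (hx' : x ≠ zer U s₁) (hy : y ≠ inf U) (hy' : y ≠ zer U s₁) : ∃ τ ∈ T₁, τ • x = y := by
  have h2 : T₁ ⊓ stabilizer C x = Z := by
    ext τ
    constructor
    · rintro ⟨hτ, hτx⟩
      exact mem_Z_of_fix hb h₁ hn hτ hq hx hx' hτx
    · intro hτ
      refine ⟨h₁.Z_le hτ, ?_⟩
      obtain ⟨g, rfl⟩ := QuotientGroup.mk_surjective x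
      change ((τ * g : C) : C ⧸ N U) = ((g : C) : C ⧸ N U)
      rw [← hb.Z_central τ hτ g, QuotientGroup.eq, mul_inv_rev, mul_assoc, inv_mul_cancel,
        mul_one]
      exact inv_mem (T₁_le_N hb h₁ hn (h₁.Z_le hτ))
  have hne := (zer_ne hb h₁ hn hq).symm
  have h4 : ({inf U, zer U s₁}ᶜ : Set (C ⧸ N U)).ncard = q - 1 := by
    have h5 := Set.ncard_add_ncard_compl ({inf U, zer U s₁} : Set (C ⧸ N U))
    rw [Set.ncard_pair hne, card_line hb h₁ hn] at h5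
    omega
  refine trans_of_ncard (S := ({inf U, zer U s₁}ᶜ : Set (C ⧸ N U))) (fun τ hτ h4 => ?_) ?_ y ?_
  · rcases h4 with h5 | h5
    · apply hx
      have h5' : τ • x = inf U := h5
      have h6 : τ • inf U = inf U := (smul_inf hb h₁ hn).2 (T₁_le_N hb h₁ hn hτ)
      exact MulAction.injective τ (h5'.trans h6.symm)
    · apply hx'
      have h5' : τ • x = zer U s₁ := h5
      exact MulAction.injective τ (h5'.trans (T₁_zer hb h₁ hn hτ).symm)
  · rw [h4, h2, card_T₁ hb h₁ hn, mul_comm]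
  · rintro (h7 | h7)
    · exact hy h7
    · exact hy' h7

/-- **The action on the projective line.** -/
theorem sharp (hq : 3 ≤ q) : Sharp C (C ⧸ N U) q Z := by
  have hne := zer_ne hb h₁ hn hq
  have htr : ∀ a : C ⧸ N U, ∃ g : C, g • a = inf U := by
    intro a
    obtain ⟨g, rfl⟩ := QuotientGroup.mk_surjective a
    refine ⟨g⁻¹, ?_⟩
    change ((g⁻¹ * g : C) : C ⧸ N U) = _
    rw [inv_mul_cancel]
  have hfix : ∀ v ∈ U, v • inf U = inf U := fun v hv => (smul_inf hb h₁ hn).2 (U_le_N hv)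
  have htwo : ∀ a b : C ⧸ N U, a ≠ b → ∃ g : C, g • a = inf U ∧ g • b = zer U s₁ := by
    intro a b hab
    obtain ⟨g, hg⟩ := htr a
    have h1 : g • b ≠ inf U := fun h2 => hab (MulAction.injective g (hg.trans h2.symm))
    obtain ⟨v, hv, hvb⟩ := U_trans hb h₁ hn h1 hne
    exact ⟨v * g, by rw [mul_smul, hg, hfix v hv], by rw [mul_smul, hvb]⟩
  constructor
  · exact card_line hb h₁ hn
  · intro z hz x
    obtain ⟨g, rfl⟩ := QuotientGroup.mk_surjective x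
    change ((z * g : C) : C ⧸ N U) = ((g : C) : C ⧸ N U)
    rw [← hb.Z_central z hz g, QuotientGroup.eq, mul_inv_rev, mul_assoc, inv_mul_cancel,
      mul_one]
    exact inv_mem (T₁_le_N hb h₁ hn (h₁.Z_le hz))
  · intro a b c d hab hcd
    obtain ⟨g, hga, hgb⟩ := htwo a b hab
    obtain ⟨k, hkc, hkd⟩ := htwo c d hcd
    exact ⟨k⁻¹ * g, by rw [mul_smul, hga, ← hkc, inv_smul_smul],
      by rw [mul_smul, hgb, ← hkd, inv_smul_smul]⟩
  · intro a b x y hab hxa hxb hya hyb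
    obtain ⟨g, hga, hgb⟩ := htwo a b hab
    obtain ⟨τ, hτ, hτx⟩ := T₁_trans hb h₁ hn hq (x := g • x) (y := g • y)
      (fun h1 => hxa (MulAction.injective g (h1.trans hga.symm)))
      (fun h1 => hxb (MulAction.injective g (h1.trans hgb.symm)))
      (fun h1 => hya (MulAction.injective g (h1.trans hga.symm)))
      (fun h1 => hyb (MulAction.injective g (h1.trans hgb.symm)))
    have h2 : τ • inf U = inf U := (smul_inf hb h₁ hn).2 (T₁_le_N hb h₁ hn hτ)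
    refine ⟨g⁻¹ * τ * g, ?_, ?_, ?_⟩
    · rw [mul_smul, mul_smul, hga, h2, ← hga, inv_smul_smul]
    · rw [mul_smul, mul_smul, hgb, T₁_zer hb h₁ hn hτ, ← hgb, inv_smul_smul]
    · rw [mul_smul, mul_smul, hτx, inv_smul_smul]
  · intro a b x hab hxa hxb e hea heb hex
    obtain ⟨g, hga, hgb⟩ := htwo a b hab
    have h1 : g * e * g⁻¹ ∈ T₁ := by
      rw [← D_eq hb h₁ hn hq, Sharp.mem_D]
      constructor
      · rw [mul_smul, mul_smul, ← hga, inv_smul_smul, hea]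
      · rw [mul_smul, mul_smul, ← hgb, inv_smul_smul, heb]
    have h2 := mem_Z_of_fix hb h₁ hn h1 (x := g • x) hq
      (fun h1 => hxa (MulAction.injective g (h1.trans hga.symm)))
      (fun h1 => hxb (MulAction.injective g (h1.trans hgb.symm)))
      (by rw [mul_smul, mul_smul, inv_smul_smul, hex])
    have h3 : e = g⁻¹ * (g * e * g⁻¹) * g := by group
    rw [h3, hb.Z_central _ h2, mul_assoc, inv_mul_cancel, mul_one]
    exact h2
  · intro a b hab e f hea heb hfa hfb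
    obtain ⟨g, hga, hgb⟩ := htwo a b hab
    have h1 : ∀ e : C, e • a = a → e • b = b → g * e * g⁻¹ ∈ T₁ := by
      intro e hea heb
      rw [← D_eq hb h₁ hn hq, Sharp.mem_D]
      constructor
      · rw [mul_smul, mul_smul, ← hga, inv_smul_smul, hea]
      · rw [mul_smul, mul_smul, ← hgb, inv_smul_smul, heb]
    have h2 := h₁.comm _ (h1 e hea heb) _ (h1 f hfa hfb)
    calc e * f = g⁻¹ * ((g * e * g⁻¹) * (g * f * g⁻¹)) * g := by group
      _ = g⁻¹ * ((g * f * g⁻¹) * (g * e * g⁻¹)) * g := by rw [h2]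
      _ = f * e := by group

/-- A proper subgroup containing the split torus `T₁` has index at least `q + 1`. -/
theorem index_split (hq : 5 < q) {H : Subgroup C} (hT : T₁ ≤ H) (hH : H ≠ ⊤) :
    q + 1 ≤ H.index ∧ (H.index = q + 1 → H = N U ∨ H = stabilizer C (zer U s₁)) := by
  have h1 := (sharp hb h₁ hn (by omega)).split (zer_ne hb h₁ hn (by omega)).symm hq (H := H)
    (by rw [D_eq hb h₁ hn (by omega)]; exact hT) hH
  rw [stab_inf hb h₁ hn] at h1
  exact h1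

/-- The elements of `N` outside `Z U` are conjugate into `T₁`. -/
theorem exists_conj_T₁ {y : C} (hy : y ∈ N U) (hy1 : y ∉ hb.ZU) :
    ∃ w ∈ U, w⁻¹ * y * w ∈ T₁ := by
  have := hb.one_lt_q
  obtain ⟨v, hv, τ, hτ, rfl⟩ := exists_of_N hb h₁ hn hy
  have hτZ : τ ∉ hb.ZU := by
    intro h1
    apply hy1
    obtain ⟨z, hz, w, hw, rfl⟩ := hb.mem_ZU.1 h1
    rw [← mul_assoc, hb.Z_central z hz v, mul_assoc]
    exact hb.mul_mem_ZU hz (mul_mem hv hw)
  -- the map `w ↦ w τ w⁻¹ τ⁻¹` is bijective on `U`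
  let F : U → U := fun w => ⟨w * (τ * (w : C)⁻¹ * τ⁻¹), mul_mem w.2 (hn _ hτ _ (inv_mem w.2))⟩
  have hF : Function.Injective F := by
    rintro ⟨a, ha⟩ ⟨b, hb'⟩ hab
    have h2 : a * (τ * a⁻¹ * τ⁻¹) = b * (τ * b⁻¹ * τ⁻¹) := congrArg Subtype.val hab
    have h3 : b⁻¹ * a * τ = τ * (b⁻¹ * a) := by
      calc b⁻¹ * a * τ = b⁻¹ * (a * (τ * a⁻¹ * τ⁻¹)) * τ * a := by group
        _ = b⁻¹ * (b * (τ * b⁻¹ * τ⁻¹)) * τ * a := by rw [h2]
        _ = τ * (b⁻¹ * a) := by group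
    by_cases h4 : b⁻¹ * a = 1
    · exact Subtype.ext (inv_mul_eq_one.1 h4).symm
    · exfalso
      exact hτZ (hb.mem_ZU.2 (hb.cent_U _ (mul_mem (inv_mem hb') ha) h4 τ h3.symm))
  have hs : Function.Surjective F := Finite.surjective_of_injective hF
  obtain ⟨⟨w, hw⟩, he⟩ := hs ⟨v, hv⟩
  have h2 : w * (τ * w⁻¹ * τ⁻¹) = v := congrArg Subtype.val he
  refine ⟨w, hw, ?_⟩
  have h3 : w⁻¹ * (v * τ) * w = τ := by rw [← h2]; group
  rw [h3]
  exact hτ

/-- Every element of `C` is the product of elements of `L`, `T₁`, `L` a normal subgroup containing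
`U`; moreover `L` contains an element interchanging infinity and zero. -/
theorem exists_of_normal (hq : 3 ≤ q) {L : Subgroup C} (hL : L.Normal) (hUL : U ≤ L) (c : C) :
    ∃ l ∈ L, ∃ τ ∈ T₁, c = l * τ := by
  have hne := zer_ne hb h₁ hn hq
  have hfix : ∀ v ∈ U, v • inf U = inf U := fun v hv => (smul_inf hb h₁ hn).2 (U_le_N hv)
  -- the root group of zero
  have hU0 : ∀ x y : C ⧸ N U, x ≠ zer U s₁ → y ≠ zer U s₁ →
      ∃ l ∈ L, l • zer U s₁ = zer U s₁ ∧ l • x = y := by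
    intro x y hx hy
    have e1 : s₁ • inf U = zer U s₁ := by
      change ((s₁ * 1 : C) : C ⧸ N U) = ((s₁ : C) : C ⧸ N U)
      rw [mul_one]
    have e2 : s₁⁻¹ • zer U s₁ = inf U := by rw [← e1, inv_smul_smul]
    obtain ⟨v, hv, hvx⟩ := U_trans hb h₁ hn (x := s₁⁻¹ • x) (y := s₁⁻¹ • y)
      (fun h1 => hx (by rw [inv_smul_eq_iff, e1] at h1; exact h1))
      (fun h1 => hy (by rw [inv_smul_eq_iff, e1] at h1; exact h1))
    refine ⟨s₁ * v * s₁⁻¹, hL.conj_mem v (hUL hv) s₁, ?_, ?_⟩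
    · rw [mul_smul, mul_smul, e2, hfix v hv, e1]
    · rw [mul_smul, mul_smul, hvx, smul_inv_smul]
  obtain ⟨w, hw⟩ : ({inf U, zer U s₁}ᶜ : Set (C ⧸ N U)).Nonempty := by
    have h5 := Set.ncard_add_ncard_compl ({inf U, zer U s₁} : Set (C ⧸ N U))
    rw [Set.ncard_pair hne.symm, card_line hb h₁ hn] at h5
    rw [← Set.ncard_pos]
    omega
  simp only [Set.mem_compl_iff, Set.mem_insert_iff, Set.mem_singleton_iff, not_or] at hw
  obtain ⟨l₁, hl₁, -, hl₁'⟩ := hU0 (inf U) w hne.symm hw.2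
  obtain ⟨v₁, hv₁, hv₁'⟩ := U_trans hb h₁ hn hw.1 hne
  have hl : (v₁ * l₁) • inf U = zer U s₁ := by rw [mul_smul, hl₁', hv₁']
  have hlL : v₁ * l₁ ∈ L := mul_mem (hUL hv₁) hl₁
  obtain ⟨l, hlL', hlc⟩ : ∃ l ∈ L, l • inf U = c • inf U := by
    by_cases h1 : c • inf U = inf U
    · exact ⟨1, one_mem L, by rw [one_smul, h1]⟩
    · obtain ⟨v, hv, hvc⟩ := U_trans hb h₁ hn hne h1
      exact ⟨v * (v₁ * l₁), mul_mem (hUL hv) hlL, by rw [mul_smul, hl, hvc]⟩
  have h2 : (l⁻¹ * c) • zer U s₁ ≠ inf U := by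
    intro h3
    apply hne
    have h4 : (l⁻¹ * c) • inf U = inf U := by rw [mul_smul, ← hlc, inv_smul_smul]
    exact MulAction.injective (l⁻¹ * c) (h3.trans h4.symm)
  obtain ⟨v, hv, hvc⟩ := U_trans hb h₁ hn hne h2
  refine ⟨l * v, mul_mem hlL' (hUL hv), v⁻¹ * l⁻¹ * c, ?_, by group⟩
  rw [← D_eq hb h₁ hn hq, Sharp.mem_D]
  constructor
  · rw [mul_smul, mul_smul, ← hlc, inv_smul_smul, hfix _ (inv_mem hv)]
  · rw [mul_assoc, mul_smul, ← hvc, inv_smul_smul]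

theorem exists_swap (hq : 3 ≤ q) {L : Subgroup C} (hL : L.Normal) (hUL : U ≤ L) :
    ∃ n ∈ L, s₁ * n ∈ T₁ := by
  obtain ⟨l, hl, τ, hτ, he⟩ := exists_of_normal hb h₁ hn hq hL hUL s₁
  have h1 : l = s₁ * τ⁻¹ := by rw [he]; group
  refine ⟨l, hl, ?_⟩
  rw [h1, ← mul_assoc, h₁.s_sq, one_mul]
  exact inv_mem hτ

/-- The squares of `T₁` lie in every subgroup containing `Z` and a normal subgroup containing
`U`. -/
theorem sq_mem (hq : 3 ≤ q) {L H : Subgroup C} (hL : L.Normal) (hUL : U ≤ L) (hLH : L ≤ H)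
    (hZH : Z ≤ H) {x : C} (hx : x ∈ T₁) : x * x ∈ H := by
  obtain ⟨n, hnL, hn1⟩ := exists_swap hb h₁ hn hq hL hUL
  have h1 : n * x * n⁻¹ = s₁ * x * s₁⁻¹ := by
    have h2 : n = s₁ * (s₁ * n) := by rw [← mul_assoc, h₁.s_sq, one_mul]
    have h3 : (s₁ * n) * x * (s₁ * n)⁻¹ = x := by rw [h₁.comm _ hn1 x hx]; group
    calc n * x * n⁻¹ = (s₁ * (s₁ * n)) * x * (s₁ * (s₁ * n))⁻¹ := by rw [← h2]
      _ = s₁ * ((s₁ * n) * x * (s₁ * n)⁻¹) * s₁⁻¹ := by group
      _ = s₁ * x * s₁⁻¹ := by rw [h3]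
  have h2 := h₁.s_norm x hx
  have h3 : x * n * x⁻¹ * n⁻¹ ∈ L := mul_mem (hL.conj_mem n hnL x) (inv_mem hnL)
  have h4 : x * x = (x * n * x⁻¹ * n⁻¹) * (x * (s₁ * x * s₁⁻¹)) := by
    have h5 : (s₁ * x * s₁⁻¹) ∈ T₁ := h₁.s_conj x hx
    rw [h₁.comm x hx _ h5, ← h1]
    group
  rw [h4]
  exact mul_mem (hLH h3) (hZH h2)

/-- The nonsplit torus is transitive on the line. -/
theorem T_trans (h : Torus q (-1) Z T s) (x : C ⧸ N U) : ∃ τ ∈ T, τ • inf U = x := by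
  have := Fintype.ofFinite C
  have h2 : T ⊓ stabilizer C (inf U) = Z := by
    ext τ
    constructor
    · rintro ⟨hτ, hτx⟩
      have h3 : τ ∈ N U := (smul_inf hb h₁ hn).1 hτx
      by_contra hZ
      have h4 := h.conj_notMem_ZU hb hτ hZ 1
      rw [inv_one, one_mul, mul_one] at h4
      obtain ⟨w, hw, hwT⟩ := exists_conj_T₁ hb h₁ hn h3 h4
      exact h.conj_notMem_torus h₁ (by norm_num) hb.Z_central hτ hZ w hwT
    · intro hτ
      exact ⟨h.Z_le hτ, (smul_inf hb h₁ hn).2 (T₁_le_N hb h₁ hn (h₁.Z_le hτ))⟩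
  refine trans_of_ncard (S := Set.univ) (fun _ _ => Set.mem_univ _) ?_ x (Set.mem_univ _)
  have h3 := h.card
  have h4 : Nat.card T = Nat.card Z * (q + 1) := by
    have h5 : (Nat.card T : ℤ) = ((Nat.card Z * (q + 1) : ℕ) : ℤ) := by
      rw [h3]; push_cast; ring
    exact_mod_cast h5
  rw [h2, Set.ncard_univ, card_line hb h₁ hn, h4, mul_comm]

/-- A proper subgroup containing the nonsplit torus has index greater than `q + 1`. -/
theorem index_nonsplit (hq : 5 < q) (h : Torus q (-1) Z T s) (hcyc : IsCyclic T₁)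
    {δ : C →* ℂˣ} (hδU : ∀ v ∈ U, δ v = 1) (hδ2 : ∀ c, δ c * δ c = 1)
    (hδT : ∃ x ∈ T, δ x ≠ 1) {H : Subgroup C} (hT : T ≤ H) (hH : H ≠ ⊤) : q + 1 < H.index := by
  have hS := sharp hb h₁ hn (by omega)
  have ht : ∀ y : C ⧸ N U, ∃ g ∈ H, g • inf U = y := by
    intro y
    obtain ⟨τ, hτ, hy⟩ := T_trans hb h₁ hn h y
    exact ⟨τ, hT hτ, hy⟩
  have hZH : Z ≤ H := h.Z_le.trans hT
  have hne := zer_ne hb h₁ hn (show 3 ≤ q by omega)
  refine (hS.index_of_trans hq hZH hH ht).resolve_right fun h2 => hH ?_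
  -- `U ≤ H`
  have hfin := hS.finite
  have hUH : U ≤ H := by
    have h3 := hS.card_of_trans hne.symm (K := H ⊓ stabilizer C (inf U)) inf_le_right
      (fun y hy => by
        obtain ⟨g, hg, hga, hgy⟩ := h2 (zer U s₁) y hne hy
        exact ⟨g, ⟨hg, hga⟩, hgy⟩)
    have h4 : U ≤ H ⊓ stabilizer C (inf U) := by
      refine le_of_dvd (S := N U) (m := Nat.card Z * (q - 1)) U_le_N ?_ ?_ ?_ ?_ ?_
      · rw [stab_inf hb h₁ hn]
        exact inf_le_right
      · intro g hg v hv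
        exact (mem_N.1 hg v).1 hv
      · rw [hb.card_U, ← card_T₁ hb h₁ hn]
        exact (coprime_T₁ hb h₁ hn).symm
      · rw [hb.card_U, card_N hb h₁ hn]
      · rw [hb.card_U, h3]
        exact dvd_mul_right _ _
    exact h4.trans inf_le_left
  -- the normal closure of `U`
  set L : Subgroup C := Subgroup.normalClosure (U : Set C) with hLdef
  have hL : L.Normal := Subgroup.normalClosure_normal
  have hUL : U ≤ L := fun v hv => Subgroup.subset_normalClosure hv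
  have hLH : L ≤ H := by
    rw [hLdef, Subgroup.normalClosure, Subgroup.closure_le]
    intro x hx
    obtain ⟨v, hv, hvx⟩ := Group.mem_conjugatesOfSet_iff.1 hx
    obtain ⟨g, hg⟩ := isConj_iff.1 hvx
    obtain ⟨k, hk, hkg⟩ := ht (g • inf U)
    have h3 : k⁻¹ * g ∈ N U := by
      rw [← smul_inf hb h₁ hn, mul_smul, ← hkg, inv_smul_smul]
    have h4 := (mem_N.1 h3 v).1 hv
    have h5 : x = k * (k⁻¹ * g * v * (k⁻¹ * g)⁻¹) * k⁻¹ := by rw [← hg]; group
    rw [h5]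
    exact mul_mem (mul_mem hk (hUH h4)) (inv_mem hk)
  have hδL : ∀ l ∈ L, δ l = 1 := by
    have h3 : L ≤ δ.ker := by
      rw [hLdef]
      exact Subgroup.normalClosure_le_normal (fun v hv => hδU v hv)
    exact fun l hl => h3 hl
  -- `T₁ ≤ H`
  obtain ⟨g₀, hg₀⟩ := hcyc.exists_generator
  have hsq : ((g₀ : C) * g₀) ∈ H := sq_mem hb h₁ hn (by omega) hL hUL hLH hZH g₀.2
  have hT₁H : T₁ ≤ H := by
    obtain ⟨x, hx, hδx⟩ := hδT
    obtain ⟨l, hl, τ, hτ, he⟩ := exists_of_normal hb h₁ hn (by omega) hL hUL x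
    have hτH : τ ∈ H := by
      have h3 : τ = l⁻¹ * x := by rw [he]; group
      rw [h3]
      exact mul_mem (inv_mem (hLH hl)) (hT hx)
    have hδτ : δ τ ≠ 1 := by
      intro h3
      apply hδx
      rw [he, map_mul, hδL l hl, h3, one_mul]
    obtain ⟨i, hi⟩ := Subgroup.mem_zpowers_iff.1 (hg₀ ⟨τ, hτ⟩)
    have hi' : (g₀ : C) ^ i = τ := congrArg Subtype.val hi
    have hg₀H : (g₀ : C) ∈ H := by
      rcases Int.even_or_odd i with ⟨j, hj⟩ | ⟨j, hj⟩
      · exfalso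
        apply hδτ
        rw [← hi', hj, zpow_add, map_mul, hδ2]
      · have h3 : (g₀ : C) = ((g₀ : C) * g₀) ^ (-j) * τ := by
          rw [← hi', hj, ← sq, ← zpow_natCast (g₀ : C) 2, ← zpow_mul, ← zpow_add]
          have h4 : ((2 : ℕ) : ℤ) * -j + (2 * j + 1) = 1 := by push_cast; ring
          rw [h4, zpow_one]
        rw [h3]
        exact mul_mem (zpow_mem hsq _) hτH
    intro y hy
    obtain ⟨j, hj⟩ := Subgroup.mem_zpowers_iff.1 (hg₀ ⟨y, hy⟩)
    have hj' : (g₀ : C) ^ j = y := congrArg Subtype.val hj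
    rw [← hj']
    exact zpow_mem hg₀H j
  rw [eq_top_iff]
  intro c _
  obtain ⟨l, hl, τ, hτ, rfl⟩ := exists_of_normal hb h₁ hn (by omega) hL hUL c
  exact mul_mem (hLH hl) (hT₁H hτ)

end SplitTorus

section CHyp

variable {z u s' : C} {ε : ℤ} {T' : Subgroup C} {r : ℕ} {b : C →* ℂˣ}

/-- **(C)** for `ε = 1`: equality only for the two Borel subgroups containing `T`. -/
theorem index_eps_one (hC : CHyp z q 1 Z T T' U s s' u)
    (hn : ∀ τ ∈ T, ∀ v ∈ U, τ * v * τ⁻¹ ∈ U) (hq : 5 < q) {H : Subgroup C} (hT : T ≤ H)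
    (hH : H ≠ ⊤) : q + 1 ≤ H.index ∧
      (H.index = q + 1 → H = N U ∨ H = stabilizer C (zer U s)) :=
  index_split hC.base hC.torus hn hq hT hH

/-- **(C)** for `ε = -1`. -/
theorem index_eps_neg (hC : CHyp z q (-1) Z T T' U s s' u)
    (hD : DetHyp q (-1) T T' U s s' u r b)
    (hn : ∀ τ ∈ T', ∀ v ∈ U, τ * v * τ⁻¹ ∈ U) (hq : 5 < q) {H : Subgroup C} (hT : T ≤ H)
    (hH : H ≠ ⊤) : q + 1 < H.index := by
  have h' : Torus q 1 Z T' s' := by
    have := hC.torus'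
    rwa [neg_neg] at this
  obtain ⟨m, hm1, hm⟩ := hD.r_pow
  have hr : r = r / 2 + r / 2 := by
    have h1 : 2 ∣ r := by rw [hm]; exact dvd_pow_self 2 (by omega)
    omega
  have hr0 : 0 < r := by rw [hm]; positivity
  refine index_nonsplit hC.base h' hn hq hC.torus hC.T'_cyclic (δ := b ^ (r / 2)) ?_ ?_ ?_ hT hH
  · intro v hv
    rw [MonoidHom.pow_apply, hD.b_U v hv, one_pow]
  · intro c
    rw [MonoidHom.pow_apply, ← pow_add, ← hr, hD.pow_eq_one]
  · obtain ⟨x, hx, ho⟩ := hD.exists_T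
    refine ⟨x, hx, fun h1 => ?_⟩
    have h2 := orderOf_dvd_of_pow_eq_one h1
    rw [ho] at h2
    have h3 := Nat.le_of_dvd (by omega) h2
    omega

/-- **(C)** for both signs. -/
theorem index_of_cHyp (hC : CHyp z q ε Z T T' U s s' u)
    (hD : DetHyp q ε T T' U s s' u r b) (hn₁ : ε = 1 → ∀ τ ∈ T, ∀ v ∈ U, τ * v * τ⁻¹ ∈ U)
    (hn₂ : ε = -1 → ∀ τ ∈ T', ∀ v ∈ U, τ * v * τ⁻¹ ∈ U) (hq : 5 < q) {H : Subgroup C}
    (hT : T ≤ H) (hH : H ≠ ⊤) : q + 1 ≤ H.index := by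
  rcases hC.eps with rfl | rfl
  · exact (index_eps_one hC (hn₁ rfl) hq hT hH).1
  · exact (index_eps_neg hC hD (hn₂ rfl) hq hT hH).le

end CHyp

end Cfsg.Agent.Classification.QDW.LineC
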