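import Mathlib
import Cfsg.Agent.Classification.InvCent.SDChi
import Cfsg.Agent.Classification.InvCent.FusionCore
import Cfsg.Agent.Classification.QDW.LineC

/-!
# `C` of type `GL₂(q)/Z₀`, `GU₂(q)/Z₀` with centre of order `2`

`CData`: the hypotheses. `CData.exists_split`: the torus normalising `U`, cyclic modulo `Z`.
`CData.ker_le`: a normal subgroup containing `Z` and `U` contains `ker b`.
`CData.index`: the index of a proper subgroup containing `T`.
-/

set_option autoImplicit false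
set_option linter.unusedSectionVars false

namespace Cfsg.Agent.Classification.QDW.InstC

open Cfsg Cfsg.Agent.Classification.InvCent Cfsg.Agent.Classification.QDW.LineC

/-- A commutative group of automorphisms of an abelian group, transitive on the elements different
from zero, is cyclic. -/
theorem exists_generator {A M : Type*} [Group A] [Finite A] [AddCommGroup M] [Nontrivial M]
    (ρ : A →* AddMonoid.End M) (hc : ∀ a b : A, ρ a * ρ b = ρ b * ρ a)
    (ht : ∀ x y : M, x ≠ 0 → y ≠ 0 → ∃ a, ρ a x = y) :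
    ∃ g : A, ∀ a : A, ∃ k : ℤ, ρ a = ρ (g ^ k) := by
  let S : Subring (AddMonoid.End M) := Subring.closure (Set.range ρ)
  have hcomm : ∀ x ∈ Set.range ρ, ∀ y ∈ Set.range ρ, x * y = y * x := by
    rintro _ ⟨a, rfl⟩ _ ⟨b, rfl⟩
    exact hc a b
  have hmc : IsMulCommutative S := Subring.isMulCommutative_closure hcomm
  let _ : CommRing S := { (inferInstance : Ring S) with mul_comm := hmc.is_comm.comm }
  have hρS : ∀ a, ρ a ∈ S := fun a => Subring.subset_closure ⟨a, rfl⟩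
  have hcS : ∀ a, ∀ r ∈ S, ρ a * r = r * ρ a := by
    intro a r hr
    have h1 : (⟨ρ a, hρS a⟩ : S) * ⟨r, hr⟩ = ⟨r, hr⟩ * ⟨ρ a, hρS a⟩ := mul_comm _ _
    exact congrArg Subtype.val h1
  have hnz : NoZeroDivisors S := by
    refine ⟨?_⟩
    rintro ⟨r, hr⟩ ⟨s, hs⟩ hrs
    have h1 : r * s = 0 := congrArg Subtype.val hrs
    by_cases h2 : s = 0
    · right
      exact Subtype.ext h2
    · left
      obtain ⟨x, hx⟩ : ∃ x, s x ≠ 0 := by
        by_contra hcon
        push Not at hcon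
        exact h2 (AddMonoidHom.ext hcon)
      have h3 : r (s x) = 0 := by
        have := congrArg (fun f : AddMonoid.End M => f x) h1
        exact this
      refine Subtype.ext (AddMonoidHom.ext fun y => ?_)
      show r y = 0
      by_cases hy : y = 0
      · rw [hy, map_zero]
      · obtain ⟨a, ha⟩ := ht (s x) y hx hy
        rw [← ha]
        have h4 := congrArg (fun f : AddMonoid.End M => f (s x)) (hcS a r hr)
        have h5 : ρ a (r (s x)) = r (ρ a (s x)) := h4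
        rw [← h5, h3, map_zero]
  have hnt : Nontrivial S := by
    refine ⟨⟨1, 0, fun h1 => ?_⟩⟩
    have h2 : (1 : AddMonoid.End M) = 0 := congrArg Subtype.val h1
    obtain ⟨x, hx⟩ := exists_ne (0 : M)
    exact hx (congrArg (fun f : AddMonoid.End M => f x) h2)
  have hdom : IsDomain S := NoZeroDivisors.to_isDomain S
  let f : A →* S :=
    { toFun := fun a => ⟨ρ a, hρS a⟩
      map_one' := Subtype.ext (map_one ρ)
      map_mul' := fun a b => Subtype.ext (map_mul ρ a b) }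
  let F : A →* Sˣ := f.toHomUnits
  have hfin : Finite F.range := Finite.of_surjective F.rangeRestrict F.rangeRestrict_surjective
  have hcyc : IsCyclic F.range := isCyclic_subgroup_units F.range
  obtain ⟨⟨_, g, rfl⟩, hg⟩ := hcyc.exists_generator
  refine ⟨g, fun a => ?_⟩
  obtain ⟨k, hk⟩ := Subgroup.mem_zpowers_iff.1 (hg ⟨F a, a, rfl⟩)
  refine ⟨k, ?_⟩
  have h1 : F g ^ k = F a := congrArg Subtype.val hk
  rw [← map_zpow] at h1
  have h2 : ((F (g ^ k) : Sˣ) : S) = (F a : S) := congrArg Units.val h1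
  exact (congrArg Subtype.val h2).symm

/-- The torus normalising `U`. -/
structure Split {C : Type*} [Group C] (q : ℕ) (Z T₁ U : Subgroup C) (s₁ : C) : Prop where
  torus : Torus q 1 Z T₁ s₁
  norm : ∀ τ ∈ T₁, ∀ v ∈ U, τ * v * τ⁻¹ ∈ U
  gen : ∃ g ∈ T₁, ∀ x ∈ T₁, ∃ k : ℤ, ∃ ζ ∈ Z, x = g ^ k * ζ

/-- The data of `C`. -/
structure CData {C : Type*} [Group C] (z : C) (q : ℕ) (ε : ℤ) (Z T T' U : Subgroup C)
    (s s' u : C) (b : C →* ℂˣ) : Prop where
  chyp : CHyp z q ε Z T T' U s s' u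
  det : DetHyp q ε T T' U s s' u 2 b
  card_Z : Nat.card Z = 2
  norm₁ : ε = 1 → ∀ τ ∈ T, ∀ v ∈ U, τ * v * τ⁻¹ ∈ U
  norm₂ : ε = -1 → ∀ τ ∈ T', ∀ v ∈ U, τ * v * τ⁻¹ ∈ U

section Split

variable {C : Type*} [Group C] [Finite C] {q : ℕ} {Z T₁ U : Subgroup C} {s₁ : C}

theorem trans_split (hb : Base q Z U) (h₁ : Torus q 1 Z T₁ s₁)
    (hn : ∀ τ ∈ T₁, ∀ v ∈ U, τ * v * τ⁻¹ ∈ U) {v w : C} (hv : v ∈ U) (hw : w ∈ U) (hv1 : v ≠ 1)
    (hw1 : w ≠ 1) : ∃ τ ∈ T₁, τ * v * τ⁻¹ = w := by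
  obtain ⟨c, hc⟩ := hb.fus_U v hv w hw hv1 hw1
  have h2 : c ∈ N U := ti hb hv hv1 (by rw [hc]; exact hw)
  obtain ⟨v', hv', τ, hτ, rfl⟩ := exists_of_N hb h₁ hn h2
  refine ⟨τ, hτ, ?_⟩
  rw [← hc]
  have h3 := hb.U_comm v' hv' _ (hn τ hτ v hv)
  calc τ * v * τ⁻¹ = v' * (τ * v * τ⁻¹) * v'⁻¹ := by rw [h3]; group
    _ = v' * τ * v * (v' * τ)⁻¹ := by group

theorem gen_split (hb : Base q Z U) (h₁ : Torus q 1 Z T₁ s₁)
    (hn : ∀ τ ∈ T₁, ∀ v ∈ U, τ * v * τ⁻¹ ∈ U) :
    ∃ g ∈ T₁, ∀ x ∈ T₁, ∃ k : ℤ, ∃ ζ ∈ Z, x = g ^ k * ζ := by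
  let _ : CommGroup U := { (inferInstance : Group U) with
    mul_comm := fun x y => Subtype.ext (hb.U_comm x x.2 y y.2) }
  obtain ⟨v₀, hv₀, hv₀1⟩ := hb.exists_ne_one
  have hnt : Nontrivial (Additive U) :=
    ⟨⟨Additive.ofMul ⟨v₀, hv₀⟩, 0, fun h1 => hv₀1 (congrArg
      (fun x : Additive U => ((Additive.toMul x : U) : C)) h1)⟩⟩
  let φ : T₁ → (U →* U) := fun τ =>
    { toFun := fun v => ⟨τ * v * (τ : C)⁻¹, hn τ τ.2 v v.2⟩
      map_one' := Subtype.ext (by simp)
      map_mul' := fun v w => Subtype.ext (by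
        show (τ : C) * (v * w : U) * (τ : C)⁻¹ = τ * v * (τ : C)⁻¹ * (τ * w * (τ : C)⁻¹)
        rw [Subgroup.coe_mul]; group) }
  let ρ : T₁ →* AddMonoid.End (Additive U) :=
    { toFun := fun τ => MonoidHom.toAdditive (φ τ)
      map_one' := by
        apply AddMonoidHom.ext
        intro v
        refine congrArg Additive.ofMul (Subtype.ext ?_)
        show ((1 : T₁) : C) * (Additive.toMul v : U) * ((1 : T₁) : C)⁻¹ = (Additive.toMul v : U)
        rw [Subgroup.coe_one, one_mul, inv_one, mul_one]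
      map_mul' := fun τ τ' => by
        apply AddMonoidHom.ext
        intro v
        refine congrArg Additive.ofMul (Subtype.ext ?_)
        show ((τ * τ' : T₁) : C) * (Additive.toMul v : U) * ((τ * τ' : T₁) : C)⁻¹ =
          τ * (τ' * (Additive.toMul v : U) * (τ' : C)⁻¹) * (τ : C)⁻¹
        rw [Subgroup.coe_mul]; group }
  have hρ : ∀ (τ : T₁) (v : U), ρ τ (Additive.ofMul v) =
      Additive.ofMul ⟨τ * v * (τ : C)⁻¹, hn τ τ.2 v v.2⟩ := fun _ _ => rfl
  obtain ⟨g, hg⟩ := exists_generator ρ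
    (fun a b' => by
      rw [← map_mul, ← map_mul]
      congr 1
      exact Subtype.ext (h₁.comm a a.2 b' b'.2))
    (fun x y hx hy => by
      have hx1 : ((Additive.toMul x : U) : C) ≠ 1 := fun h => hx (congrArg Additive.ofMul
        (Subtype.ext h : (Additive.toMul x : U) = 1))
      have hy1 : ((Additive.toMul y : U) : C) ≠ 1 := fun h => hy (congrArg Additive.ofMul
        (Subtype.ext h : (Additive.toMul y : U) = 1))
      obtain ⟨τ, hτ, he⟩ := trans_split hb h₁ hn (Additive.toMul x).2 (Additive.toMul y).2 hx1 hy1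
      refine ⟨⟨τ, hτ⟩, ?_⟩
      exact congrArg Additive.ofMul (Subtype.ext he :
        (⟨τ * (Additive.toMul x : U) * τ⁻¹, hn τ hτ _ (Additive.toMul x).2⟩ : U) =
          Additive.toMul y))
  refine ⟨g, g.2, fun x hx => ?_⟩
  obtain ⟨k, hk⟩ := hg ⟨x, hx⟩
  refine ⟨k, ((g : C) ^ k)⁻¹ * x, ?_, by group⟩
  have h1 := congrArg (fun f : AddMonoid.End (Additive U) => f (Additive.ofMul ⟨v₀, hv₀⟩)) hk
  have h2 : (⟨x, hx⟩ : T₁) * v₀ * ((⟨x, hx⟩ : T₁) : C)⁻¹ = ((g ^ k : T₁) : C) * v₀ *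
      ((g ^ k : T₁) : C)⁻¹ :=
    congrArg (fun y : Additive U => ((Additive.toMul y : U) : C)) h1
  have h3 : x * v₀ * x⁻¹ = (g : C) ^ k * v₀ * ((g : C) ^ k)⁻¹ := h2
  have h4 : (((g : C) ^ k)⁻¹ * x) * v₀ = v₀ * (((g : C) ^ k)⁻¹ * x) := by
    calc (((g : C) ^ k)⁻¹ * x) * v₀ = ((g : C) ^ k)⁻¹ * (x * v₀ * x⁻¹) * x := by group
      _ = ((g : C) ^ k)⁻¹ * ((g : C) ^ k * v₀ * ((g : C) ^ k)⁻¹) * x := by rw [h3]
      _ = v₀ * (((g : C) ^ k)⁻¹ * x) := by group
  exact mem_Z_of_T₁_ZU hb h₁ hn (mul_mem (inv_mem (zpow_mem g.2 k)) hx)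
    (hb.mem_ZU.2 (hb.cent_U v₀ hv₀ hv₀1 _ h4))

end Split

section CData

variable {C : Type*} [Group C] [Finite C] {z : C} {q : ℕ} {ε : ℤ} {Z T T' U : Subgroup C}
  {s s' u : C} {b : C →* ℂˣ}

theorem CData.exists_split (h : CData z q ε Z T T' U s s' u b) :
    ∃ (T₁ : Subgroup C) (s₁ : C), Split q Z T₁ U s₁ ∧ (ε = 1 → T₁ = T) := by
  rcases h.chyp.eps with h1 | h1
  · subst h1
    refine ⟨T, s, ⟨h.chyp.torus, h.norm₁ rfl, ?_⟩, fun _ => rfl⟩
    exact gen_split h.chyp.base h.chyp.torus (h.norm₁ rfl)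
  · subst h1
    have h' : Torus q 1 Z T' s' := by
      have := h.chyp.torus'
      rwa [neg_neg] at this
    exact ⟨T', s', ⟨h', h.norm₂ rfl, gen_split h.chyp.base h' (h.norm₂ rfl)⟩,
      fun h2 => by norm_num at h2⟩

theorem CData.mem_Z (h : CData z q ε Z T T' U s s' u b) {x : C} : x ∈ Z ↔ x = 1 ∨ x = z := by
  have hz1 : z ≠ 1 := by
    intro h1
    have := h.chyp.orderOf_t
    rw [h1, orderOf_one] at this
    omega
  constructor
  · intro hx
    by_contra hcon
    push Not at hcon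
    classical
    have h1 : ({1, z, x} : Finset C).card ≤ Nat.card Z := by
      have h2 : (({1, z, x} : Finset C) : Set C) ⊆ (Z : Set C) := by
        intro y hy
        simp only [Finset.coe_insert, Finset.coe_singleton, Set.mem_insert_iff,
          Set.mem_singleton_iff] at hy
        rcases hy with rfl | rfl | rfl
        · exact one_mem Z
        · exact h.chyp.t_mem
        · exact hx
      have h3 := Set.ncard_le_ncard h2 (Set.toFinite _)
      rw [Set.ncard_coe_finset] at h3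
      exact h3
    rw [h.card_Z, Finset.card_insert_of_notMem, Finset.card_insert_of_notMem,
      Finset.card_singleton] at h1
    · omega
    · simp only [Finset.mem_singleton]
      exact fun h2 => hcon.2 h2.symm
    · simp only [Finset.mem_insert, Finset.mem_singleton, not_or]
      exact ⟨fun h2 => hz1 h2.symm, fun h2 => hcon.1 h2.symm⟩
  · rintro (rfl | rfl)
    · exact one_mem Z
    · exact h.chyp.t_mem

/-- `q - ε = 2 m`, `m` odd. -/
theorem CData.exists_m (h : CData z q ε Z T T' U s s' u b) :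
    ∃ m : ℕ, Odd m ∧ 2 * (m : ℤ) = q - ε := by
  obtain ⟨m, hm, hc⟩ := h.chyp.card_Z
  refine ⟨m, hm, ?_⟩
  rw [h.card_Z] at hc
  exact_mod_cast hc

theorem CData.three_le (h : CData z q ε Z T T' U s s' u b) : 3 ≤ q := by
  have h1 := h.chyp.one_lt_q
  obtain ⟨k, hk⟩ := h.chyp.odd_q
  omega

theorem CData.b_sq (h : CData z q ε Z T T' U s s' u b) (c : C) : b c * b c = 1 := by
  have := h.det.pow_eq_one c
  rwa [sq] at this

theorem CData.b_z (h : CData z q ε Z T T' U s s' u b) : b z = 1 := by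
  have h1 : z = (s * u * s⁻¹) * u⁻¹ := by
    rw [h.chyp.s_u]; group
  rw [h1, map_mul, map_mul, map_mul, map_inv, map_inv]
  calc b s * b u * (b s)⁻¹ * (b u)⁻¹ = 1 := by
        rw [mul_comm (b s) (b u)]; group
    
theorem CData.b_Z (h : CData z q ε Z T T' U s s' u b) {x : C} (hx : x ∈ Z) : b x = 1 := by
  rcases h.mem_Z.1 hx with rfl | rfl
  · exact map_one b
  · exact h.b_z

theorem CData.b_cases (h : CData z q ε Z T T' U s s' u b) (c : C) : b c = 1 ∨ b c = -1 := by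
  have h1 := h.b_sq c
  have h2 : ((b c : ℂˣ) : ℂ) * (b c : ℂˣ) = 1 := by
    rw [← Units.val_mul, h1, Units.val_one]
  rcases mul_self_eq_one_iff.1 h2 with h3 | h3
  · exact Or.inl (Units.ext h3)
  · exact Or.inr (Units.ext (by rw [h3]; rfl))

theorem CData.b_u_ne (h : CData z q ε Z T T' U s s' u b) : b u ≠ 1 := by
  rw [h.det.b_u]
  intro h1
  have h2 := congrArg Units.val h1
  rw [Units.val_neg, Units.val_one] at h2
  norm_num at h2

/-- A normal subgroup containing `Z` and `U` contains `ker b`. -/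
theorem CData.ker_le (h : CData z q ε Z T T' U s s' u b) {M : Subgroup C} (hM : M.Normal)
    (hZ : Z ≤ M) (hU : U ≤ M) : b.ker ≤ M := by
  obtain ⟨T₁, s₁, hs, -⟩ := h.exists_split
  have hb := h.chyp.base
  have h3 := h.three_le
  have hNn : (M ⊓ b.ker).Normal := inferInstance
  have hZN : Z ≤ M ⊓ b.ker := le_inf hZ fun x hx => by
    rw [MonoidHom.mem_ker]; exact h.b_Z hx
  have hUN : U ≤ M ⊓ b.ker := le_inf hU fun x hx => by
    rw [MonoidHom.mem_ker]; exact h.det.b_U x hx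
  obtain ⟨g, hg, hgen⟩ := hs.gen
  have hgg : g * g ∈ M ⊓ b.ker := sq_mem hb hs.torus hs.norm h3 hNn hUN le_rfl hZN hg
  have hev : ∀ j : ℤ, g ^ (j + j) ∈ M ⊓ b.ker := by
    intro j
    rw [zpow_add, ← (Commute.refl g).mul_zpow]
    exact zpow_mem hgg j
  intro x hx
  obtain ⟨l, hl, τ, hτ, he⟩ := exists_of_normal hb hs.torus hs.norm h3 hNn hUN x
  have hτk : b τ = 1 := by
    have h1 : τ = l⁻¹ * x := by rw [he]; group
    rw [h1, map_mul, map_inv, MonoidHom.mem_ker.1 hl.2, MonoidHom.mem_ker.1 hx, inv_one, one_mul]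
  obtain ⟨k, ζ, hζ, hk⟩ := hgen τ hτ
  rcases Int.even_or_odd k with ⟨j, hj⟩ | ⟨j, hj⟩
  · have h1 : τ ∈ M ⊓ b.ker := by
      rw [hk, hj]
      exact mul_mem (hev j) (hZN hζ)
    rw [he]
    exact (mul_mem hl h1).1
  · exfalso
    have h1 : b g = 1 := by
      have h2 : g = (g ^ (j + j))⁻¹ * τ * ζ⁻¹ := by
        rw [hk, hj, show 2 * j + 1 = (j + j) + 1 by ring, zpow_add_one]; group
      rw [h2, map_mul, map_mul, map_inv, map_inv, MonoidHom.mem_ker.1 (hev j).2, hτk, h.b_Z hζ]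
      simp
    obtain ⟨l', hl', τ', hτ', he'⟩ := exists_of_normal hb hs.torus hs.norm h3 hNn hUN u
    obtain ⟨k', ζ', hζ', hk'⟩ := hgen τ' hτ'
    refine h.b_u_ne ?_
    rw [he', map_mul, MonoidHom.mem_ker.1 hl'.2, one_mul, hk', map_mul, map_zpow, h1, one_zpow,
      one_mul, h.b_Z hζ']

/-- A subgroup containing `ker b` and `u` is `C`. -/
theorem CData.eq_top (h : CData z q ε Z T T' U s s' u b) {H : Subgroup C} (hb : b.ker ≤ H)
    (hu : u ∈ H) : H = ⊤ := by
  rw [eq_top_iff]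
  intro c _
  rcases h.b_cases c with h1 | h1
  · exact hb h1
  · have h2 : c * u ∈ H := hb (by
      rw [MonoidHom.mem_ker, map_mul, h1, h.det.b_u, neg_mul_neg, one_mul])
    have h3 : c = (c * u) * u⁻¹ := by group
    rw [h3]
    exact mul_mem h2 (inv_mem hu)

/-- A subgroup containing `T` and of index prime to `q`... -/
theorem CData.index_five (h : CData z q ε Z T T' U s s' u b) (hq : q = 5) {H : Subgroup C}
    (hT : T ≤ H) (hH : H ≠ ⊤) : 5 ≤ H.index := by
  by_contra hcon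
  push Not at hcon
  refine hH (h.eq_top ?_ (hT h.chyp.u_mem))
  have hUN : U ≤ H.normalCore := by
    intro v hv
    rw [Subgroup.normalCore_eq_ker, MonoidHom.mem_ker]
    have h1 : v ^ 5 = 1 := by
      have := h.chyp.base.pow_card_U hv
      rwa [hq] at this
    have h2 : orderOf (MulAction.toPermHom C (C ⧸ H) v) ∣ 5 := by
      refine orderOf_dvd_of_pow_eq_one ?_
      rw [← map_pow, h1, map_one]
    have h3 : orderOf (MulAction.toPermHom C (C ⧸ H) v) ∣ (Nat.card (C ⧸ H)).factorial := by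
      have := orderOf_dvd_natCard (MulAction.toPermHom C (C ⧸ H) v)
      rwa [Nat.card_perm] at this
    rw [← orderOf_eq_one_iff]
    rcases (Nat.dvd_prime (by norm_num)).1 h2 with h4 | h4
    · exact h4
    · exfalso
      rw [h4] at h3
      have h5 := (Nat.Prime.dvd_factorial (by norm_num : Nat.Prime 5)).1 h3
      change 5 ≤ H.index at h5
      omega
  have hZH : Z ≤ H := h.chyp.Z_le_T.trans hT
  have hZn : Z.Normal := ⟨fun x hx g => by
    rw [h.chyp.Z_central x hx g, mul_inv_cancel_right]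
    exact hx⟩
  have h1 := h.ker_le (M := H.normalCore ⊔ Z) inferInstance le_sup_right (hUN.trans le_sup_left)
  exact h1.trans (sup_le (Subgroup.normalCore_le H) hZH)

theorem CData.index (h : CData z q ε Z T T' U s s' u b) (hq : 5 ≤ q) {H : Subgroup C}
    (hT : T ≤ H) (hH : H ≠ ⊤) : q ≤ H.index ∧ (ε = 1 → q + 1 ≤ H.index) := by
  rcases Nat.lt_or_ge 5 q with h5 | h5
  · have h1 := index_of_cHyp h.chyp h.det h.norm₁ h.norm₂ h5 hT hH
    exact ⟨by omega, fun _ => h1⟩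
  · have hq5 : q = 5 := by omega
    refine ⟨by rw [hq5]; exact h.index_five hq5 hT hH, fun he => ?_⟩
    exfalso
    obtain ⟨m, hm, h2⟩ := h.exists_m
    rw [he, hq5] at h2
    obtain ⟨k, hk⟩ := hm
    omega

/-- `T = ⟨z, u⟩ × T_odd`. -/
theorem CData.decomp (h : CData z q ε Z T T' U s s' u b) {x : C} (hx : x ∈ T) :
    ∃ v y, (v = 1 ∨ v = z ∨ v = u ∨ v = z * u) ∧ y ∈ T ∧ Odd (orderOf y) ∧ x = v * y := by
  obtain ⟨M, hM, hpow⟩ := h.chyp.exists_M h.det
  have h1 : x ^ M * x ^ M = 1 := by rw [← pow_add, ← two_mul, hpow x hx]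
  refine ⟨x ^ M, (x ^ M)⁻¹ * x, h.chyp.invol_T _ (pow_mem hx M) h1,
    mul_mem (inv_mem (pow_mem hx M)) hx, ?_, by group⟩
  have h2 : ((x ^ M)⁻¹ * x) ^ M = 1 := by
    obtain ⟨k, hk⟩ := hM
    have hc : Commute ((x ^ M)⁻¹) x := ((Commute.refl x).pow_left M).inv_left
    rw [hc.mul_pow]
    have h3 : (x ^ M)⁻¹ = x ^ M := inv_eq_of_mul_eq_one_left h1
    have h4 : (x ^ M) ^ M = x ^ M := by
      conv_lhs => rw [hk, pow_succ, pow_mul, sq, ← hk, h1, one_pow, one_mul]
    rw [h3, h4, h1]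
  exact hM.of_dvd_nat (orderOf_dvd_of_pow_eq_one h2)

end CData

end Cfsg.Agent.Classification.QDW.InstC
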