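import Mathlib
import Cfsg.Agent.Lib.AutSL2Out

/-!
# The field type of an automorphism of `SL(2,F)`

* `trace_conjGL`, `trace_fieldAut`, `trace_mul_one`;
* `typ : MulAut SL(2,F) →* (F ≃+* F)` with `tr (α x) = typ α (tr x)`;
* `typ_eq_one_iff`: `typ α = 1` iff `α` is conjugation by an element of `GL(2,F)`;
* `eq_one_of_trace`: an element of `2`-power order of `SL(2,F)` with trace `2` is `1`;
* `ringEquiv_eq_one`: if `σ² = 1` and `σ` fixes the trace of an element of order `2^n` of `SL(2,F)`,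
  `2^(n+2) ∤ |F|² - 1`, then `σ = 1`.
-/

set_option autoImplicit false

namespace Cfsg.Agent.Classification.QDW.TypeHom

open Matrix Cfsg.Agent.Lib.SL2Mat Cfsg.Agent.Lib.AutSL2

section basics

variable {F : Type*} [Field F]

/-- the trace -/
def tr (x : SpecialLinearGroup (Fin 2) F) : F := x.1 0 0 + x.1 1 1

theorem tr_eq (x : SpecialLinearGroup (Fin 2) F) : tr x = x.1.trace := by
  rw [Matrix.trace_fin_two]; rfl

theorem tr_conjGL (g : GL (Fin 2) F) (x : SpecialLinearGroup (Fin 2) F) :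
    tr (conjGL g x) = tr x := by
  rw [tr_eq, tr_eq, conjGL_val, Matrix.mul_assoc, Matrix.trace_mul_comm, Matrix.mul_assoc,
    inv_val_mul_val, Matrix.mul_one]

theorem tr_fieldAut (σ : F ≃+* F) (x : SpecialLinearGroup (Fin 2) F) :
    tr (fieldAut σ x) = σ (tr x) := by
  change σ (x.1 0 0) + σ (x.1 1 1) = σ (x.1 0 0 + x.1 1 1)
  rw [map_add]

theorem tr_inv (x : SpecialLinearGroup (Fin 2) F) : tr x⁻¹ = tr x := by
  rw [tr, tr, SpecialLinearGroup.SL2_inv_expl]
  simp [add_comm]

theorem exists_tr (a : F) : ∃ x : SpecialLinearGroup (Fin 2) F, tr x = a := by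
  refine ⟨mk a (-1) 1 0 (by ring), ?_⟩
  change a + 0 = a
  rw [add_zero]

theorem cayley (x : SpecialLinearGroup (Fin 2) F) : x.1 * x.1 = tr x • x.1 - 1 := by
  have h : x.1 0 0 * x.1 1 1 - x.1 0 1 * x.1 1 0 = 1 := by
    have := x.2
    rwa [Matrix.det_fin_two] at this
  ext i j
  rw [Matrix.mul_apply, Fin.sum_univ_two, Matrix.sub_apply, Matrix.smul_apply, smul_eq_mul, tr]
  fin_cases i <;> fin_cases j <;> simp
  · linear_combination -h
  · ring
  · ring
  · linear_combination -h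

theorem val_pow (x : SpecialLinearGroup (Fin 2) F) (n : ℕ) : (x ^ n).1 = x.1 ^ n :=
  Matrix.SpecialLinearGroup.coe_pow x n

theorem val_mul (x y : SpecialLinearGroup (Fin 2) F) : (x * y).1 = x.1 * y.1 :=
  Matrix.SpecialLinearGroup.coe_mul x y

theorem val_one : (1 : SpecialLinearGroup (Fin 2) F).1 = 1 := Matrix.SpecialLinearGroup.coe_one

theorem add_inv (x : SpecialLinearGroup (Fin 2) F) : x.1 + x⁻¹.1 = tr x • (1 : Matrix (Fin 2) (Fin 2) F) := by
  rw [SpecialLinearGroup.SL2_inv_expl]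
  ext i j
  rw [Matrix.add_apply, Matrix.smul_apply, smul_eq_mul, tr]
  fin_cases i <;> fin_cases j <;> simp [add_comm]

theorem det_sub_one (x : SpecialLinearGroup (Fin 2) F) : (x.1 - 1).det = 2 - tr x := by
  have h : x.1 0 0 * x.1 1 1 - x.1 0 1 * x.1 1 0 = 1 := by
    have := x.2
    rwa [Matrix.det_fin_two] at this
  rw [Matrix.det_fin_two, tr]
  simp
  linear_combination h

end basics

section typ

variable {F : Type*} [Field F] [Finite F]

theorem exists_typ (α : MulAut (SpecialLinearGroup (Fin 2) F)) :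
    ∃ σ : F ≃+* F, ∀ x, tr (α x) = σ (tr x) := by
  obtain ⟨g, σ, rfl⟩ := Cfsg.Agent.Lib.AutSL2Out.exists_eq α
  exact ⟨σ, fun x => by rw [MulAut.mul_apply, tr_conjGL, tr_fieldAut]⟩

/-- The field automorphism of an automorphism of `SL(2,F)`. -/
noncomputable def typ : MulAut (SpecialLinearGroup (Fin 2) F) →* (F ≃+* F) where
  toFun α := (exists_typ α).choose
  map_one' := by
    ext a
    obtain ⟨x, rfl⟩ := exists_tr a
    rw [← (exists_typ (1 : MulAut (SpecialLinearGroup (Fin 2) F))).choose_spec]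
    rfl
  map_mul' α β := by
    ext a
    obtain ⟨x, rfl⟩ := exists_tr a
    change _ = (exists_typ α).choose ((exists_typ β).choose (tr x))
    rw [← (exists_typ (α * β)).choose_spec, ← (exists_typ β).choose_spec,
      ← (exists_typ α).choose_spec, MulAut.mul_apply]

theorem tr_apply (α : MulAut (SpecialLinearGroup (Fin 2) F)) (x : SpecialLinearGroup (Fin 2) F) :
    tr (α x) = typ α (tr x) := (exists_typ α).choose_spec x

theorem typ_eq {α : MulAut (SpecialLinearGroup (Fin 2) F)} {σ : F ≃+* F}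
    (h : ∀ x, tr (α x) = σ (tr x)) : typ α = σ := by
  ext a
  obtain ⟨x, rfl⟩ := exists_tr a
  rw [← tr_apply, h]

theorem typ_conjGL (g : GL (Fin 2) F) : typ (conjGL g) = 1 :=
  typ_eq fun x => by rw [tr_conjGL]; rfl

theorem typ_fieldAut (σ : F ≃+* F) : typ (fieldAut σ) = σ := typ_eq fun x => tr_fieldAut σ x

theorem typ_eq_one_iff (α : MulAut (SpecialLinearGroup (Fin 2) F)) :
    typ α = 1 ↔ ∃ g : GL (Fin 2) F, α = conjGL g := by
  constructor
  · intro h
    obtain ⟨g, σ, rfl⟩ := Cfsg.Agent.Lib.AutSL2Out.exists_eq α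
    rw [map_mul, typ_conjGL, typ_fieldAut, one_mul] at h
    rw [h, map_one, mul_one]
    exact ⟨g, rfl⟩
  · rintro ⟨g, rfl⟩
    exact typ_conjGL g

end typ

section order

variable {F : Type*} [Field F]

theorem eq_one_of_trace [Finite F] (h2 : (2 : F) ≠ 0) {x : SpecialLinearGroup (Fin 2) F} {n : ℕ}
    (hx : x ^ 2 ^ n = 1) (ht : tr x = 2) : x = 1 := by
  obtain ⟨p, hpc⟩ := CharP.exists F
  have hp : Fact p.Prime := ⟨CharP.char_is_prime F p⟩
  have hp2 : p ≠ 2 := by
    rintro rfl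
    exact h2 (by exact_mod_cast CharP.cast_eq_zero F 2)
  have h1 : (x.1 - 1) * (x.1 - 1) = 0 := by
    have := cayley x
    rw [ht] at this
    rw [sub_mul, mul_sub, this, mul_one, one_mul, two_smul]
    abel
  have h3 : (x.1 - 1) ^ p = 0 := by
    obtain ⟨k, hk⟩ := Nat.exists_eq_add_of_le hp.out.two_le
    rw [hk, pow_add, sq, h1, zero_mul]
  have h4 : x.1 ^ p = 1 := by
    have h5 := sub_pow_char_of_commute (p := p) (x := x.1) (y := 1) (Commute.one_right _)
    rw [h3, one_pow] at h5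
    exact (sub_eq_zero.1 h5.symm)
  have h5 : x ^ p = 1 := Subtype.ext (by rw [val_pow]; exact h4)
  have h6 : orderOf x ∣ 2 ^ n := orderOf_dvd_of_pow_eq_one hx
  have h7 : orderOf x ∣ p := orderOf_dvd_of_pow_eq_one h5
  have h8 : Nat.Coprime (2 ^ n) p :=
    Nat.Coprime.pow_left _ ((Nat.coprime_primes Nat.prime_two hp.out).2 hp2.symm)
  have h9 := Nat.dvd_gcd h6 h7
  rw [h8] at h9
  exact orderOf_eq_one_iff.1 (Nat.dvd_one.1 h9)

/-- If `σ² = 1 ≠ σ` then `|F|` is the square of the number of fixed points. -/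
theorem exists_fixed_card [Finite F] {σ : F ≃+* F} (hσ : σ * σ = 1) (hσ1 : σ ≠ 1) :
    ∃ K : Subfield F, (∀ a, a ∈ K ↔ σ a = a) ∧ Nat.card F = Nat.card K ^ 2 := by
  classical
  let K : Subfield F := RingHom.eqLocusField σ.toRingHom (RingHom.id F)
  have hK : ∀ a, a ∈ K ↔ σ a = a := fun a => Iff.rfl
  refine ⟨K, hK, ?_⟩
  have hss : ∀ a, σ (σ a) = a := fun a => by
    have := DFunLike.congr_fun hσ a
    exact this
  obtain ⟨b, hb⟩ : ∃ b, σ b ≠ b := by
    by_contra h
    push Not at h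
    exact hσ1 (RingEquiv.ext h)
  set δ : F := b - σ b with hδ
  have hδ0 : δ ≠ 0 := sub_ne_zero.2 (Ne.symm hb)
  have hδσ : σ δ = -δ := by rw [hδ, map_sub, hss]; ring
  by_cases h2 : (2 : F) = 0
  · -- characteristic two: `b + σ b ≠ 0`, `b` is a basis element
    have hδK : σ δ = δ := by
      rw [hδσ]
      linear_combination (-δ) * h2
    let f : K × K ≃ F :=
      { toFun := fun p => p.1 + p.2 * b
        invFun := fun a => (⟨a - (a - σ a) / δ * b, by
          rw [hK, map_sub, map_mul, map_div₀, map_sub, hss, hδK]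
          field_simp
          rw [hδ]
          linear_combination ((a - σ a) * σ b) * h2⟩, ⟨(a - σ a) / δ, by
          rw [hK, map_div₀, map_sub, hss, hδK]
          field_simp
          linear_combination (-(a - σ a)) * h2⟩)
        left_inv := by
          rintro ⟨⟨a, ha⟩, ⟨c, hc⟩⟩
          rw [hK] at ha hc
          have h3 : (a + c * b - σ (a + c * b)) / δ = c := by
            rw [map_add, map_mul, ha, hc, hδ]
            have : b - σ b ≠ 0 := hδ0
            field_simp
            ring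
          refine Prod.ext (Subtype.ext ?_) (Subtype.ext ?_)
          · change a + c * b - (a + c * b - σ (a + c * b)) / δ * b = a
            rw [h3]; ring
          · exact h3
        right_inv := by
          intro a
          change a - (a - σ a) / δ * b + (a - σ a) / δ * b = a
          ring }
    rw [← Nat.card_congr f, Nat.card_prod, sq]
  · let f : K × K ≃ F :=
      { toFun := fun p => p.1 + p.2 * δ
        invFun := fun a => (⟨(a + σ a) / 2, by
          rw [hK, map_div₀, map_add, hss, map_ofNat, add_comm]⟩, ⟨(a - σ a) / 2 / δ, by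
          rw [hK, map_div₀, map_div₀, map_sub, hss, hδσ, map_ofNat]
          field_simp
          ring⟩)
        left_inv := by
          rintro ⟨⟨a, ha⟩, ⟨c, hc⟩⟩
          rw [hK] at ha hc
          have h3 : σ (a + c * δ) = a - c * δ := by rw [map_add, map_mul, ha, hc, hδσ]; ring
          refine Prod.ext (Subtype.ext ?_) (Subtype.ext ?_)
          · change (a + c * δ + σ (a + c * δ)) / 2 = a
            rw [h3]
            field_simp
            ring
          · change (a + c * δ - σ (a + c * δ)) / 2 / δ = c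
            rw [h3]
            field_simp
            ring
        right_inv := by
          intro a
          change (a + σ a) / 2 + (a - σ a) / 2 / δ * δ = a
          field_simp
          ring }
    rw [← Nat.card_congr f, Nat.card_prod, sq]

theorem ringEquiv_eq_one [Finite F] (h2 : (2 : F) ≠ 0) {x : SpecialLinearGroup (Fin 2) F} {n : ℕ}
    (hx : orderOf x = 2 ^ n) (hq : ¬ 2 ^ (n + 2) ∣ Nat.card F ^ 2 - 1) {σ : F ≃+* F} (hσ : σ * σ = 1)
    (ht : σ (tr x) = tr x) : σ = 1 := by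
  by_contra hσ1
  obtain ⟨K, hK, hKF⟩ := exists_fixed_card hσ hσ1
  obtain ⟨p, hpc⟩ := CharP.exists F
  have hp : Fact p.Prime := ⟨CharP.char_is_prime F p⟩
  have hp2 : p ≠ 2 := by
    rintro rfl
    exact h2 (by exact_mod_cast CharP.cast_eq_zero F 2)
  have hpK : CharP K p := (CharP.subring F p K.toSubring)
  let _ : Fintype K := Fintype.ofFinite K
  obtain ⟨k, hk0, hk⟩ := FiniteField.card K p
  set q₀ := Nat.card K with hq₀
  have hq₀k : q₀ = p ^ (k : ℕ) := by rw [hq₀, Nat.card_eq_fintype_card, hk]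
  have hodd : Odd q₀ := by
    rw [hq₀k]
    exact (hp.out.odd_of_ne_two hp2).pow
  have hxx : x ^ 2 ^ n = 1 := by rw [← hx, pow_orderOf_eq_one]
  -- `X^{q₀}` has the same characteristic polynomial
  set τ := tr x with hτ
  have hτK : τ ^ q₀ = τ := by
    have h3 : τ ∈ K := (hK τ).2 ht
    have h4 := FiniteField.pow_card (⟨τ, h3⟩ : K)
    have h5 := congrArg Subtype.val h4
    rw [hq₀, Nat.card_eq_fintype_card]
    simpa using h5
  have hY : x.1 ^ q₀ * x.1 ^ q₀ = τ • x.1 ^ q₀ - 1 := by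
    have h3 : (x.1 * x.1) ^ q₀ = (τ • x.1 - 1) ^ q₀ := by rw [cayley x]
    have h4 : (τ • x.1 - 1) ^ q₀ = (τ • x.1) ^ q₀ - 1 := by
      rw [hq₀k, sub_pow_char_pow_of_commute (p := p) (x := τ • x.1) (y := 1) _ (Commute.one_right _), one_pow]
    rw [h4, smul_pow, hτK] at h3
    rw [← h3, (Commute.refl x.1).mul_pow]
  -- `(A - 1) (B - 1) = 0`
  have hq1 : 1 ≤ q₀ := hodd.pos
  have hAB : ((x ^ (q₀ - 1)).1 - 1) * ((x ^ (q₀ + 1)).1 - 1) = 0 := by
    rw [val_pow, val_pow]
    obtain ⟨m, hm⟩ := Nat.exists_eq_add_of_le hq1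
    have hm' : q₀ - 1 = m := by omega
    rw [hm']
    set X := x.1 with hX
    set Xi := x⁻¹.1 with hXi
    have hXXi : X * Xi = 1 := by
      rw [hX, hXi, ← val_mul, mul_inv_cancel, val_one]
    have hXiX : Xi * X = 1 := by
      rw [hX, hXi, ← val_mul, inv_mul_cancel, val_one]
    have hsum : X + Xi = τ • (1 : Matrix (Fin 2) (Fin 2) F) := add_inv x
    set Y := X ^ q₀ with hYd
    have hYm : X ^ m * X = Y := by rw [← pow_succ, hYd, hm, add_comm]
    have hXY : X * Y = Y * X := ((Commute.refl X).pow_right _).eq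
    -- `(Y - X) (Y - Xi) = 0`
    have h3 : (Y - X) * (Y - Xi) = 0 := by
      have h4 : Y * (X + Xi) = τ • Y := by rw [hsum, Matrix.mul_smul, Matrix.mul_one]
      rw [sub_mul, mul_sub, mul_sub, hY, hXY, hXXi]
      rw [mul_add] at h4
      rw [← h4]
      abel
    have h5 : X ^ m - 1 = (Y - X) * Xi := by
      rw [sub_mul, hXXi, ← hYm, mul_assoc, hXXi, mul_one]
    have h6 : X ^ (q₀ + 1) - 1 = X * (Y - Xi) := by
      rw [mul_sub, hXXi, hYd, ← pow_succ']
    rw [h5, h6, mul_assoc, ← mul_assoc Xi, hXiX, one_mul, h3]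
  have hdet := congrArg Matrix.det hAB
  rw [Matrix.det_mul, Matrix.det_zero, mul_eq_zero, det_sub_one, det_sub_one] at hdet
  have hpw : ∀ m : ℕ, (x ^ m) ^ 2 ^ n = 1 := fun m => by rw [← pow_mul, mul_comm, pow_mul, hxx, one_pow]
  have hcase : 2 ^ n ∣ q₀ - 1 ∨ 2 ^ n ∣ q₀ + 1 := by
    rw [← hx]
    rcases hdet with h | h
    · left
      exact orderOf_dvd_of_pow_eq_one (eq_one_of_trace h2 (hpw _) (sub_eq_zero.1 h).symm)
    · right
      exact orderOf_dvd_of_pow_eq_one (eq_one_of_trace h2 (hpw _) (sub_eq_zero.1 h).symm)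
  obtain ⟨m, hm⟩ := hodd
  have h7 : 2 ^ (n + 1) ∣ q₀ ^ 2 - 1 := by
    have h8 : q₀ ^ 2 - 1 = (q₀ - 1) * (q₀ + 1) := by
      rw [hm]
      have e1 : 2 * m + 1 - 1 = 2 * m := by omega
      have e2 : (2 * m + 1) ^ 2 = 2 * m * (2 * m + 1 + 1) + 1 := by ring
      rw [e1, e2]; omega
    rw [h8]
    rcases hcase with h | h
    · rw [pow_succ]
      exact mul_dvd_mul h ⟨m + 1, by rw [hm]; ring⟩
    · rw [pow_succ']
      exact mul_dvd_mul ⟨m, by rw [hm]; omega⟩ h
  apply hq
  rw [hKF]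
  have h9 : (q₀ ^ 2) ^ 2 - 1 = (q₀ ^ 2 - 1) * (q₀ ^ 2 + 1) := by
    have e3 : 1 ≤ q₀ ^ 2 := Nat.one_le_pow _ _ hq1
    obtain ⟨c, hc⟩ := Nat.exists_eq_add_of_le e3
    rw [hc]
    have e1 : 1 + c - 1 = c := by omega
    have e2 : (1 + c) ^ 2 = c * (1 + c + 1) + 1 := by ring
    rw [e1, e2]; omega
  rw [h9, show n + 2 = n + 1 + 1 from rfl, pow_succ 2 (n + 1)]
  refine mul_dvd_mul h7 ⟨2 * m ^ 2 + 2 * m + 1, ?_⟩
  rw [hm]; ring

end order

end Cfsg.Agent.Classification.QDW.TypeHom
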