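import Mathlib
import Cfsg.Agent.S0281
import Cfsg.Agent.Classification.QDW.TypeHom
import Cfsg.Agent.Classification.InvCent.GUTwo

/-!
# The isomorphism `SL(2,q) ≃ SU(2,q)` preserves traces

The proof is that of `S0281`.
-/

set_option autoImplicit false

namespace Cfsg.Agent.Classification.QDW.SUTwoTrace

open Cfsg Matrix Cfsg.Agent.LieClassical.HermBasic

theorem exists_hom {F K : Type*} [Field F] [Fintype F] [Field K] [Fintype K] {q : ℕ}
    (hF : Fintype.card F = q ^ 2) (hK : Fintype.card K = q) :
    ∃ (f : K →+* F) (g : SpecialLinearGroup (Fin 2) K →* SpecialLinearGroup (Fin 2) F),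
      Function.Injective g ∧ g.range = SU 2 F q ∧ ∀ M, (g M).1.trace = f M.1.trace := by
  classical
  -- the fixed field
  let K₀ : Subfield F :=
    { carrier := {x | x ^ q = x}
      mul_mem' := fun {a b} ha hb => by
        simp only [Set.mem_setOf_eq] at *; rw [mul_pow, ha, hb]
      one_mem' := one_pow q
      add_mem' := fun {a b} ha hb => by
        simp only [Set.mem_setOf_eq] at *; rw [add_pow_q hF, ha, hb]
      zero_mem' := zero_pow_q hF
      neg_mem' := fun {a} ha => by
        simp only [Set.mem_setOf_eq] at *; rw [neg_pow_q hF, ha]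
      inv_mem' := fun a ha => by
        simp only [Set.mem_setOf_eq] at *; rw [inv_pow, ha] }
  have hmem : ∀ x : F, x ∈ K₀ ↔ x ^ q = x := fun x => Iff.rfl
  have hcard : Fintype.card K = Fintype.card K₀ := by
    rw [hK, ← Nat.card_eq_fintype_card]
    exact (card_fixed hF).symm
  let e : K ≃+* K₀ := FiniteField.ringEquivOfCardEq hcard
  let f : K →+* F := K₀.subtype.comp e.toRingHom
  have hf : ∀ x : F, x ^ q = x → ∃ y : K, f y = x := by
    intro x hx
    refine ⟨e.symm ⟨x, hx⟩, ?_⟩
    simp [f]
  have hf' : ∀ y : K, f y ^ q = f y := fun y => (e y).2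
  have hfinj : Function.Injective f := f.injective
  -- the conjugating matrix
  obtain ⟨s, hs⟩ := exists_not_fixed hF
  obtain ⟨t, ht0, ht⟩ := exists_norm_eq_ne hF (c := -1) (by rw [neg_pow_q hF, one_pow])
    (neg_ne_zero.2 one_ne_zero)
  have hD : s - s ^ q ≠ 0 := sub_ne_zero.2 (Ne.symm hs)
  let P : Matrix (Fin 2) (Fin 2) F := !![s, t * s ^ q; 1, t]
  let J : Matrix (Fin 2) (Fin 2) F := !![0, -1; 1, 0]
  have hPdet : P.det = t * (s - s ^ q) := by
    simp only [P, Matrix.det_fin_two_of]; ring
  have hPunit : IsUnit P.det := by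
    rw [hPdet]; exact (mul_ne_zero ht0 hD).isUnit
  have hJdet : J.det = 1 := by simp [J, Matrix.det_fin_two_of]
  have hJunit : IsUnit J.det := by rw [hJdet]; exact isUnit_one
  set Q := P⁻¹ with hQ
  have hPQ : P * Q = 1 := Matrix.mul_nonsing_inv P hPunit
  have hQP : Q * P = 1 := Matrix.nonsing_inv_mul P hPunit
  set c : F →+* F := (conj hF).toRingHom with hc
  have hcapp : ∀ x, c x = x ^ q := fun x => rfl
  have htq : t ^ q = -t⁻¹ := by
    field_simp
    linear_combination ht
  have hPc : P.map c = t⁻¹ • (P * J) := by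
    ext i j
    fin_cases i <;> fin_cases j
    · simp [P, J, hcapp]
      field_simp
    · simp [P, J, hcapp, mul_pow, pow_q_pow_q hF, htq]
    · simp [P, J, hcapp, ht0]
    · simp [P, J, hcapp, htq]
  -- the homomorphism
  let g : SpecialLinearGroup (Fin 2) K →* SpecialLinearGroup (Fin 2) F :=
    (Cfsg.Agent.S0281.conjSL P Q hPQ hQP).comp (SpecialLinearGroup.map f)
  have hg : ∀ M, (g M).1 = Q * M.1.map f * P := fun M => rfl
  have hginj : Function.Injective g := by
    intro M N h
    have h1 : Q * M.1.map f * P = Q * N.1.map f * P := by rw [← hg, ← hg, h]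
    have h2 : P * (Q * M.1.map f * P) * Q = P * (Q * N.1.map f * P) * Q := by rw [h1]
    have h3 : ∀ X : Matrix (Fin 2) (Fin 2) F, P * (Q * X * P) * Q = X := by
      intro X
      calc P * (Q * X * P) * Q = (P * Q) * X * (P * Q) := by simp only [Matrix.mul_assoc]
        _ = X := by rw [hPQ, Matrix.one_mul, Matrix.mul_one]
    rw [h3, h3] at h2
    apply Subtype.ext
    ext i j
    exact hfinj (by simpa using congrFun (congrFun h2 i) j)
  -- membership in SU, by matrices
  have hSU : ∀ A : SpecialLinearGroup (Fin 2) F, A ∈ SU 2 F q ↔ J * A.1.map c = A.1 * J := by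
    intro A
    rw [Cfsg.Agent.S0281.mem_SU_two_iff hF]
    constructor
    · rintro ⟨h1, h2⟩
      have h3 : (A.1 1 1) ^ q = A.1 0 0 := by rw [← h1, pow_q_pow_q hF]
      have h4 : (A.1 1 0) ^ q = -A.1 0 1 := by
        have : A.1 1 0 = -(A.1 0 1) ^ q := by rw [h2, neg_neg]
        rw [this, neg_pow_q hF, pow_q_pow_q hF]
      ext i j
      fin_cases i <;> fin_cases j <;>
        simp [J, hcapp, Matrix.mul_apply, Fin.sum_univ_two, h1, h2, h3, h4]
    · intro h
      have h1 := congrFun (congrFun h 1) 0
      have h2 := congrFun (congrFun h 1) 1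
      simp [J, hcapp, Matrix.mul_apply, Fin.sum_univ_two] at h1 h2
      exact ⟨h1, h2⟩
  have hPJ : IsUnit (P * J).det := by rw [Matrix.det_mul]; exact hPunit.mul hJunit
  -- key equivalence
  have hkey : ∀ A B : Matrix (Fin 2) (Fin 2) F, B * P = P * A →
      (B.map c = B ↔ J * A.map c = A * J) := by
    intro A B hBA
    have h1 : B.map c * P.map c = P.map c * A.map c := by
      rw [← Matrix.map_mul, ← Matrix.map_mul, hBA]
    rw [hPc, Matrix.mul_smul, Matrix.smul_mul] at h1
    have h2 : B.map c * (P * J) = P * J * A.map c := by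
      have := congrArg (fun X => t • X) h1
      simpa [smul_smul, mul_inv_cancel₀ ht0] using this
    constructor
    · intro hB
      rw [hB] at h2
      have h3 : P * (J * A.map c) = P * (A * J) := by
        rw [← Matrix.mul_assoc, ← h2, ← Matrix.mul_assoc, hBA, Matrix.mul_assoc]
      have h4 := congrArg (fun X => Q * X) h3
      simpa only [← Matrix.mul_assoc, hQP, Matrix.one_mul] using h4
    · intro hA
      rw [Matrix.mul_assoc P, hA, ← Matrix.mul_assoc P, ← hBA, Matrix.mul_assoc B] at h2
      have h4 := congrArg (fun X => X * (P * J)⁻¹) h2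
      simpa only [Matrix.mul_assoc, Matrix.mul_nonsing_inv _ hPJ, Matrix.mul_one] using h4
  have hrange : g.range = SU 2 F q := by
    ext A
    constructor
    · rintro ⟨M, rfl⟩
      rw [hSU]
      refine (hkey _ (M.1.map f) ?_).1 ?_
      · rw [hg]
        calc M.1.map f * P = (P * Q) * (M.1.map f * P) := by rw [hPQ, Matrix.one_mul]
          _ = _ := by simp only [Matrix.mul_assoc]
      · ext i j
        simp [hcapp, hf']
    · intro hA
      rw [hSU] at hA
      set B := P * A.1 * Q with hB
      have hBP : B * P = P * A.1 := by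
        rw [hB, Matrix.mul_assoc, hQP, Matrix.mul_one]
      have hBc := (hkey A.1 B hBP).2 hA
      have hBe : ∀ i j, ∃ y : K, f y = B i j := by
        intro i j
        refine hf _ ?_
        have := congrFun (congrFun hBc i) j
        simpa [hcapp] using this
      choose N hN using hBe
      have hNB : (Matrix.of N).map f = B := by
        ext i j; exact hN i j
      have hdetN : (Matrix.of N).det = 1 := by
        apply hfinj
        rw [RingHom.map_det, map_one]
        change ((Matrix.of N).map f).det = 1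
        rw [hNB, hB, Matrix.det_mul, Matrix.det_mul, A.2, mul_one, ← Matrix.det_mul, hPQ,
          Matrix.det_one]
      refine ⟨⟨Matrix.of N, hdetN⟩, ?_⟩
      apply Subtype.ext
      refine (hg ⟨Matrix.of N, hdetN⟩).trans ?_
      change Q * (Matrix.of N).map f * P = A.1
      rw [hNB, Matrix.mul_assoc, hBP, ← Matrix.mul_assoc, hQP, Matrix.one_mul]
  refine ⟨f, g, hginj, hrange, fun M => ?_⟩
  rw [hg, Matrix.mul_assoc, Matrix.trace_mul_comm, Matrix.mul_assoc, hPQ, Matrix.mul_one]
  rw [Matrix.trace_fin_two, Matrix.trace_fin_two, map_add]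
  rfl


/-- The embedding of `SL(2,K)` in `GU(2,q)`. -/
theorem exists_hom_GU {F K : Type*} [Field F] [Fintype F] [Field K] [Fintype K] {q : ℕ}
    (hF : Fintype.card F = q ^ 2) (hK : Fintype.card K = q) :
    ∃ (f : K →+* F) (j : SpecialLinearGroup (Fin 2) K →* Cfsg.GU 2 F q),
      Function.Injective j ∧ (∀ s, GeneralLinearGroup.det (j s : GL (Fin 2) F) = 1) ∧
      (∀ g : Cfsg.GU 2 F q, GeneralLinearGroup.det (g : GL (Fin 2) F) = 1 → ∃ s, j s = g) ∧
      ∀ s, (j s).1.1.trace = f (TypeHom.tr s) := by
  obtain ⟨f, g, hginj, hrange, htr⟩ := exists_hom hF hK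
  have hmem : ∀ s, SpecialLinearGroup.toGL (g s) ∈ Cfsg.GU 2 F q := by
    intro s
    have : g s ∈ SU 2 F q := by rw [← hrange]; exact ⟨s, rfl⟩
    exact this
  refine ⟨f, (SpecialLinearGroup.toGL.comp g).codRestrict (Cfsg.GU 2 F q) hmem, ?_, ?_, ?_, ?_⟩
  · intro a b hab
    apply hginj
    have h1 : SpecialLinearGroup.toGL (g a) = SpecialLinearGroup.toGL (g b) := congrArg Subtype.val hab
    apply Subtype.ext
    exact congrArg (fun x : GL (Fin 2) F => x.1) h1
  · intro s
    ext
    rw [GeneralLinearGroup.val_det_apply]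
    exact (g s).2
  · intro x hx
    have hd : x.1.1.det = 1 := by
      have := congrArg (fun u : Fˣ => (u : F)) hx
      rwa [GeneralLinearGroup.val_det_apply] at this
    have h1 : (⟨x.1.1, hd⟩ : SpecialLinearGroup (Fin 2) F) ∈ SU 2 F q := x.2
    rw [← hrange] at h1
    obtain ⟨s, hs⟩ := h1
    refine ⟨s, Subtype.ext (Units.ext ?_)⟩
    exact congrArg Subtype.val hs
  · intro s
    rw [TypeHom.tr_eq]
    exact htr s

end Cfsg.Agent.Classification.QDW.SUTwoTrace
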