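import Mathlib
import Cfsg.Agent.Classification.RTwo.ExtHom
import Cfsg.Agent.Classification.QDW.TypeHom

/-!
# Uniqueness of the extension `SL(2,F).2` with an involution outside

* `Ext M L e y`: `M = L ∪ L y`, `e : L ≃* SL(2,F)`, `y² = 1`, `y ∉ L`, `C_M(L) ≤ L`, `y` acts as an
  element of `GL(2,F)`;
* `Ext.nonempty_mulEquiv`: any two such groups are isomorphic;
* `Model j Z₀ y₀`, `Model.exists_ext`: quotients of central products.
-/

set_option autoImplicit false
set_option linter.unusedSectionVars false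

namespace Cfsg.Agent.Classification.QDW.StructUniq

open Subgroup Matrix Cfsg.Agent.Lib.SL2Mat Cfsg.Agent.Lib.AutSL2 Cfsg.Agent.Classification.QDW.TypeHom
  Cfsg.Agent.Classification.RTwo

section matrix

variable {F : Type*} [Field F]

theorem det_eq' (g : GL (Fin 2) F) : g.1.det = g.1 0 0 * g.1 1 1 - g.1 0 1 * g.1 1 0 :=
  Matrix.det_fin_two _

theorem det_ne (g : GL (Fin 2) F) : g.1.det ≠ 0 := (Matrix.GeneralLinearGroup.det g).ne_zero

/-- the kernel of `conjGL` -/
theorem scalar_of_conjGL {g : GL (Fin 2) F} (h : conjGL g = 1) :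
    g.1 0 1 = 0 ∧ g.1 1 0 = 0 ∧ g.1 0 0 = g.1 1 1 := by
  have key : ∀ x : SpecialLinearGroup (Fin 2) F, g.1 * x.1 = x.1 * g.1 := by
    intro x
    have h1 : (conjGL g x).1 = x.1 := by rw [h]; rfl
    rw [conjGL_val] at h1
    calc g.1 * x.1 = g.1 * x.1 * (g⁻¹.1 * g.1) := by rw [inv_val_mul_val, Matrix.mul_one]
      _ = (g.1 * x.1 * g⁻¹.1) * g.1 := by simp only [Matrix.mul_assoc]
      _ = x.1 * g.1 := by rw [h1]
  have h1 := key (up 1)
  have h2 := key (lo 1)
  have u00 : (up (1 : F)).1 0 0 = 1 := rfl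
  have u01 : (up (1 : F)).1 0 1 = 1 := rfl
  have u10 : (up (1 : F)).1 1 0 = 0 := rfl
  have u11 : (up (1 : F)).1 1 1 = 1 := rfl
  have l00 : (lo (1 : F)).1 0 0 = 1 := rfl
  have l01 : (lo (1 : F)).1 0 1 = 0 := rfl
  have l10 : (lo (1 : F)).1 1 0 = 1 := rfl
  have l11 : (lo (1 : F)).1 1 1 = 1 := rfl
  have e1 := congrFun (congrFun h1 0) 0
  have e2 := congrFun (congrFun h1 0) 1
  have e3 := congrFun (congrFun h2 0) 0
  rw [Matrix.mul_apply, Matrix.mul_apply, Fin.sum_univ_two, Fin.sum_univ_two] at e1 e2 e3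
  rw [u00, u01, u10] at e1
  rw [u00, u01, u11] at e2
  rw [l00, l01, l10] at e3
  refine ⟨?_, ?_, ?_⟩
  · linear_combination e3
  · linear_combination -e1
  · linear_combination e2

theorem conjGL_of_scalar {g : GL (Fin 2) F} (h01 : g.1 0 1 = 0) (h10 : g.1 1 0 = 0)
    (h : g.1 0 0 = g.1 1 1) : conjGL g = 1 := by
  apply MulEquiv.ext
  intro x
  apply Subtype.ext
  have h1 : g.1 * x.1 = x.1 * g.1 := by
    ext i j
    rw [Matrix.mul_apply, Matrix.mul_apply, Fin.sum_univ_two, Fin.sum_univ_two]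
    fin_cases i <;> fin_cases j <;> simp [h01, h10, h, mul_comm]
  rw [conjGL_val, h1, Matrix.mul_assoc]
  have h2 : g.1 * g⁻¹.1 = 1 := by rw [← Units.val_mul, mul_inv_cancel, Units.val_one]
  rw [h2, Matrix.mul_one]
  rfl

/-- A matrix inducing an involution has trace zero. -/
theorem tr_eq_zero {g : GL (Fin 2) F} (h : conjGL (g * g) = 1) (h1 : conjGL g ≠ 1) :
    g.1 0 0 + g.1 1 1 = 0 := by
  obtain ⟨h01, h10, h00⟩ := scalar_of_conjGL h
  rw [Units.val_mul, Matrix.mul_apply, Fin.sum_univ_two] at h01 h10 h00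
  rw [Matrix.mul_apply, Fin.sum_univ_two] at h00
  by_contra ht
  apply h1
  have e1 : g.1 0 1 * (g.1 0 0 + g.1 1 1) = 0 := by linear_combination h01
  have e2 : g.1 1 0 * (g.1 0 0 + g.1 1 1) = 0 := by linear_combination h10
  have e3 : (g.1 0 0 - g.1 1 1) * (g.1 0 0 + g.1 1 1) = 0 := by linear_combination h00
  exact conjGL_of_scalar ((mul_eq_zero.1 e1).resolve_right ht) ((mul_eq_zero.1 e2).resolve_right ht)
    (sub_eq_zero.1 ((mul_eq_zero.1 e3).resolve_right ht))

/-- a matrix with given rows -/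
noncomputable def gmk (a b c d : F) (h : a * d - b * c ≠ 0) : GL (Fin 2) F :=
  GeneralLinearGroup.mkOfDetNeZero !![a, b; c, d] (by rw [det_fin_two_of]; exact h)

theorem gmk_val (a b c d : F) (h : a * d - b * c ≠ 0) : (gmk a b c d h).1 = !![a, b; c, d] := rfl

/-- A trace zero matrix is conjugate to `(0, 1; -δ, 0)`. -/
theorem exists_conj_comp (h2 : (2 : F) ≠ 0) (g : GL (Fin 2) F) (ht : g.1 0 0 + g.1 1 1 = 0)
    {δ : F} (hδ : g.1.det = δ) :
    ∃ x : GL (Fin 2) F, x.1 * g.1 = !![0, 1; -δ, 0] * x.1 := by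
  have hd := det_eq' g
  rw [hδ] at hd
  have hδ0 : δ ≠ 0 := by rw [← hδ]; exact det_ne g
  have key : ∀ r s : F, ∀ h : r * (r * g.1 0 1 + s * g.1 1 1) - s * (r * g.1 0 0 + s * g.1 1 0) ≠ 0,
      ∃ x : GL (Fin 2) F, x.1 * g.1 = !![0, 1; -δ, 0] * x.1 := by
    intro r s h
    refine ⟨gmk r s (r * g.1 0 0 + s * g.1 1 0) (r * g.1 0 1 + s * g.1 1 1) h, ?_⟩
    rw [gmk_val]
    ext i j
    rw [Matrix.mul_apply, Matrix.mul_apply, Fin.sum_univ_two, Fin.sum_univ_two]
    fin_cases i <;> fin_cases j <;> simp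
    · linear_combination (r * g.1 0 0 + s * g.1 1 0) * ht + r * hd
    · linear_combination (r * g.1 0 1 + s * g.1 1 1) * ht + s * hd
  by_cases hb : g.1 0 1 = 0
  · by_cases hc : g.1 1 0 = 0
    · apply key 1 1
      intro h
      have h3 : g.1 0 0 = 0 := by
        have : 2 * g.1 0 0 = 0 := by linear_combination (-1 : F) * h + ht + hb - hc
        exact (mul_eq_zero.1 this).resolve_left h2
      apply hδ0
      rw [hd, h3, hb]; ring
    · apply key 0 1
      intro h
      apply hc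
      linear_combination -h
  · apply key 1 0
    intro h
    apply hb
    linear_combination h

/-- the scalar matrix -/
noncomputable def sc (c : F) (hc : c ≠ 0) : GL (Fin 2) F := gmk c 0 0 c (by simpa using hc)

theorem conjGL_sc (c : F) (hc : c ≠ 0) : conjGL (sc c hc) = 1 := by
  apply conjGL_of_scalar <;> simp [sc, gmk_val]

theorem exists_conj (h2 : (2 : F) ≠ 0) {g g' : GL (Fin 2) F} (ht : g.1 0 0 + g.1 1 1 = 0)
    (ht' : g'.1 0 0 + g'.1 1 1 = 0) (hd : IsSquare (g.1.det * g'.1.det)) :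
    ∃ x : GL (Fin 2) F, conjGL x * conjGL g = conjGL g' * conjGL x := by
  obtain ⟨d, hd⟩ := hd
  -- `c² det g = det g'`
  have hg0 := det_ne g
  have hg'0 := det_ne g'
  set c : F := d / g.1.det with hc
  have hd0 : d ≠ 0 := by
    rintro rfl
    rw [mul_zero] at hd
    exact mul_ne_zero hg0 hg'0 hd
  have hc0 : c ≠ 0 := div_ne_zero hd0 hg0
  have hcd : c * c * g.1.det = g'.1.det := by
    rw [hc]
    field_simp
    linear_combination -hd
  set k := sc c hc0 * g with hk
  have hkval : k.1 = c • g.1 := by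
    rw [hk, Units.val_mul, sc, gmk_val]
    ext i j
    rw [Matrix.mul_apply, Fin.sum_univ_two]
    fin_cases i <;> simp
  have hkt : k.1 0 0 + k.1 1 1 = 0 := by
    rw [hkval, Matrix.smul_apply, Matrix.smul_apply, smul_eq_mul, smul_eq_mul]
    linear_combination c * ht
  have hkd : k.1.det = g'.1.det := by
    rw [hkval, Matrix.det_smul, Fintype.card_fin, sq, hcd]
  obtain ⟨x, hx⟩ := exists_conj_comp h2 k hkt hkd
  obtain ⟨x', hx'⟩ := exists_conj_comp h2 g' ht' rfl
  refine ⟨x'⁻¹ * x, ?_⟩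
  have h3 : x'⁻¹ * x * k = g' * (x'⁻¹ * x) := by
    have e1 : x * k = x' * g' * x'⁻¹ * x := by
      apply Units.ext
      rw [Units.val_mul, hx, Units.val_mul, Units.val_mul, Units.val_mul, hx']
      have : !![0, 1; -g'.1.det, 0] * x'.1 * x'⁻¹.1 = (!![0, 1; -g'.1.det, 0] : Matrix (Fin 2) (Fin 2) F) := by
        rw [Matrix.mul_assoc, ← Units.val_mul, mul_inv_cancel, Units.val_one, Matrix.mul_one]
      rw [this]
    rw [mul_assoc, e1]
    group
  have h4 : conjGL g = conjGL k := by rw [hk, map_mul, conjGL_sc, one_mul]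
  rw [h4, ← map_mul, h3, map_mul]

end matrix

section ext

variable {F : Type*} [Field F]

/-- `M = L ∪ L y`, `y² = 1`, `y ∉ L`. -/
structure Ext {M : Type*} [Group M] (L : Subgroup M) (e : L ≃* SpecialLinearGroup (Fin 2) F)
    (y : M) : Prop where
  normal : L.Normal
  y_mul_y : y * y = 1
  y_not_mem : y ∉ L
  cover : ∀ m, m ∈ L ∨ m * y ∈ L
  cent : ∀ c : M, (∀ l ∈ L, c * l = l * c) → c ∈ L
  act : ∃ g : GL (Fin 2) F, ∀ l : L, y * l * y⁻¹ = e.symm (conjGL g (e l))

variable {M : Type*} [Group M] {L : Subgroup M} {e : L ≃* SpecialLinearGroup (Fin 2) F} {y : M}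

/-- the matrix of `y` -/
theorem Ext.exists_matrix (h : Ext L e y) :
    ∃ g : GL (Fin 2) F, (∀ l : L, y * l * y⁻¹ = e.symm (conjGL g (e l))) ∧
      g.1 0 0 + g.1 1 1 = 0 ∧ ¬ IsSquare g.1.det := by
  obtain ⟨g, hg⟩ := h.act
  have hn := h.normal
  have hyinv : y⁻¹ = y := inv_eq_of_mul_eq_one_right h.y_mul_y
  have hyy : ∀ m : M, y * (y * m * y⁻¹) * y⁻¹ = m := by
    intro m
    calc y * (y * m * y⁻¹) * y⁻¹ = (y * y) * m * (y * y)⁻¹ := by group
      _ = m := by rw [h.y_mul_y]; simp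
  have h1 : conjGL g ≠ 1 := by
    intro h1
    apply h.y_not_mem
    apply h.cent
    intro l hl
    have h3 := hg ⟨l, hl⟩
    rw [h1, MulAut.one_apply, e.symm_apply_apply] at h3
    calc y * l = (y * l * y⁻¹) * y := by group
      _ = l * y := by rw [h3]
  refine ⟨g, hg, tr_eq_zero ?_ h1, ?_⟩
  · apply MulEquiv.ext
    intro x
    rw [map_mul, MulAut.mul_apply, MulAut.one_apply]
    apply e.symm.injective
    apply Subtype.ext
    have h3 := hg (e.symm (conjGL g x))
    rw [e.apply_symm_apply] at h3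
    have h4 := hg (e.symm x)
    rw [e.apply_symm_apply] at h4
    rw [← h3, ← h4]
    exact hyy _
  · rintro ⟨d, hd⟩
    have hd0 : d ≠ 0 := by
      rintro rfl
      rw [mul_zero] at hd
      exact det_ne g hd
    obtain ⟨s, hs⟩ := Cfsg.Agent.Lib.AutSL2Out.conjGL_of_det_sq g d hd0 (by rw [hd, sq])
    apply h.y_not_mem
    have h3 : ((e.symm s : L) : M)⁻¹ * y ∈ L := by
      apply h.cent
      intro l hl
      have h4 := hg ⟨l, hl⟩
      rw [hs, map_mul, map_mul, map_inv, e.symm_apply_apply] at h4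
      change y * l * y⁻¹ = (e.symm s : L) * l * ((e.symm s : L) : M)⁻¹ at h4
      calc ((e.symm s : L) : M)⁻¹ * y * l = ((e.symm s : L) : M)⁻¹ * (y * l * y⁻¹) * y := by group
        _ = l * (((e.symm s : L) : M)⁻¹ * y) := by rw [h4]; group
    have := mul_mem (e.symm s).2 h3
    rwa [mul_inv_cancel_left] at this

/-- **Uniqueness.** -/
theorem Ext.exists_mulEquiv [Finite F] (h2 : (2 : F) ≠ 0) (h : Ext L e y) {M' : Type*} [Group M']
    {L' : Subgroup M'} {e' : L' ≃* SpecialLinearGroup (Fin 2) F} {y' : M'} (h' : Ext L' e' y') :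
    ∃ φ : M ≃* M', (∀ m, φ m ∈ L' ↔ m ∈ L) ∧ φ y = y' := by
  obtain ⟨g, hg, hgt, hgd⟩ := h.exists_matrix
  obtain ⟨g', hg', hgt', hgd'⟩ := h'.exists_matrix
  have hn := h.normal
  have hn' := h'.normal
  have hsq : IsSquare (g.1.det * g'.1.det) := by
    let _ := Fintype.ofFinite F
    have h2' : ringChar F ≠ 2 := by
      intro h2'
      apply h2
      have := ringChar.Nat.cast_ringChar (R := F)
      rw [h2'] at this
      exact_mod_cast this
    rw [FiniteField.isSquare_iff h2' (mul_ne_zero (det_ne g) (det_ne g')), mul_pow]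
    have e1 : ∀ k : GL (Fin 2) F, ¬ IsSquare k.1.det → k.1.det ^ (Fintype.card F / 2) = -1 := by
      intro k hk
      rcases FiniteField.pow_dichotomy h2' (det_ne k) with h5 | h5
      · exact absurd ((FiniteField.isSquare_iff h2' (det_ne k)).2 h5) hk
      · exact h5
    rw [e1 g hgd, e1 g' hgd', neg_mul_neg, one_mul]
  obtain ⟨x, hx⟩ := exists_conj h2 hgt hgt' hsq
  let f : L →* M' := L'.subtype.comp ((e.trans ((conjGL x).trans e'.symm)).toMonoidHom)
  have hf : ∀ l, f l = (e'.symm (conjGL x (e l)) : L') := fun l => rfl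
  have hfinj : Function.Injective f := by
    intro a b hab
    exact (e.trans ((conjGL x).trans e'.symm)).injective (Subtype.ext hab)
  have hfmem : ∀ l, f l ∈ L' := fun l => (e'.symm (conjGL x (e l))).2
  have hfsurj : ∀ m ∈ L', ∃ l, f l = m := by
    intro m hm
    obtain ⟨l, hl⟩ := (e.trans ((conjGL x).trans e'.symm)).surjective ⟨m, hm⟩
    exact ⟨l, congrArg Subtype.val hl⟩
  have hyinv : y⁻¹ = y := inv_eq_of_mul_eq_one_right h.y_mul_y
  have hy'inv : y'⁻¹ = y' := inv_eq_of_mul_eq_one_right h'.y_mul_y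
  have hyL : y ^ 2 ∈ L := by rw [sq, h.y_mul_y]; exact one_mem _
  obtain ⟨Φ, hΦ, hΦy⟩ := ExtHom.exists_ext_two L y f y' h.y_not_mem
    (fun m => by rw [hyinv]; exact h.cover m) (by
      intro l
      rw [hf, hf]
      have h3 : e (MulAut.conjNormal y l) = conjGL g (e l) := by
        apply e.symm.injective
        apply Subtype.ext
        rw [e.symm_apply_apply, MulAut.conjNormal_apply]
        exact hg l
      rw [h3]
      have h4 := hg' (e'.symm (conjGL x (e l)))
      rw [e'.apply_symm_apply] at h4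
      rw [h4]
      have h5 := DFunLike.congr_fun hx (e l)
      rw [MulAut.mul_apply, MulAut.mul_apply] at h5
      rw [h5]) hyL (by
      have h3 : (⟨y ^ 2, hyL⟩ : L) = 1 := Subtype.ext (by change y ^ 2 = 1; rw [sq, h.y_mul_y])
      rw [h3, map_one, sq, h'.y_mul_y])
  have hΦL : ∀ m (hm : m ∈ L), Φ m = f ⟨m, hm⟩ := fun m hm => hΦ ⟨m, hm⟩
  have hmem : ∀ m, Φ m ∈ L' ↔ m ∈ L := by
    intro m
    constructor
    · intro hm
      rcases h.cover m with h3 | h3
      · exact h3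
      · exfalso
        apply h'.y_not_mem
        have h4 := hΦL _ h3
        rw [map_mul, hΦy] at h4
        have h5 : Φ m * y' ∈ L' := by rw [h4]; exact hfmem _
        have := mul_mem (inv_mem hm) h5
        rwa [inv_mul_cancel_left] at this
    · intro hm
      rw [hΦL m hm]
      exact hfmem _
  have hinj : Function.Injective Φ := by
    rw [injective_iff_map_eq_one]
    intro m hm
    have h3 : m ∈ L := (hmem m).1 (by rw [hm]; exact one_mem _)
    rw [hΦL m h3] at hm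
    have h4 : (⟨m, h3⟩ : L) = 1 := (map_eq_one_iff f hfinj).1 hm
    exact congrArg Subtype.val h4
  have hsurj : Function.Surjective Φ := by
    intro m
    rcases h'.cover m with h3 | h3
    · obtain ⟨l, hl⟩ := hfsurj m h3
      exact ⟨l, by rw [hΦ, hl]⟩
    · obtain ⟨l, hl⟩ := hfsurj _ h3
      refine ⟨l * y, ?_⟩
      rw [map_mul, hΦ, hl, hΦy, mul_assoc, h'.y_mul_y, mul_one]
  exact ⟨MulEquiv.ofBijective Φ ⟨hinj, hsurj⟩, hmem, hΦy⟩

/-- A model as a quotient of a group by a central subgroup. -/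
structure Model {G₀ : Type*} [Group G₀] (j : SpecialLinearGroup (Fin 2) F →* G₀) (Z₀ : Subgroup G₀)
    (y₀ : G₀) : Prop where
  inj : ∀ s, j s ∈ Z₀ → s = 1
  central : ∀ z ∈ Z₀, ∀ g : G₀, z * g = g * z
  cover : ∀ g : G₀, ∃ s, ∃ z ∈ Z₀, g = j s * z ∨ g = j s * z * y₀
  y_mul_y : y₀ * y₀ = 1
  y_ne : ∀ s, ∀ z ∈ Z₀, y₀ ≠ j s * z
  cent : ∀ c : G₀, (∀ s, c * j s = j s * c) → ∃ s, ∃ z ∈ Z₀, c = j s * z
  act : ∃ g : GL (Fin 2) F, ∀ s, y₀ * j s * y₀⁻¹ = j (conjGL g s)

theorem Model.exists_ext {G₀ : Type*} [Group G₀] {j : SpecialLinearGroup (Fin 2) F →* G₀}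
    {Z₀ : Subgroup G₀} [hZn : Z₀.Normal] {y₀ : G₀} (h : Model j Z₀ y₀) :
    ∃ e : ((QuotientGroup.mk' Z₀).comp j).range ≃* SpecialLinearGroup (Fin 2) F,
      Ext ((QuotientGroup.mk' Z₀).comp j).range e (QuotientGroup.mk' Z₀ y₀) := by
  set π := QuotientGroup.mk' Z₀ with hπ
  have hker : ∀ g, π g = 1 ↔ g ∈ Z₀ := fun g => QuotientGroup.eq_one_iff g
  have hinj : Function.Injective (π.comp j) := by
    rw [injective_iff_map_eq_one]
    intro s hs
    exact h.inj s ((hker _).1 hs)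
  let E : SpecialLinearGroup (Fin 2) F ≃* (π.comp j).range := MonoidHom.ofInjective hinj
  have hE : ∀ s, ((E s : (π.comp j).range) : G₀ ⧸ Z₀) = π (j s) := fun s => rfl
  -- normality
  have hconjy : ∀ s, ∃ s', y₀ * j s * y₀⁻¹ = j s' := by
    obtain ⟨g, hg⟩ := h.act
    exact fun s => ⟨_, hg s⟩
  have hconj : ∀ g s, ∃ s', g * j s * g⁻¹ = j s' := by
    intro g s
    obtain ⟨r, z, hz, hg | hg⟩ := h.cover g
    · refine ⟨r * s * r⁻¹, ?_⟩
      rw [hg, map_mul, map_mul, map_inv]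
      calc j r * z * j s * (j r * z)⁻¹ = j r * (z * j s) * z⁻¹ * (j r)⁻¹ := by group
        _ = _ := by rw [h.central z hz]; group
    · obtain ⟨s', hs'⟩ := hconjy s
      refine ⟨r * s' * r⁻¹, ?_⟩
      rw [hg, map_mul, map_mul, map_inv]
      calc j r * z * y₀ * j s * (j r * z * y₀)⁻¹ = j r * (z * (y₀ * j s * y₀⁻¹)) * z⁻¹ * (j r)⁻¹ := by group
        _ = _ := by rw [hs', h.central z hz]; group
  refine ⟨E.symm, ?_, ?_, ?_, ?_, ?_, ?_⟩
  · refine ⟨fun m hm k => ?_⟩
    obtain ⟨s, rfl⟩ := hm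
    obtain ⟨g, rfl⟩ := QuotientGroup.mk'_surjective Z₀ k
    obtain ⟨s', hs'⟩ := hconj g s
    exact ⟨s', by rw [MonoidHom.comp_apply, ← hs', map_mul, map_mul, map_inv]; rfl⟩
  · rw [← map_mul, h.y_mul_y, map_one]
  · rintro ⟨s, hs⟩
    have h1 : π ((j s)⁻¹ * y₀) = 1 := by
      rw [map_mul, map_inv, ← hs, MonoidHom.comp_apply, inv_mul_cancel]
    exact h.y_ne s _ ((hker _).1 h1) (mul_inv_cancel_left _ _).symm
  · intro m
    obtain ⟨g, rfl⟩ := QuotientGroup.mk'_surjective Z₀ m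
    obtain ⟨s, z, hz, hg | hg⟩ := h.cover g
    · left
      refine ⟨s, ?_⟩
      rw [hg, map_mul, ← hπ, (hker z).2 hz, mul_one]
      rfl
    · right
      refine ⟨s, ?_⟩
      rw [hg, ← hπ, map_mul, map_mul, (hker z).2 hz, mul_one, mul_assoc, ← map_mul, h.y_mul_y,
        map_one, mul_one]
      rfl
  · intro m hm
    obtain ⟨c, rfl⟩ := QuotientGroup.mk'_surjective Z₀ m
    obtain ⟨s, z, hz, hc⟩ := h.cent c (by
      intro s
      obtain ⟨s', hs'⟩ := hconj c s
      have h1 := hm _ (E s).2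
      rw [hE, ← map_mul, ← map_mul] at h1
      have h3 : π (j (s⁻¹ * s')) = 1 := by
        have h4 : π (c * j s) * (π c)⁻¹ = π (j s) := by rw [h1, map_mul, mul_inv_cancel_right]
        rw [map_mul, map_mul, ← hs', map_mul, map_inv (f := π), h4, ← map_mul, map_inv, inv_mul_cancel, map_one]
      have h4 := h.inj _ ((hker _).1 h3)
      have h5 : s' = s := by rw [← mul_inv_cancel_left s s', h4, mul_one]
      rw [h5] at hs'
      calc c * j s = c * j s * c⁻¹ * c := by group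
        _ = j s * c := by rw [hs'])
    exact ⟨s, by rw [hc, map_mul, ← hπ, (hker z).2 hz, mul_one]; rfl⟩
  · obtain ⟨g, hg⟩ := h.act
    refine ⟨g, fun l => ?_⟩
    obtain ⟨s, rfl⟩ := E.surjective l
    rw [E.symm_apply_apply, hE]
    change _ = ((E (conjGL g s) : (π.comp j).range) : G₀ ⧸ Z₀)
    rw [hE, ← hg, map_mul, map_mul, map_inv]

end ext

end Cfsg.Agent.Classification.QDW.StructUniq
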