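import Mathlib
import Cfsg.Agent.Classification.InvCent.GLTwo
import Cfsg.Agent.Classification.InvCent.GUTwo
import Cfsg.Agent.Classification.QDW.StructUniq
import Cfsg.Agent.Classification.QDW.SUTwoTrace

/-!
# The models `GL(2,F)/Z₀` and `GU(2,q)/Z₀`, `Z₀` the odd part of the centre

`q ≡ 3 mod 4` for `GL`, `q ≡ 1 mod 4` for `GU`.
-/

set_option autoImplicit false
set_option linter.unusedSectionVars false

namespace Cfsg.Agent.Classification.QDW.StructModel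

open Subgroup Matrix Cfsg.Agent.Lib.AutSL2 Cfsg.Agent.Classification.QDW.TypeHom
  Cfsg.Agent.Classification.QDW.StructUniq Cfsg.Agent.Classification.InvCent.GLTwo
  Cfsg.Agent.Classification.InvCent.GUTwo

local notation "conjGL" => Cfsg.Agent.Lib.SL2Mat.conjGL

/-- The scalars `c` with `c ^ k = 1`. -/
noncomputable def Zsub (F : Type*) [Field F] (k : ℕ) : Subgroup (GL (Fin 2) F) :=
  ((powMonoidHom k : Fˣ →* Fˣ).ker).map (GeneralLinearGroup.scalar (Fin 2))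

variable {F : Type*} [Field F]

theorem mem_Zsub {k : ℕ} {g : GL (Fin 2) F} : g ∈ Zsub F k ↔ ∃ c : Fˣ, c ^ k = 1 ∧ g = dg c c := by
  constructor
  · rintro ⟨c, hc, rfl⟩
    exact ⟨c, hc, scalar_eq_dg c⟩
  · rintro ⟨c, hc, rfl⟩
    exact ⟨c, hc, scalar_eq_dg c⟩

theorem dg_comm (c : Fˣ) (g : GL (Fin 2) F) : dg c c * g = g * dg c c := by
  apply ext2
  · rw [m00, m00, dg00, dg01, dg10]; ring
  · rw [m01, m01, dg00, dg01, dg11]; ring
  · rw [m10, m10, dg00, dg10, dg11]; ring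
  · rw [m11, m11, dg01, dg10, dg11]; ring

theorem card_Zsub {k : ℕ} : Nat.card (Zsub F k) = Nat.card {c : Fˣ // c ^ k = 1} := by
  symm
  refine Nat.card_congr (Equiv.ofBijective (fun c => ⟨dg c.1 c.1, mem_Zsub.2 ⟨c.1, c.2, rfl⟩⟩) ⟨?_, ?_⟩)
  · rintro ⟨a, ha⟩ ⟨b, hb⟩ h
    exact Subtype.ext (dg_injective (congrArg Subtype.val h)).1
  · rintro ⟨g, hg⟩
    obtain ⟨c, hc, rfl⟩ := mem_Zsub.1 hg
    exact ⟨⟨c, hc⟩, rfl⟩

theorem odd_card_Zsub [Finite F] {k : ℕ} (hk : Odd k) : Odd (Nat.card (Zsub F k)) := by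
  rw [← Nat.not_even_iff_odd, even_iff_two_dvd]
  intro h
  have : Fact (Nat.Prime 2) := ⟨Nat.prime_two⟩
  obtain ⟨x, hx⟩ := exists_prime_orderOf_dvd_card' 2 h
  obtain ⟨c, hc, hxc⟩ := mem_Zsub.1 x.2
  have h1 : (x : GL (Fin 2) F) ^ k = 1 := by rw [hxc, dg_pow, hc, dg_one]
  have h3 : x ^ k = 1 := Subtype.ext h1
  have h4 := orderOf_dvd_of_pow_eq_one h3
  rw [hx] at h4
  rw [← Nat.not_even_iff_odd, even_iff_two_dvd] at hk
  exact hk h4

theorem pow_even {A : Type*} [CommGroup A] {k : ℕ} (hk : Odd k) {d : A} (hd : d ^ k = 1) :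
    ∃ c : A, c ^ k = 1 ∧ c * c = d := by
  obtain ⟨m, rfl⟩ := hk
  refine ⟨d ^ (m + 1), ?_, ?_⟩
  · rw [← pow_mul, mul_comm, pow_mul, hd, one_pow]
  · rw [← pow_add]
    have : m + 1 + (m + 1) = 2 * m + 1 + 1 := by ring
    rw [this, pow_succ, hd, one_mul]

theorem pow_cases {k : ℕ} (hk : Odd k) {d : Fˣ} (hd : d ^ (2 * k) = 1) :
    ∃ c : Fˣ, c ^ k = 1 ∧ (c * c = d ∨ c * c = -d) := by
  have h1 : (d ^ k) * (d ^ k) = 1 := by rw [← pow_add, ← two_mul, hd]
  have h2 : d ^ k = 1 ∨ d ^ k = -1 := by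
    have h3 : ((d ^ k : Fˣ) : F) * ((d ^ k : Fˣ) : F) = 1 := by rw [← Units.val_mul, h1, Units.val_one]
    rcases mul_self_eq_one_iff.1 h3 with h | h
    · left; exact Units.ext h
    · right; exact Units.ext (by rw [h]; simp)
  rcases h2 with h2 | h2
  · obtain ⟨c, hc, hcd⟩ := pow_even hk h2
    exact ⟨c, hc, Or.inl hcd⟩
  · have h3 : (-d) ^ k = 1 := by rw [hk.neg_pow, h2, neg_neg]
    obtain ⟨c, hc, hcd⟩ := pow_even hk h3
    exact ⟨c, hc, Or.inr hcd⟩

theorem neg_aux (d : Fˣ) : d * (-1)⁻¹ * (-d)⁻¹ = 1 := by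
  rw [inv_neg, inv_one, mul_neg, mul_one, inv_neg, neg_mul_neg, mul_inv_cancel]

/-- The common part of the two models. -/
theorem model_of {K : Type*} [Field K] {G₀ : Type*} [Group G₀] (h2 : (2 : F) ≠ 0)
    (ι : G₀ →* GL (Fin 2) F) (hι : Function.Injective ι) (j : SpecialLinearGroup (Fin 2) K →* G₀)
    (hjinj : Function.Injective j) {k : ℕ} (hk : Odd k)
    (hj : ∀ g : G₀, GeneralLinearGroup.det (ι g) = 1 → ∃ s, j s = g)
    (hj1 : ∀ s, GeneralLinearGroup.det (ι (j s)) = 1)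
    (hsc : ∀ a : Fˣ, a ^ (2 * k) = 1 → ∃ g, ι g = dg a a)
    (hsc' : ∀ (a : Fˣ) g, ι g = dg a a → a ^ (2 * k) = 1)
    (hdet : ∀ g, GeneralLinearGroup.det (ι g) ^ (2 * k) = 1) (y₀ : G₀) (hy₀ : ι y₀ = sg)
    (hcent : ∀ c, (∀ s, c * j s = j s * c) → ∃ a, ι c = dg a a)
    (hact : ∃ g : GL (Fin 2) K, ∀ s, y₀ * j s * y₀⁻¹ = j (conjGL g s)) :
    Model j ((Zsub F k).comap ι) y₀ := by
  have hyy : y₀ * y₀ = 1 := hι (by rw [map_mul, hy₀, sg_mul_sg, map_one])
  have hneg : (-1 : Fˣ) ≠ 1 := by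
    intro h
    apply h2
    have := congrArg (fun u : Fˣ => (u : F)) h
    simp at this
    linear_combination -this
  have hZ : ∀ c : Fˣ, c ^ k = 1 → ∃ z ∈ (Zsub F k).comap ι, ι z = dg c c := by
    intro c hc
    obtain ⟨z, hz⟩ := hsc c (by rw [mul_comm, pow_mul, hc, one_pow])
    exact ⟨z, by rw [Subgroup.mem_comap, hz]; exact mem_Zsub.2 ⟨c, hc, rfl⟩, hz⟩
  refine ⟨?_, ?_, ?_, hyy, ?_, ?_, hact⟩
  · intro s hs
    obtain ⟨c, hc, hsc⟩ := mem_Zsub.1 (Subgroup.mem_comap.1 hs)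
    have h1 := hj1 s
    rw [hsc, det_dg] at h1
    have h3 : c = 1 := by
      obtain ⟨m, rfl⟩ := hk
      rw [pow_succ, pow_mul, sq, h1, one_pow, one_mul] at hc
      exact hc
    apply hjinj
    rw [map_one]
    apply hι
    rw [hsc, h3, dg_one, map_one]
  · intro z hz g
    obtain ⟨c, hc, hzc⟩ := mem_Zsub.1 (Subgroup.mem_comap.1 hz)
    apply hι
    rw [map_mul, map_mul, hzc, dg_comm]
  · intro g
    obtain ⟨c, hc, hcd⟩ := pow_cases hk (hdet g)
    obtain ⟨z, hz, hzc⟩ := hZ c hc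
    have hdz : GeneralLinearGroup.det (ι z) = c * c := by rw [hzc, det_dg]
    rcases hcd with hcd | hcd
    · obtain ⟨s, hs⟩ := hj (g * z⁻¹) (by rw [map_mul, map_mul, map_inv, map_inv, hdz, hcd, mul_inv_cancel])
      exact ⟨s, z, hz, Or.inl (by rw [hs, inv_mul_cancel_right])⟩
    · obtain ⟨s, hs⟩ := hj (g * y₀⁻¹ * z⁻¹) (by
        rw [map_mul, map_mul, map_mul, map_mul, map_inv, map_inv, map_inv, map_inv, hdz, hcd, hy₀, det_sg]
        exact neg_aux _)
      refine ⟨s, z, hz, Or.inr ?_⟩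
      rw [hs, inv_mul_cancel_right, inv_mul_cancel_right]
  · intro s z hz h
    obtain ⟨c, hc, hzc⟩ := mem_Zsub.1 (Subgroup.mem_comap.1 hz)
    have h1 : GeneralLinearGroup.det (ι y₀) = GeneralLinearGroup.det (ι (j s * z)) := by rw [← h]
    rw [hy₀, det_sg, map_mul, map_mul, hj1, hzc, det_dg, one_mul] at h1
    have h3 : (-1 : Fˣ) ^ k = 1 := by rw [h1, mul_pow, hc, one_mul]
    rw [hk.neg_one_pow] at h3
    exact hneg h3
  · intro c hc
    obtain ⟨a, ha⟩ := hcent c hc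
    have h1 := hsc' a c ha
    have h2' : a ^ k = 1 ∨ a ^ k = -1 := by
      have h3 : ((a ^ k : Fˣ) : F) * ((a ^ k : Fˣ) : F) = 1 := by
        rw [← Units.val_mul, ← pow_add, ← two_mul, h1, Units.val_one]
      rcases mul_self_eq_one_iff.1 h3 with h | h
      · left; exact Units.ext h
      · right; exact Units.ext (by rw [h]; simp)
    rcases h2' with h2' | h2'
    · refine ⟨1, c, ?_, by rw [map_one, one_mul]⟩
      rw [Subgroup.mem_comap, ha]
      exact mem_Zsub.2 ⟨a, h2', rfl⟩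
    · have h3 : (-a) ^ k = 1 := by rw [hk.neg_pow, h2', neg_neg]
      obtain ⟨z, hz, hzc⟩ := hZ (-a) h3
      obtain ⟨s, hs⟩ := hj (c * z⁻¹) (by
        rw [map_mul, map_mul, map_inv, map_inv, hzc, ha, det_dg, det_dg, neg_mul_neg, mul_inv_cancel])
      exact ⟨s, z, hz, by rw [hs, inv_mul_cancel_right]⟩

/-- `GL(2,F)/Z₀`, `q ≡ 3 mod 4`. -/
theorem model_gl [Fintype F] (h2 : (2 : F) ≠ 0) {k : ℕ} (hk : Odd k) (hq : Fintype.card F = 2 * k + 1) :
    Model (SpecialLinearGroup.toGL : SpecialLinearGroup (Fin 2) F →* GL (Fin 2) F)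
      ((Zsub F k).comap (MonoidHom.id _)) sg := by
  have hpow : ∀ a : Fˣ, a ^ (2 * k) = 1 := by
    intro a
    have h1 : Nat.card Fˣ = 2 * k := by
      rw [card_units, Nat.card_eq_fintype_card, hq]; rfl
    rw [← h1]
    exact pow_card_eq_one'
  refine model_of h2 (MonoidHom.id _) Function.injective_id _ ?_ hk ?_ ?_ ?_ ?_ ?_ _ rfl ?_ ?_
  · intro a b hab
    apply Subtype.ext
    exact congrArg (fun g : GL (Fin 2) F => g.1) hab
  · intro g hg
    have hd : g.1.det = 1 := by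
      have := congrArg (fun u : Fˣ => (u : F)) hg
      rwa [GeneralLinearGroup.val_det_apply] at this
    exact ⟨⟨g.1, hd⟩, Units.ext rfl⟩
  · intro s
    ext
    rw [GeneralLinearGroup.val_det_apply]
    exact s.2
  · exact fun a _ => ⟨dg a a, rfl⟩
  · exact fun a _ _ => hpow a
  · exact fun g => hpow _
  · intro c hc
    have h1 : conjGL c = 1 := by
      apply MulEquiv.ext
      intro x
      have h3 := hc x
      apply Subtype.ext
      rw [Cfsg.Agent.Lib.SL2Mat.conjGL_val]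
      have h4 : c.1 * x.1 = x.1 * c.1 := congrArg (fun g : GL (Fin 2) F => g.1) h3
      rw [h4, Matrix.mul_assoc, ← Units.val_mul, mul_inv_cancel, Units.val_one, Matrix.mul_one]
      rfl
    obtain ⟨h01, h10, h00⟩ := scalar_of_conjGL h1
    have h3 : c ∈ Subgroup.center (GL (Fin 2) F) := mem_center.2 ⟨h01, h10, h00⟩
    obtain ⟨a, b, rfl⟩ := exists_dg h2 (center_le_Tor h3)
    rw [dg_mem_center] at h3
    exact ⟨a, by rw [h3]; rfl⟩
  · refine ⟨sg, fun s => Units.ext ?_⟩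
    rfl

/-- The elements of `GU(2,q)` act on `SL(2,q)` as elements of `GL(2,q)`. -/
theorem exists_act {K : Type*} [Field K] [Finite K] {q : ℕ} {f : K →+* F}
    {j : SpecialLinearGroup (Fin 2) K →* Cfsg.GU 2 F q} (hjinj : Function.Injective j)
    (hj : ∀ g : Cfsg.GU 2 F q, GeneralLinearGroup.det (g : GL (Fin 2) F) = 1 → ∃ s, j s = g)
    (hj1 : ∀ s, GeneralLinearGroup.det (j s : GL (Fin 2) F) = 1)
    (htr : ∀ s, (j s).1.1.trace = f (tr s)) (y : Cfsg.GU 2 F q) :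
    ∃ g : GL (Fin 2) K, ∀ s, y * j s * y⁻¹ = j (conjGL g s) := by
  have hex : ∀ s, ∃ s', j s' = y * j s * y⁻¹ := by
    intro s
    apply hj
    rw [Subgroup.coe_mul, Subgroup.coe_mul, map_mul, map_mul, hj1, mul_one, Subgroup.coe_inv, map_inv,
      mul_inv_cancel]
  have hex' : ∀ s, ∃ s', j s' = y⁻¹ * j s * y := by
    intro s
    apply hj
    rw [Subgroup.coe_mul, Subgroup.coe_mul, map_mul, map_mul, hj1, mul_one, Subgroup.coe_inv, map_inv,
      inv_mul_cancel]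
  choose α hα using hex
  choose β hβ using hex'
  let A : MulAut (SpecialLinearGroup (Fin 2) K) :=
    { toFun := α
      invFun := β
      left_inv := fun s => hjinj (by rw [hβ, hα]; group)
      right_inv := fun s => hjinj (by rw [hα, hβ]; group)
      map_mul' := fun s s' => hjinj (by rw [map_mul, hα, hα, hα, map_mul]; group) }
  have hA : ∀ s, j (A s) = y * j s * y⁻¹ := hα
  have h1 : typ A = 1 := by
    apply typ_eq
    intro s
    change tr (A s) = tr s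
    apply f.injective
    rw [← htr, ← htr, hA]
    rw [Subgroup.coe_mul, Subgroup.coe_mul, Subgroup.coe_inv, Units.val_mul, Units.val_mul,
      Matrix.mul_assoc, Matrix.trace_mul_comm, Matrix.mul_assoc, Cfsg.Agent.Lib.SL2Mat.inv_val_mul_val,
      Matrix.mul_one]
  obtain ⟨g, hg⟩ := (typ_eq_one_iff A).1 h1
  exact ⟨g, fun s => by rw [← hg, hA]⟩

section GU

variable [Fintype F] {q : ℕ} {σ : F →+* F} {κ : Fˣ}

/-- The centralizer of `SU(2,q)`. -/
theorem cent_GU (P : Par F q σ κ) (c : Cfsg.GU 2 F q)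
    (hc : ∀ g : Cfsg.GU 2 F q, GeneralLinearGroup.det (g : GL (Fin 2) F) = 1 → c * g = g * c) :
    ∃ a : Fˣ, (c : GL (Fin 2) F) = dg a a ∧ a ^ (q + 1) = 1 := by
  obtain ⟨μ, hμ⟩ := P.exists_skew
  have hμ0 : (μ : F) ≠ 0 := μ.ne_zero
  have hk : (κ : F) ≠ 0 := κ.ne_zero
  have h2 := P.two_ne_zero
  have hmem1 : uq κ (μ : F) ∈ Cfsg.GU 2 F q := P.uq_mem.2 hμ
  have h1 : c.1 * uq κ (μ : F) = uq κ (μ : F) * c.1 :=
    congrArg Subtype.val (hc ⟨_, hmem1⟩ (det_uq κ _))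
  have h3 : c.1 * (sg * uq κ (μ : F) * sg⁻¹) = (sg * uq κ (μ : F) * sg⁻¹) * c.1 := by
    have := hc (⟨sg, P.sg_mem⟩ * ⟨_, hmem1⟩ * ⟨sg, P.sg_mem⟩⁻¹) (by
      rw [Subgroup.coe_mul, Subgroup.coe_mul, Subgroup.coe_inv, map_mul, map_mul, map_inv]
      change GeneralLinearGroup.det sg * GeneralLinearGroup.det (uq κ (μ : F)) * _ = 1
      rw [det_uq, mul_one, mul_inv_cancel])
    exact congrArg Subtype.val this
  have hsi : (sg : GL (Fin 2) F)⁻¹ = sg := inv_eq_of_mul_eq_one_right sg_mul_sg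
  rw [hsi] at h3
  set g := c.1 with hg
  -- entries
  have a00 := congrArg (fun x : GL (Fin 2) F => x.1 0 0) h1
  have a01 := congrArg (fun x : GL (Fin 2) F => x.1 0 1) h1
  have a10 := congrArg (fun x : GL (Fin 2) F => x.1 1 0) h1
  have b00 := congrArg (fun x : GL (Fin 2) F => x.1 0 0) h3
  have b01 := congrArg (fun x : GL (Fin 2) F => x.1 0 1) h3
  simp only [m00, m01, m10, m11, uq00, uq01, uq10, uq11, sg00, sg01, sg10, sg11] at a00 a01 a10 b00 b01
  have h01 : g.1 0 1 = 0 := by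
    have e1 : 4 * (g.1 0 1 * μ) = 0 := by linear_combination (-1 : F) * a01 - b01
    have h4 : (4 : F) ≠ 0 := by
      have : (4 : F) = 2 * 2 := by norm_num
      rw [this]; exact mul_ne_zero h2 h2
    exact (mul_eq_zero.1 ((mul_eq_zero.1 e1).resolve_left h4)).resolve_right hμ0
  have h10 : g.1 1 0 = 0 := by
    rw [h01] at a00
    have e1 : g.1 1 0 * (μ * (κ : F)⁻¹) = 0 := by linear_combination a00
    exact (mul_eq_zero.1 e1).resolve_right (mul_ne_zero hμ0 (inv_ne_zero hk))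
  have h00 : g.1 0 0 = g.1 1 1 := by
    rw [h01] at a01
    have e1 : (g.1 0 0 - g.1 1 1) * (μ * (κ : F)⁻¹) = 0 := by linear_combination -a01
    exact sub_eq_zero.1 ((mul_eq_zero.1 e1).resolve_right (mul_ne_zero hμ0 (inv_ne_zero hk)))
  have h5 : g ∈ Subgroup.center (GL (Fin 2) F) := mem_center.2 ⟨h01, h10, h00⟩
  obtain ⟨a, b, hab⟩ := exists_dg h2 (center_le_Tor h5)
  rw [hab, dg_mem_center] at h5
  subst h5
  refine ⟨a, hab, ?_⟩
  have h6 := c.2
  rw [← hg, hab, P.dg_mem, ← P.pow_succ_eq] at h6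
  exact Units.ext (by rw [Units.val_pow_eq_pow_val, h6.1, Units.val_one])

theorem dg_mem_GU (P : Par F q σ κ) {a : Fˣ} : dg a a ∈ Cfsg.GU 2 F q ↔ a ^ (q + 1) = 1 := by
  rw [P.dg_mem, and_self, ← P.pow_succ_eq, ← Units.val_pow_eq_pow_val]
  exact ⟨fun h => Units.ext h, fun h => by rw [h]; rfl⟩

theorem det_pow (P : Par F q σ κ) (g : Cfsg.GU 2 F q) :
    GeneralLinearGroup.det (g : GL (Fin 2) F) ^ (q + 1) = 1 := by
  apply Units.ext
  rw [Units.val_pow_eq_pow_val, P.pow_succ_eq, Units.val_one, GeneralLinearGroup.val_det_apply,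
    Matrix.det_fin_two]
  exact P.det_norm g.2

/-- `GU(2,q)/Z₀`, `q ≡ 1 mod 4`. -/
theorem model_gu {K : Type*} [Field K] [Fintype K] (hF : Fintype.card F = q ^ 2) (hK : Fintype.card K = q)
    (hq : Odd q) {k : ℕ} (hk : Odd k) (hqk : q + 1 = 2 * k) :
    ∃ (j : SpecialLinearGroup (Fin 2) K →* Cfsg.GU 2 F q) (y : Cfsg.GU 2 F q), (y : GL (Fin 2) F) = sg ∧
      Model j ((Zsub F k).comap (Cfsg.GU 2 F q).subtype) y := by
  obtain ⟨σ, κ, P⟩ := exists_par hF hq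
  obtain ⟨f, j, hjinj, hj1, hj, htr⟩ := SUTwoTrace.exists_hom_GU hF hK
  refine ⟨j, ⟨sg, P.sg_mem⟩, rfl, ?_⟩
  refine model_of P.two_ne_zero (Cfsg.GU 2 F q).subtype (Subgroup.subtype_injective _) j hjinj hk hj hj1
    ?_ ?_ ?_ _ rfl ?_ (exists_act hjinj hj hj1 htr _)
  · intro a ha
    rw [← hqk] at ha
    exact ⟨⟨dg a a, (dg_mem_GU P).2 ha⟩, rfl⟩
  · intro a g hg
    rw [← hqk]
    have h1 := g.2
    change (g : GL (Fin 2) F) = _ at hg
    rw [hg] at h1
    exact (dg_mem_GU P).1 h1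
  · intro g
    rw [← hqk]
    exact det_pow P g
  · intro c hc
    obtain ⟨a, ha, -⟩ := cent_GU P c (by
      intro g hg
      obtain ⟨s, rfl⟩ := hj g hg
      exact hc s)
    exact ⟨a, ha⟩

end GU

end Cfsg.Agent.Classification.QDW.StructModel
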