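import Mathlib
import Cfsg.Agent.Classification.QDW.StructUniq

/-!
# Uniqueness of `SL(2,F) : 2^n`, the wreathed case

* `exists_odd_conj`: two elements of order `2^n`, `n ≥ 2`, of `PGL(2,F)`: the second is conjugate to an
  odd power of the first;
* `ExtW L e n y`: `M = L ⟨y⟩`, `L ∩ ⟨y⟩ = 1`, `e : L ≃* SL(2,F)`, `y` of order `2^n` acts faithfully on `L`
  as an element of `GL(2,F)`;
* `ExtW.exists_mulEquiv`: any two such groups are isomorphic.
-/

set_option autoImplicit false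
set_option linter.unusedSectionVars false

namespace Cfsg.Agent.Classification.QDW.StructUniqW

open Subgroup Matrix Cfsg.Agent.Lib.SL2Mat Cfsg.Agent.Lib.AutSL2 Cfsg.Agent.Classification.QDW.TypeHom
  Cfsg.Agent.Classification.QDW.StructUniq Cfsg.Agent.Classification.RTwo

section matrix

variable {F : Type*} [Field F]

/-- the trace of a matrix -/
def gtr (g : GL (Fin 2) F) : F := g.1 0 0 + g.1 1 1

theorem gtr_pow_add_two (g : GL (Fin 2) F) (i : ℕ) :
    gtr (g ^ (i + 2)) = gtr g * gtr (g ^ (i + 1)) - g.1.det * gtr (g ^ i) := by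
  have h1 : g ^ (i + 1) = g ^ i * g := pow_succ _ _
  have h2 : g ^ (i + 2) = g ^ i * g * g := by rw [pow_succ, pow_succ]
  rw [h1, h2, gtr, gtr, gtr, gtr, Matrix.det_fin_two]
  simp only [Units.val_mul, Matrix.mul_apply, Fin.sum_univ_two]
  ring

theorem exists_eig {Ω : Type*} [Field Ω] [Algebra F Ω] [IsAlgClosed Ω] (g : GL (Fin 2) F) :
    ∃ a b : Ω, a + b = algebraMap F Ω (gtr g) ∧ a * b = algebraMap F Ω g.1.det ∧ a ≠ 0 ∧ b ≠ 0 := by
  set t : Ω := algebraMap F Ω (gtr g) with ht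
  set d : Ω := algebraMap F Ω g.1.det with hd
  have hd0 : d ≠ 0 := by
    rw [hd, ne_eq, map_eq_zero]
    exact det_ne g
  let P : Polynomial Ω := Polynomial.X ^ 2 - Polynomial.C t * Polynomial.X + Polynomial.C d
  have hP : P.degree ≠ 0 := by
    have h1 : P = Polynomial.C 1 * Polynomial.X ^ 2 + Polynomial.C (-t) * Polynomial.X + Polynomial.C d := by
      simp only [P, map_neg, map_one, one_mul, neg_mul, sub_eq_add_neg]
    rw [h1, Polynomial.degree_quadratic one_ne_zero]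
    decide
  obtain ⟨a, ha⟩ := IsAlgClosed.exists_root P hP
  have h2 : a ^ 2 - t * a + d = 0 := by
    have := ha
    simpa [P, Polynomial.IsRoot] using this
  have hab : a * (t - a) = d := by linear_combination -h2
  refine ⟨a, t - a, by ring, hab, ?_, ?_⟩
  · rintro rfl
    rw [zero_mul] at hab
    exact hd0 hab.symm
  · intro h
    rw [h, mul_zero] at hab
    exact hd0 hab.symm

theorem gtr_pow {Ω : Type*} [Field Ω] [Algebra F Ω] {g : GL (Fin 2) F} {a b : Ω}
    (h1 : a + b = algebraMap F Ω (gtr g)) (h2 : a * b = algebraMap F Ω g.1.det) (i : ℕ) :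
    algebraMap F Ω (gtr (g ^ i)) = a ^ i + b ^ i := by
  induction i using Nat.strong_induction_on with
  | _ i ih =>
    match i with
    | 0 =>
      rw [pow_zero, pow_zero, pow_zero, gtr, Units.val_one, Matrix.one_apply_eq, Matrix.one_apply_eq,
        map_add, map_one]
    | 1 => rw [pow_one, pow_one, pow_one, h1]
    | i + 2 =>
      rw [gtr_pow_add_two, map_sub, map_mul, map_mul, ih (i + 1) (by omega), ih i (by omega), ← h1, ← h2]
      ring

/-- the ratio of the eigenvalues of an element of order `2^n` of `PGL(2,F)` -/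
theorem isPrimitiveRoot_ratio {Ω : Type*} [Field Ω] [Algebra F Ω] (h2 : (2 : F) ≠ 0)
    {g : GL (Fin 2) F} {a b : Ω} (_ha : a ≠ 0) (hb : b ≠ 0)
    (h1 : a + b = algebraMap F Ω (gtr g)) (hab : a * b = algebraMap F Ω g.1.det) {n : ℕ}
    (hn : 1 ≤ n) (hg : conjGL g ^ 2 ^ n = 1) (hg' : conjGL g ^ 2 ^ (n - 1) ≠ 1) :
    IsPrimitiveRoot (a / b) (2 ^ n) := by
  have h3 : gtr (g ^ 2 ^ (n - 1)) = 0 := by
    apply tr_eq_zero
    · rw [← pow_add, ← two_mul, ← pow_succ', Nat.sub_add_cancel hn, map_pow, hg]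
    · rwa [map_pow]
  have h4 := gtr_pow h1 hab (2 ^ (n - 1))
  rw [h3, map_zero] at h4
  have h5 : (a / b) ^ 2 ^ (n - 1) = -1 := by
    rw [div_pow, div_eq_iff (pow_ne_zero _ hb)]
    linear_combination -h4
  have h2' : (2 : Ω) ≠ 0 := by
    have := (map_ne_zero (algebraMap F Ω)).2 h2
    rwa [map_ofNat] at this
  obtain ⟨m, rfl⟩ : ∃ m, n = m + 1 := ⟨n - 1, by omega⟩
  have e1 : m + 1 - 1 = m := rfl
  rw [e1] at h5
  rw [IsPrimitiveRoot.iff_orderOf]
  apply orderOf_eq_prime_pow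
  · rw [h5]
    intro h6
    apply h2'
    linear_combination -h6
  · rw [pow_succ, pow_mul, h5]
    norm_num

/-- A nonscalar matrix is conjugate to a companion matrix. -/
theorem exists_conj_comp' (g : GL (Fin 2) F) (hg : conjGL g ≠ 1) {t δ : F} (ht : gtr g = t)
    (hδ : g.1.det = δ) : ∃ x : GL (Fin 2) F, x.1 * g.1 = !![0, 1; -δ, t] * x.1 := by
  have hd := det_eq' g
  rw [hδ] at hd
  rw [gtr] at ht
  have key : ∀ r s : F, ∀ h : r * (r * g.1 0 1 + s * g.1 1 1) - s * (r * g.1 0 0 + s * g.1 1 0) ≠ 0,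
      ∃ x : GL (Fin 2) F, x.1 * g.1 = !![0, 1; -δ, t] * x.1 := by
    intro r s h
    refine ⟨gmk r s (r * g.1 0 0 + s * g.1 1 0) (r * g.1 0 1 + s * g.1 1 1) h, ?_⟩
    rw [gmk_val]
    ext i j
    rw [Matrix.mul_apply, Matrix.mul_apply, Fin.sum_univ_two, Fin.sum_univ_two]
    fin_cases i <;> fin_cases j <;> simp
    · linear_combination (r * g.1 0 0 + s * g.1 1 0) * ht + r * hd
    · linear_combination (r * g.1 0 1 + s * g.1 1 1) * ht + s * hd
  by_cases hb : g.1 0 1 = 0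
  · by_cases hc : g.1 1 0 = 0
    · apply key 1 1
      intro h
      apply hg
      apply conjGL_of_scalar hb hc
      linear_combination (-1 : F) * h + hb - hc
    · apply key 0 1
      intro h
      apply hc
      linear_combination -h
  · apply key 1 0
    intro h
    apply hb
    linear_combination h

theorem exists_conj' {g g' : GL (Fin 2) F} (hg : conjGL g ≠ 1) (hg' : conjGL g' ≠ 1)
    (ht : gtr g = gtr g') (hd : g.1.det = g'.1.det) : ∃ x : GL (Fin 2) F, x * g = g' * x := by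
  obtain ⟨x, hx⟩ := exists_conj_comp' g hg ht hd
  obtain ⟨x', hx'⟩ := exists_conj_comp' g' hg' rfl rfl
  refine ⟨x'⁻¹ * x, ?_⟩
  have e1 : x * g = x' * g' * x'⁻¹ * x := by
    apply Units.ext
    rw [Units.val_mul, hx, Units.val_mul, Units.val_mul, Units.val_mul, hx']
    have : !![0, 1; -g'.1.det, gtr g'] * x'.1 * x'⁻¹.1 =
        (!![0, 1; -g'.1.det, gtr g'] : Matrix (Fin 2) (Fin 2) F) := by
      rw [Matrix.mul_assoc, ← Units.val_mul, mul_inv_cancel, Units.val_one, Matrix.mul_one]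
    rw [this]
  rw [mul_assoc, e1]
  group

theorem exists_odd_conj (h2 : (2 : F) ≠ 0) {g g' : GL (Fin 2) F} {n : ℕ} (hn : 2 ≤ n)
    (hg : conjGL g ^ 2 ^ n = 1) (hg1 : conjGL g ^ 2 ^ (n - 1) ≠ 1)
    (hg' : conjGL g' ^ 2 ^ n = 1) (hg1' : conjGL g' ^ 2 ^ (n - 1) ≠ 1) :
    ∃ j : ℕ, Odd j ∧ ∃ x : GL (Fin 2) F, conjGL x * conjGL g ^ j = conjGL g' * conjGL x := by
  let Ω := AlgebraicClosure F
  obtain ⟨a, b, h1, hab, ha, hb⟩ := exists_eig (Ω := Ω) g
  obtain ⟨a', b', h1', hab', ha', hb'⟩ := exists_eig (Ω := Ω) g'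
  have hr := isPrimitiveRoot_ratio h2 ha hb h1 hab (by omega) hg hg1
  have hr' := isPrimitiveRoot_ratio h2 ha' hb' h1' hab' (by omega) hg' hg1'
  have : NeZero (2 ^ n) := ⟨by positivity⟩
  obtain ⟨j, -, hjc, hj⟩ := (hr.isPrimitiveRoot_iff).1 hr'
  have hjodd : Odd j := by
    rw [← Nat.coprime_two_right]
    exact Nat.Coprime.coprime_dvd_right (dvd_pow_self 2 (by omega)) hjc
  -- relation between the eigenvalues
  have hrel : a' * b ^ j = a ^ j * b' := by
    rw [div_pow, div_eq_div_iff (pow_ne_zero _ hb) hb'] at hj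
    rw [hj]
  have hinj := (algebraMap F Ω).injective
  have htj := gtr_pow h1 hab j
  have hdj : algebraMap F Ω (g ^ j).1.det = a ^ j * b ^ j := by
    rw [Units.val_pow_eq_pow_val, Matrix.det_pow, map_pow, ← hab, mul_pow]
  have hkey : gtr g' ^ 2 * (g ^ j).1.det = gtr (g ^ j) ^ 2 * g'.1.det := by
    apply hinj
    rw [map_mul, map_mul, map_pow, map_pow, htj, hdj, ← h1', ← hab']
    linear_combination (a' * a ^ j - b' * b ^ j) * hrel
  -- the traces are not zero
  have hne : a' + b' ≠ 0 := by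
    intro h
    have h3 : a' / b' = -1 := by
      rw [div_eq_iff hb']
      linear_combination h
    have h4 : (a' / b') ^ 2 = 1 := by rw [h3]; norm_num
    have h5 := hr'.dvd_of_pow_eq_one 2 h4
    have h6 : 2 ^ 2 ∣ 2 ^ n := pow_dvd_pow 2 hn
    have := Nat.le_of_dvd (by norm_num) (h6.trans h5)
    norm_num at this
  have ht' : gtr g' ≠ 0 := by
    intro h
    rw [h, map_zero] at h1'
    exact hne h1'
  have htj0 : gtr (g ^ j) ≠ 0 := by
    intro h
    rw [h] at hkey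
    have h3 : gtr g' ^ 2 * (g ^ j).1.det = 0 := by rw [hkey]; ring
    exact mul_ne_zero (pow_ne_zero _ ht') (det_ne _) h3
  set s := gtr (g ^ j) / gtr g' with hs
  have hs0 : s ≠ 0 := div_ne_zero htj0 ht'
  set k := sc s hs0 * g' with hk
  have hkval : k.1 = s • g'.1 := by
    rw [hk, Units.val_mul, sc, gmk_val]
    ext i l
    rw [Matrix.mul_apply, Fin.sum_univ_two]
    fin_cases i <;> simp
  have hkg : conjGL k = conjGL g' := by rw [hk, map_mul, conjGL_sc, one_mul]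
  have hg'1 : conjGL g' ≠ 1 := by
    intro h
    rw [h, one_pow] at hg1'
    exact hg1' rfl
  have hgj1 : conjGL (g ^ j) ≠ 1 := by
    intro h
    rw [map_pow] at h
    have h3 := orderOf_dvd_of_pow_eq_one h
    have h4 : orderOf (conjGL g) = 2 ^ n := by
      obtain ⟨m, rfl⟩ : ∃ m, n = m + 1 := ⟨n - 1, by omega⟩
      exact orderOf_eq_prime_pow hg1 hg
    rw [h4] at h3
    have h5 : Nat.Coprime (2 ^ n) j := hjc.symm
    have h6 := Nat.Coprime.eq_one_of_dvd h5 h3
    have h7 : 1 < 2 ^ n := Nat.one_lt_two_pow (by omega)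
    omega
  obtain ⟨x, hx⟩ := exists_conj' (g := g ^ j) (g' := k) hgj1 (by rw [hkg]; exact hg'1) (by
    rw [gtr, gtr, hkval, Matrix.smul_apply, Matrix.smul_apply, smul_eq_mul, smul_eq_mul, ← mul_add]
    change gtr (g ^ j) = s * gtr g'
    rw [hs, div_mul_cancel₀ _ ht']) (by
    rw [hkval, Matrix.det_smul, Fintype.card_fin, hs, div_pow, div_mul_eq_mul_div,
      eq_div_iff (pow_ne_zero 2 ht')]
    linear_combination hkey)
  refine ⟨j, hjodd, x, ?_⟩
  rw [← hkg, ← map_pow, ← map_mul, hx, map_mul]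

end matrix

section ext

variable {F : Type*} [Field F]

/-- `M = L ⟨y⟩`, `L ∩ ⟨y⟩ = 1`. -/
structure ExtW {M : Type*} [Group M] (L : Subgroup M) (e : L ≃* SpecialLinearGroup (Fin 2) F) (n : ℕ)
    (y : M) : Prop where
  normal : L.Normal
  two_le : 2 ≤ n
  orderOf_y : orderOf y = 2 ^ n
  gen : ∀ m, ∃ l ∈ L, ∃ i : ℤ, m = l * y ^ i
  disj : ∀ i : ℤ, y ^ i ∈ L → y ^ i = 1
  faithful : ∀ i : ℤ, (∀ l ∈ L, y ^ i * l = l * y ^ i) → y ^ i = 1
  act : ∃ g : GL (Fin 2) F, ∀ l : L, y * l * y⁻¹ = e.symm (conjGL g (e l))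

variable {M : Type*} [Group M] {L : Subgroup M} {e : L ≃* SpecialLinearGroup (Fin 2) F} {n : ℕ} {y : M}

theorem pow_act {g : GL (Fin 2) F} (h : ∀ l : L, y * l * y⁻¹ = e.symm (conjGL g (e l))) (i : ℕ) (l : L) :
    y ^ i * l * (y ^ i)⁻¹ = e.symm ((conjGL g ^ i) (e l)) := by
  induction i generalizing l with
  | zero => simp
  | succ i ih =>
    have h1 : y ^ (i + 1) * l * (y ^ (i + 1))⁻¹ = y * (y ^ i * l * (y ^ i)⁻¹) * y⁻¹ := by
      rw [pow_succ']; group
    rw [h1, ih, h, e.apply_symm_apply, pow_succ', MulAut.mul_apply]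

/-- Odd powers of `y` give the same structure. -/
theorem ExtW.pow (h : ExtW L e n y) {j : ℕ} (hj : Odd j) : ExtW L e n (y ^ j) := by
  have hcop : Nat.Coprime (2 ^ n) j := Nat.Coprime.pow_left _ (Nat.coprime_two_left.2 hj)
  -- `y` is a power of `y ^ j`
  obtain ⟨i, hi⟩ : ∃ i : ℤ, (y ^ j) ^ i = y := by
    have h1 : y ∈ zpowers (y ^ j) := by
      have h2 : zpowers (y ^ j) = zpowers y := by
        have : Finite (zpowers y) :=
          Nat.finite_of_card_ne_zero (by rw [Nat.card_zpowers, h.orderOf_y]; positivity)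
        apply Subgroup.eq_of_le_of_card_ge
        · rw [zpowers_le]
          exact npow_mem_zpowers _ _
        · rw [Nat.card_zpowers, Nat.card_zpowers, Nat.Coprime.orderOf_pow (by rw [h.orderOf_y]; exact hcop)]
      rw [h2]
      exact mem_zpowers y
    exact Subgroup.mem_zpowers_iff.1 h1
  have hz : ∀ m : ℤ, (y ^ j) ^ m = y ^ ((j : ℤ) * m) := by
    intro m
    rw [_root_.zpow_mul, zpow_natCast]
  refine ⟨h.normal, h.two_le, ?_, ?_, ?_, ?_, ?_⟩
  · rw [Nat.Coprime.orderOf_pow (by rw [h.orderOf_y]; exact hcop), h.orderOf_y]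
  · intro m
    obtain ⟨l, hl, k, hk⟩ := h.gen m
    refine ⟨l, hl, i * k, ?_⟩
    rw [_root_.zpow_mul, hi, hk]
  · intro m hm
    rw [hz] at hm ⊢
    exact h.disj _ hm
  · intro m hm
    rw [hz] at hm ⊢
    exact h.faithful _ hm
  · obtain ⟨g, hg⟩ := h.act
    refine ⟨g ^ j, fun l => ?_⟩
    rw [pow_act hg, map_pow]

/-- The homomorphism. -/
theorem ExtW.exists_hom (h : ExtW L e n y) {g : GL (Fin 2) F}
    (hg : ∀ l : L, y * l * y⁻¹ = e.symm (conjGL g (e l))) {M' : Type*} [Group M']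
    {L' : Subgroup M'} {e' : L' ≃* SpecialLinearGroup (Fin 2) F} {y' : M'} {g' : GL (Fin 2) F}
    (hy' : y' ^ 2 ^ n = 1) (hg' : ∀ l : L', y' * l * y'⁻¹ = e'.symm (conjGL g' (e' l))) {x : GL (Fin 2) F}
    (hx : conjGL x * conjGL g = conjGL g' * conjGL x) :
    ∃ Φ : M →* M', (∀ l : L, Φ l = (e'.symm (conjGL x (e l)) : L')) ∧ Φ y = y' := by
  have hn := h.normal
  let f : L →* M' := L'.subtype.comp ((e.trans ((conjGL x).trans e'.symm)).toMonoidHom)
  have hf : ∀ l, f l = (e'.symm (conjGL x (e l)) : L') := fun l => rfl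
  obtain ⟨Φ, hΦ, hΦy⟩ := ExtHom.exists_ext L y f y' (fun m => by
      obtain ⟨l, hl, i, hi⟩ := h.gen m
      exact ⟨⟨l, hl⟩, i, hi⟩) (by
      intro l
      rw [hf, hf]
      have h3 : e (MulAut.conjNormal y l) = conjGL g (e l) := by
        apply e.symm.injective
        apply Subtype.ext
        rw [e.symm_apply_apply, MulAut.conjNormal_apply]
        exact hg l
      rw [h3]
      have h4 := hg' (e'.symm (conjGL x (e l)))
      rw [e'.apply_symm_apply] at h4
      rw [h4]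
      have h5 := DFunLike.congr_fun hx (e l)
      rw [MulAut.mul_apply, MulAut.mul_apply] at h5
      rw [h5]) (by
      intro m hm
      have h3 := h.disj m hm
      have h4 : (⟨y ^ m, hm⟩ : L) = 1 := Subtype.ext h3
      rw [h4, map_one]
      have h5 : (2 ^ n : ℤ) ∣ m := by
        have h6 := orderOf_dvd_iff_zpow_eq_one.2 h3
        rw [h.orderOf_y] at h6
        exact_mod_cast h6
      obtain ⟨k, rfl⟩ := h5
      rw [_root_.zpow_mul]
      have h6 : y' ^ (2 ^ n : ℤ) = 1 := by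
        have : y' ^ ((2 ^ n : ℕ) : ℤ) = 1 := by rw [zpow_natCast, hy']
        exact_mod_cast this
      rw [h6, _root_.one_zpow])
  exact ⟨Φ, fun l => by rw [hΦ, hf], hΦy⟩

/-- The order of the matrix of `y`. -/
theorem ExtW.conj_order (h : ExtW L e n y) (g : GL (Fin 2) F)
    (hg : ∀ l : L, y * l * y⁻¹ = e.symm (conjGL g (e l))) :
    conjGL g ^ 2 ^ n = 1 ∧ conjGL g ^ 2 ^ (n - 1) ≠ 1 := by
  have hn := h.two_le
  constructor
  · apply MulEquiv.ext
    intro a
    apply e.symm.injective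
    apply Subtype.ext
    have h3 := pow_act hg (2 ^ n) (e.symm a)
    rw [e.apply_symm_apply] at h3
    rw [← h3, ← h.orderOf_y, pow_orderOf_eq_one]
    simp
  · intro h3
    have h4 : y ^ ((2 ^ (n - 1) : ℕ) : ℤ) = 1 := by
      apply h.faithful
      intro l hl
      rw [zpow_natCast]
      have h5 := pow_act hg (2 ^ (n - 1)) ⟨l, hl⟩
      rw [h3, MulAut.one_apply, e.symm_apply_apply] at h5
      change y ^ 2 ^ (n - 1) * l * (y ^ 2 ^ (n - 1))⁻¹ = l at h5
      exact mul_inv_eq_iff_eq_mul.1 h5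
    rw [zpow_natCast] at h4
    have h5 := orderOf_dvd_of_pow_eq_one h4
    rw [h.orderOf_y] at h5
    have h6 := (Nat.pow_dvd_pow_iff_le_right (by norm_num : 1 < 2)).1 h5
    omega

/-- **Uniqueness.** -/
theorem ExtW.exists_mulEquiv (h2 : (2 : F) ≠ 0) (h : ExtW L e n y) {M' : Type*} [Group M']
    {L' : Subgroup M'} {e' : L' ≃* SpecialLinearGroup (Fin 2) F} {y' : M'} (h' : ExtW L' e' n y') :
    ∃ φ : M ≃* M', (∀ m, φ m ∈ L' ↔ m ∈ L) ∧ ∃ j, Odd j ∧ φ (y ^ j) = y' := by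
  obtain ⟨g, hg⟩ := h.act
  obtain ⟨g', hg'⟩ := h'.act
  obtain ⟨k1, k2⟩ := h.conj_order g hg
  obtain ⟨k1', k2'⟩ := h'.conj_order g' hg'
  obtain ⟨j, hj, x, hx⟩ := exists_odd_conj h2 h.two_le k1 k2 k1' k2'
  have hp := h.pow hj
  have hgj : ∀ l : L, y ^ j * l * (y ^ j)⁻¹ = e.symm (conjGL (g ^ j) (e l)) := by
    intro l
    rw [pow_act hg, map_pow]
  rw [← map_pow] at hx
  have hx' : conjGL x⁻¹ * conjGL g' = conjGL (g ^ j) * conjGL x⁻¹ := by
    rw [map_inv]
    calc (conjGL x)⁻¹ * conjGL g' = (conjGL x)⁻¹ * (conjGL g' * conjGL x) * (conjGL x)⁻¹ := by group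
      _ = _ := by rw [← hx]; group
  obtain ⟨Φ, hΦ, hΦy⟩ := hp.exists_hom hgj (by rw [← h'.orderOf_y, pow_orderOf_eq_one]) hg' hx
  obtain ⟨Ψ, hΨ, hΨy⟩ := h'.exists_hom hg' (by rw [← hp.orderOf_y, pow_orderOf_eq_one]) hgj hx'
  have hΨΦ : ∀ m, Ψ (Φ m) = m := by
    intro m
    obtain ⟨l, hl, i, hi⟩ := hp.gen m
    rw [hi, map_mul, map_mul, map_zpow, map_zpow, hΦy, hΨy]
    congr 1
    have h3 := hΦ ⟨l, hl⟩
    change Φ l = _ at h3
    rw [h3, hΨ, e'.apply_symm_apply, ← MulAut.mul_apply, ← map_mul, inv_mul_cancel, map_one,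
      MulAut.one_apply, e.symm_apply_apply]
  have hΦΨ : ∀ m, Φ (Ψ m) = m := by
    intro m
    obtain ⟨l, hl, i, hi⟩ := h'.gen m
    rw [hi, map_mul, map_mul, map_zpow, map_zpow, hΨy, hΦy]
    congr 1
    have h3 := hΨ ⟨l, hl⟩
    change Ψ l = _ at h3
    rw [h3, hΦ, e.apply_symm_apply, ← MulAut.mul_apply, ← map_mul, mul_inv_cancel, map_one,
      MulAut.one_apply, e'.symm_apply_apply]
  refine ⟨{ toFun := Φ, invFun := Ψ, left_inv := hΨΦ, right_inv := hΦΨ, map_mul' := map_mul Φ }, ?_,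
    j, hj, hΦy⟩
  intro m
  constructor
  · intro hm
    change Φ m ∈ L' at hm
    rw [← hΨΦ m]
    have h3 := hΨ ⟨_, hm⟩
    change Ψ (Φ m) = _ at h3
    rw [h3]
    exact (e.symm _).2
  · intro hm
    change Φ m ∈ L'
    have h3 := hΦ ⟨_, hm⟩
    change Φ m = _ at h3
    rw [h3]
    exact (e'.symm _).2

end ext

end Cfsg.Agent.Classification.QDW.StructUniqW
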