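import Mathlib
import Cfsg.Agent.Classification.QDW.StructUniqW
import Cfsg.Agent.Classification.QDW.StructModel

/-!
# The models `GL(2,F)/Z₀` and `GU(2,q)/Z₀`, `Z₀` the odd part of the centre: wreathed case

`q ≡ 1 mod 4` for `GL`, `q ≡ 3 mod 4` for `GU`; `y₀ = diag(ζ, 1)` with `ζ` of order `2^n`.
-/

set_option autoImplicit false
set_option linter.unusedSectionVars false

namespace Cfsg.Agent.Classification.QDW.StructModelW

open Subgroup Matrix Cfsg.Agent.Lib.AutSL2 Cfsg.Agent.Classification.QDW.TypeHom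
  Cfsg.Agent.Classification.QDW.StructUniq Cfsg.Agent.Classification.QDW.StructUniqW
  Cfsg.Agent.Classification.InvCent.GLTwo
  Cfsg.Agent.Classification.InvCent.GUTwo Cfsg.Agent.Classification.QDW.StructModel

local notation "conjGL" => Cfsg.Agent.Lib.SL2Mat.conjGL

variable {F : Type*} [Field F]

theorem exists_zeta_pow {n k : ℕ} (hk : Odd k) {ζ : Fˣ} (hζ : orderOf ζ = 2 ^ n) {d : Fˣ}
    (hd : d ^ (2 ^ n * k) = 1) : ∃ i : ℕ, (d * (ζ ^ i)⁻¹) ^ k = 1 := by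
  have h1 : IsPrimitiveRoot (ζ : F) (2 ^ n) := by
    rw [IsPrimitiveRoot.coe_units_iff, IsPrimitiveRoot.iff_orderOf]
    exact hζ
  have hne : NeZero (2 ^ n) := ⟨by positivity⟩
  have h2 : ((d ^ k : Fˣ) : F) ^ 2 ^ n = 1 := by
    rw [← Units.val_pow_eq_pow_val, ← pow_mul, mul_comm k, hd, Units.val_one]
  obtain ⟨i₀, -, hi₀⟩ := h1.eq_pow_of_pow_eq_one h2
  have hi : ζ ^ i₀ = d ^ k := Units.ext (by rw [Units.val_pow_eq_pow_val, hi₀])
  obtain ⟨m, hm⟩ := exists_pow_eq_self_of_coprime (x := ζ) (n := k) (by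
    rw [hζ]
    exact Nat.Coprime.pow_right _ (Nat.coprime_two_right.2 hk))
  refine ⟨i₀ * m, ?_⟩
  have h3 : (ζ ^ (i₀ * m)) ^ k = d ^ k := by
    rw [← pow_mul, ← hi]
    have : i₀ * m * k = (k * m) * i₀ := by ring
    rw [this, pow_mul, pow_mul, hm]
  rw [mul_pow, inv_pow, h3, mul_inv_cancel]

theorem eq_one_of_coprime {A : Type*} [Group A] {x : A} {n k : ℕ} (hk : Odd k) (h1 : x ^ 2 ^ n = 1)
    (h2 : x ^ k = 1) : x = 1 := by
  have h3 := orderOf_dvd_of_pow_eq_one h1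
  have h4 := orderOf_dvd_of_pow_eq_one h2
  have h5 : Nat.Coprime (2 ^ n) k := Nat.Coprime.pow_left _ (Nat.coprime_two_left.2 hk)
  have h6 := Nat.dvd_gcd h3 h4
  rw [h5] at h6
  exact orderOf_eq_one_iff.1 (Nat.dvd_one.1 h6)

theorem dg_zpow (a b : Fˣ) (i : ℤ) : dg a b ^ i = dg (a ^ i) (b ^ i) := by
  have hinv : ∀ a b : Fˣ, (dg a b)⁻¹ = dg a⁻¹ b⁻¹ := by
    intro a b
    apply inv_eq_of_mul_eq_one_right
    rw [dg_mul, mul_inv_cancel, mul_inv_cancel, dg_one]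
  rcases Int.eq_nat_or_neg i with ⟨m, rfl | rfl⟩
  · rw [zpow_natCast, zpow_natCast, zpow_natCast, dg_pow]
  · rw [_root_.zpow_neg, _root_.zpow_neg, _root_.zpow_neg, zpow_natCast, zpow_natCast, zpow_natCast,
      dg_pow, hinv]

/-- The common part of the two models. -/
theorem ext_of {K : Type*} [Field K] {G₀ : Type*} [Group G₀] (ι : G₀ →* GL (Fin 2) F)
    (hι : Function.Injective ι) (j : SpecialLinearGroup (Fin 2) K →* G₀)
    (hjinj : Function.Injective j) {n k : ℕ} (hn : 2 ≤ n) (hk : Odd k)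
    (hj : ∀ g : G₀, GeneralLinearGroup.det (ι g) = 1 → ∃ s, j s = g)
    (hj1 : ∀ s, GeneralLinearGroup.det (ι (j s)) = 1)
    (hsc : ∀ a : Fˣ, a ^ k = 1 → ∃ g, ι g = dg a a)
    (hdet : ∀ g, GeneralLinearGroup.det (ι g) ^ (2 ^ n * k) = 1) {ζ : Fˣ} (hζ : orderOf ζ = 2 ^ n)
    (y₀ : G₀) (hy₀ : ι y₀ = dg ζ 1) (hcent : ∀ c, (∀ s, c * j s = j s * c) → ∃ a, ι c = dg a a)
    (hact : ∃ g : GL (Fin 2) K, ∀ s, y₀ * j s * y₀⁻¹ = j (conjGL g s))
    [hZn : ((Zsub F k).comap ι).Normal] :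
    ∃ e : ((QuotientGroup.mk' ((Zsub F k).comap ι)).comp j).range ≃* SpecialLinearGroup (Fin 2) K,
      ExtW ((QuotientGroup.mk' ((Zsub F k).comap ι)).comp j).range e n
        (QuotientGroup.mk' ((Zsub F k).comap ι) y₀) := by
  set Z₀ := (Zsub F k).comap ι with hZ₀
  set π := QuotientGroup.mk' Z₀ with hπ
  have hker : ∀ g, π g = 1 ↔ g ∈ Z₀ := fun g => QuotientGroup.eq_one_iff g
  have hmemZ : ∀ g, g ∈ Z₀ → ∃ c : Fˣ, c ^ k = 1 ∧ ι g = dg c c := fun g hg =>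
    mem_Zsub.1 (Subgroup.mem_comap.1 hg)
  have hjZ : ∀ s, j s ∈ Z₀ → s = 1 := by
    intro s hs
    obtain ⟨c, hc, hsc⟩ := hmemZ _ hs
    have h1 := hj1 s
    rw [hsc, det_dg] at h1
    have h3 : c = 1 := by
      obtain ⟨m, rfl⟩ := hk
      rw [pow_succ, pow_mul, sq, h1, one_pow, one_mul] at hc
      exact hc
    apply hjinj
    rw [map_one]
    apply hι
    rw [hsc, h3, dg_one, map_one]
  have hinj : Function.Injective (π.comp j) := by
    rw [injective_iff_map_eq_one]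
    intro s hs
    exact hjZ s ((hker _).1 hs)
  let E : SpecialLinearGroup (Fin 2) K ≃* (π.comp j).range := MonoidHom.ofInjective hinj
  have hE : ∀ s, ((E s : (π.comp j).range) : G₀ ⧸ Z₀) = π (j s) := fun s => rfl
  have hconj : ∀ g s, ∃ s', j s' = g * j s * g⁻¹ := by
    intro g s
    apply hj
    rw [map_mul, map_mul, map_mul, map_mul, hj1, mul_one, map_inv, map_inv, mul_inv_cancel]
  have hyi : ∀ i : ℤ, ι (y₀ ^ i) = dg (ζ ^ i) 1 := by
    intro i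
    rw [map_zpow, hy₀, dg_zpow, _root_.one_zpow]
  have hζi : ∀ i : ℤ, ζ ^ i = 1 → y₀ ^ i = 1 := by
    intro i hi
    apply hι
    rw [hyi, hi, dg_one, map_one]
  have hζk : ∀ i : ℤ, (ζ ^ i) ^ k = 1 → ζ ^ i = 1 := by
    intro i hi
    refine eq_one_of_coprime hk (n := n) ?_ hi
    rw [← zpow_natCast, ← _root_.zpow_mul, mul_comm, _root_.zpow_mul, zpow_natCast, ← hζ,
      pow_orderOf_eq_one, _root_.one_zpow]
  have hπy : ∀ i : ℤ, π y₀ ^ i = 1 → y₀ ^ i = 1 := by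
    intro i hi
    rw [← map_zpow] at hi
    obtain ⟨c, hc, hcc⟩ := hmemZ _ ((hker _).1 hi)
    rw [hyi] at hcc
    obtain ⟨h1, h2⟩ := dg_injective hcc
    exact hζi i (h1.trans h2.symm)
  refine ⟨E.symm, ?_, hn, ?_, ?_, ?_, ?_, ?_⟩
  · refine ⟨fun m hm g => ?_⟩
    obtain ⟨s, rfl⟩ := hm
    obtain ⟨g, rfl⟩ := QuotientGroup.mk'_surjective Z₀ g
    obtain ⟨s', hs'⟩ := hconj g s
    exact ⟨s', by rw [MonoidHom.comp_apply, hs', map_mul, map_mul, map_inv]; rfl⟩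
  · obtain ⟨m, rfl⟩ : ∃ m, n = m + 1 := ⟨n - 1, by omega⟩
    apply orderOf_eq_prime_pow
    · intro h1
      have h2 := hπy ((2 ^ m : ℕ) : ℤ) (by rw [zpow_natCast]; exact h1)
      have h3 := congrArg ι h2
      rw [hyi, map_one, ← dg_one] at h3
      have h4 := (dg_injective h3).1
      rw [zpow_natCast] at h4
      have h5 := orderOf_dvd_of_pow_eq_one h4
      rw [hζ] at h5
      have h6 := (Nat.pow_dvd_pow_iff_le_right (by norm_num : 1 < 2)).1 h5
      omega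
    · have h1 : y₀ ^ ((2 ^ (m + 1) : ℕ) : ℤ) = 1 := by
        apply hζi
        rw [zpow_natCast, ← hζ, pow_orderOf_eq_one]
      rw [zpow_natCast] at h1
      rw [← map_pow, h1, map_one]
  · intro m
    obtain ⟨g, rfl⟩ := QuotientGroup.mk'_surjective Z₀ m
    obtain ⟨i, hi⟩ := exists_zeta_pow hk hζ (hdet g)
    obtain ⟨c, hc, hcd⟩ := pow_even hk hi
    obtain ⟨z, hz⟩ := hsc c hc
    have hzZ : z ∈ Z₀ := by
      rw [hZ₀, Subgroup.mem_comap, hz]
      exact mem_Zsub.2 ⟨c, hc, rfl⟩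
    obtain ⟨s, hs⟩ := hj (g * (y₀ ^ i)⁻¹ * z⁻¹) (by
      rw [map_mul, map_mul, map_mul, map_mul, map_inv, map_inv, map_inv, map_inv, map_pow, hy₀, dg_pow,
        one_pow, det_dg, mul_one, hz, det_dg, hcd, mul_inv_cancel])
    refine ⟨π (j s), (E s).2, i, ?_⟩
    rw [hs, zpow_natCast, map_mul, map_mul, map_inv, map_inv, map_pow, (hker z).2 hzZ, inv_one, mul_one,
      inv_mul_cancel_right]
  · rintro i ⟨s, hs⟩
    rw [MonoidHom.comp_apply, ← map_zpow] at hs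
    have h1 : π ((j s)⁻¹ * y₀ ^ i) = 1 := by rw [map_mul, map_inv, hs, inv_mul_cancel]
    obtain ⟨c, hc, hcc⟩ := hmemZ _ ((hker _).1 h1)
    have h2 : y₀ ^ i = j s * ((j s)⁻¹ * y₀ ^ i) := (mul_inv_cancel_left _ _).symm
    have h3 : GeneralLinearGroup.det (ι (y₀ ^ i)) = c * c := by
      rw [h2, map_mul, map_mul, hj1, hcc, det_dg, one_mul]
    rw [hyi, det_dg, mul_one] at h3
    rw [← map_zpow, hζi i (hζk i (by rw [h3, mul_pow, hc, one_mul])), map_one]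
  · intro i hi
    rw [← map_zpow]
    obtain ⟨a, ha⟩ := hcent (y₀ ^ i) (by
      intro s
      obtain ⟨s', hs'⟩ := hconj (y₀ ^ i) s
      have h1 := hi _ (E s).2
      rw [hE, ← map_zpow, ← map_mul, ← map_mul] at h1
      have h3 : π (j (s⁻¹ * s')) = 1 := by
        have h4 : π (y₀ ^ i * j s) * (π (y₀ ^ i))⁻¹ = π (j s) := by
          rw [h1, map_mul, mul_inv_cancel_right]
        rw [map_mul, map_mul, hs', map_mul, map_inv (f := π), h4, ← map_mul, map_inv, inv_mul_cancel,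
          map_one]
      have h4 := hjZ _ ((hker _).1 h3)
      have h5 : s' = s := by rw [← mul_inv_cancel_left s s', h4, mul_one]
      rw [h5] at hs'
      calc y₀ ^ i * j s = y₀ ^ i * j s * (y₀ ^ i)⁻¹ * y₀ ^ i := by group
        _ = j s * y₀ ^ i := by rw [← hs'])
    rw [hyi] at ha
    obtain ⟨h1, h2⟩ := dg_injective ha
    rw [hζi i (h1.trans h2.symm), map_one]
  · obtain ⟨g, hg⟩ := hact
    refine ⟨g, fun l => ?_⟩
    obtain ⟨s, rfl⟩ := E.surjective l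
    rw [E.symm_apply_apply, hE]
    change _ = ((E (conjGL g s) : (π.comp j).range) : G₀ ⧸ Z₀)
    rw [hE, ← hg, map_mul, map_mul, map_inv]

theorem exists_zeta [Finite F] {m : ℕ} (_hm : m ≠ 0) (h : m ∣ Nat.card F - 1) : ∃ ζ : Fˣ, orderOf ζ = m := by
  obtain ⟨g, hg⟩ := IsCyclic.exists_ofOrder_eq_natCard (α := Fˣ)
  have : Fintype F := Fintype.ofFinite F
  rw [card_units] at hg
  obtain ⟨c, hc⟩ := h
  have hF : 1 < Nat.card F := Finite.one_lt_card
  have hc0 : c ≠ 0 := by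
    rintro rfl
    rw [mul_zero] at hc
    omega
  refine ⟨g ^ c, ?_⟩
  rw [orderOf_pow' _ hc0, hg, hc, Nat.gcd_mul_left_left, Nat.mul_div_cancel _ (Nat.pos_of_ne_zero hc0)]

theorem normal_comap {G₀ : Type*} [Group G₀] (ι : G₀ →* GL (Fin 2) F) (k : ℕ) :
    ((Zsub F k).comap ι).Normal := by
  have : (Zsub F k).Normal := by
    refine ⟨fun z hz g => ?_⟩
    obtain ⟨c, -, rfl⟩ := mem_Zsub.1 hz
    rw [← dg_comm, mul_inv_cancel_right]
    exact hz
  exact Subgroup.Normal.comap this ι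

/-- `GL(2,F)/Z₀`, `q - 1 = 2^n k`, `n ≥ 2`. -/
theorem ext_gl [Fintype F] (h2 : (2 : F) ≠ 0) {n k : ℕ} (hn : 2 ≤ n) (hk : Odd k)
    (hq : Fintype.card F - 1 = 2 ^ n * k) [hZn : ((Zsub F k).comap (MonoidHom.id (GL (Fin 2) F))).Normal] :
    ∃ (ζ : Fˣ) (e : ((QuotientGroup.mk' ((Zsub F k).comap (MonoidHom.id (GL (Fin 2) F)))).comp
        SpecialLinearGroup.toGL).range ≃* SpecialLinearGroup (Fin 2) F), orderOf ζ = 2 ^ n ∧
      ExtW _ e n (QuotientGroup.mk' ((Zsub F k).comap (MonoidHom.id (GL (Fin 2) F))) (dg ζ 1)) := by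
  have hcU : Nat.card Fˣ = 2 ^ n * k := by
    rw [card_units, Nat.card_eq_fintype_card, hq]
  have hpow : ∀ a : Fˣ, a ^ (2 ^ n * k) = 1 := by
    intro a
    rw [← hcU]
    exact pow_card_eq_one'
  obtain ⟨ζ, hζ⟩ := exists_zeta (F := F) (m := 2 ^ n) (by positivity) (by
    rw [Nat.card_eq_fintype_card, hq]; exact Dvd.intro _ rfl)
  obtain ⟨e, he⟩ := ext_of (K := F) (MonoidHom.id (GL (Fin 2) F)) Function.injective_id
    (SpecialLinearGroup.toGL) (by
      intro a b hab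
      apply Subtype.ext
      exact congrArg (fun g : GL (Fin 2) F => g.1) hab) hn hk (by
      intro g hg
      have hd : g.1.det = 1 := by
        have := congrArg (fun u : Fˣ => (u : F)) hg
        rwa [GeneralLinearGroup.val_det_apply] at this
      exact ⟨⟨g.1, hd⟩, Units.ext rfl⟩) (by
      intro s
      ext
      rw [GeneralLinearGroup.val_det_apply]
      exact s.2) (fun a _ => ⟨dg a a, rfl⟩) (fun g => hpow _) hζ (dg ζ 1) rfl (by
      intro c hc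
      have h1 : conjGL c = 1 := by
        apply MulEquiv.ext
        intro x
        have h3 := hc x
        apply Subtype.ext
        rw [Cfsg.Agent.Lib.SL2Mat.conjGL_val]
        have h4 : c.1 * x.1 = x.1 * c.1 := congrArg (fun g : GL (Fin 2) F => g.1) h3
        rw [h4, Matrix.mul_assoc, ← Units.val_mul, mul_inv_cancel, Units.val_one, Matrix.mul_one]
        rfl
      obtain ⟨h01, h10, h00⟩ := scalar_of_conjGL h1
      have h3 : c ∈ Subgroup.center (GL (Fin 2) F) := mem_center.2 ⟨h01, h10, h00⟩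
      obtain ⟨a, b, rfl⟩ := exists_dg h2 (center_le_Tor h3)
      rw [dg_mem_center] at h3
      exact ⟨a, by rw [h3]; rfl⟩) ⟨dg ζ 1, fun s => Units.ext rfl⟩
  exact ⟨ζ, e, hζ, he⟩

/-- `GU(2,q)/Z₀`, `q + 1 = 2^n k`, `n ≥ 2`. -/
theorem ext_gu [Fintype F] {q : ℕ} {K : Type*} [Field K] [Fintype K] (hF : Fintype.card F = q ^ 2)
    (hK : Fintype.card K = q) (hqo : Odd q) {n k : ℕ} (hn : 2 ≤ n) (hk : Odd k) (hq : q + 1 = 2 ^ n * k)
    [hZn : ((Zsub F k).comap (Cfsg.GU 2 F q).subtype).Normal] :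
    ∃ (j : SpecialLinearGroup (Fin 2) K →* Cfsg.GU 2 F q) (ζ : Fˣ) (y₀ : Cfsg.GU 2 F q)
      (e : ((QuotientGroup.mk' ((Zsub F k).comap (Cfsg.GU 2 F q).subtype)).comp j).range ≃*
        SpecialLinearGroup (Fin 2) K), orderOf ζ = 2 ^ n ∧ (y₀ : GL (Fin 2) F) = dg ζ 1 ∧
      (∀ s, GeneralLinearGroup.det (j s : GL (Fin 2) F) = 1) ∧
      (∀ g : Cfsg.GU 2 F q, GeneralLinearGroup.det (g : GL (Fin 2) F) = 1 → ∃ s, j s = g) ∧
      ExtW _ e n (QuotientGroup.mk' ((Zsub F k).comap (Cfsg.GU 2 F q).subtype) y₀) := by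
  obtain ⟨σ, κ, P⟩ := exists_par hF hqo
  obtain ⟨f, j, hjinj, hj1, hj, htr⟩ := SUTwoTrace.exists_hom_GU hF hK
  obtain ⟨ζ, hζ⟩ := exists_zeta (F := F) (m := 2 ^ n) (by positivity) (by
    rw [Nat.card_eq_fintype_card, hF]
    have h1 : q ^ 2 - 1 = (q + 1) * (q - 1) := by
      have := Nat.sq_sub_sq q 1
      rwa [one_pow] at this
    rw [h1, hq]
    exact Dvd.dvd.mul_right (Dvd.intro _ rfl) _)
  have hζq : ζ ^ (q + 1) = 1 := by rw [hq, pow_mul, ← hζ, pow_orderOf_eq_one, one_pow]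
  have hζm : dg ζ 1 ∈ Cfsg.GU 2 F q := by
    rw [P.dg_mem, ← P.pow_succ_eq, ← Units.val_pow_eq_pow_val, hζq]
    simp
  obtain ⟨e, he⟩ := ext_of (K := K) (Cfsg.GU 2 F q).subtype (Subgroup.subtype_injective _) j hjinj hn hk
    hj hj1 (by
      intro a ha
      exact ⟨⟨dg a a, (dg_mem_GU P).2 (by rw [hq, mul_comm, pow_mul, ha, one_pow])⟩, rfl⟩) (by
      intro g
      rw [← hq]
      exact det_pow P g) hζ ⟨dg ζ 1, hζm⟩ rfl (by
      intro c hc
      obtain ⟨a, ha, -⟩ := cent_GU P c (by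
        intro g hg
        obtain ⟨s, rfl⟩ := hj g hg
        exact hc s)
      exact ⟨a, ha⟩) (exists_act hjinj hj hj1 htr _)
  exact ⟨j, ζ, ⟨dg ζ 1, hζm⟩, e, hζ, rfl, hj1, hj, he⟩

end Cfsg.Agent.Classification.QDW.StructModelW
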