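import Mathlib
import Cfsg.Agent.S0215
import Cfsg.Agent.S1180
import Cfsg.Agent.Classification.RTwo.General
import Cfsg.Agent.Classification.InvCent.FusionCore
import Cfsg.Agent.Classification.BGValues
import Cfsg.Agent.Walter.OddCoreIn
import Cfsg.Agent.Walter.Cover

/-!
# Subgroups covering the centralizer of an involution, in which the involution is not isolated

`H : Hyp t z π` (one class of involutions in `G`, `π : C(t) → C` onto with odd kernel),
`h : CHyp z q ε ..` (`C` of type `GL₂`, `GU₂`).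

* `Covers π X`: `π` maps `X ∩ C(t)` onto `C`; `NonIso t X`: `t` commutes with an `X`-conjugate `≠ t`.
* `exists_conj`: then all involutions of `X` are conjugate in `X`;
* `comm_mem_OO`: if `t` is isolated in `X` then `[t, X] ≤ O(X)` (Z*-theorem);
* `ker_of_odd`: normal odd order subgroups of `X` meet `C(t)` in the kernel;
* `normal_of_even`: normal subgroups of `X` of even order inherit `Covers` and `NonIso`;
* `factor`: if `t` is isolated in `X` then `X = O(X) C_X(t)`.
-/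

set_option autoImplicit false
set_option linter.unusedSectionVars false

namespace Cfsg.Agent.Classification.QDW.FOneGroup

open Subgroup Cfsg Cfsg.Agent.Classification.RTwo.General Cfsg.Agent.Classification.InvCent
  Cfsg.Agent.Walter.OddCoreIn

universe w v

section Abstract

/-- If `t₀` is conjugate to all involutions commuting with it, then all involutions are
conjugate. -/
theorem all_conj {Y : Type*} [Group Y] [Finite Y] {t₀ : Y} (ht2 : orderOf t₀ = 2)
    (hcom : ∀ x : Y, orderOf x = 2 → x * t₀ = t₀ * x → IsConj t₀ x) (x : Y)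
    (hx : orderOf x = 2) : IsConj t₀ x := by
  classical
  have : Fact (Nat.Prime 2) := ⟨Nat.prime_two⟩
  have hP : ∀ y : Y, orderOf y = 2 → ∃ P : Sylow 2 Y, y ∈ P := by
    intro y hy
    have hp : IsPGroup 2 (Subgroup.zpowers y) := by
      rw [IsPGroup.iff_card]
      exact ⟨1, by rw [Nat.card_zpowers, hy, pow_one]⟩
    obtain ⟨P, hP⟩ := hp.exists_le_sylow
    exact ⟨P, hP (Subgroup.mem_zpowers y)⟩
  obtain ⟨S, hS⟩ := hP t₀ ht2
  have hnt : Nontrivial S := by
    refine ⟨⟨t₀, hS⟩, 1, fun h1 => ?_⟩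
    have := congrArg Subtype.val h1
    change t₀ = 1 at this
    rw [this, orderOf_one] at ht2
    omega
  have hcn : Nontrivial (Subgroup.center S) := S.isPGroup'.center_nontrivial
  have hcp : IsPGroup 2 (Subgroup.center S) := S.isPGroup'.to_subgroup _
  have hdvd : 2 ∣ Nat.card (Subgroup.center S) := by
    obtain ⟨n, hn⟩ := IsPGroup.iff_card.1 hcp
    rw [hn]
    have : n ≠ 0 := by
      rintro rfl
      rw [pow_zero] at hn
      exact absurd hn (Finite.one_lt_card (α := Subgroup.center S)).ne'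
    exact dvd_pow_self 2 this
  obtain ⟨z, hz⟩ := exists_prime_orderOf_dvd_card' 2 hdvd
  set z' : Y := ((z : S) : Y) with hz'
  have hz2 : orderOf z' = 2 := by
    rw [hz', Subgroup.orderOf_coe, Subgroup.orderOf_coe]; exact hz
  have hzS : ∀ y ∈ S, y * z' = z' * y := by
    intro y hy
    have := Subgroup.mem_center_iff.1 z.2 ⟨y, hy⟩
    exact congrArg Subtype.val this
  have hzt := hcom z' hz2 (hzS t₀ hS).symm
  obtain ⟨g, hg⟩ := isConj_iff.1 hzt
  obtain ⟨S', hS'⟩ := hP x hx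
  obtain ⟨k, hk⟩ := MulAction.exists_smul_eq Y S' S
  have hxS : k * x * k⁻¹ ∈ S := by
    change k * x * k⁻¹ ∈ (S : Subgroup Y)
    rw [← hk]
    exact Subgroup.smul_mem_pointwise_smul x (MulAut.conj k) (S' : Subgroup Y) hS'
  have hcomm := hzS _ hxS
  have h1 : (g⁻¹ * (k * x * k⁻¹) * g) * t₀ = t₀ * (g⁻¹ * (k * x * k⁻¹) * g) := by
    have h2 : t₀ = g⁻¹ * z' * g := by rw [← hg]; group
    calc (g⁻¹ * (k * x * k⁻¹) * g) * t₀ = g⁻¹ * ((k * x * k⁻¹) * z') * g := by rw [h2]; group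
      _ = g⁻¹ * (z' * (k * x * k⁻¹)) * g := by rw [hcomm]
      _ = t₀ * (g⁻¹ * (k * x * k⁻¹) * g) := by rw [h2]; group
  have h3 : orderOf (g⁻¹ * (k * x * k⁻¹) * g) = 2 := by
    have h4 : g⁻¹ * (k * x * k⁻¹) * g = (g⁻¹ * k) * x * (g⁻¹ * k)⁻¹ := by group
    rw [h4, FusionCore.orderOf_conj, hx]
  have h5 := hcom _ h3 h1
  refine h5.trans (isConj_iff.2 ⟨k⁻¹ * g, ?_⟩)
  group

end Abstract

section Main

variable {G : Type w} [Group G] [Finite G] {C : Type v} [Group C] {t : G} {z : C}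
  {π : (Subgroup.centralizer ({t} : Set G)) →* C}
  {q : ℕ} {ε : ℤ} {Z T T' U : Subgroup C} {s s' u : C}

/-- `π` maps `X ∩ C(t)` onto `C`. -/
def Covers (π : (Subgroup.centralizer ({t} : Set G)) →* C) (X : Subgroup G) : Prop :=
  ∀ c : C, ∃ m : Subgroup.centralizer ({t} : Set G), (m : G) ∈ X ∧ π m = c

/-- `t` commutes with one of its `X`-conjugates different from `t`. -/
def NonIso (t : G) (X : Subgroup G) : Prop :=
  ∃ m ∈ X, m * t * m⁻¹ ≠ t ∧ Commute t (m * t * m⁻¹)

theorem Covers.mono {X Y : Subgroup G} (hc : Covers π X) (h : X ≤ Y) : Covers π Y := fun c => by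
  obtain ⟨m, hm, e⟩ := hc c
  exact ⟨m, h hm, e⟩

theorem Covers.t_mem (H : Hyp t z π) {X : Subgroup G} (hc : Covers π X) : t ∈ X := by
  obtain ⟨m, hm, e⟩ := hc z
  have h1 : t ∈ Subgroup.zpowers (m : G) :=
    mem_zpowers_of_map H (by rw [e]; exact Subgroup.mem_zpowers z)
  exact (Subgroup.zpowers_le.2 hm) h1

theorem mem_cent {x : G} : x ∈ Subgroup.centralizer ({t} : Set G) ↔ x * t = t * x :=
  Subgroup.mem_centralizer_singleton_iff

/-- An involution `a ≠ t` commuting with `t` is mapped to a noncentral involution. -/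
theorem orderOf_map (H : Hyp t z π) {a : Subgroup.centralizer ({t} : Set G)}
    (ha : orderOf (a : G) = 2) : orderOf (π a) = 2 := by
  have ha' : orderOf a = 2 := by rw [← Subgroup.orderOf_coe]; exact ha
  have h2 : a ^ 2 = 1 := by rw [← ha']; exact pow_orderOf_eq_one a
  refine orderOf_eq_prime (by rw [← map_pow, h2, map_one]) ?_
  intro h1
  have h3 := eq_one_of_ker H h1 (m := 1) (by rw [pow_one]; exact h2)
  rw [h3, orderOf_one] at ha'
  omega

theorem map_ne (H : Hyp t z π) {a : Subgroup.centralizer ({t} : Set G)}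
    (ha : orderOf (a : G) = 2) (hat : (a : G) ≠ t) : π a ≠ z := by
  intro h1
  have ha' : orderOf a = 2 := by rw [← Subgroup.orderOf_coe]; exact ha
  have h2 : a ^ 2 = 1 := by rw [← ha']; exact pow_orderOf_eq_one a
  have h3 : a * tt t = 1 := by
    refine eq_one_of_ker H (x := a * tt t) ?_ (m := 1) ?_
    · rw [map_mul, h1, map_tt H, z_mul_z H]
    · rw [pow_one, (tt_comm a).symm.mul_pow, h2, sq, tt_mul_tt H, one_mul]
  apply hat
  have h4 : a = (tt t)⁻¹ := eq_inv_of_mul_eq_one_left h3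
  have h5 : (tt t)⁻¹ = tt t := inv_eq_of_mul_eq_one_right (tt_mul_tt H)
  rw [h5] at h4
  exact congrArg Subtype.val h4

/-- Two involutions of `X ∩ C(t)` different from `t` are conjugate in `X ∩ C(t)`. -/
theorem exists_conj_cent (H : Hyp t z π) (h : CHyp z q ε Z T T' U s s' u) {X : Subgroup G}
    (hc : Covers π X) {a b : Subgroup.centralizer ({t} : Set G)} (ha : (a : G) ∈ X)
    (hb : (b : G) ∈ X) (ha2 : orderOf (a : G) = 2) (hb2 : orderOf (b : G) = 2)
    (hat : (a : G) ≠ t) (hbt : (b : G) ≠ t) :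
    ∃ m ∈ X, m * (a : G) * m⁻¹ = b := by
  obtain ⟨g, hg⟩ := (FusionCore.eq_or_conj h (orderOf_map H ha2)).resolve_left (map_ne H ha2 hat)
  obtain ⟨k, hk⟩ := (FusionCore.eq_or_conj h (orderOf_map H hb2)).resolve_left (map_ne H hb2 hbt)
  obtain ⟨c, hcX, hcm⟩ := hc (k⁻¹ * g)
  -- restrict `π` to `X ∩ C(t)`
  set D : Subgroup (Subgroup.centralizer ({t} : Set G)) :=
    X.subgroupOf (Subgroup.centralizer ({t} : Set G)) with hD
  have haD : c * a * c⁻¹ ∈ D := by
    rw [hD, Subgroup.mem_subgroupOf]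
    exact X.mul_mem (X.mul_mem hcX ha) (X.inv_mem hcX)
  have hbD : b ∈ D := by
    rw [hD, Subgroup.mem_subgroupOf]; exact hb
  have hodd : Odd (Nat.card (π.comp D.subtype).ker) := by
    refine Odd.of_dvd_nat H.odd_ker ?_
    have hinj : Function.Injective
        ((D.subtype.comp (π.comp D.subtype).ker.subtype).codRestrict π.ker (fun x => x.2)) := by
      intro x y hxy
      have h1 : (((x : D) : Subgroup.centralizer ({t} : Set G)) : G) = ((y : D) :
          Subgroup.centralizer ({t} : Set G)) :=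
        congrArg (fun w : π.ker => ((w : Subgroup.centralizer ({t} : Set G)) : G)) hxy
      exact Subtype.ext (Subtype.ext (Subtype.ext h1))
    exact Subgroup.card_dvd_of_injective _ hinj
  have hsq : ∀ x : Subgroup.centralizer ({t} : Set G), orderOf (x : G) = 2 → x ^ 2 ^ 1 = 1 := by
    intro x hx
    apply Subtype.ext
    rw [pow_one, ← hx]
    exact pow_orderOf_eq_one _
  have hac2 : orderOf ((c * a * c⁻¹ : Subgroup.centralizer ({t} : Set G)) : G) = 2 := by
    rw [← ha2]; exact FusionCore.orderOf_conj _ _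
  have h1 : IsConj (⟨c * a * c⁻¹, haD⟩ : D) ⟨b, hbD⟩ := by
    refine BGValues.isConj_of_ker_odd (π.comp D.subtype) hodd _ _ 1 ?_ ?_ ?_
    · exact Subtype.ext (hsq _ hac2)
    · exact Subtype.ext (hsq _ hb2)
    · change π (c * a * c⁻¹) = π b
      rw [map_mul, map_mul, map_inv, hcm]
      have h2 : k⁻¹ * g * π a * (k⁻¹ * g)⁻¹ = k⁻¹ * (g * π a * g⁻¹) * k := by group
      rw [h2, hg, ← hk]
      group
  obtain ⟨d, hd⟩ := isConj_iff.1 h1
  have h3 : ((d : Subgroup.centralizer ({t} : Set G)) : G) * ((c : G) * a * (c : G)⁻¹) *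
      ((d : Subgroup.centralizer ({t} : Set G)) : G)⁻¹ = b :=
    congrArg (fun x : D => ((x : Subgroup.centralizer ({t} : Set G)) : G)) hd
  have hdX : ((d : Subgroup.centralizer ({t} : Set G)) : G) ∈ X := Subgroup.mem_subgroupOf.1 d.2
  refine ⟨(d : Subgroup.centralizer ({t} : Set G)) * c, X.mul_mem hdX hcX, ?_⟩
  rw [← h3]
  group

/-- If `t` is not isolated in the covering subgroup `X` then all involutions of `X` are conjugate
in `X`. -/
theorem exists_conj (H : Hyp t z π) (h : CHyp z q ε Z T T' U s s' u) {X : Subgroup G}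
    (hc : Covers π X) (hn : NonIso t X) {x : G} (hx : x ∈ X) (hx2 : orderOf x = 2) :
    ∃ m ∈ X, m * t * m⁻¹ = x := by
  obtain ⟨m₀, hm₀, hne, hcm⟩ := hn
  have htX := hc.t_mem H
  have key : ∀ y ∈ X, orderOf y = 2 → y * t = t * y → ∃ m ∈ X, m * t * m⁻¹ = y := by
    intro y hy hy2 hyt
    by_cases hyt' : y = t
    · exact ⟨1, X.one_mem, by rw [hyt']; group⟩
    · obtain ⟨m, hm, e⟩ := exists_conj_cent H h hc
        (a := ⟨m₀ * t * m₀⁻¹, mem_cent.2 hcm.symm⟩) (b := ⟨y, mem_cent.2 hyt⟩)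
        (X.mul_mem (X.mul_mem hm₀ htX) (X.inv_mem hm₀)) hy
        (by rw [← H.orderOf_t]; exact FusionCore.orderOf_conj _ _) hy2 hne hyt'
      refine ⟨m * m₀, X.mul_mem hm hm₀, ?_⟩
      change m * (m₀ * t * m₀⁻¹) * m⁻¹ = y at e
      rw [← e]
      group
  have h1 := all_conj (Y := X) (t₀ := ⟨t, htX⟩) (by rw [Subgroup.orderOf_mk]; exact H.orderOf_t)
    (by
      intro y hy2 hyt
      obtain ⟨m, hm, e⟩ := key y y.2 (by rw [Subgroup.orderOf_coe]; exact hy2)
        (congrArg Subtype.val hyt)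
      exact isConj_iff.2 ⟨⟨m, hm⟩, Subtype.ext e⟩) ⟨x, hx⟩ (by rw [Subgroup.orderOf_mk]; exact hx2)
  obtain ⟨m, hm⟩ := isConj_iff.1 h1
  exact ⟨m, m.2, congrArg Subtype.val hm⟩

/-- **Z*-theorem.** -/
theorem comm_mem_OO (ht : orderOf t = 2) {X : Subgroup G} (htX : t ∈ X) (hn : ¬ NonIso t X) :
    ∀ g ∈ X, t * g * t⁻¹ * g⁻¹ ∈ OO X := by
  have : Fact (Nat.Prime 2) := ⟨Nat.prime_two⟩
  set t₀ : X := ⟨t, htX⟩ with ht₀
  have ht2 : orderOf t₀ = 2 := by rw [ht₀, Subgroup.orderOf_mk]; exact ht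
  have hiso : Cfsg.IsIsolatedInvolution t₀ := by
    refine ⟨ht2, fun g hg => ?_⟩
    by_contra hne
    refine hn ⟨g, g.2, fun h1 => hne (Subtype.ext h1), ?_⟩
    exact congrArg Subtype.val hg.eq
  have hp : IsPGroup 2 (Subgroup.zpowers t₀) := by
    rw [IsPGroup.iff_card]
    exact ⟨1, by rw [Nat.card_zpowers, ht2, pow_one]⟩
  obtain ⟨P, hP⟩ := hp.exists_le_sylow
  have hP' : t₀ ∈ P := hP (Subgroup.mem_zpowers t₀)
  obtain ⟨N, hN, hNodd, hcomm⟩ := Cfsg.Agent.S0215.result P t₀ ht2 hP'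
    (fun g hg => Cfsg.Agent.S1180.eq_of_conj_mem_isPGroup t₀ hiso (P : Subgroup X)
      P.isPGroup' hP' g hg)
  have hle : N ≤ pPrimeCore 2 X :=
    Cfsg.Agent.Lib.Cores.le_pPrimeCore hN (Nat.coprime_two_right.2 hNodd)
  intro g hg
  exact ⟨_, hle (hcomm ⟨g, hg⟩), rfl⟩

/-- The image of a subgroup normalised by the covering subgroup `X` is normal. -/
theorem map_normal {X : Subgroup G} (hc : Covers π X) {N : Subgroup G}
    (hN : X ≤ normalizer (N : Set G)) :
    ((N.subgroupOf (Subgroup.centralizer ({t} : Set G))).map π).Normal := by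
  refine ⟨?_⟩
  rintro _ ⟨n, hn, rfl⟩ c
  obtain ⟨m, hm, rfl⟩ := hc c
  refine ⟨m * n * m⁻¹, ?_, by rw [map_mul, map_mul, map_inv]⟩
  exact Subgroup.mem_subgroupOf.2 (conj_mem hN hm (Subgroup.mem_subgroupOf.1 hn))

/-- Odd order subgroups normalised by `X` meet `C(t)` in the kernel. -/
theorem ker_of_odd (hO : ∀ N : Subgroup C, N.Normal → Odd (Nat.card N) → N = ⊥) {X : Subgroup G}
    (hc : Covers π X) {N : Subgroup G} (hN : X ≤ normalizer (N : Set G))
    (hodd : ¬ 2 ∣ Nat.card N) (n : Subgroup.centralizer ({t} : Set G)) (hn : (n : G) ∈ N) :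
    π n = 1 := by
  have h1 : (N.subgroupOf (Subgroup.centralizer ({t} : Set G))).map π = ⊥ := by
    refine hO _ (map_normal hc hN) ?_
    rw [← Nat.not_even_iff_odd, even_iff_two_dvd]
    intro h2
    apply hodd
    have h3 : Nat.card ((N.subgroupOf (Subgroup.centralizer ({t} : Set G))).map π) ∣
        Nat.card (N.subgroupOf (Subgroup.centralizer ({t} : Set G))) :=
      Subgroup.card_map_dvd _ _
    have h4 : Nat.card (N.subgroupOf (Subgroup.centralizer ({t} : Set G))) ∣ Nat.card N :=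
      Subgroup.card_comap_dvd_of_injective _ _ (Subgroup.subtype_injective _)
    exact h2.trans (h3.trans h4)
  have h5 : π n ∈ (N.subgroupOf (Subgroup.centralizer ({t} : Set G))).map π :=
    ⟨n, Subgroup.mem_subgroupOf.2 hn, rfl⟩
  rw [h1, Subgroup.mem_bot] at h5
  exact h5

/-- `u` is not central in `C`. -/
theorem u_not_central (h : CHyp z q ε Z T T' U s s' u) (hu : ∀ c : C, c * u = u * c) : False := by
  have h1 := h.s_u
  rw [hu s, mul_inv_cancel_right] at h1
  have h2 : z = 1 := by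
    have : z * u = 1 * u := by rw [one_mul]; exact h1.symm
    exact mul_right_cancel this
  have h3 := h.orderOf_t
  rw [h2, orderOf_one] at h3
  omega

/-- Normal subgroups of even order inherit `Covers` and `NonIso`. -/
theorem normal_of_even (H : Hyp t z π) (h : CHyp z q ε Z T T' U s s' u)
    (hO : ∀ N : Subgroup C, N.Normal → Odd (Nat.card N) → N = ⊥)
    (hNm : ∀ N : Subgroup C, N.Normal → u ∈ N → N = ⊤)
    {X : Subgroup G} (hc : Covers π X) (hn : NonIso t X) {N : Subgroup G} (hNX : N ≤ X)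
    (hN : X ≤ normalizer (N : Set G)) (h2 : 2 ∣ Nat.card N) : Covers π N ∧ NonIso t N := by
  have : Fact (Nat.Prime 2) := ⟨Nat.prime_two⟩
  have htX := hc.t_mem H
  obtain ⟨x, hx⟩ := exists_prime_orderOf_dvd_card' 2 h2
  have hxo : orderOf (x : G) = 2 := by rw [Subgroup.orderOf_coe]; exact hx
  obtain ⟨m, hm, e⟩ := exists_conj H h hc hn (hNX x.2) hxo
  have htN : t ∈ N := by
    have h3 : t = m⁻¹ * (x : G) * m⁻¹⁻¹ := by rw [← e]; group
    rw [h3]
    exact conj_mem hN (X.inv_mem hm) x.2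
  obtain ⟨m₀, hm₀, hne, hcm⟩ := hn
  have hvN : m₀ * t * m₀⁻¹ ∈ N := conj_mem hN hm₀ htN
  set v : Subgroup.centralizer ({t} : Set G) := ⟨m₀ * t * m₀⁻¹, mem_cent.2 hcm.symm⟩ with hv
  have hv2 : orderOf (v : G) = 2 := by
    rw [← H.orderOf_t]; exact FusionCore.orderOf_conj _ _
  obtain ⟨g, hg⟩ := (FusionCore.eq_or_conj h (orderOf_map H hv2)).resolve_left (map_ne H hv2 hne)
  have htop : (N.subgroupOf (Subgroup.centralizer ({t} : Set G))).map π = ⊤ := by
    have hnorm := map_normal hc hN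
    refine hNm _ hnorm ?_
    rw [← hg]
    exact hnorm.conj_mem _ ⟨v, Subgroup.mem_subgroupOf.2 hvN, rfl⟩ g
  have hcN : Covers π N := by
    intro c
    have : c ∈ (N.subgroupOf (Subgroup.centralizer ({t} : Set G))).map π := by
      rw [htop]; exact Subgroup.mem_top c
    obtain ⟨n, hn1, hn2⟩ := this
    exact ⟨n, Subgroup.mem_subgroupOf.1 hn1, hn2⟩
  refine ⟨hcN, ?_⟩
  by_contra hiso
  have h3 := comm_mem_OO H.orderOf_t htN hiso
  -- `v` is central modulo `O(N)` as well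
  have hOO : OO N ≤ OO X := OO_le_OO_of_normal hNX hN
  have h4 : ∀ g ∈ N, (v : G) * g * (v : G)⁻¹ * g⁻¹ ∈ OO X := by
    intro g hgN
    have h5 : m₀⁻¹ * g * m₀ ∈ N := by
      have := conj_mem hN (X.inv_mem hm₀) hgN
      rwa [inv_inv] at this
    have h6 := hOO (h3 _ h5)
    have h7 := conj_mem (le_normalizer_OO X) hm₀ h6
    have h8 : m₀ * (t * (m₀⁻¹ * g * m₀) * t⁻¹ * (m₀⁻¹ * g * m₀)⁻¹) * m₀⁻¹ =
        (v : G) * g * (v : G)⁻¹ * g⁻¹ := by
      change _ = (m₀ * t * m₀⁻¹) * g * (m₀ * t * m₀⁻¹)⁻¹ * g⁻¹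
      group
    rwa [h8] at h7
  have h5 : ∀ c : C, c * π v = π v * c := by
    intro c
    obtain ⟨n, hn1, rfl⟩ := hcN c
    have h6 : π (v * n * v⁻¹ * n⁻¹) = 1 :=
      ker_of_odd hO hc (le_normalizer_OO X) (OO_odd X) _ (h4 n hn1)
    rw [map_mul, map_mul, map_mul, map_inv, map_inv, mul_inv_eq_one, mul_inv_eq_iff_eq_mul] at h6
    exact h6.symm
  refine u_not_central h (fun c => ?_)
  have h6 := h5 (g⁻¹ * c * g)
  rw [← hg]
  calc c * (g * π v * g⁻¹) = g * (g⁻¹ * c * g * π v) * g⁻¹ := by group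
    _ = g * (π v * (g⁻¹ * c * g)) * g⁻¹ := by rw [h6]
    _ = g * π v * g⁻¹ * c := by group

/-- If `t` is isolated in `X` then `X = O(X) C_X(t)`. -/
theorem factor (ht : orderOf t = 2) {X : Subgroup G} (htX : t ∈ X) (hn : ¬ NonIso t X) :
    ∀ x ∈ X, ∃ o ∈ OO X, ∃ n ∈ X ⊓ Subgroup.centralizer ({t} : Set G), x = o * n := by
  intro x hx
  have htt : t * t = 1 := by rw [← sq, ← ht]; exact pow_orderOf_eq_one t
  have hti : t⁻¹ = t := inv_eq_of_mul_eq_one_right htt
  have hk : x⁻¹ * (t * x * t⁻¹) ∈ OO X := by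
    have h1 := comm_mem_OO ht htX hn x⁻¹ (X.inv_mem hx)
    rw [inv_inv] at h1
    -- `t x⁻¹ t⁻¹ x`
    have h2 := (OO X).inv_mem h1
    have h3 : (t * x⁻¹ * t⁻¹ * x)⁻¹ = x⁻¹ * (t * x * t⁻¹) := by group
    rwa [h3] at h2
  obtain ⟨m, hm, hxm⟩ := Cfsg.Agent.Walter.Cover.exists_commute_coset htt (OO_odd X) x
    (fun m hm => conj_mem (le_normalizer_OO X) htX hm) hk
  refine ⟨x * m⁻¹ * x⁻¹, conj_mem (le_normalizer_OO X) hx ((OO X).inv_mem hm), x * m,
    ⟨X.mul_mem hx (OO_le X hm), hxm⟩, by group⟩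

end Main

end Cfsg.Agent.Classification.QDW.FOneGroup
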