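import Mathlib
import Cfsg.Agent.Classification.QDW.FOneGroup
import Cfsg.Agent.GTwoOdd.SLNormal
import Cfsg.Agent.SylowSp4.Pairs
import Cfsg.Agent.Lib.CoreCent

/-!
# The structural hypotheses of the one-class theorem

* `eq_top_of_mem`: a normal subgroup of `C = L ∪ L y`, `L ≃ SL(2,q)`, `q > 3`, containing `y` is `C`;
* `normal_of_u`: so is a normal subgroup containing the noncentral involution `u` of `CHyp`;
* `odd_normal_eq_bot`: `C(t)/O(C(t))` has no odd order normal subgroup;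
* `covers_of_cov`: `Cov t M` implies `Covers π M`;
* `cov_conj`, `factor_conj`: transport of the factorisation to conjugates.
-/

set_option autoImplicit false
set_option linter.unusedSectionVars false

namespace Cfsg.Agent.Classification.QDW.FOneStruct

open Subgroup Cfsg Cfsg.Agent.Classification.RTwo.General Cfsg.Agent.Classification.InvCent
  Cfsg.Agent.Walter.OddCoreIn Cfsg.Agent.Classification.QDW.FOneGroup

universe w v

section Normal

variable {C : Type v} [Group C]

/-- A normal subgroup of `L ∪ L y` containing `y`. -/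
theorem eq_top_of_mem (L : Subgroup C) [hL : L.Normal] {F : Type*} [Field F] [Fintype F]
    (e : L ≃* Matrix.SpecialLinearGroup (Fin 2) F) (h3 : 3 < Fintype.card F) {y : C}
    (hcov : ∀ c : C, c ∈ L ∨ c * y ∈ L) (hy : ∃ l ∈ L, y * l ≠ l * y) (N : Subgroup C)
    (hN : N.Normal) (hyN : y ∈ N) : N = ⊤ := by
  have hR : ((N.subgroupOf L).map e.toMonoidHom).Normal :=
    (hN.subgroupOf L).map _ e.surjective
  by_cases hc : ∃ x ∈ (N.subgroupOf L).map e.toMonoidHom,
      x ∉ Subgroup.center (Matrix.SpecialLinearGroup (Fin 2) F)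
  · obtain ⟨x, hx, hxc⟩ := hc
    have h1 := Cfsg.Agent.GTwoOdd.SLNormal.eq_top h3 _ hx hxc
    have hLN : L ≤ N := by
      intro l hl
      have h2 : e ⟨l, hl⟩ ∈ (N.subgroupOf L).map e.toMonoidHom := by rw [h1]; trivial
      obtain ⟨k, hk, hke⟩ := h2
      have h3 : k = ⟨l, hl⟩ := e.injective hke
      rw [h3] at hk
      exact Subgroup.mem_subgroupOf.1 hk
    rw [eq_top_iff]
    intro c _
    rcases hcov c with h2 | h2
    · exact hLN h2
    · have h3 := N.mul_mem (hLN h2) (N.inv_mem hyN)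
      rwa [mul_inv_cancel_right] at h3
  · exfalso
    push Not at hc
    obtain ⟨l, hl, hne⟩ := hy
    -- `x ↦ [y, x]` is a homomorphism `L → Z(L)`
    have hmem : ∀ x : L, y * x * y⁻¹ * (x : C)⁻¹ ∈ L := fun x =>
      L.mul_mem (hL.conj_mem _ x.2 y) (L.inv_mem x.2)
    have hcen : ∀ x k : L, (y * x * y⁻¹ * (x : C)⁻¹) * k = k * (y * x * y⁻¹ * (x : C)⁻¹) := by
      intro x k
      have h1 : (⟨y * x * y⁻¹ * (x : C)⁻¹, hmem x⟩ : L) ∈ N.subgroupOf L := by
        rw [Subgroup.mem_subgroupOf]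
        have h2 : y * (x : C) * y⁻¹ * (x : C)⁻¹ = y * ((x : C) * y⁻¹ * (x : C)⁻¹) := by group
        change y * (x : C) * y⁻¹ * (x : C)⁻¹ ∈ N
        rw [h2]
        exact N.mul_mem hyN (hN.conj_mem _ (N.inv_mem hyN) _)
      have h2 := hc _ ⟨_, h1, rfl⟩
      have h3 := Subgroup.mem_center_iff.1 h2 (e k)
      have h4 : e (k * ⟨y * x * y⁻¹ * (x : C)⁻¹, hmem x⟩) =
          e (⟨y * x * y⁻¹ * (x : C)⁻¹, hmem x⟩ * k) := by
        rw [map_mul, map_mul]; exact h3
      exact (congrArg Subtype.val (e.injective h4)).symm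
    let φ : L →* Subgroup.center L :=
      { toFun := fun x => ⟨⟨y * x * y⁻¹ * (x : C)⁻¹, hmem x⟩, Subgroup.mem_center_iff.2 fun k =>
          Subtype.ext (hcen x k).symm⟩
        map_one' := by
          apply Subtype.ext
          apply Subtype.ext
          simp
        map_mul' := by
          intro a b
          apply Subtype.ext
          apply Subtype.ext
          change y * ((a : C) * b) * y⁻¹ * ((a : C) * b)⁻¹ =
            (y * a * y⁻¹ * (a : C)⁻¹) * (y * b * y⁻¹ * (b : C)⁻¹)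
          have h1 : y * ((a : C) * b) * y⁻¹ * ((a : C) * b)⁻¹ =
              y * a * y⁻¹ * ((y * b * y⁻¹ * (b : C)⁻¹) * (a : C)⁻¹) := by group
          have h2 := hcen b a⁻¹
          rw [h1]
          rw [Subgroup.coe_inv] at h2
          rw [h2]
          group }
    have hperf : commutator L = ⊤ := by
      have h1 := Cfsg.Agent.TwoFusion.SLTwoFacts.commutator_eq_top (F := F) h3
      have h2 : (commutator L).map e.toMonoidHom = commutator (Matrix.SpecialLinearGroup (Fin 2) F) := by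
        rw [commutator_def, commutator_def, Subgroup.map_commutator]
        congr 1 <;> exact Subgroup.map_top_of_surjective _ e.surjective
      rw [eq_top_iff]
      intro x _
      have h4 : e x ∈ (commutator L).map e.toMonoidHom := by rw [h2, h1]; trivial
      obtain ⟨k, hk, hke⟩ := h4
      have h5 : k = x := e.injective hke
      rwa [h5] at hk
    have hker : commutator L ≤ φ.ker := by
      rw [commutator_def, Subgroup.commutator_le]
      intro a _ b _
      rw [MonoidHom.mem_ker, map_commutatorElement, commutatorElement_def]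
      have h1 : φ a * φ b = φ b * φ a :=
        Subtype.ext (Subgroup.mem_center_iff.1 (φ b).2 (φ a : L))
      rw [h1]
      group
    have h1 : φ ⟨l, hl⟩ = 1 := hker (by rw [hperf]; trivial)
    have h2 : y * l * y⁻¹ * l⁻¹ = 1 :=
      congrArg (fun x : Subgroup.center L => ((x : L) : C)) h1
    apply hne
    rw [mul_inv_eq_one, mul_inv_eq_iff_eq_mul] at h2
    exact h2

variable {z : C} {q : ℕ} {ε : ℤ} {Z T T' U : Subgroup C} {s s' u : C}

/-- A normal subgroup containing `u`. -/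
theorem normal_of_u (h : CHyp z q ε Z T T' U s s' u) (L : Subgroup C) [hL : L.Normal]
    {F : Type*} [Field F] [Fintype F] (e : L ≃* Matrix.SpecialLinearGroup (Fin 2) F)
    (h3 : 3 < Fintype.card F) {y : C} (hyy : y * y = 1)
    (hcov : ∀ c : C, c ∈ L ∨ c * y ∈ L) (hy : ∃ l ∈ L, y * l ≠ l * y) :
    ∀ N : Subgroup C, N.Normal → u ∈ N → N = ⊤ := by
  intro N hN huN
  refine eq_top_of_mem L e h3 hcov hy N hN ?_
  obtain ⟨l, -, hne⟩ := hy
  have hy1 : y ≠ 1 := by
    rintro rfl
    exact hne (by rw [one_mul, mul_one])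
  have hyz : y ≠ z := by
    rintro rfl
    exact hne (h.Z_central _ h.t_mem l).symm
  have hy2 : orderOf y = 2 := orderOf_eq_prime (by rw [sq]; exact hyy) hy1
  obtain ⟨g, hg⟩ := (FusionCore.eq_or_conj h hy2).resolve_left hyz
  have h1 : y = g⁻¹ * u * g⁻¹⁻¹ := by rw [← hg]; group
  rw [h1]
  exact hN.conj_mem u huN g⁻¹

end Normal

section Core

variable {G : Type w} [Group G] [Finite G] {C : Type v} [Group C] {t : G} {z : C}
  {π : (Subgroup.centralizer ({t} : Set G)) →* C}

/-- If the kernel is the odd core then `C` has no odd order normal subgroup. -/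
theorem odd_normal_eq_bot (H : Hyp t z π)
    (hker : ∀ x : Subgroup.centralizer ({t} : Set G), (x : G) ∈ centralizerPPrimeCore 2 t → π x = 1) :
    ∀ N : Subgroup C, N.Normal → Odd (Nat.card N) → N = ⊥ := by
  intro N hN hodd
  have hn : (N.comap π).Normal := hN.comap π
  have hcard : Nat.card (N.comap π) = Nat.card π.ker * Nat.card N := by
    have h1 := Subgroup.card_mul_index (π.ker.subgroupOf (N.comap π))
    have h2 : Nat.card (π.ker.subgroupOf (N.comap π)) = Nat.card π.ker :=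
      Nat.card_congr (Subgroup.subgroupOfEquivOfLe (by
        intro x hx
        rw [Subgroup.mem_comap, MonoidHom.mem_ker.1 hx]
        exact N.one_mem)).toEquiv
    have h3 : (π.ker.subgroupOf (N.comap π)).index = Nat.card N := by
      have h4 : ((N.comap π).map π) = N := Subgroup.map_comap_eq_self_of_surjective H.surj N
      have h5 := Subgroup.relIndex_ker (K := N.comap π) π
      rw [h4] at h5
      exact h5
    rw [← h1, h2, h3]
  have hodd' : Odd (Nat.card (N.comap π)) := by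
    rw [hcard]; exact H.odd_ker.mul hodd
  have hle : N.comap π ≤ pPrimeCore 2 (Subgroup.centralizer ({t} : Set G)) :=
    Lib.Cores.le_pPrimeCore hn (Nat.coprime_two_right.2 hodd')
  rw [eq_bot_iff]
  intro c hc
  obtain ⟨x, rfl⟩ := H.surj c
  rw [Subgroup.mem_bot]
  exact hker x ⟨x, hle hc, rfl⟩

/-- `Cov t M` implies `Covers π M`. -/
theorem covers_of_cov (H : Hyp t z π)
    (hker : ∀ x : Subgroup.centralizer ({t} : Set G), (x : G) ∈ centralizerPPrimeCore 2 t → π x = 1)
    {M : Subgroup G} (hM : Cfsg.Agent.Walter.Cover.Cov t M) : Covers π M := by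
  intro c
  obtain ⟨x, rfl⟩ := H.surj c
  obtain ⟨k, hk, m, hm, e⟩ := hM.2 x x.2
  have hkC : k ∈ Subgroup.centralizer ({t} : Set G) := Cfsg.Agent.Walter.Cover.core_le_C t hk
  refine ⟨⟨m, hm.2⟩, hm.1, ?_⟩
  have h1 : x = ⟨k, hkC⟩ * ⟨m, hm.2⟩ := Subtype.ext e
  rw [h1, map_mul, hker ⟨k, hkC⟩ hk, one_mul]

end Core

section Conj

variable {G : Type w} [Group G] [Finite G]

open Cfsg.Agent.Walter.Cover in
theorem cov_conj {a : G} {M : Subgroup G} (g : G) (h : Cov a M) :
    Cov (g * a * g⁻¹) (M.map (MulAut.conj g).toMonoidHom) := by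
  refine ⟨⟨a, h.1, by simp⟩, fun c hc => ?_⟩
  have hc' : g⁻¹ * c * g ∈ C a := by
    rw [mem_C] at hc ⊢
    calc g⁻¹ * c * g * a = g⁻¹ * (c * (g * a * g⁻¹)) * g := by group
      _ = g⁻¹ * (g * a * g⁻¹ * c) * g := by rw [hc]
      _ = a * (g⁻¹ * c * g) := by group
  obtain ⟨x, hx, m, hm, e⟩ := h.2 _ hc'
  refine ⟨g * x * g⁻¹, ?_, g * m * g⁻¹, ⟨⟨m, hm.1, by simp⟩, ?_⟩, ?_⟩
  · rw [Cfsg.Agent.Lib.CoreCent.core_conj]
    exact ⟨x, hx, by simp⟩
  · have h1 := mem_C.1 hm.2
    refine mem_C.2 ?_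
    calc g * m * g⁻¹ * (g * a * g⁻¹) = g * (m * a) * g⁻¹ := by group
      _ = g * (a * m) * g⁻¹ := by rw [h1]
      _ = g * a * g⁻¹ * (g * m * g⁻¹) := by group
  · have h1 : c = g * (g⁻¹ * c * g) * g⁻¹ := by group
    rw [h1, e]
    group

open Cfsg.Agent.Walter.Cover in
/-- Transport of the factorisation. -/
theorem factor_conj {t : G} (hf : ∀ M : Subgroup G, Cov t M → M ≠ ⊤ →
      ∀ x ∈ M, ∃ o ∈ OO M, ∃ n ∈ M ⊓ C t, x = o * n) (g : G) (M : Subgroup G)
    (hc : Cov (g * t * g⁻¹) M) (hM : M ≠ ⊤) :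
    ∀ x ∈ M, ∃ o ∈ OO M, ∃ n ∈ M ⊓ C (g * t * g⁻¹), x = o * n := by
  intro x hx
  set M' := M.map (MulAut.conj g⁻¹).toMonoidHom with hM'
  have h1 : Cov t M' := by
    have h2 := cov_conj g⁻¹ hc
    have h3 : g⁻¹ * (g * t * g⁻¹) * g⁻¹⁻¹ = t := by group
    rwa [h3] at h2
  have hback : ∀ y, y ∈ M' ↔ g * y * g⁻¹ ∈ M := by
    intro y
    constructor
    · rintro ⟨m, hm, rfl⟩
      have h3 : g * ((MulAut.conj g⁻¹).toMonoidHom m) * g⁻¹ = m := by simp [mul_assoc]
      rwa [h3]
    · intro hy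
      exact ⟨g * y * g⁻¹, hy, by simp [mul_assoc]⟩
  have h2 : M' ≠ ⊤ := by
    intro h3
    apply hM
    rw [eq_top_iff]
    intro y _
    have h4 : g⁻¹ * y * g ∈ M' := by rw [h3]; trivial
    have h5 := (hback _).1 h4
    have h6 : g * (g⁻¹ * y * g) * g⁻¹ = y := by group
    rwa [h6] at h5
  obtain ⟨o, ho, n, hn, e⟩ := hf M' h1 h2 (g⁻¹ * x * g) (by
    rw [hback]
    have h6 : g * (g⁻¹ * x * g) * g⁻¹ = x := by group
    rwa [h6])
  refine ⟨g * o * g⁻¹, ?_, g * n * g⁻¹, ⟨(hback n).1 hn.1, ?_⟩, ?_⟩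
  · rw [hM', Cfsg.Agent.SylowSp4.Pairs.OO_conj] at ho
    obtain ⟨k, hk, rfl⟩ := ho
    have h3 : g * ((MulAut.conj g⁻¹).toMonoidHom k) * g⁻¹ = k := by simp [mul_assoc]
    rwa [h3]
  · have h3 := mem_C.1 hn.2
    refine mem_C.2 ?_
    calc g * n * g⁻¹ * (g * t * g⁻¹) = g * (n * t) * g⁻¹ := by group
      _ = g * (t * n) * g⁻¹ := by rw [h3]
      _ = g * t * g⁻¹ * (g * n * g⁻¹) := by group
  · have h3 : x = g * (g⁻¹ * x * g) * g⁻¹ := by group
    rw [h3, e]
    group

end Conj

end Cfsg.Agent.Classification.QDW.FOneStruct
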