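import Mathlib
import Cfsg.Prelude.Def_Characters
import Cfsg.Agent.Characters.Core
import Cfsg.Agent.Characters.Clifford
import Cfsg.Agent.Characters.Linear
import Cfsg.Agent.CharactersDeep.IndFun

/-!
# The wreathed case: linear characters of `M = C(V)` and the twist by `lam`

Abstract setting inside `C = C(t)`: `K = O(C)`, `M = C(V)`, `lam : C →* ℂˣ` the quadratic
character of the determinant, `w` an element normalising `M` and interchanging the two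
noncentral involutions of `V`.
-/

set_option autoImplicit false

namespace Cfsg.Agent.Classification.QDW.WrDefs

open Cfsg

universe u

variable {C : Type u} [Group C]

/-- `ξ - ξ lam` as a function on `M`. -/
noncomputable def dif (M : Subgroup C) (lam : C →* ℂˣ) (ξ : M →* ℂˣ) : M → ℂ :=
  fun s => (ξ s : ℂ) - (ξ s : ℂ) * (lam (s : C) : ℂ)

theorem dif_apply (M : Subgroup C) (lam : C →* ℂˣ) (ξ : M →* ℂˣ) (s : M) :
    dif M lam ξ s = (ξ s : ℂ) - (ξ s : ℂ) * (lam (s : C) : ℂ) := rfl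

/-- The abstract setting. -/
structure WrHyp (K M : Subgroup C) (lam : C →* ℂˣ) (w : C) : Prop where
  normal : K.Normal
  odd : Odd (Nat.card K)
  lam_sq : ∀ g : C, lam g * lam g = 1
  lam_K : ∀ k ∈ K, lam k = 1
  lam_ne : ∃ s ∈ M, lam s ≠ 1
  comm : ∀ x ∈ M, ∀ y ∈ M, x * y * x⁻¹ * y⁻¹ ∈ K
  conj_mem : ∀ x, x ∈ M → w⁻¹ * x * w ∈ M
  conj_mem' : ∀ x, x ∈ M → w * x * w⁻¹ ∈ M
  w_notMem : w ∉ K ⊔ M
  ti : ∀ s ∈ M, lam s ≠ 1 → ∀ g : C, g⁻¹ * s * g ∈ M → g ∈ M ∨ w⁻¹ * g ∈ M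

/-- The conjugate of a linear character of `M` by `w`: `s ↦ ξ (w⁻¹ s w)`. -/
def conjHom {M : Subgroup C} {w : C} (hw : ∀ x, x ∈ M → w⁻¹ * x * w ∈ M) (ξ : M →* ℂˣ) :
    M →* ℂˣ where
  toFun s := ξ ⟨w⁻¹ * s * w, hw s s.2⟩
  map_one' := by
    rw [← map_one ξ]
    congr 1
    exact Subtype.ext (by simp)
  map_mul' a b := by
    rw [← map_mul]
    congr 1
    exact Subtype.ext (by simp [mul_assoc])

theorem conjHom_apply {M : Subgroup C} {w : C} (hw : ∀ x, x ∈ M → w⁻¹ * x * w ∈ M)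
    (ξ : M →* ℂˣ) (s : M) : conjHom hw ξ s = ξ ⟨w⁻¹ * s * w, hw s s.2⟩ := rfl

/-- The restriction of `lam` to `M`. -/
def lamM (M : Subgroup C) (lam : C →* ℂˣ) : M →* ℂˣ := lam.comp M.subtype

theorem lamM_apply (M : Subgroup C) (lam : C →* ℂˣ) (s : M) : lamM M lam s = lam s := rfl

/-- `ξ` is not equivalent to its `w`-conjugate. -/
def Free {K M : Subgroup C} {lam : C →* ℂˣ} {w : C} (h : WrHyp K M lam w) (ξ : M →* ℂˣ) : Prop :=
  conjHom h.conj_mem ξ ≠ ξ ∧ conjHom h.conj_mem ξ ≠ ξ * lamM M lam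

/-- The irreducible character `ψ` of `C` is attached to the linear character `ξ` of `M`:
`Ind (ξ - ξ lam) = ± (ψ - ψ lam)`. -/
def Att [Fintype C] (M : Subgroup C) (lam : C →* ℂˣ) (ξ : M →* ℂˣ) (ψ : C → ℂ) : Prop :=
  IsIrrCharacter C ψ ∧ ∃ σ : ℂ, (σ = 1 ∨ σ = -1) ∧
    indFun M (dif M lam ξ) = fun g => σ * (ψ g - ψ g * (lam g : ℂ))

end Cfsg.Agent.Classification.QDW.WrDefs
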