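import Mathlib
import Cfsg.Prelude.Def_Characters
import Cfsg.Agent.Characters.Core
import Cfsg.Agent.Characters.Linear
import Cfsg.Agent.Characters.Central
import Cfsg.Agent.CharactersDeep.IndFun
import Cfsg.Agent.CharactersDeep.AbelianQuotient
import Cfsg.Agent.OddOrderCharacters.NormTwo
import Cfsg.Agent.Classification.QDW.WrDefs

/-!
# The wreathed case: the characters attached to the linear characters of `M`

* `lam_cases`, `exists_irr_sub`: a generalized character of norm two, vanishing at `1` and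
  negated by `lam`, is `ψ - ψ lam`;
* `indFun_dif_apply`: the values of `Ind (ξ - ξ lam)` on `M - ker lam`;
* `classInner_indFun_dif`: the inner products of these induced functions;
* `exists_att`: every free `ξ` has an attached irreducible character;
* `att_ne`: inequivalent `ξ` have different attached characters.
-/

set_option autoImplicit false
set_option linter.unusedSectionVars false

namespace Cfsg.Agent.Classification.QDW.WrTI

open Cfsg Cfsg.Agent.Characters WrDefs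
open Cfsg.Agent.CharactersDeep
open scoped ComplexConjugate

universe u

variable {C : Type u} [Group C]

section Lam

theorem lam_cases {lam : C →* ℂˣ} (h2 : ∀ g : C, lam g * lam g = 1) (g : C) :
    lam g = 1 ∨ (lam g : ℂ) = -1 := by
  have h1 : (lam g : ℂ) * (lam g : ℂ) = 1 := by
    rw [← Units.val_mul, h2, Units.val_one]
  rcases mul_self_eq_one_iff.1 h1 with h | h
  · exact Or.inl (Units.ext h)
  · exact Or.inr h

theorem lam_val {lam : C →* ℂˣ} (h2 : ∀ g : C, lam g * lam g = 1) {g : C} (hg : lam g ≠ 1) :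
    (lam g : ℂ) = -1 := (lam_cases h2 g).resolve_left hg

theorem lam_conj {lam : C →* ℂˣ} (g x : C) : lam (x⁻¹ * g * x) = lam g := by
  rw [map_mul, map_mul, map_inv, mul_comm (lam x)⁻¹, inv_mul_cancel_right]

theorem lam_mul_conj {lam : C →* ℂˣ} (h2 : ∀ g : C, lam g * lam g = 1) (g : C) :
    (lam g : ℂ) * conj (lam g : ℂ) = 1 := by
  rcases lam_cases h2 g with h | h
  · rw [h]; simp
  · rw [h]; simp

theorem isIrr_mul_lam [Finite C] (lam : C →* ℂˣ) {ψ : C → ℂ} (hψ : IsIrrCharacter C ψ) :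
    IsIrrCharacter C (fun g => ψ g * (lam g : ℂ)) := by
  have := Fintype.ofFinite C
  have h := AbelianQuotient.isIrr_linear_mul lam hψ
  have h2 : ((fun g => (lam g : ℂ)) * ψ) = fun g => ψ g * (lam g : ℂ) := by
    funext g
    rw [Pi.mul_apply, mul_comm]
  rwa [h2] at h

theorem classInner_mul_lam [Fintype C] {lam : C →* ℂˣ} (h2 : ∀ g : C, lam g * lam g = 1)
    (f g : C → ℂ) : classInner (fun x => f x * (lam x : ℂ)) (fun x => g x * (lam x : ℂ)) =
      classInner f g := by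
  rw [Core.classInner_def, Core.classInner_def]
  congr 1
  refine Finset.sum_congr rfl fun x _ => ?_
  rw [map_mul]
  calc f x * (lam x : ℂ) * (conj (g x) * conj (lam x : ℂ))
      = f x * conj (g x) * ((lam x : ℂ) * conj (lam x : ℂ)) := by ring
    _ = _ := by rw [lam_mul_conj h2, mul_one]

/-- A generalized character of norm two that vanishes at `1` and is negated by `lam`. -/
theorem exists_irr_sub [Fintype C] {lam : C →* ℂˣ} (h2 : ∀ g : C, lam g * lam g = 1)
    {θ : C → ℂ} (hθ : IsGeneralizedCharacter C θ) (hn : classInner θ θ = 2) (h1 : θ 1 = 0)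
    (hl : ∀ g, θ g * (lam g : ℂ) = -θ g) :
    ∃ ψ : C → ℂ, IsIrrCharacter C ψ ∧ ψ ≠ (fun g => ψ g * (lam g : ℂ)) ∧
      θ = fun g => ψ g - ψ g * (lam g : ℂ) := by
  obtain ⟨μ, ν, hμ, hν, hμν, rfl⟩ := OddOrderCharacters.NormTwo.exists_sub_of_norm_two hθ hn h1
  have hμl := isIrr_mul_lam lam hμ
  have e1 : classInner (μ - ν) μ = 1 := by
    rw [Core.classInner_sub_left, Core.classInner_irr_self hμ,
      Core.classInner_irr_ne hν hμ hμν.symm, sub_zero]
  have e2 : classInner (μ - ν) (fun g => μ g * (lam g : ℂ)) = -1 := by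
    have h3 := classInner_mul_lam h2 (μ - ν) μ
    rw [e1] at h3
    have h4 : (fun x => (μ - ν) x * (lam x : ℂ)) = -(μ - ν) := by
      funext x
      exact hl x
    rw [h4, Core.classInner_neg_left] at h3
    rw [← h3, neg_neg]
  have hνl : ν = fun g => μ g * (lam g : ℂ) := by
    by_contra hcon
    rw [Core.classInner_sub_left, Core.classInner_irr_ne hν hμl hcon, sub_zero,
      Core.classInner_irr hμ hμl] at e2
    split_ifs at e2 with h5
    · norm_num at e2
    · norm_num at e2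
  refine ⟨μ, hμ, ?_, ?_⟩
  · rw [← hνl]
    exact hμν
  · funext g
    rw [Pi.sub_apply, hνl]

end Lam

section Dif

variable {K M : Subgroup C} {lam : C →* ℂˣ} {w : C}

theorem dif_eq_zero {ξ : M →* ℂˣ} {s : M} (hs : lam (s : C) = 1) : dif M lam ξ s = 0 := by
  rw [dif_apply, hs, Units.val_one, mul_one, sub_self]

theorem dif_eq {ξ : M →* ℂˣ} (h2 : ∀ g : C, lam g * lam g = 1) {s : M} (hs : lam (s : C) ≠ 1) :
    dif M lam ξ s = 2 * (ξ s : ℂ) := by
  rw [dif_apply, lam_val h2 hs]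
  ring

theorem dif_eq_sub (ξ : M →* ℂˣ) : dif M lam ξ =
    (fun s => (ξ s : ℂ)) - fun s => ((ξ * lamM M lam) s : ℂ) := by
  funext s
  rw [Pi.sub_apply, dif_apply, MonoidHom.mul_apply, lamM_apply, Units.val_mul]

theorem dif_conj {ξ : M →* ℂˣ} (s m : M) : dif M lam ξ (m⁻¹ * s * m) = dif M lam ξ s := by
  rw [dif_apply, dif_apply]
  have h1 : ξ (m⁻¹ * s * m) = ξ s := by
    rw [map_mul, map_mul, map_inv, mul_comm (ξ m)⁻¹, inv_mul_cancel_right]
  have h2 : lam ((m⁻¹ * s * m : M) : C) = lam (s : C) := by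
    rw [Subgroup.coe_mul, Subgroup.coe_mul, Subgroup.coe_inv, lam_conj]
  rw [h1, h2]

theorem dif_conjHom (h : WrHyp K M lam w) (ξ : M →* ℂˣ) (s : M) :
    dif M lam (conjHom h.conj_mem ξ) s = dif M lam ξ ⟨w⁻¹ * s * w, h.conj_mem s s.2⟩ := by
  rw [dif_apply, dif_apply, conjHom_apply]
  show _ = _ - _ * ((lam (w⁻¹ * (s : C) * w) : ℂˣ) : ℂ)
  rw [lam_conj]

open scoped Classical in
/-- The values of the induced function on `M - ker lam`. -/
theorem indFun_dif_apply [Fintype C] (h : WrHyp K M lam w) (ξ : M →* ℂˣ) {s : M}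
    (hs : lam (s : C) ≠ 1) :
    indFun M (dif M lam ξ) s = dif M lam ξ s + dif M lam (conjHom h.conj_mem ξ) s := by
  have hwM : w ∉ M := fun hw => h.w_notMem (Subgroup.mem_sup_right hw)
  have hM0 : (Nat.card M : ℂ) ≠ 0 := Core.card_ne_zero_complex
  let _ : Fintype M := Fintype.ofFinite _
  have key : ∀ x : C, extendByZero M (dif M lam ξ) (x⁻¹ * s * x) =
      (if x ∈ M then dif M lam ξ s else 0) +
        (if w⁻¹ * x ∈ M then dif M lam (conjHom h.conj_mem ξ) s else 0) := by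
    intro x
    by_cases hx : x ∈ M
    · have hx' : w⁻¹ * x ∉ M := by
        intro h1
        have h2 := M.mul_mem h1 (M.inv_mem hx)
        rw [mul_assoc, mul_inv_cancel, mul_one] at h2
        exact hwM (by simpa using M.inv_mem h2)
      rw [if_pos hx, if_neg hx', add_zero]
      have h3 : x⁻¹ * (s : C) * x = ((⟨x, hx⟩⁻¹ * s * ⟨x, hx⟩ : M) : C) := rfl
      rw [h3, Core.extendByZero_of_mem M _ (Subtype.prop _)]
      exact dif_conj s ⟨x, hx⟩
    · by_cases hx' : w⁻¹ * x ∈ M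
      · rw [if_neg hx, if_pos hx', zero_add, dif_conjHom h]
        have h3 : x⁻¹ * (s : C) * x = (((⟨w⁻¹ * x, hx'⟩ : M)⁻¹ * ⟨w⁻¹ * s * w, h.conj_mem s s.2⟩ *
            ⟨w⁻¹ * x, hx'⟩ : M) : C) := by
          show _ = (w⁻¹ * x)⁻¹ * (w⁻¹ * (s : C) * w) * (w⁻¹ * x)
          group
        rw [h3, Core.extendByZero_of_mem M _ (Subtype.prop _)]
        exact dif_conj _ ⟨w⁻¹ * x, hx'⟩
      · rw [if_neg hx, if_neg hx', add_zero]
        apply Core.extendByZero_of_notMem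
        intro h1
        rcases h.ti s s.2 hs x h1 with h2 | h2
        · exact hx h2
        · exact hx' h2
  rw [Core.indFun_apply, Finset.sum_congr rfl fun x _ => key x, Finset.sum_add_distrib]
  have hc1 : ∑ x : C, (if x ∈ M then dif M lam ξ s else 0) = Nat.card M * dif M lam ξ s := by
    rw [← Finset.sum_filter, Finset.sum_const, nsmul_eq_mul]
    congr 2
    rw [Nat.card_eq_fintype_card, Fintype.card_subtype]
  have hc2 : ∑ x : C, (if w⁻¹ * x ∈ M then dif M lam (conjHom h.conj_mem ξ) s else 0) =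
      Nat.card M * dif M lam (conjHom h.conj_mem ξ) s := by
    rw [Fintype.sum_equiv (Equiv.mulLeft w⁻¹) (fun x : C => if w⁻¹ * x ∈ M then
      dif M lam (conjHom h.conj_mem ξ) s else 0) (fun x : C => if x ∈ M then
      dif M lam (conjHom h.conj_mem ξ) s else 0) (fun x => rfl)]
    rw [← Finset.sum_filter, Finset.sum_const, nsmul_eq_mul]
    congr 2
    rw [Nat.card_eq_fintype_card, Fintype.card_subtype]
  rw [hc1, hc2]
  field_simp

theorem classInner_hom {M : Type*} [Group M] [Fintype M] [DecidableEq (M →* ℂˣ)]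
    (ξ ξ' : M →* ℂˣ) :
    classInner (fun s => (ξ s : ℂ)) (fun s => (ξ' s : ℂ)) = if ξ = ξ' then 1 else 0 := by
  classical
  rw [Core.classInner_irr (Linear.isIrrCharacter_hom ξ) (Linear.isIrrCharacter_hom ξ')]
  have h1 : ((fun s => (ξ s : ℂ)) = fun s => (ξ' s : ℂ)) ↔ ξ = ξ' := by
    constructor
    · intro h
      ext s
      exact congrFun h s
    · rintro rfl
      rfl
  by_cases h : ξ = ξ'
  · rw [if_pos h, if_pos (h1.2 h)]
  · rw [if_neg h, if_neg fun h2 => h (h1.1 h2)]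

theorem lamM_sq (h2 : ∀ g : C, lam g * lam g = 1) : lamM M lam * lamM M lam = 1 := by
  ext s
  rw [MonoidHom.mul_apply, lamM_apply, h2]
  simp

theorem mul_lamM_lamM (h2 : ∀ g : C, lam g * lam g = 1) (ξ : M →* ℂˣ) :
    ξ * lamM M lam * lamM M lam = ξ := by
  ext s
  rw [MonoidHom.mul_apply, MonoidHom.mul_apply, lamM_apply, mul_assoc, h2, mul_one]

open scoped Classical in
/-- Inner products of the functions `ξ - ξ lam`. -/
theorem classInner_dif [Fintype M] (h2 : ∀ g : C, lam g * lam g = 1) (ξ ξ' : M →* ℂˣ) :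
    classInner (dif M lam ξ) (dif M lam ξ') =
      2 * (if ξ = ξ' then 1 else 0) - 2 * (if ξ = ξ' * lamM M lam then 1 else 0) := by
  rw [dif_eq_sub, dif_eq_sub, Core.classInner_sub_left, Core.classInner_sub_right,
    Core.classInner_sub_right, classInner_hom, classInner_hom, classInner_hom, classInner_hom]
  have e1 : ξ * lamM M lam = ξ' * lamM M lam ↔ ξ = ξ' := by
    constructor
    · intro h
      rw [← mul_lamM_lamM h2 ξ, h, mul_lamM_lamM h2]
    · rintro rfl
      rfl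
  have e2 : ξ * lamM M lam = ξ' ↔ ξ = ξ' * lamM M lam := by
    constructor
    · rintro rfl
      rw [mul_lamM_lamM h2]
    · rintro rfl
      rw [mul_lamM_lamM h2]
  simp only [e1, e2]
  ring

/-- Inner product with a function that only matters on `M - ker lam`. -/
theorem classInner_dif_congr [Fintype M] (ξ : M →* ℂˣ) {f g : M → ℂ}
    (hfg : ∀ s : M, lam (s : C) ≠ 1 → f s = g s) :
    classInner (dif M lam ξ) f = classInner (dif M lam ξ) g := by
  rw [Core.classInner_def, Core.classInner_def]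
  congr 1
  refine Finset.sum_congr rfl fun s _ => ?_
  by_cases hs : lam (s : C) = 1
  · rw [dif_eq_zero hs, zero_mul, zero_mul]
  · rw [hfg s hs]

open scoped Classical in
/-- Inner products of the induced functions. -/
theorem classInner_indFun_dif [Fintype C] [Fintype M] (h : WrHyp K M lam w) (ξ ξ' : M →* ℂˣ) :
    classInner (indFun M (dif M lam ξ)) (indFun M (dif M lam ξ')) =
      2 * (if ξ = ξ' then 1 else 0) - 2 * (if ξ = ξ' * lamM M lam then 1 else 0) +
      (2 * (if ξ = conjHom h.conj_mem ξ' then 1 else 0) -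
        2 * (if ξ = conjHom h.conj_mem ξ' * lamM M lam then 1 else 0)) := by
  rw [IndFun.classInner_indFun M _ _ (IndFun.isClassFunction_indFun M _)]
  rw [classInner_dif_congr (g := dif M lam ξ' + dif M lam (conjHom h.conj_mem ξ')) ξ
    (fun s hs => by rw [Pi.add_apply]; exact indFun_dif_apply h ξ' hs)]
  rw [Core.classInner_add_right, classInner_dif h.lam_sq, classInner_dif h.lam_sq]

theorem isGeneralized_indFun_dif [Fintype C] (ξ : M →* ℂˣ) :
    IsGeneralizedCharacter C (indFun M (dif M lam ξ)) := by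
  rw [dif_eq_sub, IndFun.indFun_sub]
  exact ⟨_, _, IndFun.isCharacter_indFun M (Linear.isCharacter_hom ξ),
    IndFun.isCharacter_indFun M (Linear.isCharacter_hom (ξ * lamM M lam)), rfl⟩

theorem indFun_dif_one [Fintype C] (ξ : M →* ℂˣ) : indFun M (dif M lam ξ) 1 = 0 := by
  rw [Core.indFun_apply, Finset.sum_eq_zero, mul_zero]
  intro x _
  have h1 : x⁻¹ * 1 * x = ((1 : M) : C) := by simp
  rw [h1, Core.extendByZero_of_mem M _ (Subtype.prop _)]
  exact dif_eq_zero (by simp)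

theorem indFun_dif_mul_lam [Fintype C] (h2 : ∀ g : C, lam g * lam g = 1) (ξ : M →* ℂˣ) (g : C) :
    indFun M (dif M lam ξ) g * (lam g : ℂ) = -indFun M (dif M lam ξ) g := by
  have hcl : IsClassFunction C (fun g => (lam g : ℂ)) := by
    intro a b
    show ((lam (b * a * b⁻¹) : ℂˣ) : ℂ) = (lam a : ℂ)
    rw [map_mul, map_mul, map_inv, mul_comm (lam b), mul_inv_cancel_right]
  have h1 := congrFun (IndFun.indFun_mul M (dif M lam ξ) (fun g => (lam g : ℂ)) hcl) g
  rw [Pi.mul_apply] at h1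
  have h3 : (fun s : M => dif M lam ξ s * (lam (s : C) : ℂ)) = -dif M lam ξ := by
    funext s
    by_cases hs : lam (s : C) = 1
    · rw [dif_eq_zero hs, zero_mul, Pi.neg_apply, dif_eq_zero hs, neg_zero]
    · rw [lam_val h2 hs, Pi.neg_apply]
      ring
  rw [h1, h3, IndFun.indFun_neg, Pi.neg_apply]

/-- Every free linear character of `M` has an attached irreducible character. -/
theorem exists_att [Fintype C] (h : WrHyp K M lam w) {ξ : M →* ℂˣ} (hξ : Free h ξ) :
    ∃ ψ : C → ℂ, IsIrrCharacter C ψ ∧ ψ ≠ (fun g => ψ g * (lam g : ℂ)) ∧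
      indFun M (dif M lam ξ) = fun g => ψ g - ψ g * (lam g : ℂ) := by
  classical
  let _ : Fintype M := Fintype.ofFinite _
  refine exists_irr_sub h.lam_sq (isGeneralized_indFun_dif ξ) ?_ (indFun_dif_one ξ)
    (indFun_dif_mul_lam h.lam_sq ξ)
  rw [classInner_indFun_dif h]
  have hl : ξ ≠ ξ * lamM M lam := by
    intro h1
    obtain ⟨s, hs, hs1⟩ := h.lam_ne
    apply hs1
    have h3 := DFunLike.congr_fun h1 ⟨s, hs⟩
    rw [MonoidHom.mul_apply, lamM_apply] at h3
    exact (left_eq_mul.1 h3)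
  have hl2 : ξ ≠ conjHom h.conj_mem ξ * lamM M lam := by
    intro h1
    apply hξ.2
    rw [← mul_lamM_lamM h.lam_sq (conjHom h.conj_mem ξ), ← h1]
  rw [if_pos rfl, if_neg hl, if_neg (Ne.symm hξ.1), if_neg hl2]
  norm_num

/-- `ξ'` is equivalent to `ξ` neither by `lam` nor by `w`. -/
def Ineq (h : WrHyp K M lam w) (ξ ξ' : M →* ℂˣ) : Prop :=
  ξ ≠ ξ' ∧ ξ ≠ ξ' * lamM M lam ∧ ξ ≠ conjHom h.conj_mem ξ' ∧
    ξ ≠ conjHom h.conj_mem ξ' * lamM M lam

theorem norm_indFun_dif [Fintype C] (h : WrHyp K M lam w) {ξ : M →* ℂˣ} (hξ : Free h ξ) :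
    classInner (indFun M (dif M lam ξ)) (indFun M (dif M lam ξ)) = 2 := by
  classical
  let _ : Fintype M := Fintype.ofFinite _
  rw [classInner_indFun_dif h]
  have hl : ξ ≠ ξ * lamM M lam := by
    intro h1
    obtain ⟨s, hs, hs1⟩ := h.lam_ne
    apply hs1
    have h3 := DFunLike.congr_fun h1 ⟨s, hs⟩
    rw [MonoidHom.mul_apply, lamM_apply] at h3
    exact (left_eq_mul.1 h3)
  have hl2 : ξ ≠ conjHom h.conj_mem ξ * lamM M lam := by
    intro h1
    apply hξ.2
    rw [← mul_lamM_lamM h.lam_sq (conjHom h.conj_mem ξ), ← h1]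
  rw [if_pos rfl, if_neg hl, if_neg (Ne.symm hξ.1), if_neg hl2]
  norm_num

/-- Inequivalent free linear characters have different attached characters. -/
theorem att_ne [Fintype C] (h : WrHyp K M lam w) {ξ ξ' : M →* ℂˣ} (hξ : Free h ξ)
    (hne : Ineq h ξ ξ') {ψ ψ' : C → ℂ} (ha : Att M lam ξ ψ) (ha' : Att M lam ξ' ψ') :
    ψ ≠ ψ' := by
  classical
  let _ : Fintype M := Fintype.ofFinite _
  rintro rfl
  obtain ⟨-, σ, hσ, h1⟩ := ha
  obtain ⟨-, σ', hσ', h2⟩ := ha'
  have hss : σ' * σ' = 1 := by rcases hσ' with rfl | rfl <;> norm_num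
  have h3 : indFun M (dif M lam ξ) = (σ * σ') • indFun M (dif M lam ξ') := by
    rw [h1, h2]
    funext g
    rw [Pi.smul_apply, smul_eq_mul]
    calc σ * (ψ g - ψ g * (lam g : ℂ)) = σ * (σ' * σ') * (ψ g - ψ g * (lam g : ℂ)) := by
          rw [hss, mul_one]
      _ = _ := by ring
  have h4 := norm_indFun_dif h hξ
  rw [h3, Core.classInner_smul_left, ← h3, ← Core.classInner_conj_symm,
    classInner_indFun_dif h, if_neg hne.1, if_neg hne.2.1, if_neg hne.2.2.1,
    if_neg hne.2.2.2] at h4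
  norm_num at h4

/-- A character of `C` not orthogonal to `Ind (ξ - ξ lam)` has an attached constituent. -/
theorem exists_att_constituent [Fintype C] (h : WrHyp K M lam w) {ξ : M →* ℂˣ}
    (hξ : Free h ξ) {χ : C → ℂ} (ha : classInner χ (indFun M (dif M lam ξ)) ≠ 0) :
    ∃ ψ : C → ℂ, Att M lam ξ ψ ∧ classInner χ ψ ≠ 0 := by
  obtain ⟨ψ, hψ, -, h1⟩ := exists_att h hξ
  have h2 : (fun g => ψ g - ψ g * (lam g : ℂ)) = ψ - fun g => ψ g * (lam g : ℂ) := rfl
  by_cases h3 : classInner χ ψ = 0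
  · refine ⟨fun g => ψ g * (lam g : ℂ), ⟨isIrr_mul_lam lam hψ, -1, Or.inr rfl, ?_⟩, ?_⟩
    · rw [h1]
      funext g
      have h4 : (lam g : ℂ) * (lam g : ℂ) = 1 := by
        rw [← Units.val_mul, h.lam_sq, Units.val_one]
      linear_combination (-ψ g) * h4
    · intro h4
      apply ha
      rw [h1, h2, Core.classInner_sub_right, h3, h4, sub_zero]
  · exact ⟨ψ, ⟨hψ, 1, Or.inl rfl, by rw [h1]; funext g; rw [one_mul]⟩, h3⟩

end Dif

section Central

/-- A central element acts by a scalar. -/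
theorem exists_scalar [Finite C] {t : C} (ht : ∀ g : C, t * g = g * t) {ψ : C → ℂ}
    (hψ : IsIrrCharacter C ψ) : ∃ c : ℂ, ∀ g, ψ (g * t) = c * ψ g := by
  obtain ⟨n, ρ, hρ, rfl⟩ := hψ
  obtain ⟨c, hc⟩ := Central.exists_smul_of_comm ρ hρ (ρ t) (fun g => by
    rw [← map_mul, ← map_mul, ht])
  refine ⟨c, fun g => ?_⟩
  show LinearMap.trace ℂ _ (ρ (g * t)) = c * LinearMap.trace ℂ _ (ρ g)
  rw [map_mul, hc, mul_smul_comm, mul_one, map_smul, smul_eq_mul]

/-- A central involution acts by a sign. -/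
theorem exists_sign [Finite C] {t : C} (ht : ∀ g : C, t * g = g * t) (ht2 : t * t = 1)
    {ψ : C → ℂ} (hψ : IsIrrCharacter C ψ) :
    (∀ g, ψ (g * t) = ψ g) ∨ (∀ g, ψ (g * t) = -ψ g) := by
  obtain ⟨c, hc⟩ := exists_scalar ht hψ
  have h1 : c * c = 1 := by
    have h2 := hc (1 * t)
    rw [hc 1, mul_assoc, ht2, mul_one] at h2
    have h3 := Core.isIrr_apply_one_ne_zero hψ
    have h4 : (c * c - 1) * ψ 1 = 0 := by linear_combination -h2
    rcases mul_eq_zero.1 h4 with h5 | h5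
    · linear_combination h5
    · exact absurd h5 h3
  rcases mul_self_eq_one_iff.1 h1 with rfl | rfl
  · exact Or.inl fun g => by rw [hc, one_mul]
  · exact Or.inr fun g => by rw [hc, neg_one_mul]

variable {K M : Subgroup C} {lam : C →* ℂˣ} {w : C}

theorem indFun_dif_mul [Fintype C] {t : C} (ht : ∀ g : C, t * g = g * t) (htM : t ∈ M)
    (htl : lam t = 1) {ξ : M →* ℂˣ} (hξt : (ξ ⟨t, htM⟩ : ℂ) = -1) (g : C) :
    indFun M (dif M lam ξ) (g * t) = -indFun M (dif M lam ξ) g := by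
  rw [Core.indFun_apply, Core.indFun_apply, ← mul_neg, ← Finset.sum_neg_distrib]
  congr 1
  refine Finset.sum_congr rfl fun x _ => ?_
  have h1 : x⁻¹ * (g * t) * x = x⁻¹ * g * x * t := by
    rw [mul_assoc, mul_assoc, ht x]
    group
  rw [h1]
  by_cases hx : x⁻¹ * g * x ∈ M
  · rw [Core.extendByZero_of_mem M _ hx, Core.extendByZero_of_mem M _ (M.mul_mem hx htM),
      dif_apply, dif_apply]
    have h2 : (⟨x⁻¹ * g * x * t, M.mul_mem hx htM⟩ : M) = ⟨x⁻¹ * g * x, hx⟩ * ⟨t, htM⟩ := rfl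
    rw [h2, map_mul, Units.val_mul, hξt]
    show _ - _ * ((lam (x⁻¹ * g * x * t) : ℂˣ) : ℂ) = _
    rw [map_mul, htl, mul_one]
    ring
  · rw [Core.extendByZero_of_notMem M _ hx, Core.extendByZero_of_notMem M, neg_zero]
    intro h2
    exact hx (by simpa using M.mul_mem h2 (M.inv_mem htM))

/-- The central involution `t` acts as `-1` on the characters attached to `ξ` if
`ξ t = -1`. -/
theorem att_neg [Fintype C] (h : WrHyp K M lam w) {t : C} (ht : ∀ g : C, t * g = g * t)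
    (ht2 : t * t = 1) (htM : t ∈ M) (htl : lam t = 1) {ξ : M →* ℂˣ} (hξ : Free h ξ)
    (hξt : (ξ ⟨t, htM⟩ : ℂ) = -1) {ψ : C → ℂ} (ha : Att M lam ξ ψ) (g : C) :
    ψ (g * t) = -ψ g := by
  obtain ⟨hψ, σ, hσ, h1⟩ := ha
  rcases exists_sign ht ht2 hψ with h2 | h2
  · exfalso
    have h3 : indFun M (dif M lam ξ) = 0 := by
      funext g
      have h4 := indFun_dif_mul ht htM htl hξt g
      have h5 : indFun M (dif M lam ξ) (g * t) = indFun M (dif M lam ξ) g := by
        rw [h1]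
        show σ * (ψ (g * t) - ψ (g * t) * ((lam (g * t) : ℂˣ) : ℂ)) = _
        rw [h2, map_mul, htl, mul_one]
      rw [h5] at h4
      have h6 : (2 : ℂ) * indFun M (dif M lam ξ) g = 0 := by linear_combination h4
      simpa using h6
    have h4 := norm_indFun_dif h hξ
    rw [h3, Core.classInner_zero_left] at h4
    norm_num at h4
  · exact h2 g

/-- The counting theorem: the `(-1)`-part of `χ` is the sum of the characters attached to the
members of `X`. -/
theorem count [Fintype C] (h : WrHyp K M lam w) {t : C} (ht : ∀ g : C, t * g = g * t)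
    (ht2 : t * t = 1) (htM : t ∈ M) (htl : lam t = 1) {χ : C → ℂ} (hχ : IsCharacter C χ)
    (X : Finset (M →* ℂˣ)) (hfree : ∀ ξ ∈ X, Free h ξ)
    (hineq : ∀ ξ ∈ X, ∀ ξ' ∈ X, ξ ≠ ξ' → Ineq h ξ ξ')
    (hXt : ∀ ξ ∈ X, (ξ ⟨t, htM⟩ : ℂ) = -1)
    (ha : ∀ ξ ∈ X, classInner χ (indFun M (dif M lam ξ)) ≠ 0) {N : ℕ} (hN : 0 < N)
    (hdeg : ∀ ξ ∈ X, ∀ ψ : C → ℂ, Att M lam ξ ψ → ∀ n : ℕ, ψ 1 = n → N ≤ n)
    (htot : χ 1 - χ t = 2 * N * X.card) :
    ∃ Ψ : (M →* ℂˣ) → C → ℂ, (∀ ξ ∈ X, Att M lam ξ (Ψ ξ) ∧ Ψ ξ 1 = N ∧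
      ∀ g, Ψ ξ (g * t) = -Ψ ξ g) ∧ ∀ g, χ g - χ (g * t) = 2 * ∑ ξ ∈ X, Ψ ξ g := by
  classical
  have := Core.finite_irr (G := C)
  let _ : Fintype (IrrCharacter C) := Fintype.ofFinite _
  obtain ⟨m, hm⟩ := Core.exists_nat_comb hχ
  -- the attached constituents
  have hex : ∀ ξ : M →* ℂˣ, ∃ φ : IrrCharacter C, ξ ∈ X →
      (Att M lam ξ (φ : C → ℂ) ∧ classInner χ (φ : C → ℂ) ≠ 0) := by
    intro ξ
    by_cases hξ : ξ ∈ X
    · obtain ⟨ψ, h1, h2⟩ := exists_att_constituent h (hfree ξ hξ) (ha ξ hξ)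
      exact ⟨⟨ψ, h1.1⟩, fun _ => ⟨h1, h2⟩⟩
    · exact ⟨⟨1, Core.isIrr_one⟩, fun h1 => absurd h1 hξ⟩
  choose φ hφ using hex
  have hdegs : ∀ ψ : IrrCharacter C, ∃ n : ℕ, (ψ : C → ℂ) 1 = n := fun ψ =>
    ⟨_, (Core.isIrr_apply_one ψ.2).choose_spec.2⟩
  choose d hd using hdegs
  have hmul : ∀ ψ : IrrCharacter C, classInner χ (ψ : C → ℂ) = m ψ := by
    intro ψ
    rw [hm]
    exact Core.classInner_sum_nsmul_irr m ψ
  have hmφ : ∀ ξ ∈ X, 1 ≤ m (φ ξ) := by
    intro ξ hξ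
    have h1 := (hφ ξ hξ).2
    rw [hmul] at h1
    exact Nat.one_le_iff_ne_zero.2 (by exact_mod_cast h1)
  have hinj : Set.InjOn φ (X : Set (M →* ℂˣ)) := by
    intro ξ hξ ξ' hξ' he
    by_contra hne
    exact att_ne h (hfree ξ hξ) (hineq ξ hξ ξ' hξ' hne) (hφ ξ hξ).1 (hφ ξ' hξ').1
      (congrArg Subtype.val he)
  set S : Finset (IrrCharacter C) :=
    Finset.univ.filter fun ψ => ∀ g, (ψ : C → ℂ) (g * t) = -(ψ : C → ℂ) g with hS
  have hYS : X.image φ ⊆ S := by
    intro ψ hψ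
    obtain ⟨ξ, hξ, rfl⟩ := Finset.mem_image.1 hψ
    rw [hS, Finset.mem_filter]
    exact ⟨Finset.mem_univ _, fun g => att_neg h ht ht2 htM htl (hfree ξ hξ) (hXt ξ hξ)
      (hφ ξ hξ).1 g⟩
  -- the `(-1)`-part
  have hE : ∀ g, χ g - χ (g * t) = 2 * ∑ ψ ∈ S, (m ψ : ℂ) * (ψ : C → ℂ) g := by
    intro g
    have h1 : ∀ g, χ g = ∑ ψ : IrrCharacter C, (m ψ : ℂ) * (ψ : C → ℂ) g := by
      intro g
      conv_lhs => rw [hm]
      rw [Finset.sum_apply]
      refine Finset.sum_congr rfl fun ψ _ => ?_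
      rw [Pi.smul_apply, nsmul_eq_mul]
    rw [h1, h1, ← Finset.sum_sub_distrib, hS, Finset.sum_filter, Finset.mul_sum]
    refine Finset.sum_congr rfl fun ψ _ => ?_
    split_ifs with h2
    · rw [h2]
      ring
    · rcases exists_sign ht ht2 ψ.2 with h3 | h3
      · rw [h3]
        ring
      · exact absurd h3 h2
  have hsum : ∑ ψ ∈ S, m ψ * d ψ = N * X.card := by
    have h1 := hE 1
    rw [one_mul, htot] at h1
    have h2 : ((N * X.card : ℕ) : ℂ) = ((∑ ψ ∈ S, m ψ * d ψ : ℕ) : ℂ) := by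
      push_cast
      have h3 : (2 : ℂ) * ((N : ℂ) * X.card) = 2 * ∑ ψ ∈ S, (m ψ : ℂ) * (d ψ : ℂ) := by
        rw [← mul_assoc, h1]
        congr 1
        exact Finset.sum_congr rfl fun ψ _ => by rw [hd]
      exact mul_left_cancel₀ two_ne_zero h3
    exact_mod_cast h2.symm
  have hY : ∀ ψ ∈ X.image φ, N ≤ m ψ * d ψ := by
    intro ψ hψ
    obtain ⟨ξ, hξ, rfl⟩ := Finset.mem_image.1 hψ
    have h1 := hdeg ξ hξ _ (hφ ξ hξ).1 _ (hd (φ ξ))
    calc N ≤ d (φ ξ) := h1
      _ = 1 * d (φ ξ) := (one_mul _).symm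
      _ ≤ m (φ ξ) * d (φ ξ) := Nat.mul_le_mul_right _ (hmφ ξ hξ)
  have hcardY : (X.image φ).card = X.card := Finset.card_image_of_injOn hinj
  have hsplit := Finset.sum_sdiff hYS (f := fun ψ => m ψ * d ψ)
  have hYsum : N * X.card ≤ ∑ ψ ∈ X.image φ, m ψ * d ψ := by
    have h1 := Finset.card_nsmul_le_sum (X.image φ) (fun ψ => m ψ * d ψ) N hY
    rw [hcardY, smul_eq_mul] at h1
    linarith
  have hzero : ∑ ψ ∈ S \ X.image φ, m ψ * d ψ = 0 := by omega
  have hYeq : ∑ ψ ∈ X.image φ, m ψ * d ψ = N * X.card := by omega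
  have hterm : ∀ ψ ∈ X.image φ, m ψ * d ψ = N := by
    have h1 : ∑ ψ ∈ X.image φ, N = ∑ ψ ∈ X.image φ, m ψ * d ψ := by
      rw [hYeq, Finset.sum_const, hcardY, smul_eq_mul, mul_comm]
    intro ψ hψ
    exact ((Finset.sum_eq_sum_iff_of_le hY).1 h1 ψ hψ).symm
  have hone : ∀ ξ ∈ X, m (φ ξ) = 1 ∧ d (φ ξ) = N := by
    intro ξ hξ
    have h1 := hterm (φ ξ) (Finset.mem_image_of_mem φ hξ)
    have h2 := hdeg ξ hξ _ (hφ ξ hξ).1 _ (hd (φ ξ))
    have h3 := hmφ ξ hξ
    have h4 : m (φ ξ) = 1 := by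
      by_contra h5
      have h6 : 2 ≤ m (φ ξ) := by omega
      have h7 : 2 * d (φ ξ) ≤ m (φ ξ) * d (φ ξ) := Nat.mul_le_mul_right _ h6
      omega
    rw [h4, one_mul] at h1
    exact ⟨h4, h1⟩
  refine ⟨fun ξ => (φ ξ : C → ℂ), fun ξ hξ => ⟨(hφ ξ hξ).1, ?_, fun g =>
    att_neg h ht ht2 htM htl (hfree ξ hξ) (hXt ξ hξ) (hφ ξ hξ).1 g⟩, fun g => ?_⟩
  · show (φ ξ : C → ℂ) 1 = N
    rw [hd, (hone ξ hξ).2]
  · rw [hE g, ← Finset.sum_sdiff hYS]
    have h1 : ∑ ψ ∈ S \ X.image φ, (m ψ : ℂ) * (ψ : C → ℂ) g = 0 := by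
      refine Finset.sum_eq_zero fun ψ hψ => ?_
      have h2 := (Finset.sum_eq_zero_iff.1 hzero) ψ hψ
      have h3 : d ψ ≠ 0 := by
        intro h4
        have h5 := Core.isIrr_apply_one_ne_zero ψ.2
        rw [hd, h4, Nat.cast_zero] at h5
        exact h5 rfl
      have h4 : m ψ = 0 := by
        rcases Nat.mul_eq_zero.1 h2 with h5 | h5
        · exact h5
        · exact absurd h5 h3
      rw [h4, Nat.cast_zero, zero_mul]
    rw [h1, zero_add, Finset.sum_image (fun a ha b hb hab => hinj ha hb hab)]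
    congr 1
    refine Finset.sum_congr rfl fun ξ hξ => ?_
    rw [(hone ξ hξ).1, Nat.cast_one, one_mul]

end Central

end Cfsg.Agent.Classification.QDW.WrTI
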