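import Mathlib
import Cfsg.Prelude.Def_Characters
import Cfsg.Agent.Characters.Core
import Cfsg.Agent.Characters.Clifford
import Cfsg.Agent.Characters.Linear
import Cfsg.Agent.CharactersDeep.CliffordSum
import Cfsg.Agent.CharactersDeep.NormalInd
import Cfsg.Agent.CharactersDeep.IndFun
import Cfsg.Agent.Classification.QDW.WrDefs
import Cfsg.Agent.Classification.QDW.WrTI

/-!
# The wreathed case: the degree bound

* `stab`, `degree_eq`: Clifford's formula `ψ(1) = e [C : T] φ(1)`;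
* `two_le`: the multiplicity is at least two if the stabiliser contains `w`;
* `degree_bound`: the lower bound for the degree and the case of equality;
* `values_borel`: the values of `ψ` in the induced case.
-/

set_option autoImplicit false
set_option linter.unusedSectionVars false

namespace Cfsg.Agent.Classification.QDW.WrDeg

open Cfsg Cfsg.Agent.Characters WrDefs
open Cfsg.Agent.CharactersDeep
open scoped ComplexConjugate

universe u

variable {C : Type u} [Group C]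

section Stab

/-- The stabiliser of a function on the normal subgroup `K`. -/
def stab (K : Subgroup C) [K.Normal] (φ : K → ℂ) : Subgroup C where
  carrier := {g | φ ∘ (MulAut.conjNormal g : MulAut K) = φ}
  one_mem' := by
    show φ ∘ (MulAut.conjNormal 1 : MulAut K) = φ
    rw [map_one]
    rfl
  mul_mem' := by
    intro a b ha hb
    show φ ∘ (MulAut.conjNormal (a * b) : MulAut K) = φ
    rw [CliffordSum.comp_conjNormal_mul]
    have ha' : φ ∘ (MulAut.conjNormal a : MulAut K) = φ := ha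
    rw [ha']
    exact hb
  inv_mem' := by
    intro a ha
    show φ ∘ (MulAut.conjNormal a⁻¹ : MulAut K) = φ
    have ha' : φ ∘ (MulAut.conjNormal a : MulAut K) = φ := ha
    have h1 : (φ ∘ (MulAut.conjNormal a : MulAut K)) ∘ (MulAut.conjNormal a⁻¹ : MulAut K) =
        φ ∘ (MulAut.conjNormal a⁻¹ : MulAut K) := by rw [ha']
    rw [← h1, ← CliffordSum.comp_conjNormal_mul, mul_inv_cancel, map_one]
    rfl

theorem mem_stab {K : Subgroup C} [K.Normal] {φ : K → ℂ} {g : C} :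
    g ∈ stab K φ ↔ φ ∘ (MulAut.conjNormal g : MulAut K) = φ := Iff.rfl

theorem stab_apply {K : Subgroup C} [hK : K.Normal] {φ : K → ℂ} {g : C} (hg : g ∈ stab K φ)
    (k : K) : φ ⟨g * k * g⁻¹, hK.conj_mem k k.2 g⟩ = φ k := by
  have h1 := congrFun (mem_stab.1 hg) k
  rw [← h1]
  show _ = φ ((MulAut.conjNormal g : MulAut K) k)
  congr 1

theorem mem_stab_of {K : Subgroup C} [hK : K.Normal] {φ : K → ℂ} {g : C}
    (h : ∀ k : K, φ ⟨g * k * g⁻¹, hK.conj_mem k k.2 g⟩ = φ k) : g ∈ stab K φ := by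
  rw [mem_stab]
  funext k
  rw [← h k]
  show φ ((MulAut.conjNormal g : MulAut K) k) = _
  congr 1

theorem card_orbit [Fintype C] (K : Subgroup C) [K.Normal] [DecidableEq (K → ℂ)] (φ : K → ℂ) :
    (Finset.univ.image (fun x : C => φ ∘ (MulAut.conjNormal x : MulAut K))).card =
      (stab K φ).index := by
  classical
  have h1 := CliffordSum.card_conj_mul_card K φ (stab K φ) (fun g => mem_stab)
  have h2 := (stab K φ).index_mul_card
  rw [← h1] at h2
  exact (Nat.eq_of_mul_eq_mul_right Nat.card_pos h2).symm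

/-- Clifford's degree formula. -/
theorem degree_eq [Fintype C] (K : Subgroup C) [K.Normal] [Fintype K] {ψ : C → ℂ}
    (hψ : IsIrrCharacter C ψ) {φ : K → ℂ} (hφ : IsIrrCharacter K φ) {e : ℕ}
    (he : classInner (fun k : K => ψ k) φ = e) (he0 : e ≠ 0) :
    ψ 1 = e * (stab K φ).index * φ 1 := by
  classical
  have h0 : classInner (fun k : K => ψ k) φ ≠ 0 := by
    rw [he]
    exact_mod_cast he0
  have h1 := congrFun (CliffordSum.restrict_eq_smul_sum K hψ hφ h0) 1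
  rw [he, Pi.smul_apply, Finset.sum_apply, smul_eq_mul, Finset.sum_congr rfl
    (g := fun _ => φ 1)] at h1
  · rw [Finset.sum_const, card_orbit, nsmul_eq_mul, ← mul_assoc] at h1
    rw [← h1]
    rfl
  · intro ψ' hψ'
    obtain ⟨x, -, rfl⟩ := Finset.mem_image.1 hψ'
    show φ ((MulAut.conjNormal x : MulAut K) 1) = φ 1
    rw [map_one]

/-- If `φ` is invariant then the restriction is a multiple of `φ`. -/
theorem restrict_of_stab_top [Fintype C] (K : Subgroup C) [K.Normal] [Fintype K] {ψ : C → ℂ}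
    (hψ : IsIrrCharacter C ψ) {φ : K → ℂ} (hφ : IsIrrCharacter K φ) {e : ℕ}
    (he : classInner (fun k : K => ψ k) φ = e) (he0 : e ≠ 0) (ht : stab K φ = ⊤) (k : K) :
    ψ k = e * φ k := by
  classical
  have h0 : classInner (fun k : K => ψ k) φ ≠ 0 := by
    rw [he]
    exact_mod_cast he0
  have h1 := congrFun (CliffordSum.restrict_eq_smul_sum K hψ hφ h0) k
  have h2 : Finset.univ.image (fun x : C => φ ∘ (MulAut.conjNormal x : MulAut K)) = {φ} := by
    ext ψ'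
    rw [Finset.mem_image, Finset.mem_singleton]
    constructor
    · rintro ⟨x, -, rfl⟩
      have h3 : x ∈ stab K φ := by rw [ht]; exact Subgroup.mem_top x
      exact mem_stab.1 h3
    · rintro rfl
      exact ⟨1, Finset.mem_univ _, by rw [map_one]; rfl⟩
  rw [he, h2, Finset.sum_singleton, Pi.smul_apply, smul_eq_mul] at h1
  exact h1

end Stab

section Mult

/-- Two different constituents over `φ`. -/
theorem mult_ge_two {D L : Type*} [Group D] [Fintype D] [Group L] [Fintype L] (f : L →* D)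
    {χ : D → ℂ} (hχ : IsCharacter D χ) {η₁ η₂ : D → ℂ} (h1 : IsIrrCharacter D η₁)
    (h2 : IsIrrCharacter D η₂) (hne : η₁ ≠ η₂) (c1 : classInner χ η₁ ≠ 0)
    (c2 : classInner χ η₂ ≠ 0) {φ : L → ℂ} (hφ : IsCharacter L φ)
    (d1 : classInner (η₁ ∘ f) φ ≠ 0) (d2 : classInner (η₂ ∘ f) φ ≠ 0) {e : ℕ}
    (he : classInner (χ ∘ f) φ = e) : 2 ≤ e := by
  classical
  have := Core.finite_irr (G := D)
  let _ : Fintype (IrrCharacter D) := Fintype.ofFinite _
  obtain ⟨m, hm⟩ := Core.exists_nat_comb hχ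
  have hmul : ∀ ψ : IrrCharacter D, classInner χ (ψ : D → ℂ) = m ψ := by
    intro ψ
    rw [hm]
    exact Core.classInner_sum_nsmul_irr m ψ
  have hn : ∀ ψ : IrrCharacter D, ∃ n : ℕ, classInner ((ψ : D → ℂ) ∘ f) φ = n := fun ψ =>
    Core.classInner_isNat (Core.isCharacter_comp f (Core.isIrr_isCharacter ψ.2)) hφ
  choose n hn using hn
  have h3 : χ ∘ f = ∑ ψ : IrrCharacter D, (m ψ : ℂ) • ((ψ : D → ℂ) ∘ f) := by
    funext x
    rw [Function.comp_apply, hm]
    simp [Finset.sum_apply]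
  have h4 : (e : ℂ) = ((∑ ψ : IrrCharacter D, m ψ * n ψ : ℕ) : ℂ) := by
    rw [← he, h3, Core.classInner_sum_left]
    push_cast
    refine Finset.sum_congr rfl fun ψ _ => ?_
    rw [Core.classInner_smul_left, hn]
  have h5 : e = ∑ ψ : IrrCharacter D, m ψ * n ψ := by exact_mod_cast h4
  have hne' : (⟨η₁, h1⟩ : IrrCharacter D) ≠ ⟨η₂, h2⟩ := fun h => hne (congrArg Subtype.val h)
  have h6 : ∑ ψ ∈ ({⟨η₁, h1⟩, ⟨η₂, h2⟩} : Finset (IrrCharacter D)), m ψ * n ψ ≤ e := by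
    rw [h5]
    exact Finset.sum_le_sum_of_subset (Finset.subset_univ _)
  rw [Finset.sum_pair hne'] at h6
  have p1 : m ⟨η₁, h1⟩ ≠ 0 := by
    intro h
    exact c1 (by rw [hmul ⟨η₁, h1⟩, h, Nat.cast_zero])
  have p2 : m ⟨η₂, h2⟩ ≠ 0 := by
    intro h
    exact c2 (by rw [hmul ⟨η₂, h2⟩, h, Nat.cast_zero])
  have p3 : n ⟨η₁, h1⟩ ≠ 0 := by
    intro h
    exact d1 (by rw [hn ⟨η₁, h1⟩, h, Nat.cast_zero])
  have p4 : n ⟨η₂, h2⟩ ≠ 0 := by
    intro h
    exact d2 (by rw [hn ⟨η₂, h2⟩, h, Nat.cast_zero])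
  have q1 := Nat.one_le_iff_ne_zero.2 (Nat.mul_ne_zero p1 p3)
  have q2 := Nat.one_le_iff_ne_zero.2 (Nat.mul_ne_zero p2 p4)
  omega

end Mult

section Two

variable {K M : Subgroup C} {lam : C →* ℂˣ} {w : C}

/-- Linear characters of `M` that agree off the kernel of `lam` are equal. -/
theorem hom_ext (h : WrHyp K M lam w) {ξ ξ' : M →* ℂˣ}
    (he : ∀ s : M, lam (s : C) ≠ 1 → ξ s = ξ' s) : ξ = ξ' := by
  obtain ⟨s, hs, hs1⟩ := h.lam_ne
  refine MonoidHom.ext fun m => ?_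
  by_cases hm : lam (m : C) = 1
  · have h1 : lam (((⟨s, hs⟩ : M) * m : M) : C) ≠ 1 := by
      rw [Subgroup.coe_mul, map_mul, hm, mul_one]
      exact hs1
    have h2 := he _ h1
    rw [map_mul, map_mul, he ⟨s, hs⟩ hs1] at h2
    exact mul_left_cancel h2
  · exact he m hm

theorem conj_mem_sup (h : WrHyp K M lam w) {g : C} (hg : g ∈ K ⊔ M) :
    w⁻¹ * g * w ∈ K ⊔ M := by
  have := h.normal
  obtain ⟨k, hk, m, hm, rfl⟩ := Subgroup.mem_sup_of_normal_left.1 hg
  have h1 : w⁻¹ * (k * m) * w = (w⁻¹ * k * w) * (w⁻¹ * m * w) := by group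
  rw [h1]
  refine (K ⊔ M).mul_mem (Subgroup.mem_sup_left ?_) (Subgroup.mem_sup_right (h.conj_mem m hm))
  have h2 := h.normal.conj_mem k hk w⁻¹
  rwa [inv_inv] at h2

/-- Conjugation by `w` as an automorphism of `K ⊔ M`. -/
noncomputable def conjD [Finite C] (h : WrHyp K M lam w) : ↥(K ⊔ M) ≃* ↥(K ⊔ M) :=
  MulEquiv.ofBijective
    ({ toFun := fun g => ⟨w⁻¹ * g * w, conj_mem_sup h g.2⟩
       map_one' := Subtype.ext (by simp)
       map_mul' := fun a b => Subtype.ext (by simp [mul_assoc]) } : ↥(K ⊔ M) →* ↥(K ⊔ M))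
    (by
      apply Finite.injective_iff_bijective.1
      intro a b hab
      have h1 : w⁻¹ * (a : C) * w = w⁻¹ * b * w := congrArg Subtype.val hab
      exact Subtype.ext (mul_left_cancel (mul_right_cancel h1)))

theorem conjD_coe [Finite C] (h : WrHyp K M lam w) (g : ↥(K ⊔ M)) :
    ((conjD h g : ↥(K ⊔ M)) : C) = w⁻¹ * g * w := rfl

/-- If `w` fixes `φ = ζ|K` then the multiplicity of `φ` in `ψ` is at least two. -/
theorem two_le [Fintype C] [Fintype K] (h : WrHyp K M lam w) {ξ : M →* ℂˣ} (hξ : Free h ξ)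
    {ψ : C → ℂ} (hψ : IsIrrCharacter C ψ) {ζ : ↥(K ⊔ M) → ℂ} (hζ : IsIrrCharacter ↥(K ⊔ M) ζ)
    [Fintype ↥(K ⊔ M)] (hζψ : classInner (fun g : ↥(K ⊔ M) => ψ g) ζ ≠ 0) {σ : ℂ} (hσ : σ ≠ 0)
    (hζs : ∀ s : M, lam (s : C) ≠ 1 → ζ ⟨s, Subgroup.mem_sup_right s.2⟩ = σ * (ξ s : ℂ))
    (hζK : IsIrrCharacter K (fun k : K => ζ ⟨k, Subgroup.mem_sup_left k.2⟩))
    (hw : ∀ k : K, ζ ⟨w⁻¹ * k * w, conj_mem_sup h (Subgroup.mem_sup_left k.2)⟩ =
      ζ ⟨k, Subgroup.mem_sup_left k.2⟩) {e : ℕ}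
    (he : classInner (fun k : K => ψ k) (fun k : K => ζ ⟨k, Subgroup.mem_sup_left k.2⟩) = e) :
    2 ≤ e := by
  have hcl : (fun g : ↥(K ⊔ M) => ψ g) ∘ (conjD h) = fun g : ↥(K ⊔ M) => ψ g := by
    funext g
    show ψ (conjD h g : C) = ψ g
    rw [conjD_coe]
    have h1 := Core.isIrr_isClassFunction hψ (g : C) w⁻¹
    rwa [inv_inv] at h1
  have hζ' : IsIrrCharacter ↥(K ⊔ M) (ζ ∘ (conjD h)) :=
    Core.isIrr_comp ((conjD h : ↥(K ⊔ M) ≃* ↥(K ⊔ M)) : ↥(K ⊔ M) →* ↥(K ⊔ M))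
      (conjD h).surjective hζ
  have hc : classInner (fun g : ↥(K ⊔ M) => ψ g) (ζ ∘ (conjD h)) ≠ 0 := by
    have h1 := Clifford.classInner_comp_mulEquiv (conjD h) (fun g : ↥(K ⊔ M) => ψ g) ζ
    rw [hcl] at h1
    rw [h1]
    exact hζψ
  have hne : ζ ≠ ζ ∘ (conjD h) := by
    intro h1
    apply hξ.1
    refine hom_ext h fun s hs => ?_
    have h2 := congrFun h1 ⟨s, Subgroup.mem_sup_right s.2⟩
    have h3 : (ζ ∘ (conjD h)) ⟨s, Subgroup.mem_sup_right s.2⟩ =
        ζ ⟨((⟨w⁻¹ * s * w, h.conj_mem s s.2⟩ : M) : C), Subgroup.mem_sup_right (Subtype.prop _)⟩ := rfl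
    rw [h3, hζs s hs, hζs ⟨w⁻¹ * s * w, h.conj_mem s s.2⟩
      (by show lam (w⁻¹ * (s : C) * w) ≠ 1; rw [WrTI.lam_conj]; exact hs)] at h2
    have h4 := mul_left_cancel₀ hσ h2
    rw [conjHom_apply]
    exact (Units.ext h4).symm
  let f : K →* ↥(K ⊔ M) := Subgroup.inclusion le_sup_left
  refine mult_ge_two f (Core.isCharacter_comp (K ⊔ M).subtype (Core.isIrr_isCharacter hψ))
    hζ hζ' hne hζψ hc (Core.isIrr_isCharacter hζK) ?_ ?_ he
  · show classInner (fun k : K => ζ ⟨k, Subgroup.mem_sup_left k.2⟩) _ ≠ 0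
    rw [Core.classInner_irr_self hζK]
    exact one_ne_zero
  · have h1 : (ζ ∘ (conjD h)) ∘ f = fun k : K => ζ ⟨k, Subgroup.mem_sup_left k.2⟩ := by
      funext k
      exact hw k
    rw [h1, Core.classInner_irr_self hζK]
    exact one_ne_zero

/-- The restriction of `ζ` to `K`. -/
def resK (K M : Subgroup C) (ζ : ↥(K ⊔ M) → ℂ) : K → ℂ :=
  fun k => ζ ⟨k, Subgroup.mem_sup_left k.2⟩

theorem sup_le_stab [Finite C] [hK : K.Normal] {ζ : ↥(K ⊔ M) → ℂ}
    (hζ : IsIrrCharacter ↥(K ⊔ M) ζ) : K ⊔ M ≤ stab K (resK K M ζ) := by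
  intro g hg
  refine mem_stab_of fun k => ?_
  exact Core.isIrr_isClassFunction hζ ⟨k, Subgroup.mem_sup_left k.2⟩ ⟨g, hg⟩

theorem exists_mult [Fintype C] [Fintype K] [Fintype ↥(K ⊔ M)] {ψ : C → ℂ}
    (hψ : IsIrrCharacter C ψ) {ζ : ↥(K ⊔ M) → ℂ} (hζ : IsIrrCharacter ↥(K ⊔ M) ζ)
    (hζψ : classInner (fun g : ↥(K ⊔ M) => ψ g) ζ ≠ 0) (hζK : IsIrrCharacter K (resK K M ζ)) :
    ∃ e : ℕ, e ≠ 0 ∧ classInner (fun k : K => ψ k) (resK K M ζ) = e := by
  classical
  obtain ⟨e, he⟩ := Core.classInner_isNat (Clifford.isCharacter_restrict K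
    (Core.isIrr_isCharacter hψ)) (Core.isIrr_isCharacter hζK)
  refine ⟨e, ?_, he⟩
  rintro rfl
  rw [Nat.cast_zero] at he
  -- `ψ = ζ + ...` on `K ⊔ M`
  have := Core.finite_irr (G := ↥(K ⊔ M))
  let _ : Fintype (IrrCharacter ↥(K ⊔ M)) := Fintype.ofFinite _
  obtain ⟨m, hm⟩ := Core.exists_nat_comb (Clifford.isCharacter_restrict (K ⊔ M)
    (Core.isIrr_isCharacter hψ))
  have hmζ : m ⟨ζ, hζ⟩ ≠ 0 := by
    intro h0
    apply hζψ
    rw [hm, Core.classInner_sum_nsmul_irr m ⟨ζ, hζ⟩, h0, Nat.cast_zero]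
  have hn : ∀ ψ : IrrCharacter ↥(K ⊔ M), ∃ n : ℕ,
      classInner (resK K M (ψ : ↥(K ⊔ M) → ℂ)) (resK K M ζ) = n := fun ψ =>
    Core.classInner_isNat (Core.isCharacter_comp (Subgroup.inclusion le_sup_left)
      (Core.isIrr_isCharacter ψ.2)) (Core.isIrr_isCharacter hζK)
  choose n hn using hn
  have h3 : (fun k : K => ψ k) =
      ∑ φ : IrrCharacter ↥(K ⊔ M), (m φ : ℂ) • resK K M (φ : ↥(K ⊔ M) → ℂ) := by
    funext k
    have h4 := congrFun hm ⟨k, Subgroup.mem_sup_left k.2⟩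
    simp only [Finset.sum_apply, Pi.smul_apply] at h4 ⊢
    rw [h4]
    refine Finset.sum_congr rfl fun φ _ => ?_
    rw [nsmul_eq_mul, smul_eq_mul]
    rfl
  rw [h3, Core.classInner_sum_left] at he
  have h5 : ∑ φ : IrrCharacter ↥(K ⊔ M), m φ * n φ = 0 := by
    have h6 : ((∑ φ : IrrCharacter ↥(K ⊔ M), m φ * n φ : ℕ) : ℂ) = 0 := by
      rw [← he]
      push_cast
      refine Finset.sum_congr rfl fun φ _ => ?_
      rw [Core.classInner_smul_left, hn]
    exact_mod_cast h6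
  have h6 := (Finset.sum_eq_zero_iff.1 h5) ⟨ζ, hζ⟩ (Finset.mem_univ _)
  have h7 : n ⟨ζ, hζ⟩ = 1 := by
    have h8 := hn ⟨ζ, hζ⟩
    rw [Core.classInner_irr_self hζK] at h8
    exact_mod_cast h8.symm
  rw [h7, mul_one] at h6
  exact hmζ h6

/-- **The degree bound.** -/
theorem degree_bound [Fintype C] [Fintype K] [Fintype ↥(K ⊔ M)] [hKn : K.Normal]
    (h : WrHyp K M lam w) {N : ℕ}
    (h1 : ∀ H : Subgroup C, K ⊔ M ≤ H → H ≠ ⊤ → w ∈ H → N < 2 * H.index)
    (h2 : ∀ H : Subgroup C, K ⊔ M ≤ H → w ∉ H → N ≤ H.index)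
    {ξ : M →* ℂˣ} (hξ : Free h ξ) {ψ : C → ℂ} (hψ : IsIrrCharacter C ψ)
    {ζ : ↥(K ⊔ M) → ℂ} (hζ : IsIrrCharacter ↥(K ⊔ M) ζ)
    (hζψ : classInner (fun g : ↥(K ⊔ M) => ψ g) ζ ≠ 0) {σ : ℂ} (hσ : σ ≠ 0)
    (hζs : ∀ s : M, lam (s : C) ≠ 1 → ζ ⟨s, Subgroup.mem_sup_right s.2⟩ = σ * (ξ s : ℂ))
    (hζK : IsIrrCharacter K (resK K M ζ))
    (hF : stab K (resK K M ζ) = ⊤ → ∀ e : ℕ, 2 ≤ e → (∀ k : K, ψ k = e * resK K M ζ k) → N ≤ e)
    {n : ℕ} (hn : ψ 1 = n) :
    N ≤ n ∧ (n = N → resK K M ζ 1 = 1 ∧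
      ((stab K (resK K M ζ) = ⊤ ∧ ∀ k : K, ψ k = N * resK K M ζ k) ∨
        (w ∉ stab K (resK K M ζ) ∧ (stab K (resK K M ζ)).index = N ∧
          classInner (fun k : K => ψ k) (resK K M ζ) = 1))) := by
  obtain ⟨e, he0, he⟩ := exists_mult hψ hζ hζψ hζK
  obtain ⟨f, hf0, hf⟩ := Core.isIrr_apply_one hζK
  have hdeg := degree_eq K hψ hζK he he0
  have hle := sup_le_stab (K := K) (M := M) hζ
  have hne : n = e * (stab K (resK K M ζ)).index * f := by
    rw [hn, hf] at hdeg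
    exact_mod_cast hdeg
  have hi0 : 0 < (stab K (resK K M ζ)).index :=
    Nat.pos_of_ne_zero Subgroup.index_ne_zero_of_finite
  have hge2 : w ∈ stab K (resK K M ζ) → 2 ≤ e := by
    intro hw
    refine two_le h hξ hψ hζ hζψ hσ hζs hζK (fun k => ?_) he
    have h3 := stab_apply ((stab K (resK K M ζ)).inv_mem hw) k
    simp only [inv_inv] at h3
    exact h3
  by_cases htop : stab K (resK K M ζ) = ⊤
  · have he2 : 2 ≤ e := hge2 (by rw [htop]; exact Subgroup.mem_top w)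
    have hres := restrict_of_stab_top K hψ hζK he he0 htop
    have hNe := hF htop e he2 hres
    rw [htop, Subgroup.index_top, mul_one] at hne
    have hef : e ≤ e * f := Nat.le_mul_of_pos_right e hf0
    refine ⟨by omega, fun hnN => ?_⟩
    have h3 : e * f = N := by omega
    have h4 : e = N := by omega
    have h5 : f = 1 := by
      have h6 : e * f = e * 1 := by omega
      exact Nat.eq_of_mul_eq_mul_left (by omega) h6
    refine ⟨by rw [hf, h5, Nat.cast_one], Or.inl ⟨htop, ?_⟩⟩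
    rw [← h4]
    exact hres
  · by_cases hw : w ∈ stab K (resK K M ζ)
    · have he2 := hge2 hw
      have h3 := h1 _ hle htop hw
      have h4 : 2 * (stab K (resK K M ζ)).index ≤ n := by
        rw [hne]
        calc 2 * (stab K (resK K M ζ)).index ≤ e * (stab K (resK K M ζ)).index :=
              Nat.mul_le_mul_right _ he2
          _ ≤ e * (stab K (resK K M ζ)).index * f := Nat.le_mul_of_pos_right _ hf0
      exact ⟨by omega, fun h5 => by omega⟩
    · have h3 := h2 _ hle hw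
      have he1 : 1 ≤ e := Nat.one_le_iff_ne_zero.2 he0
      have h4 : (stab K (resK K M ζ)).index ≤ e * (stab K (resK K M ζ)).index :=
        Nat.le_mul_of_pos_left _ he1
      have h5 : e * (stab K (resK K M ζ)).index ≤ n := by
        rw [hne]
        exact Nat.le_mul_of_pos_right _ hf0
      refine ⟨by omega, fun hnN => ?_⟩
      have h6 : (stab K (resK K M ζ)).index = N := by omega
      have h7 : e = 1 := by
        have h8 : e * (stab K (resK K M ζ)).index = 1 * (stab K (resK K M ζ)).index := by omega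
        exact Nat.eq_of_mul_eq_mul_right hi0 h8
      have h8 : f = 1 := by
        rw [h7, one_mul, h6] at hne
        have h9 : N * f = N * 1 := by omega
        exact Nat.eq_of_mul_eq_mul_left (by omega) h9
      refine ⟨by rw [hf, h8, Nat.cast_one], Or.inr ⟨hw, h6, ?_⟩⟩
      rw [he, h7, Nat.cast_one]

end Two

section Borel

/-- A constituent of a constituent. -/
theorem inner_comp_ne_zero {D L : Type*} [Group D] [Fintype D] [Group L] [Fintype L]
    (f : L →* D) {χ : D → ℂ} (hχ : IsCharacter D χ) {η : D → ℂ} (hη : IsIrrCharacter D η)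
    (hc : classInner χ η ≠ 0) {φ : L → ℂ} (hφ : IsCharacter L φ)
    (hd : classInner (η ∘ f) φ ≠ 0) : classInner (χ ∘ f) φ ≠ 0 := by
  classical
  have := Core.finite_irr (G := D)
  let _ : Fintype (IrrCharacter D) := Fintype.ofFinite _
  obtain ⟨m, hm⟩ := Core.exists_nat_comb hχ
  have hmul : ∀ ψ : IrrCharacter D, classInner χ (ψ : D → ℂ) = m ψ := by
    intro ψ
    rw [hm]
    exact Core.classInner_sum_nsmul_irr m ψ
  have hn : ∀ ψ : IrrCharacter D, ∃ n : ℕ, classInner ((ψ : D → ℂ) ∘ f) φ = n := fun ψ =>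
    Core.classInner_isNat (Core.isCharacter_comp f (Core.isIrr_isCharacter ψ.2)) hφ
  choose n hn using hn
  have h3 : χ ∘ f = ∑ ψ : IrrCharacter D, (m ψ : ℂ) • ((ψ : D → ℂ) ∘ f) := by
    funext x
    rw [Function.comp_apply, hm]
    simp [Finset.sum_apply]
  have h4 : classInner (χ ∘ f) φ = ((∑ ψ : IrrCharacter D, m ψ * n ψ : ℕ) : ℂ) := by
    rw [h3, Core.classInner_sum_left]
    push_cast
    refine Finset.sum_congr rfl fun ψ _ => ?_
    rw [Core.classInner_smul_left, hn]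
  rw [h4]
  intro h5
  have h6 : ∑ ψ : IrrCharacter D, m ψ * n ψ = 0 := by exact_mod_cast h5
  have h7 := (Finset.sum_eq_zero_iff.1 h6) ⟨η, hη⟩ (Finset.mem_univ _)
  rcases Nat.mul_eq_zero.1 h7 with h8 | h8
  · exact hc (by rw [hmul ⟨η, hη⟩, h8, Nat.cast_zero])
  · exact hd (by rw [hn ⟨η, hη⟩, h8, Nat.cast_zero])

/-- A character is irreducible if it has a constituent of the same degree. -/
theorem eq_of_degree {D : Type*} [Group D] [Fintype D] {χ : D → ℂ} (hχ : IsCharacter D χ)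
    {ψ : D → ℂ} (hψ : IsIrrCharacter D ψ) (hc : classInner χ ψ ≠ 0) (h1 : χ 1 = ψ 1) : χ = ψ := by
  classical
  have := Core.finite_irr (G := D)
  let _ : Fintype (IrrCharacter D) := Fintype.ofFinite _
  obtain ⟨m, hm⟩ := Core.exists_nat_comb hχ
  have hdegs : ∀ φ : IrrCharacter D, ∃ n : ℕ, 0 < n ∧ (φ : D → ℂ) 1 = n := fun φ =>
    Core.isIrr_apply_one φ.2
  choose d hd0 hd using hdegs
  have hmψ : 1 ≤ m ⟨ψ, hψ⟩ := by
    refine Nat.one_le_iff_ne_zero.2 fun h0 => hc ?_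
    rw [hm, Core.classInner_sum_nsmul_irr m ⟨ψ, hψ⟩, h0, Nat.cast_zero]
  have hsum : ∑ φ : IrrCharacter D, m φ * d φ = d ⟨ψ, hψ⟩ := by
    have h2 : ((∑ φ : IrrCharacter D, m φ * d φ : ℕ) : ℂ) = d ⟨ψ, hψ⟩ := by
      rw [← hd ⟨ψ, hψ⟩]
      show _ = ψ 1
      rw [← h1, hm, Finset.sum_apply]
      push_cast
      refine Finset.sum_congr rfl fun φ _ => ?_
      rw [Pi.smul_apply, nsmul_eq_mul, hd]
    exact_mod_cast h2
  rw [← Finset.add_sum_erase _ _ (Finset.mem_univ (⟨ψ, hψ⟩ : IrrCharacter D))] at hsum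
  have h3 : d ⟨ψ, hψ⟩ ≤ m ⟨ψ, hψ⟩ * d ⟨ψ, hψ⟩ := Nat.le_mul_of_pos_left _ hmψ
  have h4 : ∑ φ ∈ Finset.univ.erase (⟨ψ, hψ⟩ : IrrCharacter D), m φ * d φ = 0 := by omega
  have h5 : m ⟨ψ, hψ⟩ = 1 := by
    have h6 : m ⟨ψ, hψ⟩ * d ⟨ψ, hψ⟩ = 1 * d ⟨ψ, hψ⟩ := by omega
    exact Nat.eq_of_mul_eq_mul_right (hd0 _) h6
  rw [hm, ← Finset.add_sum_erase _ _ (Finset.mem_univ (⟨ψ, hψ⟩ : IrrCharacter D)), h5, one_smul]
  rw [Finset.sum_eq_zero, add_zero]
  intro φ hφ
  have h6 := (Finset.sum_eq_zero_iff.1 h4) φ hφ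
  have h7 : m φ = 0 := by
    rcases Nat.mul_eq_zero.1 h6 with h8 | h8
    · exact h8
    · exact absurd h8 (hd0 φ).ne'
  rw [h7, zero_smul]

variable {K M : Subgroup C} {lam : C →* ℂˣ} {w : C}

/-- If `ζ` is linear then it agrees with `ξ` on the kernel of `lam` in `M`. -/
theorem zeta_eq (h : WrHyp K M lam w) {ξ : M →* ℂˣ} {ζ : ↥(K ⊔ M) → ℂ}
    (hζ : IsIrrCharacter ↥(K ⊔ M) ζ) {σ : ℂ} (hσ : σ ≠ 0)
    (hζs : ∀ s : M, lam (s : C) ≠ 1 → ζ ⟨s, Subgroup.mem_sup_right s.2⟩ = σ * (ξ s : ℂ))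
    (h1 : ζ 1 = 1) (y : M) (hy : lam (y : C) = 1) :
    ζ ⟨y, Subgroup.mem_sup_right y.2⟩ = ξ y := by
  obtain ⟨f, hf⟩ := Linear.exists_hom_of_isIrrCharacter hζ h1
  obtain ⟨s, hs, hs1⟩ := h.lam_ne
  have h2 : lam (((⟨s, hs⟩ : M) * y : M) : C) ≠ 1 := by
    rw [Subgroup.coe_mul, map_mul, hy, mul_one]
    exact hs1
  have h3 := hζs _ h2
  have h4 : ζ ⟨(((⟨s, hs⟩ : M) * y : M) : C), Subgroup.mem_sup_right (Subtype.prop _)⟩ =
      ζ ⟨s, Subgroup.mem_sup_right hs⟩ * ζ ⟨y, Subgroup.mem_sup_right y.2⟩ := by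
    have h5 := congrFun hf
    simp only [h5]
    rw [← Units.val_mul, ← map_mul]
    rfl
  rw [h4, hζs ⟨s, hs⟩ hs1, map_mul, Units.val_mul] at h3
  have h5 : σ * (ξ ⟨s, hs⟩ : ℂ) ≠ 0 := mul_ne_zero hσ (Units.ne_zero _)
  have h6 : σ * (ξ ⟨s, hs⟩ : ℂ) * ζ ⟨y, Subgroup.mem_sup_right y.2⟩ =
      σ * (ξ ⟨s, hs⟩ : ℂ) * ξ y := by rw [h3]; ring
  exact mul_left_cancel₀ h5 h6

open scoped Classical in
/-- The values of the induced function at an element with two fixed points. -/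
theorem indFun_two [Fintype C] {H : Subgroup C} (hw : w ∉ H) {η : H → ℂ}
    (hη : IsClassFunction H η) {y : C} (hyH : y ∈ H) (hyw : w⁻¹ * y * w ∈ H)
    (hfix : ∀ g : C, g⁻¹ * y * g ∈ H → g ∈ H ∨ w⁻¹ * g ∈ H) :
    indFun H η y = η ⟨y, hyH⟩ + η ⟨w⁻¹ * y * w, hyw⟩ := by
  have hH0 : (Nat.card H : ℂ) ≠ 0 := Core.card_ne_zero_complex
  let _ : Fintype H := Fintype.ofFinite _
  have hconj : ∀ (a b : H), η (b⁻¹ * a * b) = η a := by
    intro a b
    have h1 := hη a b⁻¹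
    rwa [inv_inv] at h1
  have key : ∀ x : C, extendByZero H η (x⁻¹ * y * x) =
      (if x ∈ H then η ⟨y, hyH⟩ else 0) + (if w⁻¹ * x ∈ H then η ⟨w⁻¹ * y * w, hyw⟩ else 0) := by
    intro x
    by_cases hx : x ∈ H
    · have hx' : w⁻¹ * x ∉ H := by
        intro h1
        have h2 := H.mul_mem h1 (H.inv_mem hx)
        rw [mul_assoc, mul_inv_cancel, mul_one] at h2
        exact hw (by simpa using H.inv_mem h2)
      rw [if_pos hx, if_neg hx', add_zero]
      have h3 : x⁻¹ * y * x = (((⟨x, hx⟩ : H)⁻¹ * ⟨y, hyH⟩ * ⟨x, hx⟩ : H) : C) := rfl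
      rw [h3, Core.extendByZero_of_mem H _ (Subtype.prop _)]
      exact hconj _ _
    · by_cases hx' : w⁻¹ * x ∈ H
      · rw [if_neg hx, if_pos hx', zero_add]
        have h3 : x⁻¹ * y * x = (((⟨w⁻¹ * x, hx'⟩ : H)⁻¹ * ⟨w⁻¹ * y * w, hyw⟩ *
            ⟨w⁻¹ * x, hx'⟩ : H) : C) := by
          show _ = (w⁻¹ * x)⁻¹ * (w⁻¹ * y * w) * (w⁻¹ * x)
          group
        rw [h3, Core.extendByZero_of_mem H _ (Subtype.prop _)]
        exact hconj _ _
      · rw [if_neg hx, if_neg hx', add_zero]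
        apply Core.extendByZero_of_notMem
        intro h1
        rcases hfix x h1 with h2 | h2
        · exact hx h2
        · exact hx' h2
  rw [Core.indFun_apply, Finset.sum_congr rfl fun x _ => key x, Finset.sum_add_distrib]
  have hc1 : ∀ c : ℂ, ∑ x : C, (if x ∈ H then c else 0) = Nat.card H * c := by
    intro c
    rw [← Finset.sum_filter, Finset.sum_const, nsmul_eq_mul]
    congr 2
    rw [Nat.card_eq_fintype_card, Fintype.card_subtype]
  have hc2 : ∀ c : ℂ, ∑ x : C, (if w⁻¹ * x ∈ H then c else 0) = Nat.card H * c := by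
    intro c
    rw [← hc1 c]
    exact Fintype.sum_equiv (Equiv.mulLeft w⁻¹) _ _ (fun x => rfl)
  rw [hc1, hc2]
  field_simp

/-- The values of `ψ` in the induced case. -/
theorem values_borel [Fintype C] [Fintype K] [Fintype ↥(K ⊔ M)] [hKn : K.Normal]
    (h : WrHyp K M lam w) {N : ℕ} {ξ : M →* ℂˣ} {ψ : C → ℂ} (hψ : IsIrrCharacter C ψ)
    {ζ : ↥(K ⊔ M) → ℂ} (hζ : IsIrrCharacter ↥(K ⊔ M) ζ)
    (hζψ : classInner (fun g : ↥(K ⊔ M) => ψ g) ζ ≠ 0) {σ : ℂ} (hσ : σ ≠ 0)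
    (hζs : ∀ s : M, lam (s : C) ≠ 1 → ζ ⟨s, Subgroup.mem_sup_right s.2⟩ = σ * (ξ s : ℂ))
    (hζK : IsIrrCharacter K (resK K M ζ)) (hn : ψ 1 = N)
    (h1 : resK K M ζ 1 = 1) (hw : w ∉ stab K (resK K M ζ))
    (hidx : (stab K (resK K M ζ)).index = N)
    (he : classInner (fun k : K => ψ k) (resK K M ζ) = 1) {y : C} (hy : y ∈ M)
    (hly : lam y = 1)
    (hfix : ∀ g : C, g⁻¹ * y * g ∈ stab K (resK K M ζ) →
      g ∈ stab K (resK K M ζ) ∨ w⁻¹ * g ∈ stab K (resK K M ζ)) :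
    ψ y = ξ ⟨y, hy⟩ + ξ ⟨w⁻¹ * y * w, h.conj_mem y hy⟩ := by
  classical
  set H := stab K (resK K M ζ) with hH
  have hDH : K ⊔ M ≤ H := sup_le_stab hζ
  have hKH : K ≤ H := le_sup_left.trans hDH
  let _ : Fintype H := Fintype.ofFinite _
  have hψH : IsCharacter H (fun g : H => ψ g) :=
    Clifford.isCharacter_restrict H (Core.isIrr_isCharacter hψ)
  -- a constituent `η` of `ψ` on `H` over `φ`
  have := Core.finite_irr (G := H)
  let _ : Fintype (IrrCharacter H) := Fintype.ofFinite _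
  obtain ⟨m, hm⟩ := Core.exists_nat_comb hψH
  have hmul : ∀ η : IrrCharacter H, classInner (fun g : H => ψ g) (η : H → ℂ) = m η := by
    intro η
    rw [hm]
    exact Core.classInner_sum_nsmul_irr m η
  let f : K →* H := Subgroup.inclusion hKH
  have hnn : ∀ η : IrrCharacter H, ∃ n : ℕ, classInner ((η : H → ℂ) ∘ f) (resK K M ζ) = n :=
    fun η => Core.classInner_isNat (Core.isCharacter_comp f (Core.isIrr_isCharacter η.2))
      (Core.isIrr_isCharacter hζK)
  choose n hnn using hnn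
  have hsum : ∑ η : IrrCharacter H, m η * n η = 1 := by
    have h3 : (fun k : K => ψ k) = ∑ η : IrrCharacter H, (m η : ℂ) • ((η : H → ℂ) ∘ f) := by
      funext k
      have h4 := congrFun hm (f k)
      simp only [Finset.sum_apply, Pi.smul_apply] at h4 ⊢
      rw [show ψ (k : C) = ψ ((f k : H) : C) from rfl, h4]
      refine Finset.sum_congr rfl fun η _ => ?_
      rw [nsmul_eq_mul, smul_eq_mul]
      rfl
    have h4 : ((∑ η : IrrCharacter H, m η * n η : ℕ) : ℂ) = 1 := by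
      rw [← he, h3, Core.classInner_sum_left]
      push_cast
      refine Finset.sum_congr rfl fun η _ => ?_
      rw [Core.classInner_smul_left, hnn]
    exact_mod_cast h4
  obtain ⟨η, hη⟩ : ∃ η : IrrCharacter H, m η * n η ≠ 0 := by
    by_contra hcon
    push Not at hcon
    rw [Finset.sum_eq_zero fun η _ => hcon η] at hsum
    exact absurd hsum (by norm_num)
  have hmn : m η * n η = 1 := by
    have h2 : m η * n η ≤ ∑ η : IrrCharacter H, m η * n η :=
      Finset.single_le_sum (f := fun η : IrrCharacter H => m η * n η)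
        (fun _ _ => Nat.zero_le _) (Finset.mem_univ η)
    omega
  have hm1 : m η = 1 := Nat.eq_one_of_mul_eq_one_right hmn
  have hn1 : n η = 1 := Nat.eq_one_of_mul_eq_one_left hmn
  have hηψ : classInner (fun g : H => ψ g) (η : H → ℂ) ≠ 0 := by
    rw [hmul, hm1, Nat.cast_one]
    exact one_ne_zero
  -- `η` restricts to `φ` on `K`
  have hηK : ∀ k : K, (η : H → ℂ) (f k) = resK K M ζ k := by
    have hKn' : (K.subgroupOf H).Normal := inferInstance
    let e : K.subgroupOf H ≃* K := Subgroup.subgroupOfEquivOfLe hKH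
    let _ : Fintype (K.subgroupOf H) := Fintype.ofFinite _
    have hφ' : IsIrrCharacter (K.subgroupOf H) (resK K M ζ ∘ e) :=
      Core.isIrr_comp (e : K.subgroupOf H →* K) e.surjective hζK
    have hin : classInner (fun k : K.subgroupOf H => (η : H → ℂ) k) (resK K M ζ ∘ e) =
        (1 : ℕ) := by
      have h2 := Clifford.classInner_comp_mulEquiv e ((η : H → ℂ) ∘ f) (resK K M ζ)
      rw [hnn, hn1] at h2
      rw [← h2]
      congr 1
    have htop : stab (K.subgroupOf H) (resK K M ζ ∘ e) = ⊤ := by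
      rw [eq_top_iff]
      intro g _
      refine mem_stab_of fun k => ?_
      exact stab_apply (K := K) (φ := resK K M ζ) g.2 (e k)
    have h2 := restrict_of_stab_top (K.subgroupOf H) η.2 hφ' hin one_ne_zero htop
    intro k
    have h3 := h2 (e.symm k)
    rw [Nat.cast_one, one_mul, Function.comp_apply, e.apply_symm_apply] at h3
    exact h3
  have hη1 : (η : H → ℂ) 1 = 1 := by
    have h2 := hηK 1
    rw [map_one, h1] at h2
    exact h2
  -- `ψ` is induced from `η`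
  have hind : indFun H (η : H → ℂ) = ψ := by
    refine eq_of_degree (IndFun.isCharacter_indFun H (Core.isIrr_isCharacter η.2)) hψ ?_ ?_
    · rw [IndFun.classInner_indFun H _ _ (Core.isIrr_isClassFunction hψ)]
      intro h2
      apply hηψ
      rw [← Core.classInner_conj_symm, h2, map_zero]
    · rw [NormalInd.indFun_one, hη1, mul_one, hidx, hn]
  -- `η = ζ` on `K ⊔ M`
  let g : ↥(K ⊔ M) →* H := Subgroup.inclusion hDH
  have hηD : IsIrrCharacter ↥(K ⊔ M) ((η : H → ℂ) ∘ g) := by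
    refine Linear.isIrrCharacter_of_isCharacter
      (Core.isCharacter_comp g (Core.isIrr_isCharacter η.2)) ?_
    rw [Function.comp_apply, map_one, hη1]
  have hηζ : (η : H → ℂ) ∘ g = ζ := by
    by_contra hne
    have h2 : classInner (fun x : ↥(K ⊔ M) => ψ x) ((η : H → ℂ) ∘ g) ≠ 0 := by
      refine inner_comp_ne_zero g hψH η.2 hηψ (Core.isIrr_isCharacter hηD) ?_
      rw [Core.classInner_irr_self hηD]
      exact one_ne_zero
    have h3 : 2 ≤ 1 := by
      refine mult_ge_two (Subgroup.inclusion le_sup_left : K →* ↥(K ⊔ M))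
        (Clifford.isCharacter_restrict (K ⊔ M) (Core.isIrr_isCharacter hψ)) hηD hζ hne h2 hζψ
        (Core.isIrr_isCharacter hζK) ?_ ?_ (φ := resK K M ζ) (by rw [Nat.cast_one]; exact he)
      · have h4 : ((η : H → ℂ) ∘ g) ∘ (Subgroup.inclusion le_sup_left : K →* ↥(K ⊔ M)) =
            resK K M ζ := funext hηK
        rw [h4, Core.classInner_irr_self hζK]
        exact one_ne_zero
      · show classInner (resK K M ζ) (resK K M ζ) ≠ 0
        rw [Core.classInner_irr_self hζK]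
        exact one_ne_zero
    omega
  have hζ1 : ζ 1 = 1 := by
    rw [← hηζ, Function.comp_apply, map_one, hη1]
  have hyH : y ∈ H := hDH (Subgroup.mem_sup_right hy)
  have hyw : w⁻¹ * y * w ∈ H := hDH (Subgroup.mem_sup_right (h.conj_mem y hy))
  rw [← hind, indFun_two hw (Core.isIrr_isClassFunction η.2) hyH hyw hfix]
  have e1 : (η : H → ℂ) ⟨y, hyH⟩ = ξ ⟨y, hy⟩ := by
    rw [← zeta_eq h hζ hσ hζs hζ1 ⟨y, hy⟩ hly, ← hηζ]
    rfl
  have e2 : (η : H → ℂ) ⟨w⁻¹ * y * w, hyw⟩ = ξ ⟨w⁻¹ * y * w, h.conj_mem y hy⟩ := by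
    rw [← zeta_eq h hζ hσ hζs hζ1 ⟨w⁻¹ * y * w, h.conj_mem y hy⟩
      (by show lam (w⁻¹ * y * w) = 1; rw [WrTI.lam_conj]; exact hly), ← hηζ]
    rfl
  rw [e1, e2]

end Borel

end Cfsg.Agent.Classification.QDW.WrDeg
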