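import Mathlib
import Cfsg.Prelude.Def_Characters
import Cfsg.Agent.Characters.Core
import Cfsg.Agent.Characters.Clifford
import Cfsg.Agent.Characters.Linear
import Cfsg.Agent.Classification.QDW.FrobLift

/-!
# The end of the tight case: no Borel orbits

* `inf_le_of_count`: the counting lemma on `W`, giving `A₁ ∩ A₂ ≤ A₃` and that `A₁ ∩ A₂` is in the kernel;
* `inv_top`: if every `T`-invariant linear character of `K` is invariant under one of two subgroups `B₀`, `B₁`
  swapped by `w` and generating the group, then all of them are invariant under the whole group;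
* `occurs_of_sum_ne_zero`: a `u`-invariant linear character of the abelian group `K` of odd order with nonzero
  trace on `u C_K(u)` occurs;
* `le_center`: `K` is central.
-/

set_option autoImplicit false
set_option linter.unusedSectionVars false

namespace Cfsg.Agent.Classification.QDW.BorelOrb

open Cfsg Cfsg.Agent.Characters
open scoped ComplexConjugate

universe u

section Count

variable {G : Type u} [Group G] [Finite G]

open scoped Classical in
/-- The counting lemma. -/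
theorem inf_le_of_count (A₁ A₂ A₃ : Subgroup G) [Fintype A₁] {R : G → ℝ} {q j : ℝ} (hq : 1 < q)
    (hj : 0 < j) (hRle : ∀ y ∈ A₁, R y ≤ q ^ 2 + q)
    (hR : ∀ y ∈ A₁, ¬ (y ∈ A₂ ∧ y ∈ A₃) →
      R y = 2 + (q - 1) * (1 + (if y ∈ A₂ then 1 else 0) + (if y ∈ A₃ then 1 else 0)))
    (h12 : (Nat.card A₁ : ℝ) = j * Nat.card (A₁ ⊓ A₂ : Subgroup G))
    (h13 : (Nat.card A₁ : ℝ) = j * Nat.card (A₁ ⊓ A₃ : Subgroup G))
    (hcount : (Nat.card A₁ : ℝ) * ((q + 1) * (q - 1 + j)) ≤ j * ∑ y : A₁, R y) :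
    A₁ ⊓ A₂ ≤ A₃ ∧ ∀ y ∈ A₁ ⊓ A₂, R y = q ^ 2 + q := by
  -- the sum
  have hsum2 : ∑ y : A₁, (if (y : G) ∈ A₂ then (1 : ℝ) else 0) =
      Nat.card (A₁ ⊓ A₂ : Subgroup G) := by
    rw [← Finset.sum_filter, Finset.sum_const, nsmul_eq_mul, mul_one]
    congr 1
    rw [← Fintype.card_subtype, ← Nat.card_eq_fintype_card]
    exact Nat.card_congr
      { toFun := fun x => ⟨x.1.1, x.1.2, x.2⟩
        invFun := fun x => ⟨⟨x.1, x.2.1⟩, x.2.2⟩
        left_inv := fun _ => rfl
        right_inv := fun _ => rfl }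
  have hsum3 : ∑ y : A₁, (if (y : G) ∈ A₃ then (1 : ℝ) else 0) =
      Nat.card (A₁ ⊓ A₃ : Subgroup G) := by
    rw [← Finset.sum_filter, Finset.sum_const, nsmul_eq_mul, mul_one]
    congr 1
    rw [← Fintype.card_subtype, ← Nat.card_eq_fintype_card]
    exact Nat.card_congr
      { toFun := fun x => ⟨x.1.1, x.1.2, x.2⟩
        invFun := fun x => ⟨⟨x.1, x.2.1⟩, x.2.2⟩
        left_inv := fun _ => rfl
        right_inv := fun _ => rfl }
  have hsumD : ∑ y : A₁, (if (y : G) ∈ A₂ ∧ (y : G) ∈ A₃ then (1 : ℝ) else 0) =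
      Nat.card (A₁ ⊓ A₂ ⊓ A₃ : Subgroup G) := by
    rw [← Finset.sum_filter, Finset.sum_const, nsmul_eq_mul, mul_one]
    congr 1
    rw [← Fintype.card_subtype, ← Nat.card_eq_fintype_card]
    exact Nat.card_congr
      { toFun := fun x => ⟨x.1.1, ⟨x.1.2, x.2.1⟩, x.2.2⟩
        invFun := fun x => ⟨⟨x.1, x.2.1.1⟩, x.2.1.2, x.2.2⟩
        left_inv := fun _ => rfl
        right_inv := fun _ => rfl }
  have hsum1 : ∑ _y : A₁, (1 : ℝ) = Nat.card A₁ := by
    rw [Finset.sum_const, nsmul_eq_mul, mul_one, Finset.card_univ, Nat.card_eq_fintype_card]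
  -- the defect on `D`
  set δ : A₁ → ℝ := fun y => if (y : G) ∈ A₂ ∧ (y : G) ∈ A₃ then q ^ 2 + q - R y else 0 with hδ
  have hδnn : ∀ y, 0 ≤ δ y := by
    intro y
    simp only [hδ]
    split_ifs
    · linarith [hRle y y.2]
    · exact le_refl 0
  have hpt : ∀ y : A₁, R y = (q + 1) + (q - 1) * (if (y : G) ∈ A₂ then (1 : ℝ) else 0) +
      (q - 1) * (if (y : G) ∈ A₃ then (1 : ℝ) else 0) +
      (q - 1) ^ 2 * (if (y : G) ∈ A₂ ∧ (y : G) ∈ A₃ then (1 : ℝ) else 0) - δ y := by
    intro y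
    by_cases h : (y : G) ∈ A₂ ∧ (y : G) ∈ A₃
    · simp only [hδ, if_pos h, if_pos h.1, if_pos h.2]
      ring
    · rw [hR y y.2 h]
      simp only [hδ, if_neg h]
      ring
  have hS : ∑ y : A₁, R y = (q + 1) * Nat.card A₁ +
      (q - 1) * Nat.card (A₁ ⊓ A₂ : Subgroup G) + (q - 1) * Nat.card (A₁ ⊓ A₃ : Subgroup G) +
      (q - 1) ^ 2 * Nat.card (A₁ ⊓ A₂ ⊓ A₃ : Subgroup G) - ∑ y : A₁, δ y := by
    rw [Finset.sum_congr rfl fun y _ => hpt y, Finset.sum_sub_distrib, Finset.sum_add_distrib,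
      Finset.sum_add_distrib, Finset.sum_add_distrib, ← Finset.mul_sum, ← Finset.mul_sum,
      ← Finset.mul_sum, hsum2, hsum3, hsumD, ← hsum1, Finset.mul_sum]
    simp
  have hDle : (A₁ ⊓ A₂ ⊓ A₃ : Subgroup G) ≤ A₁ ⊓ A₂ := inf_le_left
  have hcD : (Nat.card (A₁ ⊓ A₂ ⊓ A₃ : Subgroup G) : ℝ) ≤ Nat.card (A₁ ⊓ A₂ : Subgroup G) := by
    exact_mod_cast Nat.card_le_card_of_injective _ (Subgroup.inclusion_injective hDle)
  have hΔ : 0 ≤ ∑ y : A₁, δ y := Finset.sum_nonneg fun y _ => hδnn y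
  rw [hS] at hcount
  -- `j Σδ + (q - 1)² (|A₁| - j |D|) ≤ 0`
  have hkey : j * ∑ y : A₁, δ y + (q - 1) ^ 2 * (j * Nat.card (A₁ ⊓ A₂ : Subgroup G) -
      j * Nat.card (A₁ ⊓ A₂ ⊓ A₃ : Subgroup G)) ≤ 0 := by
    have e1 : (Nat.card A₁ : ℝ) * ((q + 1) * (q - 1 + j)) =
        Nat.card A₁ * ((q + 1) * j) + (q + 1) * (q - 1) * (j * Nat.card (A₁ ⊓ A₂ : Subgroup G)) := by
      rw [← h12]; ring
    have e2 : j * Nat.card (A₁ ⊓ A₃ : Subgroup G) = j * Nat.card (A₁ ⊓ A₂ : Subgroup G) := by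
      rw [← h12, ← h13]
    rw [e1] at hcount
    nlinarith [hcount, e2]
  have hq1 : 0 < (q - 1) ^ 2 := by
    have : 0 < q - 1 := by linarith
    positivity
  have h1 : 0 ≤ (q - 1) ^ 2 * (j * Nat.card (A₁ ⊓ A₂ : Subgroup G) -
      j * Nat.card (A₁ ⊓ A₂ ⊓ A₃ : Subgroup G)) := by
    refine mul_nonneg hq1.le ?_
    rw [← mul_sub]
    exact mul_nonneg hj.le (by linarith)
  have h2 : ∑ y : A₁, δ y = 0 := by
    have : j * ∑ y : A₁, δ y ≤ 0 := by linarith
    have h3 : ∑ y : A₁, δ y ≤ 0 := by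
      by_contra hc
      push Not at hc
      exact absurd (mul_pos hj hc) (not_lt.2 this)
    linarith
  have h3 : (Nat.card (A₁ ⊓ A₂ ⊓ A₃ : Subgroup G) : ℝ) = Nat.card (A₁ ⊓ A₂ : Subgroup G) := by
    refine le_antisymm hcD ?_
    rw [h2, mul_zero, zero_add, ← mul_sub] at hkey
    by_contra hc
    push Not at hc
    have : 0 < (q - 1) ^ 2 * (j * ((Nat.card (A₁ ⊓ A₂ : Subgroup G) : ℝ) -
        Nat.card (A₁ ⊓ A₂ ⊓ A₃ : Subgroup G))) :=
      mul_pos hq1 (mul_pos hj (by linarith))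
    linarith
  have h4 : (A₁ ⊓ A₂ ⊓ A₃ : Subgroup G) = A₁ ⊓ A₂ :=
    Subgroup.eq_of_le_of_card_ge hDle (by exact_mod_cast h3.ge)
  have h5 : A₁ ⊓ A₂ ≤ A₃ := by
    rw [← h4]
    exact inf_le_right
  refine ⟨h5, fun y hy => ?_⟩
  have h6 := (Finset.sum_eq_zero_iff_of_nonneg (fun y _ => hδnn y)).1 h2 ⟨y, hy.1⟩
    (Finset.mem_univ _)
  simp only [hδ] at h6
  rw [if_pos ⟨hy.2, h5 hy⟩] at h6
  linarith

end Count

section Inv

variable {C : Type u} [Group C] (K : Subgroup C) [K.Normal]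

/-- The linear characters of `K` invariant under `H`. -/
def Inv (H : Subgroup C) : Subgroup (K →* ℂˣ) where
  carrier := {l | ∀ g ∈ H, ∀ k : K, l (MulAut.conjNormal g k) = l k}
  one_mem' := fun _ _ _ => rfl
  mul_mem' := by
    intro a b ha hb g hg k
    rw [MonoidHom.mul_apply, MonoidHom.mul_apply, ha g hg k, hb g hg k]
  inv_mem' := by
    intro a ha g hg k
    rw [MonoidHom.inv_apply, MonoidHom.inv_apply, ha g hg k]

theorem mem_inv {H : Subgroup C} {l : K →* ℂˣ} :
    l ∈ Inv K H ↔ ∀ g ∈ H, ∀ k : K, l (MulAut.conjNormal g k) = l k := Iff.rfl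

/-- The stabiliser of a linear character. -/
def stab (l : K →* ℂˣ) : Subgroup C where
  carrier := {g | ∀ k : K, l (MulAut.conjNormal g k) = l k}
  one_mem' := fun k => by simp
  mul_mem' := by
    intro a b ha hb k
    rw [map_mul, MulAut.mul_apply, ha, hb]
  inv_mem' := by
    intro a ha k
    have h1 := ha ((MulAut.conjNormal a⁻¹ : MulAut K) k)
    rw [← MulAut.mul_apply, ← map_mul, mul_inv_cancel, map_one, MulAut.one_apply] at h1
    exact h1.symm

theorem mem_stab {l : K →* ℂˣ} {g : C} :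
    g ∈ stab K l ↔ ∀ k : K, l (MulAut.conjNormal g k) = l k := Iff.rfl

theorem mem_inv_iff {H : Subgroup C} {l : K →* ℂˣ} : l ∈ Inv K H ↔ H ≤ stab K l := Iff.rfl

/-- The conjugate of a linear character. -/
def cj (g : C) (l : K →* ℂˣ) : K →* ℂˣ := l.comp ((MulAut.conjNormal g : MulAut K) : K →* K)

theorem cj_apply (g : C) (l : K →* ℂˣ) (k : K) : cj K g l k = l (MulAut.conjNormal g k) := rfl

theorem cj_mem_inv {H H' : Subgroup C} {l : K →* ℂˣ} {w : C} (hl : l ∈ Inv K H)
    (hw : ∀ g ∈ H', w * g * w⁻¹ ∈ H) : cj K w l ∈ Inv K H' := by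
  intro g hg k
  rw [cj_apply, cj_apply, ← hl _ (hw g hg) (MulAut.conjNormal w k), ← MulAut.mul_apply,
    ← MulAut.mul_apply, ← map_mul, ← map_mul]
  congr 3
  group

theorem cj_mem_inv' {H H' : Subgroup C} {l : K →* ℂˣ} {w : C} (hl : cj K w l ∈ Inv K H)
    (hw : ∀ g ∈ H', w⁻¹ * g * w ∈ H) : l ∈ Inv K H' := by
  have h1 : l = cj K w⁻¹ (cj K w l) := by
    ext k
    rw [cj_apply, cj_apply, ← MulAut.mul_apply, ← map_mul, mul_inv_cancel, map_one,
      MulAut.one_apply]
  rw [h1]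
  refine cj_mem_inv K hl fun g hg => ?_
  rw [inv_inv]
  exact hw g hg

/-- A group is not the union of two proper subgroups. -/
theorem le_or_le_of_forall {A : Type*} [Group A] {M P Q : Subgroup A}
    (h : ∀ x ∈ M, x ∈ P ∨ x ∈ Q) : M ≤ P ∨ M ≤ Q := by
  by_contra hc
  rw [not_or, SetLike.not_le_iff_exists, SetLike.not_le_iff_exists] at hc
  obtain ⟨⟨x, hxM, hxP⟩, y, hyM, hyQ⟩ := hc
  have hxQ : x ∈ Q := (h x hxM).resolve_left hxP
  have hyP : y ∈ P := (h y hyM).resolve_right hyQ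
  rcases h (x * y) (M.mul_mem hxM hyM) with h1 | h1
  · exact hxP (by simpa using P.mul_mem h1 (P.inv_mem hyP))
  · exact hyQ (by simpa using Q.mul_mem (Q.inv_mem hxQ) h1)

/-- No Borel orbits. -/
theorem inv_top {T B₀ B₁ : Subgroup C} {w : C} (hwT : ∀ g ∈ T, w * g * w⁻¹ ∈ T)
    (h01 : ∀ g ∈ B₁, w⁻¹ * g * w ∈ B₀) (h10 : ∀ g ∈ B₀, w⁻¹ * g * w ∈ B₁)
    (hgen : B₀ ⊔ B₁ = ⊤) (h : ∀ l ∈ Inv K T, l ∈ Inv K B₀ ∨ l ∈ Inv K B₁) :
    Inv K T ≤ Inv K ⊤ := by
  have key : ∀ l ∈ Inv K T, l ∈ Inv K B₀ ∧ l ∈ Inv K B₁ := by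
    intro l hl
    have hl' : cj K w l ∈ Inv K T := cj_mem_inv K hl hwT
    rcases le_or_le_of_forall h with h1 | h1
    · exact ⟨h1 hl, cj_mem_inv' K (h1 hl') h01⟩
    · exact ⟨cj_mem_inv' K (h1 hl') h10, h1 hl⟩
  intro l hl
  obtain ⟨h1, h2⟩ := key l hl
  rw [mem_inv_iff] at h1 h2 ⊢
  rw [← hgen]
  exact sup_le h1 h2

end Inv

section Abelian

variable {C : Type u} [Group C] [Finite C] (K : Subgroup C) [K.Normal]

/-- An `u`-invariant linear character of an abelian group of odd order which is trivial on the fixed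
points of the involution `u` is trivial. -/
theorem eq_one_of_fix (hab : ∀ x ∈ K, ∀ y ∈ K, x * y = y * x) (hodd : Odd (Nat.card K)) {u : C}
    (hu : u * u = 1) {l : K →* ℂˣ} (hl : u ∈ stab K l)
    (h1 : ∀ k : K, u * k = k * u → l k = 1) : l = 1 := by
  have hu' : u⁻¹ = u := inv_eq_of_mul_eq_one_left hu
  ext k
  have h2 : l k * l k = 1 := by
    have h3 : l (k * (MulAut.conjNormal u k)) = 1 := by
      apply h1
      rw [Subgroup.coe_mul, MulAut.conjNormal_apply, hu']
      have h4 : u * ((k : C) * (u * k * u)) = (u * k * u) * (k * u) := by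
        have : u * ((k : C) * (u * k * u)) = u * k * (u * (k * u)) := by group
        rw [this]
        simp only [mul_assoc]
      rw [h4]
      have h5 : (u * (k : C) * u) * k = k * (u * k * u) := by
        apply hab
        · have := ‹K.Normal›.conj_mem k k.2 u
          rwa [hu'] at this
        · exact k.2
      rw [← mul_assoc, h5]
    rw [map_mul, hl k] at h3
    exact h3
  have h3 : l k ^ 2 = 1 := by rw [sq, h2]
  have h4 : l k ^ Nat.card K = 1 := by rw [← map_pow, pow_card_eq_one', map_one]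
  have h5 : l k = 1 := by
    have h6 : orderOf (l k) ∣ 2 := orderOf_dvd_of_pow_eq_one h3
    have h7 : orderOf (l k) ∣ Nat.card K := orderOf_dvd_of_pow_eq_one h4
    have h8 : orderOf (l k) ∣ 1 := by
      rw [← hodd.coprime_two_left]
      exact Nat.dvd_gcd h6 h7
    rw [← orderOf_eq_one_iff]
    exact Nat.dvd_one.1 h8
  rw [h5, MonoidHom.one_apply]

/-- An `u`-invariant linear character is invariant under the elements centralising the fixed points of `u`
and commuting with `u` modulo `K`. -/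
theorem mem_stab_of_fix (hab : ∀ x ∈ K, ∀ y ∈ K, x * y = y * x) (hodd : Odd (Nat.card K)) {u : C}
    (hu : u * u = 1) {l : K →* ℂˣ} (hl : u ∈ stab K l) {g : C}
    (hg : g * u * g⁻¹ * u⁻¹ ∈ K) (hgf : ∀ k ∈ K, u * k = k * u → g * k = k * g) :
    g ∈ stab K l := by
  have hKs : ∀ c ∈ K, ∀ k : K, l (MulAut.conjNormal c k) = l k := by
    intro c hc k
    congr 1
    apply Subtype.ext
    rw [MulAut.conjNormal_apply, hab c hc k k.2]
    group
  have h1 : cj K g l * l⁻¹ = 1 := by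
    refine eq_one_of_fix K hab hodd hu ?_ ?_
    · intro k
      rw [MonoidHom.mul_apply, MonoidHom.mul_apply, MonoidHom.inv_apply, MonoidHom.inv_apply, hl k,
        cj_apply, cj_apply]
      congr 1
      have h2 : (MulAut.conjNormal g : MulAut K) (MulAut.conjNormal u k) =
          MulAut.conjNormal (g * u * g⁻¹ * u⁻¹) (MulAut.conjNormal u (MulAut.conjNormal g k)) := by
        rw [← MulAut.mul_apply, ← MulAut.mul_apply, ← MulAut.mul_apply, ← map_mul, ← map_mul,
          ← map_mul]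
        congr 2
        group
      rw [h2, hKs _ hg, hl]
    · intro k hk
      rw [MonoidHom.mul_apply, MonoidHom.inv_apply, cj_apply]
      have h3 : (MulAut.conjNormal g k : K) = k := by
        apply Subtype.ext
        rw [MulAut.conjNormal_apply, hgf k k.2 hk]
        group
      rw [h3, mul_inv_cancel]
  intro k
  have h2 := congrArg (fun f : K →* ℂˣ => f k) h1
  simp only [MonoidHom.mul_apply, MonoidHom.inv_apply, MonoidHom.one_apply, cj_apply] at h2
  exact mul_inv_eq_one.1 h2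

end Abelian

section Occurs

variable {C : Type u} [Group C] [Finite C]

theorem conj_hom {A : Type*} [Group A] [Finite A] (l : A →* ℂˣ) (a : A) :
    conj (l a : ℂ) = ((l a)⁻¹ : ℂˣ) := by
  have h1 := Linear.norm_hom_apply l a
  rw [Units.val_inv_eq_inv_val, Complex.inv_def, Complex.normSq_eq_norm_sq, h1]
  simp

/-- If the linear character `l` of `K` does not occur in `χ`, the sums over the cosets of `K`
vanish. -/
theorem sum_mul_eq_zero (K : Subgroup C) [Fintype K] {χ : C → ℂ} (hχ : IsCharacter C χ)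
    (l : K →* ℂˣ) (h : classInner (fun k : K => χ k) (fun k => (l k : ℂ)) = 0) (g : C) :
    ∑ k : K, χ (g * k) * conj (l k : ℂ) = 0 := by
  obtain ⟨n, ρ, rfl⟩ := hχ
  have hcard : (Fintype.card K : ℂ) ≠ 0 := by exact_mod_cast Fintype.card_ne_zero
  let _ : Invertible (Fintype.card K : ℂ) := invertibleOfNonzero hcard
  let σ : Representation ℂ K (Fin n → ℂ) :=
    { toFun := fun k => conj (l k : ℂ) • ρ (k : C)
      map_one' := by simp
      map_mul' := by
        intro a b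
        rw [map_mul, Units.val_mul, map_mul, Subgroup.coe_mul, map_mul, smul_mul_smul_comm] }
  have hσ : ∀ k : K, σ k = conj (l k : ℂ) • ρ (k : C) := fun _ => rfl
  have h4 : σ.averageMap = (Fintype.card K : ℂ)⁻¹ • ∑ k : K, conj (l k : ℂ) • ρ (k : C) := by
    unfold Representation.averageMap GroupAlgebra.average
    rw [map_smul, map_sum, invOf_eq_inv]
    congr 1
    refine Finset.sum_congr rfl fun n _ => ?_
    rw [MonoidAlgebra.of_apply, Representation.asAlgebraHom_single_one]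
    exact hσ n
  have htr : LinearMap.trace ℂ (Fin n → ℂ) σ.averageMap = 0 := by
    rw [h4, map_smul, map_sum, ← h, Core.classInner_def, Nat.card_eq_fintype_card, smul_eq_mul]
    congr 1
    refine Finset.sum_congr rfl fun k _ => ?_
    rw [map_smul, smul_eq_mul, mul_comm]
    rfl
  have hz : σ.averageMap = 0 := by
    have h5 := (σ.isProj_averageMap).trace
    rw [htr] at h5
    have h6 : Module.finrank ℂ σ.invariants = 0 := by exact_mod_cast h5.symm
    have h7 : σ.invariants = ⊥ := Submodule.finrank_eq_zero.1 h6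
    refine LinearMap.ext fun x => ?_
    have h8 := σ.averageMap_invariant x
    rw [h7, Submodule.mem_bot] at h8
    rw [h8, LinearMap.zero_apply]
  have h5 : ∑ k : K, conj (l k : ℂ) • ρ (k : C) = 0 := by
    rw [h4] at hz
    exact (smul_eq_zero.1 hz).resolve_left (inv_ne_zero hcard)
  have h6 := congrArg (fun f => LinearMap.trace ℂ (Fin n → ℂ) (ρ g * f)) h5
  simp only [mul_zero, map_zero] at h6
  rw [← h6, Finset.mul_sum, map_sum]
  refine Finset.sum_congr rfl fun k _ => ?_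
  rw [mul_smul_comm, map_smul, smul_eq_mul, mul_comm, ← map_mul]
  rfl

variable (K : Subgroup C) [hN : K.Normal]

/-- The `u`-symmetric part of an element of an abelian group of odd order, as a homomorphism. -/
theorem exists_sym (hab : ∀ x ∈ K, ∀ y ∈ K, x * y = y * x) (hodd : Odd (Nat.card K)) {u : C}
    (hu : u * u = 1) :
    ∃ p : K →* K, (∀ k, u * p k = p k * u) ∧ (∀ k : K, u * k = k * u → p k = k) ∧
      (∀ k : K, ∃ d : K, u * k = d * (u * p k) * (d : C)⁻¹) ∧
      (∀ l : K →* ℂˣ, u ∈ stab K l → ∀ k, l (p k) = l k) := by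
  have hu' : u⁻¹ = u := inv_eq_of_mul_eq_one_left hu
  obtain ⟨m, hm⟩ := hodd
  let _ : CommGroup K :=
    { (inferInstance : Group K) with mul_comm := fun a b => Subtype.ext (hab a a.2 b b.2) }
  set σ : K →* K := ((MulAut.conjNormal u : MulAut K) : K →* K) with hσ
  have hσ' : ∀ k : K, ((σ k : K) : C) = u * k * u := by
    intro k
    change ((MulAut.conjNormal u k : K) : C) = _
    rw [MulAut.conjNormal_apply, hu']
  have hσσ : ∀ k : K, σ (σ k) = k := by
    intro k
    apply Subtype.ext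
    rw [hσ', hσ']
    have h1 : u * (u * (k : C) * u) * u = (u * u) * k * (u * u) := by group
    rw [h1, hu, one_mul, mul_one]
  have hpow : ∀ k : K, k ^ (m + 1) * k ^ (m + 1) = k := by
    intro k
    rw [← pow_add]
    have h1 : m + 1 + (m + 1) = Nat.card K + 1 := by omega
    rw [h1, pow_succ, pow_card_eq_one', one_mul]
  have hcomm : ∀ {x : K}, σ x = x ↔ u * (x : C) = x * u := by
    intro x
    rw [Subtype.ext_iff, hσ']
    constructor
    · intro h1
      calc u * (x : C) = (u * x * u) * u := by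
            have : u * (x : C) * u * u = u * x * (u * u) := by group
            rw [this, hu, mul_one]
        _ = x * u := by rw [h1]
    · intro h1
      rw [h1, mul_assoc, hu, mul_one]
  let p : K →* K :=
    { toFun := fun k => (k * σ k) ^ (m + 1)
      map_one' := by simp
      map_mul' := by
        intro a b
        rw [map_mul, ← mul_pow]
        congr 1
        rw [mul_mul_mul_comm] }
  have hp : ∀ k, p k = (k * σ k) ^ (m + 1) := fun _ => rfl
  have hpσ : ∀ k, σ (p k) = p k := by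
    intro k
    rw [hp, map_pow, map_mul, hσσ, mul_comm]
  refine ⟨p, fun k => hcomm.1 (hpσ k), fun k hk => ?_, fun k => ?_, fun l hl k => ?_⟩
  · rw [hp, hcomm.2 hk, mul_pow, hpow]
  · -- `d = ((σ k)⁻¹ k)^{(m+1)²}`: `σ d⁻¹ d = k (p k)⁻¹`
    set e : K := k * (p k)⁻¹ with he
    have he' : e * e = k * (σ k)⁻¹ := by
      have h1 : p k * p k = k * σ k := by
        rw [hp]
        exact hpow _
      rw [he, mul_mul_mul_comm, ← mul_inv, h1, mul_inv, mul_comm k⁻¹, ← mul_assoc, mul_assoc k k,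
        mul_comm k (_ * _)]
      simp [mul_assoc]
    have hσe : σ e = e⁻¹ := by
      have h1 : (σ e * e) * (σ e * e) = 1 := by
        rw [mul_mul_mul_comm, ← map_mul, he', map_mul, map_inv, hσσ]
        simp [mul_comm, mul_left_comm]
      have h2 : σ e * e = 1 := by
        have h3 : (σ e * e) ^ Nat.card K = 1 := pow_card_eq_one'
        rw [hm, pow_succ, pow_mul, sq, h1, one_pow, one_mul] at h3
        exact h3
      exact eq_inv_of_mul_eq_one_left h2
    refine ⟨e⁻¹ ^ (m + 1), ?_⟩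
    set d : K := e⁻¹ ^ (m + 1) with hd
    have hσd : σ d = d⁻¹ := by
      rw [hd, map_pow, map_inv, hσe, ← inv_pow]
    have hdd : d⁻¹ * d⁻¹ = e := by
      rw [hd, ← inv_pow, inv_inv, hpow]
    -- `d u p d⁻¹ = u (σ d) p d⁻¹ = u d⁻¹ d⁻¹ p = u e p = u k`
    have h1 : (d : C) * u = u * (σ d : K) := by
      rw [hσ']
      have h2 : u * (u * (d : C) * u) = (u * u) * d * u := by group
      rw [h2, hu, one_mul]
    have h2 : (d : C) * (u * p k) * (d : C)⁻¹ = u * ((σ d * p k * d⁻¹ : K) : C) := by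
      rw [← mul_assoc, h1]
      push_cast
      group
    rw [h2, hσd, mul_right_comm, hdd, he, inv_mul_cancel_right]
  · have h1 : l (p k) * l (p k) = l k * l k := by
      rw [← map_mul]
      have h2 : p k * p k = k * σ k := hpow _
      rw [h2, map_mul]
      congr 1
      exact hl k
    have h2 : (l (p k) * (l k)⁻¹) ^ 2 = 1 := by
      rw [sq, mul_mul_mul_comm, h1, ← mul_inv, mul_inv_cancel]
    have h3 : (l (p k) * (l k)⁻¹) ^ Nat.card K = 1 := by
      rw [← map_inv, ← map_mul, ← map_pow, pow_card_eq_one', map_one]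
    rw [hm, pow_succ, pow_mul, h2, one_pow, one_mul] at h3
    exact mul_inv_eq_one.1 h3

open scoped Classical in
/-- A `u`-invariant linear character of `K` with nonzero trace on `u C_K(u)` occurs. -/
theorem occurs_of_sum_ne_zero [Fintype K] (hab : ∀ x ∈ K, ∀ y ∈ K, x * y = y * x)
    (hodd : Odd (Nat.card K)) {u : C} (hu : u * u = 1) {χ : C → ℂ} (hχ : IsCharacter C χ)
    {l : K →* ℂˣ} (hl : u ∈ stab K l)
    (h : ∑ k : K, (if u * (k : C) = k * u then χ (u * k) * conj (l k : ℂ) else 0) ≠ 0) :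
    classInner (fun k : K => χ k) (fun k => (l k : ℂ)) ≠ 0 := by
  intro h0
  obtain ⟨p, hp1, hp2, hp3, hp4⟩ := exists_sym K hab hodd hu
  have hcl := Core.isCharacter_isClassFunction hχ
  have h1 := sum_mul_eq_zero K hχ l h0 u
  have h2 : ∑ k : K, χ (u * k) * conj (l k : ℂ) =
      ∑ k : K, χ (u * p k) * conj (l (p k) : ℂ) := by
    refine Finset.sum_congr rfl fun k _ => ?_
    obtain ⟨d, hd⟩ := hp3 k
    rw [hp4 l hl, hd, hcl]
  rw [h2] at h1
  -- fibres of `p`
  have h3 : ∑ k : K, χ (u * p k) * conj (l (p k) : ℂ) =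
      ∑ b : K, ∑ k : K, if p k = b then χ (u * b) * conj (l b : ℂ) else 0 := by
    rw [Finset.sum_comm]
    refine Finset.sum_congr rfl fun k _ => ?_
    rw [Finset.sum_ite_eq, if_pos (Finset.mem_univ _)]
  have hfib : ∀ b : K, (∑ k : K, if p k = b then χ (u * b) * conj (l b : ℂ) else 0) =
      Nat.card p.ker * (if u * (b : C) = b * u then χ (u * b) * conj (l b : ℂ) else 0) := by
    intro b
    by_cases hb : u * (b : C) = b * u
    · rw [if_pos hb, ← Finset.sum_filter, Finset.sum_const, nsmul_eq_mul]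
      congr 2
      rw [← Fintype.card_subtype, ← Nat.card_eq_fintype_card]
      refine Nat.card_congr
        { toFun := fun x => ⟨b⁻¹ * x.1, ?_⟩
          invFun := fun x => ⟨b * x.1, ?_⟩
          left_inv := ?_
          right_inv := ?_ }
      · rw [MonoidHom.mem_ker, map_mul, map_inv, x.2, hp2 b hb, inv_mul_cancel]
      · rw [map_mul, MonoidHom.mem_ker.1 x.2, mul_one, hp2 b hb]
      · intro x
        simp
      · intro x
        simp
    · rw [if_neg hb, mul_zero]
      refine Finset.sum_eq_zero fun k _ => if_neg ?_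
      rintro rfl
      exact hb (hp1 k)
  rw [h3, Finset.sum_congr rfl fun b _ => hfib b, ← Finset.mul_sum] at h1
  rcases mul_eq_zero.1 h1 with h4 | h4
  · exact (Core.card_ne_zero_complex (G := p.ker)) h4
  · exact h h4

/-- An irreducible character of an abelian group is linear. -/
theorem irr_hom_of_comm {A : Type u} [Group A] [Finite A] (hab : ∀ x y : A, x * y = y * x)
    {η : A → ℂ} (hη : IsIrrCharacter A η) : ∃ l : A →* ℂˣ, η = fun g => (l g : ℂ) := by
  refine FrobLift.irr_one_of_invariant (⊥ : Subgroup A) (fun x y => ?_) hη ?_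
  · rw [Subgroup.mem_bot, hab x y]
    group
  · intro k hk g
    rw [Subgroup.mem_bot.1 hk, one_mul]

/-- A character of an abelian group takes the value `χ(1)` at `x` if all linear characters occurring in
it are trivial at `x`. -/
theorem apply_eq_of_forall {A : Type u} [Group A] [Fintype A] (hab : ∀ x y : A, x * y = y * x)
    {χ : A → ℂ} (hχ : IsCharacter A χ) {x : A}
    (h : ∀ l : A →* ℂˣ, classInner χ (fun a => (l a : ℂ)) ≠ 0 → l x = 1) : χ x = χ 1 := by
  classical
  let _ : Finite (IrrCharacter A) := Core.finite_irr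
  let _ : Fintype (IrrCharacter A) := Fintype.ofFinite _
  have h1 := Core.classFunction_eq_sum (Core.isCharacter_isClassFunction hχ)
  have h2 : ∀ y, χ y = ∑ ψ : IrrCharacter A, classInner χ ψ.1 * ψ.1 y := by
    intro y
    have := congrFun h1 y
    simpa [Finset.sum_apply] using this
  rw [h2 x, h2 1]
  refine Finset.sum_congr rfl fun ψ _ => ?_
  by_cases h0 : classInner χ ψ.1 = 0
  · rw [h0, zero_mul, zero_mul]
  · obtain ⟨l, hl⟩ := irr_hom_of_comm hab ψ.2
    rw [hl] at h0 ⊢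
    simp only [h l h0, map_one]

/-- If an element of `K` is trivial under all conjugates of the linear character `l` of `K`, and `l` lies under the
irreducible character `ψ`, then the element is in the kernel of `ψ`. -/
theorem apply_eq_of_conj [Fintype K] {ψ : C → ℂ} (hψ : IsIrrCharacter C ψ) {l : K →* ℂˣ}
    (hl : classInner (fun k : K => ψ k) (fun k => (l k : ℂ)) ≠ 0) {x : K}
    (hx : ∀ g : C, l (MulAut.conjNormal g x) = 1) : ψ x = ψ 1 := by
  classical
  let _ : Fintype C := Fintype.ofFinite _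
  let _ : Finite (IrrCharacter K) := Core.finite_irr
  let _ : Fintype (IrrCharacter K) := Fintype.ofFinite _
  have hχ : IsCharacter K (fun k : K => ψ k) := Core.isCharacter_comp K.subtype (Core.isIrr_isCharacter hψ)
  have h1 := Core.classFunction_eq_sum (Core.isCharacter_isClassFunction hχ)
  have h2 : ∀ y : K, ψ y = ∑ θ : IrrCharacter K, classInner (fun k : K => ψ k) θ.1 * θ.1 y := by
    intro y
    have := congrFun h1 y
    simpa [Finset.sum_apply] using this
  have h20 := h2 1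
  rw [Subgroup.coe_one] at h20
  rw [h2 x, h20]
  refine Finset.sum_congr rfl fun θ _ => ?_
  by_cases h0 : classInner (fun k : K => ψ k) θ.1 = 0
  · rw [h0, zero_mul, zero_mul]
  · obtain ⟨g, hg⟩ := Clifford.exists_conj_of_constituents K hψ (Linear.isIrrCharacter_hom l) θ.2 hl h0
    rw [hg, Function.comp_apply, Function.comp_apply, hx g]
    simp

/-- **The end of the tight case**, first form. -/
theorem le_center_of_stab [Fintype K] (hab : ∀ x ∈ K, ∀ y ∈ K, x * y = y * x)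
    (hodd : Odd (Nat.card K)) {u w : C} (hu : u * u = 1) {χ : C → ℂ} (hχ : IsCharacter C χ)
    (hfaith : ∀ k ∈ K, χ k = χ 1 → k = 1) {T B₀ B₁ : Subgroup C}
    (hTu : ∀ g ∈ T, g * u * g⁻¹ * u⁻¹ ∈ K)
    (hTfix : ∀ g ∈ T, ∀ k ∈ K, u * k = k * u → g * k = k * g)
    (hwT : ∀ g ∈ T, w * g * w⁻¹ ∈ T)
    (h01 : ∀ g ∈ B₁, w⁻¹ * g * w ∈ B₀) (h10 : ∀ g ∈ B₀, w⁻¹ * g * w ∈ B₁) (hgen : B₀ ⊔ B₁ = ⊤)
    (hstab : ∀ l : K →* ℂˣ, T ≤ stab K l → l ≠ 1 → B₀ ≤ stab K l ∨ B₁ ≤ stab K l)
    (hconj : ∀ l : K →* ℂˣ, classInner (fun k : K => χ k) (fun k => (l k : ℂ)) ≠ 0 →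
      ∃ g, u ∈ stab K (cj K g l)) :
    K ≤ Subgroup.center C := by
  -- `u`-invariant characters are `T`-invariant
  have h1 : ∀ l : K →* ℂˣ, u ∈ stab K l → l ∈ Inv K T := by
    intro l hl g hg
    exact mem_stab_of_fix K hab hodd hu hl (hTu g hg) (hTfix g hg)
  have h2 : Inv K T ≤ Inv K ⊤ := by
    refine inv_top K hwT h01 h10 hgen fun l hl => ?_
    by_cases hl1 : l = 1
    · left
      rw [hl1]
      exact one_mem _
    · exact hstab l hl hl1
  have h3 : ∀ l : K →* ℂˣ, classInner (fun k : K => χ k) (fun k => (l k : ℂ)) ≠ 0 →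
      l ∈ Inv K ⊤ := by
    intro l hl
    obtain ⟨g, hg⟩ := hconj l hl
    exact cj_mem_inv' K (h2 (h1 _ hg)) fun _ _ => Subgroup.mem_top _
  intro k hk
  rw [Subgroup.mem_center_iff]
  intro c
  have h4 : c * k * c⁻¹ ∈ K := hN.conj_mem k hk c
  have h5 : χ ((⟨c * k * c⁻¹, h4⟩ * ⟨k, hk⟩⁻¹ : K) : C) = χ 1 := by
    refine apply_eq_of_forall (χ := fun k : K => χ k)
      (fun x y => Subtype.ext (hab x x.2 y y.2)) (Core.isCharacter_comp K.subtype hχ)
      (x := (⟨c * k * c⁻¹, h4⟩ * ⟨k, hk⟩⁻¹ : K)) fun l hl => ?_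
    rw [map_mul, map_inv]
    have h6 := h3 l hl c (Subgroup.mem_top _) ⟨k, hk⟩
    have h7 : (MulAut.conjNormal c ⟨k, hk⟩ : K) = ⟨c * k * c⁻¹, h4⟩ :=
      Subtype.ext (by rw [MulAut.conjNormal_apply])
    rw [h7] at h6
    rw [h6, mul_inv_cancel]
  have h6 := hfaith _ (⟨c * k * c⁻¹, h4⟩ * ⟨k, hk⟩⁻¹ : K).2 h5
  have h7 : c * k * c⁻¹ * k⁻¹ = 1 := h6
  have h8 : c * k * c⁻¹ = k := mul_inv_eq_one.1 h7
  exact mul_inv_eq_iff_eq_mul.1 h8

/-- **The end of the tight case.** -/
theorem le_center [Fintype K] (hab : ∀ x ∈ K, ∀ y ∈ K, x * y = y * x)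
    (hodd : Odd (Nat.card K)) {u w : C} (hu : u * u = 1) {χ : C → ℂ} (hχ : IsCharacter C χ)
    (hfaith : ∀ k ∈ K, χ k = χ 1 → k = 1) {T B₀ B₁ : Subgroup C} (huT : u ∈ T)
    (hTu : ∀ g ∈ T, g * u * g⁻¹ * u⁻¹ ∈ K)
    (hTfix : ∀ g ∈ T, ∀ k ∈ K, u * k = k * u → g * k = k * g)
    (hwT : ∀ g ∈ T, w * g * w⁻¹ ∈ T)
    (h01 : ∀ g ∈ B₁, w⁻¹ * g * w ∈ B₀) (h10 : ∀ g ∈ B₀, w⁻¹ * g * w ∈ B₁) (hgen : B₀ ⊔ B₁ = ⊤)
    (hocc : ∀ l : K →* ℂˣ, u ∈ stab K l → l ≠ 1 →
      classInner (fun k : K => χ k) (fun k => (l k : ℂ)) ≠ 0)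
    (hstab : ∀ l : K →* ℂˣ, classInner (fun k : K => χ k) (fun k => (l k : ℂ)) ≠ 0 →
      T ≤ stab K l → B₀ ≤ stab K l ∨ B₁ ≤ stab K l)
    (hconj : ∀ l : K →* ℂˣ, classInner (fun k : K => χ k) (fun k => (l k : ℂ)) ≠ 0 →
      ∃ g, u ∈ stab K (cj K g l)) :
    K ≤ Subgroup.center C :=
  le_center_of_stab K hab hodd hu hχ hfaith hTu hTfix hwT h01 h10 hgen
    (fun l hl hl1 => hstab l (hocc l (hl huT) hl1) hl) hconj

end Occurs

end Cfsg.Agent.Classification.QDW.BorelOrb
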