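import Mathlib
import Cfsg.Prelude.Def_Characters
import Cfsg.Agent.Characters.Core
import Cfsg.Agent.Characters.Clifford
import Cfsg.Agent.Characters.Linear
import Cfsg.Agent.Characters.SchurBound
import Cfsg.Agent.Classification.QDW.BorelOrb

/-!
# The end of the wreathed core-killing

Abstract setting inside `C = C(t)`: `K = O(C)`, `M = C_C(u)`, `W` (the odd part of `M`), `A_t = K ∩ M`, `Au`, `Av`
(`v = t u`), `χ` the restriction of the character of degree `q² + ε q`, whose odd part for `t` is a sum of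
irreducible characters `ψ ξ` over the linear characters `ξ ∈ X` of `M`, lying over linear characters `l ξ` of `K`.

* `neg`: if all `l ξ` are invariant in `C`, then `K` is central and `K ∩ Au = 1`;
* `pos`: if every `l ξ` is invariant under one of two subgroups `B₀`, `B₁`, the degrees are `q + 1` and the values on
  `W - K` are `ξ + ξ^w`, then `K` is central and `K ∩ Au = 1`.
-/

set_option autoImplicit false
set_option linter.unusedSectionVars false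

namespace Cfsg.Agent.Classification.QDW.WrEnd

open Cfsg Cfsg.Agent.Characters Cfsg.Agent.Classification.QDW.BorelOrb
open scoped ComplexConjugate

universe u

variable {C : Type u} [Group C] [Finite C]

/-- The abstract setting. -/
structure EndHyp (K M W Au Av : Subgroup C) [K.Normal] [Fintype K] (t u w : C) (χ : C → ℂ)
    (X : Finset (M →* ℂˣ)) (ψ : (M →* ℂˣ) → C → ℂ) (l : (M →* ℂˣ) → (K →* ℂˣ)) : Prop where
  odd : Odd (Nat.card K)
  uu : u * u = 1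
  mem_M : ∀ g, g ∈ M ↔ u * g = g * u
  W_le : W ≤ M
  KM_le : K ⊓ M ≤ W
  Au_le : Au ≤ W
  comm : ∀ x ∈ M, ∀ y ∈ M, x * y * x⁻¹ * y⁻¹ ∈ K
  commU : ∀ x ∈ M, ∀ y ∈ M, x * y * x⁻¹ * y⁻¹ ∈ Au
  conj_M : ∀ x ∈ M, w⁻¹ * x * w ∈ M
  mem_Av : ∀ y, y ∈ Av ↔ w⁻¹ * y * w ∈ Au
  isChar : IsCharacter C χ
  faith : ∀ k ∈ K, χ k = χ 1 → k = 1
  chi_t : ∀ k ∈ K, χ (t * k) = χ t
  irr : ∀ ξ ∈ X, IsIrrCharacter C (ψ ξ)
  sum : ∀ g, χ g - χ (t * g) = 2 * ∑ ξ ∈ X, ψ ξ g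
  occ : ∀ ξ ∈ X, classInner (fun k : K => ψ ξ k) (fun k => (l ξ k : ℂ)) ≠ 0
  l_eq : ∀ ξ ∈ X, ∀ (k : C) (hK : k ∈ K) (hM : k ∈ M), l ξ ⟨k, hK⟩ = ξ ⟨k, hM⟩
  l_u : ∀ ξ ∈ X, u ∈ stab K (l ξ)
  X_u : ∀ ξ ∈ X, ∀ y (hy : y ∈ Au), ξ ⟨y, W_le (Au_le hy)⟩ = 1

variable {K M W Au Av : Subgroup C} [hN : K.Normal] [Fintype K] {t u w : C} {χ : C → ℂ}
  {X : Finset (M →* ℂˣ)} {ψ : (M →* ℂˣ) → C → ℂ} {l : (M →* ℂˣ) → (K →* ℂˣ)}

/-- An element of `K` whose conjugates are in the kernels of all `l ξ` is trivial. -/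
theorem eq_one_of_conj (h : EndHyp K M W Au Av t u w χ X ψ l) {x : K}
    (hx : ∀ ξ ∈ X, ∀ g : C, l ξ (MulAut.conjNormal g x) = 1) : x = 1 := by
  have h1 : χ x = χ 1 := by
    have h2 := h.sum x
    have h3 := h.sum 1
    rw [h.chi_t x x.2] at h2
    rw [mul_one] at h3
    have h4 : ∑ ξ ∈ X, ψ ξ x = ∑ ξ ∈ X, ψ ξ 1 :=
      Finset.sum_congr rfl fun ξ hξ => apply_eq_of_conj K (h.irr ξ hξ) (h.occ ξ hξ) (hx ξ hξ)
    rw [h4, ← h3] at h2
    linear_combination h2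
  exact Subtype.ext (h.faith x x.2 h1)

/-- `K` is abelian. -/
theorem comm_K (h : EndHyp K M W Au Av t u w χ X ψ l) : ∀ x ∈ K, ∀ y ∈ K, x * y = y * x := by
  intro x hx y hy
  have h1 : (⟨x, hx⟩ * ⟨y, hy⟩ * ⟨x, hx⟩⁻¹ * ⟨y, hy⟩⁻¹ : K) = 1 := by
    refine eq_one_of_conj h fun ξ _ g => ?_
    simp only [map_mul, map_inv]
    rw [mul_right_comm (l ξ _) (l ξ _) (l ξ _)⁻¹, mul_inv_cancel, one_mul, mul_inv_cancel]
  have h2 : x * y * x⁻¹ * y⁻¹ = 1 := congrArg Subtype.val h1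
  rw [mul_inv_eq_one, mul_inv_eq_iff_eq_mul] at h2
  exact h2

/-- The constituents of the restriction of `χ` to `K`. -/
theorem exists_conj_of_occ (h : EndHyp K M W Au Av t u w χ X ψ l) {ν : K →* ℂˣ}
    (hν : classInner (fun k : K => χ k) (fun k => (ν k : ℂ)) ≠ 0) (hν1 : ν ≠ 1) :
    ∃ ξ ∈ X, ∃ g : C, ν = cj K g (l ξ) := by
  classical
  let _ : Fintype C := Fintype.ofFinite _
  have h1 : (fun k : K => χ k) = (fun _ : K => χ t) + (2 : ℂ) • ∑ ξ ∈ X, fun k : K => ψ ξ k := by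
    funext k
    have h2 := h.sum k
    rw [h.chi_t k k.2] at h2
    rw [Pi.add_apply, Pi.smul_apply, Finset.sum_apply, smul_eq_mul]
    linear_combination h2
  have h3 : classInner (fun _ : K => χ t) (fun k => (ν k : ℂ)) = 0 := by
    have h4 : (fun _ : K => χ t) = χ t • (fun k : K => ((1 : K →* ℂˣ) k : ℂ)) := by
      funext k
      simp
    rw [h4, Core.classInner_smul_left, Core.classInner_irr_ne (Linear.isIrrCharacter_hom _)
      (Linear.isIrrCharacter_hom _), mul_zero]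
    intro h5
    apply hν1
    ext k
    exact (congrFun h5 k).symm
  rw [h1, Core.classInner_add_left, h3, zero_add, Core.classInner_smul_left,
    Core.classInner_sum_left] at hν
  have h5 : ∃ ξ ∈ X, classInner (fun k : K => ψ ξ k) (fun k => (ν k : ℂ)) ≠ 0 := by
    by_contra hc
    push Not at hc
    rw [Finset.sum_eq_zero hc, mul_zero] at hν
    exact hν rfl
  obtain ⟨ξ, hξ, h6⟩ := h5
  obtain ⟨g, hg⟩ := Clifford.exists_conj_of_constituents K (h.irr ξ hξ)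
    (Linear.isIrrCharacter_hom (l ξ)) (Linear.isIrrCharacter_hom ν) (h.occ ξ hξ) h6
  refine ⟨ξ, hξ, g, ?_⟩
  ext k
  exact congrFun hg k

/-- `ε = -1`. -/
theorem neg (h : EndHyp K M W Au Av t u w χ X ψ l) (hst : ∀ ξ ∈ X, stab K (l ξ) = ⊤) :
    K ≤ Subgroup.center C ∧ K ⊓ Au = ⊥ := by
  have hcen : K ≤ Subgroup.center C := by
    intro k hk
    rw [Subgroup.mem_center_iff]
    intro c
    have h4 : c * k * c⁻¹ ∈ K := hN.conj_mem k hk c
    have h1 : (⟨c * k * c⁻¹, h4⟩ * ⟨k, hk⟩⁻¹ : K) = 1 := by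
      refine eq_one_of_conj h fun ξ hξ g => ?_
      have h2 : ∀ (g : C) (y : K), l ξ (MulAut.conjNormal g y) = l ξ y := by
        intro g y
        have h3 : g ∈ stab K (l ξ) := by rw [hst ξ hξ]; exact Subgroup.mem_top _
        exact h3 y
      rw [h2, map_mul, map_inv]
      have h7 : (MulAut.conjNormal c ⟨k, hk⟩ : K) = ⟨c * k * c⁻¹, h4⟩ :=
        Subtype.ext (by rw [MulAut.conjNormal_apply])
      rw [← h7, h2, mul_inv_cancel]
    have h7 : c * k * c⁻¹ * k⁻¹ = 1 := congrArg Subtype.val h1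
    have h8 : c * k * c⁻¹ = k := mul_inv_eq_one.1 h7
    exact mul_inv_eq_iff_eq_mul.1 h8
  refine ⟨hcen, (Subgroup.eq_bot_iff_forall _).2 fun y hy => ?_⟩
  have hyM : y ∈ M := h.W_le (h.Au_le hy.2)
  have h1 : (⟨y, hy.1⟩ : K) = 1 := by
    refine eq_one_of_conj h fun ξ hξ g => ?_
    have h2 : (MulAut.conjNormal g ⟨y, hy.1⟩ : K) = ⟨y, hy.1⟩ := by
      apply Subtype.ext
      rw [MulAut.conjNormal_apply]
      change g * y * g⁻¹ = y
      rw [mul_inv_eq_iff_eq_mul]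
      exact (Subgroup.mem_center_iff.1 (hcen hy.1) g)
    rw [h2, h.l_eq ξ hξ y hy.1 hyM]
    exact h.X_u ξ hξ y hy.2
  exact congrArg Subtype.val h1

/-- The additional hypotheses for `ε = 1`. -/
structure PosHyp (q : ℕ) (K M W Au Av : Subgroup C) [K.Normal] (hW : W ≤ M) (t w : C) (χ : C → ℂ)
    (X : Finset (M →* ℂˣ)) (ψ : (M →* ℂˣ) → C → ℂ) (l : (M →* ℂˣ) → (K →* ℂˣ))
    (B₀ B₁ : Subgroup C) : Prop where
  one_lt_q : 1 < q
  chi_one : χ 1 = (q : ℂ) ^ 2 + q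
  chi_t_eq : χ t = q + 1
  chi_tW : ∀ y ∈ W, y ∉ K → χ (t * y) = 2
  deg : ∀ ξ ∈ X, ψ ξ 1 = q + 1
  conj_W : ∀ y ∈ W, w⁻¹ * y * w ∈ W
  Av_le : Av ≤ W
  conj_M' : ∀ x ∈ M, w * x * w⁻¹ ∈ M
  val : ∀ ξ ∈ X, ∀ y (hy : y ∈ W), y ∉ K →
    ψ ξ y = (ξ ⟨y, hW hy⟩ : ℂ) + (ξ ⟨w⁻¹ * y * w, hW (conj_W y hy)⟩ : ℂ)
  Xsum : ∀ y (hy : y ∈ W), y ∈ Au → 2 * ∑ ξ ∈ X, (ξ ⟨y, hW hy⟩ : ℂ) = q - 1
  Xsum' : ∀ y (hy : y ∈ W), y ∉ Au → ∑ ξ ∈ X, (ξ ⟨y, hW hy⟩ : ℂ) = 0
  swap : ∀ y ∈ W, ∃ y' ∈ W, χ y' = χ y ∧ (y' ∈ K ↔ y ∈ Au) ∧ (y' ∈ Au ↔ y ∈ K) ∧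
    (y' ∈ Av ↔ y ∈ Av)
  swap' : ∀ y ∈ W, ∃ y' ∈ W, χ y' = χ y ∧ (y' ∈ K ↔ y ∈ Av) ∧ (y' ∈ Av ↔ y ∈ K) ∧
    (y' ∈ Au ↔ y ∈ Au)
  h01 : ∀ g ∈ B₁, w⁻¹ * g * w ∈ B₀
  h10 : ∀ g ∈ B₀, w⁻¹ * g * w ∈ B₁
  gen : B₀ ⊔ B₁ = ⊤
  stab : ∀ ξ ∈ X, B₀ ≤ stab K (l ξ) ∨ B₁ ≤ stab K (l ξ)

variable {q : ℕ} {B₀ B₁ : Subgroup C}

open scoped Classical in
/-- The values of `χ` on `K ∩ M`. -/
theorem chi_eq (h : EndHyp K M W Au Av t u w χ X ψ l)
    (h' : PosHyp q K M W Au Av h.W_le t w χ X ψ l B₀ B₁) {y : C} (hy : y ∈ K ⊓ M)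
    (hn : ¬ (y ∈ Au ∧ y ∈ Av)) :
    χ y = 2 + ((q : ℂ) - 1) * (1 + (if y ∈ Au then 1 else 0) + (if y ∈ Av then 1 else 0)) := by
  have step1 : ∀ z ∈ W, z ∉ K →
      χ z = 2 + ((q : ℂ) - 1) * ((if z ∈ Au then 1 else 0) + (if z ∈ Av then 1 else 0)) := by
    intro z hz hzK
    have h1 := h.sum z
    rw [h'.chi_tW z hz hzK, Finset.sum_congr rfl fun ξ hξ => h'.val ξ hξ z hz hzK,
      Finset.sum_add_distrib] at h1
    have h2 : 2 * ∑ ξ ∈ X, (ξ ⟨z, h.W_le hz⟩ : ℂ) = ((q : ℂ) - 1) * (if z ∈ Au then 1 else 0) := by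
      by_cases h3 : z ∈ Au
      · rw [if_pos h3, mul_one]
        exact h'.Xsum z hz h3
      · rw [if_neg h3, mul_zero, h'.Xsum' z hz h3, mul_zero]
    have h4 : 2 * ∑ ξ ∈ X, (ξ ⟨w⁻¹ * z * w, h.W_le (h'.conj_W z hz)⟩ : ℂ) =
        ((q : ℂ) - 1) * (if z ∈ Av then 1 else 0) := by
      by_cases h3 : z ∈ Av
      · rw [if_pos h3, mul_one]
        exact h'.Xsum _ (h'.conj_W z hz) ((h.mem_Av z).1 h3)
      · rw [if_neg h3, mul_zero, h'.Xsum' _ (h'.conj_W z hz) (fun h5 => h3 ((h.mem_Av z).2 h5)),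
          mul_zero]
    rw [mul_add, h2, h4] at h1
    linear_combination h1
  have hyW : y ∈ W := h.KM_le hy
  by_cases hu : y ∈ Au
  · have hv : y ∉ Av := fun hv => hn ⟨hu, hv⟩
    obtain ⟨y', hy'W, h1, h2, h3, h4⟩ := h'.swap' y hyW
    rw [← h1, step1 y' hy'W (fun h5 => hv (h2.1 h5)), if_pos (h4.2 hu), if_pos (h3.2 hy.1), if_pos hu,
      if_neg hv]
    ring
  · obtain ⟨y', hy'W, h1, h2, h3, h4⟩ := h'.swap y hyW
    rw [← h1, step1 y' hy'W (fun h5 => hu (h2.1 h5)), if_pos (h3.2 hy.1), if_neg hu]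
    by_cases hv : y ∈ Av
    · rw [if_pos hv, if_pos (h4.2 hv)]
      ring
    · rw [if_neg hv, if_neg (fun h5 => hv (h4.1 h5))]
      ring

/-- The sum of a linear character over a subgroup. -/
theorem sum_hom_eq_zero {A : Type*} [Group A] [Fintype A] (f : A →* ℂˣ) (hf : f ≠ 1) :
    ∑ a : A, (f a : ℂ) = 0 := by
  have h1 := sum_hom_units_eq_zero ((Units.coeHom ℂ).comp f) (by
    intro h2
    apply hf
    ext a
    have := DFunLike.congr_fun h2 a
    simpa using this)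
  simpa using h1

/-- The linear characters of `M` trivial on `K ∩ M` belong to irreducible characters trivial on `K`. -/
theorem psi_eq (h : EndHyp K M W Au Av t u w χ X ψ l) {ξ : M →* ℂˣ} (hξ : ξ ∈ X)
    (h1 : ∀ y (hy : y ∈ K ⊓ M), ξ ⟨y, hy.2⟩ = 1) {k : C} (hk : k ∈ K) : ψ ξ k = ψ ξ 1 := by
  have h2 : l ξ = 1 := by
    refine eq_one_of_fix K (comm_K h) h.odd h.uu (h.l_u ξ hξ) fun k hk => ?_
    have hkM : (k : C) ∈ M := (h.mem_M k).2 hk
    have h3 := h.l_eq ξ hξ k k.2 hkM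
    rw [h1 k ⟨k.2, hkM⟩] at h3
    exact h3
  refine apply_eq_of_conj K (h.irr ξ hξ) (h.occ ξ hξ) (x := ⟨k, hk⟩) fun g => ?_
  rw [h2, MonoidHom.one_apply]

open scoped Classical in
/-- The count. -/
theorem count (h : EndHyp K M W Au Av t u w χ X ψ l)
    (h' : PosHyp q K M W Au Av h.W_le t w χ X ψ l B₀ B₁) (A : Subgroup C) [Fintype A]
    (hA : A = K ⊓ M) :
    (q + 1 : ℝ) * (Nat.card A + (q - 1) * Nat.card (A ⊓ Au : Subgroup C)) ≤
      ∑ y : A, (χ y).re := by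
  have hAM : A ≤ M := hA ▸ inf_le_right
  have hAK : A ≤ K := hA ▸ inf_le_left
  have hAW : A ≤ W := hA ▸ h.KM_le
  -- the restriction to `A`
  set res : (M →* ℂˣ) → (A →* ℂˣ) := fun ξ => ξ.comp (Subgroup.inclusion hAM) with hres
  have hres_apply : ∀ (ξ : M →* ℂˣ) (y : A), res ξ y = ξ ⟨y, hAM y.2⟩ := fun _ _ => rfl
  set N : ℕ := (X.filter fun ξ => res ξ = 1).card with hNdef
  have hcard : (Fintype.card A : ℂ) = Nat.card A := by rw [Nat.card_eq_fintype_card]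
  -- the number `N`
  have hN2 : (2 : ℂ) * (Nat.card A * N) = (q - 1) * Nat.card (A ⊓ Au : Subgroup C) := by
    have e1 : ∑ y : A, ∑ ξ ∈ X, (res ξ y : ℂ) = Nat.card A * N := by
      rw [Finset.sum_comm, ← Finset.sum_filter_add_sum_filter_not X (fun ξ => res ξ = 1)]
      rw [Finset.sum_congr rfl (g := fun _ => (Nat.card A : ℂ)) (fun ξ hξ => by
        rw [(Finset.mem_filter.1 hξ).2]
        simp [hcard])]
      rw [Finset.sum_congr rfl (g := fun _ => (0 : ℂ)) (s₁ := X.filter fun ξ => ¬ res ξ = 1)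
        (fun ξ hξ => sum_hom_eq_zero (res ξ) (Finset.mem_filter.1 hξ).2)]
      rw [Finset.sum_const, Finset.sum_const_zero, add_zero, nsmul_eq_mul, mul_comm]
    have e2 : ∀ y : A, 2 * ∑ ξ ∈ X, (res ξ y : ℂ) = (q - 1) * (if (y : C) ∈ Au then 1 else 0) := by
      intro y
      by_cases hy : (y : C) ∈ Au
      · rw [if_pos hy, mul_one]
        exact h'.Xsum y (hAW y.2) hy
      · rw [if_neg hy, mul_zero]
        have := h'.Xsum' y (hAW y.2) hy
        change 2 * ∑ ξ ∈ X, (ξ ⟨y, hAM y.2⟩ : ℂ) = 0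
        rw [this, mul_zero]
    rw [← e1, Finset.mul_sum, Finset.sum_congr rfl fun y _ => e2 y, ← Finset.mul_sum]
    congr 1
    rw [← Finset.sum_filter, Finset.sum_const, nsmul_eq_mul, mul_one]
    congr 1
    rw [← Fintype.card_subtype, ← Nat.card_eq_fintype_card]
    exact Nat.card_congr
      { toFun := fun x => ⟨x.1.1, x.1.2, x.2⟩
        invFun := fun x => ⟨⟨x.1, x.2.1⟩, x.2.2⟩
        left_inv := fun _ => rfl
        right_inv := fun _ => rfl }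
  have hN3 : (2 : ℝ) * (Nat.card A * N) = (q - 1) * Nat.card (A ⊓ Au : Subgroup C) := by
    exact_mod_cast hN2
  -- the sum of one `ψ ξ`
  have hpos : ∀ ξ ∈ X, 0 ≤ ∑ y : A, (ψ ξ y).re := by
    intro ξ hξ
    have hc : IsCharacter A (fun y : A => ψ ξ y) :=
      Core.isCharacter_comp A.subtype (Core.isIrr_isCharacter (h.irr ξ hξ))
    obtain ⟨n, hn⟩ := Core.classInner_isNat hc Core.isCharacter_one
    rw [Core.classInner_def] at hn
    have h1 : ∑ y : A, ψ ξ y = Nat.card A * n := by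
      have h0 : (Nat.card A : ℂ) ≠ 0 := Core.card_ne_zero_complex
      rw [← hn, ← mul_assoc, mul_inv_cancel₀ h0, one_mul]
      refine Finset.sum_congr rfl fun y _ => ?_
      simp
    have h2 := congrArg Complex.re h1
    rw [Complex.re_sum] at h2
    rw [h2]
    have h3 : ((Nat.card A : ℂ) * n).re = (Nat.card A * n : ℕ) := by
      rw [← Nat.cast_mul]
      exact Complex.natCast_re _
    rw [h3]
    exact Nat.cast_nonneg _
  have htriv : ∀ ξ ∈ X, res ξ = 1 → ∑ y : A, (ψ ξ y).re = (q + 1) * Nat.card A := by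
    intro ξ hξ h1
    have h2 : ∀ y : A, (ψ ξ y).re = q + 1 := by
      intro y
      rw [psi_eq h hξ (fun z hz => ?_) (hAK y.2), h'.deg ξ hξ]
      · simp
      · have := DFunLike.congr_fun h1 (⟨z, hA ▸ hz⟩ : A)
        exact this
    rw [Finset.sum_congr rfl fun y _ => h2 y, Finset.sum_const, nsmul_eq_mul, Finset.card_univ,
      Nat.card_eq_fintype_card]
    ring
  have hsumψ : (N : ℝ) * ((q + 1) * Nat.card A) ≤ ∑ ξ ∈ X, ∑ y : A, (ψ ξ y).re := by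
    rw [← Finset.sum_filter_add_sum_filter_not X (fun ξ => res ξ = 1)]
    have e1 : ∑ ξ ∈ X.filter (fun ξ => res ξ = 1), ∑ y : A, (ψ ξ y).re =
        N * ((q + 1) * Nat.card A) := by
      rw [Finset.sum_congr rfl fun ξ hξ => htriv ξ (Finset.mem_filter.1 hξ).1
        (Finset.mem_filter.1 hξ).2, Finset.sum_const, nsmul_eq_mul]
    rw [e1]
    have e2 : 0 ≤ ∑ ξ ∈ X.filter (fun ξ => ¬ res ξ = 1), ∑ y : A, (ψ ξ y).re :=
      Finset.sum_nonneg fun ξ hξ => hpos ξ (Finset.mem_filter.1 hξ).1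
    linarith
  -- the sum of `χ`
  have hχ : ∀ y : A, (χ y).re = (q + 1) + 2 * ∑ ξ ∈ X, (ψ ξ y).re := by
    intro y
    have h1 := h.sum y
    rw [h.chi_t y (hAK y.2), h'.chi_t_eq] at h1
    have h2 : χ y = (q + 1) + 2 * ∑ ξ ∈ X, ψ ξ y := by linear_combination h1
    rw [h2]
    simp [Complex.re_sum]
  rw [Finset.sum_congr rfl fun y _ => hχ y, Finset.sum_add_distrib, ← Finset.mul_sum,
    Finset.sum_comm, Finset.sum_const, nsmul_eq_mul, Finset.card_univ]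
  have h0 : (Fintype.card A : ℝ) = Nat.card A := by rw [Nat.card_eq_fintype_card]
  rw [h0]
  nlinarith [hsumψ, hN3]

/-- `K ∩ Au = 1`. -/
theorem inf_eq_bot (h : EndHyp K M W Au Av t u w χ X ψ l)
    (h' : PosHyp q K M W Au Av h.W_le t w χ X ψ l B₀ B₁) : K ⊓ Au = ⊥ := by
  classical
  set A : Subgroup C := K ⊓ M with hA
  let _ : Fintype A := Fintype.ofFinite _
  have hq1 : (1 : ℝ) < q := by exact_mod_cast h'.one_lt_q
  -- `|A ∩ Av| = |A ∩ Au|`
  have hcardA : Nat.card (A ⊓ Av : Subgroup C) = Nat.card (A ⊓ Au : Subgroup C) := by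
    refine Nat.card_congr
      { toFun := fun x => ⟨w⁻¹ * x.1 * w, ⟨?_, ?_⟩, ?_⟩
        invFun := fun x => ⟨w * x.1 * w⁻¹, ⟨?_, ?_⟩, ?_⟩
        left_inv := ?_
        right_inv := ?_ }
    · have := hN.conj_mem x.1 x.2.1.1 w⁻¹
      rwa [inv_inv] at this
    · exact h.conj_M _ x.2.1.2
    · exact (h.mem_Av _).1 x.2.2
    · exact hN.conj_mem x.1 x.2.1.1 w
    · exact h'.conj_M' _ x.2.1.2
    · change w * x.1 * w⁻¹ ∈ Av
      rw [h.mem_Av]
      have h1 : w⁻¹ * (w * x.1 * w⁻¹) * w = x.1 := by group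
      rw [h1]
      exact x.2.2
    · intro x
      apply Subtype.ext
      change w * (w⁻¹ * x.1 * w) * w⁻¹ = x.1
      group
    · intro x
      apply Subtype.ext
      change w⁻¹ * (w * x.1 * w⁻¹) * w = x.1
      group
  have hc0 : (0 : ℝ) < Nat.card (A ⊓ Au : Subgroup C) := by exact_mod_cast Nat.card_pos
  have hcA0 : (0 : ℝ) < Nat.card A := by exact_mod_cast Nat.card_pos
  set j : ℝ := Nat.card A / Nat.card (A ⊓ Au : Subgroup C) with hj
  have hj0 : 0 < j := div_pos hcA0 hc0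
  have h12 : (Nat.card A : ℝ) = j * Nat.card (A ⊓ Au : Subgroup C) := by
    rw [hj]
    field_simp
  have h13 : (Nat.card A : ℝ) = j * Nat.card (A ⊓ Av : Subgroup C) := by
    rw [hcardA]
    exact h12
  have hone : (χ 1).re = (q : ℝ) ^ 2 + q := by
    rw [h'.chi_one]
    have : ((q : ℂ) ^ 2 + q) = ((q ^ 2 + q : ℕ) : ℂ) := by push_cast; rfl
    rw [this, Complex.natCast_re]
    push_cast
    rfl
  have hnorm : ∀ y, ‖χ y‖ ≤ (q : ℝ) ^ 2 + q := by
    intro y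
    have h1 := SchurBound.norm_le h.isChar (n := q ^ 2 + q) (by rw [h'.chi_one]; push_cast; rfl) y
    push_cast at h1
    exact h1
  have hcount := count h h' A hA
  have key := inf_le_of_count A Au Av (R := fun y => (χ y).re) (q := q) (j := j) hq1 hj0
    (fun y _ => (Complex.re_le_norm _).trans (hnorm y))
    (fun y hy hn => by
      have h1 := chi_eq h h' hy hn
      have h2 : χ y = ((2 + ((q : ℝ) - 1) * (1 + (if y ∈ Au then 1 else 0) +
          (if y ∈ Av then 1 else 0)) : ℝ) : ℂ) := by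
        rw [h1]
        push_cast
        split_ifs <;> simp
      change (χ y).re = _
      rw [h2, Complex.ofReal_re]) h12 h13 (by
      have e1 : (Nat.card A : ℝ) * ((q + 1) * (q - 1 + j)) =
          j * ((q + 1) * (Nat.card A + (q - 1) * Nat.card (A ⊓ Au : Subgroup C))) := by
        have : j * ((q + 1) * (Nat.card A + (q - 1) * Nat.card (A ⊓ Au : Subgroup C))) =
            (q + 1) * (j * Nat.card A + (q - 1) * (j * Nat.card (A ⊓ Au : Subgroup C))) := by ring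
        rw [this, ← h12]
        ring
      rw [e1]
      exact mul_le_mul_of_nonneg_left hcount hj0.le)
  refine (Subgroup.eq_bot_iff_forall _).2 fun y hy => ?_
  have hyA : y ∈ A ⊓ Au := ⟨⟨hy.1, h.W_le (h.Au_le hy.2)⟩, hy.2⟩
  have h1 : (χ y).re = (q : ℝ) ^ 2 + q := key.2 y hyA
  apply h.faith y hy.1
  have h2 : ‖χ y‖ = (χ y).re := le_antisymm (by rw [h1]; exact hnorm y) (Complex.re_le_norm _)
  apply Complex.ext
  · rw [h1, hone]
  · have h3 : (χ y).im = 0 := by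
      have h4 := Complex.sq_norm (χ y)
      rw [h2, Complex.normSq_apply] at h4
      nlinarith [h4]
    rw [h3, h'.chi_one]
    have : ((q : ℂ) ^ 2 + q) = ((q ^ 2 + q : ℕ) : ℂ) := by push_cast; rfl
    rw [this, Complex.natCast_im]

/-- `ε = 1`. -/
theorem pos (h : EndHyp K M W Au Av t u w χ X ψ l)
    (h' : PosHyp q K M W Au Av h.W_le t w χ X ψ l B₀ B₁) :
    K ≤ Subgroup.center C ∧ K ⊓ Au = ⊥ := by
  classical
  have hbot := inf_eq_bot h h'
  refine ⟨?_, hbot⟩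
  have hab := comm_K h
  have hMab : ∀ x ∈ M, ∀ y ∈ M, x * y = y * x := by
    intro x hx y hy
    have h1 : x * y * x⁻¹ * y⁻¹ ∈ K ⊓ Au := ⟨h.comm x hx y hy, h.commU x hx y hy⟩
    rw [hbot, Subgroup.mem_bot, mul_inv_eq_one, mul_inv_eq_iff_eq_mul] at h1
    exact h1
  have hT : ∀ g ∈ K ⊔ M, ∃ k ∈ K, ∃ m ∈ M, g = k * m := by
    intro g hg
    rw [← SetLike.mem_coe, Subgroup.normal_mul] at hg
    obtain ⟨k, hk, m, hm, rfl⟩ := hg
    exact ⟨k, hk, m, hm, rfl⟩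
  refine le_center_of_stab K hab h.odd h.uu h.isChar h.faith (T := K ⊔ M) (B₀ := B₀) (B₁ := B₁)
    (w := w) ?_ ?_ ?_ h'.h01 h'.h10 h'.gen ?_ ?_
  · intro g hg
    obtain ⟨k, hk, m, hm, rfl⟩ := hT g hg
    have h1 : k * m * u * (k * m)⁻¹ * u⁻¹ = k * (u * k⁻¹ * u⁻¹) := by
      have h2 : k * m * u = k * (u * m) := by rw [mul_assoc, ← (h.mem_M m).1 hm]
      rw [h2]
      group
    rw [h1]
    exact K.mul_mem hk (hN.conj_mem _ (K.inv_mem hk) u)
  · intro g hg k hk huk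
    obtain ⟨k', hk', m, hm, rfl⟩ := hT g hg
    have hkM : k ∈ M := (h.mem_M k).2 huk
    rw [mul_assoc, hMab m hm k hkM, ← mul_assoc, hab k' hk' k hk, mul_assoc]
  · intro g hg
    obtain ⟨k, hk, m, hm, rfl⟩ := hT g hg
    have h1 : w * (k * m) * w⁻¹ = (w * k * w⁻¹) * (w * m * w⁻¹) := by group
    rw [h1]
    exact Subgroup.mul_mem_sup (hN.conj_mem k hk w) (h'.conj_M' m hm)
  · intro ν hν hν1
    -- `ν = l ξ` for some `ξ ∈ X`
    have huν : u ∈ stab K ν := hν ((le_sup_right : M ≤ K ⊔ M) ((h.mem_M u).2 rfl))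
    let _ : Fintype (K ⊓ M : Subgroup C) := Fintype.ofFinite _
    have hex : ∃ ξ ∈ X, ∑ y : (K ⊓ M : Subgroup C),
        (ξ ⟨y, y.2.2⟩ : ℂ) * ((ν ⟨y, y.2.1⟩)⁻¹ : ℂˣ) ≠ 0 := by
      by_contra hc
      push Not at hc
      have h1 : ∑ y : (K ⊓ M : Subgroup C), ∑ ξ ∈ X,
          (ξ ⟨y, y.2.2⟩ : ℂ) * ((ν ⟨y, y.2.1⟩)⁻¹ : ℂˣ) = 0 := by
        rw [Finset.sum_comm]
        exact Finset.sum_eq_zero hc
      have h2 : ∀ y : (K ⊓ M : Subgroup C), 2 * ∑ ξ ∈ X,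
          (ξ ⟨y, y.2.2⟩ : ℂ) * ((ν ⟨y, y.2.1⟩)⁻¹ : ℂˣ) = if y = 1 then (q : ℂ) - 1 else 0 := by
        intro y
        rw [← Finset.sum_mul]
        by_cases hy : (y : C) ∈ Au
        · have hy1 : y = 1 := by
            apply Subtype.ext
            have : (y : C) ∈ K ⊓ Au := ⟨y.2.1, hy⟩
            rw [hbot, Subgroup.mem_bot] at this
            exact this
          rw [if_pos hy1, ← mul_assoc, h'.Xsum y (h.KM_le y.2) hy]
          subst hy1
          have h3 : ν ⟨((1 : (K ⊓ M : Subgroup C)) : C), (1 : (K ⊓ M : Subgroup C)).2.1⟩ = 1 :=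
            map_one ν
          rw [h3, inv_one, Units.val_one, mul_one]
        · rw [if_neg (fun h3 => hy (by rw [h3]; exact Au.one_mem)),
            h'.Xsum' y (h.KM_le y.2) hy, zero_mul, mul_zero]
      have h3 : 2 * ∑ y : (K ⊓ M : Subgroup C), ∑ ξ ∈ X,
          (ξ ⟨y, y.2.2⟩ : ℂ) * ((ν ⟨y, y.2.1⟩)⁻¹ : ℂˣ) = (q : ℂ) - 1 := by
        rw [Finset.mul_sum, Finset.sum_congr rfl fun y _ => h2 y, Finset.sum_ite_eq',
          if_pos (Finset.mem_univ _)]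
      rw [h1, mul_zero] at h3
      have h4 : (q : ℂ) = 1 := by linear_combination -h3
      have h5 : q = 1 := by exact_mod_cast h4
      exact absurd h'.one_lt_q (by omega)
    obtain ⟨ξ, hξ, h1⟩ := hex
    have h2 : ∀ y (hy : y ∈ K ⊓ M), ξ ⟨y, hy.2⟩ = ν ⟨y, hy.1⟩ := by
      by_contra hc
      push Not at hc
      obtain ⟨y, hy, hne⟩ := hc
      apply h1
      set f : (K ⊓ M : Subgroup C) →* ℂˣ :=
        (ξ.comp (Subgroup.inclusion inf_le_right)) * (ν.comp (Subgroup.inclusion inf_le_left))⁻¹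
        with hf
      refine (Finset.sum_congr rfl fun y _ => ?_).trans (sum_hom_eq_zero f ?_)
      · rw [hf, MonoidHom.mul_apply, MonoidHom.inv_apply, Units.val_mul]
        rfl
      · intro h3
        apply hne
        have h4 := DFunLike.congr_fun h3 ⟨y, hy⟩
        rw [hf, MonoidHom.mul_apply, MonoidHom.inv_apply, MonoidHom.one_apply] at h4
        exact mul_inv_eq_one.1 h4
    have h3 : ν = l ξ := by
      have h4 : ν * (l ξ)⁻¹ = 1 := by
        refine eq_one_of_fix K hab h.odd h.uu ?_ fun k hk => ?_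
        · intro k
          rw [MonoidHom.mul_apply, MonoidHom.mul_apply, MonoidHom.inv_apply, MonoidHom.inv_apply,
            huν k, h.l_u ξ hξ k]
        · have hkM : (k : C) ∈ M := (h.mem_M k).2 hk
          rw [MonoidHom.mul_apply, MonoidHom.inv_apply]
          have h5 := h.l_eq ξ hξ k k.2 hkM
          rw [h2 k ⟨k.2, hkM⟩] at h5
          have h6 : l ξ k = ν k := h5
          rw [h6, mul_inv_cancel]
      exact mul_inv_eq_one.1 h4
    rw [h3]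
    exact h'.stab ξ hξ
  · intro ν hν
    by_cases hν1 : ν = 1
    · refine ⟨1, ?_⟩
      rw [hν1]
      intro k
      rfl
    · obtain ⟨ξ, hξ, g, hg⟩ := exists_conj_of_occ h hν hν1
      refine ⟨g⁻¹, ?_⟩
      have h1 : cj K g⁻¹ ν = l ξ := by
        rw [hg]
        ext k
        rw [cj_apply, cj_apply, ← MulAut.mul_apply, ← map_mul, mul_inv_cancel, map_one,
          MulAut.one_apply]
      rw [h1]
      exact h.l_u ξ hξ

end Cfsg.Agent.Classification.QDW.WrEnd
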