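import Mathlib
import Cfsg.Prelude.Def_Characters
import Cfsg.Agent.Characters.Core
import Cfsg.Agent.Characters.Linear
import Cfsg.Agent.CharactersDeep.IndFun
import Cfsg.Agent.CharactersDeep.AbelianQuotient
import Cfsg.Agent.OddOrderCharacters.NormTwo
import Cfsg.Agent.Classification.QDW.WrDefs

/-!
# The wreathed case: the constituent of `ψ` on `K M` attached to `ξ`

`exists_zeta`: if `ψ` is attached to the linear character `ξ` of `M`, then `ψ` has on `K M` a
constituent `ζ` with irreducible restriction to `K` and `ζ s = ± ξ s` for `s ∈ M`, `lam s ≠ 1`.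
-/

set_option autoImplicit false
set_option linter.unusedSectionVars false

namespace Cfsg.Agent.Classification.QDW.WrLam

open Cfsg Cfsg.Agent.Characters Cfsg.Agent.CharactersDeep
open Cfsg.Agent.Classification.QDW.WrDefs
open scoped ComplexConjugate

universe u

section General

variable {D : Type u} [Group D]

theorem lam_eq_neg_one {l : D →* ℂˣ} (hl : ∀ g, l g * l g = 1) {g : D} (hg : l g ≠ 1) :
    (l g : ℂ) = -1 := by
  have h1 : (l g : ℂ) * (l g : ℂ) = 1 := by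
    rw [← Units.val_mul, hl g, Units.val_one]
  rcases mul_self_eq_one_iff.1 h1 with h | h
  · exact absurd (Units.ext (by rw [h, Units.val_one])) hg
  · exact h

theorem hom_conj {A : Subgroup D} (ξ : A →* ℂˣ) (a s : A) : ξ (a⁻¹ * s * a) = ξ s := by
  rw [map_mul, map_mul, map_inv, mul_comm, mul_inv_cancel_left]

theorem lam_conj (l : D →* ℂˣ) (a s : D) : l (a⁻¹ * s * a) = l s := by
  rw [map_mul, map_mul, map_inv, mul_comm, mul_inv_cancel_left]

theorem dif_of_one {A : Subgroup D} {l : D →* ℂˣ} (ξ : A →* ℂˣ) {s : A} (hs : l (s : D) = 1) :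
    dif A l ξ s = 0 := by
  rw [dif_apply, hs, Units.val_one, mul_one, sub_self]

theorem dif_of_ne {A : Subgroup D} {l : D →* ℂˣ} (hl : ∀ g, l g * l g = 1) (ξ : A →* ℂˣ) {s : A}
    (hs : l (s : D) ≠ 1) : dif A l ξ s = 2 * (ξ s : ℂ) := by
  rw [dif_apply, lam_eq_neg_one hl hs]
  ring

theorem dif_conj {A : Subgroup D} (l : D →* ℂˣ) (ξ : A →* ℂˣ) (a s : A) :
    dif A l ξ (a⁻¹ * s * a) = dif A l ξ s := by
  rw [dif_apply, dif_apply, hom_conj]
  congr 2
  show ((l ((a : D)⁻¹ * s * a) : ℂˣ) : ℂ) = _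
  rw [lam_conj]

/-- The value of an induced function at an element whose conjugates in `A` are all obtained by
conjugation in `A`. -/
theorem indFun_of_ti [Fintype D] (A : Subgroup D) (θ : A → ℂ) (s : A)
    (hθ : ∀ a : A, θ (a⁻¹ * s * a) = θ s) (hti : ∀ g : D, g⁻¹ * s * g ∈ A → g ∈ A) :
    indFun A θ s = θ s := by
  classical
  rw [IndFun.indFun_def]
  have h1 : ∀ x : D, extendByZero A θ (x⁻¹ * s * x) = if x ∈ A then θ s else 0 := by
    intro x
    by_cases hx : x ∈ A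
    · have hmem : x⁻¹ * s * x ∈ A := A.mul_mem (A.mul_mem (A.inv_mem hx) s.2) hx
      rw [if_pos hx, IndFun.extendByZero_mem A θ hmem, ← hθ ⟨x, hx⟩]
      rfl
    · rw [if_neg hx, IndFun.extendByZero_notMem A θ (fun h => hx (hti x h))]
  rw [Finset.sum_congr rfl fun x _ => h1 x, ← Finset.sum_filter, Finset.sum_const, nsmul_eq_mul]
  have h2 : ((Finset.univ.filter (fun x => x ∈ A)).card : ℂ) = Nat.card A := by
    congr 1
    rw [Nat.card_eq_fintype_card, Fintype.card_subtype]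
  rw [h2, ← mul_assoc, inv_mul_cancel₀ (Nat.cast_ne_zero.2 Nat.card_pos.ne'), one_mul]

/-- The abstract situation in `D = K M`. -/
structure Loc (N A : Subgroup D) (l : D →* ℂˣ) : Prop where
  normal : N.Normal
  sq : ∀ g, l g * l g = 1
  one : ∀ n ∈ N, l n = 1
  ne : ∃ s ∈ A, l s ≠ 1
  comm : ∀ x y : D, x * y * x⁻¹ * y⁻¹ ∈ N
  sup : N ⊔ A = ⊤
  ti : ∀ s ∈ A, l s ≠ 1 → ∀ g : D, g⁻¹ * s * g ∈ A → g ∈ A

variable {N A : Subgroup D} {l : D →* ℂˣ}

theorem Loc.indFun_apply [Fintype D] (h : Loc N A l) (ξ : A →* ℂˣ) {s : A} (hs : l (s : D) ≠ 1) :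
    indFun A (dif A l ξ) s = 2 * (ξ s : ℂ) := by
  rw [indFun_of_ti A _ s (fun a => dif_conj l ξ a s) (fun g hg => h.ti s s.2 hs g hg),
    dif_of_ne h.sq ξ hs]

theorem Loc.sum_eq_zero (h : Loc N A l) [Fintype A] : ∑ s : A, (l (s : D) : ℂ) = 0 := by
  obtain ⟨s, hs, hs1⟩ := h.ne
  have h1 : ∑ x : A, (l (x : D) : ℂ) = ∑ x : A, (l (s : D) : ℂ) * (l (x : D) : ℂ) := by
    refine (Fintype.sum_equiv (Equiv.mulLeft (⟨s, hs⟩ : A)) _ _ fun x => ?_).symm
    show _ = ((l (s * (x : D)) : ℂˣ) : ℂ)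
    rw [map_mul, Units.val_mul]
  rw [← Finset.mul_sum, lam_eq_neg_one h.sq hs1] at h1
  have h2 : (2 : ℂ) * ∑ x : A, (l (x : D) : ℂ) = 0 := by linear_combination h1
  exact (mul_eq_zero.1 h2).resolve_left two_ne_zero

theorem Loc.norm [Fintype D] (h : Loc N A l) (ξ : A →* ℂˣ) :
    classInner (indFun A (dif A l ξ)) (indFun A (dif A l ξ)) = 2 := by
  classical
  let _ : Fintype A := Fintype.ofFinite _
  rw [IndFun.classInner_indFun A _ _ (IndFun.isClassFunction_indFun A _), Core.classInner_def]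
  have h1 : ∀ s : A, dif A l ξ s * conj (indFun A (dif A l ξ) s) = 2 - 2 * (l (s : D) : ℂ) := by
    intro s
    by_cases hs : l (s : D) = 1
    · rw [dif_of_one ξ hs, zero_mul, hs, Units.val_one]
      ring
    · rw [dif_of_ne h.sq ξ hs, h.indFun_apply ξ hs, lam_eq_neg_one h.sq hs, map_mul]
      have h2 := AbelianQuotient.hom_mul_conj ξ s
      have h3 : conj (2 : ℂ) = 2 := Complex.conj_ofNat 2
      rw [h3]
      linear_combination 4 * h2
  rw [Finset.sum_congr rfl fun s _ => h1 s, Finset.sum_sub_distrib, ← Finset.mul_sum,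
    h.sum_eq_zero, mul_zero, sub_zero, Finset.sum_const, Finset.card_univ, nsmul_eq_mul,
    Nat.card_eq_fintype_card]
  have : (Fintype.card A : ℂ) ≠ 0 := Nat.cast_ne_zero.2 Fintype.card_ne_zero
  field_simp

theorem isGen_indFun [Fintype D] (A : Subgroup D) (l : D →* ℂˣ) (ξ : A →* ℂˣ) :
    IsGeneralizedCharacter D (indFun A (dif A l ξ)) := by
  refine ⟨indFun A (fun s => (ξ s : ℂ)), indFun A (fun s => ((ξ * l.comp A.subtype) s : ℂ)),
    IndFun.isCharacter_indFun A (Linear.isCharacter_hom ξ),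
    IndFun.isCharacter_indFun A (Linear.isCharacter_hom _), ?_⟩
  rw [← IndFun.indFun_sub]
  rfl

theorem indFun_dif_one [Fintype D] (A : Subgroup D) (l : D →* ℂˣ) (ξ : A →* ℂˣ) :
    indFun A (dif A l ξ) 1 = 0 := by
  rw [IndFun.indFun_def]
  have : ∀ x : D, extendByZero A (dif A l ξ) (x⁻¹ * 1 * x) = 0 := by
    intro x
    have h1 : x⁻¹ * 1 * x = 1 := by group
    rw [h1, IndFun.extendByZero_mem _ _ A.one_mem]
    exact dif_of_one ξ (map_one l)
  rw [Finset.sum_congr rfl fun x _ => this x, Finset.sum_const_zero, mul_zero]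

theorem isClassFunction_lam (l : D →* ℂˣ) : IsClassFunction D (fun g => (l g : ℂ)) := by
  intro g x
  show ((l (x * g * x⁻¹) : ℂˣ) : ℂ) = _
  rw [map_mul, map_mul, map_inv, mul_comm, inv_mul_cancel_left]

theorem indFun_mul_lam [Fintype D] (A : Subgroup D) {l : D →* ℂˣ} (hl : ∀ g, l g * l g = 1)
    (ξ : A →* ℂˣ) (g : D) :
    indFun A (dif A l ξ) g * (l g : ℂ) = -indFun A (dif A l ξ) g := by
  have h1 := IndFun.indFun_mul A (dif A l ξ) (fun g => (l g : ℂ)) (isClassFunction_lam l)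
  have h2 : (fun s : A => dif A l ξ s * ((l (s : D) : ℂˣ) : ℂ)) = -dif A l ξ := by
    funext s
    rw [Pi.neg_apply]
    by_cases hs : l (s : D) = 1
    · rw [dif_of_one ξ hs, zero_mul, neg_zero]
    · rw [lam_eq_neg_one hl hs, mul_neg_one]
  rw [h2, IndFun.indFun_neg] at h1
  exact congrFun h1 g

/-- `Ind (ξ - ξ l) = μ - μ l` with `μ` irreducible. -/
theorem Loc.exists_mu [Fintype D] (h : Loc N A l) (ξ : A →* ℂˣ) :
    ∃ μ : D → ℂ, IsIrrCharacter D μ ∧ indFun A (dif A l ξ) = fun g => μ g - μ g * (l g : ℂ) := by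
  obtain ⟨μ, ν, hμ, hν, hne, hF⟩ := OddOrderCharacters.NormTwo.exists_sub_of_norm_two
    (isGen_indFun A l ξ) (h.norm ξ) (indFun_dif_one A l ξ)
  refine ⟨μ, hμ, ?_⟩
  have hlμ : IsIrrCharacter D ((fun g => (l g : ℂ)) * μ) := AbelianQuotient.isIrr_linear_mul l hμ
  have hlν : IsIrrCharacter D ((fun g => (l g : ℂ)) * ν) := AbelianQuotient.isIrr_linear_mul l hν
  have h1 : (fun g => (l g : ℂ)) * μ - (fun g => (l g : ℂ)) * ν = ν - μ := by
    funext g
    have h2 := indFun_mul_lam A h.sq ξ g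
    rw [hF] at h2
    simp only [Pi.sub_apply, Pi.mul_apply] at h2 ⊢
    linear_combination h2
  have h2 : (fun g => (l g : ℂ)) * μ = ν := by
    by_contra hcon
    have h3 := congrArg (fun f => classInner f ν) h1
    simp only [Core.classInner_sub_left] at h3
    rw [Core.classInner_irr_ne hlμ hν hcon, Core.classInner_irr_self hν,
      Core.classInner_irr_ne hμ hν hne, zero_sub, sub_zero] at h3
    obtain ⟨n, hn⟩ := Core.classInner_isNat (Core.isIrr_isCharacter hlν)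
      (Core.isIrr_isCharacter hν)
    rw [hn] at h3
    have h4 : ((n + 1 : ℕ) : ℂ) = 0 := by
      push_cast
      linear_combination -h3
    exact Nat.succ_ne_zero n (Nat.cast_eq_zero.1 h4)
  rw [hF]
  funext g
  rw [Pi.sub_apply, ← h2, Pi.mul_apply]
  ring

theorem Loc.hom_eq_one (h : Loc N A l) {κ : D →* ℂˣ} (hN : ∀ n ∈ N, κ n = 1)
    (hA : ∀ s ∈ A, l s ≠ 1 → κ s = 1) : κ = 1 := by
  have hNk : N ≤ κ.ker := fun n hn => hN n hn
  have hAk : A ≤ κ.ker := by
    intro s hs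
    by_cases h1 : l s = 1
    · obtain ⟨s0, hs0, h0⟩ := h.ne
      have h2 : κ (s * s0) = 1 := hA _ (A.mul_mem hs hs0) (by
        rw [map_mul, h1, one_mul]
        exact h0)
      rw [map_mul, hA s0 hs0 h0, mul_one] at h2
      exact h2
    · exact hA s hs h1
  have h3 : (⊤ : Subgroup D) ≤ κ.ker := h.sup ▸ sup_le hNk hAk
  ext g
  have := h3 (Subgroup.mem_top g)
  rw [MonoidHom.mem_ker] at this
  rw [this]
  rfl

/-- The restriction to `N` of an irreducible `μ` with `Ind (ξ - ξ l) = μ - μ l` is irreducible. -/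
theorem Loc.isIrr_restrict [Fintype D] [Finite N] (h : Loc N A l) (ξ : A →* ℂˣ) {μ : D → ℂ}
    (hμ : IsIrrCharacter D μ) (hF : indFun A (dif A l ξ) = fun g => μ g - μ g * (l g : ℂ)) :
    IsIrrCharacter N (fun n : N => μ n) := by
  classical
  have := h.normal
  let _ : Fintype N := Fintype.ofFinite _
  obtain ⟨Λ, hΛ, -, h1, h2⟩ := AbelianQuotient.exists_linear_dual N h.comm
  have h3 := AbelianQuotient.classInner_restrict_self N hμ Λ h1 h2
  have h4 : Λ.filter (fun κ => (fun g => (κ g : ℂ)) * μ = μ) = {1} := by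
    ext κ
    rw [Finset.mem_filter, Finset.mem_singleton]
    constructor
    · rintro ⟨hκ, hκμ⟩
      refine h.hom_eq_one ((hΛ κ).1 hκ) fun s hs hs1 => ?_
      have h5 : (κ s : ℂ) * indFun A (dif A l ξ) s = indFun A (dif A l ξ) s := by
        rw [hF]
        have h6 := congrFun hκμ s
        rw [Pi.mul_apply] at h6
        linear_combination (1 - (l s : ℂ)) * h6
      have h7 := h.indFun_apply ξ (s := ⟨s, hs⟩) hs1
      change indFun A (dif A l ξ) s = _ at h7
      rw [h7] at h5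
      have h8 : (2 : ℂ) * (ξ ⟨s, hs⟩ : ℂ) ≠ 0 := mul_ne_zero two_ne_zero (Units.ne_zero _)
      have h9 : (κ s : ℂ) = 1 := mul_right_cancel₀ h8 (by rw [h5, one_mul])
      exact Units.ext (by rw [h9, Units.val_one])
    · rintro rfl
      refine ⟨(hΛ 1).2 fun n _ => rfl, ?_⟩
      funext g
      simp
  rw [h4, Finset.card_singleton, Nat.cast_one] at h3
  exact (Core.isIrr_iff_classInner_self (Core.isCharacter_comp N.subtype
    (Core.isIrr_isCharacter hμ))).2 h3

end General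

section Main

variable {C : Type u} [Group C] {K M : Subgroup C} {lam : C →* ℂˣ} {w : C}

theorem loc (h : WrHyp K M lam w) :
    Loc (K.subgroupOf (K ⊔ M)) (M.subgroupOf (K ⊔ M)) (lam.comp (K ⊔ M).subtype) where
  normal := by
    have := h.normal
    infer_instance
  sq g := h.lam_sq g
  one n hn := h.lam_K n (Subgroup.mem_subgroupOf.1 hn)
  ne := by
    obtain ⟨s, hs, hs1⟩ := h.lam_ne
    exact ⟨⟨s, (le_sup_right : M ≤ K ⊔ M) hs⟩, Subgroup.mem_subgroupOf.2 hs, hs1⟩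
  comm x y := by
    have := h.normal
    rw [Subgroup.mem_subgroupOf]
    show (x : C) * y * (x : C)⁻¹ * (y : C)⁻¹ ∈ K
    obtain ⟨k, hk, m, hm, hx⟩ := Subgroup.mem_sup_of_normal_left.1 x.2
    obtain ⟨k', hk', m', hm', hy⟩ := Subgroup.mem_sup_of_normal_left.1 y.2
    rw [← hx, ← hy]
    rw [← QuotientGroup.eq_one_iff]
    have h1 : ((m * m' * m⁻¹ * m'⁻¹ : C) : C ⧸ K) = 1 :=
      (QuotientGroup.eq_one_iff _).2 (h.comm m hm m' hm')
    have h2 : ((k : C) : C ⧸ K) = 1 := (QuotientGroup.eq_one_iff _).2 hk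
    have h3 : ((k' : C) : C ⧸ K) = 1 := (QuotientGroup.eq_one_iff _).2 hk'
    rw [QuotientGroup.mk_mul, QuotientGroup.mk_mul, QuotientGroup.mk_mul, QuotientGroup.mk_inv,
      QuotientGroup.mk_inv, QuotientGroup.mk_mul, QuotientGroup.mk_mul, h2, h3, one_mul, one_mul,
      ← QuotientGroup.mk_inv, ← QuotientGroup.mk_inv, ← QuotientGroup.mk_mul,
      ← QuotientGroup.mk_mul, ← QuotientGroup.mk_mul]
    exact h1
  sup := by
    rw [← Subgroup.subgroupOf_sup (le_sup_left) (le_sup_right), Subgroup.subgroupOf_self]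
  ti s hs hs1 g hg := by
    rw [Subgroup.mem_subgroupOf] at hs hg ⊢
    rcases h.ti s hs hs1 g hg with h1 | h1
    · exact h1
    · exfalso
      apply h.w_notMem
      have h2 : (g : C) * ((w⁻¹ * (g : C))⁻¹) ∈ K ⊔ M :=
        (K ⊔ M).mul_mem g.2 ((K ⊔ M).inv_mem ((le_sup_right : M ≤ K ⊔ M) h1))
      have h3 : (g : C) * ((w⁻¹ * (g : C))⁻¹) = w := by group
      rwa [h3] at h2

/-- A linear character of `M` as a linear character of the subgroup `M` of `K M`. -/
def up (K : Subgroup C) (ξ : M →* ℂˣ) : ↥(M.subgroupOf (K ⊔ M)) →* ℂˣ :=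
  ξ.comp (Subgroup.subgroupOfEquivOfLe (le_sup_right : M ≤ K ⊔ M)).toMonoidHom

theorem up_apply (ξ : M →* ℂˣ) (s : M) :
    up K ξ ⟨⟨s, (le_sup_right : M ≤ K ⊔ M) s.2⟩, Subgroup.mem_subgroupOf.2 s.2⟩ = ξ s := rfl

/-- The value of `Ind (ξ - ξ lam)` on `M - ker lam`. -/
theorem indFun_apply [Fintype C] (h : WrHyp K M lam w) (ξ : M →* ℂˣ) {s : M}
    (hs : lam (s : C) ≠ 1) :
    indFun M (dif M lam ξ) s = 2 * ((ξ s : ℂ) + (conjHom h.conj_mem ξ s : ℂ)) := by
  classical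
  have hwM : w ∉ M := fun hw => h.w_notMem ((le_sup_right : M ≤ K ⊔ M) hw)
  have hsw : lam (w⁻¹ * s * w) ≠ 1 := by rwa [lam_conj]
  have h0 : ∀ (c : ℂ), ∑ x : C, (if x ∈ M then c else 0) = Nat.card M * c := by
    intro c
    rw [← Finset.sum_filter, Finset.sum_const, nsmul_eq_mul]
    congr 2
    rw [Nat.card_eq_fintype_card, Fintype.card_subtype]
  have h1 : ∀ x : C, extendByZero M (dif M lam ξ) (x⁻¹ * s * x) =
      (if x ∈ M then 2 * (ξ s : ℂ) else 0) +
        (if w⁻¹ * x ∈ M then 2 * (conjHom h.conj_mem ξ s : ℂ) else 0) := by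
    intro x
    by_cases hx : x ∈ M
    · have hx' : w⁻¹ * x ∉ M := fun hx' => hwM (by
        have := M.mul_mem hx (M.inv_mem hx')
        rwa [mul_inv_rev, inv_inv, mul_inv_cancel_left] at this)
      have hmem : x⁻¹ * s * x ∈ M := M.mul_mem (M.mul_mem (M.inv_mem hx) s.2) hx
      rw [if_pos hx, if_neg hx', add_zero, IndFun.extendByZero_mem M _ hmem,
        ← dif_of_ne h.lam_sq ξ hs, ← dif_conj lam ξ ⟨x, hx⟩ s]
      rfl
    · rw [if_neg hx, zero_add]
      by_cases hx' : w⁻¹ * x ∈ M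
      · have e : x⁻¹ * s * x = (w⁻¹ * x)⁻¹ * (w⁻¹ * s * w) * (w⁻¹ * x) := by group
        have hmem : x⁻¹ * s * x ∈ M := by
          rw [e]
          exact M.mul_mem (M.mul_mem (M.inv_mem hx') (h.conj_mem s s.2)) hx'
        rw [if_pos hx', IndFun.extendByZero_mem M _ hmem, conjHom_apply,
          ← dif_of_ne h.lam_sq ξ (s := ⟨w⁻¹ * s * w, h.conj_mem s s.2⟩) hsw,
          ← dif_conj lam ξ ⟨w⁻¹ * x, hx'⟩ ⟨w⁻¹ * s * w, h.conj_mem s s.2⟩]
        congr 1
        exact Subtype.ext e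
      · rw [if_neg hx', IndFun.extendByZero_notMem M _ (fun hm => by
          rcases h.ti s s.2 hs x hm with h2 | h2
          · exact hx h2
          · exact hx' h2)]
  have h2 : ∑ x : C, (if w⁻¹ * x ∈ M then 2 * (conjHom h.conj_mem ξ s : ℂ) else 0) =
      Nat.card M * (2 * (conjHom h.conj_mem ξ s : ℂ)) := by
    rw [← h0]
    exact Fintype.sum_equiv (Equiv.mulLeft w⁻¹) _ _ (fun x => rfl)
  rw [IndFun.indFun_def, Finset.sum_congr rfl fun x _ => h1 x, Finset.sum_add_distrib, h0, h2]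
  have : (Nat.card M : ℂ) ≠ 0 := Nat.cast_ne_zero.2 Nat.card_pos.ne'
  field_simp

/-- A character attached to a free `ξ` is not invariant under multiplication by `lam`. -/
theorem ne_mul_lam [Fintype C] (h : WrHyp K M lam w) {ξ : M →* ℂˣ} (hfree : Free h ξ)
    {ψ : C → ℂ} (ha : Att M lam ξ ψ) : (fun g => (lam g : ℂ)) * ψ ≠ ψ := by
  intro hcon
  obtain ⟨-, σ, -, hF⟩ := ha
  have h1 : ∀ s : M, lam (s : C) ≠ 1 → (conjHom h.conj_mem ξ s : ℂ) = -(ξ s : ℂ) := by
    intro s hs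
    have h2 := indFun_apply h ξ hs
    rw [hF] at h2
    have h3 := congrFun hcon s
    rw [Pi.mul_apply] at h3
    have h4 : (2 : ℂ) * ((ξ s : ℂ) + (conjHom h.conj_mem ξ s : ℂ)) = 0 := by
      rw [← h2]
      linear_combination -σ * h3
    have h5 := (mul_eq_zero.1 h4).resolve_left two_ne_zero
    linear_combination h5
  obtain ⟨s0, hs0, h0⟩ := h.lam_ne
  apply hfree.2
  ext s
  rw [MonoidHom.mul_apply, Units.val_mul, lamM_apply]
  by_cases hs : lam (s : C) = 1
  · rw [hs, Units.val_one, mul_one]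
    have h2 := h1 (s * ⟨s0, hs0⟩) (by
      show lam ((s : C) * s0) ≠ 1
      rw [map_mul, hs, one_mul]
      exact h0)
    rw [map_mul, map_mul, Units.val_mul, Units.val_mul, h1 ⟨s0, hs0⟩ h0] at h2
    have h3 : (ξ ⟨s0, hs0⟩ : ℂ) ≠ 0 := Units.ne_zero _
    refine mul_right_cancel₀ h3 ?_
    linear_combination -h2
  · rw [h1 s hs, lam_eq_neg_one h.lam_sq hs, mul_neg_one]

theorem exists_zeta [Fintype C] [Fintype ↥(K ⊔ M)] (h : WrHyp K M lam w) {ξ : M →* ℂˣ}
    (hfree : Free h ξ) {ψ : C → ℂ} (ha : Att M lam ξ ψ) :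
    ∃ (ζ : ↥(K ⊔ M) → ℂ) (σ : ℂ), (σ = 1 ∨ σ = -1) ∧ IsIrrCharacter ↥(K ⊔ M) ζ ∧
      classInner (fun g : ↥(K ⊔ M) => ψ g) ζ ≠ 0 ∧
      IsIrrCharacter K (fun k : K => ζ ⟨k, (le_sup_left : K ≤ K ⊔ M) k.2⟩) ∧
      ∀ s : M, lam (s : C) ≠ 1 → ζ ⟨s, (le_sup_right : M ≤ K ⊔ M) s.2⟩ = σ * (ξ s : ℂ) := by
  classical
  have hne := ne_mul_lam h hfree ha
  obtain ⟨hψ, σ, hσ, hF⟩ := ha
  let _ : Fintype M := Fintype.ofFinite _
  set A := M.subgroupOf (K ⊔ M) with hA
  let _ : Fintype A := Fintype.ofFinite _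
  set l : ↥(K ⊔ M) →* ℂˣ := lam.comp (K ⊔ M).subtype with hl
  have hloc : Loc (K.subgroupOf (K ⊔ M)) A l := loc h
  obtain ⟨μ, hμ, hFD⟩ := hloc.exists_mu (up K ξ)
  have hKir := hloc.isIrr_restrict (up K ξ) hμ hFD
  have hψc : IsClassFunction C ψ := Core.isIrr_isClassFunction hψ
  have hψD : IsClassFunction ↥(K ⊔ M) (fun g : ↥(K ⊔ M) => ψ g) := fun g x => hψc g x
  -- the two inner products agree
  have h1 : classInner (indFun A (dif A l (up K ξ))) (fun g : ↥(K ⊔ M) => ψ g) = σ := by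
    have e1 := IndFun.classInner_indFun A (dif A l (up K ξ)) _ hψD
    have e2 := IndFun.classInner_indFun M (dif M lam ξ) _ hψc
    have e3 : classInner (dif A l (up K ξ)) (fun a : A => ψ ((a : ↥(K ⊔ M)) : C)) =
        classInner (dif M lam ξ) (fun m : M => ψ m) := by
      rw [Core.classInner_def, Core.classInner_def,
        Nat.card_congr (Subgroup.subgroupOfEquivOfLe (le_sup_right : M ≤ K ⊔ M)).toEquiv]
      congr 1
      exact Fintype.sum_equiv (Subgroup.subgroupOfEquivOfLe (le_sup_right : M ≤ K ⊔ M)).toEquiv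
        _ _ (fun a => rfl)
    rw [e1, e3, ← e2, hF]
    have e4 : (fun g => σ * (ψ g - ψ g * (lam g : ℂ))) = σ • (ψ - (fun g => (lam g : ℂ)) * ψ) := by
      funext g
      simp only [Pi.smul_apply, Pi.sub_apply, Pi.mul_apply, smul_eq_mul]
      ring
    rw [e4, Core.classInner_smul_left, Core.classInner_sub_left, Core.classInner_irr_self hψ,
      Core.classInner_irr_ne (AbelianQuotient.isIrr_linear_mul lam hψ) hψ hne, sub_zero, mul_one]
  have hσ0 : σ ≠ 0 := by rcases hσ with rfl | rfl <;> norm_num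
  have h2 : classInner μ (fun g : ↥(K ⊔ M) => ψ g) -
      classInner ((fun g => (l g : ℂ)) * μ) (fun g : ↥(K ⊔ M) => ψ g) = σ := by
    rw [← h1, hFD, ← Core.classInner_sub_left]
    congr 1
    funext g
    simp only [Pi.sub_apply, Pi.mul_apply]
    ring
  have hval : ∀ s : M, lam (s : C) ≠ 1 →
      μ ⟨s, (le_sup_right : M ≤ K ⊔ M) s.2⟩ = (ξ s : ℂ) := by
    intro s hs
    have h3 := hloc.indFun_apply (up K ξ)
      (s := ⟨⟨s, (le_sup_right : M ≤ K ⊔ M) s.2⟩, Subgroup.mem_subgroupOf.2 s.2⟩) hs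
    rw [up_apply, hFD] at h3
    have h4 : (l ⟨s, (le_sup_right : M ≤ K ⊔ M) s.2⟩ : ℂ) = -1 := lam_eq_neg_one h.lam_sq hs
    simp only [h4] at h3
    have h5 : (2 : ℂ) * μ ⟨s, (le_sup_right : M ≤ K ⊔ M) s.2⟩ = 2 * (ξ s : ℂ) := by
      rw [← h3]
      ring
    exact mul_left_cancel₀ two_ne_zero h5
  have hirrK : IsIrrCharacter K (fun k : K => μ ⟨k, (le_sup_left : K ≤ K ⊔ M) k.2⟩) := by
    have := Core.isIrr_comp
      (Subgroup.subgroupOfEquivOfLe (le_sup_left : K ≤ K ⊔ M)).symm.toMonoidHom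
      (Subgroup.subgroupOfEquivOfLe (le_sup_left : K ≤ K ⊔ M)).symm.surjective hKir
    exact this
  by_cases h3 : classInner μ (fun g : ↥(K ⊔ M) => ψ g) = 0
  · refine ⟨(fun g => (l g : ℂ)) * μ, -1, Or.inr rfl, AbelianQuotient.isIrr_linear_mul l hμ,
      ?_, ?_, ?_⟩
    · intro h4
      rw [← Core.classInner_conj_symm, map_eq_zero] at h4
      rw [h3, h4, sub_zero] at h2
      exact hσ0 h2.symm
    · have h4 : (fun k : K => ((fun g => (l g : ℂ)) * μ) ⟨k, (le_sup_left : K ≤ K ⊔ M) k.2⟩) =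
          (fun k : K => μ ⟨k, (le_sup_left : K ≤ K ⊔ M) k.2⟩) := by
        funext k
        rw [Pi.mul_apply]
        have h5 : l ⟨k, (le_sup_left : K ≤ K ⊔ M) k.2⟩ = 1 := h.lam_K k k.2
        rw [h5, Units.val_one, one_mul]
      rw [h4]
      exact hirrK
    · intro s hs
      rw [Pi.mul_apply, hval s hs]
      have h4 : (l ⟨s, (le_sup_right : M ≤ K ⊔ M) s.2⟩ : ℂ) = -1 := lam_eq_neg_one h.lam_sq hs
      rw [h4]
  · refine ⟨μ, 1, Or.inl rfl, hμ, ?_, hirrK, ?_⟩
    · intro h4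
      rw [← Core.classInner_conj_symm, map_eq_zero] at h4
      exact h3 h4
    · intro s hs
      rw [one_mul, hval s hs]

end Main

end Cfsg.Agent.Classification.QDW.WrLam
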