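import Mathlib
import Cfsg.Prelude.Def_Characters
import Cfsg.Agent.Characters.Core
import Cfsg.Agent.Characters.Linear
import Cfsg.Agent.CharactersDeep.IndFun
import Cfsg.Agent.CharactersDeep.AbelianQuotient
import Cfsg.Agent.Classification.QDW.FrobLift
import Cfsg.Agent.Classification.QDW.WrDefs
import Cfsg.Agent.Classification.QDW.WrTI

/-!
# The wreathed case: the set `X` of linear characters of `M` and the inner products with `χ`

* `exists_X`: the linear characters of `M` trivial on `Hu` with value `-1` at `t`;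
* `XHyp`: the hypotheses on `M`, `Hu`, `Hv`, `t`, `u`;
* `free`, `ineq`: the members of `X` are free and pairwise inequivalent;
* `inner_eq`: `⟨Ind (ξ - ξ lam), χ⟩ = ε`.
-/

set_option autoImplicit false
set_option linter.unusedSectionVars false

namespace Cfsg.Agent.Classification.QDW.WrX

open Cfsg Cfsg.Agent.Characters WrDefs
open Cfsg.Agent.CharactersDeep
open scoped ComplexConjugate

universe u

variable {C : Type u} [Group C]

/-- The hypotheses on the torus `M` and its subgroups `Hu`, `Hv`. -/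
structure XHyp (M Hu Hv : Subgroup C) (lam : C →* ℂˣ) (t u w : C) : Prop where
  t_mem : t ∈ M
  t_sq : t * t = 1
  t_lam : lam t = 1
  t_notMem : t ∉ Hu
  Hu_le : Hu ≤ M
  comm : ∀ x ∈ M, ∀ y ∈ M, x * y * x⁻¹ * y⁻¹ ∈ Hu
  u_mem : u ∈ Hu
  u_lam : lam u = 1
  tu_mem : t * u ∈ Hv
  mem_Hv : ∀ y, y ∈ Hv ↔ w⁻¹ * y * w ∈ Hu
  lam_Hu : ∃ s ∈ Hu, lam s ≠ 1
  disj : ∀ s ∈ Hu, s ∈ Hv → lam s = 1

section XSet

variable {M Hu : Subgroup C} {t : C}

theorem normal_of_comm (hcomm : ∀ x ∈ M, ∀ y ∈ M, x * y * x⁻¹ * y⁻¹ ∈ Hu) :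
    (Hu.subgroupOf M).Normal := by
  constructor
  intro n hn g
  rw [Subgroup.mem_subgroupOf] at hn ⊢
  have h1 := hcomm g g.2 n n.2
  have h2 := Hu.mul_mem h1 hn
  have h3 : (g : C) * n * (g : C)⁻¹ * (n : C)⁻¹ * n = g * n * (g : C)⁻¹ := by group
  rw [h3] at h2
  exact h2

open scoped Classical in
/-- The set `X`. -/
theorem exists_X [Finite C] (hle : Hu ≤ M) (hcomm : ∀ x ∈ M, ∀ y ∈ M, x * y * x⁻¹ * y⁻¹ ∈ Hu)
    (ht : t ∈ M) (ht2 : t * t = 1) (htu : t ∉ Hu) :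
    ∃ X : Finset (M →* ℂˣ), (∀ ξ, ξ ∈ X ↔ (∀ y (hy : y ∈ Hu), ξ ⟨y, hle hy⟩ = 1) ∧
      (ξ ⟨t, ht⟩ : ℂ) = -1) ∧ 2 * X.card = Hu.relIndex M ∧
      ∀ y (hy : y ∈ M), 2 * ∑ ξ ∈ X, (ξ ⟨y, hy⟩ : ℂ) =
        Hu.relIndex M * ((if y ∈ Hu then 1 else 0) - (if y * t ∈ Hu then 1 else 0)) := by
  have hN := normal_of_comm hcomm
  obtain ⟨Λ, hΛ, hcard, h1, h2⟩ := AbelianQuotient.exists_linear_dual (Hu.subgroupOf M) (by
    intro x y
    rw [Subgroup.mem_subgroupOf]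
    exact hcomm x x.2 y y.2)
  have hidx : (Hu.subgroupOf M).index = Hu.relIndex M := rfl
  have hval : ∀ y : M, ∑ l ∈ Λ, (l y : ℂ) = Hu.relIndex M * (if (y : C) ∈ Hu then 1 else 0) := by
    intro y
    by_cases hy : (y : C) ∈ Hu
    · rw [h1 y (Subgroup.mem_subgroupOf.2 hy), if_pos hy, mul_one, hidx]
    · rw [h2 y (fun h => hy (Subgroup.mem_subgroupOf.1 h)), if_neg hy, mul_zero]
  have hsgn : ∀ l : M →* ℂˣ, (l ⟨t, ht⟩ : ℂ) = 1 ∨ (l ⟨t, ht⟩ : ℂ) = -1 := by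
    intro l
    rw [← mul_self_eq_one_iff, ← Units.val_mul, ← map_mul]
    have h3 : (⟨t, ht⟩ * ⟨t, ht⟩ : M) = 1 := Subtype.ext ht2
    rw [h3, map_one, Units.val_one]
  have hsum : ∀ y (hy : y ∈ M), 2 * ∑ ξ ∈ Λ.filter (fun l => (l ⟨t, ht⟩ : ℂ) = -1),
      (ξ ⟨y, hy⟩ : ℂ) =
        Hu.relIndex M * ((if y ∈ Hu then 1 else 0) - (if y * t ∈ Hu then 1 else 0)) := by
    intro y hy
    have h3 := hval ⟨y, hy⟩
    have h4 := hval ⟨y * t, M.mul_mem hy ht⟩
    rw [mul_sub, ← h3, ← h4, ← Finset.sum_sub_distrib, Finset.sum_filter, Finset.mul_sum]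
    refine Finset.sum_congr rfl fun l _ => ?_
    have h5 : (⟨y * t, M.mul_mem hy ht⟩ : M) = ⟨y, hy⟩ * ⟨t, ht⟩ := rfl
    rw [h5, map_mul, Units.val_mul]
    rcases hsgn l with h6 | h6
    · rw [h6, if_neg (by norm_num)]
      ring
    · rw [h6, if_pos rfl]
      ring
  refine ⟨Λ.filter (fun l => (l ⟨t, ht⟩ : ℂ) = -1), fun ξ => ?_, ?_, hsum⟩
  · rw [Finset.mem_filter, hΛ]
    constructor
    · rintro ⟨h3, h4⟩
      exact ⟨fun y hy => h3 ⟨y, hle hy⟩ (Subgroup.mem_subgroupOf.2 hy), h4⟩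
    · rintro ⟨h3, h4⟩
      exact ⟨fun n hn => h3 n (Subgroup.mem_subgroupOf.1 hn), h4⟩
  · have h3 := hsum 1 M.one_mem
    rw [if_pos Hu.one_mem, one_mul, if_neg htu, sub_zero, mul_one] at h3
    have h4 : ((2 * (Λ.filter (fun l => (l ⟨t, ht⟩ : ℂ) = -1)).card : ℕ) : ℂ) =
        (Hu.relIndex M : ℕ) := by
      push_cast
      rw [← h3]
      congr 1
      rw [Finset.cast_card]
      refine Finset.sum_congr rfl fun l _ => ?_
      have h5 : (⟨1, M.one_mem⟩ : M) = 1 := rfl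
      rw [h5, map_one, Units.val_one]
    exact_mod_cast h4

end XSet

section Free

variable {K M Hu Hv : Subgroup C} {lam : C →* ℂˣ} {t u w : C}

/-- Membership in `X`. -/
def InX (h : XHyp M Hu Hv lam t u w) (ξ : M →* ℂˣ) : Prop :=
  (∀ y (hy : y ∈ Hu), ξ ⟨y, h.Hu_le hy⟩ = 1) ∧ (ξ ⟨t, h.t_mem⟩ : ℂ) = -1

theorem tu_mem_M (_ : WrHyp K M lam w) (h : XHyp M Hu Hv lam t u w) : t * u ∈ M :=
  M.mul_mem h.t_mem (h.Hu_le h.u_mem)

theorem val_tu (h : XHyp M Hu Hv lam t u w) {ξ : M →* ℂˣ} (hξ : InX h ξ) (htu : t * u ∈ M) :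
    (ξ ⟨t * u, htu⟩ : ℂ) = -1 := by
  have h1 : (⟨t * u, htu⟩ : M) = ⟨t, h.t_mem⟩ * ⟨u, h.Hu_le h.u_mem⟩ := rfl
  rw [h1, map_mul, Units.val_mul, hξ.2, hξ.1 u h.u_mem, Units.val_one, mul_one]

theorem lam_tu (h : XHyp M Hu Hv lam t u w) : lam (t * u) = 1 := by
  rw [map_mul, h.t_lam, h.u_lam, one_mul]

theorem conj_val (hw : WrHyp K M lam w) (h : XHyp M Hu Hv lam t u w) {ξ : M →* ℂˣ}
    (hξ : InX h ξ) {y : C} (hy : y ∈ Hv) (hyM : y ∈ M) :
    conjHom hw.conj_mem ξ ⟨y, hyM⟩ = 1 := by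
  rw [conjHom_apply]
  exact hξ.1 _ ((h.mem_Hv y).1 hy)

theorem free (hw : WrHyp K M lam w) (h : XHyp M Hu Hv lam t u w) {ξ : M →* ℂˣ}
    (hξ : InX h ξ) : Free hw ξ := by
  have htu := tu_mem_M hw h
  have h1 := conj_val hw h hξ h.tu_mem htu
  have h2 := val_tu h hξ htu
  constructor
  · intro h3
    rw [h3] at h1
    rw [h1, Units.val_one] at h2
    norm_num at h2
  · intro h3
    rw [h3, MonoidHom.mul_apply, lamM_apply, lam_tu h, mul_one] at h1
    rw [h1, Units.val_one] at h2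
    norm_num at h2

theorem ineq (hw : WrHyp K M lam w) (h : XHyp M Hu Hv lam t u w) {ξ ξ' : M →* ℂˣ}
    (hξ : InX h ξ) (hξ' : InX h ξ') (hne : ξ ≠ ξ') : WrTI.Ineq hw ξ ξ' := by
  have htu := tu_mem_M hw h
  have h1 := conj_val hw h hξ' h.tu_mem htu
  have h2 := val_tu h hξ htu
  refine ⟨hne, ?_, ?_, ?_⟩
  · intro h3
    obtain ⟨s, hs, hs1⟩ := h.lam_Hu
    apply hs1
    have h4 := hξ.1 s hs
    rw [h3, MonoidHom.mul_apply, hξ'.1 s hs, one_mul, lamM_apply] at h4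
    exact h4
  · intro h3
    rw [h3, h1, Units.val_one] at h2
    norm_num at h2
  · intro h3
    rw [h3, MonoidHom.mul_apply, h1, one_mul, lamM_apply] at h2
    rw [show lam ((⟨t * u, htu⟩ : M) : C) = 1 from lam_tu h, Units.val_one] at h2
    norm_num at h2

end Free

section Inner

variable {K M Hu Hv : Subgroup C} {lam : C →* ℂˣ} {t u w : C}

theorem sum_hom {A : Type*} [Group A] [Fintype A] {f : A →* ℂˣ} (hf : ∃ a, f a ≠ 1) :
    ∑ a : A, (f a : ℂ) = 0 := by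
  have h1 := sum_hom_units_eq_zero ((Units.coeHom ℂ).comp f) (by
    intro h2
    obtain ⟨a, ha⟩ := hf
    apply ha
    have := DFunLike.congr_fun h2 a
    exact Units.ext (by simpa using this))
  exact h1

open scoped Classical in
/-- The inner product of `Ind (ξ - ξ lam)` with `χ`. -/
theorem inner_eq [Fintype C] [Fintype M] (hw : WrHyp K M lam w) (h : XHyp M Hu Hv lam t u w)
    {ξ : M →* ℂˣ} (hξ : InX h ξ) {χ : C → ℂ} (hχ : IsClassFunction C χ) {c : ℤ}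
    (hval : ∀ s ∈ M, lam s ≠ 1 →
      χ s = 2 + (c : ℂ) * ((if s ∈ Hu then 1 else 0) + (if s ∈ Hv then 1 else 0))) :
    classInner (indFun M (dif M lam ξ)) χ * Hu.relIndex M = c := by
  have hHvM : ∀ s, s ∈ Hv → s ∈ M := by
    intro s hs
    have h1 := hw.conj_mem' _ (h.Hu_le ((h.mem_Hv s).1 hs))
    have h2 : w * (w⁻¹ * s * w) * w⁻¹ = s := by group
    rwa [h2] at h1
  have htu := tu_mem_M hw h
  rw [IndFun.classInner_indFun M _ _ hχ,
    WrTI.classInner_dif_congr (g := fun s : M => 2 + (c : ℂ) *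
      ((if (s : C) ∈ Hu then 1 else 0) + (if (s : C) ∈ Hv then 1 else 0))) ξ
    (fun s hs => hval s s.2 hs), Core.classInner_def]
  have hconj : ∀ s : M, conj (2 + (c : ℂ) *
      ((if (s : C) ∈ Hu then 1 else 0) + (if (s : C) ∈ Hv then 1 else 0))) =
      2 + (c : ℂ) * ((if (s : C) ∈ Hu then 1 else 0) + (if (s : C) ∈ Hv then 1 else 0)) := by
    intro s
    split_ifs <;> simp only [map_add, map_mul, map_ofNat, map_intCast, map_one, map_zero]
  have e0 : ∑ s : M, dif M lam ξ s = 0 := by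
    have h1 : ∑ s : M, (ξ s : ℂ) = 0 := sum_hom ⟨⟨t, h.t_mem⟩, fun h2 => by
      have h3 := hξ.2
      rw [h2, Units.val_one] at h3
      norm_num at h3⟩
    have h2 : ∑ s : M, ((ξ * lamM M lam) s : ℂ) = 0 := sum_hom ⟨⟨t, h.t_mem⟩, fun h2 => by
      rw [MonoidHom.mul_apply, lamM_apply, h.t_lam, mul_one] at h2
      have h3 := hξ.2
      rw [h2, Units.val_one] at h3
      norm_num at h3⟩
    rw [WrTI.dif_eq_sub]
    simp only [Pi.sub_apply]
    rw [Finset.sum_sub_distrib, h1, h2, sub_zero]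
  have eu : ∑ s : M, (if (s : C) ∈ Hu then dif M lam ξ s else 0) = Nat.card Hu := by
    let _ : Fintype (Hu.subgroupOf M) := Fintype.ofFinite _
    have h1 := FrobLift.sum_ite_mem (Hu.subgroupOf M) (fun s : M => dif M lam ξ s)
    simp only [Subgroup.mem_subgroupOf] at h1
    rw [h1]
    have h2 : ∀ s : Hu.subgroupOf M, dif M lam ξ s =
        1 - ((lam.comp (M.subtype.comp (Hu.subgroupOf M).subtype)) s : ℂ) := by
      intro s
      rw [dif_apply, hξ.1 _ (Subgroup.mem_subgroupOf.1 s.2), Units.val_one, one_mul]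
      rfl
    rw [Finset.sum_congr rfl fun s _ => h2 s, Finset.sum_sub_distrib, sum_hom, sub_zero]
    · rw [Finset.sum_const, nsmul_eq_mul, mul_one, Finset.card_univ, ← Nat.card_eq_fintype_card]
      exact_mod_cast Nat.card_congr (Subgroup.subgroupOfEquivOfLe h.Hu_le).toEquiv
    · obtain ⟨s, hs, hs1⟩ := h.lam_Hu
      exact ⟨⟨⟨s, h.Hu_le hs⟩, Subgroup.mem_subgroupOf.2 hs⟩, hs1⟩
  have ev : ∑ s : M, (if (s : C) ∈ Hv then dif M lam ξ s else 0) = 0 := by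
    let _ : Fintype (Hv.subgroupOf M) := Fintype.ofFinite _
    have h1 := FrobLift.sum_ite_mem (Hv.subgroupOf M) (fun s : M => dif M lam ξ s)
    simp only [Subgroup.mem_subgroupOf] at h1
    rw [h1, WrTI.dif_eq_sub]
    simp only [Pi.sub_apply]
    have hin : (⟨t * u, htu⟩ : M) ∈ Hv.subgroupOf M := Subgroup.mem_subgroupOf.2 h.tu_mem
    have h2 := val_tu h hξ htu
    rw [Finset.sum_sub_distrib]
    have h3 : ∑ s : Hv.subgroupOf M, (ξ s : ℂ) = 0 :=
      sum_hom (f := ξ.comp (Hv.subgroupOf M).subtype) ⟨⟨_, hin⟩, fun h3 => by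
        have h4 : ξ ⟨t * u, htu⟩ = 1 := h3
        rw [h4, Units.val_one] at h2
        norm_num at h2⟩
    have h4 : ∑ s : Hv.subgroupOf M, ((ξ * lamM M lam) s : ℂ) = 0 :=
      sum_hom (f := (ξ * lamM M lam).comp (Hv.subgroupOf M).subtype) ⟨⟨_, hin⟩, fun h3 => by
        have h4 : (ξ * lamM M lam) ⟨t * u, htu⟩ = 1 := h3
        rw [MonoidHom.mul_apply, lamM_apply] at h4
        rw [show lam ((⟨t * u, htu⟩ : M) : C) = 1 from lam_tu h, mul_one] at h4
        rw [h4, Units.val_one] at h2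
        norm_num at h2⟩
    rw [h3, h4, sub_zero]
  have hsum : ∑ s : M, dif M lam ξ s * conj (2 + (c : ℂ) *
      ((if (s : C) ∈ Hu then 1 else 0) + (if (s : C) ∈ Hv then 1 else 0))) =
      c * Nat.card Hu := by
    have h1 : ∀ s : M, dif M lam ξ s * conj (2 + (c : ℂ) *
      ((if (s : C) ∈ Hu then 1 else 0) + (if (s : C) ∈ Hv then 1 else 0))) =
      2 * dif M lam ξ s + c * (if (s : C) ∈ Hu then dif M lam ξ s else 0) +
        c * (if (s : C) ∈ Hv then dif M lam ξ s else 0) := by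
      intro s
      rw [hconj]
      split_ifs <;> ring
    rw [Finset.sum_congr rfl fun s _ => h1 s, Finset.sum_add_distrib, Finset.sum_add_distrib,
      ← Finset.mul_sum, ← Finset.mul_sum, ← Finset.mul_sum, e0, eu, ev]
    ring
  rw [hsum]
  have hM0 : (Nat.card M : ℂ) ≠ 0 := Core.card_ne_zero_complex
  have hcard : (Nat.card M : ℂ) = Nat.card Hu * Hu.relIndex M := by
    have h1 := Subgroup.relIndex_mul_relIndex (⊥ : Subgroup C) Hu M bot_le h.Hu_le
    rw [Subgroup.relIndex_bot_left, Subgroup.relIndex_bot_left] at h1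
    rw [← h1]
    push_cast
    rfl
  rw [inv_mul_eq_div, div_mul_eq_mul_div, div_eq_iff hM0, hcard]
  ring

end Inner

end Cfsg.Agent.Classification.QDW.WrX
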