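import Mathlib
import Cfsg.Prelude.Def_Characters
import Cfsg.Agent.Characters.Core
import Cfsg.Agent.Characters.Linear
import Cfsg.Agent.Classification.QDW.WrDefs
import Cfsg.Agent.Classification.QDW.WrTI
import Cfsg.Agent.Classification.QDW.WrLam
import Cfsg.Agent.Classification.QDW.WrDeg
import Cfsg.Agent.Classification.QDW.WrX
import Cfsg.Agent.Classification.QDW.WrEnd

/-!
# The wreathed case: the core is central

`CoreHyp`: the hypotheses inside `C = C(t)`; `core_central`: `K ≤ Z(C)` and `K ∩ Hu = 1`.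
-/

set_option autoImplicit false
set_option linter.unusedSectionVars false

namespace Cfsg.Agent.Classification.QDW.WrCore

open Cfsg Cfsg.Agent.Characters WrDefs WrX WrDeg

universe u

variable {C : Type u} [Group C]

/-- What the Frobenius group in `C / K` gives for the characters over invariant characters
of `K`. -/
structure FrobOut [Fintype C] (N : ℕ) {K M : Subgroup C} {lam : C →* ℂˣ} {w : C}
    (wr : WrHyp K M lam w) (K1 : Subgroup C) [K.Normal] : Prop where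
  le : ∀ (φ : K → ℂ), IsIrrCharacter K φ → stab K φ = ⊤ → ∀ ψ : C → ℂ, IsIrrCharacter C ψ →
    ∀ ξ : M →* ℂˣ, Free wr ξ → Att M lam ξ ψ → ∀ e : ℕ, 2 ≤ e → (∀ k : K, ψ k = e * φ k) → N ≤ e
  val : ∀ (φ : K → ℂ), IsIrrCharacter K φ → stab K φ = ⊤ → φ 1 = 1 → ∀ ψ : C → ℂ,
    IsIrrCharacter C ψ → ∀ ξ : M →* ℂˣ, Free wr ξ → Att M lam ξ ψ → (∀ k : K, ψ k = N * φ k) →
    ∀ y (hy : y ∈ M), lam y = 1 → y ∉ K1 →
      ψ y = (ξ ⟨y, hy⟩ : ℂ) + (ξ ⟨w⁻¹ * y * w, wr.conj_mem y hy⟩ : ℂ)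

open scoped Classical in
/-- The hypotheses inside `C`. -/
structure CoreHyp (q : ℕ) (ε : ℤ) (K M W Hu Hv : Subgroup C) (lam : C →* ℂˣ)
    (t u w : C) (χ : C → ℂ) : Prop where
  wr : WrHyp K M lam w
  xh : XHyp M Hu Hv lam t u w
  q_ge : 3 ≤ q
  eps : ε = 1 ∨ ε = -1
  t_comm : ∀ g, t * g = g * t
  uu : u * u = 1
  mem_M : ∀ g, g ∈ M ↔ u * g = g * u
  index : (Hu.relIndex M : ℤ) = q - ε
  isChar : IsCharacter C χ
  chi_one : χ 1 = (q : ℂ) ^ 2 + ε * q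
  chi_t : χ t = 1 + ε * q
  chi_K : ∀ k ∈ K, χ (t * k) = χ t
  faith : ∀ k ∈ K, χ k = χ 1 → k = 1
  chi_M : ∀ s ∈ M, lam s ≠ 1 →
    χ s = 2 + (((ε * q - 1 : ℤ)) : ℂ) * ((if s ∈ Hu then 1 else 0) + (if s ∈ Hv then 1 else 0))
  W_le : W ≤ M
  W_odd : Odd (Nat.card W)
  KM_le : K ⊓ M ≤ W
  conj_W : ∀ y ∈ W, w⁻¹ * y * w ∈ W
  comm_W : ∀ x ∈ M, ∀ y ∈ M, x * y * x⁻¹ * y⁻¹ ∈ W

/-- The additional hypotheses for `ε = 1`. -/
structure PosCore (q : ℕ) (K M W Hu Hv B₀ B₁ K1 : Subgroup C) (lam : C →* ℂˣ)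
    (t w : C) (χ : C → ℂ) : Prop where
  idx : ∀ H : Subgroup C, K ⊔ M ≤ H → H ≠ ⊤ →
    (q + 1 ≤ H.index ∧ (H.index = q + 1 → H = B₀ ∨ H = B₁)) ∨ (q ≤ H.index ∧ w ∈ H)
  W_K1 : ∀ y ∈ W, y ∈ K1 → y ∈ K
  chi_W : ∀ y ∈ W, y ∉ K → χ (t * y) = 2
  fix₀ : ∀ y ∈ M, y ∉ K1 → ∀ g, g⁻¹ * y * g ∈ B₀ → g ∈ B₀ ∨ w⁻¹ * g ∈ B₀
  fix₁ : ∀ y ∈ M, y ∉ K1 → ∀ g, g⁻¹ * y * g ∈ B₁ → g ∈ B₁ ∨ w⁻¹ * g ∈ B₁
  swap : ∀ y ∈ W, ∃ y' ∈ W, χ y' = χ y ∧ (y' ∈ K ↔ y ∈ Hu) ∧ (y' ∈ Hu ↔ y ∈ K) ∧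
    (y' ∈ Hv ↔ y ∈ Hv)
  swap' : ∀ y ∈ W, ∃ y' ∈ W, χ y' = χ y ∧ (y' ∈ K ↔ y ∈ Hv) ∧ (y' ∈ Hv ↔ y ∈ K) ∧
    (y' ∈ Hu ↔ y ∈ Hu)
  h01 : ∀ g ∈ B₁, w⁻¹ * g * w ∈ B₀
  h10 : ∀ g ∈ B₀, w⁻¹ * g * w ∈ B₁
  gen : B₀ ⊔ B₁ = ⊤

variable {q : ℕ} {ε : ℤ} {K M W Hu Hv B₀ B₁ K1 : Subgroup C} {lam : C →* ℂˣ} {t u w : C}
  {χ : C → ℂ}

theorem lam_W (h : CoreHyp q ε K M W Hu Hv lam t u w χ) [Finite C] {y : C} (hy : y ∈ W) :
    lam y = 1 := by
  obtain ⟨n, hn⟩ := h.W_odd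
  have h1 : y ^ Nat.card W = 1 := by
    have := pow_card_eq_one' (x := (⟨y, hy⟩ : W))
    exact congrArg Subtype.val this
  have h2 : lam y ^ Nat.card W = 1 := by rw [← map_pow, h1, map_one]
  rw [hn, pow_succ, pow_mul, sq, h.wr.lam_sq, one_pow, one_mul] at h2
  exact h2

theorem notMem_mul_t (h : CoreHyp q ε K M W Hu Hv lam t u w χ) [Finite C] {y : C} (hy : y ∈ W) :
    y * t ∉ Hu := by
  intro h0
  obtain ⟨n, hn⟩ := h.W_odd
  have h1 : y ^ Nat.card W = 1 := by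
    have := pow_card_eq_one' (x := (⟨y, hy⟩ : W))
    exact congrArg Subtype.val this
  have hc : Commute y t := (h.t_comm y).symm
  have h2 : (y * t) ^ Nat.card W = t := by
    rw [hc.mul_pow, h1, one_mul, hn, pow_succ, pow_mul, sq, h.xh.t_sq, one_pow, one_mul]
  apply h.xh.t_notMem
  rw [← h2]
  exact Hu.pow_mem h0 _

theorem conj_W_iff (h : CoreHyp q ε K M W Hu Hv lam t u w χ) [Finite C] {y : C} :
    y ∈ W ↔ w⁻¹ * y * w ∈ W := by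
  refine ⟨h.conj_W y, fun hy => ?_⟩
  let f : W → W := fun z => ⟨w⁻¹ * z * w, h.conj_W z z.2⟩
  have hinj : Function.Injective f := by
    intro a b hab
    have h1 : w⁻¹ * (a : C) * w = w⁻¹ * b * w := congrArg Subtype.val hab
    exact Subtype.ext (mul_left_cancel (mul_right_cancel h1))
  obtain ⟨z, hz⟩ := Finite.injective_iff_surjective.1 hinj ⟨_, hy⟩
  have h1 : w⁻¹ * (z : C) * w = w⁻¹ * y * w := congrArg Subtype.val hz
  have h2 : (z : C) = y := mul_left_cancel (mul_right_cancel h1)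
  rw [← h2]
  exact z.2

open scoped Classical in
/-- The characters attached to the members of `X`, with everything known about them. -/
theorem exists_family [Fintype C] [Fintype K] [hKn : K.Normal]
    (h : CoreHyp q ε K M W Hu Hv lam t u w χ) {N : ℕ} (hN : (N : ℤ) = q + ε) {K1 : Subgroup C}
    (hF : FrobOut N h.wr K1)
    (h1 : ∀ H : Subgroup C, K ⊔ M ≤ H → H ≠ ⊤ → w ∈ H → N < 2 * H.index)
    (h2 : ∀ H : Subgroup C, K ⊔ M ≤ H → w ∉ H → N ≤ H.index) :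
    ∃ (X : Finset (M →* ℂˣ)) (ψ : (M →* ℂˣ) → C → ℂ) (l : (M →* ℂˣ) → (K →* ℂˣ)),
      (∀ ξ, ξ ∈ X ↔ InX h.xh ξ) ∧ 2 * X.card = Hu.relIndex M ∧
      (∀ y (hy : y ∈ M), 2 * ∑ ξ ∈ X, (ξ ⟨y, hy⟩ : ℂ) =
        Hu.relIndex M * ((if y ∈ Hu then 1 else 0) - (if y * t ∈ Hu then 1 else 0))) ∧
      (∀ g, χ g - χ (t * g) = 2 * ∑ ξ ∈ X, ψ ξ g) ∧
      ∀ ξ ∈ X, IsIrrCharacter C (ψ ξ) ∧ ψ ξ 1 = N ∧
        classInner (fun k : K => ψ ξ k) (fun k => (l ξ k : ℂ)) ≠ 0 ∧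
        (∀ (k : C) (hK : k ∈ K) (hM : k ∈ M), l ξ ⟨k, hK⟩ = ξ ⟨k, hM⟩) ∧
        K ⊔ M ≤ BorelOrb.stab K (l ξ) ∧
        ((BorelOrb.stab K (l ξ) = ⊤ ∧ ∀ y (hy : y ∈ M), lam y = 1 → y ∉ K1 →
            ψ ξ y = (ξ ⟨y, hy⟩ : ℂ) + (ξ ⟨w⁻¹ * y * w, h.wr.conj_mem y hy⟩ : ℂ)) ∨
          (w ∉ BorelOrb.stab K (l ξ) ∧ (BorelOrb.stab K (l ξ)).index = N ∧
            ∀ y (hy : y ∈ M), lam y = 1 → (∀ g : C, g⁻¹ * y * g ∈ BorelOrb.stab K (l ξ) →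
              g ∈ BorelOrb.stab K (l ξ) ∨ w⁻¹ * g ∈ BorelOrb.stab K (l ξ)) →
            ψ ξ y = (ξ ⟨y, hy⟩ : ℂ) + (ξ ⟨w⁻¹ * y * w, h.wr.conj_mem y hy⟩ : ℂ))) := by
  let _ : Fintype M := Fintype.ofFinite _
  let _ : Fintype ↥(K ⊔ M) := Fintype.ofFinite _
  have hN0 : 0 < N := by
    have := h.q_ge
    rcases h.eps with he | he <;> rw [he] at hN <;> omega
  obtain ⟨X, hX, hcard, hsum⟩ := exists_X h.xh.Hu_le h.xh.comm h.xh.t_mem h.xh.t_sq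
    h.xh.t_notMem
  have hcl := Core.isCharacter_isClassFunction h.isChar
  -- the degree bound
  have hζex : ∀ ξ ∈ X, ∀ ψ : C → ℂ, Att M lam ξ ψ → ∃ (ζ : ↥(K ⊔ M) → ℂ) (σ : ℂ), σ ≠ 0 ∧
      IsIrrCharacter ↥(K ⊔ M) ζ ∧ classInner (fun g : ↥(K ⊔ M) => ψ g) ζ ≠ 0 ∧
      IsIrrCharacter K (resK K M ζ) ∧
      (∀ s : M, lam (s : C) ≠ 1 → ζ ⟨s, Subgroup.mem_sup_right s.2⟩ = σ * (ξ s : ℂ)) ∧
      ∀ n : ℕ, ψ 1 = n → N ≤ n ∧ (n = N → resK K M ζ 1 = 1 ∧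
      ((stab K (resK K M ζ) = ⊤ ∧ ∀ k : K, ψ k = N * resK K M ζ k) ∨
        (w ∉ stab K (resK K M ζ) ∧ (stab K (resK K M ζ)).index = N ∧
          classInner (fun k : K => ψ k) (resK K M ζ) = 1))) := by
    intro ξ hξ ψ hψ
    have hfree := free h.wr h.xh ((hX ξ).1 hξ)
    obtain ⟨ζ, σ, hσ, hζ, hζψ, hζK, hζs⟩ := WrLam.exists_zeta h.wr hfree hψ
    have hσ0 : σ ≠ 0 := by
      rcases hσ with rfl | rfl
      · exact one_ne_zero
      · norm_num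
    refine ⟨ζ, σ, hσ0, hζ, hζψ, hζK, hζs, fun n hn => ?_⟩
    exact degree_bound h.wr h1 h2 hfree hψ.1 hζ hζψ hσ0 hζs hζK
      (fun htop e he2 hres => hF.le _ hζK htop ψ hψ.1 ξ hfree hψ e he2 hres) hn
  -- the counting theorem
  have hrel : ((Hu.relIndex M : ℕ) : ℂ) = (q : ℂ) - ε := by
    have := congrArg (Int.cast : ℤ → ℂ) h.index
    push_cast at this
    exact this
  have hNC : (N : ℂ) = (q : ℂ) + ε := by
    have := congrArg (Int.cast : ℤ → ℂ) hN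
    push_cast at this
    exact this
  have hee : (ε : ℂ) * ε = 1 := by
    rcases h.eps with he | he <;> rw [he] <;> norm_num
  have hrel0 : ((Hu.relIndex M : ℕ) : ℂ) ≠ 0 := by
    have hq := h.q_ge
    have h3 : Hu.relIndex M ≠ 0 := by
      intro h4
      have h5 := h.index
      rw [h4] at h5
      rcases h.eps with he | he <;> rw [he] at h5 <;> push_cast at h5 <;> omega
    exact_mod_cast h3
  have ha : ∀ ξ ∈ X, classInner χ (indFun M (dif M lam ξ)) ≠ 0 := by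
    intro ξ hξ h0
    have h3 := inner_eq h.wr h.xh ((hX ξ).1 hξ) hcl h.chi_M
    rw [← Core.classInner_conj_symm, h0, map_zero, zero_mul] at h3
    have h4 : (ε * q - 1 : ℤ) = 0 := by exact_mod_cast h3.symm
    have hq := h.q_ge
    rcases h.eps with he | he <;> rw [he] at h4 <;> omega
  obtain ⟨ψ, hψ, hE⟩ := WrTI.count h.wr h.t_comm h.xh.t_sq h.xh.t_mem h.xh.t_lam h.isChar X
    (fun ξ hξ => free h.wr h.xh ((hX ξ).1 hξ))
    (fun ξ hξ ξ' hξ' hne => ineq h.wr h.xh ((hX ξ).1 hξ) ((hX ξ').1 hξ') hne)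
    (fun ξ hξ => ((hX ξ).1 hξ).2) ha hN0
    (fun ξ hξ ψ hψ n hn => by
      obtain ⟨ζ, σ, -, -, -, -, -, h3⟩ := hζex ξ hξ ψ hψ
      exact (h3 n hn).1)
    (by
      rw [h.chi_one, h.chi_t]
      have h3 : (2 : ℂ) * N * X.card = N * ((Hu.relIndex M : ℕ) : ℂ) := by
        rw [← hcard]
        push_cast
        ring
      rw [h3, hrel, hNC]
      linear_combination hee)
  -- the linear characters of `K`
  have hl : ∀ ξ : M →* ℂˣ, ∃ l : K →* ℂˣ, ξ ∈ X →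
      (classInner (fun k : K => ψ ξ k) (fun k => (l k : ℂ)) ≠ 0 ∧
        (∀ (k : C) (hK : k ∈ K) (hM : k ∈ M), l ⟨k, hK⟩ = ξ ⟨k, hM⟩) ∧
        K ⊔ M ≤ BorelOrb.stab K l ∧
        ((BorelOrb.stab K l = ⊤ ∧ ∀ y (hy : y ∈ M), lam y = 1 → y ∉ K1 →
            ψ ξ y = (ξ ⟨y, hy⟩ : ℂ) + (ξ ⟨w⁻¹ * y * w, h.wr.conj_mem y hy⟩ : ℂ)) ∨
          (w ∉ BorelOrb.stab K l ∧ (BorelOrb.stab K l).index = N ∧
            ∀ y (hy : y ∈ M), lam y = 1 → (∀ g : C, g⁻¹ * y * g ∈ BorelOrb.stab K l →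
              g ∈ BorelOrb.stab K l ∨ w⁻¹ * g ∈ BorelOrb.stab K l) →
            ψ ξ y = (ξ ⟨y, hy⟩ : ℂ) + (ξ ⟨w⁻¹ * y * w, h.wr.conj_mem y hy⟩ : ℂ)))) := by
    intro ξ
    by_cases hξ : ξ ∈ X
    · obtain ⟨ζ, σ, hσ, hζ, hζψ, hζK, hζs, h3⟩ := hζex ξ hξ (ψ ξ) (hψ ξ hξ).1
      obtain ⟨-, h4⟩ := h3 N (hψ ξ hξ).2.1
      obtain ⟨h5, h6⟩ := h4 rfl
      obtain ⟨l, hl⟩ := Linear.exists_hom_of_isIrrCharacter hζK h5
      have hζ1 : ζ 1 = 1 := h5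
      have hst : BorelOrb.stab K l = stab K (resK K M ζ) := by
        ext g
        rw [BorelOrb.mem_stab, mem_stab, hl]
        constructor
        · intro h7
          funext k
          show ((l ((MulAut.conjNormal g : MulAut K) k) : ℂˣ) : ℂ) = l k
          rw [h7]
        · intro h7 k
          exact Units.ext (congrFun h7 k)
      refine ⟨l, fun _ => ⟨?_, ?_, ?_, ?_⟩⟩
      · have h7 : (fun k : K => (l k : ℂ)) = resK K M ζ := hl.symm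
        rw [h7]
        obtain ⟨e, he0, he⟩ := exists_mult (hψ ξ hξ).1.1 hζ hζψ hζK
        rw [he]
        exact_mod_cast he0
      · intro k hK hM
        have h7 := zeta_eq h.wr hζ hσ hζs hζ1 ⟨k, hM⟩ (h.wr.lam_K k hK)
        have h8 := congrFun hl ⟨k, hK⟩
        exact Units.ext (h8.symm.trans h7)
      · rw [hst]
        exact sup_le_stab hζ
      · rw [hst]
        refine h6.imp (fun h7 => ⟨h7.1, fun y hy hly hyK => ?_⟩)
          (fun h7 => ⟨h7.1, h7.2.1, fun y hy hly hfix => ?_⟩)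
        · exact hF.val _ hζK h7.1 h5 _ (hψ ξ hξ).1.1 ξ (free h.wr h.xh ((hX ξ).1 hξ))
            (hψ ξ hξ).1 h7.2 y hy hly hyK
        · exact values_borel h.wr (hψ ξ hξ).1.1 hζ hζψ hσ hζs hζK (hψ ξ hξ).2.1 h5 h7.1 h7.2.1
            h7.2.2 hy hly hfix
    · exact ⟨1, fun h3 => absurd h3 hξ⟩
  choose l hl using hl
  refine ⟨X, ψ, l, hX, hcard, hsum, fun g => ?_, fun ξ hξ => ?_⟩
  · rw [h.t_comm g]
    exact hE g
  · obtain ⟨h3, h4, h5, h6⟩ := hl ξ hξ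
    exact ⟨(hψ ξ hξ).1.1, (hψ ξ hξ).2.1, h3, h4, h5, h6⟩

/-- The hypotheses of `WrEnd`. -/
theorem endHyp [Fintype C] [Fintype K] [hKn : K.Normal]
    (h : CoreHyp q ε K M W Hu Hv lam t u w χ) {X : Finset (M →* ℂˣ)}
    {ψ : (M →* ℂˣ) → C → ℂ} {l : (M →* ℂˣ) → (K →* ℂˣ)}
    (hX : ∀ ξ, ξ ∈ X ↔ InX h.xh ξ) (hE : ∀ g, χ g - χ (t * g) = 2 * ∑ ξ ∈ X, ψ ξ g)
    (hl : ∀ ξ ∈ X, IsIrrCharacter C (ψ ξ) ∧
      classInner (fun k : K => ψ ξ k) (fun k => (l ξ k : ℂ)) ≠ 0 ∧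
        (∀ (k : C) (hK : k ∈ K) (hM : k ∈ M), l ξ ⟨k, hK⟩ = ξ ⟨k, hM⟩) ∧
        K ⊔ M ≤ BorelOrb.stab K (l ξ)) :
    WrEnd.EndHyp K M W (Hu ⊓ W) (Hv ⊓ W) t u w χ X ψ l where
  odd := h.wr.odd
  uu := h.uu
  mem_M := h.mem_M
  W_le := h.W_le
  KM_le := h.KM_le
  Au_le := inf_le_right
  comm := h.wr.comm
  commU := fun x hx y hy => ⟨h.xh.comm x hx y hy, h.comm_W x hx y hy⟩
  conj_M := fun x hx => h.wr.conj_mem x hx
  mem_Av := fun y => by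
    rw [Subgroup.mem_inf, Subgroup.mem_inf, h.xh.mem_Hv, conj_W_iff h]
  isChar := h.isChar
  faith := h.faith
  chi_t := h.chi_K
  irr := fun ξ hξ => (hl ξ hξ).1
  sum := hE
  occ := fun ξ hξ => (hl ξ hξ).2.1
  l_eq := fun ξ hξ => (hl ξ hξ).2.2.1
  l_u := fun ξ hξ => (hl ξ hξ).2.2.2 (Subgroup.mem_sup_right (h.xh.Hu_le h.xh.u_mem))
  X_u := fun ξ hξ y hy => ((hX ξ).1 hξ).1 y hy.1

theorem inf_Hu (h : CoreHyp q ε K M W Hu Hv lam t u w χ) (hb : K ⊓ (Hu ⊓ W) = ⊥) :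
    K ⊓ Hu = ⊥ := by
  rw [eq_bot_iff, ← hb]
  intro x hx
  exact ⟨hx.1, hx.2, h.KM_le ⟨hx.1, h.xh.Hu_le hx.2⟩⟩

/-- A nontrivial element of `K` is not in the kernel of all members of the family. -/
theorem exists_irr_of_family (h : CoreHyp q ε K M W Hu Hv lam t u w χ) {N : ℕ}
    {X : Finset (M →* ℂˣ)} {ψ : (M →* ℂˣ) → C → ℂ}
    (hE : ∀ g, χ g - χ (t * g) = 2 * ∑ ξ ∈ X, ψ ξ g)
    (hall : ∀ ξ ∈ X, IsIrrCharacter C (ψ ξ) ∧ ψ ξ 1 = N) (z : C) (hz : z ∈ K) (hz1 : z ≠ 1) :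
    ∃ ψ' : C → ℂ, IsIrrCharacter C ψ' ∧ ψ' 1 = N ∧ ψ' z ≠ ψ' 1 := by
  by_contra hcon
  push Not at hcon
  apply hz1
  refine h.faith z hz ?_
  have h1 := hE z
  have h2 := hE 1
  rw [h.chi_K z hz, Finset.sum_congr rfl fun ξ hξ => hcon (ψ ξ) (hall ξ hξ).1 (hall ξ hξ).2] at h1
  rw [mul_one, ← h1] at h2
  linear_combination -h2

/-- **The wreathed case, `ε = -1`.** -/
theorem core_neg [Fintype C] [hKn : K.Normal]
    (h : CoreHyp q (-1) K M W Hu Hv lam t u w χ) {N : ℕ} (hN : N + 1 = q) {K1 : Subgroup C}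
    (hF : FrobOut N h.wr K1)
    (hidx : ∀ H : Subgroup C, K ⊔ M ≤ H → H ≠ ⊤ → q ≤ H.index) :
    K ≤ Subgroup.center C ∧ K ⊓ Hu = ⊥ ∧ ∀ z ∈ K, z ≠ 1 →
      ∃ ψ' : C → ℂ, IsIrrCharacter C ψ' ∧ ψ' 1 = N ∧ ψ' z ≠ ψ' 1 := by
  classical
  let _ : Fintype K := Fintype.ofFinite _
  obtain ⟨X, ψ, l, hX, -, -, hE, hall⟩ := exists_family h (N := N) (by omega) hF
    (fun H hH hne _ => by have := hidx H hH hne; omega)
    (fun H hH hw => by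
      have := hidx H hH (by rintro rfl; exact hw (Subgroup.mem_top w))
      omega)
  have hend := endHyp h hX hE (fun ξ hξ => by
    obtain ⟨h1, -, h2, h3, h4, -⟩ := hall ξ hξ
    exact ⟨h1, h2, h3, h4⟩)
  obtain ⟨h1, h2⟩ := WrEnd.neg hend (fun ξ hξ => by
    obtain ⟨-, -, -, -, h4, h5⟩ := hall ξ hξ
    rcases h5 with h6 | h6
    · exact h6.1
    · exfalso
      have h7 := hidx _ h4 (by
        intro h8
        apply h6.1
        rw [h8]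
        exact Subgroup.mem_top w)
      omega)
  exact ⟨h1, inf_Hu h h2, exists_irr_of_family h hE fun ξ hξ =>
    ⟨(hall ξ hξ).1, (hall ξ hξ).2.1⟩⟩

theorem core_central_neg [Fintype C] [hKn : K.Normal]
    (h : CoreHyp q (-1) K M W Hu Hv lam t u w χ) {N : ℕ} (hN : N + 1 = q) {K1 : Subgroup C}
    (hF : FrobOut N h.wr K1)
    (hidx : ∀ H : Subgroup C, K ⊔ M ≤ H → H ≠ ⊤ → q ≤ H.index) :
    K ≤ Subgroup.center C ∧ K ⊓ Hu = ⊥ :=
  ⟨(core_neg h hN hF hidx).1, (core_neg h hN hF hidx).2.1⟩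

/-- **The wreathed case, `ε = 1`.** -/
theorem core_pos [Fintype C] [hKn : K.Normal]
    (h : CoreHyp q 1 K M W Hu Hv lam t u w χ)
    (hp : PosCore q K M W Hu Hv B₀ B₁ K1 lam t w χ)
    (hF : FrobOut (q + 1) h.wr K1) :
    K ≤ Subgroup.center C ∧ K ⊓ Hu = ⊥ ∧ ∀ z ∈ K, z ≠ 1 →
      ∃ ψ' : C → ℂ, IsIrrCharacter C ψ' ∧ ψ' 1 = ((q + 1 : ℕ) : ℂ) ∧ ψ' z ≠ ψ' 1 := by
  classical
  let _ : Fintype K := Fintype.ofFinite _
  have hq := h.q_ge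
  obtain ⟨X, ψ, l, hX, hcard, hsum, hE, hall⟩ := exists_family h (N := q + 1) (by push_cast; rfl) hF
    (fun H hH hne _ => by
      rcases hp.idx H hH hne with h1 | h1 <;> omega)
    (fun H hH hw => by
      rcases hp.idx H hH (by rintro rfl; exact hw (Subgroup.mem_top w)) with h1 | h1
      · exact h1.1
      · exact absurd h1.2 hw)
  have hend := endHyp h hX hE (fun ξ hξ => by
    obtain ⟨h1, -, h2, h3, h4, -⟩ := hall ξ hξ
    exact ⟨h1, h2, h3, h4⟩)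
  have hstab : ∀ ξ ∈ X, w ∉ BorelOrb.stab K (l ξ) → (BorelOrb.stab K (l ξ)).index = q + 1 →
      BorelOrb.stab K (l ξ) = B₀ ∨ BorelOrb.stab K (l ξ) = B₁ := by
    intro ξ hξ hw hi
    obtain ⟨-, -, -, -, h4, -⟩ := hall ξ hξ
    rcases hp.idx _ h4 (by
        intro h8
        apply hw
        rw [h8]
        exact Subgroup.mem_top w) with h1 | h1
    · exact h1.2 hi
    · exact absurd h1.2 hw
  have hrel : ((Hu.relIndex M : ℕ) : ℂ) = (q : ℂ) - 1 := by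
    have := congrArg (Int.cast : ℤ → ℂ) h.index
    push_cast at this
    exact this
  have hconjW : ∀ y ∈ W, w⁻¹ * y * w ∈ W := h.conj_W
  have hpos : WrEnd.PosHyp q K M W (Hu ⊓ W) (Hv ⊓ W) hend.W_le t w χ X ψ l B₀ B₁ :=
    { one_lt_q := by omega
      chi_one := by rw [h.chi_one]; push_cast; ring
      chi_t_eq := by rw [h.chi_t]; push_cast; ring
      chi_tW := hp.chi_W
      deg := fun ξ hξ => by
        rw [(hall ξ hξ).2.1]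
        push_cast
        rfl
      conj_W := hconjW
      Av_le := inf_le_right
      conj_M' := h.wr.conj_mem'
      val := fun ξ hξ y hy hyK => by
        have hly := lam_W h hy
        have hy1 : y ∉ K1 := fun h1 => hyK (hp.W_K1 y hy h1)
        obtain ⟨-, -, -, -, h4, h5⟩ := hall ξ hξ
        rcases h5 with h6 | h6
        · exact h6.2 y (h.W_le hy) hly hy1
        · refine h6.2.2 y (h.W_le hy) hly ?_
          rcases hstab ξ hξ h6.1 h6.2.1 with h7 | h7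
          · rw [h7]
            exact hp.fix₀ y (h.W_le hy) hy1
          · rw [h7]
            exact hp.fix₁ y (h.W_le hy) hy1
      Xsum := fun y hy hyA => by
        rw [hsum y (h.W_le hy), if_pos (show y ∈ Hu from hyA.1), if_neg (notMem_mul_t h hy), hrel]
        ring
      Xsum' := fun y hy hyA => by
        have h1 := hsum y (h.W_le hy)
        rw [if_neg (show y ∉ Hu from fun h2 => hyA ⟨h2, hy⟩), if_neg (notMem_mul_t h hy), sub_zero, mul_zero] at h1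
        simpa using h1
      swap := fun y hy => by
        obtain ⟨y', hy', h1, h2, h3, h4⟩ := hp.swap y hy
        refine ⟨y', hy', h1, ?_, ?_, ?_⟩
        · rw [h2, Subgroup.mem_inf]
          exact ⟨fun h5 => ⟨h5, hy⟩, fun h5 => h5.1⟩
        · rw [Subgroup.mem_inf, h3]
          exact ⟨fun h5 => h5.1, fun h5 => ⟨h5, hy'⟩⟩
        · rw [Subgroup.mem_inf, Subgroup.mem_inf, h4]
          exact ⟨fun h5 => ⟨h5.1, hy⟩, fun h5 => ⟨h5.1, hy'⟩⟩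
      swap' := fun y hy => by
        obtain ⟨y', hy', h1, h2, h3, h4⟩ := hp.swap' y hy
        refine ⟨y', hy', h1, ?_, ?_, ?_⟩
        · rw [h2, Subgroup.mem_inf]
          exact ⟨fun h5 => ⟨h5, hy⟩, fun h5 => h5.1⟩
        · rw [Subgroup.mem_inf, h3]
          exact ⟨fun h5 => h5.1, fun h5 => ⟨h5, hy'⟩⟩
        · rw [Subgroup.mem_inf, Subgroup.mem_inf, h4]
          exact ⟨fun h5 => ⟨h5.1, hy⟩, fun h5 => ⟨h5.1, hy'⟩⟩
      h01 := hp.h01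
      h10 := hp.h10
      gen := hp.gen
      stab := fun ξ hξ => by
        obtain ⟨-, -, -, -, h4, h5⟩ := hall ξ hξ
        rcases h5 with h6 | h6
        · exact Or.inl (by rw [h6.1]; exact le_top)
        · rcases hstab ξ hξ h6.1 h6.2.1 with h7 | h7
          · exact Or.inl h7.ge
          · exact Or.inr h7.ge }
  obtain ⟨h1, h2⟩ := WrEnd.pos hend hpos
  exact ⟨h1, inf_Hu h h2, exists_irr_of_family h hE fun ξ hξ =>
    ⟨(hall ξ hξ).1, (hall ξ hξ).2.1⟩⟩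

theorem core_central_pos [Fintype C] [hKn : K.Normal]
    (h : CoreHyp q 1 K M W Hu Hv lam t u w χ)
    (hp : PosCore q K M W Hu Hv B₀ B₁ K1 lam t w χ)
    (hF : FrobOut (q + 1) h.wr K1) :
    K ≤ Subgroup.center C ∧ K ⊓ Hu = ⊥ :=
  ⟨(core_pos h hp hF).1, (core_pos h hp hF).2.1⟩

end Cfsg.Agent.Classification.QDW.WrCore
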