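import Mathlib
import Cfsg.Prelude.Def_Characters
import Cfsg.Agent.Characters.Core
import Cfsg.Agent.Classification.BGOrder
import Cfsg.Agent.Classification.BGValues
import Cfsg.Agent.Classification.QDW.CoreConst
import Cfsg.Agent.S0886

/-!
# The Glauberman correspondence for an involution acting on a group of odd order

`Setup Y s`: `Y` is a normal subgroup of odd order and index 2 of `Γ`, `s` an involution outside
`Y`; `Fix Y s = C_Y(s)`.

* `exists_eigen_split`: `χ` on `C(s)` is `χ₀ + χ₁`, and `χ (s x) = χ₀ x - χ₁ x`;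
* `exists_conj`: the elements outside `Y` are `Y`-conjugate to elements of `s Fix Y s`;
* `avg_coset`: the average of a class function over `s Y` is its average over `s Fix Y s`;
* `classInner_eq`, `classInner_sub_sgn`: the resulting isometry;
* `signed`: for `ψ` irreducible on `Y`, `w ↦ ψ (s w)` is up to sign irreducible on `Fix Y s`;
* `exists_ext`, `restrict_eq_of_inner_ne_zero`: existence of extensions, injectivity.
-/

set_option autoImplicit false
set_option linter.unusedSectionVars false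

namespace Cfsg.Agent.Classification.QDW.GlauberTwo

open Cfsg Cfsg.Agent.Characters Cfsg.Agent.Classification.BGOrder
open scoped ComplexConjugate

universe u

section Sign

theorem mem_zpowers_two {C : Type*} [Group C] {z k : C} (hz : z * z = 1)
    (hk : k ∈ Subgroup.zpowers z) : k = 1 ∨ k = z := by
  obtain ⟨n, rfl⟩ := Subgroup.mem_zpowers_iff.1 hk
  have hz2 : z ^ (2 : ℤ) = 1 := by rw [zpow_ofNat, sq, hz]
  rcases Int.even_or_odd' n with ⟨m, rfl | rfl⟩
  · left
    rw [zpow_mul, hz2, one_zpow]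
  · right
    rw [zpow_add, zpow_mul, hz2, one_zpow, one_mul, zpow_one]

variable {C : Type u} [Group C] [Finite C]

/-- Splitting a character according to the sign of a central involution. -/
theorem exists_sign_split {z : C} (hz : z * z = 1) (hzc : ∀ x, Commute z x) {χ : C → ℂ}
    (hχ : IsCharacter C χ) :
    ∃ χ₀ χ₁ : C → ℂ, IsCharacter C χ₀ ∧ IsCharacter C χ₁ ∧ χ = χ₀ + χ₁ ∧
      (∀ x, χ₀ (z * x) = χ₀ x) ∧ (∀ x, χ₁ (z * x) = - χ₁ x) := by
  classical
  by_cases hz1 : z = 1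
  · subst hz1
    refine ⟨χ, 0, hχ, Core.isCharacter_zero, (add_zero _).symm, fun x => by rw [one_mul],
      fun x => by simp⟩
  have hN : (Subgroup.zpowers z).Normal := by
    constructor
    intro n hn g
    obtain ⟨k, rfl⟩ := Subgroup.mem_zpowers_iff.1 hn
    rw [← ((hzc g).zpow_left k).eq, mul_inv_cancel_right]
    exact hn
  let _ : Fintype (Subgroup.zpowers z) := Fintype.ofFinite _
  obtain ⟨χ₀, χ₁, h0, h1, hadd, -, hfix, hmov⟩ :=
    CoreConst.exists_fixed_moved (Subgroup.zpowers z) hχ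
  refine ⟨χ₀, χ₁, h0, h1, hadd, fun x => ?_, fun x => ?_⟩
  · rw [(hzc x).eq]
    exact hfix x z (Subgroup.mem_zpowers z)
  · have h2 := hmov x
    have h3 : ∑ k : Subgroup.zpowers z, χ₁ (x * k) =
        χ₁ (x * (⟨1, one_mem _⟩ : Subgroup.zpowers z)) +
        χ₁ (x * (⟨z, Subgroup.mem_zpowers z⟩ : Subgroup.zpowers z)) := by
      refine Fintype.sum_eq_add _ _ ?_ ?_
      · intro h4
        exact hz1 (congrArg Subtype.val h4).symm
      · rintro ⟨k, hk⟩ ⟨h4, h5⟩
        exfalso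
        rcases mem_zpowers_two hz hk with rfl | rfl
        · exact h4 rfl
        · exact h5 rfl
    rw [h3] at h2
    simp only [mul_one] at h2
    rw [(hzc x).eq]
    linear_combination h2

/-- On the centralizer of the involution `s` a character is the sum of two characters whose
difference is `x ↦ χ (s x)`. -/
theorem exists_eigen_split {s : C} (hs : s * s = 1) {χ : C → ℂ} (hχ : IsCharacter C χ) :
    ∃ χ₀ χ₁ : Subgroup.centralizer ({s} : Set C) → ℂ, IsCharacter _ χ₀ ∧ IsCharacter _ χ₁ ∧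
      (∀ x : Subgroup.centralizer ({s} : Set C), χ x = χ₀ x + χ₁ x) ∧
      (∀ x : Subgroup.centralizer ({s} : Set C), χ (s * x) = χ₀ x - χ₁ x) := by
  have hsm : s ∈ Subgroup.centralizer ({s} : Set C) := by
    rw [Subgroup.mem_centralizer_singleton_iff]
  obtain ⟨χ₀, χ₁, h0, h1, hadd, h2, h3⟩ := exists_sign_split
    (z := (⟨s, hsm⟩ : Subgroup.centralizer ({s} : Set C))) (Subtype.ext hs)
    (fun x => Subtype.ext (Subgroup.mem_centralizer_singleton_iff.1 x.2).symm)
    (Core.isCharacter_comp (Subgroup.centralizer ({s} : Set C)).subtype hχ)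
  refine ⟨χ₀, χ₁, h0, h1, fun x => congrFun hadd x, fun x => ?_⟩
  have h4 : χ (s * x) = χ₀ (⟨s, hsm⟩ * x) + χ₁ (⟨s, hsm⟩ * x) :=
    congrFun hadd ((⟨s, hsm⟩ : Subgroup.centralizer ({s} : Set C)) * x)
  rw [h4, h2, h3, sub_eq_add_neg]

/-- `w ↦ χ (s w)` is a generalized character of a subgroup centralized by `s`. -/
theorem isGeneralized_twist {s : C} (hs : s * s = 1) (W : Subgroup C)
    (hW : ∀ w ∈ W, Commute s w) {χ : C → ℂ} (hχ : IsCharacter C χ) :
    IsGeneralizedCharacter W (fun w => χ (s * w)) := by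
  obtain ⟨χ₀, χ₁, h0, h1, -, h2⟩ := exists_eigen_split hs hχ
  have hle : W ≤ Subgroup.centralizer ({s} : Set C) := by
    intro w hw
    rw [Subgroup.mem_centralizer_singleton_iff]
    exact (hW w hw).symm.eq
  refine ⟨χ₀ ∘ Subgroup.inclusion hle, χ₁ ∘ Subgroup.inclusion hle,
    Core.isCharacter_comp _ h0, Core.isCharacter_comp _ h1, ?_⟩
  funext w
  exact h2 (Subgroup.inclusion hle w)

end Sign

section Coset

variable {Γ : Type u} [Group Γ]

/-- `Y` is a normal subgroup of odd order and index two, `s` an involution outside `Y`. -/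
structure Setup (Y : Subgroup Γ) (s : Γ) : Prop where
  normal : Y.Normal
  odd : Odd (Nat.card Y)
  sq : s * s = 1
  not_mem : s ∉ Y
  cover : ∀ x, x ∉ Y → s * x ∈ Y

/-- The elements of `Y` fixed by `s`. -/
def Fix (Y : Subgroup Γ) (s : Γ) : Subgroup Γ := Y ⊓ Subgroup.centralizer ({s} : Set Γ)

variable {Y : Subgroup Γ} {s : Γ}

theorem mem_fix {x : Γ} : x ∈ Fix Y s ↔ x ∈ Y ∧ Commute s x := by
  rw [Fix, Subgroup.mem_inf, Subgroup.mem_centralizer_singleton_iff]
  exact ⟨fun h => ⟨h.1, h.2.symm⟩, fun h => ⟨h.1, h.2.symm⟩⟩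

theorem mul_mem_iff (h : Setup Y s) (x : Γ) : s * x ∈ Y ↔ x ∉ Y := by
  refine ⟨fun h1 h2 => h.not_mem ?_, h.cover x⟩
  have := Y.mul_mem h1 (Y.inv_mem h2)
  rwa [mul_inv_cancel_right] at this

theorem conj_mem_iff (h : Setup Y s) (y x : Γ) : y * x * y⁻¹ ∈ Y ↔ x ∈ Y := by
  refine ⟨fun h1 => ?_, fun h1 => h.normal.conj_mem x h1 y⟩
  have := h.normal.conj_mem _ h1 y⁻¹
  have h2 : y⁻¹ * (y * x * y⁻¹) * y⁻¹⁻¹ = x := by group
  rwa [h2] at this

theorem index_eq (h : Setup Y s) : Y.index = 2 := by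
  rw [Subgroup.index_eq_two_iff]
  refine ⟨s, fun b => ?_⟩
  have hs' : b * s ∈ Y ↔ s * b ∈ Y := by
    have := conj_mem_iff h s (b * s)
    rw [← this]
    have h2 : s * (b * s) * s⁻¹ = s * b := by group
    rw [h2]
  rw [hs', mul_mem_iff h]
  by_cases hb : b ∈ Y
  · exact Or.inr ⟨hb, fun h1 => h1 hb⟩
  · exact Or.inl ⟨hb, hb⟩

theorem card_eq (h : Setup Y s) : Nat.card Γ = 2 * Nat.card Y := by
  rw [← Y.index_mul_card, index_eq h]

theorem s_pow (h : Setup Y s) : s ^ Nat.card Y = s := by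
  obtain ⟨k, hk⟩ := h.odd
  rw [hk, pow_succ, pow_mul, sq, h.sq, one_pow, one_mul]

theorem mul_fix_pow (h : Setup Y s) {w : Γ} (hw : w ∈ Fix Y s) : (s * w) ^ Nat.card Y = s := by
  obtain ⟨h1, h2⟩ := mem_fix.1 hw
  have h3 : w ^ Nat.card Y = 1 := congrArg Subtype.val (pow_card_eq_one' (x := (⟨w, h1⟩ : Y)))
  rw [h2.mul_pow, h3, mul_one, s_pow h]

theorem fix_of_pow (h : Setup Y s) {x : Γ} (hx : x ∉ Y) (hxs : x ^ Nat.card Y = s) :
    s * x ∈ Fix Y s := by
  refine mem_fix.2 ⟨h.cover x hx, ?_⟩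
  have h1 : Commute s x := by
    rw [← hxs]
    exact (Commute.refl x).pow_left _
  exact (Commute.refl s).mul_right h1

theorem pow_iff (h : Setup Y s) (x : Γ) :
    (s * x ∉ Y ∧ (s * x) ^ Nat.card Y = s) ↔ x ∈ Fix Y s := by
  constructor
  · rintro ⟨h1, h2⟩
    have h3 := fix_of_pow h h1 h2
    rwa [← mul_assoc, h.sq, one_mul] at h3
  · intro h1
    refine ⟨?_, mul_fix_pow h h1⟩
    rw [mul_mem_iff h, not_not]
    exact (mem_fix.1 h1).1

/-- Every element outside `Y` is `Y`-conjugate to an element of `s Fix Y s`. -/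
theorem exists_conj_pow [Finite Γ] (h : Setup Y s) {x : Γ} (hx : x ∉ Y) :
    ∃ c ∈ Y, c * x ^ Nat.card Y * c⁻¹ = s := by
  have := h.normal
  have hsx : ∃ y ∈ Y, x = s * y := ⟨s * x, h.cover x hx, by rw [← mul_assoc, h.sq, one_mul]⟩
  obtain ⟨y, hy, rfl⟩ := hsx
  have hmk : QuotientGroup.mk' Y (s * y) = QuotientGroup.mk' Y s := by
    have h0 : QuotientGroup.mk' Y y = 1 := (QuotientGroup.eq_one_iff y).2 hy
    rw [map_mul, h0, mul_one]
  have h1 : QuotientGroup.mk' Y ((s * y) ^ Nat.card Y) = QuotientGroup.mk' Y s := by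
    rw [map_pow, hmk, ← map_pow, s_pow h]
  have h2 : (s * y) ^ 2 ∈ Y := by
    rw [← QuotientGroup.ker_mk' Y, MonoidHom.mem_ker, map_pow, hmk, ← map_pow, sq, h.sq, map_one]
  have h3 : ((s * y) ^ Nat.card Y) ^ 2 ^ 1 = 1 := by
    rw [pow_one, ← pow_mul, mul_comm, pow_mul]
    exact congrArg Subtype.val (pow_card_eq_one' (x := (⟨(s * y) ^ 2, h2⟩ : Y)))
  have h4 : s ^ 2 ^ 1 = 1 := by rw [pow_one, sq, h.sq]
  have hodd : Odd (Nat.card (QuotientGroup.mk' Y).ker) := by
    rw [QuotientGroup.ker_mk']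
    exact h.odd
  obtain ⟨c, hc, hcs⟩ := CoreConst.exists_conj_ker (QuotientGroup.mk' Y) hodd
    ((s * y) ^ Nat.card Y) s 1 h3 h4 h1
  exact ⟨c, (QuotientGroup.eq_one_iff c).1 hc, hcs⟩

/-- Every element outside `Y` is `Y`-conjugate to an element of `s Fix Y s`. -/
theorem exists_conj [Finite Γ] (h : Setup Y s) {x : Γ} (hx : x ∉ Y) :
    ∃ c ∈ Y, ∃ w ∈ Fix Y s, c * x * c⁻¹ = s * w := by
  obtain ⟨c, hc, hcs⟩ := exists_conj_pow h hx
  refine ⟨c, hc, s * (c * x * c⁻¹), fix_of_pow h ?_ ?_, ?_⟩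
  · rwa [conj_mem_iff h]
  · rw [conj_pow, hcs]
  · rw [← mul_assoc, h.sq, one_mul]

end Coset

section Sums

variable {Γ : Type u} [Group Γ] {Y : Subgroup Γ} {s : Γ}

open scoped Classical in
theorem sum_ite_mem [Fintype Γ] (H : Subgroup Γ) [Fintype H] (f : Γ → ℂ) :
    ∑ x : Γ, (if x ∈ H then f x else 0) = ∑ k : H, f k := by
  rw [← Finset.sum_filter]
  exact Finset.sum_subtype _ (fun x => by simp) _

open scoped Classical in
theorem sum_compl [Fintype Γ] [Fintype Y] (h : Setup Y s) (f : Γ → ℂ) :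
    ∑ x : Γ, (if x ∈ Y then 0 else f x) = ∑ y : Y, f (s * y) := by
  rw [← sum_ite_mem Y (fun x => f (s * x))]
  refine (Fintype.sum_equiv (Equiv.mulLeft s) _ _ fun x => ?_).symm
  show (if x ∈ Y then f (s * x) else 0) = if s * x ∈ Y then 0 else f (s * x)
  by_cases hx : x ∈ Y
  · rw [if_pos hx, if_neg (fun h1 => (mul_mem_iff h x).1 h1 hx)]
  · rw [if_neg hx, if_pos ((mul_mem_iff h x).2 hx)]

open scoped Classical in
theorem sum_pow [Fintype Γ] [Fintype (Fix Y s)] (h : Setup Y s) (f : Γ → ℂ) :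
    ∑ x : Γ, (if x ∉ Y ∧ x ^ Nat.card Y = s then f x else 0) = ∑ w : Fix Y s, f (s * w) := by
  rw [← sum_ite_mem (Fix Y s) (fun x => f (s * x))]
  refine (Fintype.sum_equiv (Equiv.mulLeft s) _ _ fun x => ?_).symm
  show (if x ∈ Fix Y s then f (s * x) else 0) =
    if s * x ∉ Y ∧ (s * x) ^ Nat.card Y = s then f (s * x) else 0
  by_cases hx : x ∈ Fix Y s
  · rw [if_pos hx, if_pos ((pow_iff h x).2 hx)]
  · rw [if_neg hx, if_neg (fun h1 => hx ((pow_iff h x).1 h1))]

open scoped Classical in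
theorem count [Fintype Γ] [Fintype Y] (h : Setup Y s) {x : Γ} (hx : x ∉ Y) :
    ∑ y : Y, (if ((y : Γ) * x * (y : Γ)⁻¹) ^ Nat.card Y = s then (1 : ℂ) else 0) =
      Nat.card (Fix Y s) := by
  obtain ⟨c, hc, hcs⟩ := exists_conj_pow h hx
  have h1 : ∀ y : Y, ((y : Γ) * x * (y : Γ)⁻¹) ^ Nat.card Y = s ↔ (y : Γ) * c⁻¹ ∈ Fix Y s := by
    intro y
    have h2 : ((y : Γ) * x * (y : Γ)⁻¹) ^ Nat.card Y = ((y : Γ) * c⁻¹) * s * ((y : Γ) * c⁻¹)⁻¹ := by
      rw [conj_pow, ← hcs]
      group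
    rw [h2, mem_fix]
    constructor
    · intro h3
      refine ⟨Y.mul_mem y.2 (Y.inv_mem hc), ?_⟩
      have h4 : ((y : Γ) * c⁻¹) * s = s * ((y : Γ) * c⁻¹) := mul_inv_eq_iff_eq_mul.1 h3
      exact h4.symm
    · intro h3
      exact mul_inv_eq_iff_eq_mul.2 h3.2.eq.symm
  simp only [h1]
  have hF : Fintype (Fix Y s) := Fintype.ofFinite _
  have h5 : ∑ y : Y, (if (y : Γ) * c⁻¹ ∈ Fix Y s then (1 : ℂ) else 0) =
      ∑ y : Y, (if (y : Γ) ∈ Fix Y s then (1 : ℂ) else 0) := by
    refine Fintype.sum_equiv (Equiv.mulRight (⟨c, hc⟩⁻¹ : Y)) _ _ fun y => ?_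
    rfl
  rw [h5, ← sum_ite_mem Y (fun x => if x ∈ Fix Y s then (1 : ℂ) else 0)]
  have h6 : ∀ x : Γ, (if x ∈ Y then (if x ∈ Fix Y s then (1 : ℂ) else 0) else 0) =
      (if x ∈ Fix Y s then (1 : ℂ) else 0) := by
    intro x
    by_cases hx : x ∈ Fix Y s
    · rw [if_pos (mem_fix.1 hx).1]
    · rw [if_neg hx]
      split_ifs <;> rfl
  simp only [h6]
  rw [sum_ite_mem (Fix Y s) (fun _ => (1 : ℂ)), Finset.sum_const, Finset.card_univ, nsmul_eq_mul,
    mul_one, Nat.card_eq_fintype_card]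

open scoped Classical in
/-- The average of a class function over `s Y` is its average over `s Fix Y s`. -/
theorem avg_coset [Fintype Γ] [Fintype Y] [Fintype (Fix Y s)] (h : Setup Y s) {f : Γ → ℂ}
    (hf : IsClassFunction Γ f) :
    (Nat.card Y : ℂ)⁻¹ * ∑ y : Y, f (s * y) =
      (Nat.card (Fix Y s) : ℂ)⁻¹ * ∑ w : Fix Y s, f (s * w) := by
  have hY0 : (Nat.card Y : ℂ) ≠ 0 := Core.card_ne_zero_complex
  have hF0 : (Nat.card (Fix Y s) : ℂ) ≠ 0 := Core.card_ne_zero_complex
  have key : (Nat.card (Fix Y s) : ℂ) * ∑ x : Γ, (if x ∈ Y then 0 else f x) =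
      Nat.card Y * ∑ x : Γ, (if x ∉ Y ∧ x ^ Nat.card Y = s then f x else 0) := by
    have h1 : (Nat.card (Fix Y s) : ℂ) * ∑ x : Γ, (if x ∈ Y then 0 else f x) =
        ∑ x : Γ, ∑ y : Y, (if (y : Γ) * x * (y : Γ)⁻¹ ∉ Y ∧
          ((y : Γ) * x * (y : Γ)⁻¹) ^ Nat.card Y = s then f ((y : Γ) * x * (y : Γ)⁻¹) else 0) := by
      rw [Finset.mul_sum]
      refine Finset.sum_congr rfl fun x _ => ?_
      by_cases hx : x ∈ Y
      · rw [if_pos hx, mul_zero]
        refine (Finset.sum_eq_zero fun y _ => if_neg ?_).symm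
        rw [conj_mem_iff h]
        exact fun h2 => h2.1 hx
      · rw [if_neg hx, ← count h hx, Finset.sum_mul]
        refine Finset.sum_congr rfl fun y _ => ?_
        rw [conj_mem_iff h, hf x y]
        by_cases h2 : ((y : Γ) * x * (y : Γ)⁻¹) ^ Nat.card Y = s
        · rw [if_pos h2, if_pos ⟨hx, h2⟩, one_mul]
        · rw [if_neg h2, if_neg (fun h3 => h2 h3.2), zero_mul]
    rw [h1, Finset.sum_comm]
    have h2 : ∀ y : Y, ∑ x : Γ, (if (y : Γ) * x * (y : Γ)⁻¹ ∉ Y ∧
          ((y : Γ) * x * (y : Γ)⁻¹) ^ Nat.card Y = s then f ((y : Γ) * x * (y : Γ)⁻¹) else 0) =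
        ∑ x : Γ, (if x ∉ Y ∧ x ^ Nat.card Y = s then f x else 0) := by
      intro y
      exact Fintype.sum_equiv (MulAut.conj (y : Γ)).toEquiv _ _ fun x => rfl
    rw [Finset.sum_congr rfl fun y _ => h2 y, Finset.sum_const, Finset.card_univ, nsmul_eq_mul,
      ← Nat.card_eq_fintype_card]
  rw [sum_compl h, sum_pow h] at key
  field_simp
  linear_combination key

/-- The inner product of class functions of `Γ` in terms of `Y` and of `Fix Y s`. -/
theorem classInner_eq [Fintype Γ] [Fintype Y] [Fintype (Fix Y s)] (h : Setup Y s) {f g : Γ → ℂ}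
    (hf : IsClassFunction Γ f) (hg : IsClassFunction Γ g) :
    classInner f g = (classInner (fun y : Y => f y) (fun y : Y => g y) +
      classInner (fun w : Fix Y s => f (s * w)) (fun w : Fix Y s => g (s * w))) / 2 := by
  classical
  have hfg : IsClassFunction Γ (fun x => f x * conj (g x)) := by
    intro x y
    simp only [hf x y, hg x y]
  have h1 := avg_coset h hfg
  have h2 : ∑ x : Γ, f x * conj (g x) = ∑ y : Y, f y * conj (g y) +
      ∑ y : Y, f (s * y) * conj (g (s * y)) := by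
    rw [← sum_ite_mem Y (fun x => f x * conj (g x)), ← sum_compl h (fun x => f x * conj (g x)),
      ← Finset.sum_add_distrib]
    refine Finset.sum_congr rfl fun x _ => ?_
    by_cases hx : x ∈ Y
    · rw [if_pos hx, if_pos hx, add_zero]
    · rw [if_neg hx, if_neg hx, zero_add]
  have hY0 : (Nat.card Y : ℂ) ≠ 0 := Core.card_ne_zero_complex
  simp only [Core.classInner_def]
  rw [← h1, h2, card_eq h]
  push_cast
  field_simp

end Sums

section Sgn

variable {Γ : Type u} [Group Γ] {Y : Subgroup Γ} {s : Γ}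

open scoped Classical in
/-- The nontrivial linear character of `Γ` with kernel `Y`. -/
noncomputable def sgn (Y : Subgroup Γ) : Γ → ℂ := fun x => if x ∈ Y then 1 else -1

theorem sgn_of_mem {x : Γ} (hx : x ∈ Y) : sgn Y x = 1 := if_pos hx

theorem sgn_of_not_mem {x : Γ} (hx : x ∉ Y) : sgn Y x = -1 := if_neg hx

theorem sgn_mul_self (x : Γ) : sgn Y x * sgn Y x = 1 := by
  by_cases hx : x ∈ Y
  · rw [sgn_of_mem hx, one_mul]
  · rw [sgn_of_not_mem hx]; norm_num

theorem sgn_mul (h : Setup Y s) (x y : Γ) : sgn Y (x * y) = sgn Y x * sgn Y y := by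
  have h2 := Subgroup.mul_mem_iff_of_index_two (index_eq h) (a := x) (b := y)
  by_cases hx : x ∈ Y <;> by_cases hy : y ∈ Y
  · rw [sgn_of_mem hx, sgn_of_mem hy, sgn_of_mem (Y.mul_mem hx hy), one_mul]
  · rw [sgn_of_mem hx, sgn_of_not_mem hy, sgn_of_not_mem (fun h3 => hy ((h2.1 h3).1 hx)), one_mul]
  · rw [sgn_of_not_mem hx, sgn_of_mem hy, sgn_of_not_mem (fun h3 => hx ((h2.1 h3).2 hy)), mul_one]
  · rw [sgn_of_not_mem hx, sgn_of_not_mem hy, sgn_of_mem (h2.2 (iff_of_false hx hy))]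
    norm_num

theorem isIrr_sgn [Finite Γ] (h : Setup Y s) : IsIrrCharacter Γ (sgn Y) := by
  let ρ : Representation ℂ Γ ℂ :=
    { toFun := fun x => sgn Y x • (1 : Module.End ℂ ℂ)
      map_one' := by rw [sgn_of_mem Y.one_mem, one_smul]
      map_mul' := fun x y => by
        rw [sgn_mul h, smul_mul_smul_comm, one_mul] }
  have h1 : ρ.character = sgn Y := by
    funext x
    show LinearMap.trace ℂ ℂ (sgn Y x • (1 : Module.End ℂ ℂ)) = _
    rw [map_smul]
    simp
  rw [← h1]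
  exact Core.isIrrCharacter_of_rep ρ (Core.isIrr_of_finrank_one (Module.finrank_self ℂ) ρ)

theorem classFunction_sgn [Finite Γ] (h : Setup Y s) : IsClassFunction Γ (sgn Y) :=
  Core.isIrr_isClassFunction (isIrr_sgn h)

theorem isClassFunction_mul {f g : Γ → ℂ} (hf : IsClassFunction Γ f)
    (hg : IsClassFunction Γ g) : IsClassFunction Γ (f * g) := by
  intro x y
  rw [Pi.mul_apply, Pi.mul_apply, hf x y, hg x y]

/-- The difference of the multiplicities. -/
theorem classInner_sub_sgn [Fintype Γ] [Fintype (Fix Y s)] (h : Setup Y s) {f g : Γ → ℂ}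
    (hf : IsClassFunction Γ f) (hg : IsClassFunction Γ g) :
    classInner f g - classInner f (g * sgn Y) =
      classInner (fun w : Fix Y s => f (s * w)) (fun w : Fix Y s => g (s * w)) := by
  classical
  let _ : Fintype Y := Fintype.ofFinite _
  rw [classInner_eq h hf hg, classInner_eq h hf (isClassFunction_mul hg (classFunction_sgn h))]
  have h1 : (fun y : Y => (g * sgn Y) y) = fun y : Y => g y := by
    funext y
    rw [Pi.mul_apply, sgn_of_mem y.2, mul_one]
  have h2 : (fun w : Fix Y s => (g * sgn Y) (s * w)) = -(fun w : Fix Y s => g (s * w)) := by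
    funext w
    rw [Pi.mul_apply, sgn_of_not_mem (fun h3 => (mul_mem_iff h _).1 h3 (mem_fix.1 w.2).1),
      Pi.neg_apply, mul_neg, mul_one]
  rw [h1, h2, Core.classInner_neg_right]
  ring

/-- The sum of the multiplicities. -/
theorem classInner_add_sgn [Fintype Γ] [Fintype Y] (h : Setup Y s) {f g : Γ → ℂ}
    (hf : IsClassFunction Γ f) (hg : IsClassFunction Γ g) :
    classInner f g + classInner f (g * sgn Y) =
      classInner (fun y : Y => f y) (fun y : Y => g y) := by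
  classical
  let _ : Fintype (Fix Y s) := Fintype.ofFinite _
  rw [classInner_eq h hf hg, classInner_eq h hf (isClassFunction_mul hg (classFunction_sgn h))]
  have h1 : (fun y : Y => (g * sgn Y) y) = fun y : Y => g y := by
    funext y
    rw [Pi.mul_apply, sgn_of_mem y.2, mul_one]
  have h2 : (fun w : Fix Y s => (g * sgn Y) (s * w)) = -(fun w : Fix Y s => g (s * w)) := by
    funext w
    rw [Pi.mul_apply, sgn_of_not_mem (fun h3 => (mul_mem_iff h _).1 h3 (mem_fix.1 w.2).1),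
      Pi.neg_apply, mul_neg, mul_one]
  rw [h1, h2, Core.classInner_neg_right]
  ring

theorem isIrr_mul_sgn [Finite Γ] (h : Setup Y s) {ψ : Γ → ℂ} (hψ : IsIrrCharacter Γ ψ) :
    IsIrrCharacter Γ (ψ * sgn Y) := by
  classical
  let _ : Fintype Γ := Fintype.ofFinite _
  refine Core.isIrr_of_classInner_self (Core.isCharacter_mul (Core.isIrr_isCharacter hψ)
    (Core.isIrr_isCharacter (isIrr_sgn h))) ?_
  rw [← Core.classInner_irr_self hψ]
  simp only [Core.classInner_def, Pi.mul_apply, map_mul]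
  congr 1
  refine Finset.sum_congr rfl fun x _ => ?_
  have h1 : conj (sgn Y x) = sgn Y x := by
    by_cases hx : x ∈ Y
    · rw [sgn_of_mem hx, map_one]
    · rw [sgn_of_not_mem hx, map_neg, map_one]
  rw [h1]
  linear_combination (ψ x * conj (ψ x)) * sgn_mul_self (Y := Y) x

end Sgn

section Correspondence

variable {Γ : Type u} [Group Γ] {Y : Subgroup Γ} {s : Γ}

theorem isClassFunction_restrict {f : Γ → ℂ} (hf : IsClassFunction Γ f) (H : Subgroup Γ) :
    IsClassFunction H (fun y : H => f y) := fun x y => hf x y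

/-- The Glauberman correspondent, up to sign irreducible. -/
theorem signed [Finite Γ] (h : Setup Y s) {ψ : Γ → ℂ} (hψ : IsIrrCharacter Γ ψ)
    (hψY : IsIrrCharacter Y (fun y => ψ y)) : SignedIrr (fun w : Fix Y s => ψ (s * w)) := by
  classical
  let _ : Fintype Γ := Fintype.ofFinite _
  let _ : Fintype Y := Fintype.ofFinite _
  let _ : Fintype (Fix Y s) := Fintype.ofFinite _
  have hc := Core.isIrr_isClassFunction hψ
  have h1 := classInner_eq h hc hc
  rw [Core.classInner_irr_self hψ, Core.classInner_irr_self hψY] at h1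
  have h2 : classInner (fun w : Fix Y s => ψ (s * w)) (fun w : Fix Y s => ψ (s * w)) = 1 := by
    linear_combination -2 * h1
  exact Core.isIrr_of_generalized (isGeneralized_twist h.sq (Fix Y s)
    (fun w hw => (mem_fix.1 hw).2) (Core.isIrr_isCharacter hψ)) h2

/-- An `s`-invariant irreducible character of `Y` extends to `Γ`. -/
theorem exists_ext [Finite Γ] (h : Setup Y s) {θ : Y → ℂ} (hθ : IsIrrCharacter Y θ)
    (hinv : ∀ y : Y, θ ⟨s * y * s⁻¹, h.normal.conj_mem y y.2 s⟩ = θ y) :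
    ∃ ψ : Γ → ℂ, IsIrrCharacter Γ ψ ∧ ∀ y : Y, ψ y = θ y := by
  have hN := h.normal
  have hcyc : IsCyclic (Γ ⧸ Y) := by
    have h2 : Nat.card (Γ ⧸ Y) = 2 := index_eq h
    have : Fact (Nat.Prime 2) := ⟨Nat.prime_two⟩
    exact isCyclic_of_prime_card h2
  refine Cfsg.Agent.S0886.result Y hcyc θ hθ ?_
  intro g n
  have hcl := Core.isIrr_isClassFunction hθ
  by_cases hg : g ∈ Y
  · exact hcl n ⟨g, hg⟩
  · have hsg : s * g ∈ Y := h.cover g hg
    have h1 := hinv (⟨s * g, hsg⟩ * n * ⟨s * g, hsg⟩⁻¹)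
    rw [hcl n ⟨s * g, hsg⟩] at h1
    rw [← h1]
    congr 1
    apply Subtype.ext
    have hs' : s⁻¹ = s := inv_eq_of_mul_eq_one_left h.sq
    simp only [Subgroup.coe_mul, Subgroup.coe_inv]
    have h5 : s * (s * g * (n : Γ) * (s * g)⁻¹) * s⁻¹ = (s * s) * g * n * g⁻¹ * (s * s)⁻¹ := by
      group
    rw [h5, h.sq]
    group

/-- Two irreducible characters of `Γ` whose restrictions to `Y` are irreducible and different have
orthogonal correspondents. -/
theorem inner_eq_zero_of_ne [Finite Γ] [Fintype (Fix Y s)] (h : Setup Y s) {ψ φ : Γ → ℂ}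
    (hψ : IsIrrCharacter Γ ψ) (hφ : IsIrrCharacter Γ φ)
    (hne : (fun y : Y => ψ y) ≠ fun y : Y => φ y) :
    classInner (fun w : Fix Y s => ψ (s * w)) (fun w : Fix Y s => φ (s * w)) = 0 := by
  classical
  let _ : Fintype Γ := Fintype.ofFinite _
  rw [← classInner_sub_sgn h (Core.isIrr_isClassFunction hψ) (Core.isIrr_isClassFunction hφ)]
  have h1 : ψ ≠ φ := fun h2 => hne (by rw [h2])
  have h2 : ψ ≠ φ * sgn Y := by
    intro h3
    refine hne ?_
    funext y
    rw [h3, Pi.mul_apply, sgn_of_mem y.2, mul_one]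
  rw [Core.classInner_irr_ne hψ hφ h1, Core.classInner_irr_ne hψ (isIrr_mul_sgn h hφ) h2, sub_zero]

/-- Injectivity of the correspondence. -/
theorem restrict_eq_of_inner_ne_zero [Finite Γ] [Fintype (Fix Y s)] (h : Setup Y s) {ψ φ : Γ → ℂ}
    (hψ : IsIrrCharacter Γ ψ) (hφ : IsIrrCharacter Γ φ)
    (hne : classInner (fun w : Fix Y s => ψ (s * w)) (fun w : Fix Y s => φ (s * w)) ≠ 0) (y : Y) :
    ψ y = φ y := by
  by_contra hc
  refine hne (inner_eq_zero_of_ne h hψ hφ fun h1 => hc (congrFun h1 y))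

/-- A class function on `Γ` vanishing at the elements of `s Fix Y s` vanishes off `Y`. -/
theorem eq_zero_of_fix [Finite Γ] (h : Setup Y s) {f : Γ → ℂ} (hf : IsClassFunction Γ f)
    (h0 : ∀ w ∈ Fix Y s, f (s * w) = 0) {x : Γ} (hx : x ∉ Y) : f x = 0 := by
  obtain ⟨c, hc, w, hw, hcw⟩ := exists_conj h hx
  rw [← hf x c, hcw, h0 w hw]

end Correspondence

end Cfsg.Agent.Classification.QDW.GlauberTwo
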