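import Mathlib
import Cfsg.Prelude.Def_Characters
import Cfsg.Agent.Characters.Core
import Cfsg.Agent.Characters.Clifford
import Cfsg.Agent.Characters.Linear
import Cfsg.Agent.Characters.Values
import Cfsg.Agent.Classification.QDW.CoreConst
import Cfsg.Agent.Classification.QDW.GlauberTwo

/-!
# Coefficients of characters along a coset `u W`

* `coef e l f`: the inner product of `y ↦ f (e y)` with `l`, as a linear functional of `f`;
* `central_sign`: a central involution acts on an irreducible character by a sign;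
* `exists_constituent`: a character on which a functional does not vanish has an irreducible
  constituent on which it does not vanish;
* `Loc K e u`: `u` an involution centralizing the image of `e : W →* Γ`, `K` normal of odd order
  with `C_K(u)` in the image;
* `exists_invariant`: if `coef (u e ·) l ψ ≠ 0` with `l` linear, then `ψ` has an irreducible
  constituent over `K` invariant under `u` and the image of `e`;
* `unique_of_irr`: if `ψ` is irreducible on `K`, such `l` is unique.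
-/

set_option autoImplicit false
set_option linter.unusedSectionVars false

namespace Cfsg.Agent.Classification.QDW.Coef

open Cfsg Cfsg.Agent.Characters Cfsg.Agent.Classification.BGOrder
open Cfsg.Agent.Classification.QDW.GlauberTwo
open scoped ComplexConjugate

universe u v

section Functional

variable {W : Type v} [Group W] [Fintype W] {Γ : Type u}

/-- The inner product of `y ↦ f (e y)` with `l`. -/
noncomputable def coef (e : W → Γ) (l : W → ℂ) : (Γ → ℂ) →ₗ[ℂ] ℂ where
  toFun f := classInner (fun y => f (e y)) l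
  map_add' f g := by
    show classInner ((fun y => f (e y)) + fun y => g (e y)) l = _
    rw [Core.classInner_add_left]
  map_smul' c f := by
    show classInner (c • fun y => f (e y)) l = _
    rw [Core.classInner_smul_left]
    rfl

theorem coef_apply (e : W → Γ) (l : W → ℂ) (f : Γ → ℂ) :
    coef e l f = classInner (fun y => f (e y)) l := rfl

end Functional

section Constituents

variable {Γ : Type u} [Group Γ] [Finite Γ]

/-- If an irreducible character is the sum of two characters, one of them is zero. -/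
theorem eq_zero_of_irr_add {θ α β : Γ → ℂ} (hθ : IsIrrCharacter Γ θ) (hα : IsCharacter Γ α)
    (hβ : IsCharacter Γ β) (h : θ = α + β) : α = 0 ∨ β = 0 := by
  classical
  let _ : Fintype Γ := Fintype.ofFinite _
  obtain ⟨a, ha⟩ := Core.classInner_isNat hα hα
  obtain ⟨b, hb⟩ := Core.classInner_isNat hβ hβ
  obtain ⟨c, hc⟩ := Core.classInner_isNat hα hβ
  obtain ⟨d, hd⟩ := Core.classInner_isNat hβ hα
  have h1 := Core.classInner_irr_self hθ
  rw [h, Core.classInner_add_left, Core.classInner_add_right, Core.classInner_add_right,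
    ha, hb, hc, hd] at h1
  have h2 : a + c + (d + b) = 1 := by exact_mod_cast h1
  rcases Nat.eq_zero_or_pos a with h3 | h3
  · left
    refine Core.classInner_self_eq_zero ?_
    rw [ha, h3, Nat.cast_zero]
  · right
    refine Core.classInner_self_eq_zero ?_
    rw [hb, show b = 0 by omega, Nat.cast_zero]

/-- A character vanishing at `1` is zero. -/
theorem eq_zero_of_apply_one {χ : Γ → ℂ} (hχ : IsCharacter Γ χ) (h : χ 1 = 0) : χ = 0 := by
  classical
  obtain ⟨n, ρ, rfl⟩ := hχ
  have h1 : (n : ℂ) = 0 := by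
    have := ρ.char_one
    rw [this] at h
    simpa using h
  have hn : n = 0 := by exact_mod_cast h1
  subst hn
  funext x
  show LinearMap.trace ℂ (Fin 0 → ℂ) (ρ x) = 0
  have : ρ x = 0 := Subsingleton.elim _ _
  rw [this, map_zero]

/-- A central involution acts on an irreducible character by a sign. -/
theorem central_sign {z : Γ} (hz : z * z = 1) (hzc : ∀ x, Commute z x) {ψ : Γ → ℂ}
    (hψ : IsIrrCharacter Γ ψ) : ∃ τ : ℂ, (τ = 1 ∨ τ = -1) ∧ ∀ x, ψ (z * x) = τ * ψ x := by
  obtain ⟨χ₀, χ₁, h0, h1, hadd, hfix, hmov⟩ :=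
    exists_sign_split hz hzc (Core.isIrr_isCharacter hψ)
  rcases eq_zero_of_irr_add hψ h0 h1 hadd with h | h
  · refine ⟨-1, Or.inr rfl, fun x => ?_⟩
    rw [hadd, h, zero_add, hmov]
    ring
  · refine ⟨1, Or.inl rfl, fun x => ?_⟩
    rw [hadd, h, add_zero, hfix]
    ring

/-- A character on which a functional does not vanish has an irreducible constituent on which
it does not vanish. -/
theorem exists_constituent (Φ : (Γ → ℂ) →ₗ[ℂ] ℂ) {ψ : Γ → ℂ} (hψ : IsCharacter Γ ψ)
    (h : Φ ψ ≠ 0) : ∃ ζ χ : Γ → ℂ, IsIrrCharacter Γ ζ ∧ IsCharacter Γ χ ∧ ψ = ζ + χ ∧ Φ ζ ≠ 0 := by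
  classical
  have := Core.finite_irr (G := Γ)
  let _ : Fintype (IrrCharacter Γ) := Fintype.ofFinite _
  obtain ⟨m, hm⟩ := Core.exists_nat_comb hψ
  have h1 : ∃ ζ : IrrCharacter Γ, m ζ ≠ 0 ∧ Φ ζ ≠ 0 := by
    by_contra hcon
    push Not at hcon
    refine h ?_
    rw [hm, map_sum]
    refine Finset.sum_eq_zero fun ζ _ => ?_
    rw [map_nsmul]
    by_cases h2 : m ζ = 0
    · rw [h2, zero_smul]
    · rw [hcon ζ h2, smul_zero]
  obtain ⟨ζ, h2, h3⟩ := h1
  refine ⟨ζ, (m ζ - 1) • (ζ : Γ → ℂ) + ∑ χ ∈ Finset.univ.erase ζ, m χ • (χ : Γ → ℂ), ζ.2,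
    Core.isCharacter_add (Core.isCharacter_nsmul _ (Core.isIrr_isCharacter ζ.2))
      (Core.isCharacter_sum _ fun χ _ => Core.isCharacter_nsmul _ (Core.isIrr_isCharacter χ.2)),
    ?_, h3⟩
  have h4 : (ζ : Γ → ℂ) + (m ζ - 1) • (ζ : Γ → ℂ) = m ζ • (ζ : Γ → ℂ) := by
    obtain ⟨k, hk⟩ := Nat.exists_eq_succ_of_ne_zero h2
    rw [hk, Nat.succ_sub_one, succ_nsmul, add_comm]
  rw [← add_assoc, h4, hm]
  exact (Finset.add_sum_erase _ _ (Finset.mem_univ ζ)).symm

/-- A constituent from a nonzero inner product. -/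
theorem exists_add_of_classInner [Fintype Γ] {ψ ζ : Γ → ℂ} (hψ : IsCharacter Γ ψ)
    (hζ : IsIrrCharacter Γ ζ) (h : classInner ψ ζ ≠ 0) :
    ∃ χ : Γ → ℂ, IsCharacter Γ χ ∧ ψ = ζ + χ := by
  classical
  obtain ⟨ξ, χ, hξ, hχ, hadd, h1⟩ := exists_constituent (coef (fun y : Γ => y) ζ) hψ h
  have h2 : ξ = ζ := by
    by_contra hne
    exact h1 (Core.classInner_irr_ne hξ hζ hne)
  exact ⟨χ, hχ, h2 ▸ hadd⟩

/-- A signed irreducible character not orthogonal to an irreducible character. -/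
theorem eq_of_signed [Fintype Γ] {X l : Γ → ℂ} (hX : SignedIrr X) (hl : IsIrrCharacter Γ l)
    (h : classInner X l ≠ 0) : ∃ σ : ℂ, (σ = 1 ∨ σ = -1) ∧ ∀ y, X y = σ * l y := by
  rcases hX with h1 | h1
  · refine ⟨1, Or.inl rfl, fun y => ?_⟩
    have h2 : X = l := by
      by_contra hne
      exact h (Core.classInner_irr_ne h1 hl hne)
    rw [h2, one_mul]
  · refine ⟨-1, Or.inr rfl, fun y => ?_⟩
    have h2 : -X = l := by
      by_contra hne
      refine h ?_
      have h3 := Core.classInner_irr_ne h1 hl hne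
      rw [Core.classInner_neg_left] at h3
      exact neg_eq_zero.1 h3
    rw [← h2, Pi.neg_apply]
    ring

end Constituents

section Setup

variable {Γ : Type u} [Group Γ] [Finite Γ] {Y : Subgroup Γ} {s : Γ}
  {W : Type v} [Group W] [Fintype W]

/-- The constituent detected by a linear character. -/
theorem exists_irr_of_coef (h : Setup Y s) (e : W ≃* Fix Y s) (l : W →* ℂˣ) {ψ : Γ → ℂ}
    (hψ : IsCharacter Γ ψ) (h0 : coef (fun y : W => s * (e y : Γ)) (fun y => (l y : ℂ)) ψ ≠ 0) :
    ∃ ζ χ : Γ → ℂ, IsIrrCharacter Γ ζ ∧ IsCharacter Γ χ ∧ ψ = ζ + χ ∧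
      IsIrrCharacter Y (fun y => ζ y) ∧
      ∃ σ : ℂ, (σ = 1 ∨ σ = -1) ∧ ∀ y : W, ζ (s * (e y : Γ)) = σ * l y := by
  classical
  let _ : Fintype Γ := Fintype.ofFinite _
  let _ : Fintype Y := Fintype.ofFinite _
  let _ : Fintype (Fix Y s) := Fintype.ofFinite _
  obtain ⟨ζ, χ, hζ, hχ, hadd, h1⟩ := exists_constituent _ hψ h0
  have hcl := Core.isIrr_isClassFunction hζ
  have hne : ζ ≠ ζ * sgn Y := by
    intro h2
    refine h1 ?_
    rw [coef_apply]
    have h3 : (fun y : W => ζ (s * (e y : Γ))) = 0 := by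
      funext y
      have h4 : s * (e y : Γ) ∉ Y := fun h5 => (mul_mem_iff h _).1 h5 (mem_fix.1 (e y).2).1
      have h5 := congrFun h2 (s * (e y : Γ))
      rw [Pi.mul_apply, sgn_of_not_mem h4] at h5
      show ζ (s * (e y : Γ)) = 0
      linear_combination h5 / 2
    rw [h3, Core.classInner_zero_left]
  have hY : IsIrrCharacter Y (fun y => ζ y) := by
    refine Core.isIrr_of_classInner_self (Core.isCharacter_comp Y.subtype
      (Core.isIrr_isCharacter hζ)) ?_
    rw [← classInner_add_sgn h hcl hcl, Core.classInner_irr_self hζ,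
      Core.classInner_irr_ne hζ (isIrr_mul_sgn h hζ) hne, add_zero]
  refine ⟨ζ, χ, hζ, hχ, hadd, hY, ?_⟩
  have hS := signed h hζ hY
  have hS' : SignedIrr (fun y : W => ζ (s * (e y : Γ))) := by
    rcases hS with h2 | h2
    · exact Or.inl (Core.isIrr_comp e.toMonoidHom e.surjective h2)
    · exact Or.inr (Core.isIrr_comp e.toMonoidHom e.surjective h2)
  exact eq_of_signed hS' (Linear.isIrrCharacter_hom l) h1

end Setup

section Ext

variable {Γ : Type u} [Group Γ]

/-- The group generated by `Y` and an involution `s` normalizing it. -/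
def ext2 (Y : Subgroup Γ) (s : Γ) (hs : s * s = 1) (hn : ∀ x ∈ Y, s * x * s ∈ Y) : Subgroup Γ where
  carrier := {x | x ∈ Y ∨ s * x ∈ Y}
  one_mem' := Or.inl Y.one_mem
  mul_mem' := by
    rintro x y (hx | hx) (hy | hy)
    · exact Or.inl (Y.mul_mem hx hy)
    · right
      have h1 := Y.mul_mem (hn x hx) hy
      have h2 : s * x * s * (s * y) = s * (x * y) := by
        calc s * x * s * (s * y) = s * x * (s * s) * y := by group
          _ = s * (x * y) := by rw [hs]; group
      rwa [h2] at h1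
    · right
      have h1 := Y.mul_mem hx hy
      rwa [mul_assoc] at h1
    · left
      have h1 := Y.mul_mem (hn _ hx) hy
      have h2 : s * (s * x) * s * (s * y) = x * y := by
        calc s * (s * x) * s * (s * y) = (s * s) * x * (s * s) * y := by group
          _ = x * y := by rw [hs]; group
      rwa [h2] at h1
  inv_mem' := by
    rintro x (hx | hx)
    · exact Or.inl (Y.inv_mem hx)
    · right
      have h1 := hn _ (Y.inv_mem hx)
      have hs' : s⁻¹ = s := inv_eq_of_mul_eq_one_left hs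
      have h2 : s * (s * x)⁻¹ * s = s * x⁻¹ := by
        rw [mul_inv_rev, hs']
        calc s * (x⁻¹ * s) * s = s * x⁻¹ * (s * s) := by group
          _ = s * x⁻¹ := by rw [hs, mul_one]
      rwa [h2] at h1

variable {Y : Subgroup Γ} {s : Γ} {hs : s * s = 1} {hn : ∀ x ∈ Y, s * x * s ∈ Y}

theorem mem_ext2 {x : Γ} : x ∈ ext2 Y s hs hn ↔ x ∈ Y ∨ s * x ∈ Y := Iff.rfl

theorem le_ext2 : Y ≤ ext2 Y s hs hn := fun _ h => Or.inl h

theorem s_mem_ext2 : s ∈ ext2 Y s hs hn := Or.inr (by rw [hs]; exact Y.one_mem)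

theorem setup_ext2 (hodd : Odd (Nat.card Y)) (hsY : s ∉ Y) :
    Setup (Y.subgroupOf (ext2 Y s hs hn)) (⟨s, s_mem_ext2⟩ : ext2 Y s hs hn) where
  normal := by
    constructor
    rintro ⟨n, hn'⟩ hnY ⟨g, hg⟩
    rw [Subgroup.mem_subgroupOf] at hnY ⊢
    have hnY' : n ∈ Y := hnY
    show g * n * g⁻¹ ∈ Y
    rcases hg with hg | hg
    · exact Y.mul_mem (Y.mul_mem hg hnY') (Y.inv_mem hg)
    · have h1 := hn _ (Y.mul_mem (Y.mul_mem hg hnY') (Y.inv_mem hg))
      have hs' : s⁻¹ = s := inv_eq_of_mul_eq_one_left hs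
      have h2 : s * (s * g * n * (s * g)⁻¹) * s = g * n * g⁻¹ := by
        rw [mul_inv_rev, hs']
        calc s * (s * g * n * (g⁻¹ * s)) * s = (s * s) * g * n * g⁻¹ * (s * s) := by group
          _ = g * n * g⁻¹ := by rw [hs]; group
      rwa [h2] at h1
  odd := by
    rwa [Nat.card_congr (Subgroup.subgroupOfEquivOfLe (le_ext2 (hs := hs) (hn := hn))).toEquiv]
  sq := Subtype.ext hs
  not_mem := fun h => hsY h
  cover := by
    rintro ⟨x, hx⟩ h
    rcases hx with hx | hx
    · exact absurd hx h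
    · exact hx

end Ext

section Loc

variable {Γ : Type u} [Group Γ] {W : Type v} [Group W]

/-- `u` is an involution centralizing the image of the injective `e : W →* Γ`, where `W` has odd
order, `K` is normal of odd order and `C_K(u)` is in the image of `e`. -/
structure Loc (K : Subgroup Γ) (e : W →* Γ) (u : Γ) : Prop where
  normal : K.Normal
  oddK : Odd (Nat.card K)
  oddW : Odd (Nat.card W)
  inj : Function.Injective e
  sq : u * u = 1
  ne : u ≠ 1
  comm : ∀ y, Commute u (e y)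
  fix : ∀ k ∈ K, Commute u k → k ∈ e.range

variable {K : Subgroup Γ} {e : W →* Γ} {u : Γ}

/-- The product of `K` and the image of `e`. -/
theorem mem_sup_iff (hN : K.Normal) {x : Γ} :
    x ∈ K ⊔ e.range ↔ ∃ k ∈ K, ∃ y, x = k * e y := by
  rw [← SetLike.mem_coe, Subgroup.normal_mul, Set.mem_mul]
  constructor
  · rintro ⟨k, hk, _, ⟨y, rfl⟩, rfl⟩
    exact ⟨k, hk, y, rfl⟩
  · rintro ⟨k, hk, y, rfl⟩
    exact ⟨k, hk, e y, ⟨y, rfl⟩, rfl⟩

theorem conj_mem_sup (h : Loc K e u) : ∀ x ∈ K ⊔ e.range, u * x * u ∈ K ⊔ e.range := by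
  intro x hx
  obtain ⟨k, hk, y, rfl⟩ := (mem_sup_iff h.normal).1 hx
  have hu' : u⁻¹ = u := inv_eq_of_mul_eq_one_left h.sq
  refine (mem_sup_iff h.normal).2 ⟨u * k * u⁻¹, h.normal.conj_mem k hk u, y, ?_⟩
  calc u * (k * e y) * u = u * k * (e y * u) := by group
    _ = u * k * (u * e y) := by rw [(h.comm y).eq]
    _ = u * k * u⁻¹ * e y := by rw [hu']; group

theorem conj_mem_K (h : Loc K e u) : ∀ x ∈ K, u * x * u ∈ K := by
  intro x hx
  have hu' : u⁻¹ = u := inv_eq_of_mul_eq_one_left h.sq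
  have := h.normal.conj_mem x hx u
  rwa [hu'] at this

theorem odd_sup [Finite Γ] [Finite W] (h : Loc K e u) : Odd (Nat.card (K ⊔ e.range : Subgroup Γ)) := by
  have := h.normal
  have h1 : Odd (Nat.card e.range) := by
    rw [← Nat.card_congr (MonoidHom.ofInjective h.inj).toEquiv]
    exact h.oddW
  have h3 : Nat.card (K ⊔ e.range : Subgroup Γ) ∣ Nat.card K * Nat.card e.range := by
    have h4 := Subgroup.relIndex_mul_relIndex ⊥ K (K ⊔ e.range) bot_le le_sup_left
    rw [Subgroup.relIndex_bot_left, Subgroup.relIndex_bot_left] at h4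
    rw [← h4, Subgroup.relIndex_sup_left]
    exact Nat.mul_dvd_mul_left _ (Subgroup.relIndex_dvd_card _ _)
  exact Odd.of_dvd_nat (h.oddK.mul h1) h3

theorem u_not_mem [Finite Γ] (h : Loc K e u) {H : Subgroup Γ} (hH : Odd (Nat.card H)) : u ∉ H := by
  intro hu
  obtain ⟨k, hk⟩ := hH
  have h1 : u ^ Nat.card H = 1 := congrArg Subtype.val (pow_card_eq_one' (x := (⟨u, hu⟩ : H)))
  rw [hk, pow_succ, pow_mul, sq, h.sq, one_pow, one_mul] at h1
  exact h.ne h1

/-- The image of `e` inside the extension. -/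
theorem e_mem (h : Loc K e u) (y : W) :
    e y ∈ ext2 (K ⊔ e.range) u h.sq (conj_mem_sup h) :=
  le_ext2 (Subgroup.mem_sup_right ⟨y, rfl⟩)

/-- The map of `W` to the centralizer of `u` in `K W`. -/
def homFix (h : Loc K e u) :
    W →* Fix ((K ⊔ e.range).subgroupOf (ext2 (K ⊔ e.range) u h.sq (conj_mem_sup h)))
      (⟨u, s_mem_ext2⟩ : ext2 (K ⊔ e.range) u h.sq (conj_mem_sup h)) where
  toFun := fun y => ⟨⟨e y, e_mem h y⟩, mem_fix.2
    ⟨(Subgroup.mem_sup_right ⟨y, rfl⟩ : e y ∈ K ⊔ e.range), Subtype.ext (h.comm y).eq⟩⟩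
  map_one' := Subtype.ext (Subtype.ext (map_one e))
  map_mul' := fun x y => Subtype.ext (Subtype.ext (map_mul e x y))

theorem homFix_bijective (h : Loc K e u) : Function.Bijective (homFix h) := by
  constructor
  · intro x y hxy
    exact h.inj (congrArg Subtype.val (congrArg Subtype.val hxy))
  · rintro ⟨⟨x, hx⟩, hx2⟩
    obtain ⟨h1, h2⟩ := mem_fix.1 hx2
    have h3 : x ∈ K ⊔ e.range := h1
    have h4 : Commute u x := congrArg Subtype.val h2.eq
    obtain ⟨k, hk, y, rfl⟩ := (mem_sup_iff h.normal).1 h3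
    have h5 : Commute u k := by
      have h6 : Commute u (k * e y * (e y)⁻¹) := h4.mul_right (h.comm y).inv_right
      rwa [mul_inv_cancel_right] at h6
    obtain ⟨z, hz⟩ := h.fix k hk h5
    refine ⟨z * y, Subtype.ext (Subtype.ext ?_)⟩
    show e (z * y) = k * e y
    rw [map_mul, hz]

/-- `W` is the centralizer of `u` in `K W`. -/
noncomputable def equivFix (h : Loc K e u) :
    W ≃* Fix ((K ⊔ e.range).subgroupOf (ext2 (K ⊔ e.range) u h.sq (conj_mem_sup h)))
      (⟨u, s_mem_ext2⟩ : ext2 (K ⊔ e.range) u h.sq (conj_mem_sup h)) :=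
  MulEquiv.ofBijective (homFix h) (homFix_bijective h)

theorem equivFix_coe (h : Loc K e u) (y : W) : (equivFix h y : ext2 (K ⊔ e.range) u h.sq
    (conj_mem_sup h)) = ⟨e y, e_mem h y⟩ := rfl

variable [Finite Γ] [Fintype W]

/-- The constituent of the restriction to `K W ⟨u⟩` detected by a linear character. -/
theorem exists_irr_sup (h : Loc K e u) {ψ : Γ → ℂ} (hψ : IsCharacter Γ ψ) (l : W →* ℂˣ)
    (h0 : coef (fun y : W => u * e y) (fun y => (l y : ℂ)) ψ ≠ 0) :
    ∃ ζ χ : ext2 (K ⊔ e.range) u h.sq (conj_mem_sup h) → ℂ,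
      IsIrrCharacter _ ζ ∧ IsCharacter _ χ ∧
      (∀ x : ext2 (K ⊔ e.range) u h.sq (conj_mem_sup h), ψ x = ζ x + χ x) ∧
      ∃ σ : ℂ, (σ = 1 ∨ σ = -1) ∧
        ∀ y : W, ζ (⟨u, s_mem_ext2⟩ * ⟨e y, e_mem h y⟩) = σ * l y := by
  obtain ⟨ζ, χ, hζ, hχ, hadd, -, σ, hσ, hσ'⟩ := exists_irr_of_coef
    (setup_ext2 (odd_sup h) (u_not_mem h (odd_sup h))) (equivFix h) l
    (ψ := fun x => ψ x) (Core.isCharacter_comp (Subgroup.subtype _) hψ) (by
      simp only [equivFix_coe]
      exact h0)
  simp only [equivFix_coe] at hσ'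
  exact ⟨ζ, χ, hζ, hχ, fun x => congrFun hadd x, σ, hσ, hσ'⟩

/-- Uniqueness of the linear character when `ψ` is irreducible on `K`. -/
theorem unique_of_irr (h : Loc K e u) {ψ : Γ → ℂ} (hψ : IsCharacter Γ ψ)
    (hK : IsIrrCharacter K (fun k => ψ k)) (l l' : W →* ℂˣ)
    (h0 : coef (fun y : W => u * e y) (fun y => (l y : ℂ)) ψ ≠ 0)
    (h1 : coef (fun y : W => u * e y) (fun y => (l' y : ℂ)) ψ ≠ 0) : l = l' := by
  have key : ∀ m : W →* ℂˣ, coef (fun y : W => u * e y) (fun y => (m y : ℂ)) ψ ≠ 0 →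
      ∃ σ : ℂ, (σ = 1 ∨ σ = -1) ∧ ∀ y : W, ψ (u * e y) = σ * m y := by
    intro m hm
    obtain ⟨ζ, χ, hζ, hχ, hadd, σ, hσ, hσ'⟩ := exists_irr_sup h hψ m hm
    refine ⟨σ, hσ, fun y => ?_⟩
    have h2 : χ = 0 := by
      refine eq_zero_of_apply_one hχ ?_
      have hle : K ≤ ext2 (K ⊔ e.range) u h.sq (conj_mem_sup h) := le_sup_left.trans le_ext2
      rcases eq_zero_of_irr_add hK
        (α := fun k : K => ζ (Subgroup.inclusion hle k))
        (β := fun k : K => χ (Subgroup.inclusion hle k))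
        (Core.isCharacter_comp (Subgroup.inclusion hle) (Core.isIrr_isCharacter hζ))
        (Core.isCharacter_comp (Subgroup.inclusion hle) hχ)
        (funext fun k => hadd (Subgroup.inclusion hle k)) with h3 | h3
      · exfalso
        exact Core.isIrr_apply_one_ne_zero hζ (congrFun h3 1)
      · exact congrFun h3 1
    have h3 := hadd (⟨u, s_mem_ext2⟩ * ⟨e y, e_mem h y⟩)
    rw [hσ' y, h2, Pi.zero_apply, add_zero] at h3
    exact h3
  obtain ⟨σ, hσ, hl⟩ := key l h0
  obtain ⟨σ', hσ', hl'⟩ := key l' h1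
  have h2 : σ = σ' := by
    have h3 := hl 1
    rw [hl' 1, map_one, map_one] at h3
    simpa using h3.symm
  ext y
  have h3 := hl y
  rw [hl' y, ← h2] at h3
  have hσ0 : σ ≠ 0 := by
    rcases hσ with h4 | h4 <;> rw [h4] <;> norm_num
  exact (mul_left_cancel₀ hσ0 h3).symm

/-- The group `K ⟨u⟩`. -/
abbrev KU (h : Loc K e u) : Subgroup Γ := ext2 K u h.sq (conj_mem_K h)

/-- The involution `u` as an element of `K ⟨u⟩`. -/
abbrev uKU (h : Loc K e u) : KU h := ⟨u, s_mem_ext2⟩

/-- The elements of `K` fixed by `u`. -/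
abbrev FixKU (h : Loc K e u) : Subgroup (KU h) := Fix (K.subgroupOf (KU h)) (uKU h)

theorem mem_range_of_fix (h : Loc K e u) (x : FixKU h) : ((x : KU h) : Γ) ∈ e.range := by
  obtain ⟨h1, h2⟩ := mem_fix.1 x.2
  exact h.fix _ h1 (congrArg Subtype.val h2.eq)

/-- The elements of `K` fixed by `u`, as elements of `W`. -/
noncomputable def toW (h : Loc K e u) : FixKU h →* W :=
  (MonoidHom.ofInjective h.inj).symm.toMonoidHom.comp
    (((KU h).subtype.comp (FixKU h).subtype).codRestrict e.range (mem_range_of_fix h))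

theorem e_toW (h : Loc K e u) (x : FixKU h) : e (toW h x) = ((x : KU h) : Γ) := by
  have h1 := (MonoidHom.ofInjective h.inj).apply_symm_apply
    ((((KU h).subtype.comp (FixKU h).subtype).codRestrict e.range (mem_range_of_fix h)) x)
  exact congrArg Subtype.val h1

theorem conj_mem_ext (h : Loc K e u) (y : W) (x : Γ) (hx : x ∈ KU h) :
    e y * x * (e y)⁻¹ ∈ KU h := by
  rcases hx with hx | hx
  · exact Or.inl (h.normal.conj_mem x hx (e y))
  · right
    have h1 := h.normal.conj_mem _ hx (e y)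
    have h2 : e y * (u * x) * (e y)⁻¹ = u * (e y * x * (e y)⁻¹) := by
      calc e y * (u * x) * (e y)⁻¹ = (e y * u) * x * (e y)⁻¹ := by group
        _ = (u * e y) * x * (e y)⁻¹ := by rw [(h.comm y).eq]
        _ = _ := by group
    rwa [h2] at h1

/-- Conjugation by `e y` on `K ⟨u⟩`. -/
def conjExt (h : Loc K e u) (y : W) :
    KU h →* KU h where
  toFun x := ⟨e y * x * (e y)⁻¹, conj_mem_ext h y x x.2⟩
  map_one' := Subtype.ext (by
    show e y * 1 * (e y)⁻¹ = 1
    group)
  map_mul' a b := Subtype.ext (by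
    show e y * (a * b) * (e y)⁻¹ = e y * a * (e y)⁻¹ * (e y * b * (e y)⁻¹)
    group)

theorem conjExt_surjective (h : Loc K e u) (y : W) : Function.Surjective (conjExt h y) := by
  intro x
  refine ⟨conjExt h y⁻¹ x, Subtype.ext ?_⟩
  show e y * (e y⁻¹ * x * (e y⁻¹)⁻¹) * (e y)⁻¹ = x
  rw [map_inv]
  group

/-- The invariant constituent over `K`. -/
theorem exists_invariant (h : Loc K e u) {ψ : Γ → ℂ} (hψ : IsCharacter Γ ψ) (l : W →* ℂˣ)
    (h0 : coef (fun y : W => u * e y) (fun y => (l y : ℂ)) ψ ≠ 0) :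
    ∃ lam χ : K → ℂ, IsIrrCharacter K lam ∧ IsCharacter K χ ∧ (∀ k : K, ψ k = lam k + χ k) ∧
      (∀ k : K, lam ⟨u * k * u⁻¹, h.normal.conj_mem k k.2 u⟩ = lam k) ∧
      (∀ (y : W) (k : K), lam ⟨e y * k * (e y)⁻¹, h.normal.conj_mem k k.2 (e y)⟩ = lam k) := by
  classical
  obtain ⟨ζ, χ, hζ, hχ, hadd, σ, hσ, hσ'⟩ := exists_irr_sup h hψ l h0
  have hle : KU h ≤ ext2 (K ⊔ e.range) u h.sq (conj_mem_sup h) := by
    rintro x (hx | hx)
    · exact Or.inl (Subgroup.mem_sup_left hx)
    · exact Or.inr (Subgroup.mem_sup_left hx)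
  have hset := setup_ext2 (hs := h.sq) (hn := conj_mem_K h) h.oddK (u_not_mem h h.oddK)
  let _ : Fintype (FixKU h) := Fintype.ofFinite _
  have hσ0 : σ ≠ 0 := by
    rcases hσ with h4 | h4 <;> rw [h4] <;> norm_num
  have hval : ∀ x : FixKU h,
      ζ (Subgroup.inclusion hle (⟨u, s_mem_ext2⟩ * x)) = σ * l (toW h x) := by
    intro x
    rw [← hσ' (toW h x)]
    congr 1
    apply Subtype.ext
    show u * ((x : KU h) : Γ) = u * e (toW h x)
    rw [e_toW]
  have hcoef : coef (fun x : FixKU h =>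
        uKU h *
          ((MulEquiv.refl _ x : FixKU h) : KU h))
      (fun x => ((l.comp (toW h)) x : ℂ)) (fun x => ζ (Subgroup.inclusion hle x)) ≠ 0 := by
    rw [coef_apply]
    have h1 : (fun x : FixKU h =>
        ζ (Subgroup.inclusion hle (uKU h *
          ((MulEquiv.refl _ x : FixKU h) : KU h)))) =
        σ • fun x => ((l.comp (toW h)) x : ℂ) := by
      funext x
      rw [Pi.smul_apply, smul_eq_mul, MulEquiv.refl_apply, hval]
      rfl
    rw [h1, Core.classInner_smul_left, Core.classInner_irr_self (Linear.isIrrCharacter_hom _),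
      mul_one]
    exact hσ0
  obtain ⟨ξ, χ', hξ, hχ', hadd', hξK, τ, hτ, hτ'⟩ := exists_irr_of_coef hset (MulEquiv.refl _)
    (l.comp (toW h)) (ψ := fun x => ζ (Subgroup.inclusion hle x))
    (Core.isCharacter_comp (Subgroup.inclusion hle) (Core.isIrr_isCharacter hζ)) hcoef
  have hτ0 : τ ≠ 0 := by
    rcases hτ with h4 | h4 <;> rw [h4] <;> norm_num
  have hKle : K ≤ KU h := le_ext2
  let f : K ≃* K.subgroupOf (KU h) :=
    (Subgroup.subgroupOfEquivOfLe hKle).symm
  have hf : ∀ k : K, ((f k : KU h)) = Subgroup.inclusion hKle k :=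
    fun k => rfl
  refine ⟨fun k => ξ (Subgroup.inclusion hKle k),
    fun k => χ' (Subgroup.inclusion hKle k) + χ (Subgroup.inclusion (hKle.trans hle) k),
    Core.isIrr_comp f.toMonoidHom f.surjective hξK,
    Core.isCharacter_add (Core.isCharacter_comp (Subgroup.inclusion hKle) hχ')
      (Core.isCharacter_comp (Subgroup.inclusion (hKle.trans hle)) hχ), ?_, ?_, ?_⟩
  · intro k
    have h1 := hadd (Subgroup.inclusion (hKle.trans hle) k)
    have h2 := congrFun hadd' (Subgroup.inclusion hKle k)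
    have h3 : ζ (Subgroup.inclusion hle (Subgroup.inclusion hKle k)) =
      ζ (Subgroup.inclusion (hKle.trans hle) k) := rfl
    rw [Pi.add_apply] at h2
    rw [← add_assoc, ← h2, h3, ← h1]
    rfl
  · intro k
    exact Core.isIrr_isClassFunction hξ (Subgroup.inclusion hKle k) ⟨u, s_mem_ext2⟩
  · intro y k
    have hξ' : IsIrrCharacter _ (ξ ∘ conjExt h y) :=
      Core.isIrr_comp (conjExt h y) (conjExt_surjective h y) hξ
    have hmem : ∀ x : FixKU h, conjExt h y x ∈
        FixKU h := by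
      intro x
      obtain ⟨h1, h2⟩ := mem_fix.1 x.2
      refine mem_fix.2 ⟨?_, Subtype.ext ?_⟩
      · exact h.normal.conj_mem _ h1 (e y)
      · have h3 : Commute u ((x : KU h) : Γ) := congrArg Subtype.val h2.eq
        exact (((h.comm y).mul_right h3).mul_right (h.comm y).inv_right).eq
    have h1 : ∀ x : FixKU h,
        (ξ ∘ conjExt h y) (⟨u, s_mem_ext2⟩ * x) = ξ (⟨u, s_mem_ext2⟩ * x) := by
      intro x
      have h2 := hτ' (⟨conjExt h y x, hmem x⟩)
      have h3 := hτ' x
      rw [MulEquiv.refl_apply] at h2 h3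
      have h4 : conjExt h y (⟨u, s_mem_ext2⟩ * x) = ⟨u, s_mem_ext2⟩ * conjExt h y x := by
        rw [map_mul]
        congr 1
        apply Subtype.ext
        show e y * u * (e y)⁻¹ = u
        rw [← (h.comm y).eq, mul_inv_cancel_right]
      have h5 : toW h (⟨conjExt h y x, hmem x⟩) = y * toW h x * y⁻¹ := by
        apply h.inj
        rw [e_toW, map_mul, map_mul, map_inv, e_toW]
        rfl
      show ξ (conjExt h y (⟨u, s_mem_ext2⟩ * x)) = _
      rw [h4, h3]
      refine h2.trans ?_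
      rw [MonoidHom.comp_apply, MonoidHom.comp_apply, h5, map_mul, map_mul, map_inv,
        mul_comm (l y), mul_inv_cancel_right]
    have h2 : classInner (fun x : FixKU h => ξ (⟨u, s_mem_ext2⟩ * x))
        (fun x : FixKU h =>
          (ξ ∘ conjExt h y) (⟨u, s_mem_ext2⟩ * x)) ≠ 0 := by
      have h3 : (fun x : FixKU h => ξ (⟨u, s_mem_ext2⟩ * x)) =
          τ • fun x => ((l.comp (toW h)) x : ℂ) := by
        funext x
        rw [Pi.smul_apply, smul_eq_mul]
        exact hτ' x
      rw [funext h1, h3, Core.classInner_smul_left, Core.classInner_smul_right,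
        Core.classInner_irr_self (Linear.isIrrCharacter_hom _), mul_one]
      exact mul_ne_zero hτ0 ((map_ne_zero _).2 hτ0)
    exact (restrict_eq_of_inner_ne_zero hset hξ hξ' h2 (f k)).symm

end Loc

end Cfsg.Agent.Classification.QDW.Coef
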