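import Mathlib
import Cfsg.Prelude.Def_Characters
import Cfsg.Agent.Characters.Core
import Cfsg.Agent.Characters.Clifford
import Cfsg.Agent.Characters.Values
import Cfsg.Agent.Classification.QDW.Coef

/-!
# Stabilizers of characters of normal subgroups

* `stab K lam`: the stabilizer in `C` of a function on the normal subgroup `K`;
* `exists_mult`: `ψ` irreducible over a `C`-invariant `lam` is `d lam` on `K`;
* `index_mul_le`: the degree of a character over `lam` is at least `|C : stab lam| lam(1)`;
* `exists_mult_of_add`: if `α + β = d lam` then `α` is a multiple of `lam`;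
* `kerSub χ`: the kernel of a character.
-/

set_option autoImplicit false
set_option linter.unusedSectionVars false

namespace Cfsg.Agent.Classification.QDW.Inertia

open Cfsg Cfsg.Agent.Characters Cfsg.Agent.Classification.QDW.Coef
open scoped ComplexConjugate

universe u v

section Stab

variable {C : Type u} [Group C]

/-- The stabilizer of a function on a normal subgroup. -/
def stab (K : Subgroup C) [hN : K.Normal] (lam : K → ℂ) : Subgroup C where
  carrier := {g | ∀ k : K, lam ⟨g * k * g⁻¹, hN.conj_mem k k.2 g⟩ = lam k}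
  one_mem' := by
    intro k
    congr 1
    apply Subtype.ext
    show 1 * (k : C) * 1⁻¹ = k
    group
  mul_mem' := by
    intro a b ha hb k
    rw [← hb k, ← ha ⟨b * k * b⁻¹, hN.conj_mem k k.2 b⟩]
    congr 1
    apply Subtype.ext
    show a * b * (k : C) * (a * b)⁻¹ = a * (b * k * b⁻¹) * a⁻¹
    group
  inv_mem' := by
    intro a ha k
    have h1 := ha ⟨a⁻¹ * k * a⁻¹⁻¹, hN.conj_mem k k.2 a⁻¹⟩
    rw [← h1]
    congr 1
    apply Subtype.ext
    show a * (a⁻¹ * (k : C) * a⁻¹⁻¹) * a⁻¹ = k
    group

variable {K : Subgroup C} [hN : K.Normal] {lam : K → ℂ}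

theorem mem_stab {g : C} :
    g ∈ stab K lam ↔ ∀ k : K, lam ⟨g * k * g⁻¹, hN.conj_mem k k.2 g⟩ = lam k := Iff.rfl

theorem le_stab (h : IsClassFunction K lam) : K ≤ stab K lam := by
  intro g hg k
  exact h k ⟨g, hg⟩

theorem center_le_stab {t : C} (ht : ∀ x, Commute t x) : t ∈ stab K lam := by
  intro k
  congr 1
  apply Subtype.ext
  show t * (k : C) * t⁻¹ = k
  rw [(ht k).eq, mul_inv_cancel_right]

end Stab

section Mult

variable {C : Type u} [Group C] [Finite C]

/-- A summand of a multiple of an irreducible character is a multiple of it. -/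
theorem exists_mult_of_add {lam α β : C → ℂ} (hlam : IsIrrCharacter C lam)
    (hα : IsCharacter C α) (hβ : IsCharacter C β) {d : ℕ} (h : ∀ x, α x + β x = d * lam x) :
    ∃ m : ℕ, ∀ x, α x = m * lam x := by
  classical
  let _ : Fintype C := Fintype.ofFinite _
  have := Core.finite_irr (G := C)
  let _ : Fintype (IrrCharacter C) := Fintype.ofFinite _
  obtain ⟨m, hm⟩ := Core.exists_nat_comb hα
  obtain ⟨n, hn⟩ := Core.exists_nat_comb hβ
  have h1 : ∀ χ : IrrCharacter C, (χ : C → ℂ) ≠ lam → m χ = 0 := by
    intro χ hne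
    have h2 : classInner (α + β) (χ : C → ℂ) = 0 := by
      have h3 : α + β = (d : ℂ) • lam := funext fun x => by
        rw [Pi.add_apply, h, Pi.smul_apply, smul_eq_mul]
      rw [h3, Core.classInner_smul_left, Core.classInner_irr_ne hlam χ.2 (Ne.symm hne), mul_zero]
    rw [Core.classInner_add_left, hm, hn, Core.classInner_sum_nsmul_irr,
      Core.classInner_sum_nsmul_irr] at h2
    have h3 : m χ + n χ = 0 := by exact_mod_cast h2
    omega
  refine ⟨m ⟨lam, hlam⟩, fun x => ?_⟩
  rw [hm, Finset.sum_apply, Finset.sum_eq_single ⟨lam, hlam⟩]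
  · rw [Pi.smul_apply, nsmul_eq_mul]
  · intro χ _ hne
    rw [h1 χ (fun h2 => hne (Subtype.ext h2)), zero_smul, Pi.zero_apply]
  · intro h2
    exact absurd (Finset.mem_univ _) h2

/-- A summand of an irreducible character. -/
theorem eq_of_mult {lam α : C → ℂ} (hlam : IsIrrCharacter C lam) (hα : IsIrrCharacter C α)
    {m : ℕ} (h : ∀ x, α x = m * lam x) : α = lam := by
  classical
  let _ : Fintype C := Fintype.ofFinite _
  by_contra hne
  have h1 := Core.classInner_irr_ne hα hlam hne
  have h2 : α = (m : ℂ) • lam := funext fun x => by rw [h, Pi.smul_apply, smul_eq_mul]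
  rw [h2, Core.classInner_smul_left, Core.classInner_irr_self hlam, mul_one] at h1
  have h3 := h 1
  rw [h1, zero_mul] at h3
  exact Core.isIrr_apply_one_ne_zero hα h3

/-- A character whose restriction to a subgroup is irreducible is irreducible. -/
theorem irr_of_comp_irr {H : Type v} [Group H] [Finite H] (f : H →* C) {α : C → ℂ}
    (hα : IsCharacter C α) (h : IsIrrCharacter H (fun x => α (f x))) : IsIrrCharacter C α := by
  have h1 : α 1 ≠ 0 := by
    have := Core.isIrr_apply_one_ne_zero h
    rwa [map_one] at this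
  obtain ⟨ζ, χ, hζ, hχ, hadd, -⟩ := exists_constituent (LinearMap.proj (1 : C)) hα h1
  rcases eq_zero_of_irr_add h (α := fun x => ζ (f x)) (β := fun x => χ (f x))
    (Core.isCharacter_comp f (Core.isIrr_isCharacter hζ)) (Core.isCharacter_comp f hχ)
    (by rw [hadd]; rfl) with h2 | h2
  · exfalso
    have := congrFun h2 1
    simp only [map_one, Pi.zero_apply] at this
    exact Core.isIrr_apply_one_ne_zero hζ this
  · have h3 : χ = 0 := by
      refine eq_zero_of_apply_one hχ ?_
      have := congrFun h2 1
      simpa only [map_one, Pi.zero_apply] using this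
    rw [hadd, h3, add_zero]
    exact hζ

/-- An irreducible character over an invariant irreducible character of a normal subgroup. -/
theorem exists_mult {K : Subgroup C} [hN : K.Normal] {lam χ : K → ℂ}
    (hlam : IsIrrCharacter K lam) (hinv : stab K lam = ⊤) {ψ : C → ℂ} (hψ : IsIrrCharacter C ψ)
    (hχ : IsCharacter K χ) (h : ∀ k : K, ψ k = lam k + χ k) :
    ∃ d : ℕ, 1 ≤ d ∧ ∀ k : K, ψ k = d * lam k := by
  classical
  let _ : Fintype C := Fintype.ofFinite _
  let _ : Fintype K := Fintype.ofFinite _
  have := Core.finite_irr (G := K)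
  let _ : Fintype (IrrCharacter K) := Fintype.ofFinite _
  have hres : (fun k : K => ψ k) = lam + χ := funext h
  have hcl : classInner (fun k : K => ψ k) lam ≠ 0 := by
    rw [hres, Core.classInner_add_left, Core.classInner_irr_self hlam]
    obtain ⟨n, hn⟩ := Core.classInner_isNat hχ (Core.isIrr_isCharacter hlam)
    rw [hn]
    intro h1
    have h2 : (1 : ℂ) + n = ((1 + n : ℕ) : ℂ) := by push_cast; rfl
    rw [h2, Nat.cast_eq_zero] at h1
    omega
  obtain ⟨m, hm⟩ := Core.exists_nat_comb
    (Clifford.isCharacter_restrict K (Core.isIrr_isCharacter hψ))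
  have h1 : ∀ β : IrrCharacter K, (β : K → ℂ) ≠ lam → m β = 0 := by
    intro β hne
    by_contra h2
    have h3 : classInner (fun k : K => ψ k) (β : K → ℂ) ≠ 0 := by
      rw [hm, Core.classInner_sum_nsmul_irr]
      exact Nat.cast_ne_zero.2 h2
    obtain ⟨g, hg⟩ := Clifford.exists_conj_of_constituents K hψ hlam β.2 hcl h3
    refine hne ?_
    rw [hg]
    funext k
    have h4 : g ∈ stab K lam := by rw [hinv]; exact Subgroup.mem_top g
    exact (mem_stab.1 h4 k)
  have h2 : ∀ k : K, ψ k = m ⟨lam, hlam⟩ * lam k := by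
    intro k
    have h3 := congrFun hm k
    rw [h3, Finset.sum_apply, Finset.sum_eq_single ⟨lam, hlam⟩]
    · rw [Pi.smul_apply, nsmul_eq_mul]
    · intro χ _ hne
      rw [h1 χ (fun h2 => hne (Subtype.ext h2)), zero_smul, Pi.zero_apply]
    · intro h2
      exact absurd (Finset.mem_univ _) h2
  refine ⟨m ⟨lam, hlam⟩, ?_, h2⟩
  rw [Nat.one_le_iff_ne_zero]
  intro h3
  have h4 := h2 1
  rw [h3, Nat.cast_zero, zero_mul] at h4
  exact Core.isIrr_apply_one_ne_zero hψ h4

/-- The degree of a character over `lam`. -/
theorem index_mul_le {K : Subgroup C} [hN : K.Normal] {lam χ : K → ℂ}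
    (hlam : IsIrrCharacter K lam) {ψ : C → ℂ} (hψ : IsCharacter C ψ)
    (hχ : IsCharacter K χ) (h : ∀ k : K, ψ k = lam k + χ k) {a b : ℕ} (ha : lam 1 = a)
    (hb : ψ 1 = b) : (stab K lam).index * a ≤ b := by
  classical
  let _ : Fintype C := Fintype.ofFinite _
  let _ : Fintype K := Fintype.ofFinite _
  have := Core.finite_irr (G := K)
  let _ : Fintype (IrrCharacter K) := Fintype.ofFinite _
  have hres : (fun k : K => ψ k) = lam + χ := funext h
  have hcl : classInner (fun k : K => ψ k) lam ≠ 0 := by
    rw [hres, Core.classInner_add_left, Core.classInner_irr_self hlam]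
    obtain ⟨n, hn⟩ := Core.classInner_isNat hχ (Core.isIrr_isCharacter hlam)
    rw [hn]
    intro h1
    have h2 : (1 : ℂ) + n = ((1 + n : ℕ) : ℂ) := by push_cast; rfl
    rw [h2, Nat.cast_eq_zero] at h1
    omega
  obtain ⟨m, hm⟩ := Core.exists_nat_comb (Clifford.isCharacter_restrict K hψ)
  -- the conjugates
  let q : C ⧸ stab K lam → IrrCharacter K := Quotient.lift
    (fun g : C => (⟨lam ∘ (MulAut.conjNormal g⁻¹ : MulAut K),
      Clifford.isIrr_conjNormal hlam g⁻¹⟩ : IrrCharacter K)) (by
        intro g g' hgg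
        have h1 : g⁻¹ * g' ∈ stab K lam := QuotientGroup.leftRel_apply.1 hgg
        apply Subtype.ext
        funext k
        show lam (MulAut.conjNormal g⁻¹ k) = lam (MulAut.conjNormal g'⁻¹ k)
        rw [← mem_stab.1 h1 (MulAut.conjNormal g'⁻¹ k)]
        congr 1
        apply Subtype.ext
        simp only [MulAut.conjNormal_apply]
        group)
  have hqinj : Function.Injective q := by
    intro x y hxy
    induction x using QuotientGroup.induction_on with
    | H g =>
      induction y using QuotientGroup.induction_on with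
      | H g' =>
        rw [QuotientGroup.eq]
        intro k
        have h1 : ∀ k : K, lam (MulAut.conjNormal g⁻¹ k) = lam (MulAut.conjNormal g'⁻¹ k) :=
          fun k => congrFun (congrArg Subtype.val hxy) k
        have h2 := h1 (MulAut.conjNormal g' k)
        have h3 : MulAut.conjNormal g'⁻¹ (MulAut.conjNormal g' k) = k := by
          apply Subtype.ext
          simp only [MulAut.conjNormal_apply]
          group
        rw [h3] at h2
        rw [← h2]
        congr 1
        apply Subtype.ext
        simp only [MulAut.conjNormal_apply]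
        group
  have hq1 : ∀ x, (q x : K → ℂ) 1 = a := by
    intro x
    induction x using QuotientGroup.induction_on with
    | H g =>
      show lam (MulAut.conjNormal g⁻¹ 1) = a
      rw [map_one, ha]
  have hqm : ∀ x, 1 ≤ m (q x) := by
    intro x
    induction x using QuotientGroup.induction_on with
    | H g =>
      have h1 : classInner (fun k : K => ψ k) (q (g : C ⧸ stab K lam) : K → ℂ) ≠ 0 := by
        show classInner (fun k : K => ψ k) (lam ∘ (MulAut.conjNormal g⁻¹ : MulAut K)) ≠ 0
        rw [Clifford.classInner_restrict_conjNormal (Core.isCharacter_isClassFunction hψ)]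
        exact hcl
      rw [hm, Core.classInner_sum_nsmul_irr] at h1
      exact Nat.one_le_iff_ne_zero.2 (Nat.cast_ne_zero.1 h1)
  choose dg hdg using fun β : IrrCharacter K => Core.isCharacter_apply_one (Core.isIrr_isCharacter β.2)
  have hb' : b = ∑ β : IrrCharacter K, m β * dg β := by
    have h1 := congrFun hm 1
    have h2 : ψ ((1 : K) : C) = b := hb
    rw [h2, Finset.sum_apply] at h1
    have h3 : ((∑ β : IrrCharacter K, m β * dg β : ℕ) : ℂ) = b := by
      rw [h1]
      push_cast
      refine Finset.sum_congr rfl fun β _ => ?_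
      rw [Pi.smul_apply, nsmul_eq_mul, hdg]
    exact_mod_cast h3.symm
  have hqd : ∀ x, dg (q x) = a := by
    intro x
    have h1 := hq1 x
    rw [hdg] at h1
    exact_mod_cast h1
  let _ : Fintype (C ⧸ stab K lam) := Fintype.ofFinite _
  calc (stab K lam).index * a = ∑ _x : C ⧸ stab K lam, a := by
        rw [Finset.sum_const, Finset.card_univ, smul_eq_mul, ← Nat.card_eq_fintype_card]
        rfl
    _ ≤ ∑ x : C ⧸ stab K lam, m (q x) * dg (q x) := by
        refine Finset.sum_le_sum fun x _ => ?_
        rw [hqd]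
        exact Nat.le_mul_of_pos_left _ (hqm x)
    _ = ∑ β ∈ Finset.univ.image q, m β * dg β := by
        rw [Finset.sum_image fun x _ y _ hxy => hqinj hxy]
    _ ≤ ∑ β : IrrCharacter K, m β * dg β :=
        Finset.sum_le_sum_of_subset (Finset.subset_univ _)
    _ = b := hb'.symm

end Mult

section Kernel

variable {C : Type u} [Group C] [Finite C]

/-- Elements of the kernel act trivially. -/
theorem mul_left_of_ker {χ : C → ℂ} (hχ : IsCharacter C χ) {a : C} (ha : χ a = χ 1) (g : C) :
    χ (a * g) = χ g := by
  obtain ⟨n, ρ, rfl⟩ := hχ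
  have h1 : ρ a = 1 := (Values.character_eq_finrank_iff ρ a).mp (by
      rw [ha, Representation.char_one])
  show LinearMap.trace ℂ _ (ρ (a * g)) = LinearMap.trace ℂ _ (ρ g)
  rw [map_mul, h1, one_mul]

/-- The kernel of a character. -/
def kerSub {χ : C → ℂ} (hχ : IsCharacter C χ) : Subgroup C where
  carrier := {g | χ g = χ 1}
  one_mem' := rfl
  mul_mem' := by
    intro a b ha hb
    show χ (a * b) = χ 1
    rw [mul_left_of_ker hχ ha, hb]
  inv_mem' := by
    intro a ha
    show χ a⁻¹ = χ 1
    have h1 := mul_left_of_ker hχ ha a⁻¹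
    rw [mul_inv_cancel] at h1
    exact h1.symm

theorem mem_kerSub {χ : C → ℂ} {hχ : IsCharacter C χ} {g : C} : g ∈ kerSub hχ ↔ χ g = χ 1 :=
  Iff.rfl

theorem kerSub_normal {χ : C → ℂ} (hχ : IsCharacter C χ) : (kerSub hχ).Normal := by
  constructor
  intro n hn g
  show χ (g * n * g⁻¹) = χ 1
  rw [Core.isCharacter_isClassFunction hχ]
  exact hn

/-- If the average of a character over a set equals its degree, the set is in the kernel. -/
theorem eq_of_avg {χ : C → ℂ} (hχ : IsCharacter C χ) {ι : Type v} [Fintype ι] [Nonempty ι]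
    (f : ι → C) (h : ∑ i, χ (f i) = (Fintype.card ι : ℂ) * χ 1) (i : ι) : χ (f i) = χ 1 := by
  obtain ⟨n, ρ, rfl⟩ := hχ
  have hle : ∀ i, (ρ.character (f i)).re ≤ (ρ.character 1).re := by
    intro i
    rw [Representation.char_one, Complex.natCast_re]
    exact (Complex.re_le_norm _).trans (Values.norm_character_le ρ (f i))
  have hsum : ∑ i, (ρ.character (f i)).re = ∑ _i : ι, (ρ.character 1).re := by
    have h1 := congrArg Complex.re h
    rw [Complex.re_sum] at h1
    rw [h1, Finset.sum_const, nsmul_eq_mul, Finset.card_univ, Representation.char_one]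
    simp
  have h2 := (Finset.sum_eq_sum_iff_of_le fun i _ => hle i).1 hsum i (Finset.mem_univ i)
  have h3 := Values.norm_character_le ρ (f i)
  rw [Representation.char_one] at h2 ⊢
  rw [Complex.natCast_re] at h2
  set z := ρ.character (f i) with hz
  have h4 : z.im = 0 := by
    have h5 := Complex.sq_norm z
    rw [Complex.normSq_apply, h2] at h5
    have h6 : ‖z‖ ^ 2 ≤ (Module.finrank ℂ (Fin n → ℂ) : ℝ) ^ 2 :=
      pow_le_pow_left₀ (norm_nonneg _) h3 2
    nlinarith
  exact Complex.ext (by rw [h2, Complex.natCast_re]) (by rw [h4, Complex.natCast_im])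

end Kernel

end Cfsg.Agent.Classification.QDW.Inertia
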