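import Mathlib
import Cfsg.Prelude.Def_Characters
import Cfsg.Agent.Characters.Core
import Cfsg.Agent.Characters.Linear
import Cfsg.Agent.Classification.QDW.Coef

/-!
# The norm of an irreducible character along a coset `u W`

`C` has a subgroup `L` of index `2`, `u` is an involution outside `L` whose centralizer has order
`4 |W|`, where `W` is an odd group centralized by `u`. For `ψ` irreducible the function
`y ↦ ψ (u y)` on `W` is a generalized character of norm at most `2` (`exists_int_coef`).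
-/

set_option autoImplicit false
set_option linter.unusedSectionVars false

namespace Cfsg.Agent.Classification.QDW.NormBound

open Cfsg Cfsg.Agent.Characters Cfsg.Agent.Classification.BGOrder
open Cfsg.Agent.Classification.QDW.GlauberTwo Cfsg.Agent.Classification.QDW.Coef
open scoped ComplexConjugate

universe u v

section Sign

variable {C : Type u} [Group C] [Finite C] {L : Subgroup C}

theorem sgn_mul_of_index (hL : L.index = 2) (x y : C) : sgn L (x * y) = sgn L x * sgn L y := by
  have h2 := Subgroup.mul_mem_iff_of_index_two hL (a := x) (b := y)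
  by_cases hx : x ∈ L <;> by_cases hy : y ∈ L
  · rw [sgn_of_mem hx, sgn_of_mem hy, sgn_of_mem (L.mul_mem hx hy), one_mul]
  · rw [sgn_of_mem hx, sgn_of_not_mem hy, sgn_of_not_mem (fun h3 => hy ((h2.1 h3).1 hx)), one_mul]
  · rw [sgn_of_not_mem hx, sgn_of_mem hy, sgn_of_not_mem (fun h3 => hx ((h2.1 h3).2 hy)), mul_one]
  · rw [sgn_of_not_mem hx, sgn_of_not_mem hy, sgn_of_mem (h2.2 (iff_of_false hx hy))]
    norm_num

theorem conj_sgn (x : C) : conj (sgn L x) = sgn L x := by
  by_cases hx : x ∈ L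
  · rw [sgn_of_mem hx, map_one]
  · rw [sgn_of_not_mem hx, map_neg, map_one]

theorem isIrr_sgn_of_index (hL : L.index = 2) : IsIrrCharacter C (sgn L) := by
  let ρ : Representation ℂ C ℂ :=
    { toFun := fun x => sgn L x • (1 : Module.End ℂ ℂ)
      map_one' := by rw [sgn_of_mem L.one_mem, one_smul]
      map_mul' := fun x y => by
        rw [sgn_mul_of_index hL, smul_mul_smul_comm, one_mul] }
  have h1 : ρ.character = sgn L := by
    funext x
    show LinearMap.trace ℂ ℂ (sgn L x • (1 : Module.End ℂ ℂ)) = _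
    rw [map_smul]
    simp
  rw [← h1]
  exact Core.isIrrCharacter_of_rep ρ (Core.isIrr_of_finrank_one (Module.finrank_self ℂ) ρ)

theorem isIrr_mul_sgn_of_index (hL : L.index = 2) {ψ : C → ℂ} (hψ : IsIrrCharacter C ψ) :
    IsIrrCharacter C (ψ * sgn L) := by
  classical
  let _ : Fintype C := Fintype.ofFinite _
  refine Core.isIrr_of_classInner_self (Core.isCharacter_mul (Core.isIrr_isCharacter hψ)
    (Core.isIrr_isCharacter (isIrr_sgn_of_index hL))) ?_
  rw [← Core.classInner_irr_self hψ]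
  simp only [Core.classInner_def, Pi.mul_apply, map_mul]
  congr 1
  refine Finset.sum_congr rfl fun x _ => ?_
  rw [conj_sgn]
  linear_combination (ψ x * conj (ψ x)) * sgn_mul_self (Y := L) x

open scoped Classical in
/-- Half of the group order bounds the sum over the complement. -/
theorem sum_off_le [Fintype C] (hL : L.index = 2) {ψ : C → ℂ} (hψ : IsIrrCharacter C ψ) :
    ∑ x : C, (if x ∈ L then 0 else ‖ψ x‖ ^ 2) ≤ (Nat.card C : ℝ) / 2 := by
  have hC0 : (Nat.card C : ℂ) ≠ 0 := Core.card_ne_zero_complex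
  have h1 : classInner ψ ψ - classInner ψ (ψ * sgn L) =
      (((Nat.card C : ℝ)⁻¹ * (2 * ∑ x : C, (if x ∈ L then 0 else ‖ψ x‖ ^ 2)) : ℝ) : ℂ) := by
    rw [Core.classInner_def, Core.classInner_def, ← mul_sub, ← Finset.sum_sub_distrib,
      Complex.ofReal_mul, Complex.ofReal_inv, Complex.ofReal_natCast, Complex.ofReal_mul,
      Complex.ofReal_sum]
    congr 1
    rw [Finset.mul_sum]
    refine Finset.sum_congr rfl fun x _ => ?_
    rw [Pi.mul_apply, map_mul, conj_sgn]
    by_cases hx : x ∈ L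
    · rw [sgn_of_mem hx, if_pos hx]
      push_cast
      ring
    · rw [sgn_of_not_mem hx, if_neg hx]
      have h2 : ψ x * conj (ψ x) = ((‖ψ x‖ : ℝ) : ℂ) ^ 2 := by
        rw [Complex.mul_conj, Complex.normSq_eq_norm_sq]
        push_cast
        rfl
      push_cast
      linear_combination 2 * h2
  have hC1 : (0 : ℝ) < Nat.card C := by exact_mod_cast Nat.card_pos
  rw [Core.classInner_irr_self hψ] at h1
  by_cases heq : ψ = ψ * sgn L
  · have h2 : ∀ x : C, (if x ∈ L then (0 : ℝ) else ‖ψ x‖ ^ 2) = 0 := by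
      intro x
      by_cases hx : x ∈ L
      · rw [if_pos hx]
      · rw [if_neg hx]
        have h3 := congrFun heq x
        rw [Pi.mul_apply, sgn_of_not_mem hx] at h3
        have h4 : ψ x = 0 := by linear_combination h3 / 2
        rw [h4, norm_zero]
        norm_num
    rw [Finset.sum_eq_zero fun x _ => h2 x]
    positivity
  · rw [Core.classInner_irr_ne hψ (isIrr_mul_sgn_of_index hL hψ) heq, sub_zero] at h1
    have h2 : (1 : ℝ) = (Nat.card C : ℝ)⁻¹ *
        (2 * (∑ x : C, (if x ∈ L then 0 else ‖ψ x‖ ^ 2) : ℝ)) := by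
      exact_mod_cast h1
    have h3 : (Nat.card C : ℝ) = 2 * (∑ x : C, (if x ∈ L then 0 else ‖ψ x‖ ^ 2) : ℝ) := by
      field_simp at h2
      linarith
    linarith

end Sign

section Count

variable {C : Type u} [Group C] [Finite C] {L : Subgroup C} {W : Type v} [Group W] [Finite W]
  {e : W →* C} {u : C}

/-- The hypotheses on `u`. -/
structure Cent (L : Subgroup C) (e : W →* C) (u : C) : Prop where
  index : L.index = 2
  oddW : Odd (Nat.card W)
  inj : Function.Injective e
  sq : u * u = 1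
  not_mem : u ∉ L
  comm : ∀ y, Commute u (e y)
  card : Nat.card (Subgroup.centralizer ({u} : Set C)) = 4 * Nat.card W

theorem pow_card (h : Cent L e u) (y : W) : (u * e y) ^ Nat.card W = u := by
  obtain ⟨k, hk⟩ := h.oddW
  rw [(h.comm y).mul_pow, ← map_pow, pow_card_eq_one', map_one, mul_one, hk, pow_succ, pow_mul,
    pow_two, h.sq, one_pow, one_mul]

theorem e_mem_L (h : Cent L e u) (y : W) : e y ∈ L := by
  have hN : L.Normal := Subgroup.normal_of_index_eq_two h.index
  obtain ⟨k, hk⟩ := h.oddW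
  have h1 : e y ^ (2 * k + 1) = 1 := by
    rw [← hk, ← map_pow, pow_card_eq_one', map_one]
  by_contra h2
  have h3 : e y * e y ∈ L := Subgroup.mul_self_mem_of_index_two h.index _
  have h4 : e y ^ (2 * k) ∈ L := by
    rw [pow_mul, pow_two]
    exact L.pow_mem h3 k
  rw [pow_succ] at h1
  exact h2 ((L.mul_mem_cancel_left h4).1 (by rw [h1]; exact L.one_mem))

theorem mul_not_mem (h : Cent L e u) (y : W) : u * e y ∉ L := by
  intro h1
  exact h.not_mem ((L.mul_mem_cancel_right (e_mem_L h y)).1 h1)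

open scoped Classical in
/-- The number of pairs `(c, y)` with `c (u y) c⁻¹ = x`. -/
theorem fiber_le [Fintype C] [Fintype W] (h : Cent L e u) (x : C) :
    (Finset.univ.filter fun p : C × W => p.1 * (u * e p.2) * p.1⁻¹ = x).card ≤
      4 * Nat.card W := by
  by_cases h0 : (Finset.univ.filter fun p : C × W => p.1 * (u * e p.2) * p.1⁻¹ = x) = ∅
  · rw [h0, Finset.card_empty]
    exact Nat.zero_le _
  obtain ⟨⟨c₀, y₀⟩, hp⟩ := Finset.nonempty_iff_ne_empty.2 h0
  rw [Finset.mem_filter] at hp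
  obtain ⟨-, hp⟩ := hp
  let _ : Fintype (Subgroup.centralizer ({u} : Set C)) := Fintype.ofFinite _
  have hpow : ∀ (c : C) (y : W), c * (u * e y) * c⁻¹ = x → x ^ Nat.card W = c * u * c⁻¹ := by
    intro c y hc
    rw [← hc, conj_pow, pow_card h]
  have h1 : (Finset.univ.filter fun p : C × W => p.1 * (u * e p.2) * p.1⁻¹ = x).card ≤
      (Finset.univ.image fun k : Subgroup.centralizer ({u} : Set C) => c₀ * (k : C)).card := by
    refine Finset.card_le_card_of_injOn Prod.fst ?_ ?_
    · rintro ⟨c, y⟩ hc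
      simp only [Finset.coe_filter, Finset.mem_univ, true_and, Set.mem_ofPred_eq] at hc
      simp only [Finset.coe_image, Finset.coe_univ, Set.image_univ, Set.mem_range]
      have h2 := hpow c y hc
      rw [hpow c₀ y₀ hp] at h2
      refine ⟨⟨c₀⁻¹ * c, ?_⟩, by show c₀ * (c₀⁻¹ * c) = c; group⟩
      rw [Subgroup.mem_centralizer_singleton_iff]
      calc c₀⁻¹ * c * u = c₀⁻¹ * (c * u * c⁻¹) * c := by group
        _ = c₀⁻¹ * (c₀ * u * c₀⁻¹) * c := by rw [← h2]
        _ = u * (c₀⁻¹ * c) := by group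
    · rintro ⟨c, y⟩ hc ⟨c', y'⟩ hc' hcc
      simp only [Finset.coe_filter, Finset.mem_univ, true_and, Set.mem_ofPred_eq] at hc hc'
      have hcc' : c = c' := hcc
      subst hcc'
      have h2 : u * e y = u * e y' := by
        have h3 : c * (u * e y) * c⁻¹ = c * (u * e y') * c⁻¹ := by rw [hc, hc']
        exact mul_left_cancel (mul_right_cancel h3)
      rw [h.inj (mul_left_cancel h2)]
  refine h1.trans (Finset.card_image_le.trans ?_)
  rw [Finset.card_univ, ← Nat.card_eq_fintype_card, h.card]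

open scoped Classical in
theorem norm_le [Fintype C] [Fintype W] (h : Cent L e u) {ψ : C → ℂ} (hψ : IsIrrCharacter C ψ) :
    (Nat.card W : ℝ)⁻¹ * ∑ y : W, ‖ψ (u * e y)‖ ^ 2 ≤ 2 := by
  have hcl := Core.isIrr_isClassFunction hψ
  have h1 : ∑ p : C × W, ‖ψ (p.1 * (u * e p.2) * p.1⁻¹)‖ ^ 2 =
      Nat.card C * ∑ y : W, ‖ψ (u * e y)‖ ^ 2 := by
    rw [Fintype.sum_prod_type]
    have h0 : ∀ c : C, ∑ y : W, ‖ψ (c * (u * e y) * c⁻¹)‖ ^ 2 = ∑ y : W, ‖ψ (u * e y)‖ ^ 2 :=
      fun c => Finset.sum_congr rfl fun y _ => by rw [hcl]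
    rw [Finset.sum_congr rfl fun c _ => h0 c, Finset.sum_const, Finset.card_univ, nsmul_eq_mul,
      ← Nat.card_eq_fintype_card]
  have h2 : ∑ p : C × W, ‖ψ (p.1 * (u * e p.2) * p.1⁻¹)‖ ^ 2 ≤
      4 * Nat.card W * ∑ x : C, (if x ∈ L then 0 else ‖ψ x‖ ^ 2) := by
    have h3 : ∑ p : C × W, ‖ψ (p.1 * (u * e p.2) * p.1⁻¹)‖ ^ 2 =
        ∑ x : C, ∑ p ∈ Finset.univ.filter (fun p : C × W => p.1 * (u * e p.2) * p.1⁻¹ = x),
          ‖ψ (p.1 * (u * e p.2) * p.1⁻¹)‖ ^ 2 :=
      (Finset.sum_fiberwise _ _ _).symm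
    rw [h3, Finset.mul_sum]
    refine Finset.sum_le_sum fun x _ => ?_
    have h4 : ∑ p ∈ Finset.univ.filter (fun p : C × W => p.1 * (u * e p.2) * p.1⁻¹ = x),
          ‖ψ (p.1 * (u * e p.2) * p.1⁻¹)‖ ^ 2 =
        (Finset.univ.filter (fun p : C × W => p.1 * (u * e p.2) * p.1⁻¹ = x)).card * ‖ψ x‖ ^ 2 := by
      rw [← nsmul_eq_mul, ← Finset.sum_const]
      refine Finset.sum_congr rfl fun p hp => ?_
      rw [Finset.mem_filter] at hp
      rw [hp.2]
    rw [h4]
    by_cases hx : x ∈ L
    · have hN : L.Normal := Subgroup.normal_of_index_eq_two h.index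
      have h5 : (Finset.univ.filter (fun p : C × W => p.1 * (u * e p.2) * p.1⁻¹ = x)) = ∅ := by
        rw [Finset.filter_eq_empty_iff]
        rintro ⟨c, y⟩ - hc
        refine mul_not_mem h y ?_
        have h6 := hN.conj_mem x hx c⁻¹
        have h7 : c⁻¹ * x * c⁻¹⁻¹ = u * e y := by
          rw [← hc]
          group
        rwa [h7] at h6
      rw [h5, Finset.card_empty, if_pos hx, Nat.cast_zero, zero_mul, mul_zero]
    · rw [if_neg hx]
      refine mul_le_mul_of_nonneg_right ?_ (by positivity)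
      exact_mod_cast fiber_le h x
  have h3 := sum_off_le h.index hψ
  have hC1 : (0 : ℝ) < Nat.card C := by exact_mod_cast Nat.card_pos
  have hW1 : (0 : ℝ) < Nat.card W := by exact_mod_cast Nat.card_pos
  rw [h1] at h2
  have h4 : (Nat.card C : ℝ) * ∑ y : W, ‖ψ (u * e y)‖ ^ 2 ≤ Nat.card C * (2 * Nat.card W) := by
    refine h2.trans ?_
    calc 4 * (Nat.card W : ℝ) * ∑ x : C, (if x ∈ L then 0 else ‖ψ x‖ ^ 2)
        ≤ 4 * Nat.card W * (Nat.card C / 2) := mul_le_mul_of_nonneg_left h3 (by positivity)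
      _ = Nat.card C * (2 * Nat.card W) := by ring
  have h5 := le_of_mul_le_mul_left h4 hC1
  rw [inv_mul_le_iff₀ hW1]
  linarith

theorem isGeneralized_along (hs : u * u = 1) (hc : ∀ y, Commute u (e y)) {χ : C → ℂ}
    (hχ : IsCharacter C χ) : IsGeneralizedCharacter W (fun y => χ (u * e y)) := by
  obtain ⟨χ₀, χ₁, h0, h1, -, h2⟩ := exists_eigen_split hs hχ
  have hmem : ∀ y : W, e y ∈ Subgroup.centralizer ({u} : Set C) := by
    intro y
    rw [Subgroup.mem_centralizer_singleton_iff]
    exact (hc y).symm.eq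
  refine ⟨χ₀ ∘ e.codRestrict _ hmem, χ₁ ∘ e.codRestrict _ hmem,
    Core.isCharacter_comp _ h0, Core.isCharacter_comp _ h1, ?_⟩
  funext w
  exact h2 (e.codRestrict _ hmem w)

/-- The coefficients at linear characters are integers, and the sum of the squares for distinct
linear characters is at most `2`. -/
theorem exists_int_coef [Fintype W] (h : Cent L e u) {ψ : C → ℂ} (hψ : IsIrrCharacter C ψ) :
    ∃ a : (W →* ℂˣ) → ℤ, (∀ l : W →* ℂˣ, coef (fun y : W => u * e y) (fun y => (l y : ℂ)) ψ = a l) ∧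
      ∀ Λ : Finset (W →* ℂˣ), ∑ l ∈ Λ, (a l) ^ 2 ≤ 2 := by
  classical
  let _ : Fintype C := Fintype.ofFinite _
  have := Core.finite_irr (G := W)
  let _ : Fintype (IrrCharacter W) := Fintype.ofFinite _
  obtain ⟨m, hm⟩ := Core.isGeneralizedCharacter_iff.1
    (isGeneralized_along h.sq h.comm (Core.isIrr_isCharacter hψ))
  refine ⟨fun l => m ⟨fun y => (l y : ℂ), Linear.isIrrCharacter_hom l⟩, fun l => ?_, fun Λ => ?_⟩
  · rw [coef_apply, hm]
    exact Core.classInner_sum_zsmul_irr m ⟨fun y => (l y : ℂ), Linear.isIrrCharacter_hom l⟩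
  · have h1 : classInner (fun y : W => ψ (u * e y)) (fun y : W => ψ (u * e y)) =
        ((∑ β : IrrCharacter W, m β ^ 2 : ℤ) : ℂ) := by
      have h2 := Core.classInner_sum_smul_sum_smul (fun β : IrrCharacter W => (m β : ℂ))
        (fun β => (m β : ℂ))
      simp only [Int.cast_smul_eq_zsmul] at h2
      rw [hm, h2]
      push_cast
      refine Finset.sum_congr rfl fun β _ => ?_
      rw [map_intCast, sq]
    have h2 : classInner (fun y : W => ψ (u * e y)) (fun y : W => ψ (u * e y)) =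
        (((Nat.card W : ℝ)⁻¹ * ∑ y : W, ‖ψ (u * e y)‖ ^ 2 : ℝ) : ℂ) := by
      rw [Core.classInner_def]
      push_cast
      congr 1
      refine Finset.sum_congr rfl fun x _ => ?_
      rw [Complex.mul_conj, Complex.normSq_eq_norm_sq]
      push_cast
      rfl
    have h3 : ∑ β : IrrCharacter W, m β ^ 2 ≤ 2 := by
      have h4 := norm_le h hψ
      have h5 : ((∑ β : IrrCharacter W, m β ^ 2 : ℤ) : ℝ) =
          (Nat.card W : ℝ)⁻¹ * ∑ y : W, ‖ψ (u * e y)‖ ^ 2 := by
        rw [h1] at h2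
        exact_mod_cast h2
      rw [← h5] at h4
      exact_mod_cast h4
    refine le_trans ?_ h3
    have h4 : ∑ l ∈ Λ, (m ⟨fun y => (l y : ℂ), Linear.isIrrCharacter_hom l⟩) ^ 2 =
        ∑ β ∈ Λ.image (fun l : W →* ℂˣ =>
          (⟨fun y => (l y : ℂ), Linear.isIrrCharacter_hom l⟩ : IrrCharacter W)), m β ^ 2 := by
      rw [Finset.sum_image]
      intro l _ l' _ hll
      ext y
      exact congrFun (congrArg Subtype.val hll) y
    rw [h4]
    exact Finset.sum_le_sum_of_subset_of_nonneg (Finset.subset_univ _) fun _ _ _ => sq_nonneg _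

end Count

end Cfsg.Agent.Classification.QDW.NormBound
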