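import Mathlib
import Cfsg.Prelude.Def_Characters
import Cfsg.Agent.Characters.Core
import Cfsg.Agent.Characters.Clifford
import Cfsg.Agent.Classification.QDW.CoreConst
import Cfsg.Agent.Classification.QDW.GlauberTwo
import Cfsg.Agent.Classification.QDW.FrobLift
import Cfsg.Agent.Classification.QDW.Inertia
import Cfsg.Agent.Classification.QDW.NormBound

/-!
# Irreducible characters over an invariant character of the core

`C` has a normal subgroup `K` of odd order, a central involution `t`, a subgroup `B` with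
`B / K ⟨t⟩` a Frobenius group of order `q (q - 1)`, and the normal closure of the kernel `X`
contains a subgroup `L` of index `2`. If `ψ` is irreducible and `ψ = d lam` on `K` with `d ≥ 2`,
then `ψ` has on `B` a constituent of degree `(q - 1) lam(1)` (`exists_big`); all the constituents
have degree `lam(1)` or `(q - 1) lam(1)` (`constituent`).
-/

set_option autoImplicit false
set_option linter.unusedSectionVars false

namespace Cfsg.Agent.Classification.QDW.BigDeg

open Cfsg Cfsg.Agent.Characters Cfsg.Agent.Classification.QDW.Coef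
open Cfsg.Agent.Classification.QDW.Inertia Cfsg.Agent.Classification.QDW.GlauberTwo
open Cfsg.Agent.Classification.QDW.NormBound
open scoped ComplexConjugate

universe u v

section General

variable {Γ : Type u} [Group Γ]

theorem inner_ne_zero_of_add [Fintype Γ] {ψ ζ χ : Γ → ℂ} (hζ : IsIrrCharacter Γ ζ)
    (hχ : IsCharacter Γ χ) (h : ψ = ζ + χ) : classInner ψ ζ ≠ 0 := by
  rw [h, Core.classInner_add_left, Core.classInner_irr_self hζ]
  obtain ⟨n, hn⟩ := Core.classInner_isNat hχ (Core.isIrr_isCharacter hζ)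
  rw [hn]
  intro h1
  have h2 : (1 : ℂ) + n = ((1 + n : ℕ) : ℂ) := by push_cast; rfl
  rw [h2, Nat.cast_eq_zero] at h1
  omega

theorem classInner_shift [Fintype Γ] (z : Γ) {f g : Γ → ℂ} {τ ω : ℂ}
    (hf : ∀ x, f (z * x) = τ * f x) (hg : ∀ x, g (z * x) = ω * g x) :
    classInner f g = τ * conj ω * classInner f g := by
  have h1 : ∑ x : Γ, f x * conj (g x) = ∑ x : Γ, f (z * x) * conj (g (z * x)) :=
    (Fintype.sum_equiv (Equiv.mulLeft z) _ _ fun x => rfl).symm
  conv_lhs => rw [Core.classInner_def, h1]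
  simp only [hf, hg, map_mul]
  rw [Core.classInner_def, Finset.mul_sum, Finset.mul_sum, Finset.mul_sum]
  refine Finset.sum_congr rfl fun x _ => ?_
  ring

theorem sign_eq_of_mul {τ ω : ℂ} (hτ : τ = 1 ∨ τ = -1) (hω : ω = 1 ∨ ω = -1)
    (h : τ * conj ω = 1) : τ = ω := by
  rcases hτ with rfl | rfl <;> rcases hω with rfl | rfl
  · rfl
  · exfalso
    rw [map_neg, map_one] at h
    norm_num at h
  · exfalso
    rw [map_one] at h
    norm_num at h
  · rfl

end General

variable {C : Type u} [Group C]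

/-- The hypotheses on `B`. -/
structure Big (q : ℕ) (K L B : Subgroup C) (K₁ X T : Subgroup B) (t : C) : Prop where
  normal : K.Normal
  oddK : Odd (Nat.card K)
  tt : t * t = 1
  t_ne : t ≠ 1
  t_comm : ∀ x, Commute t x
  KB : K ≤ B
  tB : t ∈ B
  mem : ∀ b : B, b ∈ K₁ ↔ ((b : C) ∈ K ∨ t * (b : C) ∈ K)
  frob : FrobLift.Frob q K₁ X T
  index : L.index = 2
  KL : K ≤ L
  gen : ∀ N : Subgroup C, N.Normal → (∀ x ∈ X, (x : C) ∈ N) → L ≤ N

variable {q : ℕ} {K L B : Subgroup C} {K₁ X T : Subgroup B} {t : C}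

theorem t_not_mem (h : Big q K L B K₁ X T t) : t ∉ K := by
  intro ht
  obtain ⟨k, hk⟩ := h.oddK
  have h1 : t ^ Nat.card K = 1 := congrArg Subtype.val (pow_card_eq_one' (x := (⟨t, ht⟩ : K)))
  rw [hk, pow_succ, pow_mul, sq, h.tt, one_pow, one_mul] at h1
  exact h.t_ne h1

theorem mem_of_K (h : Big q K L B K₁ X T t) (k : K) : (⟨k, h.KB k.2⟩ : B) ∈ K₁ :=
  (h.mem _).2 (Or.inl k.2)

/-- The embedding of `K` in `K₁`. -/
def emb (h : Big q K L B K₁ X T t) : K →* K₁ where
  toFun k := ⟨⟨k, h.KB k.2⟩, mem_of_K h k⟩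
  map_one' := rfl
  map_mul' _ _ := rfl

theorem t_mem (h : Big q K L B K₁ X T t) : (⟨t, h.tB⟩ : B) ∈ K₁ :=
  (h.mem _).2 (Or.inr (by
    show t * t ∈ K
    rw [h.tt]
    exact K.one_mem))

/-- The involution `t` in `K₁`. -/
abbrev tK (h : Big q K L B K₁ X T t) : K₁ := ⟨⟨t, h.tB⟩, t_mem h⟩

theorem emb_injective (h : Big q K L B K₁ X T t) : Function.Injective (emb h) := by
  intro a b hab
  exact Subtype.ext (congrArg (fun x : K₁ => ((x : B) : C)) hab)

theorem mem_range_emb (h : Big q K L B K₁ X T t) {x : K₁} :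
    x ∈ (emb h).range ↔ ((x : B) : C) ∈ K := by
  constructor
  · rintro ⟨k, rfl⟩
    exact k.2
  · intro hx
    exact ⟨⟨_, hx⟩, rfl⟩

theorem setup (h : Big q K L B K₁ X T t) : Setup (emb h).range (tK h) where
  normal := by
    constructor
    intro n hn g
    rw [mem_range_emb] at hn ⊢
    exact h.normal.conj_mem _ hn _
  odd := by
    rw [← Nat.card_congr (MonoidHom.ofInjective (emb_injective h)).toEquiv]
    exact h.oddK
  sq := Subtype.ext (Subtype.ext h.tt)
  not_mem := fun h1 => t_not_mem h ((mem_range_emb h).1 h1)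
  cover := by
    intro x hx
    rw [mem_range_emb] at hx ⊢
    exact ((h.mem x).1 x.2).resolve_left hx

variable [Finite C]

/-- The character of `K₁`. -/
theorem exists_mu (h : Big q K L B K₁ X T t) {lam : K → ℂ} (hlam : IsIrrCharacter K lam)
    {ψ : C → ℂ} (hψ : IsIrrCharacter C ψ) {d : ℕ} (hd : ∀ k : K, ψ k = d * lam k) :
    ∃ μ : K₁ → ℂ, IsIrrCharacter K₁ μ ∧ (∀ x : K₁, ψ (x : B) = d * μ x) ∧
      ∀ k, μ (emb h k) = lam k := by
  classical
  let _ : Fintype K₁ := Fintype.ofFinite _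
  let _ : Fintype (emb h).range := Fintype.ofFinite _
  obtain ⟨τ, hτ, hτ'⟩ := central_sign h.tt h.t_comm hψ
  have hψ₁ : IsCharacter K₁ (fun x : K₁ => ψ (x : B)) :=
    Core.isCharacter_comp (B.subtype.comp K₁.subtype) (Core.isIrr_isCharacter hψ)
  obtain ⟨μ, χ, hμ, hχ, hadd, -⟩ := exists_constituent (LinearMap.proj (1 : K₁)) hψ₁
    (Core.isIrr_apply_one_ne_zero hψ)
  have hzc : ∀ x : K₁, Commute (tK h) x := fun x => Subtype.ext (Subtype.ext (h.t_comm _).eq)
  obtain ⟨ω, hω, hω'⟩ := central_sign (setup h).sq hzc hμ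
  have hτω : τ = ω := by
    refine sign_eq_of_mul hτ hω ?_
    have h1 := classInner_shift (tK h) (f := fun x : K₁ => ψ (x : B)) (g := μ) (τ := τ) (ω := ω)
      (fun x => hτ' _) hω'
    have h2 := inner_ne_zero_of_add hμ hχ hadd
    exact (mul_eq_right₀ h2).1 h1.symm
  have hne : μ ≠ μ * sgn (emb h).range := by
    intro h1
    have h2 := congrFun h1 (tK h)
    rw [Pi.mul_apply, sgn_of_not_mem (setup h).not_mem] at h2
    have h3 : μ (tK h) = 0 := by linear_combination h2 / 2
    have h4 := hω' 1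
    rw [mul_one, h3] at h4
    rcases hω with h5 | h5 <;> rw [h5] at h4
    · exact Core.isIrr_apply_one_ne_zero hμ (by linear_combination -h4)
    · exact Core.isIrr_apply_one_ne_zero hμ (by linear_combination h4)
  have hcl := Core.isIrr_isClassFunction hμ
  have hY : IsIrrCharacter (emb h).range (fun y => μ y) := by
    refine Core.isIrr_of_classInner_self (Core.isCharacter_comp (emb h).range.subtype
      (Core.isIrr_isCharacter hμ)) ?_
    rw [← classInner_add_sgn (setup h) hcl hcl, Core.classInner_irr_self hμ,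
      Core.classInner_irr_ne hμ (isIrr_mul_sgn (setup h) hμ) hne, add_zero]
  have hK : IsIrrCharacter K (fun k => μ (emb h k)) :=
    Core.isIrr_comp (emb h).rangeRestrict (emb h).rangeRestrict_surjective hY
  obtain ⟨m, hm⟩ := exists_mult_of_add hlam (Core.isIrr_isCharacter hK)
    (Core.isCharacter_comp (emb h) hχ) (d := d) (fun k => by
      rw [← hd k]
      exact (congrFun hadd (emb h k)).symm)
  have hKlam := eq_of_mult hlam hK hm
  refine ⟨μ, hμ, ?_, fun k => congrFun hKlam k⟩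
  have h1 : ∀ x : K₁, ((x : B) : C) ∈ K → ψ (x : B) = d * μ x := by
    intro x hx
    have h2 := hd ⟨_, hx⟩
    rw [← congrFun hKlam ⟨_, hx⟩] at h2
    exact h2
  intro x
  rcases (h.mem x).1 x.2 with hx | hx
  · exact h1 x hx
  · have h2 := h1 (tK h * x) hx
    rw [hω' x] at h2
    have h3 : ψ ((tK h * x : K₁) : B) = τ * ψ (x : B) := hτ' _
    rw [h3, hτω] at h2
    rcases hω with h5 | h5 <;> rw [h5] at h2
    · linear_combination h2
    · linear_combination -h2

/-- The constituents of the restriction to `B`. -/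
theorem constituent (h : Big q K L B K₁ X T t) {ψ : C → ℂ} (hψ : IsIrrCharacter C ψ)
    {μ : K₁ → ℂ} (hμ : IsIrrCharacter K₁ μ) {d : ℕ} (hd0 : d ≠ 0)
    (hd : ∀ x : K₁, ψ (x : B) = d * μ x)
    {η χ : B → ℂ} (hη : IsIrrCharacter B η) (hχ : IsCharacter B χ)
    (hadd : ∀ b : B, ψ b = η b + χ b) :
    ∃ m : ℕ, (∀ x : K₁, η x = m * μ x) ∧
      (m = 1 ∨ (m = q - 1 ∧ ∀ g ∈ T, g ∉ K₁ → η g = 0)) := by
  obtain ⟨m, hm⟩ := exists_mult_of_add hμ (Clifford.isCharacter_restrict K₁
    (Core.isIrr_isCharacter hη)) (Clifford.isCharacter_restrict K₁ hχ) (d := d)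
    (fun x => by rw [← hd x, hadd])
  refine ⟨m, hm, FrobLift.frob_degree h.frob hμ ?_ hη hm⟩
  intro g n
  have h1 : ψ ((g * n * g⁻¹ : B) : C) = ψ ((n : B) : C) :=
    Core.isIrr_isClassFunction hψ ((n : B) : C) (g : C)
  have h2 := hd ⟨g * n * g⁻¹, h.frob.normal.conj_mem n n.2 g⟩
  rw [show ((⟨g * n * g⁻¹, h.frob.normal.conj_mem n n.2 g⟩ : K₁) : B) = g * n * g⁻¹ from rfl,
    h1, hd n] at h2
  exact (mul_left_cancel₀ (Nat.cast_ne_zero.2 hd0) h2).symm

/-- There is a constituent of degree `(q - 1) lam(1)`. -/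
theorem exists_big (h : Big q K L B K₁ X T t) {ψ : C → ℂ} (hψ : IsIrrCharacter C ψ)
    {μ : K₁ → ℂ} (hμ : IsIrrCharacter K₁ μ) {d : ℕ} (hd2 : 2 ≤ d)
    (hd : ∀ x : K₁, ψ (x : B) = d * μ x) :
    ∃ η χ : B → ℂ, IsIrrCharacter B η ∧ IsCharacter B χ ∧ (∀ b : B, ψ b = η b + χ b) ∧
      (∀ x : K₁, η x = ((q - 1 : ℕ) : ℂ) * μ x) ∧ ∀ g ∈ T, g ∉ K₁ → η g = 0 := by
  classical
  by_contra hcon
  push Not at hcon
  let _ : Fintype C := Fintype.ofFinite _
  let _ : Fintype B := Fintype.ofFinite _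
  let _ : Fintype K₁ := Fintype.ofFinite _
  let _ : Fintype X := Fintype.ofFinite _
  let _ : Fintype T := Fintype.ofFinite _
  let _ : Fintype K := Fintype.ofFinite _
  let _ : Fintype L := Fintype.ofFinite _
  have := Core.finite_irr (G := B)
  let _ : Fintype (IrrCharacter B) := Fintype.ofFinite _
  have hq := h.frob.q_ge
  -- all the constituents are extensions of `μ`
  have h1 : ∀ η χ : B → ℂ, IsIrrCharacter B η → IsCharacter B χ → (∀ b : B, ψ b = η b + χ b) →
      ∀ x : K₁, η x = μ x := by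
    intro η χ hη hχ hadd x
    obtain ⟨m, hm, hm2⟩ := constituent h hψ hμ (by omega) hd hη hχ hadd
    rcases hm2 with h2 | ⟨h2, h3⟩
    · rw [hm, h2, Nat.cast_one, one_mul]
    · exfalso
      subst h2
      obtain ⟨g, hg, hgK, hg0⟩ := hcon η χ hη hχ hadd hm
      exact hg0 (h3 g hg hgK)
  have hψB : IsCharacter B (fun b : B => ψ b) :=
    Clifford.isCharacter_restrict B (Core.isIrr_isCharacter hψ)
  obtain ⟨n, hn⟩ := Core.exists_nat_comb hψB
  have h2 : ∀ η : IrrCharacter B, n η ≠ 0 → ∀ x : K₁, (η : B → ℂ) x = μ x := by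
    intro η hη
    have h3 : classInner (fun b : B => ψ b) (η : B → ℂ) ≠ 0 := by
      rw [hn, Core.classInner_sum_nsmul_irr]
      exact Nat.cast_ne_zero.2 hη
    obtain ⟨χ, hχ, hadd⟩ := exists_add_of_classInner hψB η.2 h3
    exact h1 η χ η.2 hχ fun b => congrFun hadd b
  have hXirr : ∀ η : B → ℂ, IsIrrCharacter B η → (∀ x : K₁, η x = μ x) →
      IsIrrCharacter X (fun x : X => η x) := by
    intro η hη hημ
    refine irr_of_comp_irr (Subgroup.inclusion h.frob.K_le_X)
      (Clifford.isCharacter_restrict X (Core.isIrr_isCharacter hη)) ?_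
    have h3 : (fun x : K₁ => (fun x : X => η x) (Subgroup.inclusion h.frob.K_le_X x)) = μ :=
      funext fun x => hημ x
    rw [h3]
    exact hμ
  have h3 : ∀ η η' : B → ℂ, IsIrrCharacter B η → IsIrrCharacter B η' → (∀ x : K₁, η x = μ x) →
      (∀ x : K₁, η' x = μ x) → ∀ x : X, η x = η' x := by
    intro η η' hη hη' hμη hμη' x
    by_contra hne
    have h4 := Core.classInner_irr_ne (hXirr η hη hμη) (hXirr η' hη' hμη')
      (fun h5 => hne (congrFun h5 x))
    have h5 := FrobLift.norm_identity h.frob (Core.isIrr_isClassFunction hη)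
      (Core.isIrr_isClassFunction hη')
    obtain ⟨a, ha⟩ := Core.classInner_isNat (Core.isIrr_isCharacter hη)
      (Core.isIrr_isCharacter hη')
    obtain ⟨b, hb⟩ := Core.classInner_isNat
      (Clifford.isCharacter_restrict T (Core.isIrr_isCharacter hη))
      (Clifford.isCharacter_restrict T (Core.isIrr_isCharacter hη'))
    have h6 : classInner (fun x : K₁ => η x) (fun x : K₁ => η' x) = 1 := by
      rw [funext hμη, funext hμη', Core.classInner_irr_self hμ]
    rw [h4, ha, hb, h6] at h5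
    have h7 : ((q : ℤ) - 1) * (b - a) = 1 := by
      have h8 : ((((q : ℤ) - 1) * (b - a) : ℤ) : ℂ) = ((1 : ℤ) : ℂ) := by
        push_cast
        linear_combination -h5
      exact_mod_cast h8
    have h8 : ((q : ℤ) - 1) ∣ 1 := ⟨_, h7.symm⟩
    have h9 := Int.le_of_dvd one_pos h8
    omega
  -- `ψ` is a multiple of an irreducible character on `X`
  obtain ⟨η₀, χ₀, hη₀, hχ₀, hadd₀, -⟩ := exists_constituent (LinearMap.proj (1 : B)) hψB
    (Core.isIrr_apply_one_ne_zero hψ)
  have hη₀μ := h1 η₀ χ₀ hη₀ hχ₀ fun b => congrFun hadd₀ b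
  have h4 : ∀ x : X, ψ ((x : B) : C) = (∑ η : IrrCharacter B, (n η : ℂ)) * η₀ x := by
    intro x
    have h5 := congrFun hn (x : B)
    refine h5.trans ?_
    rw [Finset.sum_apply, Finset.sum_mul]
    refine Finset.sum_congr rfl fun η _ => ?_
    rw [Pi.smul_apply, nsmul_eq_mul]
    by_cases h6 : n η = 0
    · rw [h6, Nat.cast_zero, zero_mul, zero_mul]
    · rw [h3 η η₀ η.2 hη₀ (h2 η h6) hη₀μ x]
  have hDd : (∑ η : IrrCharacter B, (n η : ℂ)) = d := by
    have h5 := h4 1
    have h6 := hd 1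
    have h7 : η₀ (1 : B) = μ 1 := hη₀μ 1
    have h8 : ψ (((1 : X) : B) : C) = ψ (((1 : K₁) : B) : C) := rfl
    rw [h8, h6] at h5
    have h9 : η₀ ((1 : X) : B) = μ 1 := h7
    rw [h9] at h5
    exact (mul_right_cancel₀ (Core.isIrr_apply_one_ne_zero hμ) h5).symm
  have hX : classInner (fun x : X => ψ ((x : B) : C)) (fun x : X => ψ ((x : B) : C)) =
      (d : ℂ) ^ 2 := by
    have h5 : (fun x : X => ψ ((x : B) : C)) = (d : ℂ) • fun x : X => η₀ x := by
      funext x
      rw [h4, hDd]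
      rfl
    rw [h5, Core.classInner_smul_left, Core.classInner_smul_right,
      Core.classInner_irr_self (hXirr η₀ hη₀ hη₀μ), map_natCast]
    ring
  -- the average of `|ψ|²` over the cosets of `K`
  have hKN := h.normal
  have hΞ : IsCharacter C (fun x => ψ x * conj (ψ x)) :=
    Core.isCharacter_mul (Core.isIrr_isCharacter hψ)
      (Core.isCharacter_conj (Core.isIrr_isCharacter hψ))
  obtain ⟨Ξ, Ξ', hΞ0, -, -, havg, hfix, -⟩ := CoreConst.exists_fixed_moved K hΞ
  have hK0 : (Nat.card K : ℂ) ≠ 0 := Core.card_ne_zero_complex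
  have hX0 : (Nat.card X : ℂ) ≠ 0 := Core.card_ne_zero_complex
  have hL0 : (Nat.card L : ℂ) ≠ 0 := Core.card_ne_zero_complex
  have hΞ1 : Ξ 1 = (d : ℂ) ^ 2 := by
    rw [havg]
    obtain ⟨lam, hlam⟩ : ∃ lam : K → ℂ, lam = fun k => μ (emb h k) := ⟨_, rfl⟩
    have hKirr : classInner (fun k : K => ψ k) (fun k : K => ψ k) = (d : ℂ) ^ 2 := by
      -- `μ` is irreducible on `K`
      have hcl := Core.isIrr_isClassFunction hμ
      let _ : Fintype (emb h).range := Fintype.ofFinite _
      obtain ⟨ω, hω, hω'⟩ := central_sign (setup h).sq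
        (fun x : K₁ => Subtype.ext (Subtype.ext (h.t_comm _).eq)) hμ
      have hne : μ ≠ μ * sgn (emb h).range := by
        intro h1
        have h2 := congrFun h1 (tK h)
        rw [Pi.mul_apply, sgn_of_not_mem (setup h).not_mem] at h2
        have h3 : μ (tK h) = 0 := by linear_combination h2 / 2
        have h4 := hω' 1
        rw [mul_one, h3] at h4
        rcases hω with h5 | h5 <;> rw [h5] at h4
        · exact Core.isIrr_apply_one_ne_zero hμ (by linear_combination -h4)
        · exact Core.isIrr_apply_one_ne_zero hμ (by linear_combination h4)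
      have hY : IsIrrCharacter (emb h).range (fun y => μ y) := by
        refine Core.isIrr_of_classInner_self (Core.isCharacter_comp (emb h).range.subtype
          (Core.isIrr_isCharacter hμ)) ?_
        rw [← classInner_add_sgn (setup h) hcl hcl, Core.classInner_irr_self hμ,
          Core.classInner_irr_ne hμ (isIrr_mul_sgn (setup h) hμ) hne, add_zero]
      have hK : IsIrrCharacter K (fun k => μ (emb h k)) :=
        Core.isIrr_comp (emb h).rangeRestrict (emb h).rangeRestrict_surjective hY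
      have h5 : (fun k : K => ψ k) = (d : ℂ) • fun k : K => μ (emb h k) := by
        funext k
        exact hd (emb h k)
      rw [h5, Core.classInner_smul_left, Core.classInner_smul_right,
        Core.classInner_irr_self hK, map_natCast]
      ring
    rw [← hKirr, Core.classInner_def]
    simp only [one_mul]
  -- averages over `X` and `L`
  have hsumX : ∑ x : X, Ξ ((x : B) : C) = (Fintype.card X : ℂ) * Ξ 1 := by
    have h5 : ∑ x : X, Ξ ((x : B) : C) =
        (Nat.card K : ℂ)⁻¹ * ∑ k : K, ∑ x : X, ψ ((x : B) * k) * conj (ψ ((x : B) * k)) := by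
      simp only [havg]
      rw [← Finset.mul_sum, Finset.sum_comm]
    have h6 : ∀ k : K, ∑ x : X, ψ ((x : B) * k) * conj (ψ ((x : B) * k)) =
        ∑ x : X, ψ ((x : B) : C) * conj (ψ ((x : B) : C)) := by
      intro k
      have hkX : (⟨k, h.KB k.2⟩ : B) ∈ X := h.frob.K_le_X (mem_of_K h k)
      exact Fintype.sum_equiv (Equiv.mulRight (⟨_, hkX⟩ : X)) _ _ fun x => rfl
    rw [h5, Finset.sum_congr rfl fun k _ => h6 k, Finset.sum_const, Finset.card_univ,
      nsmul_eq_mul, ← Nat.card_eq_fintype_card, ← Nat.card_eq_fintype_card, ← mul_assoc,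
      inv_mul_cancel₀ hK0, one_mul, hΞ1, ← hX, Core.classInner_def, ← mul_assoc,
      mul_inv_cancel₀ hX0, one_mul]
  have hXker : ∀ x ∈ X, (x : C) ∈ kerSub hΞ0 := fun x hx =>
    eq_of_avg hΞ0 (fun x : X => ((x : B) : C)) hsumX ⟨x, hx⟩
  have hLker := h.gen _ (kerSub_normal hΞ0) hXker
  have hsumL : (Nat.card L : ℂ) * (d : ℂ) ^ 2 = ∑ x : L, ψ x * conj (ψ x) := by
    have h5 : ∑ x : L, Ξ (x : C) =
        (Nat.card K : ℂ)⁻¹ * ∑ k : K, ∑ x : L, ψ ((x : C) * k) * conj (ψ ((x : C) * k)) := by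
      simp only [havg]
      rw [← Finset.mul_sum, Finset.sum_comm]
    have h6 : ∀ k : K, ∑ x : L, ψ ((x : C) * k) * conj (ψ ((x : C) * k)) =
        ∑ x : L, ψ (x : C) * conj (ψ (x : C)) := by
      intro k
      exact Fintype.sum_equiv (Equiv.mulRight (⟨_, h.KL k.2⟩ : L)) _ _ fun x => rfl
    have h7 : ∑ x : L, Ξ (x : C) = Nat.card L * (d : ℂ) ^ 2 := by
      rw [Finset.sum_congr rfl fun x _ => mem_kerSub.1 (hLker x.2), Finset.sum_const,
        Finset.card_univ, nsmul_eq_mul, hΞ1, ← Nat.card_eq_fintype_card]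
    rw [← h7, h5, Finset.sum_congr rfl fun k _ => h6 k, Finset.sum_const, Finset.card_univ,
      nsmul_eq_mul, ← Nat.card_eq_fintype_card, ← mul_assoc, inv_mul_cancel₀ hK0, one_mul]
  -- `|L| d² ≤ |C| = 2 |L|`
  have h5 : (Nat.card L : ℝ) * (d : ℝ) ^ 2 = ∑ x : L, ‖ψ x‖ ^ 2 := by
    have h6 : (((Nat.card L : ℝ) * (d : ℝ) ^ 2 : ℝ) : ℂ) = ((∑ x : L, ‖ψ x‖ ^ 2 : ℝ) : ℂ) := by
      push_cast
      rw [hsumL]
      refine Finset.sum_congr rfl fun x _ => ?_
      rw [Complex.mul_conj, Complex.normSq_eq_norm_sq]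
      push_cast
      rfl
    exact_mod_cast h6
  have h6 : ∑ x : C, ‖ψ x‖ ^ 2 = Nat.card C := by
    have h7 := Core.classInner_irr_self hψ
    rw [FrobLift.norm_eq_sum_normSq] at h7
    have h8 : (Nat.card C : ℝ)⁻¹ * ∑ x : C, ‖ψ x‖ ^ 2 = 1 := by exact_mod_cast h7
    have hC1 : (Nat.card C : ℝ) ≠ 0 := by exact_mod_cast Nat.card_pos.ne'
    field_simp at h8
    exact h8
  have h7 : ∑ x : L, ‖ψ x‖ ^ 2 ≤ ∑ x : C, ‖ψ x‖ ^ 2 := by
    have h8 : ∑ x : L, ‖ψ x‖ ^ 2 =
        ∑ x ∈ Finset.univ.map ⟨L.subtype, L.subtype_injective⟩, ‖ψ x‖ ^ 2 := by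
      rw [Finset.sum_map]
      rfl
    rw [h8]
    exact Finset.sum_le_sum_of_subset_of_nonneg (Finset.subset_univ _)
      fun _ _ _ => by positivity
  have h8 : (Nat.card C : ℝ) = 2 * Nat.card L := by
    have := L.index_mul_card
    rw [h.index] at this
    exact_mod_cast this.symm
  have hL1 : (0 : ℝ) < Nat.card L := by exact_mod_cast Nat.card_pos
  rw [← h5, h6, h8] at h7
  have h9 : (d : ℝ) ^ 2 ≤ 2 := by
    have h10 : (Nat.card L : ℝ) * (d : ℝ) ^ 2 ≤ Nat.card L * 2 := by linarith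
    exact le_of_mul_le_mul_left h10 hL1
  have h10 : (2 : ℝ) ≤ d := by exact_mod_cast hd2
  nlinarith

end Cfsg.Agent.Classification.QDW.BigDeg
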