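import Mathlib
import Cfsg.Prelude.Def_Characters
import Cfsg.Agent.Characters.Core
import Cfsg.Agent.Characters.Clifford
import Cfsg.Agent.Characters.Values
import Cfsg.Agent.Characters.DegreeBounds
import Cfsg.Agent.CharactersDeep.CosetAverage
import Cfsg.Agent.Classification.QDW.CoreConst
import Cfsg.Agent.Classification.QDW.FrobLift

/-!
# Extensions of an invariant character by a central cyclic 2-group

* `sum_ne_zero`: an odd number of roots of unity of 2-power order does not have sum zero;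
* `apply_ne_zero`: a character of odd degree does not vanish on 2-elements;
* `inv_of_over`: `K` an odd normal subgroup of `C`, `z` a 2-element central modulo `K`; a character
  of `K ⟨z⟩` whose restriction to `K` is irreducible and `C`-invariant is `C`-invariant.
-/

set_option autoImplicit false
set_option linter.unusedSectionVars false

namespace Cfsg.Agent.Classification.QDW.WrExt

open Cfsg Cfsg.Agent.Characters
open scoped ComplexConjugate

universe u

section Roots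

theorem sum_ne_zero {m : ℕ} {s : Multiset ℂ} (hs : ∀ z ∈ s, z ^ 2 ^ m = 1)
    (hodd : Odd (Multiset.card s)) : s.sum ≠ 0 := by
  classical
  intro h0
  rcases m with _ | m
  · have h1 : s = Multiset.replicate (Multiset.card s) 1 :=
      Multiset.eq_replicate.2 ⟨rfl, fun z hz => by simpa using hs z hz⟩
    rw [h1, Multiset.sum_replicate, nsmul_eq_mul, mul_one, Nat.cast_eq_zero] at h0
    rw [h0] at hodd
    exact absurd hodd (by decide)
  have hpos : 0 < 2 ^ (m + 1) := by positivity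
  have hprim := Complex.isPrimitiveRoot_exp (2 ^ (m + 1)) hpos.ne'
  set ζ := Complex.exp (2 * Real.pi * Complex.I / (2 ^ (m + 1) : ℕ)) with hζ
  have hex : ∀ z : ℂ, ∃ a : ℕ, z ^ 2 ^ (m + 1) = 1 → ζ ^ a = z := by
    intro z
    by_cases hz : z ^ 2 ^ (m + 1) = 1
    · obtain ⟨a, -, ha⟩ := hprim.eq_pow_of_pow_eq_one hz
      exact ⟨a, fun _ => ha⟩
    · exact ⟨0, fun h => absurd h hz⟩
  choose a ha using hex
  set f : Polynomial ℤ := (s.map fun z => (Polynomial.X : Polynomial ℤ) ^ a z).sum with hf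
  have h1 : Polynomial.aeval ζ f = 0 := by
    rw [hf, map_multiset_sum, Multiset.map_map, ← h0]
    congr 1
    conv_rhs => rw [← Multiset.map_id s]
    refine Multiset.map_congr rfl fun z hz => ?_
    simp only [Function.comp_apply, map_pow, Polynomial.aeval_X, id_eq]
    exact ha z (hs z hz)
  have h2 := minpoly.isIntegrallyClosed_dvd (R := ℤ) (hprim.isIntegral hpos) h1
  rw [← Polynomial.cyclotomic_eq_minpoly hprim hpos] at h2
  obtain ⟨g, hg⟩ := h2
  have h3 := congrArg (Polynomial.eval 1) hg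
  rw [Polynomial.eval_mul, Polynomial.eval_one_cyclotomic_prime_pow] at h3
  have h4 : Polynomial.eval 1 f = (Multiset.card s : ℤ) := by
    rw [hf, ← Polynomial.coe_evalRingHom, map_multiset_sum, Multiset.map_map]
    have : (s.map (⇑(Polynomial.evalRingHom (1 : ℤ)) ∘
        fun z => (Polynomial.X : Polynomial ℤ) ^ a z)) = s.map fun _ => (1 : ℤ) := by
      refine Multiset.map_congr rfl fun z _ => ?_
      simp
    rw [this, Multiset.map_const', Multiset.sum_replicate, nsmul_eq_mul, mul_one]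
  rw [h4] at h3
  obtain ⟨k, hk⟩ := hodd
  rw [hk] at h3
  push_cast at h3
  omega

theorem apply_ne_zero {G : Type u} [Group G] {χ : G → ℂ} (hχ : IsCharacter G χ) {n : ℕ}
    (hn : χ 1 = n) (hodd : Odd n) {g : G} {m : ℕ} (hg : g ^ 2 ^ m = 1) : χ g ≠ 0 := by
  obtain ⟨N, ρ, rfl⟩ := hχ
  rw [Values.character_eq_sum_roots]
  refine sum_ne_zero (m := m) (fun z hz => ?_) ?_
  · exact Values.pow_eq_one_of_mem_roots (by rw [← map_pow, hg, map_one]) hz
  · rw [Values.card_roots_charpoly]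
    rw [Representation.char_one] at hn
    have : Module.finrank ℂ (Fin N → ℂ) = n := by exact_mod_cast hn
    rwa [this]

theorem odd_degree {G : Type u} [Group G] [Finite G] (hG : Odd (Nat.card G)) {χ : G → ℂ}
    (hχ : IsIrrCharacter G χ) : ∃ n : ℕ, χ 1 = n ∧ Odd n := by
  obtain ⟨N, ρ, hρ, rfl⟩ := hχ
  refine ⟨Module.finrank ℂ (Fin N → ℂ), Representation.char_one ρ, ?_⟩
  have h1 := DegreeBounds.finrank_dvd_card ρ
  exact Odd.of_dvd_nat hG h1

end Roots

section Inv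

variable {C : Type u} [Group C]

/-- `K` is an odd normal subgroup of `C`, `z` a 2-element central modulo `K`, `K₁ = K ⟨z⟩`. -/
structure Ext (K K₁ : Subgroup C) (z : C) (m : ℕ) : Prop where
  normal : K.Normal
  odd : Odd (Nat.card K)
  pow : z ^ 2 ^ m = 1
  comm : ∀ g : C, g * z * g⁻¹ * z⁻¹ ∈ K
  sup : K ⊔ Subgroup.zpowers z = K₁

variable {K K₁ : Subgroup C} {z : C} {m : ℕ}

theorem Ext.le (h : Ext K K₁ z m) : K ≤ K₁ := h.sup ▸ le_sup_left

theorem Ext.mem (h : Ext K K₁ z m) : z ∈ K₁ :=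
  h.sup ▸ (le_sup_right : Subgroup.zpowers z ≤ _) (Subgroup.mem_zpowers z)

theorem Ext.mem_iff (h : Ext K K₁ z m) {x : C} : x ∈ K₁ ↔ ∃ k ∈ K, ∃ i : ℤ, k * z ^ i = x := by
  have := h.normal
  rw [← h.sup, Subgroup.mem_sup_of_normal_left]
  constructor
  · rintro ⟨k, hk, y, hy, rfl⟩
    obtain ⟨i, rfl⟩ := Subgroup.mem_zpowers_iff.1 hy
    exact ⟨k, hk, i, rfl⟩
  · rintro ⟨k, hk, i, rfl⟩
    exact ⟨k, hk, z ^ i, Subgroup.zpow_mem_zpowers z i, rfl⟩

theorem Ext.comm_mem (h : Ext K K₁ z m) {x : C} (hx : x ∈ K₁) (g : C) :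
    g * x * g⁻¹ * x⁻¹ ∈ K := by
  have := h.normal
  obtain ⟨k, hk, i, rfl⟩ := h.mem_iff.1 hx
  rw [← QuotientGroup.eq_one_iff]
  have h1 : ((g : C) : C ⧸ K) * (z : C ⧸ K) = (z : C ⧸ K) * (g : C ⧸ K) := by
    have h2 := (QuotientGroup.eq_one_iff (N := K) _).2 (h.comm g)
    rw [QuotientGroup.mk_mul, QuotientGroup.mk_mul, QuotientGroup.mk_mul, QuotientGroup.mk_inv,
      QuotientGroup.mk_inv, mul_inv_eq_one, mul_inv_eq_iff_eq_mul] at h2
    exact h2
  have h3 : Commute ((g : C) : C ⧸ K) ((z : C ⧸ K) ^ i) := (show Commute _ _ from h1).zpow_right i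
  have h4 : ((k : C) : C ⧸ K) = 1 := (QuotientGroup.eq_one_iff _).2 hk
  rw [QuotientGroup.mk_mul, QuotientGroup.mk_mul, QuotientGroup.mk_mul, QuotientGroup.mk_inv,
    QuotientGroup.mk_inv, QuotientGroup.mk_mul, QuotientGroup.mk_zpow, h4, one_mul, mul_inv_eq_one,
    mul_inv_eq_iff_eq_mul]
  exact h3

theorem Ext.normal' (h : Ext K K₁ z m) : K₁.Normal := by
  constructor
  intro x hx g
  have h1 := K₁.mul_mem (h.le (h.comm_mem hx g)) hx
  rwa [inv_mul_cancel_right] at h1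

theorem Ext.cyclic (h : Ext K K₁ z m) (hN : (K.subgroupOf K₁).Normal) :
    IsCyclic (K₁ ⧸ K.subgroupOf K₁) := by
  refine ⟨⟨((⟨z, h.mem⟩ : K₁) : K₁ ⧸ K.subgroupOf K₁), ?_⟩⟩
  intro y
  induction y using QuotientGroup.induction_on with
  | H x =>
    obtain ⟨k, hk, i, hi⟩ := h.mem_iff.1 x.2
    refine Subgroup.mem_zpowers_iff.2 ⟨i, ?_⟩
    rw [← QuotientGroup.mk_zpow, QuotientGroup.eq, Subgroup.mem_subgroupOf]
    show (z ^ i)⁻¹ * (x : C) ∈ K
    rw [← hi]
    have h1 := h.normal.conj_mem k hk (z ^ i)⁻¹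
    rw [inv_inv] at h1
    simpa [mul_assoc] using h1

theorem Ext.conj_z [Finite C] (h : Ext K K₁ z m) (g : C) : ∃ k ∈ K, g * z * g⁻¹ = k * z * k⁻¹ := by
  have := h.normal
  have hker : (QuotientGroup.mk' K).ker = K := QuotientGroup.ker_mk' K
  obtain ⟨c, hc, hcz⟩ := CoreConst.exists_conj_ker (QuotientGroup.mk' K)
    (by rw [hker]; exact h.odd) z (g * z * g⁻¹) m h.pow
    (by rw [conj_pow, h.pow, mul_one, mul_inv_cancel]) (by
      show ((z : C) : C ⧸ K) = ((g * z * g⁻¹ : C) : C ⧸ K)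
      rw [eq_comm, ← mul_inv_eq_one, ← QuotientGroup.mk_inv, ← QuotientGroup.mk_mul,
        QuotientGroup.eq_one_iff]
      exact h.comm g)
  refine ⟨c, ?_, hcz.symm⟩
  rw [← hker]
  exact hc

variable [Finite C]

/-- A character of `K₁` whose restriction to `K` is irreducible and `C`-invariant is
`C`-invariant. -/
theorem Ext.inv (h : Ext K K₁ z m) {θ : K₁ → ℂ} (hθ : IsIrrCharacter K₁ θ) {lam : K → ℂ}
    (hlam : IsIrrCharacter K lam)
    (hinv : ∀ (g : C) (k : K), lam ⟨g * k * g⁻¹, h.normal.conj_mem k k.2 g⟩ = lam k)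
    (hres : ∀ k : K, θ ⟨k, h.le k.2⟩ = lam k) (g : C) (x : K₁) :
    θ ⟨g * x * g⁻¹, h.normal'.conj_mem x x.2 g⟩ = θ x := by
  classical
  have hK₁ := h.normal'
  have hKn := h.normal
  let _ : Fintype K₁ := Fintype.ofFinite _
  let _ : Fintype (K.subgroupOf K₁) := Fintype.ofFinite _
  let e : K.subgroupOf K₁ ≃* K := Subgroup.subgroupOfEquivOfLe h.le
  -- the conjugate character
  set θ' : K₁ → ℂ := θ ∘ (MulAut.conjNormal g : MulAut K₁) with hθ'
  have hθ'irr : IsIrrCharacter K₁ θ' := Clifford.isIrr_conjNormal hθ g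
  have hθ'val : ∀ y : K₁, θ' y = θ ⟨g * y * g⁻¹, hK₁.conj_mem y y.2 g⟩ := fun y => rfl
  have h1 : (fun n : K.subgroupOf K₁ => θ n) = fun n => lam (e n) := by
    funext n
    exact hres (e n)
  have h2 : (fun n : K.subgroupOf K₁ => θ' n) = fun n => lam (e n) := by
    funext n
    show θ' (n : K₁) = _
    rw [hθ'val, ← hinv g (e n), ← hres]
    rfl
  have h3 : IsIrrCharacter (K.subgroupOf K₁) (fun n => lam (e n)) :=
    Core.isIrr_comp e.toMonoidHom e.surjective hlam
  obtain ⟨η, hη, hηK, hmul⟩ := CharactersDeep.CosetAverage.exists_irr_mul (K.subgroupOf K₁) θ hθ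
    (by rw [h1]; exact h3) θ' hθ'irr (by
      rw [h1, h2, Core.classInner_irr_self h3]
      exact one_ne_zero)
  obtain ⟨l, hl⟩ := FrobLift.irr_one_of_invariant (K.subgroupOf K₁)
    (FrobLift.comm_mem_of_isCyclic _ (h.cyclic inferInstance)) hη (fun k hk y => hηK ⟨k, hk⟩ y)
  have hlK : ∀ k : K, l ⟨k, h.le k.2⟩ = 1 := by
    intro k
    have h4 := hηK ⟨⟨k, h.le k.2⟩, Subgroup.mem_subgroupOf.2 k.2⟩ 1
    rw [mul_one, hl] at h4
    simp only [map_one, Units.val_one] at h4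
    exact Units.ext h4
  -- the value at `z`
  have hz : θ' ⟨z, h.mem⟩ = θ ⟨z, h.mem⟩ := by
    obtain ⟨k, hk, hkz⟩ := h.conj_z g
    rw [hθ'val]
    have h4 := Core.isIrr_isClassFunction hθ ⟨z, h.mem⟩ ⟨k, h.le hk⟩
    rw [← h4]
    congr 1
    exact Subtype.ext hkz
  have hz0 : θ ⟨z, h.mem⟩ ≠ 0 := by
    obtain ⟨n, hn, hodd⟩ := odd_degree h.odd hlam
    refine apply_ne_zero (Core.isIrr_isCharacter hθ) (n := n) ?_ hodd (m := m)
      (Subtype.ext h.pow)
    rw [← hn, ← hres 1]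
    rfl
  have hlz : l ⟨z, h.mem⟩ = 1 := by
    rw [hmul, Pi.mul_apply, hl] at hz
    exact Units.ext (mul_left_cancel₀ hz0 (by rw [hz, Units.val_one, mul_one]))
  have hl1 : ∀ y : K₁, l y = 1 := by
    intro y
    obtain ⟨k, hk, i, hi⟩ := h.mem_iff.1 y.2
    have h4 : y = ⟨k, h.le hk⟩ * ⟨z, h.mem⟩ ^ i := Subtype.ext hi.symm
    rw [h4, map_mul, map_zpow, hlz, one_zpow, mul_one]
    exact hlK ⟨k, hk⟩
  rw [← hθ'val, hmul, Pi.mul_apply, hl]
  simp only [hl1 x, Units.val_one, mul_one]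

end Inv

end Cfsg.Agent.Classification.QDW.WrExt
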