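import Mathlib
import Cfsg.Prelude.Def_Characters
import Cfsg.Agent.Characters.Core
import Cfsg.Agent.Characters.Clifford
import Cfsg.Agent.Classification.QDW.CoreConst
import Cfsg.Agent.Classification.QDW.FrobLift
import Cfsg.Agent.Classification.QDW.Inertia
import Cfsg.Agent.Classification.QDW.BigDeg
import Cfsg.Agent.Classification.QDW.WrDefs
import Cfsg.Agent.Classification.QDW.WrExt

/-!
# The wreathed case: irreducible characters over an invariant character of the core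

`FrobData`: `K₁ = K ⟨z⟩` with `z` a 2-element central modulo `K`, `B / K₁` is a Frobenius group of
order `q (q - 1)` with kernel `X / K₁` and complement `T / K₁`, and the normal closure of `X`
contains `ker lam`. If `ψ ∈ Irr C` is `e λ` on `K`, with `λ` irreducible and `e ≥ 2`, then
`ψ` has on `B` a constituent of degree `(q - 1) λ(1)` vanishing on `T - K₁` (`exists_big`).
-/

set_option autoImplicit false
set_option linter.unusedSectionVars false

namespace Cfsg.Agent.Classification.QDW.WrFrob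

open Cfsg Cfsg.Agent.Characters Cfsg.Agent.Classification.QDW.Coef
open Cfsg.Agent.Classification.QDW.Inertia Cfsg.Agent.Classification.QDW.WrExt
open scoped ComplexConjugate

universe u

variable {C : Type u} [Group C]

/-- The hypotheses on `B`, see the module docstring. -/
structure FrobData (K : Subgroup C) (lam : C →* ℂˣ) (q : ℕ) (B K₁ X T : Subgroup C) (z : C)
    (m : ℕ) : Prop where
  ext : Ext K K₁ z m
  lam_sq : ∀ g : C, lam g * lam g = 1
  lam_K₁ : K₁ ≤ lam.ker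
  K₁_le : K₁ ≤ X
  X_le : X ≤ B
  T_le : T ≤ B
  frob : FrobLift.Frob q (K₁.subgroupOf B) (X.subgroupOf B) (T.subgroupOf B)
  gen : ∀ N : Subgroup C, N.Normal → X ≤ N → lam.ker ≤ N

variable {K : Subgroup C} {lam : C →* ℂˣ} {q : ℕ} {B K₁ X T : Subgroup C} {z : C} {m : ℕ}

theorem FrobData.le (h : FrobData K lam q B K₁ X T z m) : K₁ ≤ B := h.K₁_le.trans h.X_le

theorem card_le_ker [Finite C] (hsq : ∀ g : C, lam g * lam g = 1) :
    Nat.card C ≤ 2 * Nat.card lam.ker := by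
  have h1 : Nat.card lam.range ≤ 2 := by
    have h2 : ∀ y : lam.range, (y : ℂˣ) = 1 ∨ (y : ℂˣ) = -1 := by
      rintro ⟨_, g, rfl⟩
      have h3 : ((lam g : ℂˣ) : ℂ) * (lam g : ℂ) = 1 := by
        rw [← Units.val_mul, hsq g, Units.val_one]
      rcases mul_self_eq_one_iff.1 h3 with h4 | h4
      · exact Or.inl (Units.ext h4)
      · exact Or.inr (Units.ext (by rw [h4, Units.val_neg, Units.val_one]))
    classical
    have h5 : Nat.card lam.range ≤ Nat.card Bool := by
      refine Nat.card_le_card_of_injective (fun y : lam.range => decide ((y : ℂˣ) = 1)) ?_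
      intro y y' hyy
      have hyy' : ((y : ℂˣ) = 1) ↔ ((y' : ℂˣ) = 1) := by
        simpa using hyy
      apply Subtype.ext
      rcases h2 y with h6 | h6
      · rw [h6, hyy'.1 h6]
      · rcases h2 y' with h7 | h7
        · rw [hyy'.2 h7, h7]
        · rw [h6, h7]
    have h6 : Nat.card Bool = 2 := by rw [Nat.card_eq_fintype_card, Fintype.card_bool]
    rwa [h6] at h5
  rw [← lam.ker.card_mul_index, Subgroup.index_ker, mul_comm]
  exact Nat.mul_le_mul_right _ h1

variable [Finite C]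

/-- The constituents of the restriction to `B`. -/
theorem FrobData.constituent (h : FrobData K lam q B K₁ X T z m) {ψ : C → ℂ}
    (hψ : IsClassFunction C ψ) {μ : K₁ → ℂ} (hμ : IsIrrCharacter K₁ μ) {d : ℕ} (hd0 : d ≠ 0)
    (hd : ∀ x : K₁, ψ x = d * μ x) {η χ : B → ℂ} (hη : IsIrrCharacter B η)
    (hχ : IsCharacter B χ) (hadd : ∀ b : B, ψ b = η b + χ b) :
    ∃ n : ℕ, (∀ x : K₁, η ⟨x, h.le x.2⟩ = n * μ x) ∧
      (n = 1 ∨ (n = q - 1 ∧ ∀ g : B, (g : C) ∈ T → (g : C) ∉ K₁ → η g = 0)) := by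
  let e : K₁.subgroupOf B ≃* K₁ := Subgroup.subgroupOfEquivOfLe h.le
  have hμ' : IsIrrCharacter (K₁.subgroupOf B) (fun x => μ (e x)) :=
    Core.isIrr_comp e.toMonoidHom e.surjective hμ
  obtain ⟨n, hn⟩ := exists_mult_of_add hμ' (Clifford.isCharacter_restrict (K₁.subgroupOf B)
    (Core.isIrr_isCharacter hη)) (Clifford.isCharacter_restrict (K₁.subgroupOf B) hχ) (d := d)
    (fun x => by
      rw [← hd (e x)]
      exact (hadd (x : B)).symm)
  refine ⟨n, fun x => hn ⟨⟨x, h.le x.2⟩, Subgroup.mem_subgroupOf.2 x.2⟩, ?_⟩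
  have hinv : ∀ (g : B) (x : K₁.subgroupOf B),
      μ (e ⟨g * x * g⁻¹, h.frob.normal.conj_mem x x.2 g⟩) = μ (e x) := by
    intro g x
    have h1 : ψ ((g * x * g⁻¹ : B) : C) = ψ ((x : B) : C) := hψ ((x : B) : C) (g : C)
    have h2 := hd (e ⟨g * x * g⁻¹, h.frob.normal.conj_mem x x.2 g⟩)
    have h3 := hd (e x)
    have h4 : ψ ((e ⟨g * x * g⁻¹, h.frob.normal.conj_mem x x.2 g⟩ : K₁) : C) =
        ψ ((g * x * g⁻¹ : B) : C) := rfl
    have h5 : ψ ((e x : K₁) : C) = ψ ((x : B) : C) := rfl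
    rw [h4, h1, ← h5, h3] at h2
    exact (mul_left_cancel₀ (Nat.cast_ne_zero.2 hd0) h2).symm
  rcases FrobLift.frob_degree h.frob hμ' hinv hη hn with h1 | ⟨h1, h2⟩
  · exact Or.inl h1
  · exact Or.inr ⟨h1, fun g hg hg1 => h2 g (Subgroup.mem_subgroupOf.2 hg)
      (fun h3 => hg1 (Subgroup.mem_subgroupOf.1 h3))⟩

/-- There is a constituent of degree `(q - 1) μ(1)`. -/
theorem FrobData.exists_big (h : FrobData K lam q B K₁ X T z m) {ψ : C → ℂ}
    (hψ : IsIrrCharacter C ψ) {μ : K₁ → ℂ} (hμ : IsIrrCharacter K₁ μ) {d : ℕ} (hd2 : 2 ≤ d)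
    (hd : ∀ x : K₁, ψ x = d * μ x) :
    ∃ η χ : B → ℂ, IsIrrCharacter B η ∧ IsCharacter B χ ∧ (∀ b : B, ψ b = η b + χ b) ∧
      (∀ x : K₁, η ⟨x, h.le x.2⟩ = ((q - 1 : ℕ) : ℂ) * μ x) ∧
      ∀ g : B, (g : C) ∈ T → (g : C) ∉ K₁ → η g = 0 := by
  classical
  by_contra hcon
  push Not at hcon
  have hcl := Core.isIrr_isClassFunction hψ
  let _ : Fintype C := Fintype.ofFinite _
  let _ : Fintype B := Fintype.ofFinite _
  let _ : Fintype K₁ := Fintype.ofFinite _
  let _ : Fintype X := Fintype.ofFinite _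
  let _ : Fintype (K₁.subgroupOf B) := Fintype.ofFinite _
  let _ : Fintype (X.subgroupOf B) := Fintype.ofFinite _
  let _ : Fintype (T.subgroupOf B) := Fintype.ofFinite _
  let _ : Fintype lam.ker := Fintype.ofFinite _
  have := Core.finite_irr (G := B)
  let _ : Fintype (IrrCharacter B) := Fintype.ofFinite _
  have hq := h.frob.q_ge
  let e : K₁.subgroupOf B ≃* K₁ := Subgroup.subgroupOfEquivOfLe h.le
  have hμ' : IsIrrCharacter (K₁.subgroupOf B) (fun x => μ (e x)) :=
    Core.isIrr_comp e.toMonoidHom e.surjective hμ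
  -- all the constituents are extensions of `μ`
  have h1 : ∀ η χ : B → ℂ, IsIrrCharacter B η → IsCharacter B χ → (∀ b : B, ψ b = η b + χ b) →
      ∀ x : K₁, η ⟨x, h.le x.2⟩ = μ x := by
    intro η χ hη hχ hadd x
    obtain ⟨n, hn, hn2⟩ := h.constituent hcl hμ (by omega) hd hη hχ hadd
    rcases hn2 with h2 | ⟨h2, h3⟩
    · rw [hn, h2, Nat.cast_one, one_mul]
    · exfalso
      subst h2
      obtain ⟨g, hg, hgK, hg0⟩ := hcon η χ hη hχ hadd hn
      exact hg0 (h3 g hg hgK)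
  have hψB : IsCharacter B (fun b : B => ψ b) :=
    Clifford.isCharacter_restrict B (Core.isIrr_isCharacter hψ)
  obtain ⟨n, hn⟩ := Core.exists_nat_comb hψB
  have h2 : ∀ η : IrrCharacter B, n η ≠ 0 → ∀ x : K₁, (η : B → ℂ) ⟨x, h.le x.2⟩ = μ x := by
    intro η hη
    have h3 : classInner (fun b : B => ψ b) (η : B → ℂ) ≠ 0 := by
      rw [hn, Core.classInner_sum_nsmul_irr]
      exact Nat.cast_ne_zero.2 hη
    obtain ⟨χ, hχ, hadd⟩ := exists_add_of_classInner hψB η.2 h3
    exact h1 η χ η.2 hχ fun b => congrFun hadd b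
  have hKX : K₁.subgroupOf B ≤ X.subgroupOf B := h.frob.K_le_X
  have hXirr : ∀ η : B → ℂ, IsIrrCharacter B η → (∀ x : K₁, η ⟨x, h.le x.2⟩ = μ x) →
      IsIrrCharacter (X.subgroupOf B) (fun x : X.subgroupOf B => η x) := by
    intro η hη hημ
    refine irr_of_comp_irr (Subgroup.inclusion hKX)
      (Clifford.isCharacter_restrict (X.subgroupOf B) (Core.isIrr_isCharacter hη)) ?_
    have h3 : (fun x : K₁.subgroupOf B => (fun x : X.subgroupOf B => η x)
        (Subgroup.inclusion hKX x)) = fun x => μ (e x) :=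
      funext fun x => hημ (e x)
    rw [h3]
    exact hμ'
  have h3 : ∀ η η' : B → ℂ, IsIrrCharacter B η → IsIrrCharacter B η' →
      (∀ x : K₁, η ⟨x, h.le x.2⟩ = μ x) → (∀ x : K₁, η' ⟨x, h.le x.2⟩ = μ x) →
      ∀ x : X.subgroupOf B, η x = η' x := by
    intro η η' hη hη' hμη hμη' x
    by_contra hne
    have h4 := Core.classInner_irr_ne (hXirr η hη hμη) (hXirr η' hη' hμη')
      (fun h5 => hne (congrFun h5 x))
    have h5 := FrobLift.norm_identity h.frob (Core.isIrr_isClassFunction hη)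
      (Core.isIrr_isClassFunction hη')
    obtain ⟨a, ha⟩ := Core.classInner_isNat (Core.isIrr_isCharacter hη)
      (Core.isIrr_isCharacter hη')
    obtain ⟨b, hb⟩ := Core.classInner_isNat
      (Clifford.isCharacter_restrict (T.subgroupOf B) (Core.isIrr_isCharacter hη))
      (Clifford.isCharacter_restrict (T.subgroupOf B) (Core.isIrr_isCharacter hη'))
    have h6 : classInner (fun x : K₁.subgroupOf B => η x) (fun x : K₁.subgroupOf B => η' x) = 1 := by
      have e1 : (fun x : K₁.subgroupOf B => η x) = fun x => μ (e x) := funext fun x => hμη (e x)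
      have e2 : (fun x : K₁.subgroupOf B => η' x) = fun x => μ (e x) := funext fun x => hμη' (e x)
      rw [e1, e2, Core.classInner_irr_self hμ']
    rw [h4, ha, hb, h6] at h5
    have h7 : ((q : ℤ) - 1) * (b - a) = 1 := by
      have h8 : ((((q : ℤ) - 1) * (b - a) : ℤ) : ℂ) = ((1 : ℤ) : ℂ) := by
        push_cast
        linear_combination -h5
      exact_mod_cast h8
    have h8 : ((q : ℤ) - 1) ∣ 1 := ⟨_, h7.symm⟩
    have h9 := Int.le_of_dvd one_pos h8
    omega
  -- `ψ` is a multiple of an irreducible character on `X`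
  obtain ⟨η₀, χ₀, hη₀, hχ₀, hadd₀, -⟩ := exists_constituent (LinearMap.proj (1 : B)) hψB
    (Core.isIrr_apply_one_ne_zero hψ)
  have hη₀μ := h1 η₀ χ₀ hη₀ hχ₀ fun b => congrFun hadd₀ b
  have h4 : ∀ x : X.subgroupOf B, ψ ((x : B) : C) = (∑ η : IrrCharacter B, (n η : ℂ)) * η₀ x := by
    intro x
    have h5 := congrFun hn (x : B)
    refine h5.trans ?_
    rw [Finset.sum_apply, Finset.sum_mul]
    refine Finset.sum_congr rfl fun η _ => ?_
    rw [Pi.smul_apply, nsmul_eq_mul]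
    by_cases h6 : n η = 0
    · rw [h6, Nat.cast_zero, zero_mul, zero_mul]
    · rw [h3 η η₀ η.2 hη₀ (h2 η h6) hη₀μ x]
  have hDd : (∑ η : IrrCharacter B, (n η : ℂ)) = d := by
    have h5 := h4 1
    have h6 := hd 1
    have h7 : η₀ (1 : B) = μ 1 := hη₀μ 1
    have h8 : ψ (((1 : X.subgroupOf B) : B) : C) = ψ ((1 : K₁) : C) := rfl
    rw [h8, h6] at h5
    have h9 : η₀ ((1 : X.subgroupOf B) : B) = μ 1 := h7
    rw [h9] at h5
    exact (mul_right_cancel₀ (Core.isIrr_apply_one_ne_zero hμ) h5).symm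
  have hX0 : (Nat.card X : ℂ) ≠ 0 := Core.card_ne_zero_complex
  have hX : ∑ x : X, ψ x * conj (ψ x) = Nat.card X * (d : ℂ) ^ 2 := by
    have h5 : classInner (fun x : X.subgroupOf B => ψ ((x : B) : C))
        (fun x : X.subgroupOf B => ψ ((x : B) : C)) = (d : ℂ) ^ 2 := by
      have h6 : (fun x : X.subgroupOf B => ψ ((x : B) : C)) =
          (d : ℂ) • fun x : X.subgroupOf B => η₀ x := by
        funext x
        rw [h4, hDd]
        rfl
      rw [h6, Core.classInner_smul_left, Core.classInner_smul_right,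
        Core.classInner_irr_self (hXirr η₀ hη₀ hη₀μ), map_natCast]
      ring
    have h6 : ∑ x : X, ψ x * conj (ψ x) =
        ∑ x : X.subgroupOf B, ψ ((x : B) : C) * conj (ψ ((x : B) : C)) :=
      (Fintype.sum_equiv (Subgroup.subgroupOfEquivOfLe h.X_le).toEquiv _ _ fun x => rfl).symm
    rw [Core.classInner_def,
      Nat.card_congr (Subgroup.subgroupOfEquivOfLe h.X_le).toEquiv] at h5
    rw [h6, ← h5, ← mul_assoc, mul_inv_cancel₀ hX0, one_mul]
  -- the average of `|ψ|²` over the cosets of `K₁`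
  have hKN := h.ext.normal'
  have hΞ : IsCharacter C (fun x => ψ x * conj (ψ x)) :=
    Core.isCharacter_mul (Core.isIrr_isCharacter hψ)
      (Core.isCharacter_conj (Core.isIrr_isCharacter hψ))
  obtain ⟨Ξ, Ξ', hΞ0, -, -, havg, -, -⟩ := CoreConst.exists_fixed_moved K₁ hΞ
  have hK0 : (Nat.card K₁ : ℂ) ≠ 0 := Core.card_ne_zero_complex
  have hL0 : (Nat.card lam.ker : ℂ) ≠ 0 := Core.card_ne_zero_complex
  have hΞ1 : Ξ 1 = (d : ℂ) ^ 2 := by
    rw [havg]
    have h5 : (fun k : K₁ => ψ k) = (d : ℂ) • μ := by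
      funext k
      exact hd k
    have h6 : classInner (fun k : K₁ => ψ k) (fun k : K₁ => ψ k) = (d : ℂ) ^ 2 := by
      rw [h5, Core.classInner_smul_left, Core.classInner_smul_right,
        Core.classInner_irr_self hμ, map_natCast]
      ring
    rw [← h6, Core.classInner_def]
    simp only [one_mul]
  -- averages over `X` and `ker lam`
  have hsum : ∀ H : Subgroup C, K₁ ≤ H → ∀ _ : Fintype H,
      ∑ x : H, Ξ (x : C) = ∑ x : H, ψ (x : C) * conj (ψ (x : C)) := by
    intro H hH _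
    have h5 : ∑ x : H, Ξ (x : C) =
        (Nat.card K₁ : ℂ)⁻¹ * ∑ k : K₁, ∑ x : H, ψ ((x : C) * k) * conj (ψ ((x : C) * k)) := by
      simp only [havg]
      rw [← Finset.mul_sum, Finset.sum_comm]
    have h6 : ∀ k : K₁, ∑ x : H, ψ ((x : C) * k) * conj (ψ ((x : C) * k)) =
        ∑ x : H, ψ (x : C) * conj (ψ (x : C)) := by
      intro k
      exact Fintype.sum_equiv (Equiv.mulRight (⟨_, hH k.2⟩ : H)) _ _ fun x => rfl
    rw [h5, Finset.sum_congr rfl fun k _ => h6 k, Finset.sum_const, Finset.card_univ,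
      nsmul_eq_mul, ← Nat.card_eq_fintype_card, ← mul_assoc, inv_mul_cancel₀ hK0, one_mul]
  have hsumX : ∑ x : X, Ξ (x : C) = (Fintype.card X : ℂ) * Ξ 1 := by
    rw [hsum X h.K₁_le, hX, hΞ1, Nat.card_eq_fintype_card]
  have hXker : X ≤ kerSub hΞ0 := fun x hx =>
    eq_of_avg hΞ0 (fun x : X => (x : C)) hsumX ⟨x, hx⟩
  have hLker := h.gen _ (kerSub_normal hΞ0) hXker
  have hsumL : (Nat.card lam.ker : ℂ) * (d : ℂ) ^ 2 =
      ∑ x : lam.ker, ψ x * conj (ψ x) := by
    rw [← hsum lam.ker h.lam_K₁, Finset.sum_congr rfl fun x _ => mem_kerSub.1 (hLker x.2),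
      Finset.sum_const, Finset.card_univ, nsmul_eq_mul, hΞ1, ← Nat.card_eq_fintype_card]
  -- `|L| d² ≤ |C| ≤ 2 |L|`
  have h5 : (Nat.card lam.ker : ℝ) * (d : ℝ) ^ 2 = ∑ x : lam.ker, ‖ψ x‖ ^ 2 := by
    have h6 : (((Nat.card lam.ker : ℝ) * (d : ℝ) ^ 2 : ℝ) : ℂ) =
        ((∑ x : lam.ker, ‖ψ x‖ ^ 2 : ℝ) : ℂ) := by
      push_cast
      rw [hsumL]
      refine Finset.sum_congr rfl fun x _ => ?_
      rw [Complex.mul_conj, Complex.normSq_eq_norm_sq]
      push_cast
      rfl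
    exact_mod_cast h6
  have h6 : ∑ x : C, ‖ψ x‖ ^ 2 = Nat.card C := by
    have h7 := Core.classInner_irr_self hψ
    rw [FrobLift.norm_eq_sum_normSq] at h7
    have h8 : (Nat.card C : ℝ)⁻¹ * ∑ x : C, ‖ψ x‖ ^ 2 = 1 := by exact_mod_cast h7
    have hC1 : (Nat.card C : ℝ) ≠ 0 := by exact_mod_cast Nat.card_pos.ne'
    field_simp at h8
    exact h8
  have h7 : ∑ x : lam.ker, ‖ψ x‖ ^ 2 ≤ ∑ x : C, ‖ψ x‖ ^ 2 := by
    have h8 : ∑ x : lam.ker, ‖ψ x‖ ^ 2 =
        ∑ x ∈ Finset.univ.map ⟨lam.ker.subtype, lam.ker.subtype_injective⟩, ‖ψ x‖ ^ 2 := by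
      rw [Finset.sum_map]
      rfl
    rw [h8]
    exact Finset.sum_le_sum_of_subset_of_nonneg (Finset.subset_univ _)
      fun _ _ _ => by positivity
  have h8 : (Nat.card C : ℝ) ≤ 2 * Nat.card lam.ker := by
    exact_mod_cast card_le_ker h.lam_sq
  have hL1 : (0 : ℝ) < Nat.card lam.ker := by exact_mod_cast Nat.card_pos
  rw [← h5, h6] at h7
  have h9 : (d : ℝ) ^ 2 ≤ 2 := by
    have h10 : (Nat.card lam.ker : ℝ) * (d : ℝ) ^ 2 ≤ Nat.card lam.ker * 2 := by linarith
    exact le_of_mul_le_mul_left h10 hL1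
  have h10 : (2 : ℝ) ≤ d := by exact_mod_cast hd2
  nlinarith

end Cfsg.Agent.Classification.QDW.WrFrob
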