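import Mathlib
import Cfsg.Prelude.Def_Characters
import Cfsg.Agent.Characters.Core
import Cfsg.Agent.Characters.Linear
import Cfsg.Agent.CharactersDeep.IndFun
import Cfsg.Agent.CharactersDeep.AbelianQuotient
import Cfsg.Agent.Classification.QDW.WrDefs
import Cfsg.Agent.Classification.QDW.WrTI
import Cfsg.Agent.Classification.QDW.WrLam
import Cfsg.Agent.Classification.QDW.WrFrob

/-!
# The wreathed case: attached characters over an invariant character of the core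

`ψ ∈ Irr C` attached to a free linear character `ξ` of `M`, `ψ = e λ` on `K`, `λ` irreducible.
* `two_le`: `e ≥ 2`;
* `le_of_inv`: `e ≥ q - 1`;
* `le_of_inv_one`: if `K M ≤ T` then `e ≥ q + 1`;
* `apply_of_eq`: if moreover `e = q + 1` and `λ(1) = 1`, then `ψ y = ξ y + ξ^w y` for
  `y ∈ M ∩ ker lam - K₁`.
-/

set_option autoImplicit false
set_option linter.unusedSectionVars false

namespace Cfsg.Agent.Classification.QDW.WrInv

open Cfsg Cfsg.Agent.Characters Cfsg.Agent.CharactersDeep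
open Cfsg.Agent.Classification.QDW.WrDefs Cfsg.Agent.Classification.QDW.WrLam
open Cfsg.Agent.Classification.QDW.Coef Cfsg.Agent.Classification.QDW.WrFrob
open scoped ComplexConjugate

universe u

variable {C : Type u} [Group C] {K M : Subgroup C} {lam : C →* ℂˣ} {w : C}

/-- The inclusion of `M` in `K M`. -/
def inM (K : Subgroup C) {M : Subgroup C} (s : M) : ↥(K ⊔ M) :=
  ⟨s, (le_sup_right : M ≤ K ⊔ M) s.2⟩

/-- The inclusion of `K` in `K M`. -/
def inK {K : Subgroup C} (M : Subgroup C) (k : K) : ↥(K ⊔ M) :=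
  ⟨k, (le_sup_left : K ≤ K ⊔ M) k.2⟩

/-- The irreducible character of `K M` attached to `ξ`. -/
theorem exists_mu [Fintype C] [Fintype ↥(K ⊔ M)] [Fintype M] (h : WrHyp K M lam w)
    (ξ : M →* ℂˣ) :
    ∃ μ : ↥(K ⊔ M) → ℂ, IsIrrCharacter ↥(K ⊔ M) μ ∧
      (∀ s : M, lam (s : C) ≠ 1 → μ (inM K s) = (ξ s : ℂ)) ∧
      IsIrrCharacter K (fun k : K => μ (inK M k)) ∧
      ∀ f : ↥(K ⊔ M) → ℂ, IsClassFunction ↥(K ⊔ M) f →
        classInner (dif M lam ξ) (fun s : M => f (inM K s)) =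
          classInner μ f - classInner ((fun g : ↥(K ⊔ M) => (lam (g : C) : ℂ)) * μ) f := by
  classical
  set A := M.subgroupOf (K ⊔ M) with hA
  let _ : Fintype A := Fintype.ofFinite _
  set l : ↥(K ⊔ M) →* ℂˣ := lam.comp (K ⊔ M).subtype with hl
  have hloc : Loc (K.subgroupOf (K ⊔ M)) A l := loc h
  obtain ⟨μ, hμ, hFD⟩ := hloc.exists_mu (up K ξ)
  have hKir := hloc.isIrr_restrict (up K ξ) hμ hFD
  refine ⟨μ, hμ, ?_, ?_, ?_⟩
  · intro s hs
    have h3 := hloc.indFun_apply (up K ξ)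
      (s := ⟨⟨s, (le_sup_right : M ≤ K ⊔ M) s.2⟩, Subgroup.mem_subgroupOf.2 s.2⟩) hs
    rw [up_apply, hFD] at h3
    have h4 : (l ⟨s, (le_sup_right : M ≤ K ⊔ M) s.2⟩ : ℂ) = -1 := lam_eq_neg_one h.lam_sq hs
    simp only [h4] at h3
    have h5 : (2 : ℂ) * μ ⟨s, (le_sup_right : M ≤ K ⊔ M) s.2⟩ = 2 * (ξ s : ℂ) := by
      rw [← h3]
      ring
    exact mul_left_cancel₀ two_ne_zero h5
  · exact Core.isIrr_comp
      (Subgroup.subgroupOfEquivOfLe (le_sup_left : K ≤ K ⊔ M)).symm.toMonoidHom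
      (Subgroup.subgroupOfEquivOfLe (le_sup_left : K ≤ K ⊔ M)).symm.surjective hKir
  · intro f hf
    have e1 := IndFun.classInner_indFun A (dif A l (up K ξ)) f hf
    have e3 : classInner (dif A l (up K ξ)) (fun a : A => f (a : ↥(K ⊔ M))) =
        classInner (dif M lam ξ) (fun s : M => f (inM K s)) := by
      rw [Core.classInner_def, Core.classInner_def,
        Nat.card_congr (Subgroup.subgroupOfEquivOfLe (le_sup_right : M ≤ K ⊔ M)).toEquiv]
      congr 1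
      exact Fintype.sum_equiv (Subgroup.subgroupOfEquivOfLe (le_sup_right : M ≤ K ⊔ M)).toEquiv
        _ _ (fun a => rfl)
    rw [← e3, ← e1, hFD, ← Core.classInner_sub_left]
    congr 1
    funext g
    simp only [Pi.sub_apply, Pi.mul_apply]
    rw [hl]
    show μ g - μ g * ((lam (g : C) : ℂˣ) : ℂ) = _
    ring

/-- An irreducible character of `K M` not orthogonal to `ξ - ξ lam` is `± ξ` on `M - ker lam`. -/
theorem eq_of_inner [Fintype C] [Fintype M] (h : WrHyp K M lam w) {ξ : M →* ℂˣ}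
    {χ : ↥(K ⊔ M) → ℂ} (hχ : IsIrrCharacter ↥(K ⊔ M) χ)
    (hne : classInner (dif M lam ξ) (fun s : M => χ (inM K s)) ≠ 0) :
    ∃ τ : ℂ, (τ = 1 ∨ τ = -1) ∧ ∀ s : M, lam (s : C) ≠ 1 → χ (inM K s) = τ * (ξ s : ℂ) := by
  classical
  let _ : Fintype ↥(K ⊔ M) := Fintype.ofFinite _
  obtain ⟨μ, hμ, hval, -, hin⟩ := exists_mu h ξ
  rw [hin χ (Core.isIrr_isClassFunction hχ)] at hne
  have hl := AbelianQuotient.isIrr_linear_mul (lam.comp (K ⊔ M).subtype) hμ
  by_cases h1 : μ = χ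
  · refine ⟨1, Or.inl rfl, fun s hs => ?_⟩
    rw [← h1, hval s hs, one_mul]
  · by_cases h2 : (fun g : ↥(K ⊔ M) => (lam (g : C) : ℂ)) * μ = χ
    · refine ⟨-1, Or.inr rfl, fun s hs => ?_⟩
      rw [← h2, Pi.mul_apply, hval s hs]
      show (lam (s : C) : ℂ) * _ = _
      rw [lam_eq_neg_one h.lam_sq hs]
    · exfalso
      apply hne
      rw [Core.classInner_irr_ne hμ hχ h1, zero_sub, neg_eq_zero]
      exact Core.classInner_irr_ne hl hχ h2

theorem inner_sum [Fintype M] (h : WrHyp K M lam w) {ξ : M →* ℂˣ} (hfree : Free h ξ)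
    {f : M → ℂ} {σ : ℂ} (hσ : σ = 1 ∨ σ = -1)
    (hf : ∀ s : M, lam (s : C) ≠ 1 → f s = σ * ((ξ s : ℂ) + (conjHom h.conj_mem ξ s : ℂ))) :
    classInner (dif M lam ξ) f = σ := by
  classical
  have h1 : classInner (dif M lam ξ) f = classInner (dif M lam ξ)
      ((σ / 2) • (dif M lam ξ + dif M lam (conjHom h.conj_mem ξ))) := by
    refine WrTI.classInner_dif_congr ξ fun s hs => ?_
    rw [hf s hs, Pi.smul_apply, Pi.add_apply, WrTI.dif_eq h.lam_sq hs, WrTI.dif_eq h.lam_sq hs,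
      smul_eq_mul]
    ring
  have hl : ξ ≠ ξ * lamM M lam := by
    intro h1
    obtain ⟨s, hs, hs1⟩ := h.lam_ne
    apply hs1
    have h3 := DFunLike.congr_fun h1 ⟨s, hs⟩
    rw [MonoidHom.mul_apply, lamM_apply] at h3
    exact (left_eq_mul.1 h3)
  have hl2 : ξ ≠ conjHom h.conj_mem ξ * lamM M lam := by
    intro h1
    apply hfree.2
    rw [← WrTI.mul_lamM_lamM h.lam_sq (conjHom h.conj_mem ξ), ← h1]
  rw [h1, Core.classInner_smul_right, Core.classInner_add_right, WrTI.classInner_dif h.lam_sq,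
    WrTI.classInner_dif h.lam_sq, if_pos rfl, if_neg hl, if_neg (Ne.symm hfree.1), if_neg hl2]
  have h2 : conj (2 : ℂ) = 2 := Complex.conj_ofNat 2
  rcases hσ with rfl | rfl
  · rw [map_div₀, map_one, h2]
    norm_num
  · rw [map_div₀, map_neg, map_one, h2]
    norm_num

theorem norm_hom (ξ : M →* ℂˣ) [Finite M] (s : M) : ‖(ξ s : ℂ)‖ = 1 := Linear.norm_hom_apply ξ s

theorem false_of_sum [Finite M] (h : WrHyp K M lam w) {ξ : M →* ℂˣ} {σ τ : ℂ}
    (hσ : σ = 1 ∨ σ = -1) (hτ : τ = 1 ∨ τ = -1)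
    (hval : ∀ s : M, lam (s : C) ≠ 1 →
      τ * (ξ s : ℂ) = σ * ((ξ s : ℂ) + (conjHom h.conj_mem ξ s : ℂ))) : False := by
  obtain ⟨s, hs, hs1⟩ := h.lam_ne
  have h1 := hval ⟨s, hs⟩ hs1
  have h2 := norm_hom ξ ⟨s, hs⟩
  have h3 := norm_hom (conjHom h.conj_mem ξ) ⟨s, hs⟩
  have h4 : (conjHom h.conj_mem ξ ⟨s, hs⟩ : ℂ) = 0 ∨
      (conjHom h.conj_mem ξ ⟨s, hs⟩ : ℂ) = -2 * (ξ ⟨s, hs⟩ : ℂ) := by
    rcases hσ with rfl | rfl <;> rcases hτ with rfl | rfl
    · left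
      linear_combination -h1
    · right
      linear_combination -h1
    · right
      linear_combination h1
    · left
      linear_combination h1
  rcases h4 with h4 | h4
  · rw [h4, norm_zero] at h3
    norm_num at h3
  · rw [h4, norm_mul, h2] at h3
    norm_num at h3

/-- No character of `K M` with irreducible restriction to `K` is `± (ξ + ξ^w)` on `M - ker lam`. -/
theorem not_irr [Finite C] (h : WrHyp K M lam w) {ξ : M →* ℂˣ} (hfree : Free h ξ)
    {χ : ↥(K ⊔ M) → ℂ} (hχ : IsCharacter ↥(K ⊔ M) χ)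
    (hK : IsIrrCharacter K (fun k : K => χ (inK M k))) {σ : ℂ} (hσ : σ = 1 ∨ σ = -1)
    (hval : ∀ s : M, lam (s : C) ≠ 1 →
      χ (inM K s) = σ * ((ξ s : ℂ) + (conjHom h.conj_mem ξ s : ℂ))) : False := by
  classical
  let _ : Fintype C := Fintype.ofFinite _
  let _ : Fintype M := Fintype.ofFinite _
  have hirr : IsIrrCharacter ↥(K ⊔ M) χ :=
    Inertia.irr_of_comp_irr (Subgroup.inclusion (le_sup_left : K ≤ K ⊔ M)) hχ hK
  have h1 := inner_sum h hfree hσ hval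
  have hσ0 : σ ≠ 0 := by rcases hσ with rfl | rfl <;> norm_num
  obtain ⟨τ, hτ, h2⟩ := eq_of_inner h (ξ := ξ) hirr (by rw [h1]; exact hσ0)
  exact false_of_sum h hσ hτ fun s hs => by rw [← h2 s hs, hval s hs]

/-- The values on `M - ker lam` of an attached character. -/
theorem att_apply [Fintype C] (h : WrHyp K M lam w) {ξ : M →* ℂˣ} {ψ : C → ℂ}
    (ha : Att M lam ξ ψ) : ∃ σ : ℂ, (σ = 1 ∨ σ = -1) ∧ ∀ s : M, lam (s : C) ≠ 1 →
      ψ s = σ * ((ξ s : ℂ) + (conjHom h.conj_mem ξ s : ℂ)) := by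
  obtain ⟨-, σ, hσ, hF⟩ := ha
  refine ⟨σ, hσ, fun s hs => ?_⟩
  have h1 := WrLam.indFun_apply h ξ hs
  rw [hF] at h1
  simp only [lam_eq_neg_one h.lam_sq hs] at h1
  have h2 : σ * σ = 1 := by rcases hσ with rfl | rfl <;> norm_num
  have h3 : (2 : ℂ) * ψ s = 2 * (σ * ((ξ s : ℂ) + (conjHom h.conj_mem ξ s : ℂ))) := by
    linear_combination σ * h1 - 2 * ψ s * h2
  exact mul_left_cancel₀ two_ne_zero h3

/-- The multiplicity is at least two. -/
theorem two_le [Fintype C] (h : WrHyp K M lam w) {ξ : M →* ℂˣ} (hfree : Free h ξ) {ψ : C → ℂ}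
    (ha : Att M lam ξ ψ) {la : K → ℂ} (hla : IsIrrCharacter K la) {e : ℕ}
    (he : ∀ k : K, ψ k = e * la k) : 2 ≤ e := by
  by_contra hcon
  have hψ := ha.1
  rcases Nat.lt_or_ge e 1 with h1 | h1
  · have h2 : e = 0 := by omega
    have h3 := he 1
    rw [h2, Nat.cast_zero, zero_mul] at h3
    exact Core.isIrr_apply_one_ne_zero hψ h3
  · have h2 : e = 1 := by omega
    subst h2
    obtain ⟨σ, hσ, hval⟩ := att_apply h ha
    refine not_irr h hfree (χ := fun g : ↥(K ⊔ M) => ψ g)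
      (Core.isCharacter_comp (K ⊔ M).subtype (Core.isIrr_isCharacter hψ)) ?_ hσ hval
    have h3 : (fun k : K => ψ ((inK M k : ↥(K ⊔ M)) : C)) = la := by
      funext k
      show ψ (k : C) = _
      rw [he k, Nat.cast_one, one_mul]
    rw [h3]
    exact hla

section Frob

variable {q : ℕ} {B K₁ X T : Subgroup C} {z : C} {m : ℕ}

/-- The character of `K₁`. -/
theorem exists_ext [Finite C] (hd : FrobData K lam q B K₁ X T z m) {ψ : C → ℂ}
    (hψ : IsIrrCharacter C ψ) {la : K → ℂ} (hla : IsIrrCharacter K la) {e : ℕ}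
    (he : ∀ k : K, ψ k = e * la k) :
    ∃ μ : K₁ → ℂ, IsIrrCharacter K₁ μ ∧ (∀ x : K₁, ψ x = e * μ x) ∧
      ∀ k : K, μ ⟨k, hd.ext.le k.2⟩ = la k := by
  classical
  have hK₁ := hd.ext.normal'
  have hKn := hd.ext.normal
  let _ : Fintype C := Fintype.ofFinite _
  let _ : Fintype K₁ := Fintype.ofFinite _
  let _ : Fintype (K.subgroupOf K₁) := Fintype.ofFinite _
  have he0 : e ≠ 0 := by
    rintro rfl
    have h1 := he 1
    rw [Nat.cast_zero, zero_mul] at h1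
    exact Core.isIrr_apply_one_ne_zero hψ h1
  have hcl := Core.isIrr_isClassFunction hψ
  -- `la` is invariant
  have hinv : ∀ (g : C) (k : K), la ⟨g * k * g⁻¹, hd.ext.normal.conj_mem k k.2 g⟩ = la k := by
    intro g k
    have h1 := he ⟨g * k * g⁻¹, hd.ext.normal.conj_mem k k.2 g⟩
    have h2 := he k
    have h3 : ψ (g * k * g⁻¹) = ψ k := hcl k g
    change ψ (g * k * g⁻¹) = _ at h1
    rw [h3, h2] at h1
    exact (mul_left_cancel₀ (Nat.cast_ne_zero.2 he0) h1).symm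
  have hψ₁ : IsCharacter K₁ (fun x : K₁ => ψ x) :=
    Clifford.isCharacter_restrict K₁ (Core.isIrr_isCharacter hψ)
  obtain ⟨μ, χ, hμ, hχ, hadd, -⟩ := exists_constituent (LinearMap.proj (1 : K₁)) hψ₁
    (Core.isIrr_apply_one_ne_zero hψ)
  -- the restriction of `μ` to `K` is a multiple of `la`
  let i : K →* K₁ := Subgroup.inclusion hd.ext.le
  obtain ⟨n, hn⟩ := Inertia.exists_mult_of_add hla (Core.isCharacter_comp i
    (Core.isIrr_isCharacter hμ)) (Core.isCharacter_comp i hχ) (d := e) (fun k => by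
      rw [← he k]
      exact (congrFun hadd (i k)).symm)
  have hn0 : n ≠ 0 := by
    rintro rfl
    have h1 := hn 1
    rw [Nat.cast_zero, zero_mul] at h1
    have h2 : (μ ∘ i) 1 = μ 1 := congrArg μ (map_one i)
    rw [h2] at h1
    exact Core.isIrr_apply_one_ne_zero hμ h1
  -- it is equal to `la`
  let e₁ : K.subgroupOf K₁ ≃* K := Subgroup.subgroupOfEquivOfLe hd.ext.le
  have hla' : IsIrrCharacter (K.subgroupOf K₁) (fun k => la (e₁ k)) :=
    Core.isIrr_comp e₁.toMonoidHom e₁.surjective hla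
  have hres' : (fun k : K.subgroupOf K₁ => μ k) = (n : ℂ) • fun k => la (e₁ k) := by
    funext k
    exact hn (e₁ k)
  have hres : ∀ k : K, μ ⟨k, hd.ext.le k.2⟩ = la k := by
    intro k
    have h1 := FrobLift.restrict_eq (K.subgroupOf K₁) (hd.ext.cyclic inferInstance) hla'
      (fun g x => hinv (g : C) (e₁ x)) hμ (by
        rw [hres', Core.classInner_smul_left, Core.classInner_irr_self hla', mul_one]
        exact Nat.cast_ne_zero.2 hn0) ⟨⟨k, hd.ext.le k.2⟩, Subgroup.mem_subgroupOf.2 k.2⟩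
    exact h1
  have hinvμ := hd.ext.inv hμ hla hinv hres
  have hstab : Inertia.stab K₁ μ = ⊤ := by
    rw [eq_top_iff]
    intro g _
    exact Inertia.mem_stab.2 fun k => hinvμ g k
  obtain ⟨d, -, hdψ⟩ := Inertia.exists_mult hμ hstab hψ hχ (fun k => congrFun hadd k)
  have hde : (d : ℂ) = e := by
    have h1 := hdψ 1
    have h2 := he 1
    have h3 : ψ ((1 : K₁) : C) = ψ ((1 : K) : C) := rfl
    have h4 : μ 1 = la 1 := hres 1
    rw [h3, h2, h4] at h1
    exact (mul_right_cancel₀ (Core.isIrr_apply_one_ne_zero hla) h1).symm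
  refine ⟨μ, hμ, fun x => ?_, hres⟩
  rw [hdψ x, hde]

/-- The decomposition of `ψ` on `B`. -/
theorem exists_split [Fintype C] (h : WrHyp K M lam w) (hd : FrobData K lam q B K₁ X T z m)
    {ξ : M →* ℂˣ} (hfree : Free h ξ) {ψ : C → ℂ} (ha : Att M lam ξ ψ) {la : K → ℂ}
    (hla : IsIrrCharacter K la) {e : ℕ} (he : ∀ k : K, ψ k = e * la k) :
    q - 1 ≤ e ∧ ∃ (μ : K₁ → ℂ) (η χ : B → ℂ), IsIrrCharacter K₁ μ ∧ IsIrrCharacter B η ∧
      IsCharacter B χ ∧ (∀ x : K₁, ψ x = e * μ x) ∧ (∀ k : K, μ ⟨k, hd.ext.le k.2⟩ = la k) ∧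
      (∀ b : B, ψ b = η b + χ b) ∧
      (∀ x : K₁, χ ⟨x, hd.le x.2⟩ = ((e - (q - 1) : ℕ) : ℂ) * μ x) ∧
      ∀ g : B, (g : C) ∈ T → (g : C) ∉ K₁ → η g = 0 := by
  have hψ := ha.1
  obtain ⟨μ, hμ, heμ, hres⟩ := exists_ext hd hψ hla he
  obtain ⟨η, χ, hη, hχ, hadd, hηd, hηT⟩ := hd.exists_big hψ hμ (two_le h hfree ha hla he) heμ
  have hle : q - 1 ≤ e := by
    obtain ⟨a, ha0, ha1⟩ := Core.isIrr_apply_one hμ
    obtain ⟨b, hb⟩ := Core.isCharacter_apply_one hχ
    have h1 := hadd 1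
    have h2 := heμ 1
    have h3 := hηd 1
    have h4 : ψ ((1 : B) : C) = ψ ((1 : K₁) : C) := rfl
    have h5 : η ⟨((1 : K₁) : C), hd.le (1 : K₁).2⟩ = η 1 := rfl
    rw [h5] at h3
    rw [h4, h2, h3, ha1, hb] at h1
    have h6 : e * a = (q - 1) * a + b := by exact_mod_cast h1
    by_contra hcon
    push Not at hcon
    have h7 : e * a < (q - 1) * a := Nat.mul_lt_mul_of_pos_right hcon ha0
    omega
  refine ⟨hle, μ, η, χ, hμ, hη, hχ, heμ, hres, hadd, fun x => ?_, hηT⟩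
  have h1 := hadd ⟨x, hd.le x.2⟩
  have h2 := heμ x
  have h3 := hηd x
  have h4 : ψ ((⟨x, hd.le x.2⟩ : B) : C) = ψ x := rfl
  rw [h4, h2, h3] at h1
  rw [Nat.cast_sub hle]
  linear_combination -h1

/-- `e ≥ q - 1`. -/
theorem le_of_inv [Fintype C] (h : WrHyp K M lam w) (hd : FrobData K lam q B K₁ X T z m)
    {ξ : M →* ℂˣ} (hfree : Free h ξ) {ψ : C → ℂ} (ha : Att M lam ξ ψ) {la : K → ℂ}
    (hla : IsIrrCharacter K la) {e : ℕ} (he : ∀ k : K, ψ k = e * la k) : q - 1 ≤ e :=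
  (exists_split h hd hfree ha hla he).1

/-- On `M - ker lam`, the character `χ` has the values of `ψ`. -/
theorem chi_apply (hd : FrobData K lam q B K₁ X T z m)
    (hT : K ⊔ M ≤ T) {ψ : C → ℂ} {η χ : B → ℂ} (hadd : ∀ b : B, ψ b = η b + χ b)
    (hηT : ∀ g : B, (g : C) ∈ T → (g : C) ∉ K₁ → η g = 0) {s : M} (hs : (s : C) ∉ K₁) :
    χ ⟨s, hd.T_le (hT ((le_sup_right : M ≤ K ⊔ M) s.2))⟩ = ψ s := by
  have h1 := hadd ⟨s, hd.T_le (hT ((le_sup_right : M ≤ K ⊔ M) s.2))⟩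
  rw [hηT _ (hT ((le_sup_right : M ≤ K ⊔ M) s.2)) hs, zero_add] at h1
  exact h1.symm

theorem notMem_of_ne (hd : FrobData K lam q B K₁ X T z m) {s : C} (hs : lam s ≠ 1) : s ∉ K₁ :=
  fun h1 => hs (hd.lam_K₁ h1)

/-- If `K M ≤ T` then `e ≥ q + 1`. -/
theorem le_of_inv_one [Fintype C] (h : WrHyp K M lam w) (hd : FrobData K lam q B K₁ X T z m)
    (hT : K ⊔ M ≤ T) {ξ : M →* ℂˣ} (hfree : Free h ξ) {ψ : C → ℂ} (ha : Att M lam ξ ψ)
    {la : K → ℂ} (hla : IsIrrCharacter K la) {e : ℕ} (he : ∀ k : K, ψ k = e * la k) :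
    q + 1 ≤ e := by
  classical
  let _ : Fintype M := Fintype.ofFinite _
  obtain ⟨hle, μ, η, χ, hμ, hη, hχ, heμ, hres, hadd, hχd, hηT⟩ := exists_split h hd hfree ha hla he
  obtain ⟨σ, hσ, hval⟩ := att_apply h ha
  have hDB : K ⊔ M ≤ B := hT.trans hd.T_le
  have hσ0 : σ ≠ 0 := by rcases hσ with rfl | rfl <;> norm_num
  have hχval : ∀ s : M, lam (s : C) ≠ 1 →
      χ ⟨s, hDB ((le_sup_right : M ≤ K ⊔ M) s.2)⟩ =
        σ * ((ξ s : ℂ) + (conjHom h.conj_mem ξ s : ℂ)) := by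
    intro s hs
    rw [← hval s hs]
    exact chi_apply hd hT hadd hηT (notMem_of_ne hd hs)
  have hχK : ∀ k : K, χ ⟨k, hDB ((le_sup_left : K ≤ K ⊔ M) k.2)⟩ =
      ((e - (q - 1) : ℕ) : ℂ) * la k := by
    intro k
    rw [← hres k]
    exact hχd ⟨k, hd.ext.le k.2⟩
  have hq := hd.frob.q_ge
  by_contra hcon
  have h1 : e - (q - 1) = 0 ∨ e - (q - 1) = 1 := by omega
  rcases h1 with h1 | h1
  · -- `χ = 0`
    have h2 : χ = 0 := by
      obtain ⟨N, ρ, rfl⟩ := hχ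
      have h3 := hχK 1
      rw [h1, Nat.cast_zero, zero_mul] at h3
      have h4 : ρ.character 1 = 0 := h3
      rw [Representation.char_one] at h4
      have h5 : N = 0 := by simpa using h4
      subst h5
      funext g
      show LinearMap.trace ℂ _ (ρ g) = 0
      rw [Subsingleton.elim (ρ g) 0, map_zero]
    have h3 := inner_sum h hfree hσ (f := fun s : M => 0) (fun s hs => by
      rw [← hχval s hs, h2]
      rfl)
    have h4 : (fun s : M => (0 : ℂ)) = 0 := rfl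
    rw [h4, Core.classInner_zero_right] at h3
    exact hσ0 h3.symm
  · refine not_irr h hfree (χ := fun g : ↥(K ⊔ M) => χ ⟨g, hDB g.2⟩)
      (Core.isCharacter_comp (Subgroup.inclusion hDB) hχ) ?_ hσ hχval
    have h3 : (fun k : K => χ ⟨((inK M k : ↥(K ⊔ M)) : C), hDB (inK M k).2⟩) = la := by
      funext k
      have h4 := hχK k
      rw [h1, Nat.cast_one, one_mul] at h4
      exact h4
    rw [h3]
    exact hla

theorem lin_cases [Fintype M] (h : WrHyp K M lam w) (ξ a : M →* ℂˣ) :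
    classInner (dif M lam ξ) (fun s => (a s : ℂ)) = 0 ∨
      (classInner (dif M lam ξ) (fun s => (a s : ℂ)) = 1 ∧ a = ξ) ∨
      (classInner (dif M lam ξ) (fun s => (a s : ℂ)) = -1 ∧ a = ξ * lamM M lam) := by
  classical
  have hl : ξ ≠ ξ * lamM M lam := by
    intro h1
    obtain ⟨s, hs, hs1⟩ := h.lam_ne
    apply hs1
    have h3 := DFunLike.congr_fun h1 ⟨s, hs⟩
    rw [MonoidHom.mul_apply, lamM_apply] at h3
    exact (left_eq_mul.1 h3)
  rw [WrTI.dif_eq_sub, Core.classInner_sub_left, WrTI.classInner_hom, WrTI.classInner_hom]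
  by_cases h1 : ξ = a
  · right
    left
    rw [if_pos h1, if_neg (fun h2 => hl (h1.trans h2.symm)), sub_zero]
    exact ⟨rfl, h1.symm⟩
  · by_cases h2 : ξ * lamM M lam = a
    · right
      right
      rw [if_neg h1, if_pos h2, zero_sub]
      exact ⟨rfl, h2.symm⟩
    · left
      rw [if_neg h1, if_neg h2, sub_zero]

theorem lin_apply [Fintype M] (h : WrHyp K M lam w) {ξ a : M →* ℂˣ} {σ : ℂ}
    (hσ : σ = 1 ∨ σ = -1) (ha : classInner (dif M lam ξ) (fun s => (a s : ℂ)) = σ) :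
    (∀ s : M, lam (s : C) ≠ 1 → (a s : ℂ) = σ * (ξ s : ℂ)) ∧
      ∀ s : M, lam (s : C) = 1 → (a s : ℂ) = (ξ s : ℂ) := by
  have hσ0 : σ ≠ 0 := by rcases hσ with rfl | rfl <;> norm_num
  rcases lin_cases h ξ a with h1 | ⟨h1, h2⟩ | ⟨h1, h2⟩
  · exact absurd (ha.symm.trans h1) hσ0
  · have h3 : σ = 1 := ha.symm.trans h1
    subst h3
    subst h2
    exact ⟨fun s _ => (one_mul _).symm, fun s _ => rfl⟩
  · have h3 : σ = -1 := ha.symm.trans h1
    subst h3
    subst h2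
    refine ⟨fun s hs => ?_, fun s hs => ?_⟩
    · rw [MonoidHom.mul_apply, Units.val_mul, lamM_apply, lam_eq_neg_one h.lam_sq hs]
      ring
    · rw [MonoidHom.mul_apply, Units.val_mul, lamM_apply, hs, Units.val_one, mul_one]

/-- Two linear characters of `M` with sum `± (ξ + ξ^w)` on `M - ker lam`. -/
theorem sum_apply [Fintype M] (h : WrHyp K M lam w) {ξ : M →* ℂˣ} (hfree : Free h ξ)
    {a b : M →* ℂˣ} {σ : ℂ} (hσ : σ = 1 ∨ σ = -1)
    (hab : ∀ s : M, lam (s : C) ≠ 1 →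
      (a s : ℂ) + (b s : ℂ) = σ * ((ξ s : ℂ) + (conjHom h.conj_mem ξ s : ℂ)))
    {y : M} (hy : lam (y : C) = 1) :
    (a y : ℂ) + (b y : ℂ) = (ξ y : ℂ) + (conjHom h.conj_mem ξ y : ℂ) := by
  have hσ0 : σ ≠ 0 := by rcases hσ with rfl | rfl <;> norm_num
  -- one of the two
  have key : ∀ a b : M →* ℂˣ, (∀ s : M, lam (s : C) ≠ 1 →
      (a s : ℂ) + (b s : ℂ) = σ * ((ξ s : ℂ) + (conjHom h.conj_mem ξ s : ℂ))) →
      classInner (dif M lam ξ) (fun s => (a s : ℂ)) = σ →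
      (a y : ℂ) + (b y : ℂ) = (ξ y : ℂ) + (conjHom h.conj_mem ξ y : ℂ) := by
    intro a b hab ha
    obtain ⟨h1, h2⟩ := lin_apply h hσ ha
    have h3 : ∀ s : M, lam (s : C) ≠ 1 → (b s : ℂ) = σ * (conjHom h.conj_mem ξ s : ℂ) := by
      intro s hs
      have h4 := hab s hs
      rw [h1 s hs] at h4
      linear_combination h4
    obtain ⟨s0, hs0, hs1⟩ := h.lam_ne
    have h4 := h3 (y * ⟨s0, hs0⟩) (by
      show lam ((y : C) * s0) ≠ 1
      rw [map_mul, hy, one_mul]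
      exact hs1)
    rw [map_mul, map_mul, Units.val_mul, Units.val_mul, h3 ⟨s0, hs0⟩ hs1] at h4
    have h5 : (conjHom h.conj_mem ξ ⟨s0, hs0⟩ : ℂ) ≠ 0 := Units.ne_zero _
    have h6 : (b y : ℂ) = (conjHom h.conj_mem ξ y : ℂ) := by
      refine mul_right_cancel₀ (mul_ne_zero hσ0 h5) ?_
      linear_combination h4
    rw [h2 y hy, h6]
  have h1 := inner_sum h hfree hσ (f := fun s : M => (a s : ℂ) + (b s : ℂ)) hab
  have h2 : (fun s : M => (a s : ℂ) + (b s : ℂ)) =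
      (fun s : M => (a s : ℂ)) + fun s : M => (b s : ℂ) := rfl
  rw [h2, Core.classInner_add_right] at h1
  have hab' : ∀ s : M, lam (s : C) ≠ 1 →
      (b s : ℂ) + (a s : ℂ) = σ * ((ξ s : ℂ) + (conjHom h.conj_mem ξ s : ℂ)) := by
    intro s hs
    rw [add_comm]
    exact hab s hs
  rcases lin_cases h ξ a with h3 | ⟨h3, -⟩ | ⟨h3, -⟩
  · rw [h3, zero_add] at h1
    rw [add_comm (a y : ℂ)]
    exact key b a hab' h1
  · rcases lin_cases h ξ b with h4 | ⟨h4, -⟩ | ⟨h4, -⟩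
    · rw [h4, add_zero] at h1
      exact key a b hab h1
    · exfalso
      rw [h3, h4] at h1
      rcases hσ with rfl | rfl <;> norm_num at h1
    · exfalso
      rw [h3, h4] at h1
      rcases hσ with rfl | rfl <;> norm_num at h1
  · rcases lin_cases h ξ b with h4 | ⟨h4, -⟩ | ⟨h4, -⟩
    · rw [h4, add_zero] at h1
      exact key a b hab h1
    · exfalso
      rw [h3, h4] at h1
      rcases hσ with rfl | rfl <;> norm_num at h1
    · exfalso
      rw [h3, h4] at h1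
      rcases hσ with rfl | rfl <;> norm_num at h1

/-- The values on `M ∩ ker lam - K₁` in the case of equality. -/
theorem apply_of_eq [Fintype C] (h : WrHyp K M lam w) (hd : FrobData K lam q B K₁ X T z m)
    (hT : K ⊔ M ≤ T) {ξ : M →* ℂˣ} (hfree : Free h ξ) {ψ : C → ℂ} (ha : Att M lam ξ ψ)
    {la : K → ℂ} (hla : IsIrrCharacter K la) (hla1 : la 1 = 1)
    (he : ∀ k : K, ψ k = ((q + 1 : ℕ) : ℂ) * la k) {y : M} (hy : lam (y : C) = 1)
    (hyK : (y : C) ∉ K₁) : ψ y = (ξ y : ℂ) + (conjHom h.conj_mem ξ y : ℂ) := by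
  classical
  let _ : Fintype M := Fintype.ofFinite _
  obtain ⟨hle, μ, η, χ, hμ, hη, hχ, heμ, hres, hadd, hχd, hηT⟩ := exists_split h hd hfree ha hla he
  obtain ⟨σ, hσ, hval⟩ := att_apply h ha
  have hDB : K ⊔ M ≤ B := hT.trans hd.T_le
  have hq := hd.frob.q_ge
  have hcl := Core.isIrr_isClassFunction ha.1
  have e1 : q + 1 - (q - 1) = 2 := by omega
  rw [e1] at hχd
  have hμ1 : μ 1 = 1 := by rw [← hla1]; exact hres 1
  have hχ1 : χ 1 = 2 := by
    have h1 := hχd 1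
    rw [hμ1] at h1
    push_cast at h1
    rw [mul_one] at h1
    exact h1
  -- a constituent of `χ`
  obtain ⟨α, β, hα, hβ, hαβ, -⟩ := exists_constituent (LinearMap.proj (1 : B)) hχ (by
    show χ 1 ≠ 0
    rw [hχ1]
    norm_num)
  have hηβ : IsCharacter B (fun b => η b + β b) :=
    Core.isCharacter_add (Core.isIrr_isCharacter hη) hβ
  obtain ⟨n, hn, hn2⟩ := hd.constituent hcl hμ (d := q + 1) (by omega) heμ hα hηβ (fun b => by
    rw [hadd b, hαβ, Pi.add_apply]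
    ring)
  have hα1 : α 1 = n := by
    have h1 := hn 1
    rw [hμ1, mul_one] at h1
    exact h1
  obtain ⟨b, hb⟩ := Core.isCharacter_apply_one hβ
  have hnb : n + b = 2 := by
    have h1 := congrFun hαβ 1
    rw [Pi.add_apply, hχ1, hα1, hb] at h1
    exact_mod_cast h1.symm
  have hn1 : n = 1 := by
    rcases hn2 with h1 | ⟨h1, -⟩
    · exact h1
    · omega
  have hb1 : b = 1 := by omega
  subst hn1
  subst hb1
  obtain ⟨a', ha'⟩ := Linear.exists_hom_of_isCharacter (Core.isIrr_isCharacter hα)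
    (by rw [hα1, Nat.cast_one])
  obtain ⟨b', hb'⟩ := Linear.exists_hom_of_isCharacter hβ (by rw [hb, Nat.cast_one])
  let i : M →* B := Subgroup.inclusion ((le_sup_right : M ≤ K ⊔ M).trans hDB)
  have hsum : ∀ s : M, (s : C) ∉ K₁ → ((a'.comp i) s : ℂ) + ((b'.comp i) s : ℂ) = ψ s := by
    intro s hs
    rw [← chi_apply hd hT hadd hηT hs, hαβ, Pi.add_apply, ha', hb']
    rfl
  rw [← hsum y hyK]
  refine sum_apply h hfree hσ (fun s hs => ?_) hy
  rw [hsum s (notMem_of_ne hd hs), hval s hs]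

end Frob

end Cfsg.Agent.Classification.QDW.WrInv
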