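import Mathlib
import Cfsg.Prelude.Def_Characters
import Cfsg.Agent.Classification.QDW.WrInv
import Cfsg.Agent.Classification.QDW.WrCore

/-!
# The wreathed case: `FrobOut` from `FrobData`

* `frobOut_one`: `ε = 1`, `N = q + 1`;
* `frobOut_neg`: `ε = -1`, `N = q - 1`, `q ≥ 5`;
* `frobOut_two`: `N = 2` (for `q = 3`).
-/

set_option autoImplicit false
set_option linter.unusedSectionVars false

namespace Cfsg.Agent.Classification.QDW.WrFrobOut

open Cfsg Cfsg.Agent.Classification.QDW.WrDefs Cfsg.Agent.Classification.QDW.WrCore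
open Cfsg.Agent.Classification.QDW.WrFrob Cfsg.Agent.Classification.QDW.WrInv

universe u

variable {C : Type u} [Group C] {K M : Subgroup C} {lam : C →* ℂˣ} {w : C}
  {q : ℕ} {B K₁ X T : Subgroup C} {z : C} {m : ℕ}

theorem frobOut_one [Fintype C] [K.Normal] (h : WrHyp K M lam w)
    (hd : FrobData K lam q B K₁ X T z m) (hT : K ⊔ M ≤ T) : FrobOut (q + 1) h K₁ where
  le := fun _ hφ _ _ _ _ hfree ha _ _ he => le_of_inv_one h hd hT hfree ha hφ he
  val := fun _ hφ _ hφ1 _ _ _ hfree ha he y hy hly hyK =>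
    apply_of_eq h hd hT hfree ha hφ hφ1 he (y := ⟨y, hy⟩) hly hyK

theorem frobOut_neg [Fintype C] [K.Normal] (h : WrHyp K M lam w)
    (hd : FrobData K lam q B K₁ X T z m) : FrobOut (q - 1) h ⊤ where
  le := fun _ hφ _ _ _ _ hfree ha _ _ he => le_of_inv h hd hfree ha hφ he
  val := fun _ _ _ _ _ _ _ _ _ _ y _ _ hyK => absurd (Subgroup.mem_top y) hyK

theorem frobOut_two [Fintype C] [K.Normal] (h : WrHyp K M lam w) :
    FrobOut 2 h ⊤ where
  le := fun _ _ _ _ _ _ _ _ _ he _ => he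
  val := fun _ _ _ _ _ _ _ _ _ _ y _ _ hyK => absurd (Subgroup.mem_top y) hyK

end Cfsg.Agent.Classification.QDW.WrFrobOut
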