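import Mathlib
import Cfsg.Prelude.Def_Characters
import Cfsg.Agent.Characters.Core
import Cfsg.Agent.Characters.Clifford
import Cfsg.Agent.Classification.QDW.CoreConst
import Cfsg.Agent.Classification.QDW.GlauberTwo
import Cfsg.Agent.Classification.QDW.FrobLift
import Cfsg.Agent.Classification.QDW.Inertia
import Cfsg.Agent.Classification.QDW.NormBound
import Cfsg.Agent.Classification.QDW.BigDeg

/-!
# The degree bound

`LBHyp`: the hypotheses on the centralizer of an involution in the quasidihedral case. If `ψ` is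
irreducible and its coefficient at a linear character `l` of `W`, not fixed by `w`, is not zero,
then `ψ(1) ≥ (q + ε) lam(1)` for a constituent `lam` of `ψ` on `K` (`degree`).
-/

set_option autoImplicit false
set_option linter.unusedSectionVars false

namespace Cfsg.Agent.Classification.QDW.DegBound

open Cfsg Cfsg.Agent.Characters Cfsg.Agent.Classification.QDW.Coef
open Cfsg.Agent.Classification.QDW.Inertia Cfsg.Agent.Classification.QDW.GlauberTwo
open Cfsg.Agent.Classification.QDW.NormBound Cfsg.Agent.Classification.QDW.BigDeg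
open scoped ComplexConjugate

universe u v

variable {C : Type u} [Group C] {W : Type v} [Group W]

/-- The hypotheses on the centralizer `C` of the involution `t`. -/
structure LBHyp (q : ℕ) (ε : ℤ) (K L B : Subgroup C) (K₁ X T : Subgroup B) (e : W →* C)
    (α : W ≃* W) (t u w : C) : Prop where
  eps : ε = 1 ∨ ε = -1
  big : Big q K L B K₁ X T t
  cent : Cent L e u
  fixK : ∀ k ∈ K, Commute u k → k ∈ e.range
  wu : w * u * w⁻¹ = t * u
  we : ∀ y, w * e y * w⁻¹ = e (α y)
  epsT : ε = 1 → ∃ hu : u ∈ B, (⟨u, hu⟩ : B) ∈ T ∧ ∀ y, ∃ hy : e y ∈ B, (⟨e y, hy⟩ : B) ∈ T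
  index : ∀ H : Subgroup C, K ≤ H → t ∈ H → u ∈ H → (∀ y, e y ∈ H) → H ≠ ⊤ →
    q ≤ H.index ∧ (ε = 1 → q + 1 ≤ H.index)

variable {q : ℕ} {ε : ℤ} {K L B : Subgroup C} {K₁ X T : Subgroup B} {e : W →* C} {α : W ≃* W}
  {t u w : C}

theorem loc (h : LBHyp q ε K L B K₁ X T e α t u w) : Loc K e u where
  normal := h.big.normal
  oddK := h.big.oddK
  oddW := h.cent.oddW
  inj := h.cent.inj
  sq := h.cent.sq
  ne := by
    rintro rfl
    exact h.cent.not_mem L.one_mem
  comm := h.cent.comm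
  fix := h.fixK

/-- The local hypotheses inside `B`. -/
theorem loc_B (h : LBHyp q ε K L B K₁ X T e α t u w) (hu : u ∈ B) (he : ∀ y, e y ∈ B) :
    Loc (K.subgroupOf B) (e.codRestrict B he) (⟨u, hu⟩ : B) where
  normal := by
    have := h.big.normal
    infer_instance
  oddK := by
    rw [Nat.card_congr (Subgroup.subgroupOfEquivOfLe h.big.KB).toEquiv]
    exact h.big.oddK
  oddW := h.cent.oddW
  inj := fun a b hab => h.cent.inj (congrArg Subtype.val hab)
  sq := Subtype.ext h.cent.sq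
  ne := fun h1 => (loc h).ne (congrArg Subtype.val h1)
  comm := fun y => Subtype.ext (h.cent.comm y).eq
  fix := by
    intro k hk hc
    obtain ⟨y, hy⟩ := h.fixK k hk (congrArg Subtype.val hc.eq)
    exact ⟨y, Subtype.ext hy⟩

variable [Finite C] [Fintype W]

/-- The linear character conjugated by `w`. -/
def conjL (α : W ≃* W) (l : W →* ℂˣ) : W →* ℂˣ := l.comp α.symm.toMonoidHom

theorem coef_conj (h : LBHyp q ε K L B K₁ X T e α t u w) {ψ : C → ℂ}
    (hψ : IsClassFunction C ψ) {τ : ℂ} (hτ : τ = 1 ∨ τ = -1) (hτ' : ∀ x, ψ (t * x) = τ * ψ x)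
    (l : W →* ℂˣ) :
    coef (fun y : W => u * e y) (fun y => (conjL α l y : ℂ)) ψ =
      τ * coef (fun y : W => u * e y) (fun y => (l y : ℂ)) ψ := by
  have h1 : ∀ y : W, ψ (u * e (α y)) = τ * ψ (u * e y) := by
    intro y
    have h2 : w * (u * e y) * w⁻¹ = t * (u * e (α y)) := by
      calc w * (u * e y) * w⁻¹ = (w * u * w⁻¹) * (w * e y * w⁻¹) := by group
        _ = t * u * e (α y) := by rw [h.wu, h.we]
        _ = t * (u * e (α y)) := by group
    have h3 := hψ (u * e y) w
    rw [h2, hτ'] at h3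
    rcases hτ with h4 | h4 <;> rw [h4] at h3 ⊢
    · linear_combination h3
    · linear_combination -h3
  rw [coef_apply, coef_apply, Core.classInner_def, Core.classInner_def]
  have h2 : ∑ y : W, ψ (u * e y) * conj (conjL α l y : ℂ) =
      ∑ y : W, ψ (u * e (α y)) * conj (conjL α l (α y) : ℂ) :=
    (Fintype.sum_equiv α.toEquiv _ _ fun y => rfl).symm
  rw [h2]
  have h3 : ∀ y : W, ψ (u * e (α y)) * conj (conjL α l (α y) : ℂ) =
      τ * (ψ (u * e y) * conj (l y : ℂ)) := by
    intro y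
    have h4 : conjL α l (α y) = l y := by
      show l (α.symm (α y)) = l y
      rw [MulEquiv.symm_apply_apply]
    rw [h1, h4]
    ring
  rw [Finset.sum_congr rfl fun y _ => h3 y, ← Finset.mul_sum]
  ring

/-- Coefficients of functions vanishing on the coset. -/
theorem coef_eq_zero {Γ : Type u} (e' : W → Γ) (l : W → ℂ) {f : Γ → ℂ} (hf : ∀ y, f (e' y) = 0) :
    coef e' l f = 0 := by
  rw [coef_apply]
  have : (fun y : W => f (e' y)) = 0 := funext hf
  rw [this, Core.classInner_zero_left]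

/-- **The degree bound**, with the stabilizer of the constituent. -/
theorem degree' [hN : K.Normal] (h : LBHyp q ε K L B K₁ X T e α t u w) {ψ : C → ℂ}
    (hψ : IsIrrCharacter C ψ) (l : W →* ℂˣ) (hl : conjL α l ≠ l)
    (h0 : coef (fun y : W => u * e y) (fun y => (l y : ℂ)) ψ ≠ 0) :
    ∃ (lam χ : K → ℂ) (a b : ℕ), IsIrrCharacter K lam ∧ IsCharacter K χ ∧
      (∀ k : K, ψ k = lam k + χ k) ∧ lam 1 = a ∧ ψ 1 = b ∧ 1 ≤ a ∧
      (u ∈ stab K lam ∧ ∀ y, e y ∈ stab K lam) ∧
      ((stab K lam = ⊤ ∧ ((q : ℤ) + ε) * a ≤ b) ∨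
        (stab K lam ≠ ⊤ ∧ (stab K lam).index * a ≤ b ∧ q ≤ (stab K lam).index ∧
          (ε = 1 → q + 1 ≤ (stab K lam).index))) := by
  classical
  obtain ⟨lam, χ, hlam, hχ, hadd, hlu, hle⟩ :=
    exists_invariant (loc h) (Core.isIrr_isCharacter hψ) l h0
  obtain ⟨a, ha0, ha⟩ := Core.isIrr_apply_one hlam
  obtain ⟨b, hb0, hb⟩ := Core.isIrr_apply_one hψ
  refine ⟨lam, χ, a, b, hlam, hχ, hadd, ha, hb, ha0, ⟨hlu, fun y => hle y⟩, ?_⟩
  by_cases hst : stab K lam = ⊤
  · left
    refine ⟨hst, ?_⟩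
    obtain ⟨d, hd1, hd⟩ := exists_mult hlam hst hψ hχ hadd
    obtain ⟨μ, hμ, hμψ, hμlam⟩ := exists_mu h.big hlam hψ hd
    obtain ⟨τ, hτ, hτ'⟩ := central_sign h.big.tt h.big.t_comm hψ
    have hτ0 : τ ≠ 0 := by
      rcases hτ with h4 | h4 <;> rw [h4] <;> norm_num
    have h0' : coef (fun y : W => u * e y) (fun y => (conjL α l y : ℂ)) ψ ≠ 0 := by
      rw [coef_conj h (Core.isIrr_isClassFunction hψ) hτ hτ']
      exact mul_ne_zero hτ0 h0
    have hbd : (b : ℤ) = d * a := by
      have h1 := hd 1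
      have h2 : ψ ((1 : K) : C) = b := hb
      rw [h2, ha] at h1
      exact_mod_cast h1
    have hd2 : 2 ≤ d := by
      by_contra hcon
      have hd1' : d = 1 := by omega
      refine hl ?_
      refine unique_of_irr (loc h) (Core.isIrr_isCharacter hψ) ?_ _ _ h0' h0
      have h1 : (fun k : K => ψ k) = lam := by
        funext k
        rw [hd k, hd1', Nat.cast_one, one_mul]
      rw [h1]
      exact hlam
    obtain ⟨η, χB, hη, hχB, haddB, hημ, hηT⟩ := exists_big h.big hψ hμ hd2 hμψ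
    have hμ1 : μ 1 = a := by
      have h1 := hμlam 1
      rw [map_one, ha] at h1
      exact h1
    have hq := h.big.frob.q_ge
    obtain ⟨c, hc⟩ := Core.isCharacter_apply_one hχB
    have ha0' : (0 : ℤ) < a := by exact_mod_cast ha0
    have hψ1 : ψ ((1 : B) : C) = b := hb
    have hη1 : η 1 = ((q - 1 : ℕ) : ℂ) * a := by
      have h1 := hημ 1
      rw [hμ1] at h1
      exact h1
    have hqcast : ((q - 1 : ℕ) : ℂ) = (((q : ℤ) - 1 : ℤ) : ℂ) := by
      push_cast [Nat.cast_sub (by omega : 1 ≤ q)]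
      ring
    rcases h.eps with he1 | he1
    · -- `ε = 1`
      obtain ⟨huB, huT, heT⟩ := h.epsT he1
      have heB : ∀ y, e y ∈ B := fun y => (heT y).1
      have hmemT : ∀ y : W, (⟨u, huB⟩ * e.codRestrict B heB y : B) ∈ T := by
        intro y
        obtain ⟨hy, hyT⟩ := heT y
        exact T.mul_mem huT hyT
      have hnotK : ∀ y : W, (⟨u, huB⟩ * e.codRestrict B heB y : B) ∉ K₁ := by
        intro y h1
        have hLt : t ∈ L := by
          -- `t` is in `K₁ ≤ X`, so in the normal closure; use the index two subgroup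
          by_contra htL
          -- `t` outside `L`: then `t u ∈ L`, but `t u` is conjugate to `u`
          have hLN : L.Normal := Subgroup.normal_of_index_eq_two h.cent.index
          have h2 : t * u ∈ L := (Subgroup.mul_mem_iff_of_index_two h.cent.index).2
            (iff_of_false htL h.cent.not_mem)
          rw [← h.wu] at h2
          refine h.cent.not_mem ?_
          have h3 := hLN.conj_mem _ h2 w⁻¹
          have h4 : w⁻¹ * (w * u * w⁻¹) * w⁻¹⁻¹ = u := by group
          rwa [h4] at h3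
        have h2 : u * e y ∉ L := mul_not_mem h.cent y
        rcases (h.big.mem _).1 h1 with h3 | h3
        · exact h2 (h.big.KL h3)
        · have h4 : t * (u * e y) ∈ L := h.big.KL h3
          exact h2 ((L.mul_mem_cancel_left hLt).1 h4)
      have hcB : ∀ (m : W →* ℂˣ) (f : C → ℂ),
          coef (fun y : W => (⟨u, huB⟩ * e.codRestrict B heB y : B)) (fun y => (m y : ℂ))
            (fun b : B => f b) = coef (fun y : W => u * e y) (fun y => (m y : ℂ)) f :=
        fun _ _ => rfl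
      have hc0 : ∀ m : W →* ℂˣ,
          coef (fun y : W => (⟨u, huB⟩ * e.codRestrict B heB y : B)) (fun y => (m y : ℂ)) η = 0 :=
        fun m => coef_eq_zero _ _ fun y => hηT _ (hmemT y) (hnotK y)
      have hψB : (fun b : B => ψ b) = η + χB := funext haddB
      -- the first constituent
      have h1 : coef (fun y : W => (⟨u, huB⟩ * e.codRestrict B heB y : B)) (fun y => (l y : ℂ)) χB
          ≠ 0 := by
        have h2 := hcB l ψ
        rw [hψB, map_add, hc0, zero_add] at h2
        rw [h2]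
        exact h0
      obtain ⟨η₁, χ₁, hη₁, hχ₁, hadd₁, hne₁⟩ := exists_constituent _ hχB h1
      have key : ∀ (m : W →* ℂˣ) (η' χ' : B → ℂ), IsIrrCharacter B η' → IsCharacter B χ' →
          (∀ b : B, ψ b = η' b + χ' b) →
          coef (fun y : W => (⟨u, huB⟩ * e.codRestrict B heB y : B)) (fun y => (m y : ℂ)) η' ≠ 0 →
          ∀ x : K₁, η' x = μ x := by
        intro m η' χ' hη' hχ' hadd' hne x
        obtain ⟨m', hm', hm2⟩ := constituent h.big hψ hμ (by omega) hμψ hη' hχ' hadd'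
        rcases hm2 with h2 | ⟨h2, h3⟩
        · rw [hm', h2, Nat.cast_one, one_mul]
        · exfalso
          exact hne (coef_eq_zero _ _ fun y => h3 _ (hmemT y) (hnotK y))
      have hη₁μ := key l η₁ (η + χ₁) hη₁ (Core.isCharacter_add (Core.isIrr_isCharacter hη) hχ₁)
        (fun b => by rw [haddB, hadd₁, Pi.add_apply, Pi.add_apply]; ring) hne₁
      -- it does not see the second linear character
      have h2 : coef (fun y : W => (⟨u, huB⟩ * e.codRestrict B heB y : B))
          (fun y => (conjL α l y : ℂ)) η₁ = 0 := by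
        by_contra h3
        refine hl (unique_of_irr (loc_B h huB heB) (Core.isIrr_isCharacter hη₁) ?_ _ _ h3 hne₁)
        have h4 : (fun k : K.subgroupOf B => η₁ k) =
            fun k => lam (Subgroup.subgroupOfEquivOfLe h.big.KB k) := by
          funext k
          have h5 := hμlam (Subgroup.subgroupOfEquivOfLe h.big.KB k)
          rw [← h5]
          exact hη₁μ (emb h.big (Subgroup.subgroupOfEquivOfLe h.big.KB k))
        rw [h4]
        exact Core.isIrr_comp (Subgroup.subgroupOfEquivOfLe h.big.KB).toMonoidHom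
          (Subgroup.subgroupOfEquivOfLe h.big.KB).surjective hlam
      have h3 : coef (fun y : W => (⟨u, huB⟩ * e.codRestrict B heB y : B))
          (fun y => (conjL α l y : ℂ)) χ₁ ≠ 0 := by
        have h4 := hcB (conjL α l) ψ
        rw [hψB, hadd₁, map_add, map_add, hc0, h2, zero_add, zero_add] at h4
        rw [h4]
        exact h0'
      obtain ⟨η₂, χ₂, hη₂, hχ₂, hadd₂, hne₂⟩ := exists_constituent _ hχ₁ h3
      have hη₂μ := key (conjL α l) η₂ (η + η₁ + χ₂) hη₂
        (Core.isCharacter_add (Core.isCharacter_add (Core.isIrr_isCharacter hη)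
          (Core.isIrr_isCharacter hη₁)) hχ₂)
        (fun b => by
          rw [haddB, hadd₁, hadd₂, Pi.add_apply, Pi.add_apply, Pi.add_apply, Pi.add_apply]
          ring) hne₂
      obtain ⟨c₂, hc₂⟩ := Core.isCharacter_apply_one hχ₂
      have h4 : ((b : ℤ) : ℂ) = ((((q : ℤ) + 1) * a + c₂ : ℤ) : ℂ) := by
        have h5 := haddB 1
        rw [hadd₁, hadd₂, Pi.add_apply, Pi.add_apply, hψ1, hη1, hc₂] at h5
        have h6 : η₁ 1 = a := by rw [← hμ1]; exact hη₁μ 1
        have h7 : η₂ 1 = a := by rw [← hμ1]; exact hη₂μ 1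
        rw [h6, h7, hqcast] at h5
        push_cast at h5 ⊢
        rw [h5]
        ring
      have h5 : (b : ℤ) = ((q : ℤ) + 1) * a + c₂ := by exact_mod_cast h4
      rw [he1, h5]
      have : (0 : ℤ) ≤ c₂ := by positivity
      linarith
    · -- `ε = -1`
      have h4 : ((b : ℤ) : ℂ) = ((((q : ℤ) - 1) * a + c : ℤ) : ℂ) := by
        have h5 := haddB 1
        rw [hψ1, hη1, hc, hqcast] at h5
        push_cast at h5 ⊢
        exact h5
      have h5 : (b : ℤ) = ((q : ℤ) - 1) * a + c := by exact_mod_cast h4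
      rw [he1, h5]
      have : (0 : ℤ) ≤ c := by positivity
      linarith
  · right
    have hu : u ∈ stab K lam := hlu
    have he : ∀ y, e y ∈ stab K lam := fun y => hle y
    obtain ⟨h1, h2⟩ := h.index (stab K lam) (le_stab (Core.isIrr_isClassFunction hlam))
      (center_le_stab h.big.t_comm) hu he hst
    exact ⟨hst, index_mul_le hlam (Core.isIrr_isCharacter hψ) hχ hadd ha hb, h1, h2⟩

/-- **The degree bound.** -/
theorem degree [hN : K.Normal] (h : LBHyp q ε K L B K₁ X T e α t u w) {ψ : C → ℂ}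
    (hψ : IsIrrCharacter C ψ) (l : W →* ℂˣ) (hl : conjL α l ≠ l)
    (h0 : coef (fun y : W => u * e y) (fun y => (l y : ℂ)) ψ ≠ 0) :
    ∃ (lam χ : K → ℂ) (a b : ℕ), IsIrrCharacter K lam ∧ IsCharacter K χ ∧
      (∀ k : K, ψ k = lam k + χ k) ∧ lam 1 = a ∧ ψ 1 = b ∧ 1 ≤ a ∧
      ((stab K lam = ⊤ ∧ ((q : ℤ) + ε) * a ≤ b) ∨
        (stab K lam ≠ ⊤ ∧ (stab K lam).index * a ≤ b ∧ q ≤ (stab K lam).index ∧
          (ε = 1 → q + 1 ≤ (stab K lam).index))) := by
  obtain ⟨lam, χ, a, b, h1, h2, h3, h4, h5, h6, -, h7⟩ := degree' h hψ l hl h0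
  exact ⟨lam, χ, a, b, h1, h2, h3, h4, h5, h6, h7⟩

/-- Consequence: `ψ(1) ≥ q + ε`, with information in the case of equality. -/
theorem degree_le' [hN : K.Normal] (h : LBHyp q ε K L B K₁ X T e α t u w) {ψ : C → ℂ}
    (hψ : IsIrrCharacter C ψ) (l : W →* ℂˣ) (hl : conjL α l ≠ l)
    (h0 : coef (fun y : W => u * e y) (fun y => (l y : ℂ)) ψ ≠ 0) {b : ℕ} (hb : ψ 1 = b) :
    (q : ℤ) + ε ≤ b ∧ ((q : ℤ) + ε = b → ∃ lam χ : K → ℂ, IsIrrCharacter K lam ∧
      IsCharacter K χ ∧ (∀ k : K, ψ k = lam k + χ k) ∧ lam 1 = 1 ∧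
      (stab K lam = ⊤ ∨ (ε = 1 ∧ (stab K lam).index = q + 1 ∧ u ∈ stab K lam ∧
        ∀ y, e y ∈ stab K lam))) := by
  obtain ⟨lam, χ, a, b', hlam, hχ, hadd, ha, hb', ha0, ⟨hu, he⟩, hcase⟩ := degree' h hψ l hl h0
  have hbb : b = b' := by
    have h1 : (b : ℂ) = b' := by rw [← hb, hb']
    exact_mod_cast h1
  subst hbb
  have hq := h.big.frob.q_ge
  have hq' : (5 : ℤ) ≤ q := by exact_mod_cast hq
  have ha0' : (1 : ℤ) ≤ a := by exact_mod_cast ha0
  rcases hcase with ⟨h1, h2⟩ | ⟨h1, h2, h3, h4⟩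
  · have hpos : (0 : ℤ) < q + ε := by
      rcases h.eps with h5 | h5 <;> rw [h5] <;> linarith
    refine ⟨le_trans (by nlinarith) h2, fun h5 => ⟨lam, χ, hlam, hχ, hadd, ?_, Or.inl h1⟩⟩
    have h6 : (a : ℤ) ≤ 1 := by
      by_contra h7
      push Not at h7
      nlinarith
    have h7 : a = 1 := by omega
    rw [ha, h7, Nat.cast_one]
  · have h2' : ((stab K lam).index : ℤ) * a ≤ b := by exact_mod_cast h2
    have h3' : (q : ℤ) ≤ (stab K lam).index := by exact_mod_cast h3
    rcases h.eps with h5 | h5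
    · have h4' : (q : ℤ) + 1 ≤ (stab K lam).index := by exact_mod_cast h4 h5
      rw [h5]
      refine ⟨by nlinarith, fun h6 => ⟨lam, χ, hlam, hχ, hadd, ?_, Or.inr ⟨rfl, ?_, hu, he⟩⟩⟩
      · have h6' : (a : ℤ) ≤ 1 := by
          by_contra h7
          push Not at h7
          nlinarith
        have h7 : a = 1 := by omega
        rw [ha, h7, Nat.cast_one]
      · have h7 : ((stab K lam).index : ℤ) ≤ q + 1 := by nlinarith
        have h8 : ((stab K lam).index : ℤ) = q + 1 := le_antisymm h7 h4'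
        exact_mod_cast h8
    · rw [h5]
      refine ⟨by nlinarith, fun h6 => ?_⟩
      exfalso
      nlinarith

/-- Consequence: `ψ(1) ≥ q + ε`, with information in the case of equality. -/
theorem degree_le [hN : K.Normal] (h : LBHyp q ε K L B K₁ X T e α t u w) {ψ : C → ℂ}
    (hψ : IsIrrCharacter C ψ) (l : W →* ℂˣ) (hl : conjL α l ≠ l)
    (h0 : coef (fun y : W => u * e y) (fun y => (l y : ℂ)) ψ ≠ 0) {b : ℕ} (hb : ψ 1 = b) :
    (q : ℤ) + ε ≤ b ∧ ((q : ℤ) + ε = b → ∃ lam χ : K → ℂ, IsIrrCharacter K lam ∧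
      IsCharacter K χ ∧ (∀ k : K, ψ k = lam k + χ k) ∧ lam 1 = 1 ∧
      (stab K lam = ⊤ ∨ (ε = 1 ∧ (stab K lam).index = q + 1))) := by
  obtain ⟨h1, h2⟩ := degree_le' h hψ l hl h0 hb
  refine ⟨h1, fun h3 => ?_⟩
  obtain ⟨lam, χ, k1, k2, k3, k4, k5⟩ := h2 h3
  exact ⟨lam, χ, k1, k2, k3, k4, k5.imp id fun k6 => ⟨k6.1, k6.2.1⟩⟩

end Cfsg.Agent.Classification.QDW.DegBound
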