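import Mathlib
import Cfsg.Agent.Classification.QDW.InstC
import Cfsg.Agent.Classification.QDW.DegBound

/-!
# The centralizer of an involution: the instance of `LBHyp`

`GHyp`: `π : Γ →* C` onto with kernel of odd order, `t, u, w` above `z, u₀, s`. `Wg`: the elements of
odd order of `C(⟨t, u⟩)`. `lbHyp`: the hypotheses `LBHyp` of the lower bound.
-/

set_option autoImplicit false
set_option linter.unusedSectionVars false

namespace Cfsg.Agent.Classification.QDW.InstGamma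

open Cfsg Cfsg.Agent.Classification.InvCent Cfsg.Agent.Classification.QDW.LineC
open Cfsg.Agent.Classification.QDW.InstC Cfsg.Agent.Classification.QDW.DegBound
open Cfsg.Agent.Classification.QDW.BigDeg Cfsg.Agent.Classification.QDW.FrobLift
open Cfsg.Agent.Classification.QDW.NormBound

universe u v

section General

variable {Γ : Type*} [Group Γ] {C : Type*} [Group C] {π : Γ →* C}

/-- Involutions with the same image are conjugate. -/
theorem exists_conj_of_map (hodd : Odd (Nat.card π.ker)) {x y : Γ} (hx : x * x = 1)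
    (hy : y * y = 1) (h : π x = π y) : ∃ k ∈ π.ker, k * x * k⁻¹ = y := by
  have ha : x * y ∈ π.ker := by
    rw [MonoidHom.mem_ker, map_mul, ← h, ← map_mul, hx, map_one]
  obtain ⟨n, hn⟩ := hodd
  have hpow : (x * y) ^ (2 * n + 1) = 1 := by
    rw [← hn]
    exact congrArg Subtype.val (pow_card_eq_one' (x := (⟨x * y, ha⟩ : π.ker)))
  refine ⟨(x * y) ^ n, pow_mem ha n, ?_⟩
  have hxi : x⁻¹ = x := inv_eq_of_mul_eq_one_left hx
  have hyi : y⁻¹ = y := inv_eq_of_mul_eq_one_left hy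
  have h1 : x * (x * y) ^ n * x⁻¹ = ((x * y) ^ n)⁻¹ := by
    rw [← conj_pow, ← inv_pow]
    congr 1
    rw [mul_inv_rev, hxi, hyi, ← mul_assoc, hx, one_mul]
  have h2 : x * ((x * y) ^ n)⁻¹ = (x * y) ^ n * x := by
    rw [← h1, hxi]
    rw [← mul_assoc, ← mul_assoc, hx, one_mul]
  rw [mul_assoc, h2, ← mul_assoc, ← pow_add]
  have h3 : (x * y) ^ (n + n) = (x * y)⁻¹ := by
    apply eq_inv_of_mul_eq_one_left
    rw [← pow_succ, show n + n + 1 = 2 * n + 1 by ring, hpow]
  rw [h3, mul_inv_rev, hxi, hyi, mul_assoc, hx, mul_one]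

theorem card_comap [Finite Γ] (hπ : Function.Surjective π) (H : Subgroup C) :
    Nat.card (H.comap π) = Nat.card H * Nat.card π.ker := by
  have : Finite C := Finite.of_surjective π hπ
  have h1 := (H.comap π).card_mul_index
  have h2 := H.card_mul_index
  have h3 := π.ker.card_mul_index
  rw [Subgroup.index_comap_of_surjective _ hπ] at h1
  rw [Subgroup.index_ker, MonoidHom.range_eq_top.2 hπ, Subgroup.card_top] at h3
  have h4 : H.index ≠ 0 := Subgroup.index_ne_zero_of_finite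
  apply Nat.eq_of_mul_eq_mul_right (Nat.pos_of_ne_zero h4)
  rw [h1, ← h3, ← h2]
  ring

/-- Conjugation by `w` on `W`. -/
def conjEquiv (W : Subgroup Γ) (w : Γ) (h1 : ∀ x ∈ W, w * x * w⁻¹ ∈ W)
    (h2 : ∀ x ∈ W, w⁻¹ * x * w ∈ W) : W ≃* W where
  toFun x := ⟨w * x * w⁻¹, h1 x x.2⟩
  invFun x := ⟨w⁻¹ * x * w, h2 x x.2⟩
  left_inv x := Subtype.ext (by
    show w⁻¹ * (w * x * w⁻¹) * w = x
    group)
  right_inv x := Subtype.ext (by
    show w * (w⁻¹ * x * w) * w⁻¹ = x
    group)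
  map_mul' x y := Subtype.ext (by
    show w * (x * y : W) * w⁻¹ = w * x * w⁻¹ * (w * y * w⁻¹)
    rw [Subgroup.coe_mul]; group)

end General

/-- The data of `Γ`. -/
structure GHyp {Γ : Type*} [Group Γ] {C : Type*} [Group C] (π : Γ →* C) (z u₀ s : C)
    (t u w : Γ) : Prop where
  surj : Function.Surjective π
  oddK : Odd (Nat.card π.ker)
  tt : t * t = 1
  t_comm : ∀ x, Commute t x
  map_t : π t = z
  uu : u * u = 1
  map_u : π u = u₀
  wu : w * u * w⁻¹ = t * u
  map_w : π w = s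

section Data

variable {C : Type*} [Group C] {z : C} {q : ℕ} {ε : ℤ} {Z T T' U : Subgroup C}
  {s s' u₀ : C} {b : C →* ℂˣ} {Γ : Type u} [Group Γ] {π : Γ →* C} {t u w : Γ}

/-- The elements of odd order of `C(⟨t, u⟩)`. -/
def Wg (h : CHyp z q ε Z T T' U s s' u₀) (π : Γ →* C) (u : Γ) : Subgroup Γ where
  carrier := {x | π x ∈ T ∧ Odd (orderOf (π x)) ∧ Commute u x}
  one_mem' := ⟨by rw [map_one]; exact one_mem T, by rw [map_one, orderOf_one]; exact odd_one,
    Commute.one_right u⟩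
  mul_mem' := by
    rintro x y ⟨hx, hxo, hxc⟩ ⟨hy, hyo, hyc⟩
    refine ⟨by rw [map_mul]; exact mul_mem hx hy, ?_, hxc.mul_right hyc⟩
    rw [map_mul]
    have h1 : Commute (π x) (π y) := h.T_comm _ hx _ hy
    exact (hxo.mul hyo).of_dvd_nat h1.orderOf_mul_dvd_mul_orderOf
  inv_mem' := by
    rintro x ⟨hx, hxo, hxc⟩
    refine ⟨by rw [map_inv]; exact inv_mem hx, by rw [map_inv, orderOf_inv]; exact hxo,
      hxc.inv_right⟩

theorem mem_Wg {h : CHyp z q ε Z T T' U s s' u₀} {x : Γ} :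
    x ∈ Wg h π u ↔ π x ∈ T ∧ Odd (orderOf (π x)) ∧ Commute u x := Iff.rfl

theorem GHyp.t_ne (hG : GHyp π z u₀ s t u w) (h : CHyp z q ε Z T T' U s s' u₀) : t ≠ 1 := by
  intro h1
  have h2 := h.orderOf_t
  rw [← hG.map_t, h1, map_one, orderOf_one] at h2
  omega

theorem GHyp.conj_mem (hG : GHyp π z u₀ s t u w) (h : CHyp z q ε Z T T' U s s' u₀) {x : Γ}
    (hx : x ∈ Wg h π u) : w * x * w⁻¹ ∈ Wg h π u := by
  obtain ⟨h1, h2, h3⟩ := hx
  have h4 : π (w * x * w⁻¹) = s * π x * s⁻¹ := by rw [map_mul, map_mul, map_inv, hG.map_w]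
  refine ⟨by rw [h4]; exact h.s_conj _ h1, ?_, ?_⟩
  · rw [h4]
    rwa [FusionCore.orderOf_conj]
  · have h5 : Commute (t * u) (w * x * w⁻¹) := by
      rw [← hG.wu]
      exact (Commute.conj_iff w).2 h3
    have h6 : u = t * (t * u) := by rw [← mul_assoc, hG.tt, one_mul]
    rw [h6]
    exact (hG.t_comm _).mul_left h5

theorem GHyp.conj_mem' (hG : GHyp π z u₀ s t u w) (h : CHyp z q ε Z T T' U s s' u₀) {x : Γ}
    (hx : x ∈ Wg h π u) : w⁻¹ * x * w ∈ Wg h π u := by
  obtain ⟨h1, h2, h3⟩ := hx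
  have hs : s⁻¹ = s := inv_eq_of_mul_eq_one_left h.s_sq
  have h4 : π (w⁻¹ * x * w) = s * π x * s⁻¹ := by
    rw [map_mul, map_mul, map_inv, hG.map_w, hs]
  refine ⟨by rw [h4]; exact h.s_conj _ h1, ?_, ?_⟩
  · rw [h4]
    rwa [FusionCore.orderOf_conj]
  · have h5 : w⁻¹ * u * w⁻¹⁻¹ = t * u := by
      have h6 : u = t * (w * u * w⁻¹) := by rw [hG.wu, ← mul_assoc, hG.tt, one_mul]
      calc w⁻¹ * u * w⁻¹⁻¹ = w⁻¹ * (t * (w * u * w⁻¹)) * w := by rw [← h6, inv_inv]
        _ = (w⁻¹ * t * w) * u := by group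
        _ = t * u := by rw [(hG.t_comm w⁻¹).symm.eq]; group
    have h7 : Commute (t * u) (w⁻¹ * x * w) := by
      rw [← h5]
      have := (Commute.conj_iff w⁻¹).2 h3
      rwa [inv_inv] at this ⊢
    have h6 : u = t * (t * u) := by rw [← mul_assoc, hG.tt, one_mul]
    rw [h6]
    exact (hG.t_comm _).mul_left h7

/-- The automorphism of `W` induced by `w`. -/
def aW (hG : GHyp π z u₀ s t u w) (h : CHyp z q ε Z T T' U s s' u₀) : Wg h π u ≃* Wg h π u :=
  conjEquiv _ w (fun _ hx => hG.conj_mem h hx) (fun _ hx => hG.conj_mem' h hx)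

theorem aW_apply (hG : GHyp π z u₀ s t u w) (h : CHyp z q ε Z T T' U s s' u₀) (x : Wg h π u) :
    ((aW hG h x : Wg h π u) : Γ) = w * x * w⁻¹ := rfl

/-- Involutions are not in the odd part. -/
theorem GHyp.odd_W [Finite Γ] (hG : GHyp π z u₀ s t u w) (h : CHyp z q ε Z T T' U s s' u₀) :
    Odd (Nat.card (Wg h π u)) := by
  by_contra hev
  rw [Nat.not_odd_iff_even, even_iff_two_dvd] at hev
  obtain ⟨x, hx⟩ := exists_prime_orderOf_dvd_card' 2 hev
  have hx2 : (x : Γ) * x = 1 := by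
    have h1 := pow_orderOf_eq_one x
    rw [hx, sq] at h1
    exact congrArg Subtype.val h1
  have h4 : π x * π x = 1 := by rw [← map_mul, hx2, map_one]
  have h5 : orderOf (π (x : Γ)) ∣ 2 := orderOf_dvd_of_pow_eq_one (by rw [sq]; exact h4)
  have h6 : orderOf (π (x : Γ)) = 1 := by
    rcases (Nat.dvd_prime Nat.prime_two).1 h5 with h7 | h7
    · exact h7
    · have h3 := x.2.2.1
      rw [h7] at h3
      norm_num at h3
  have h7 : (x : Γ) ∈ π.ker := by
    rw [MonoidHom.mem_ker]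
    exact orderOf_eq_one_iff.1 h6
  have h8 : orderOf (⟨x, h7⟩ : π.ker) = 2 := by
    rw [← hx, Subgroup.orderOf_mk, Subgroup.orderOf_coe]
  have h9 := orderOf_dvd_natCard (⟨x, h7⟩ : π.ker)
  rw [h8] at h9
  exact (Nat.not_even_iff_odd.2 hG.oddK) (even_iff_two_dvd.2 h9)

theorem GHyp.fixK (_ : GHyp π z u₀ s t u w) (h : CHyp z q ε Z T T' U s s' u₀) {k : Γ}
    (hk : k ∈ π.ker) (hc : Commute u k) : k ∈ Wg h π u := by
  rw [MonoidHom.mem_ker] at hk
  exact ⟨by rw [hk]; exact one_mem T, by rw [hk, orderOf_one]; exact odd_one, hc⟩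

/-- The four group. -/
theorem GHyp.exists_decomp [Finite C] (hG : GHyp π z u₀ s t u w) (hD : CData z q ε Z T T' U s s' u₀ b)
    {x : Γ} (hx : Commute u x) :
    ∃ v y, (v = 1 ∨ v = t ∨ v = u ∨ v = t * u) ∧ y ∈ Wg hD.chyp π u ∧ x = v * y := by
  have h := hD.chyp
  have h1 : π x ∈ T := by
    refine h.cent_T u₀ h.u_mem ?_ _ ?_
    · intro h2
      rcases hD.mem_Z.1 h2 with h3 | h3
      · have := h.orderOf_u
        rw [h3, orderOf_one] at this
        omega
      · exact h.u_ne h3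
    · rw [← hG.map_u, ← map_mul, ← map_mul, hx.eq]
  obtain ⟨v, y, hv, hy, hyo, he⟩ := hD.decomp h1
  obtain ⟨v', hv', hvv'⟩ : ∃ v', (v' = 1 ∨ v' = t ∨ v' = u ∨ v' = t * u) ∧ π v' = v := by
    rcases hv with rfl | rfl | rfl | rfl
    · exact ⟨1, Or.inl rfl, map_one π⟩
    · exact ⟨t, Or.inr (Or.inl rfl), hG.map_t⟩
    · exact ⟨u, Or.inr (Or.inr (Or.inl rfl)), hG.map_u⟩
    · exact ⟨t * u, Or.inr (Or.inr (Or.inr rfl)), by rw [map_mul, hG.map_t, hG.map_u]⟩
  have hcv : Commute u v' := by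
    rcases hv' with rfl | rfl | rfl | rfl
    · exact Commute.one_right u
    · exact (hG.t_comm u).symm
    · exact Commute.refl _
    · exact (hG.t_comm u).symm.mul_right (Commute.refl _)
  refine ⟨v', v'⁻¹ * x, hv', ?_, by group⟩
  have h2 : π (v'⁻¹ * x) = y := by
    rw [map_mul, map_inv, hvv', he]; group
  exact ⟨by rw [h2]; exact hy, by rw [h2]; exact hyo, hcv.inv_right.mul_right hx⟩

theorem pow_odd_of_sq {x : Γ} (h2 : x * x = 1) {n : ℕ} (hn : Odd n) : x ^ n = x := by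
  obtain ⟨m, rfl⟩ := hn
  rw [pow_succ, pow_mul, sq, h2, one_pow, one_mul]

theorem GHyp.four [Finite Γ] (hG : GHyp π z u₀ s t u w) (h : CHyp z q ε Z T T' U s s' u₀) {v y : Γ}
    (hv : v * v = 1) (hy : y ∈ Wg h π u) (hc : Commute v y) : (v * y) ^ Nat.card (Wg h π u) = v := by
  have h1 : y ^ Nat.card (Wg h π u) = 1 :=
    congrArg Subtype.val (pow_card_eq_one' (x := (⟨y, hy⟩ : Wg h π u)))
  rw [hc.mul_pow, h1, mul_one, pow_odd_of_sq hv (hG.odd_W h)]

theorem GHyp.card_cent [Finite Γ] [Finite C] (hG : GHyp π z u₀ s t u w)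
    (hD : CData z q ε Z T T' U s s' u₀ b) :
    Nat.card (Subgroup.centralizer ({u} : Set Γ)) = 4 * Nat.card (Wg hD.chyp π u) := by
  classical
  have h := hD.chyp
  have hu1 : u ≠ 1 := by
    intro h1
    have := h.orderOf_u
    rw [← hG.map_u, h1, map_one, orderOf_one] at this
    omega
  have ht1 := hG.t_ne h
  have htu : t ≠ u := by
    intro h1
    refine h.u_ne ?_
    rw [← hG.map_u, ← hG.map_t, h1]
  let V : Finset Γ := {1, t, u, t * u}
  have hVc : V.card = 4 := by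
    rw [Finset.card_insert_of_notMem, Finset.card_insert_of_notMem, Finset.card_insert_of_notMem,
      Finset.card_singleton]
    · simp only [Finset.mem_singleton]
      intro h1
      exact ht1 (mul_eq_right.1 h1.symm)
    · simp only [Finset.mem_insert, Finset.mem_singleton, not_or]
      exact ⟨htu, fun h1 => hu1 (mul_eq_left.1 h1.symm)⟩
    · simp only [Finset.mem_insert, Finset.mem_singleton, not_or]
      refine ⟨fun h1 => ht1 h1.symm, fun h1 => hu1 h1.symm, fun h1 => ?_⟩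
      have h2 : u = t⁻¹ := eq_inv_of_mul_eq_one_right h1.symm
      rw [inv_eq_of_mul_eq_one_left hG.tt] at h2
      exact htu h2.symm
  have hV : ∀ v ∈ V, v * v = 1 ∧ Commute u v ∧ ∀ y ∈ Wg h π u, Commute v y := by
    intro v hv
    simp only [V, Finset.mem_insert, Finset.mem_singleton] at hv
    rcases hv with rfl | rfl | rfl | rfl
    · exact ⟨one_mul 1, Commute.one_right u, fun _ _ => Commute.one_left _⟩
    · exact ⟨hG.tt, (hG.t_comm u).symm, fun y _ => hG.t_comm y⟩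
    · exact ⟨hG.uu, Commute.refl _, fun y hy => hy.2.2⟩
    · refine ⟨?_, (hG.t_comm u).symm.mul_right (Commute.refl _),
        fun y hy => (hG.t_comm y).mul_left hy.2.2⟩
      calc t * u * (t * u) = t * (u * t) * u := by group
        _ = (t * t) * (u * u) := by rw [(hG.t_comm u).symm.eq]; group
        _ = 1 := by rw [hG.tt, hG.uu, one_mul]
  let F : V × Wg h π u → Subgroup.centralizer ({u} : Set Γ) := fun p =>
    ⟨p.1 * p.2, Subgroup.mem_centralizer_singleton_iff.2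
      ((hV p.1 p.1.2).2.1.mul_right p.2.2.2.2).symm.eq⟩
  have hF : Function.Bijective F := by
    constructor
    · rintro ⟨⟨v, hv⟩, ⟨y, hy⟩⟩ ⟨⟨v', hv'⟩, ⟨y', hy'⟩⟩ he
      have h1 : v * y = v' * y' := congrArg Subtype.val he
      have h2 : v = v' := by
        rw [← hG.four h (hV v hv).1 hy ((hV v hv).2.2 y hy), h1,
          hG.four h (hV v' hv').1 hy' ((hV v' hv').2.2 y' hy')]
      subst h2
      have h3 : y = y' := mul_left_cancel h1
      subst h3
      rfl
    · rintro ⟨x, hx⟩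
      obtain ⟨v, y, hv, hy, rfl⟩ := hG.exists_decomp hD
        (show Commute u x from (Subgroup.mem_centralizer_singleton_iff.1 hx).symm)
      refine ⟨(⟨v, ?_⟩, ⟨y, hy⟩), rfl⟩
      simp only [V, Finset.mem_insert, Finset.mem_singleton]
      exact hv
  rw [← Nat.card_congr (Equiv.ofBijective F hF), Nat.card_prod, Nat.card_eq_fintype_card (α := V),
    Fintype.card_coe, hVc]

end Data

section Frob

variable {C : Type*} [Group C] [Finite C] {q : ℕ} {Z T₁ U : Subgroup C} {s₁ : C}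
  {Γ : Type u} [Group Γ] [Finite Γ] {π : Γ →* C}

/-- The Borel subgroup of `Γ`. -/
abbrev Bg (U : Subgroup C) (π : Γ →* C) : Subgroup Γ := (N U).comap π

/-- A subgroup of `C` as a subgroup of the Borel subgroup. -/
abbrev inB (U : Subgroup C) (π : Γ →* C) (H : Subgroup C) : Subgroup (Bg U π) :=
  (H.comap π).subgroupOf (Bg U π)

theorem mem_inB {H : Subgroup C} {x : Bg U π} : x ∈ inB U π H ↔ π x ∈ H := Iff.rfl

theorem card_inB (hπ : Function.Surjective π) {H : Subgroup C} (hH : H ≤ N U) :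
    Nat.card (inB U π H) = Nat.card H * Nat.card π.ker := by
  rw [Nat.card_congr (Subgroup.subgroupOfEquivOfLe (Subgroup.comap_mono hH)).toEquiv,
    card_comap hπ]

theorem frob (hb : Base q Z U) (hs : Split q Z T₁ U s₁) (hπ : Function.Surjective π)
    (hq : 5 ≤ q) : Frob q (inB U π Z) (inB U π hb.ZU) (inB U π T₁) where
  normal := ⟨fun x hx g => by
    rw [mem_inB] at hx ⊢
    rw [Subgroup.coe_mul, Subgroup.coe_mul, Subgroup.coe_inv, map_mul, map_mul, map_inv,
      hb.Z_central _ hx, mul_inv_cancel_right]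
    exact hx⟩
  normal_X := ⟨fun x hx g => by
    rw [mem_inB] at hx ⊢
    rw [Subgroup.coe_mul, Subgroup.coe_mul, Subgroup.coe_inv, map_mul, map_mul, map_inv]
    obtain ⟨z, hz, v, hv, he⟩ := hb.mem_ZU.1 hx
    rw [he]
    have h1 : π (g : Γ) * (z * v) * (π (g : Γ))⁻¹ = z * (π (g : Γ) * v * (π (g : Γ))⁻¹) := by
      rw [← mul_assoc, hb.Z_central z hz]; group
    rw [h1]
    exact hb.mul_mem_ZU hz ((mem_N.1 g.2 v).1 hv)⟩
  K_le_X := fun x hx => by
    rw [mem_inB] at hx ⊢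
    have := hb.mul_mem_ZU hx (one_mem U)
    rwa [mul_one] at this
  K_le_T := fun x hx => hs.torus.Z_le hx
  inf := fun x hx hx' => mem_Z_of_T₁_ZU hb hs.torus hs.norm hx' hx
  card_X := by
    have h1 : hb.ZU ≤ N U := by
      intro x hx
      obtain ⟨z, hz, v, hv, rfl⟩ := hb.mem_ZU.1 hx
      exact mul_mem (T₁_le_N hb hs.torus hs.norm (hs.torus.Z_le hz)) (U_le_N hv)
    have h2 : Z ≤ N U := hs.torus.Z_le.trans (T₁_le_N hb hs.torus hs.norm)
    rw [card_inB hπ h1, card_inB hπ h2, hb.card_ZU]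
    ring
  card_T := by
    have h2 : Z ≤ N U := hs.torus.Z_le.trans (T₁_le_N hb hs.torus hs.norm)
    rw [card_inB hπ (T₁_le_N hb hs.torus hs.norm), card_inB hπ h2,
      card_T₁ hb hs.torus hs.norm]
    ring
  card_B := by
    have h2 : Z ≤ N U := hs.torus.Z_le.trans (T₁_le_N hb hs.torus hs.norm)
    rw [card_inB hπ h2, card_comap hπ, card_N hb hs.torus hs.norm]
    ring
  tI := by
    intro x hx g hg hxg
    rw [mem_inB] at hx hg hxg
    rw [mem_inB, mem_inB]
    rw [Subgroup.coe_mul, Subgroup.coe_mul, Subgroup.coe_inv, map_mul, map_mul, map_inv] at hxg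
    obtain ⟨z, hz, v, hv, he⟩ := hb.mem_ZU.1 hx
    have h1 : v * π (g : Γ) * v⁻¹ ∈ T₁ := by
      have h2 : v * π (g : Γ) * v⁻¹ = z⁻¹ * (π (x : Γ) * π (g : Γ) * (π (x : Γ))⁻¹) * z := by
        rw [he]; group
      rw [h2]
      exact mul_mem (mul_mem (inv_mem (hs.torus.Z_le hz)) hxg) (hs.torus.Z_le hz)
    have h2 : v * π (g : Γ) * v⁻¹ * (π (g : Γ))⁻¹ = 1 := by
      refine eq_one_of_T₁_U hb hs.torus hs.norm (mul_mem h1 (inv_mem hg)) ?_
      have h3 : v * π (g : Γ) * v⁻¹ * (π (g : Γ))⁻¹ = v * (π (g : Γ) * v⁻¹ * (π (g : Γ))⁻¹) := by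
        group
      rw [h3]
      exact mul_mem hv (hs.norm _ hg _ (inv_mem hv))
    have h3 : π (g : Γ) * v = v * π (g : Γ) := by
      calc π (g : Γ) * v = (v * π (g : Γ) * v⁻¹ * (π (g : Γ))⁻¹)⁻¹ * (v * π (g : Γ)) := by group
        _ = v * π (g : Γ) := by rw [h2, inv_one, one_mul]
    by_cases hv1 : v = 1
    · left
      rw [he, hv1, mul_one]
      exact hz
    · right
      exact mem_Z_of_T₁_ZU hb hs.torus hs.norm hg (hb.mem_ZU.2 (hb.cent_U v hv hv1 _ h3))
  cyc := by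
    intro hn
    obtain ⟨g, hg, hgen⟩ := hs.gen
    obtain ⟨g', rfl⟩ := hπ g
    let g₁ : inB U π T₁ := ⟨⟨g', T₁_le_N hb hs.torus hs.norm hg⟩, hg⟩
    refine ⟨QuotientGroup.mk g₁, fun x => ?_⟩
    obtain ⟨y, rfl⟩ := QuotientGroup.mk_surjective x
    obtain ⟨k, ζ, hζ, hk⟩ := hgen (π ((y : Bg U π) : Γ)) y.2
    refine Subgroup.mem_zpowers_iff.2 ⟨k, ?_⟩
    rw [← QuotientGroup.mk_zpow, QuotientGroup.eq, Subgroup.mem_subgroupOf, mem_inB]
    have h1 : π ((((g₁ ^ k)⁻¹ * y : inB U π T₁) : Bg U π) : Γ) = ((π g') ^ k)⁻¹ *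
        π ((y : Bg U π) : Γ) := by
      rw [Subgroup.coe_mul, Subgroup.coe_mul, map_mul, Subgroup.coe_inv, Subgroup.coe_inv, map_inv,
        Subgroup.coe_zpow, Subgroup.coe_zpow, map_zpow]
    rw [h1, hk]
    have h2 : (π g' ^ k)⁻¹ * (π g' ^ k * ζ) = ζ := by group
    rw [h2]
    exact hζ
  q_ge := hq

end Frob

section Main

variable {C : Type*} [Group C] [Finite C] {z : C} {q : ℕ} {ε : ℤ} {Z T T' U : Subgroup C}
  {s s' u₀ : C} {b : C →* ℂˣ} {Γ : Type u} [Group Γ] [Finite Γ] {π : Γ →* C} {t u w : Γ}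

theorem ker_index (hD : CData z q ε Z T T' U s s' u₀ b) (hG : GHyp π z u₀ s t u w) :
    (b.comp π).ker.index = 2 := by
  rw [Subgroup.index_eq_two_iff]
  refine ⟨u, fun x => ?_⟩
  rw [MonoidHom.mem_ker, MonoidHom.mem_ker, MonoidHom.comp_apply, MonoidHom.comp_apply, map_mul,
    map_mul, hG.map_u, hD.det.b_u]
  have h1 : (-1 : ℂˣ) ≠ 1 := by
    intro h2
    exact hD.b_u_ne (by rw [hD.det.b_u, h2])
  rcases hD.b_cases (π x) with h2 | h2
  · rw [h2, one_mul]
    exact Or.inr ⟨rfl, h1⟩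
  · rw [h2, neg_mul_neg, one_mul]
    exact Or.inl ⟨rfl, h1⟩

theorem big (hD : CData z q ε Z T T' U s s' u₀ b) (hG : GHyp π z u₀ s t u w) {T₁ : Subgroup C}
    {s₁ : C} (hs : Split q Z T₁ U s₁) (hq : 5 ≤ q) :
    Big q π.ker (b.comp π).ker (Bg U π) (inB U π Z) (inB U π hD.chyp.base.ZU) (inB U π T₁) t where
  normal := inferInstance
  oddK := hG.oddK
  tt := hG.tt
  t_ne := hG.t_ne hD.chyp
  t_comm := hG.t_comm
  KB := by
    intro x hx
    rw [Subgroup.mem_comap, MonoidHom.mem_ker.1 hx]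
    exact one_mem _
  tB := by
    rw [Subgroup.mem_comap, hG.map_t]
    exact T₁_le_N hD.chyp.base hs.torus hs.norm (hs.torus.Z_le hD.chyp.t_mem)
  mem := by
    intro x
    rw [mem_inB, MonoidHom.mem_ker, MonoidHom.mem_ker, hD.mem_Z, map_mul, hG.map_t]
    have hzz : z * z = 1 := by rw [← hG.map_t, ← map_mul, hG.tt, map_one]
    constructor
    · rintro (h1 | h1)
      · exact Or.inl h1
      · exact Or.inr (by rw [h1, hzz])
    · rintro (h1 | h1)
      · exact Or.inl h1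
      · right
        rw [← inv_eq_of_mul_eq_one_left hzz]
        exact eq_inv_of_mul_eq_one_right h1
  frob := frob hD.chyp.base hs hG.surj hq
  index := ker_index hD hG
  KL := by
    intro x hx
    rw [MonoidHom.mem_ker, MonoidHom.comp_apply, MonoidHom.mem_ker.1 hx, map_one]
  gen := by
    intro M hM hX
    have hb := hD.chyp.base
    have hB : hb.ZU ≤ N U := by
      intro x hx
      obtain ⟨ζ, hζ, v, hv, rfl⟩ := hb.mem_ZU.1 hx
      exact mul_mem (T₁_le_N hb hs.torus hs.norm (hs.torus.Z_le hζ)) (U_le_N hv)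
    have hXM : ∀ x : Γ, π x ∈ hb.ZU → x ∈ M := fun x hx => hX ⟨x, hB hx⟩ hx
    have hMn : (M.map π).Normal := hM.map π hG.surj
    have hZ : Z ≤ M.map π := by
      intro x hx
      obtain ⟨y, rfl⟩ := hG.surj x
      refine ⟨y, hXM y ?_, rfl⟩
      have := hb.mul_mem_ZU hx (one_mem U)
      rwa [mul_one] at this
    have hU : U ≤ M.map π := by
      intro x hx
      obtain ⟨y, rfl⟩ := hG.surj x
      refine ⟨y, hXM y ?_, rfl⟩
      have := hb.mul_mem_ZU (one_mem Z) hx
      rwa [one_mul] at this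
    have h1 := hD.ker_le hMn hZ hU
    intro x hx
    obtain ⟨y, hy, hxy⟩ := h1 (show π x ∈ b.ker from hx)
    have h2 : y⁻¹ * x ∈ M := by
      refine hXM _ ?_
      rw [map_mul, map_inv, hxy, inv_mul_cancel]
      exact one_mem _
    have h3 : x = y * (y⁻¹ * x) := by group
    rw [h3]
    exact mul_mem hy h2

theorem cent (hD : CData z q ε Z T T' U s s' u₀ b) (hG : GHyp π z u₀ s t u w) :
    Cent (b.comp π).ker (Wg hD.chyp π u).subtype u where
  index := ker_index hD hG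
  oddW := hG.odd_W hD.chyp
  inj := Subtype.val_injective
  sq := hG.uu
  not_mem := by
    rw [MonoidHom.mem_ker, MonoidHom.comp_apply, hG.map_u]
    exact hD.b_u_ne
  comm := fun y => y.2.2.2
  card := hG.card_cent hD

/-- The instance of `LBHyp`, explicit form. -/
theorem lbHyp_of (hD : CData z q ε Z T T' U s s' u₀ b) (hG : GHyp π z u₀ s t u w) (hq : 5 ≤ q)
    {T₁ : Subgroup C} {s₁ : C} (hs : Split q Z T₁ U s₁) (hT₁ : ε = 1 → T₁ = T) :
    LBHyp q ε π.ker (b.comp π).ker (Bg U π) (inB U π Z) (inB U π hD.chyp.base.ZU) (inB U π T₁)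
      (Wg hD.chyp π u).subtype (aW hG hD.chyp) t u w := by
  refine ⟨hD.chyp.eps, big hD hG hs hq,
    cent hD hG, ?_, hG.wu, fun y => rfl, ?_, ?_⟩
  · intro k hk hc
    exact ⟨⟨k, hG.fixK hD.chyp hk hc⟩, rfl⟩
  · intro hε
    have hT := hT₁ hε
    subst hT
    have hle := T₁_le_N hD.chyp.base hs.torus hs.norm
    refine ⟨?_, ?_, fun y => ⟨hle y.2.1, y.2.1⟩⟩
    · rw [Subgroup.mem_comap, hG.map_u]
      exact hle hD.chyp.u_mem
    · rw [mem_inB]
      show π u ∈ T₁
      rw [hG.map_u]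
      exact hD.chyp.u_mem
  · intro H hK ht hu hW hH
    have h1 : (H.map π).index = H.index := by
      have h2 := Subgroup.index_comap_of_surjective (H.map π) hG.surj
      rw [Subgroup.comap_map_eq_self hK] at h2
      exact h2.symm
    have h2 : T ≤ H.map π := by
      intro x hx
      obtain ⟨v, y, hv, hy, hyo, rfl⟩ := hD.decomp hx
      have hyH : y ∈ H.map π := by
        obtain ⟨g, rfl⟩ := hG.surj y
        have hcu : π g * u₀ = u₀ * π g := hD.chyp.T_comm _ hy _ hD.chyp.u_mem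
        obtain ⟨k, hk, hku⟩ := exists_conj_of_map hG.oddK (x := g * u * g⁻¹) (y := u)
          (by
            calc g * u * g⁻¹ * (g * u * g⁻¹) = g * (u * u) * g⁻¹ := by group
              _ = 1 := by rw [hG.uu]; group) hG.uu
          (by rw [map_mul, map_mul, map_inv, hG.map_u, hcu]; group)
        have h3 : π (k * g) = π g := by rw [map_mul, MonoidHom.mem_ker.1 hk, one_mul]
        have h4 : k * g ∈ Wg hD.chyp π u := by
          refine ⟨by rw [h3]; exact hy, by rw [h3]; exact hyo, ?_⟩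
          show u * (k * g) = k * g * u
          calc u * (k * g) = (k * (g * u * g⁻¹) * k⁻¹) * (k * g) := by rw [hku]
            _ = k * g * u := by group
        exact ⟨k * g, hW ⟨_, h4⟩, h3⟩
      refine mul_mem ?_ hyH
      have hz : z ∈ H.map π := ⟨t, ht, hG.map_t⟩
      have hu' : u₀ ∈ H.map π := ⟨u, hu, hG.map_u⟩
      rcases hv with rfl | rfl | rfl | rfl
      · exact one_mem _
      · exact hz
      · exact hu'
      · exact mul_mem hz hu'
    have h3 : H.map π ≠ ⊤ := by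
      intro h4
      apply hH
      rw [← Subgroup.comap_map_eq_self hK, h4, Subgroup.comap_top]
    rw [← h1]
    exact hD.index hq h2 h3

/-- **The instance of `LBHyp`.** -/
theorem lbHyp (hD : CData z q ε Z T T' U s s' u₀ b) (hG : GHyp π z u₀ s t u w) (hq : 5 ≤ q) :
    ∃ (B : Subgroup Γ) (K₁ X T₁ : Subgroup B), LBHyp q ε π.ker (b.comp π).ker B K₁ X T₁
      (Wg hD.chyp π u).subtype (aW hG hD.chyp) t u w := by
  obtain ⟨T₁, s₁, hs, hT₁⟩ := hD.exists_split
  exact ⟨_, _, _, _, lbHyp_of hD hG hq hs hT₁⟩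

end Main

end Cfsg.Agent.Classification.QDW.InstGamma
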