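import Mathlib
import Cfsg.Agent.Classification.QDW.LineC

/-!
# The wreathed case: subgroups containing the torus

* `Sharp.split_all`: the case distinction for a proper subgroup containing a two-point stabiliser,
  for all `q ≥ 3`: it is contained in one of the two point stabilisers, or it has index at least `q`
  and contains every element interchanging the two points;
* `eps_one`, `eps_neg`: the same for `C` of type `GL₂(q)/Z₀`, `GU₂(q)/Z₀` (`q = 3` included);
* `pull_eps_one`, `pull_eps_neg`: for a group mapped onto such a group.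
-/

set_option autoImplicit false
set_option linter.unusedSectionVars false
set_option linter.unusedVariables false

open Cfsg

namespace Cfsg.Agent.Classification.QDW.WrLine

open Cfsg.Agent.Classification.InvCent Cfsg.Agent.Classification.QDW.LineIndex
open Cfsg.Agent.Classification.QDW.LineC MulAction

section Abstract

variable {G : Type*} [Group G] {Ω : Type*} [MulAction G Ω] [Finite G] {q : ℕ} {Z : Subgroup G}
  {a b : Ω} {H : Subgroup G}

/-- The transitive case with `H_a = D`: an element of `H` interchanges `a` and `b`. -/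
theorem swap_of_mate (h : Sharp G Ω q Z) (hab : a ≠ b) (hq : 3 ≤ q) (hD : Sharp.D G a b ≤ H)
    (ht : ∀ y : Ω, ∃ g ∈ H, g • a = y) (hE : ∀ g ∈ H, g • a = a → g • b = b) :
    ∃ k ∈ H, k • a = b ∧ k • b = a := by
  obtain ⟨d, hd, hdZ⟩ := h.exists_D_notMem hab hq
  obtain ⟨k, hk, hka⟩ := ht b
  refine ⟨k, hk, hka, ?_⟩
  by_contra h1
  have h2 : k • b ∈ ({a, b}ᶜ : Set Ω) := by
    simp only [Set.mem_compl_iff, Set.mem_insert_iff, Set.mem_singleton_iff, not_or]
    refine ⟨h1, fun h3 => hab ?_⟩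
    exact MulAction.injective k (hka.trans h3.symm)
  apply hdZ
  refine h.sharp' hab h2 hd ?_
  have h3 : (k⁻¹ * d * k) • a = a := by
    rw [mul_smul, mul_smul, hka, hd.2, ← hka, inv_smul_smul]
  have h4 := hE _ (mul_mem (mul_mem (inv_mem hk) (hD hd)) hk) h3
  rw [mul_smul, mul_smul, inv_smul_eq_iff] at h4
  exact h4

/-- All elements interchanging `a` and `b` are in `H` as soon as one is. -/
theorem mem_of_swap (hD : Sharp.D G a b ≤ H) {k : G} (hk : k ∈ H) (hka : k • a = b)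
    (hkb : k • b = a) {w : G} (hwa : w • a = b) (hwb : w • b = a) : w ∈ H := by
  have h1 : k⁻¹ * w ∈ Sharp.D G a b := by
    rw [Sharp.mem_D, mul_smul, mul_smul, hwa, hwb, inv_smul_eq_iff, inv_smul_eq_iff, hka, hkb]
    exact ⟨rfl, rfl⟩
  have h2 : w = k * (k⁻¹ * w) := by group
  rw [h2]
  exact mul_mem hk (hD h1)

/-- **The case distinction for a proper subgroup containing a two-point stabiliser.** -/
theorem split_all (h : Sharp G Ω q Z) (hab : a ≠ b) (hq : 3 ≤ q) (hD : Sharp.D G a b ≤ H)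
    (hH : H ≠ ⊤) :
    (H ≤ stabilizer G a ∧ q + 1 ≤ H.index ∧ (H.index = q + 1 → H = stabilizer G a)) ∨
    (H ≤ stabilizer G b ∧ q + 1 ≤ H.index ∧ (H.index = q + 1 → H = stabilizer G b)) ∨
    (q ≤ H.index ∧ ∀ w : G, w • a = b → w • b = a → w ∈ H) := by
  have hfin := h.finite
  have hZ : 0 < Nat.card Z := Nat.card_pos
  have hq1 : 0 < q - 1 := by omega
  by_cases hA : H ≤ stabilizer G a
  · exact Or.inl ⟨hA, h.index_of_le_stab hab (by omega) hA⟩
  by_cases hB : H ≤ stabilizer G b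
  · exact Or.inr (Or.inl ⟨hB, h.index_of_le_stab hab.symm (by omega) hB⟩)
  refine Or.inr (Or.inr ?_)
  obtain ⟨h₁, hh₁, h₁a⟩ := SetLike.not_le_iff_exists.1 hA
  obtain ⟨h₂, hh₂, h₂b⟩ := SetLike.not_le_iff_exists.1 hB
  by_cases hC : ∀ g ∈ H, g • a = a ∨ g • a = b
  · have h₁b : h₁ • a = b := (hC h₁ hh₁).resolve_left h₁a
    have hHa : H ⊓ stabilizer G a = Sharp.D G a b := by
      apply le_antisymm
      · rintro g ⟨hg, hga⟩
        refine ⟨hga, ?_⟩
        have h3 := hC (g * h₁) (mul_mem hg hh₁)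
        rw [mul_smul, h₁b] at h3
        refine h3.resolve_left fun h4 => hab ?_
        have h5 : g • a = a := hga
        exact (MulAction.injective g (h4.trans h5.symm)).symm
      · intro g hg
        exact ⟨hD hg, hg.1⟩
    have h3 := card_mul H a
    rw [ncard_orbit ({a, b} : Set Ω) (fun g hg => hC g hg) (by
      rintro y (rfl | rfl)
      · exact ⟨1, one_mem H, one_smul _ _⟩
      · exact ⟨h₁, hh₁, h₁b⟩), Set.ncard_pair hab, hHa, h.card_D hab (by omega)] at h3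
    have h4 := H.card_mul_index
    rw [h.card_G hab (by omega), ← h3] at h4
    have h5 : 0 < (q - 1) * Nat.card Z := by positivity
    have h6 : 2 * H.index = (q + 1) * q := by
      apply Nat.eq_of_mul_eq_mul_right h5
      calc 2 * H.index * ((q - 1) * Nat.card Z) = 2 * ((q - 1) * Nat.card Z) * H.index := by ring
        _ = (q + 1) * (q * ((q - 1) * Nat.card Z)) := h4
        _ = (q + 1) * q * ((q - 1) * Nat.card Z) := by ring
    refine ⟨by nlinarith, fun w hwa hwb => ?_⟩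
    have h₁b' : h₁ • b = a := by
      have h7 := hC (h₁ * h₁) (mul_mem hh₁ hh₁)
      rw [mul_smul, h₁b] at h7
      refine h7.resolve_right fun h8 => hab ?_
      exact MulAction.injective h₁ (h₁b.trans h8.symm)
    exact mem_of_swap hD hh₁ h₁b h₁b' hwa hwb
  · push Not at hC
    obtain ⟨g₀, hg₀, hg₀a, hg₀b⟩ := hC
    have hg₀' : g₀ • a ∈ ({a, b}ᶜ : Set Ω) := by
      simp only [Set.mem_compl_iff, Set.mem_insert_iff, Set.mem_singleton_iff, not_or]
      exact ⟨hg₀a, hg₀b⟩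
    have hO : ∀ y ∈ ({a, b}ᶜ : Set Ω), ∃ g ∈ H, g • a = y := by
      intro y hy
      obtain ⟨e, he, hey⟩ := h.three' hab hg₀' hy
      exact ⟨e * g₀, mul_mem (hD he) hg₀, by rw [mul_smul, hey]⟩
    have ht : ∀ y : Ω, ∃ g ∈ H, g • a = y := by
      intro y
      by_cases hy : y ∈ ({a, b}ᶜ : Set Ω)
      · exact hO y hy
      · simp only [Set.mem_compl_iff, Set.mem_insert_iff, Set.mem_singleton_iff, not_not] at hy
        rcases hy with rfl | rfl
        · exact ⟨1, one_mem H, one_smul _ _⟩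
        · by_cases h3 : h₂ • y = a
          · exact ⟨h₂⁻¹, inv_mem hh₂, by rw [inv_smul_eq_iff, h3]⟩
          · obtain ⟨g, hg, hga⟩ := hO (h₂ • y) (by
              simp only [Set.mem_compl_iff, Set.mem_insert_iff, Set.mem_singleton_iff, not_or]
              exact ⟨h3, h₂b⟩)
            exact ⟨h₂⁻¹ * g, mul_mem (inv_mem hh₂) hg, by rw [mul_smul, hga, inv_smul_smul]⟩
    by_cases hE : ∀ g ∈ H, g • a = a → g • b = b
    · obtain ⟨k, hk, hka, hkb⟩ := swap_of_mate h hab hq hD ht hE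
      refine ⟨?_, fun w hwa hwb => mem_of_swap hD hk hka hkb hwa hwb⟩
      have hHa : H ⊓ stabilizer G a = Sharp.D G a b := by
        apply le_antisymm
        · rintro g ⟨hg, hga⟩
          exact ⟨hga, hE g hg hga⟩
        · intro g hg
          exact ⟨hD hg, hg.1⟩
      have h3 := h.card_of_trans' ht
      rw [hHa, h.card_D hab (by omega)] at h3
      have h4 := H.card_mul_index
      rw [h.card_G hab (by omega), h3] at h4
      have h5 : 0 < (q + 1) * ((q - 1) * Nat.card Z) := by positivity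
      have h6 : H.index = q := by
        apply Nat.eq_of_mul_eq_mul_left h5
        rw [h4]
        ring
      exact h6.ge
    · exfalso
      push Not at hE
      obtain ⟨g₁, hg₁, hg₁a, hg₁b⟩ := hE
      apply hH
      have hg₁' : g₁ • b ∈ ({a, b}ᶜ : Set Ω) := by
        simp only [Set.mem_compl_iff, Set.mem_insert_iff, Set.mem_singleton_iff, not_or]
        exact ⟨fun h3 => hab (MulAction.injective g₁ (hg₁a.trans h3.symm)), hg₁b⟩
      have h3 : Nat.card (H ⊓ stabilizer G a : Subgroup G) = q * ((q - 1) * Nat.card Z) := by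
        rw [h.card_of_trans hab inf_le_right]
        · have h4 : H ⊓ stabilizer G a ⊓ stabilizer G b = Sharp.D G a b := by
            apply le_antisymm
            · rintro g ⟨⟨-, hga⟩, hgb⟩
              exact ⟨hga, hgb⟩
            · intro g hg
              exact ⟨⟨hD hg, hg.1⟩, hg.2⟩
          rw [h4, h.card_D hab (by omega)]
        · intro y hy
          by_cases hyb : y = b
          · exact ⟨1, one_mem _, by rw [one_smul, hyb]⟩
          · obtain ⟨e, he, hey⟩ := h.three' hab hg₁' (y := y) (by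
              simp only [Set.mem_compl_iff, Set.mem_insert_iff, Set.mem_singleton_iff, not_or]
              exact ⟨hy, hyb⟩)
            refine ⟨e * g₁, mul_mem ⟨hD he, he.1⟩ ⟨hg₁, hg₁a⟩, ?_⟩
            rw [mul_smul, hey]
      have h4 := h.card_of_trans' ht
      rw [h3, ← h.card_G hab (by omega)] at h4
      exact Subgroup.eq_top_of_card_eq H h4

end Abstract

section Conj

variable {C : Type*} [Group C]

/-- The conjugate `w B w⁻¹`. -/
def cj (w : C) (B : Subgroup C) : Subgroup C := B.map (MulAut.conj w).toMonoidHom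

theorem mem_cj {w g : C} {B : Subgroup C} : g ∈ cj w B ↔ w⁻¹ * g * w ∈ B := by
  unfold cj
  rw [Subgroup.mem_map]
  constructor
  · rintro ⟨x, hx, rfl⟩
    have h1 : w⁻¹ * (MulAut.conj w).toMonoidHom x * w = x := by
      simp [MulAut.conj_apply, mul_assoc]
    rw [h1]
    exact hx
  · intro h
    exact ⟨_, h, by simp [MulAut.conj_apply, mul_assoc]⟩

end Conj

section Line

variable {C : Type*} [Group C] [Finite C] {q : ℕ} {Z T₁ U : Subgroup C} {s₁ : C}

/-- The stabiliser of zero is the conjugate of `N U` by `s₁`. -/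
theorem stab_zer : stabilizer C (zer U s₁) = cj s₁ (N U) := by
  ext g
  rw [mem_cj, mem_stabilizer_iff]
  change ((g * s₁ : C) : C ⧸ N U) = ((s₁ : C) : C ⧸ N U) ↔ _
  rw [QuotientGroup.eq, ← inv_mem_iff]
  have h1 : ((g * s₁)⁻¹ * s₁)⁻¹ = s₁⁻¹ * g * s₁ := by group
  rw [h1]

/-- **Proper subgroups containing the split torus, all `q ≥ 3`.** -/
theorem eps_one (hb : Base q Z U) (h₁ : Torus q 1 Z T₁ s₁)
    (hn : ∀ τ ∈ T₁, ∀ v ∈ U, τ * v * τ⁻¹ ∈ U) (hq : 3 ≤ q) {H : Subgroup C} (hT : T₁ ≤ H)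
    (hH : H ≠ ⊤) :
    (H ≤ N U ∧ q + 1 ≤ H.index ∧ (H.index = q + 1 → H = N U)) ∨
    (H ≤ cj s₁ (N U) ∧ q + 1 ≤ H.index ∧ (H.index = q + 1 → H = cj s₁ (N U))) ∨
    (q ≤ H.index ∧ s₁ ∈ H) := by
  have h1 := split_all (sharp hb h₁ hn hq) (zer_ne hb h₁ hn hq).symm hq (H := H)
    (by rw [D_eq hb h₁ hn hq]; exact hT) hH
  rw [stab_inf hb h₁ hn, stab_zer] at h1
  refine h1.imp_right (Or.imp_right fun h2 => ⟨h2.1, h2.2 s₁ ?_ ?_⟩)
  · change ((s₁ * 1 : C) : C ⧸ N U) = ((s₁ : C) : C ⧸ N U)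
    rw [mul_one]
  · change ((s₁ * s₁ : C) : C ⧸ N U) = ((1 : C) : C ⧸ N U)
    rw [h₁.s_sq]

/-- A subgroup containing `U`, the nonsplit torus and every conjugate of `U` is everything. -/
theorem top_of_normal (hb : Base q Z U) (h₁ : Torus q 1 Z T₁ s₁)
    (hn : ∀ τ ∈ T₁, ∀ v ∈ U, τ * v * τ⁻¹ ∈ U) (hq : 3 ≤ q) {T : Subgroup C} (hcyc : IsCyclic T₁)
    (hZT : Z ≤ T) {δ : C →* ℂˣ} (hδU : ∀ v ∈ U, δ v = 1) (hδ2 : ∀ c, δ c * δ c = 1)
    (hδT : ∃ x ∈ T, δ x ≠ 1) {H : Subgroup C} (hT : T ≤ H) {L : Subgroup C} (hL : L.Normal)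
    (hUL : U ≤ L) (hLH : L ≤ H) (hδL : ∀ l ∈ L, δ l = 1) : H = ⊤ := by
  obtain ⟨g₀, hg₀⟩ := hcyc.exists_generator
  have hsq : ((g₀ : C) * g₀) ∈ H := sq_mem hb h₁ hn hq hL hUL hLH (hZT.trans hT) g₀.2
  have hT₁H : T₁ ≤ H := by
    obtain ⟨x, hx, hδx⟩ := hδT
    obtain ⟨l, hl, τ, hτ, he⟩ := exists_of_normal hb h₁ hn hq hL hUL x
    have hτH : τ ∈ H := by
      have h3 : τ = l⁻¹ * x := by rw [he]; group
      rw [h3]
      exact mul_mem (inv_mem (hLH hl)) (hT hx)
    have hδτ : δ τ ≠ 1 := by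
      intro h3
      apply hδx
      rw [he, map_mul, hδL l hl, h3, one_mul]
    obtain ⟨i, hi⟩ := Subgroup.mem_zpowers_iff.1 (hg₀ ⟨τ, hτ⟩)
    have hi' : (g₀ : C) ^ i = τ := congrArg Subtype.val hi
    have hg₀H : (g₀ : C) ∈ H := by
      rcases Int.even_or_odd i with ⟨j, hj⟩ | ⟨j, hj⟩
      · exfalso
        apply hδτ
        rw [← hi', hj, zpow_add, map_mul, hδ2]
      · have h3 : (g₀ : C) = ((g₀ : C) * g₀) ^ (-j) * τ := by
          rw [← hi', hj, ← sq, ← zpow_natCast (g₀ : C) 2, ← zpow_mul, ← zpow_add]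
          have h4 : ((2 : ℕ) : ℤ) * -j + (2 * j + 1) = 1 := by push_cast; ring
          rw [h4, zpow_one]
        rw [h3]
        exact mul_mem (zpow_mem hsq _) hτH
    intro y hy
    obtain ⟨j, hj⟩ := Subgroup.mem_zpowers_iff.1 (hg₀ ⟨y, hy⟩)
    have hj' : (g₀ : C) ^ j = y := congrArg Subtype.val hj
    rw [← hj']
    exact zpow_mem hg₀H j
  rw [eq_top_iff]
  intro c _
  obtain ⟨l, hl, τ, hτ, rfl⟩ := exists_of_normal hb h₁ hn hq hL hUL c
  exact mul_mem (hLH hl) (hT₁H hτ)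

/-- A proper subgroup containing the nonsplit torus does not have index two. -/
theorem index_ne_two (hb : Base q Z U) (h₁ : Torus q 1 Z T₁ s₁)
    (hn : ∀ τ ∈ T₁, ∀ v ∈ U, τ * v * τ⁻¹ ∈ U) (hq : 3 ≤ q) {T : Subgroup C} (hcyc : IsCyclic T₁)
    (hZT : Z ≤ T) {δ : C →* ℂˣ} (hδU : ∀ v ∈ U, δ v = 1) (hδ2 : ∀ c, δ c * δ c = 1)
    (hδT : ∃ x ∈ T, δ x ≠ 1) {H : Subgroup C} (hT : T ≤ H) (hH : H ≠ ⊤) : H.index ≠ 2 := by
  intro h2
  have hN : H.Normal := Subgroup.normal_of_index_eq_two h2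
  have hUH : U ≤ H := by
    intro v hv
    have h3 : v ^ q = 1 := hb.pow_card_U hv
    obtain ⟨j, hj⟩ := hb.odd_q
    have h4 : v * v ∈ H := by
      have := Subgroup.mul_self_mem_of_index_two h2 v
      exact this
    have h5 : v = ((v * v) ^ j)⁻¹ := by
      rw [eq_inv_iff_mul_eq_one, ← sq, ← pow_mul, ← pow_succ', ← hj, h3]
    rw [h5]
    exact inv_mem (pow_mem h4 j)
  have hL : (Subgroup.normalClosure (U : Set C)).Normal := Subgroup.normalClosure_normal
  refine hH (top_of_normal hb h₁ hn hq hcyc hZT hδU hδ2 hδT hT hL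
    (fun v hv => Subgroup.subset_normalClosure hv) (Subgroup.normalClosure_le_normal hUH) ?_)
  have h3 : Subgroup.normalClosure (U : Set C) ≤ δ.ker :=
    Subgroup.normalClosure_le_normal (fun v hv => hδU v hv)
  exact fun l hl => h3 hl

end Line

section CHyp

variable {C : Type*} [Group C] [Finite C] {z u s s' : C} {q : ℕ} {Z T T' U : Subgroup C} {r : ℕ}
  {b : C →* ℂˣ}

/-- **Proper subgroups containing the torus `T`, `ε = -1`**, `q = 3` or `q > 5`. -/
theorem eps_neg (hC : CHyp z q (-1) Z T T' U s s' u)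
    (hD : DetHyp q (-1) T T' U s s' u r b)
    (hn : ∀ τ ∈ T', ∀ v ∈ U, τ * v * τ⁻¹ ∈ U) (hq : q ≠ 5) {H : Subgroup C} (hT : T ≤ H)
    (hH : H ≠ ⊤) : q ≤ H.index := by
  obtain ⟨j, hj⟩ := hC.odd_q
  have h1q := hC.one_lt_q
  by_cases h5 : 5 < q
  · exact ((Nat.lt_succ_self q).trans (index_eps_neg hC hD hn h5 hT hH)).le
  have h3 : q = 3 := by omega
  have h' : Torus q 1 Z T' s' := by
    have := hC.torus'
    rwa [neg_neg] at this
  obtain ⟨m, hm1, hm⟩ := hD.r_pow
  have hr : r = r / 2 + r / 2 := by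
    have h1 : 2 ∣ r := by rw [hm]; exact dvd_pow_self 2 (by omega)
    omega
  have hr0 : 0 < r := by rw [hm]; positivity
  have h4 := index_ne_two hC.base h' hn (by omega) (T := T) hC.T'_cyclic hC.torus.Z_le
    (δ := b ^ (r / 2)) (by
      intro v hv
      rw [MonoidHom.pow_apply, hD.b_U v hv, one_pow]) (by
      intro c
      rw [MonoidHom.pow_apply, ← pow_add, ← hr, hD.pow_eq_one]) (by
      obtain ⟨x, hx, ho⟩ := hD.exists_T
      refine ⟨x, hx, fun h1 => ?_⟩
      have h2 := orderOf_dvd_of_pow_eq_one h1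
      rw [ho] at h2
      have h3 := Nat.le_of_dvd (by omega) h2
      omega) hT hH
  have h5 : H.index ≠ 1 := fun h6 => hH (Subgroup.index_eq_one.1 h6)
  have h6 : H.index ≠ 0 := Subgroup.index_ne_zero_of_finite
  omega

end CHyp

section Pull

variable {C Q : Type*} [Group C] [Finite C] [Group Q] [Finite Q] {π : C →* Q} {q : ℕ}

/-- The image of a subgroup containing the kernel. -/
theorem map_facts (hπ : Function.Surjective π) {H : Subgroup C} (hK : π.ker ≤ H) :
    (H.map π).comap π = H ∧ (H.map π).index = H.index ∧ (H ≠ ⊤ → H.map π ≠ ⊤) := by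
  have h1 : (H.map π).comap π = H := by
    rw [Subgroup.comap_map_eq, sup_eq_left.2 hK]
  refine ⟨h1, ?_, fun h2 h3 => h2 ?_⟩
  · rw [← Subgroup.index_comap_of_surjective (H.map π) hπ, h1]
  · rw [← h1, h3, Subgroup.comap_top]

variable {Z T₁ U : Subgroup Q} {s₁ : Q}

/-- **`ε = 1`, in a group mapped onto `C`**: `M` maps onto the torus, `w` normalises the image of `M`
and is not in it; `B = π⁻¹(N(U))`. -/
theorem pull_eps_one (hb : Base q Z U) (h₁ : Torus q 1 Z T₁ s₁)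
    (hn : ∀ τ ∈ T₁, ∀ v ∈ U, τ * v * τ⁻¹ ∈ U) (hq : 3 ≤ q) (hπ : Function.Surjective π)
    {M : Subgroup C} (hM : M.map π = T₁) {w : C} (hw : ∀ x ∈ M, w * x * w⁻¹ ∈ M)
    (hwM : w ∉ π.ker ⊔ M) {H : Subgroup C} (hK : π.ker ≤ H) (hMH : M ≤ H) (hH : H ≠ ⊤) :
    (H ≤ (N U).comap π ∧ q + 1 ≤ H.index ∧ (H.index = q + 1 → H = (N U).comap π)) ∨
    (H ≤ cj w ((N U).comap π) ∧ q + 1 ≤ H.index ∧
      (H.index = q + 1 → H = cj w ((N U).comap π))) ∨
    (q ≤ H.index ∧ w ∈ H) := by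
  obtain ⟨h1, h2, h3⟩ := map_facts hπ hK
  have hT : T₁ ≤ H.map π := by
    rw [← hM]
    exact Subgroup.map_mono hMH
  -- `π w ∈ s₁ T₁`
  have hwT : π w ∉ T₁ := by
    intro h4
    apply hwM
    rw [← hM] at h4
    obtain ⟨m, hm, hmw⟩ := h4
    have h5 : w * m⁻¹ ∈ π.ker := by
      rw [MonoidHom.mem_ker, map_mul, map_inv, hmw, mul_inv_cancel]
    have h6 : w = (w * m⁻¹) * m := by group
    rw [h6]
    exact Subgroup.mul_mem_sup h5 hm
  have hws : s₁ * π w ∈ T₁ := by
    obtain ⟨x, hx, hxZ⟩ := exists_T₁_notMem hb h₁ hn hq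
    have h4 : π w * x * (π w)⁻¹ ∈ T₁ := by
      rw [← hM] at hx ⊢
      obtain ⟨m, hm, rfl⟩ := hx
      exact ⟨w * m * w⁻¹, hw m hm, by rw [map_mul, map_mul, map_inv]⟩
    exact (h₁.fus x hx hxZ _ h4).resolve_left hwT
  -- the second Borel subgroup
  have hcj : (cj s₁ (N U)).comap π = cj w ((N U).comap π) := by
    ext g
    rw [mem_cj, Subgroup.mem_comap, Subgroup.mem_comap, mem_cj]
    have h4 : s₁ * π w ∈ N U := T₁_le_N hb h₁ hn hws
    have h5 : π (w⁻¹ * g * w) = (s₁ * π w)⁻¹ * (s₁ * π g * s₁⁻¹) * (s₁ * π w) := by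
      rw [map_mul, map_mul, map_inv]
      group
    have h6 : s₁ * π g * s₁⁻¹ = s₁⁻¹ * π g * s₁ := by rw [h₁.s_inv]
    rw [h5, h6]
    constructor
    · intro h7
      exact mul_mem (mul_mem (inv_mem h4) h7) h4
    · intro h7
      have h8 : s₁⁻¹ * π g * s₁ = (s₁ * π w) * ((s₁ * π w)⁻¹ * (s₁⁻¹ * π g * s₁) * (s₁ * π w)) *
          (s₁ * π w)⁻¹ := by group
      rw [h8]
      exact mul_mem (mul_mem h4 h7) (inv_mem h4)
  rcases eps_one hb h₁ hn hq hT (h3 hH) with ⟨h4, h5, h6⟩ | ⟨h4, h5, h6⟩ | ⟨h4, h5⟩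
  · refine Or.inl ⟨?_, by rw [← h2]; exact h5, fun h7 => ?_⟩
    · rw [← h1]
      exact Subgroup.comap_mono h4
    · rw [← h1, h6 (by rw [h2]; exact h7)]
  · refine Or.inr (Or.inl ⟨?_, by rw [← h2]; exact h5, fun h7 => ?_⟩)
    · rw [← h1, ← hcj]
      exact Subgroup.comap_mono h4
    · rw [← h1, h6 (by rw [h2]; exact h7), hcj]
  · refine Or.inr (Or.inr ⟨by rw [← h2]; exact h4, ?_⟩)
    rw [← h1, Subgroup.mem_comap]
    have h6 : π w = s₁⁻¹ * (s₁ * π w) := by group
    rw [h6]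
    exact mul_mem (inv_mem h5) (hT hws)

variable {T T' : Subgroup Q} {z u s s' : Q} {r : ℕ} {b : Q →* ℂˣ}

/-- **`ε = -1`, in a group mapped onto `C`**. -/
theorem pull_eps_neg (hC : CHyp z q (-1) Z T T' U s s' u)
    (hD : DetHyp q (-1) T T' U s s' u r b)
    (hn : ∀ τ ∈ T', ∀ v ∈ U, τ * v * τ⁻¹ ∈ U) (hq : q ≠ 5) (hπ : Function.Surjective π)
    {M : Subgroup C} (hM : M.map π = T) {H : Subgroup C} (hK : π.ker ≤ H) (hMH : M ≤ H)
    (hH : H ≠ ⊤) : q ≤ H.index := by
  obtain ⟨h1, h2, h3⟩ := map_facts hπ hK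
  rw [← h2]
  refine eps_neg hC hD hn hq ?_ (h3 hH)
  rw [← hM]
  exact Subgroup.map_mono hMH

end Pull

end Cfsg.Agent.Classification.QDW.WrLine
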