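import Mathlib
import Cfsg.Agent.Classification.InvCent.WrChar
import Cfsg.Agent.Classification.QDW.WrDefs
import Cfsg.Agent.Classification.QDW.WrLine

/-!
# The wreathed case: the setting inside the centralizer of an involution

`A` is a finite group with a central involution `τ`, `π : A →* C` onto with odd kernel, `C` of
type `GL₂(q)/Z₀` (`ε = 1`) or `GU₂(q)/Z₀` (`ε = -1`), `π τ = z`, `4 ∣ r`.

* `exists_pair`: there are `u' w : A` with `u' ^ 2 = 1`, `π u' = u`, `π w = s`,
  `w u' w⁻¹ = τ u'`;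
* with `M = C_A(u')`, `lam = (b ∘ π) ^ (r / 2)`: `wrHyp : WrHyp π.ker M lam w`.
-/

set_option autoImplicit false
set_option linter.unusedSectionVars false

namespace Cfsg.Agent.Classification.QDW.WrInst

open Cfsg Cfsg.Agent.Classification.InvCent Cfsg.Agent.Classification.QDW.WrDefs

universe v w

section General

variable {A : Type v} [Group A] {C : Type w} [Group C] {π : A →* C}

theorem pow_card_ker (π : A →* C) {x : A} (hx : π x = 1) : x ^ Nat.card π.ker = 1 := by
  have h1 : (⟨x, hx⟩ : π.ker) ^ Nat.card π.ker = 1 := pow_card_eq_one'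
  exact congrArg Subtype.val h1

theorem eq_one_of_sq (hodd : Odd (Nat.card π.ker)) {x : A} (hx : π x = 1) (h2 : x * x = 1) :
    x = 1 := by
  obtain ⟨m, hm⟩ := hodd
  have h1 := pow_card_ker π hx
  rw [hm, pow_succ, pow_mul, sq, h2, one_pow, one_mul] at h1
  exact h1

/-- Involutions lift. -/
theorem exists_invol (hπ : Function.Surjective π) (hodd : Odd (Nat.card π.ker)) {c : C}
    (hc : c * c = 1) : ∃ a : A, a * a = 1 ∧ π a = c := by
  obtain ⟨a, rfl⟩ := hπ c
  obtain ⟨m, hm⟩ := hodd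
  refine ⟨a ^ Nat.card π.ker, ?_, ?_⟩
  · have hc2 : Commute a a := Commute.refl a
    rw [← hc2.mul_pow]
    exact pow_card_ker π (by rw [map_mul, hc])
  · rw [map_pow, hm, pow_succ, pow_mul, sq, hc, one_pow, one_mul]

/-- Two involutions with the same image are conjugate in the kernel. -/
theorem exists_conj (hodd : Odd (Nat.card π.ker)) {x y : A} (hx : x * x = 1) (hy : y * y = 1)
    (h : π x = π y) : ∃ k : A, π k = 1 ∧ k * x * k⁻¹ = y := by
  obtain ⟨m, hm⟩ := hodd
  have hxi : x⁻¹ = x := inv_eq_of_mul_eq_one_left hx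
  have hyi : y⁻¹ = y := inv_eq_of_mul_eq_one_left hy
  have ha : π (x * y) = 1 := by
    rw [map_mul, ← h, ← map_mul, hx, map_one]
  have h1 := pow_card_ker π ha
  -- `x` inverts `x y`
  have h2 : ∀ n : ℕ, x * (x * y) ^ n = ((x * y) ^ n)⁻¹ * x := by
    intro n
    have h3 : x * (x * y) * x⁻¹ = (x * y)⁻¹ := by
      rw [mul_inv_rev, hxi, hyi, ← mul_assoc, hx, one_mul]
    have h4 : x * (x * y) ^ n * x⁻¹ = ((x * y) ^ n)⁻¹ := by
      rw [← conj_pow, h3, inv_pow]
    rw [← h4]
    group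
  refine ⟨((x * y) ^ (m + 1))⁻¹, by rw [map_inv, map_pow, ha, one_pow, inv_one], ?_⟩
  have h5 : ((x * y) ^ (m + 1))⁻¹ * x * ((x * y) ^ (m + 1))⁻¹⁻¹ =
      ((x * y) ^ (m + 1))⁻¹ * (((x * y) ^ (m + 1))⁻¹ * x) := by
    rw [inv_inv, mul_assoc, h2]
  rw [h5, ← mul_assoc, ← mul_inv_rev, ← pow_add]
  have h6 : m + 1 + (m + 1) = Nat.card π.ker + 1 := by omega
  rw [h6, pow_succ, h1, one_mul, mul_inv_rev, hxi, hyi, mul_assoc, hx, mul_one]

theorem mem_cent {x g : A} : g ∈ Subgroup.centralizer ({x} : Set A) ↔ g * x = x * g := by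
  rw [Subgroup.mem_centralizer_singleton_iff]

/-- The image of the centralizer of an involution. -/
theorem map_centralizer (hπ : Function.Surjective π) (hodd : Odd (Nat.card π.ker)) {x : A}
    (hx : x * x = 1) : (Subgroup.centralizer ({x} : Set A)).map π =
      Subgroup.centralizer ({π x} : Set C) := by
  ext c
  constructor
  · rintro ⟨a, ha, rfl⟩
    have h1 := mem_cent.1 ha
    rw [mem_cent, ← map_mul, h1, map_mul]
  · intro hc
    obtain ⟨a, rfl⟩ := hπ c
    have h1 : π (a * x * a⁻¹) = π x := by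
      rw [map_mul, map_mul, map_inv, mem_cent.1 hc, mul_inv_cancel_right]
    have h2 : a * x * a⁻¹ * (a * x * a⁻¹) = 1 := by
      have h3 : a * x * a⁻¹ * (a * x * a⁻¹) = a * (x * x) * a⁻¹ := by group
      rw [h3, hx]; group
    obtain ⟨k, hk, hk'⟩ := exists_conj hodd h2 hx h1
    refine ⟨k * a, ?_, by rw [map_mul, hk, one_mul]⟩
    change k * a ∈ Subgroup.centralizer ({x} : Set A)
    rw [mem_cent]
    have h3 : k * (a * x * a⁻¹) * k⁻¹ * (k * a) = k * a * x := by group
    rw [← h3, hk']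

end General

/-- `A` lies over `C` with odd kernel, `τ` is a central involution over `z`. -/
structure Over {A : Type v} [Group A] {C : Type w} [Group C] (π : A →* C) (τ : A) (z : C) :
    Prop where
  surj : Function.Surjective π
  odd : Odd (Nat.card π.ker)
  central : ∀ g : A, g * τ = τ * g
  sq : τ * τ = 1
  map : π τ = z

/-- A noncentral involution `u'` over `u` and an element `w` over `s` with
`w u' w⁻¹ = τ u'`. -/
structure Pair {A : Type v} [Group A] {C : Type w} [Group C] (π : A →* C) (τ : A) (s u : C)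
    (u' w : A) : Prop where
  sq : u' * u' = 1
  map_u : π u' = u
  map_w : π w = s
  conj : w * u' * w⁻¹ = τ * u'

section Main

variable {A : Type v} [Group A] {C : Type w} [Group C] [Finite C] {π : A →* C} {τ : A} {z : C}
  {q : ℕ} {ε : ℤ} {Z T T' U : Subgroup C} {s s' u : C} {r : ℕ} {b : C →* ℂˣ} {u' w : A}

theorem exists_pair (ho : Over π τ z) (hC : CHyp z q ε Z T T' U s s' u) :
    ∃ u' w : A, Pair π τ s u u' w := by
  obtain ⟨u', h1, h2⟩ := exists_invol ho.surj ho.odd (WrChar.u_mul_u hC)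
  obtain ⟨w₀, hw₀⟩ := ho.surj s
  have h3 : w₀ * u' * w₀⁻¹ * (w₀ * u' * w₀⁻¹) = 1 := by
    have h4 : w₀ * u' * w₀⁻¹ * (w₀ * u' * w₀⁻¹) = w₀ * (u' * u') * w₀⁻¹ := by group
    rw [h4, h1]; group
  have h4 : τ * u' * (τ * u') = 1 := by
    have h5 : τ * u' * (τ * u') = (τ * (u' * τ)) * u' := by group
    rw [h5, ho.central u', ← mul_assoc, ho.sq, one_mul, h1]
  have h5 : π (w₀ * u' * w₀⁻¹) = π (τ * u') := by
    rw [map_mul, map_mul, map_mul, map_inv, hw₀, h2, ho.map, hC.s_u]
  obtain ⟨k, hk, hk'⟩ := exists_conj ho.odd h3 h4 h5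
  refine ⟨u', k * w₀, h1, h2, by rw [map_mul, hk, one_mul, hw₀], ?_⟩
  have h6 : k * w₀ * u' * (k * w₀)⁻¹ = k * (w₀ * u' * w₀⁻¹) * k⁻¹ := by group
  rw [h6, hk']

theorem u_notMem (hC : CHyp z q ε Z T T' U s s' u) : u ∉ Z := by
  intro h1
  have h2 := hC.s_u
  rw [hC.Z_central u h1 s, mul_inv_cancel_right] at h2
  have h3 : z = 1 := by
    have h4 : z * u = 1 * u := by rw [one_mul]; exact h2.symm
    exact mul_right_cancel h4
  exact WrChar.z_ne hC h3

theorem centralizer_u (hC : CHyp z q ε Z T T' U s s' u) :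
    Subgroup.centralizer ({u} : Set C) = T :=
  hC.torus.centralizer_eq hC.u_mem (u_notMem hC)

/-- `M = C(u')` maps onto `T`. -/
theorem map_M (ho : Over π τ z) (hC : CHyp z q ε Z T T' U s s' u) (hp : Pair π τ s u u' w) :
    (Subgroup.centralizer ({u'} : Set A)).map π = T := by
  rw [map_centralizer ho.surj ho.odd hp.sq, hp.map_u, centralizer_u hC]

theorem map_mem (ho : Over π τ z) (hC : CHyp z q ε Z T T' U s s' u) (hp : Pair π τ s u u' w)
    {x : A} (hx : x * u' = u' * x) : π x ∈ T := by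
  rw [← map_M ho hC hp]
  exact ⟨x, mem_cent.2 hx, rfl⟩

/-- The involutions of `M`. -/
theorem invol_M (ho : Over π τ z) (hC : CHyp z q ε Z T T' U s s' u) (hp : Pair π τ s u u' w)
    {x : A} (hx : x * u' = u' * x) (h2 : x * x = 1) : x = 1 ∨ x = τ ∨ x = u' ∨ x = τ * u' := by
  have key : ∀ y : A, y * y = 1 → x * y = y * x → π x = π y → x = y := by
    intro y hy hxy h
    have hyi : y⁻¹ = y := inv_eq_of_mul_eq_one_left hy
    have h3 : x * y = 1 := by
      refine eq_one_of_sq ho.odd (π := π) ?_ ?_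
      · rw [map_mul, ← h, ← map_mul, h2, map_one]
      · calc x * y * (x * y) = x * (y * x) * y := by group
          _ = x * (x * y) * y := by rw [hxy]
          _ = (x * x) * (y * y) := by group
          _ = 1 := by rw [h2, hy, one_mul]
    rw [← hyi]
    exact eq_inv_of_mul_eq_one_left h3
  have hτu : τ * u' * (τ * u') = 1 := by
    have h5 : τ * u' * (τ * u') = (τ * (u' * τ)) * u' := by group
    rw [h5, ho.central u', ← mul_assoc, ho.sq, one_mul, hp.sq]
  have h3 : π x * π x = 1 := by rw [← map_mul, h2, map_one]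
  rcases hC.invol_T (π x) (map_mem ho hC hp hx) h3 with h | h | h | h
  · exact Or.inl (key 1 (one_mul 1) (by rw [mul_one, one_mul]) (by rw [h, map_one]))
  · exact Or.inr (Or.inl (key τ ho.sq (ho.central x) (by rw [h, ho.map])))
  · exact Or.inr (Or.inr (Or.inl (key u' hp.sq hx (by rw [h, hp.map_u]))))
  · refine Or.inr (Or.inr (Or.inr (key (τ * u') hτu ?_ (by rw [h, map_mul, ho.map, hp.map_u]))))
    rw [← mul_assoc, ho.central x, mul_assoc, hx, mul_assoc]

/-- An odd number killing the odd part of `T`. -/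
theorem exists_odd (hC : CHyp z q ε Z T T' U s s' u) (hD : DetHyp q ε T T' U s s' u r b) :
    ∃ n, Odd n ∧ ∀ x ∈ T, x ^ (r * n) = 1 := by
  obtain ⟨k, hk, hc⟩ := WrChar.card_Z hC hD
  obtain ⟨k', hk', hc'⟩ := hD.r_dvd
  obtain ⟨ξ, -, hξr, hξz, -⟩ := WrChar.exists_xi hC hD
  have hr0 : 0 < r := by
    obtain ⟨m, -, hm⟩ := hD.r_pow
    rw [hm]; positivity
  have hqe : (0 : ℤ) < q - ε := by
    have := hC.one_lt_q
    rcases hC.eps with h | h <;> omega
  have hk'0 : 0 < k' := by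
    rw [hc'] at hqe
    exact pos_of_mul_pos_right hqe (by omega)
  lift k' to ℕ using hk'0.le
  have hk'' : Odd k' := by exact_mod_cast hk'
  refine ⟨k * k', hk.mul hk'', fun x hx => ?_⟩
  -- the norm and the quotient
  have h1 : (x * (s * x * s⁻¹)) ^ (r * (k * k')) = 1 := by
    have h2 : (x * (s * x * s⁻¹)) ^ Nat.card Z = 1 := by
      have h3 : (⟨x * (s * x * s⁻¹), hC.s_norm x hx⟩ : Z) ^ Nat.card Z = 1 := pow_card_eq_one'
      exact congrArg Subtype.val h3
    have h3 : r * (k * k') = Nat.card Z * k' := by rw [hc]; ring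
    rw [h3, pow_mul, h2, one_pow]
  have hxs := hC.s_conj x hx
  have h2 : (x * (s * x * s⁻¹)⁻¹) ^ (r * (k * k')) = 1 := by
    have hss : s * (s * x * s⁻¹)⁻¹ * s⁻¹ = x⁻¹ := by
      have h3 := hC.torus.s_conj_conj x
      have h4 : s * (s * x * s⁻¹)⁻¹ * s⁻¹ = (s * (s * x * s⁻¹) * s⁻¹)⁻¹ := by
        simp only [mul_inv_rev, inv_inv, mul_assoc]
      rw [h4, h3]
    -- the kernel of the norm
    let _ : CommGroup T :=
      { (inferInstance : Group T) with mul_comm := fun a b => Subtype.ext (hC.T_comm a a.2 b b.2) }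
    let ν : T →* T := (MonoidHom.id T) * (LinChar.sg hC.torus)
    have hker : (Nat.card ν.ker : ℤ) = q - ε := by
      rw [← WrChar.card_norm hC]
      rfl
    have h3 : (⟨x * (s * x * s⁻¹)⁻¹, mul_mem hx (inv_mem hxs)⟩ : T) ∈ ν.ker := by
      rw [MonoidHom.mem_ker]
      apply Subtype.ext
      change x * (s * x * s⁻¹)⁻¹ * (s * (x * (s * x * s⁻¹)⁻¹) * s⁻¹) = 1
      have h4 : s * (x * (s * x * s⁻¹)⁻¹) * s⁻¹ = (s * x * s⁻¹) * (s * (s * x * s⁻¹)⁻¹ * s⁻¹) := by
        group
      rw [h4, hss]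
      group
    have h4 : (⟨⟨x * (s * x * s⁻¹)⁻¹, mul_mem hx (inv_mem hxs)⟩, h3⟩ : ν.ker) ^
        Nat.card ν.ker = 1 := pow_card_eq_one'
    have h5 : (x * (s * x * s⁻¹)⁻¹) ^ Nat.card ν.ker = 1 :=
      congrArg (fun y : ν.ker => ((y : T) : C)) h4
    have h6 : Nat.card ν.ker = r * k' := by
      have : (Nat.card ν.ker : ℤ) = ((r * k' : ℕ) : ℤ) := by rw [hker, hc']; push_cast; rfl
      exact_mod_cast this
    have h7 : r * (k * k') = (r * k') * k := by ring
    rw [h7, pow_mul, ← h6, h5, one_pow]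
  -- the square
  have hcomm : x * (s * x * s⁻¹) = (s * x * s⁻¹) * x := hC.T_comm x hx _ hxs
  have h3 : x * x = (x * (s * x * s⁻¹)) * (x * (s * x * s⁻¹)⁻¹) := by
    have h4 : (x * (s * x * s⁻¹)) * (x * (s * x * s⁻¹)⁻¹) =
        ((s * x * s⁻¹) * x) * (x * (s * x * s⁻¹)⁻¹) := by rw [hcomm]
    have h5 : ((s * x * s⁻¹) * x) * (x * (s * x * s⁻¹)⁻¹) =
        (s * x * s⁻¹) * (x * x) * (s * x * s⁻¹)⁻¹ := by group
    rw [h4, h5, hC.T_comm _ hxs _ (mul_mem hx hx), mul_inv_cancel_right]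
  have h4 : x ^ (r * (k * k')) * x ^ (r * (k * k')) = 1 := by
    have hc2 : Commute x x := Commute.refl x
    rw [← hc2.mul_pow, h3]
    have hc3 : Commute (x * (s * x * s⁻¹)) (x * (s * x * s⁻¹)⁻¹) :=
      hC.T_comm _ (mul_mem hx hxs) _ (mul_mem hx (inv_mem hxs))
    rw [hc3.mul_pow, h1, h2, one_mul]
  have hxT : x ^ (r * (k * k')) ∈ T := pow_mem hx _
  have hξx : ξ ⟨x ^ (r * (k * k')), hxT⟩ = 1 := by
    have h5 : (⟨x ^ (r * (k * k')), hxT⟩ : T) = ⟨x, hx⟩ ^ (r * (k * k')) := rfl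
    rw [h5, map_pow, pow_mul, hξr, one_pow]
  have hbx : b (x ^ (r * (k * k'))) = 1 := by
    rw [map_pow, pow_mul, hD.pow_eq_one, one_pow]
  rcases hC.invol_T _ hxT h4 with h | h | h | h
  · exact h
  · exfalso
    have h5 : (⟨x ^ (r * (k * k')), hxT⟩ : T) = ⟨z, WrChar.z_mem hC⟩ := Subtype.ext h
    rw [h5, hξz] at hξx
    have h6 : (((-1 : ℂˣ) : ℂ)) = 1 := by rw [hξx]; rfl
    norm_num at h6
  · exfalso
    rw [h, hD.b_u] at hbx
    have h6 : (((-1 : ℂˣ) : ℂ)) = 1 := by rw [hbx]; rfl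
    norm_num at h6
  · exfalso
    rw [h, map_mul, WrChar.b_z hC hD, one_mul, hD.b_u] at hbx
    have h6 : (((-1 : ℂˣ) : ℂ)) = 1 := by rw [hbx]; rfl
    norm_num at h6

theorem half (hD : DetHyp q ε T T' U s s' u r b) : r = r / 2 * 2 := by
  obtain ⟨m, hm1, hm⟩ := hD.r_pow
  have h1 : 2 ∣ r := by rw [hm]; exact dvd_pow_self 2 (by omega)
  omega

theorem b_sq (hD : DetHyp q ε T T' U s s' u r b) (c : C) : b c ^ (r / 2) * b c ^ (r / 2) = 1 := by
  rw [← pow_add, ← mul_two, ← half hD, hD.pow_eq_one]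

/-- An element `x` of `T` with `b x` of order `r` generates, together with `z`, the involution `u`. -/
theorem exists_pow (hC : CHyp z q ε Z T T' U s s' u) (hD : DetHyp q ε T T' U s s' u r b)
    {x : C} (hx : x ∈ T) (hb : b x ^ (r / 2) ≠ 1) : ∃ j : ℕ, x ^ j = u ∨ x ^ j = z * u := by
  obtain ⟨n, hn, h1⟩ := exists_odd hC hD
  refine ⟨r / 2 * n, ?_⟩
  have h2 : x ^ (r / 2 * n) * x ^ (r / 2 * n) = 1 := by
    rw [← pow_add]
    have h3 : r / 2 * n + r / 2 * n = r * n := by
      conv_rhs => rw [half hD]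
      ring
    rw [h3, h1 x hx]
  have h3 : b (x ^ (r / 2 * n)) ≠ 1 := by
    intro h4
    apply hb
    obtain ⟨m, hm⟩ := hn
    rw [map_pow, pow_mul, hm, pow_succ, pow_mul, sq, b_sq hD, one_pow, one_mul] at h4
    exact h4
  rcases hC.invol_T _ (pow_mem hx _) h2 with h | h | h | h
  · exact absurd (by rw [h, map_one]) h3
  · exact absurd (by rw [h, WrChar.b_z hC hD]) h3
  · exact Or.inl h
  · exact Or.inr h

/-- The quadratic character. -/
noncomputable def lam (π : A →* C) (r : ℕ) (b : C →* ℂˣ) : A →* ℂˣ := (b ^ (r / 2)).comp π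

theorem lam_apply (g : A) : lam π r b g = b (π g) ^ (r / 2) := rfl

theorem lam_sq (hD : DetHyp q ε T T' U s s' u r b) (g : A) :
    lam π r b g * lam π r b g = 1 := b_sq hD (π g)

theorem lam_ker {g : A} (hg : π g = 1) : lam π r b g = 1 := by
  rw [lam_apply, hg, map_one, one_pow]

theorem lam_tau (ho : Over π τ z) (hC : CHyp z q ε Z T T' U s s' u)
    (hD : DetHyp q ε T T' U s s' u r b) : lam π r b τ = 1 := by
  rw [lam_apply, ho.map, WrChar.b_z hC hD, one_pow]

theorem lam_u (hD : DetHyp q ε T T' U s s' u r b) (h4 : 4 ∣ r) (hp : Pair π τ s u u' w) :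
    lam π r b u' = 1 := by
  rw [lam_apply, hp.map_u, hD.b_u]
  refine Even.neg_one_pow ?_
  obtain ⟨c, rfl⟩ := h4
  exact ⟨c, by omega⟩

theorem u_comm_w (ho : Over π τ z) (hp : Pair π τ s u u' w) : w⁻¹ * u' * w = τ * u' := by
  have h1 := hp.conj
  have h2 : w⁻¹ * (w * u' * w⁻¹) * w = u' := by group
  rw [h1] at h2
  have h3 : w⁻¹ * (τ * u') * w = τ * (w⁻¹ * u' * w) := by
    have h4 : w⁻¹ * (τ * u') * w = (w⁻¹ * τ) * u' * w := by group
    rw [h4, ho.central]
    group
  rw [h3] at h2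
  have h5 : τ * (τ * (w⁻¹ * u' * w)) = τ * u' := by rw [h2]
  rwa [← mul_assoc, ho.sq, one_mul] at h5

/-- A power of `s` times a power of `τ` is `u'`, for `s ∈ M` with `lam s ≠ 1`. -/
theorem exists_pow_lift (ho : Over π τ z) (hC : CHyp z q ε Z T T' U s s' u)
    (hD : DetHyp q ε T T' U s s' u r b) (hp : Pair π τ s u u' w) {x : A}
    (hx : x * u' = u' * x) (hl : lam π r b x ≠ 1) :
    ∃ j i : ℕ, x ^ j * τ ^ i = u' := by
  obtain ⟨j, hj⟩ := exists_pow hC hD (map_mem ho hC hp hx) hl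
  have key : ∀ i : ℕ, π (x ^ j * τ ^ i) = u →
      ∃ j i : ℕ, x ^ j * τ ^ i = u' := by
    intro i hi
    set y := x ^ j * τ ^ i with hy
    have hyu : y * u' = u' * y := by
      have h1 : Commute x u' := hx
      have h2 : Commute τ u' := (ho.central u').symm
      exact ((h1.pow_left j).mul_left (h2.pow_left i))
    have h1 : π (u' * y) = 1 := by
      rw [map_mul, hi, hp.map_u, WrChar.u_mul_u hC]
    have h2 := pow_card_ker π h1
    have h3 : Commute u' y := hyu.symm
    rw [h3.mul_pow] at h2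
    obtain ⟨m, hm⟩ := ho.odd
    have h4 : u' ^ Nat.card π.ker = u' := by
      rw [hm, pow_succ, pow_mul, sq, hp.sq, one_pow, one_mul]
    rw [h4] at h2
    have h5 : y ^ Nat.card π.ker = u' := by
      have h6 : u' * (u' * y ^ Nat.card π.ker) = u' * 1 := by rw [h2]
      rwa [← mul_assoc, hp.sq, one_mul, mul_one] at h6
    have h7 : Commute (x ^ j) (τ ^ i) := by
      have h8 : Commute x τ := ho.central x
      exact h8.pow_pow j i
    rw [hy, h7.mul_pow, ← pow_mul, ← pow_mul] at h5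
    exact ⟨_, _, h5⟩
  rcases hj with hj | hj
  · exact key 0 (by rw [pow_zero, mul_one, map_pow, hj])
  · exact key 1 (by
      rw [pow_one, map_mul, map_pow, hj, ho.map, mul_assoc, hC.Z_central z hC.t_mem u,
        ← mul_assoc, WrChar.z_mul_z hC, one_mul])

/-- **The abstract setting of the wreathed case.** -/
theorem wrHyp (ho : Over π τ z) (hC : CHyp z q ε Z T T' U s s' u)
    (hD : DetHyp q ε T T' U s s' u r b) (hp : Pair π τ s u u' w) :
    WrHyp π.ker (Subgroup.centralizer ({u'} : Set A)) (lam π r b) w where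
  normal := inferInstance
  odd := ho.odd
  lam_sq := lam_sq hD
  lam_K k hk := lam_ker hk
  lam_ne := by
    obtain ⟨x, hx, ho'⟩ := hD.exists_T
    rw [← map_M ho hC hp] at hx
    obtain ⟨y, hy, rfl⟩ := hx
    refine ⟨y, hy, fun h1 => ?_⟩
    rw [lam_apply] at h1
    have h2 := orderOf_dvd_of_pow_eq_one h1
    rw [ho'] at h2
    have h3 := half hD
    have h4 : 0 < r := by
      obtain ⟨m, -, hm⟩ := hD.r_pow
      rw [hm]; positivity
    have h5 := Nat.le_of_dvd (by omega) h2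
    omega
  comm x hx y hy := by
    have h1 := hC.T_comm _ (map_mem ho hC hp (mem_cent.1 hx)) _ (map_mem ho hC hp (mem_cent.1 hy))
    rw [MonoidHom.mem_ker, map_mul, map_mul, map_mul, map_inv, map_inv, h1]
    group
  conj_mem x hx := by
    have h1 := mem_cent.1 hx
    rw [mem_cent]
    have h2 := u_comm_w ho hp
    have h3 : u' = τ * (w⁻¹ * u' * w) := by rw [h2, ← mul_assoc, ho.sq, one_mul]
    calc w⁻¹ * x * w * u' = w⁻¹ * x * w * (τ * (w⁻¹ * u' * w)) := by rw [← h3]
      _ = (w⁻¹ * x * (w * τ)) * w⁻¹ * u' * w := by group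
      _ = w⁻¹ * x * (τ * w) * w⁻¹ * u' * w := by rw [ho.central w]
      _ = w⁻¹ * (x * τ) * u' * w := by group
      _ = w⁻¹ * (τ * x) * u' * w := by rw [ho.central x]
      _ = (w⁻¹ * τ) * (x * u') * w := by group
      _ = (τ * w⁻¹) * (u' * x) * w := by rw [ho.central w⁻¹, h1]
      _ = τ * (w⁻¹ * u' * w) * (w⁻¹ * x * w) := by group
      _ = u' * (w⁻¹ * x * w) := by rw [← h3]
  conj_mem' x hx := by
    have h1 := mem_cent.1 hx
    rw [mem_cent]
    have h2 := hp.conj
    have h3 : u' = τ * (w * u' * w⁻¹) := by rw [h2, ← mul_assoc, ho.sq, one_mul]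
    calc w * x * w⁻¹ * u' = w * x * w⁻¹ * (τ * (w * u' * w⁻¹)) := by rw [← h3]
      _ = (w * x * (w⁻¹ * τ)) * w * u' * w⁻¹ := by group
      _ = w * x * (τ * w⁻¹) * w * u' * w⁻¹ := by rw [ho.central w⁻¹]
      _ = w * (x * τ) * u' * w⁻¹ := by group
      _ = w * (τ * x) * u' * w⁻¹ := by rw [ho.central x]
      _ = (w * τ) * (x * u') * w⁻¹ := by group
      _ = (τ * w) * (u' * x) * w⁻¹ := by rw [ho.central w, h1]
      _ = τ * (w * u' * w⁻¹) * (w * x * w⁻¹) := by group
      _ = u' * (w * x * w⁻¹) := by rw [← h3]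
  w_notMem := by
    intro h1
    have h2 : π w ∈ (π.ker ⊔ Subgroup.centralizer ({u'} : Set A)).map π := ⟨w, h1, rfl⟩
    rw [Subgroup.map_sup, (Subgroup.map_eq_bot_iff π.ker).2 le_rfl, bot_sup_eq,
      map_M ho hC hp, hp.map_w] at h2
    exact hC.s_notMem h2
  ti x hx hl g hg := by
    obtain ⟨j, i, hji⟩ := exists_pow_lift ho hC hD hp (mem_cent.1 hx) hl
    have h1 : g⁻¹ * u' * g = (g⁻¹ * x * g) ^ j * τ ^ i := by
      have h2 : (g⁻¹ * x * g) ^ j = g⁻¹ * x ^ j * g := by
        have := conj_pow (a := g⁻¹) (b := x) (i := j)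
        rwa [inv_inv] at this
      have h3 : g * τ ^ i = τ ^ i * g := by
        have h8 : Commute g τ := ho.central g
        exact h8.pow_right i
      rw [h2, ← hji, mul_assoc _ g, h3]
      group
    have h2 : (g⁻¹ * u' * g) * u' = u' * (g⁻¹ * u' * g) := by
      rw [h1]
      have h3 : Commute (g⁻¹ * x * g) u' := mem_cent.1 hg
      have h4 : Commute τ u' := (ho.central u').symm
      exact ((h3.pow_left j).mul_left (h4.pow_left i))
    have h3 : g⁻¹ * u' * g * (g⁻¹ * u' * g) = 1 := by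
      have h4 : g⁻¹ * u' * g * (g⁻¹ * u' * g) = g⁻¹ * (u' * u') * g := by group
      rw [h4, hp.sq]; group
    have hu1 : u' ≠ 1 := by
      intro h4
      have h5 := hp.map_u
      rw [h4, map_one] at h5
      exact WrChar.u_ne_one hC h5.symm
    have huτ : u' ≠ τ := by
      intro h4
      have h5 := hp.map_u
      rw [h4, ho.map] at h5
      exact hC.u_ne h5.symm
    rcases invol_M ho hC hp h2 h3 with h | h | h | h
    · exfalso
      apply hu1
      have h5 : u' = g * (g⁻¹ * u' * g) * g⁻¹ := by group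
      rw [h5, h]; group
    · exfalso
      apply huτ
      have h5 : u' = g * (g⁻¹ * u' * g) * g⁻¹ := by group
      rw [h5, h, ho.central g]; group
    · left
      rw [mem_cent]
      calc g * u' = g * (g⁻¹ * u' * g) := by rw [h]
        _ = u' * g := by group
    · right
      rw [mem_cent]
      have h5 : u' * g = g * (τ * u') := by rw [← h]; group
      have h6 : u' * w⁻¹ = w⁻¹ * (τ * u') := by
        have h7 := hp.conj
        rw [← h7]; group
      have h7 : τ * u' = u' * τ := (ho.central u').symm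
      calc w⁻¹ * g * u' = w⁻¹ * (g * (τ * u')) * τ := by
            rw [h7]
            have h8 : w⁻¹ * (g * (u' * τ)) * τ = w⁻¹ * g * u' * (τ * τ) := by group
            rw [h8, ho.sq, mul_one]
        _ = w⁻¹ * (u' * g) * τ := by rw [h5]
        _ = w⁻¹ * u' * (g * τ) := by group
        _ = w⁻¹ * u' * (τ * g) := by rw [ho.central g]
        _ = w⁻¹ * (u' * τ) * g := by group
        _ = w⁻¹ * (τ * u') * g := by rw [h7]
        _ = u' * w⁻¹ * g := by rw [h6]
        _ = u' * (w⁻¹ * g) := by group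

end Main

end Cfsg.Agent.Classification.QDW.WrInst
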