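import Mathlib
import Cfsg.Agent.Classification.QDW.WrInst
import Cfsg.Agent.Classification.QDW.InstGamma

/-!
# The wreathed case inside the centralizer of an involution: the Borel subgroups, indices

Continuation of `WrInst`. `K1 = π⁻¹(Z)`, `B₀ = π⁻¹(N(U))`, `B₁ = w B₀ w⁻¹`, `W = Wg hC π u'` (the
elements of odd order of `M = C(u')`).
-/

set_option autoImplicit false
set_option linter.unusedSectionVars false

namespace Cfsg.Agent.Classification.QDW.WrInst

open Cfsg Cfsg.Agent.Classification.InvCent Cfsg.Agent.Classification.QDW.WrDefs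
open Cfsg.Agent.Classification.QDW.LineC Cfsg.Agent.Classification.QDW.WrLine
open Cfsg.Agent.Classification.QDW.InstC Cfsg.Agent.Classification.QDW.InstGamma
open Cfsg.Agent.Classification.QDW.FrobLift

universe v w

/-- The torus acts on the root group (`T` for `ε = 1`, `T'` for `ε = -1`). -/
structure Norm {C : Type w} [Group C] (ε : ℤ) (T T' U : Subgroup C) : Prop where
  pos : ε = 1 → ∀ τ ∈ T, ∀ v ∈ U, τ * v * τ⁻¹ ∈ U
  neg : ε = -1 → ∀ τ ∈ T', ∀ v ∈ U, τ * v * τ⁻¹ ∈ U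

section Base

variable {C : Type w} [Group C] [Finite C] {z : C} {q : ℕ} {ε : ℤ} {Z T T' U : Subgroup C}
  {s s' u : C} {r : ℕ} {b : C →* ℂˣ}

theorem three_le (hC : CHyp z q ε Z T T' U s s' u) : 3 ≤ q := by
  have h1 := hC.one_lt_q
  obtain ⟨k, hk⟩ := hC.odd_q
  omega

theorem exists_split (hC : CHyp z q ε Z T T' U s s' u) (hD : DetHyp q ε T T' U s s' u r b)
    (hN : Norm ε T T' U) :
    ∃ (T₁ : Subgroup C) (s₁ : C), Split q Z T₁ U s₁ ∧ (ε = 1 → T₁ = T ∧ s₁ = s) ∧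
      ∃ x ∈ T₁, orderOf (b x) = r := by
  rcases hC.eps with h1 | h1
  · subst h1
    exact ⟨T, s, ⟨hC.torus, hN.pos rfl, gen_split hC.base hC.torus (hN.pos rfl)⟩,
      fun _ => ⟨rfl, rfl⟩, hD.exists_T⟩
  · subst h1
    have h' : Torus q 1 Z T' s' := by
      have := hC.torus'
      rwa [neg_neg] at this
    exact ⟨T', s', ⟨h', hN.neg rfl, gen_split hC.base h' (hN.neg rfl)⟩,
      fun h2 => by norm_num at h2, hD.exists_T'⟩

theorem r_pos (hD : DetHyp q ε T T' U s s' u r b) : 0 < r := by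
  obtain ⟨m, -, hm⟩ := hD.r_pow
  rw [hm]; positivity

theorem ne_one_of_orderOf (hD : DetHyp q ε T T' U s s' u r b) {c : C} (h : orderOf (b c) = r) :
    b c ^ (r / 2) ≠ 1 := by
  intro h1
  have h2 := orderOf_dvd_of_pow_eq_one h1
  rw [h] at h2
  have h3 := half hD
  have h4 := r_pos hD
  have h5 := Nat.le_of_dvd (by omega) h2
  omega

/-- The quadratic character is trivial on `Z`. -/
theorem b_Z (hC : CHyp z q ε Z T T' U s s' u) (hD : DetHyp q ε T T' U s s' u r b) {x : C}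
    (hx : x ∈ Z) : b x ^ (r / 2) = 1 := by
  classical
  let _ : CommGroup T :=
    { (inferInstance : Group T) with mul_comm := fun a b => Subtype.ext (hC.T_comm a a.2 b b.2) }
  let ν : T →* T := (MonoidHom.id T) * (LinChar.sg hC.torus)
  have hker : (Nat.card ν.ker : ℤ) = q - ε := by
    rw [← WrChar.card_norm hC]
    rfl
  have h1 : ν.range ≤ Z.subgroupOf T := by
    rintro _ ⟨y, rfl⟩
    rw [Subgroup.mem_subgroupOf]
    exact hC.s_norm y y.2
  have h2 : Nat.card (Z.subgroupOf T) = Nat.card Z :=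
    Nat.card_congr (Subgroup.subgroupOfEquivOfLe hC.Z_le_T).toEquiv
  have h3 : Nat.card ν.range = Nat.card (Z.subgroupOf T) := by
    have h4 : Nat.card ν.range * Nat.card ν.ker = Nat.card T := by
      have h5 := ν.ker.card_mul_index
      rw [Subgroup.index_ker] at h5
      rw [mul_comm]
      exact h5
    have h5 : ((Nat.card ν.range * Nat.card ν.ker : ℕ) : ℤ) = Nat.card Z * (q - ε) := by
      rw [h4, hC.card_T]
    rw [Nat.cast_mul, hker] at h5
    have h6 : ((q : ℤ) - ε) ≠ 0 := by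
      have := hC.one_lt_q
      rcases hC.eps with h | h <;> omega
    rw [h2]
    exact_mod_cast mul_right_cancel₀ h6 h5
  have h4 : ν.range = Z.subgroupOf T := Subgroup.eq_of_le_of_card_ge h1 h3.ge
  have h5 : (⟨x, hC.Z_le_T hx⟩ : T) ∈ ν.range := by
    rw [h4, Subgroup.mem_subgroupOf]
    exact hx
  obtain ⟨y, hy⟩ := h5
  have h6 : x = (y : C) * (s * y * s⁻¹) := (congrArg Subtype.val hy).symm
  rw [h6, map_mul, map_mul, map_mul, map_inv]
  have h7 : b (y : C) * (b s * b (y : C) * (b s)⁻¹) = b (y : C) * b (y : C) := by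
    rw [mul_comm (b s), mul_inv_cancel_right]
  rw [h7, mul_pow, b_sq hD]

/-- A normal subgroup containing `Z` and `U` contains the kernel of the quadratic character. -/
theorem ker_le (hC : CHyp z q ε Z T T' U s s' u) (hD : DetHyp q ε T T' U s s' u r b)
    (hN : Norm ε T T' U) {M : Subgroup C} (hM : M.Normal)
    (hZ : Z ≤ M) (hU : U ≤ M) : (b ^ (r / 2)).ker ≤ M := by
  obtain ⟨T₁, s₁, hs, -, x₀, hx₀, hx₀r⟩ := exists_split hC hD hN
  have hb := hC.base
  have h3 := three_le hC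
  have hδU : ∀ v ∈ U, (b ^ (r / 2)) v = 1 := fun v hv => by
    rw [MonoidHom.pow_apply, hD.b_U v hv, one_pow]
  have hδZ : ∀ v ∈ Z, (b ^ (r / 2)) v = 1 := fun v hv => by
    rw [MonoidHom.pow_apply, b_Z hC hD hv]
  have hNn : (M ⊓ (b ^ (r / 2)).ker).Normal := inferInstance
  have hZN : Z ≤ M ⊓ (b ^ (r / 2)).ker := le_inf hZ fun x hx => by
    rw [MonoidHom.mem_ker]; exact hδZ x hx
  have hUN : U ≤ M ⊓ (b ^ (r / 2)).ker := le_inf hU fun x hx => by
    rw [MonoidHom.mem_ker]; exact hδU x hx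
  obtain ⟨g, hg, hgen⟩ := hs.gen
  have hgg : g * g ∈ M ⊓ (b ^ (r / 2)).ker :=
    sq_mem hb hs.torus hs.norm h3 hNn hUN le_rfl hZN hg
  have hev : ∀ j : ℤ, g ^ (j + j) ∈ M ⊓ (b ^ (r / 2)).ker := by
    intro j
    rw [zpow_add, ← (Commute.refl g).mul_zpow]
    exact zpow_mem hgg j
  intro x hx
  obtain ⟨l, hl, τ, hτ, he⟩ := exists_of_normal hb hs.torus hs.norm h3 hNn hUN x
  have hτk : (b ^ (r / 2)) τ = 1 := by
    have h1 : τ = l⁻¹ * x := by rw [he]; group
    rw [h1, map_mul, map_inv, MonoidHom.mem_ker.1 hl.2, MonoidHom.mem_ker.1 hx, inv_one, one_mul]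
  obtain ⟨k, ζ, hζ, hk⟩ := hgen τ hτ
  rcases Int.even_or_odd k with ⟨j, hj⟩ | ⟨j, hj⟩
  · have h1 : τ ∈ M ⊓ (b ^ (r / 2)).ker := by
      rw [hk, hj]
      exact mul_mem (hev j) (hZN hζ)
    rw [he]
    exact (mul_mem hl h1).1
  · exfalso
    have h1 : (b ^ (r / 2)) g = 1 := by
      have h2 : g = (g ^ (j + j))⁻¹ * τ * ζ⁻¹ := by
        rw [hk, hj, show 2 * j + 1 = (j + j) + 1 by ring, zpow_add_one]; group
      rw [h2, map_mul, map_mul, map_inv, map_inv, MonoidHom.mem_ker.1 (hev j).2, hτk, hδZ ζ hζ]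
      simp
    obtain ⟨k', ζ', hζ', hk'⟩ := hgen x₀ hx₀
    refine ne_one_of_orderOf hD hx₀r ?_
    have h5 : (b ^ (r / 2)) x₀ = 1 := by
      rw [hk', map_mul, map_zpow, h1, one_zpow, one_mul, hδZ ζ' hζ']
    exact h5

end Base

section Main

variable {A : Type v} [Group A] {C : Type w} [Group C] [Finite C] {π : A →* C} {τ : A} {z : C}
  {q : ℕ} {ε : ℤ} {Z T T' U : Subgroup C} {s s' u : C} {r : ℕ} {b : C →* ℂˣ} {u' w : A}

theorem gHyp (ho : Over π τ z) (hp : Pair π τ s u u' w) : GHyp π z u s τ u' w where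
  surj := ho.surj
  oddK := ho.odd
  tt := ho.sq
  t_comm x := (ho.central x).symm
  map_t := ho.map
  uu := hp.sq
  map_u := hp.map_u
  wu := hp.conj
  map_w := hp.map_w

/-- The index of `π⁻¹(Z)` in `M`. -/
theorem relIndex_Z (ho : Over π τ z) (hC : CHyp z q ε Z T T' U s s' u)
    (hp : Pair π τ s u u' w) :
    ((Z.comap π).relIndex (Subgroup.centralizer ({u'} : Set A)) : ℤ) = q - ε := by
  rw [Subgroup.relIndex_comap, map_M ho hC hp]
  have h1 : Z.relIndex T * Nat.card Z = Nat.card T := by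
    have h4 := (Z.subgroupOf T).index_mul_card
    rw [Nat.card_congr (Subgroup.subgroupOfEquivOfLe hC.Z_le_T).toEquiv] at h4
    exact h4
  have h2 : ((Z.relIndex T * Nat.card Z : ℕ) : ℤ) = Nat.card Z * (q - ε) := by
    rw [h1, hC.card_T]
  have h3 : (Nat.card Z : ℤ) ≠ 0 := by exact_mod_cast Nat.card_pos.ne'
  rw [Nat.cast_mul, mul_comm] at h2
  exact mul_left_cancel₀ h3 h2

/-- `W` is the set of elements of odd order of `M`. -/
theorem mem_W (ho : Over π τ z) (hC : CHyp z q ε Z T T' U s s' u) (hp : Pair π τ s u u' w)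
    {x : A} : x ∈ Wg hC π u' ↔
      x ∈ Subgroup.centralizer ({u'} : Set A) ∧ Odd (orderOf x) := by
  rw [mem_Wg, mem_cent]
  constructor
  · rintro ⟨-, h2, h3⟩
    refine ⟨h3.symm, ?_⟩
    have h4 : π (x ^ orderOf (π x)) = 1 := by rw [map_pow, pow_orderOf_eq_one]
    have h5 := pow_card_ker π h4
    rw [← pow_mul] at h5
    exact (h2.mul ho.odd).of_dvd_nat (orderOf_dvd_of_pow_eq_one h5)
  · rintro ⟨h1, h2⟩
    refine ⟨map_mem ho hC hp h1, ?_, h1.symm⟩
    exact h2.of_dvd_nat (orderOf_map_dvd π x)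

theorem W_le (ho : Over π τ z) (hC : CHyp z q ε Z T T' U s s' u) (hp : Pair π τ s u u' w) :
    Wg hC π u' ≤ Subgroup.centralizer ({u'} : Set A) := fun _ hx => ((mem_W ho hC hp).1 hx).1

theorem W_odd [Finite A] (ho : Over π τ z) (hC : CHyp z q ε Z T T' U s s' u)
    (hp : Pair π τ s u u' w) : Odd (Nat.card (Wg hC π u')) := (gHyp ho hp).odd_W hC

theorem KM_le (hC : CHyp z q ε Z T T' U s s' u) :
    π.ker ⊓ Subgroup.centralizer ({u'} : Set A) ≤ Wg hC π u' := by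
  intro x hx
  have h1 : π x = 1 := hx.1
  rw [mem_Wg, h1]
  exact ⟨one_mem T, by rw [orderOf_one]; exact odd_one, (mem_cent.1 hx.2).symm⟩

theorem comm_W (ho : Over π τ z) (hC : CHyp z q ε Z T T' U s s' u) (hp : Pair π τ s u u' w)
    {x y : A} (hx : x ∈ Subgroup.centralizer ({u'} : Set A))
    (hy : y ∈ Subgroup.centralizer ({u'} : Set A)) : x * y * x⁻¹ * y⁻¹ ∈ Wg hC π u' := by
  refine KM_le hC (Subgroup.mem_inf.2
    ⟨?_, mul_mem (mul_mem (mul_mem hx hy) (inv_mem hx)) (inv_mem hy)⟩)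
  have h1 := hC.T_comm _ (map_mem ho hC hp (mem_cent.1 hx)) _ (map_mem ho hC hp (mem_cent.1 hy))
  rw [MonoidHom.mem_ker, map_mul, map_mul, map_mul, map_inv, map_inv, h1]
  group

theorem W_lam (hC : CHyp z q ε Z T T' U s s' u) (hD : DetHyp q ε T T' U s s' u r b) {y : A}
    (hy : y ∈ Wg hC π u') : lam π r b y = 1 := by
  obtain ⟨m, hm⟩ := ((mem_Wg).1 hy).2.1
  have h1 : lam π r b y ^ (2 * m + 1) = 1 := by
    rw [← hm, lam_apply, ← pow_mul, mul_comm, pow_mul, ← map_pow, pow_orderOf_eq_one, map_one,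
      one_pow]
  rw [pow_succ, pow_mul, sq, lam_sq hD, one_pow, one_mul] at h1
  exact h1

theorem conj_W (ho : Over π τ z) (hC : CHyp z q ε Z T T' U s s' u) (hp : Pair π τ s u u' w)
    {y : A} (hy : y ∈ Wg hC π u') : w⁻¹ * y * w ∈ Wg hC π u' := (gHyp ho hp).conj_mem' hC hy

theorem conj_W' (ho : Over π τ z) (hC : CHyp z q ε Z T T' U s s' u) (hp : Pair π τ s u u' w)
    {y : A} (hy : y ∈ Wg hC π u') : w * y * w⁻¹ ∈ Wg hC π u' := (gHyp ho hp).conj_mem hC hy

/-- If the centre of `C` is a `2`-group, `W ∩ π⁻¹(Z) ≤ K`. -/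
theorem W_K1 (hC : CHyp z q ε Z T T' U s s' u) (hD : DetHyp q ε T T' U s s' u r b)
    (hZ : Nat.card Z = r) {y : A} (hy : y ∈ Wg hC π u') (hy1 : π y ∈ Z) : y ∈ π.ker := by
  rw [MonoidHom.mem_ker, ← orderOf_eq_one_iff]
  have h1 : orderOf (π y) ∣ Nat.card Z := by
    rw [← Subgroup.orderOf_mk (H := Z) (π y) hy1]
    exact orderOf_dvd_natCard _
  obtain ⟨m, -, hm⟩ := hD.r_pow
  rw [hZ, hm] at h1
  obtain ⟨k, -, hk⟩ := (Nat.dvd_prime_pow Nat.prime_two).1 h1
  have h2 := ((mem_Wg).1 hy).2.1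
  rw [hk] at h2 ⊢
  cases k with
  | zero => rfl
  | succ k =>
    exfalso
    rw [pow_succ] at h2
    exact (Nat.not_odd_iff_even.2 (even_two.mul_left _)) h2

/-- `K ⊔ M = π⁻¹(T)`. -/
theorem sup_eq (ho : Over π τ z) (hC : CHyp z q ε Z T T' U s s' u) (hp : Pair π τ s u u' w) :
    π.ker ⊔ Subgroup.centralizer ({u'} : Set A) = T.comap π := by
  rw [← map_M ho hC hp, Subgroup.comap_map_eq, sup_comm]

theorem idx_neg [Finite A] (ho : Over π τ z) (hC : CHyp z q ε Z T T' U s s' u)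
    (hD : DetHyp q ε T T' U s s' u r b) (h4 : 4 ∣ r) (hN : Norm ε T T' U)
    (hp : Pair π τ s u u' w) (hε : ε = -1) {H : Subgroup A}
    (hH : π.ker ⊔ Subgroup.centralizer ({u'} : Set A) ≤ H) (hH1 : H ≠ ⊤) : q ≤ H.index := by
  subst hε
  refine pull_eps_neg hC hD (hN.neg rfl) ?_ ho.surj (map_M ho hC hp) (le_sup_left.trans hH)
    (le_sup_right.trans hH) hH1
  rintro rfl
  obtain ⟨k, -, hk⟩ := hD.r_dvd
  obtain ⟨c, rfl⟩ := h4
  push_cast at hk
  have h5 : (6 : ℤ) = 4 * (c * k) := by linear_combination hk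
  omega

/-- The Borel subgroup. -/
abbrev B₀ (π : A →* C) (U : Subgroup C) : Subgroup A := (N U).comap π

/-- The opposite Borel subgroup. -/
abbrev B₁ (π : A →* C) (U : Subgroup C) (w : A) : Subgroup A := cj w ((N U).comap π)

theorem idx_pos [Finite A] (ho : Over π τ z) (hC : CHyp z q ε Z T T' U s s' u)
    (hD : DetHyp q ε T T' U s s' u r b) (hN : Norm ε T T' U)
    (hp : Pair π τ s u u' w) (hε : ε = 1) {H : Subgroup A}
    (hH : π.ker ⊔ Subgroup.centralizer ({u'} : Set A) ≤ H) (hH1 : H ≠ ⊤) :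
    (q + 1 ≤ H.index ∧ (H.index = q + 1 → H = B₀ π U ∨ H = B₁ π U w)) ∨
      (q ≤ H.index ∧ w ∈ H) := by
  subst hε
  have hwr := wrHyp ho hC hD hp
  rcases pull_eps_one hC.base hC.torus (hN.pos rfl) (three_le hC) ho.surj (map_M ho hC hp)
    (fun x hx => hwr.conj_mem' x hx) hwr.w_notMem (le_sup_left.trans hH)
    (le_sup_right.trans hH) hH1 with ⟨-, h2, h3⟩ | ⟨-, h2, h3⟩ | h2
  · exact Or.inl ⟨h2, fun h => Or.inl (h3 h)⟩
  · exact Or.inl ⟨h2, fun h => Or.inr (h3 h)⟩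
  · exact Or.inr h2

theorem w_sq (ho : Over π τ z) (hC : CHyp z q ε Z T T' U s s' u) (hp : Pair π τ s u u' w) :
    π (w * w) = 1 := by
  rw [map_mul, hp.map_w, hC.s_sq]

theorem h01 (ho : Over π τ z) (hC : CHyp z q ε Z T T' U s s' u) (hp : Pair π τ s u u' w)
    {g : A} (hg : g ∈ B₁ π U w) : w⁻¹ * g * w ∈ B₀ π U := mem_cj.1 hg

theorem h10 (ho : Over π τ z) (hC : CHyp z q ε Z T T' U s s' u) (hp : Pair π τ s u u' w)
    {g : A} (hg : g ∈ B₀ π U) : w⁻¹ * g * w ∈ B₁ π U w := by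
  rw [mem_cj, Subgroup.mem_comap]
  have h1 : w⁻¹ * (w⁻¹ * g * w) * w = (w * w)⁻¹ * g * (w * w) := by group
  rw [h1, map_mul, map_mul, map_inv, w_sq ho hC hp, inv_one, one_mul, mul_one]
  exact hg

/-- A noncentral element of `T` fixes two points of the line. -/
theorem fix_C (hb : Base q Z U) (h₁ : Torus q 1 Z T s)
    (hn : ∀ τ ∈ T, ∀ v ∈ U, τ * v * τ⁻¹ ∈ U) (hq : 3 ≤ q) {y : C} (hy : y ∈ T) (hyZ : y ∉ Z)
    {g : C} (hg : g⁻¹ * y * g ∈ N U) : g ∈ N U ∨ s⁻¹ * g ∈ N U := by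
  by_contra hcon
  push Not at hcon
  have h1 : y • (((g : C) : C ⧸ N U)) = ((g : C) : C ⧸ N U) := by
    change ((y * g : C) : C ⧸ N U) = ((g : C) : C ⧸ N U)
    rw [QuotientGroup.eq]
    have h2 : (y * g)⁻¹ * g = (g⁻¹ * y * g)⁻¹ := by group
    rw [h2]
    exact inv_mem hg
  refine hyZ (mem_Z_of_fix hb h₁ hn hy (x := ((g : C) : C ⧸ N U)) hq ?_ ?_ h1)
  · intro h2
    have h3 := QuotientGroup.eq.1 h2
    rw [mul_one] at h3
    exact hcon.1 (by simpa using inv_mem h3)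
  · intro h2
    have h3 := QuotientGroup.eq.1 h2
    have h4 := inv_mem h3
    rw [mul_inv_rev, inv_inv] at h4
    exact hcon.2 h4

theorem fix₀ (ho : Over π τ z) (hC : CHyp z q ε Z T T' U s s' u)
    (hN : Norm ε T T' U) (hp : Pair π τ s u u' w) (hε : ε = 1) {y : A}
    (hy : y ∈ Subgroup.centralizer ({u'} : Set A)) (hyZ : π y ∉ Z) {g : A}
    (hg : g⁻¹ * y * g ∈ B₀ π U) : g ∈ B₀ π U ∨ w⁻¹ * g ∈ B₀ π U := by
  subst hε
  have h1 := fix_C hC.base hC.torus (hN.pos rfl) (three_le hC)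
    (map_mem ho hC hp (mem_cent.1 hy)) hyZ (g := π g) (by
      have : π (g⁻¹ * y * g) ∈ N U := hg
      rwa [map_mul, map_mul, map_inv] at this)
  refine h1.imp id fun h2 => ?_
  rw [Subgroup.mem_comap, map_mul, map_inv, hp.map_w]
  exact h2

theorem fix₁ (ho : Over π τ z) (hC : CHyp z q ε Z T T' U s s' u)
    (hN : Norm ε T T' U) (hp : Pair π τ s u u' w) (hε : ε = 1) {y : A}
    (hy : y ∈ Subgroup.centralizer ({u'} : Set A)) (hyZ : π y ∉ Z) {g : A}
    (hg : g⁻¹ * y * g ∈ B₁ π U w) : g ∈ B₁ π U w ∨ w⁻¹ * g ∈ B₁ π U w := by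
  rw [mem_cj] at hg
  have h1 : w⁻¹ * (g⁻¹ * y * g) * w = (g * w)⁻¹ * y * (g * w) := by group
  rw [h1] at hg
  rcases fix₀ ho hC hN hp hε hy hyZ hg with h2 | h2
  · right
    rw [mem_cj, Subgroup.mem_comap]
    have h3 : w⁻¹ * (w⁻¹ * g) * w = (w * w)⁻¹ * (g * w) := by group
    rw [h3, map_mul, map_inv, w_sq ho hC hp, inv_one, one_mul]
    exact h2
  · left
    rw [mem_cj]
    have h3 : w⁻¹ * g * w = w⁻¹ * (g * w) := by group
    rw [h3]
    exact h2

theorem w_notMem_B₀ (ho : Over π τ z) (hC : CHyp z q ε Z T T' U s s' u)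
    (hN : Norm ε T T' U) (hp : Pair π τ s u u' w) (hε : ε = 1) : w ∉ B₀ π U := by
  subst hε
  intro h1
  have h2 : π w ∈ N U := h1
  rw [hp.map_w] at h2
  exact s₁_notMem hC.base hC.torus (hN.pos rfl) (three_le hC) h2

theorem index_B₀ (ho : Over π τ z) (hC : CHyp z q ε Z T T' U s s' u)
    (hN : Norm ε T T' U) (hε : ε = 1) : (B₀ π U).index = q + 1 := by
  subst hε
  rw [Subgroup.index_comap_of_surjective _ ho.surj]
  exact index_N hC.base hC.torus (hN.pos rfl)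

theorem gen [Finite A] (ho : Over π τ z) (hC : CHyp z q ε Z T T' U s s' u)
    (hD : DetHyp q ε T T' U s s' u r b) (hN : Norm ε T T' U)
    (hp : Pair π τ s u u' w) (hε : ε = 1) : B₀ π U ⊔ B₁ π U w = ⊤ := by
  have hw0 := w_notMem_B₀ ho hC hN hp hε
  have hi0 := index_B₀ ho hC hN hε
  by_contra hcon
  have hle : π.ker ⊔ Subgroup.centralizer ({u'} : Set A) ≤ B₀ π U ⊔ B₁ π U w := by
    rw [sup_eq ho hC hp]
    refine le_trans ?_ le_sup_left
    exact Subgroup.comap_mono (by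
      subst hε
      exact T₁_le_N hC.base hC.torus (hN.pos rfl))
  have hdvd : (B₀ π U ⊔ B₁ π U w).index ∣ q + 1 := by
    rw [← hi0]
    exact Subgroup.index_dvd_of_le le_sup_left
  have key : (B₀ π U ⊔ B₁ π U w).index = q + 1 → False := by
    intro h1
    have h2 : B₀ π U = B₀ π U ⊔ B₁ π U w := by
      refine Subgroup.eq_of_le_of_card_ge le_sup_left ?_
      have h3 := (B₀ π U).card_mul_index
      have h4 := (B₀ π U ⊔ B₁ π U w).card_mul_index
      rw [hi0] at h3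
      rw [h1, ← h3] at h4
      exact (Nat.eq_of_mul_eq_mul_right (by omega) h4).le
    have h3 : B₁ π U w ≤ B₀ π U := by
      rw [h2]
      exact le_sup_right
    -- `w` normalises `B₀`, so it fixes infinity
    obtain ⟨v, hv, hv1⟩ := hC.base.exists_ne_one
    obtain ⟨a, ha⟩ := ho.surj v
    have h4 : w * a * w⁻¹ ∈ B₁ π U w := by
      rw [mem_cj]
      have h5 : w⁻¹ * (w * a * w⁻¹) * w = a := by group
      rw [h5, Subgroup.mem_comap, ha]
      exact U_le_N hv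
    have h5 : π (w * a * w⁻¹) ∈ N U := h3 h4
    rw [map_mul, map_mul, map_inv, ha, hp.map_w] at h5
    subst hε
    have h6 : s * v * s⁻¹ ∈ U := mem_U_of_pow hC.base hC.torus (hN.pos rfl) h5
      (conj_pow_q hC.base hv s)
    exact s₁_notMem hC.base hC.torus (hN.pos rfl) (three_le hC) (ti hC.base hv hv1 h6)
  rcases idx_pos ho hC hD hN hp hε hle hcon with ⟨h1, -⟩ | ⟨h1, -⟩
  · exact key (le_antisymm (Nat.le_of_dvd (by omega) hdvd) h1)
  · refine key (le_antisymm (Nat.le_of_dvd (by omega) hdvd) ?_)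
    rcases Nat.lt_or_ge q (B₀ π U ⊔ B₁ π U w).index with h2 | h2
    · exact h2
    · exfalso
      have h3 : (B₀ π U ⊔ B₁ π U w).index = q := le_antisymm h2 h1
      rw [h3] at hdvd
      have h4 : q ∣ 1 := (Nat.dvd_add_right (dvd_refl q)).1 hdvd
      have h5 := three_le hC
      have h6 := Nat.le_of_dvd one_pos h4
      omega

end Main

end Cfsg.Agent.Classification.QDW.WrInst
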