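import Mathlib
import Cfsg.Agent.Classification.QDW.WrInstB
import Cfsg.Agent.Classification.QDW.WrFrob

/-!
# The wreathed case inside the centralizer of an involution: `FrobData`
-/

set_option autoImplicit false
set_option linter.unusedSectionVars false

namespace Cfsg.Agent.Classification.QDW.WrInst

open Cfsg Cfsg.Agent.Classification.InvCent Cfsg.Agent.Classification.QDW.WrDefs
open Cfsg.Agent.Classification.QDW.LineC Cfsg.Agent.Classification.QDW.WrLine
open Cfsg.Agent.Classification.QDW.InstC Cfsg.Agent.Classification.QDW.InstGamma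
open Cfsg.Agent.Classification.QDW.FrobLift Cfsg.Agent.Classification.QDW.WrExt
open Cfsg.Agent.Classification.QDW.WrFrob

universe v w

variable {A : Type v} [Group A] {C : Type w} [Group C] [Finite C] {π : A →* C} {τ : A} {z : C}
  {q : ℕ} {ε : ℤ} {Z T T' U : Subgroup C} {s s' u : C} {r : ℕ} {b : C →* ℂˣ} {u' w : A}

/-- `π⁻¹(Z)` is generated by `K` and a 2-element. -/
theorem exists_ext (ho : Over π τ z) (hC : CHyp z q ε Z T T' U s s' u)
    (hD : DetHyp q ε T T' U s s' u r b) (hZ : Nat.card Z = r) :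
    ∃ (z₀ : A) (m : ℕ), Ext π.ker (Z.comap π) z₀ m := by
  obtain ⟨m, hm1, hm⟩ := hD.r_pow
  have hcyc : IsCyclic Z := by
    have := hC.T'_cyclic
    exact isCyclic_of_injective (Subgroup.inclusion hC.Z_le_T') (Subgroup.inclusion_injective _)
  obtain ⟨c, hc⟩ := hcyc.exists_generator
  obtain ⟨a, ha⟩ := ho.surj (c : C)
  have hcr : (c : C) ^ r = 1 := by
    have h1 : c ^ Nat.card Z = 1 := pow_card_eq_one'
    rw [hZ] at h1
    exact congrArg Subtype.val h1
  obtain ⟨k, hk⟩ := ho.odd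
  have hcop : Nat.Coprime (2 ^ m) (Nat.card π.ker) :=
    Nat.Coprime.pow_left _ (Nat.coprime_two_left.2 ho.odd)
  refine ⟨a ^ Nat.card π.ker, m, inferInstance, ho.odd, ?_, ?_, ?_⟩
  · rw [← pow_mul, mul_comm, pow_mul, ← hm]
    exact pow_card_ker π (by rw [map_pow, ha, hcr])
  · intro g
    rw [MonoidHom.mem_ker, map_mul, map_mul, map_mul, map_inv, map_inv, map_pow, ha,
      hC.Z_central _ (pow_mem c.2 _)]
    group
  · apply le_antisymm
    · refine sup_le ?_ ?_
      · intro x hx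
        rw [Subgroup.mem_comap, MonoidHom.mem_ker.1 hx]
        exact one_mem Z
      · rw [Subgroup.zpowers_le, Subgroup.mem_comap, map_pow, ha]
        exact pow_mem c.2 _
    · intro x hx
      -- `c` is a power of `c ^ |K|`
      obtain ⟨i, hi⟩ := Subgroup.mem_zpowers_iff.1 (hc ⟨π x, hx⟩)
      have hi' : (c : C) ^ i = π x := congrArg Subtype.val hi
      obtain ⟨j, hj⟩ : ∃ j : ℤ, ((c : C) ^ Nat.card π.ker) ^ j = c := by
        have h1 := Nat.gcd_eq_gcd_ab (2 ^ m) (Nat.card π.ker)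
        rw [hcop.gcd_eq_one] at h1
        refine ⟨Nat.gcdB (2 ^ m) (Nat.card π.ker), ?_⟩
        have h2 : (c : C) = (c : C) ^ (((2 ^ m : ℕ) : ℤ) * Nat.gcdA (2 ^ m) (Nat.card π.ker) +
            (Nat.card π.ker : ℤ) * Nat.gcdB (2 ^ m) (Nat.card π.ker)) := by
          rw [← h1, Nat.cast_one, zpow_one]
        conv_rhs => rw [h2]
        rw [zpow_add, zpow_mul, zpow_mul, zpow_natCast, zpow_natCast, ← hm, hcr, one_zpow, one_mul]
      have h3 : x * ((a ^ Nat.card π.ker) ^ (j * i))⁻¹ ∈ π.ker := by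
        rw [MonoidHom.mem_ker, map_mul, map_inv, map_zpow, map_pow, ha, zpow_mul, hj, hi',
          mul_inv_cancel]
      have h4 : x = x * ((a ^ Nat.card π.ker) ^ (j * i))⁻¹ * (a ^ Nat.card π.ker) ^ (j * i) := by
        group
      rw [h4]
      exact Subgroup.mul_mem_sup h3 (Subgroup.zpow_mem_zpowers _ _)

/-- **The instance of `FrobData`**. -/
theorem exists_frobData [Finite A] (ho : Over π τ z) (hC : CHyp z q ε Z T T' U s s' u)
    (hD : DetHyp q ε T T' U s s' u r b) (hN : Norm ε T T' U) (hZ : Nat.card Z = r)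
    (hq : 5 ≤ q) :
    ∃ (T₁ : Subgroup C) (z₀ : A) (m : ℕ), FrobData π.ker (lam π r b) q (B₀ π U) (Z.comap π)
      (hC.base.ZU.comap π) (T₁.comap π) z₀ m ∧ (ε = 1 → T₁ = T) := by
  obtain ⟨z₀, m, hext⟩ := exists_ext ho hC hD hZ
  obtain ⟨T₁, s₁, hs, hT, -⟩ := exists_split hC hD hN
  refine ⟨T₁, z₀, m, ⟨hext, lam_sq hD, ?_, ?_, ?_, ?_, ?_, ?_⟩, fun h => (hT h).1⟩
  · intro x hx
    rw [MonoidHom.mem_ker, lam_apply, b_Z hC hD hx]
  · refine Subgroup.comap_mono fun x hx => ?_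
    rw [hC.base.mem_ZU]
    exact ⟨x, hx, 1, one_mem U, (mul_one x).symm⟩
  · refine Subgroup.comap_mono fun x hx => ?_
    obtain ⟨ζ, hζ, v, hv, rfl⟩ := hC.base.mem_ZU.1 hx
    exact mul_mem (T₁_le_N hC.base hs.torus hs.norm (hs.torus.Z_le hζ)) (U_le_N hv)
  · exact Subgroup.comap_mono (T₁_le_N hC.base hs.torus hs.norm)
  · exact frob hC.base hs ho.surj hq
  · intro N' hN' hX x hx
    have h1 : (N'.map π).Normal := hN'.map π ho.surj
    have hker : π.ker ≤ N' := by
      refine le_trans ?_ hX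
      intro y hy
      rw [Subgroup.mem_comap, MonoidHom.mem_ker.1 hy]
      exact one_mem _
    have hmap : ∀ y : C, y ∈ hC.base.ZU → y ∈ N'.map π := by
      intro y hy
      obtain ⟨a, rfl⟩ := ho.surj y
      exact ⟨a, hX hy, rfl⟩
    have h2 := ker_le hC hD hN h1
      (fun y hy => hmap y (hC.base.mem_ZU.2 ⟨y, hy, 1, one_mem U, (mul_one y).symm⟩))
      (fun y hy => hmap y (hC.base.mem_ZU.2 ⟨1, one_mem Z, y, hy, (one_mul y).symm⟩))
    have h3 : π x ∈ N'.map π := h2 (by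
      rw [MonoidHom.mem_ker]
      exact hx)
    obtain ⟨y, hy, hyx⟩ := h3
    have h4 : x * y⁻¹ ∈ π.ker := by
      rw [MonoidHom.mem_ker, map_mul, map_inv, hyx, mul_inv_cancel]
    have h5 : x = x * y⁻¹ * y := by group
    rw [h5]
    exact mul_mem (hker h4) hy

/-- For `ε = 1`: `K M ≤ π⁻¹(T)`, and the elements of `M` with `lam ≠ 1` are not in `π⁻¹(Z)`. -/
theorem notMem_K1 (hC : CHyp z q ε Z T T' U s s' u)
    (hD : DetHyp q ε T T' U s s' u r b) {x : A} (hx : lam π r b x ≠ 1) : x ∉ Z.comap π :=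
  fun h => hx (by rw [lam_apply, b_Z hC hD h])

end Cfsg.Agent.Classification.QDW.WrInst
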