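import Mathlib

/-!
# Three conjugate involutions of a four-group: transport by conjugation

`G` a group, `t`, `a` commuting involutions, `g w : G` with `g : t ↔ a`, `w : t ↦ t`, `a ↦ t a`.

* `At t P v x`: `x` lies in the conjugate of `P` attached to the conjugate `v` of `t`;
* `Fr`: the hypotheses on `t`, `a`, `g`, `w`;
* `InM t a x`: `x` centralises `t` and `a`;
* `not_three`, `at_of_two`, `exists_norm`: the three subgroups `L_t`, `L_a`, `L_ta`.
-/

set_option autoImplicit false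
set_option linter.unusedSectionVars false

namespace Cfsg.Agent.Classification.QDW.WrThree

universe u

variable {G : Type u} [Group G]

/-- `x` lies in the conjugate of `P` attached to `v`. -/
def At (t : G) (P : Subgroup G) (v x : G) : Prop := ∀ n : G, n * t * n⁻¹ = v → n⁻¹ * x * n ∈ P

theorem at_conj {t : G} {P : Subgroup G} {v x : G} (m : G) :
    At t P (m * v * m⁻¹) (m * x * m⁻¹) ↔ At t P v x := by
  constructor
  · intro h n hn
    have h1 := h (m * n) (by rw [← hn]; group)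
    have h2 : (m * n)⁻¹ * (m * x * m⁻¹) * (m * n) = n⁻¹ * x * n := by group
    rwa [h2] at h1
  · intro h n hn
    have h1 := h (m⁻¹ * n) (by
      have h2 : m⁻¹ * n * t * (m⁻¹ * n)⁻¹ = m⁻¹ * (n * t * n⁻¹) * m := by group
      rw [h2, hn]; group)
    have h2 : (m⁻¹ * n)⁻¹ * x * (m⁻¹ * n) = n⁻¹ * (m * x * m⁻¹) * n := by group
    rwa [h2] at h1

/-- `P` is normalised by the centralizer of `t`. -/
def Inv (t : G) (P : Subgroup G) : Prop := ∀ a : G, a * t = t * a → ∀ x ∈ P, a * x * a⁻¹ ∈ P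

theorem at_self {t : G} {P : Subgroup G} (hP : Inv t P) {x : G} : At t P t x ↔ x ∈ P := by
  constructor
  · intro h
    have h1 := h 1 (by group)
    simpa using h1
  · intro h n hn
    have h1 : n⁻¹ * t = t * n⁻¹ := by
      have h2 : n * t = t * n := by
        have h3 : n * t = n * t * n⁻¹ * n := by group
        rw [h3, hn]
      calc n⁻¹ * t = n⁻¹ * (t * n) * n⁻¹ := by group
        _ = n⁻¹ * (n * t) * n⁻¹ := by rw [h2]
        _ = t * n⁻¹ := by group
    have h2 := hP n⁻¹ h1 x h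
    rwa [inv_inv] at h2

theorem at_iff {t : G} {P : Subgroup G} (hP : Inv t P) {n v x : G} (hn : n * t * n⁻¹ = v) :
    At t P v x ↔ n⁻¹ * x * n ∈ P := by
  rw [← at_self hP, ← at_conj n (v := t), hn]
  have h1 : n * (n⁻¹ * x * n) * n⁻¹ = x := by group
  rw [h1]

theorem at_mono {t : G} {P P' : Subgroup G} (h : P ≤ P') {v x : G} (hx : At t P v x) :
    At t P' v x := fun n hn => h (hx n hn)

theorem at_mul {t : G} {P : Subgroup G} {v x y : G} (hx : At t P v x) (hy : At t P v y) :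
    At t P v (x * y) := by
  intro n hn
  have h1 := mul_mem (hx n hn) (hy n hn)
  have h2 : n⁻¹ * x * n * (n⁻¹ * y * n) = n⁻¹ * (x * y) * n := by group
  rwa [h2] at h1

theorem at_inv {t : G} {P : Subgroup G} {v x : G} (hx : At t P v x) : At t P v x⁻¹ := by
  intro n hn
  have h1 := inv_mem (hx n hn)
  have h2 : (n⁻¹ * x * n)⁻¹ = n⁻¹ * x⁻¹ * n := by group
  rwa [h2] at h1

theorem not_at_mul_left {t : G} {P : Subgroup G} {v x y : G} (hx : ¬ At t P v x)
    (hy : At t P v y) : ¬ At t P v (y * x) := by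
  intro h
  apply hx
  have h1 := at_mul (at_inv hy) h
  rwa [inv_mul_cancel_left] at h1

theorem not_at_mul_right {t : G} {P : Subgroup G} {v x y : G} (hx : ¬ At t P v x)
    (hy : At t P v y) : ¬ At t P v (x * y) := by
  intro h
  apply hx
  have h1 := at_mul h (at_inv hy)
  rwa [mul_inv_cancel_right] at h1

/-- A cyclic group has at most one involution. -/
theorem eq_of_zpowers {y v₁ v₂ : G} (h1 : v₁ ∈ Subgroup.zpowers y)
    (h2 : v₂ ∈ Subgroup.zpowers y) (o1 : v₁ * v₁ = 1) (o2 : v₂ * v₂ = 1) (n1 : v₁ ≠ 1)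
    (n2 : v₂ ≠ 1) : v₁ = v₂ := by
  obtain ⟨i, hi⟩ := Subgroup.mem_zpowers_iff.1 h1
  obtain ⟨j, hj⟩ := Subgroup.mem_zpowers_iff.1 h2
  subst hi hj
  rw [← zpow_add, ← orderOf_dvd_iff_zpow_eq_one] at o1 o2
  rw [ne_eq, ← orderOf_dvd_iff_zpow_eq_one] at n1 n2
  obtain ⟨a, ha⟩ := o1
  obtain ⟨b, hb⟩ := o2
  have ha2 : Odd a := by
    rw [← Int.not_even_iff_odd]
    rintro ⟨c, hc⟩
    refine n1 ⟨c, ?_⟩
    rw [hc] at ha
    linarith
  have hb2 : Odd b := by
    rw [← Int.not_even_iff_odd]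
    rintro ⟨c, hc⟩
    refine n2 ⟨c, ?_⟩
    rw [hc] at hb
    linarith
  obtain ⟨c, hc⟩ := ha2.sub_odd hb2
  have h3 : (orderOf y : ℤ) ∣ i - j := by
    refine ⟨c, ?_⟩
    have h4 : (orderOf y : ℤ) * (a - b) = orderOf y * (c + c) := by rw [hc]
    linarith
  rw [orderOf_dvd_iff_zpow_eq_one, zpow_sub, mul_inv_eq_one] at h3
  exact h3

/-- `x` centralises `t` and `a`. -/
def InM (t a x : G) : Prop := x * t = t * x ∧ x * a = a * x

/-- The four-group `⟨t, a⟩` and elements `g`, `w` inducing all its automorphisms. -/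
structure Fr (t a g w : G) : Prop where
  tt : t * t = 1
  aa : a * a = 1
  comm : a * t = t * a
  gt : g * t * g⁻¹ = a
  ga : g * a * g⁻¹ = t
  wt : w * t * w⁻¹ = t
  wa : w * a * w⁻¹ = t * a
  t_ne : t ≠ 1

section Fr

variable {t a g w : G} (h : Fr t a g w)

include h

theorem Fr.a_ne : a ≠ 1 := by
  intro h1
  have h2 := h.ga
  rw [h1, mul_one, mul_inv_cancel] at h2
  exact h.t_ne h2.symm

theorem Fr.ta_ne : t * a ≠ 1 := by
  intro h1
  have h2 := h.wa
  rw [h1] at h2
  apply h.a_ne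
  have h3 : a = w⁻¹ * (w * a * w⁻¹) * w := by group
  rw [h3, h2]; group

theorem Fr.ne : t ≠ a := by
  rintro rfl
  exact h.ta_ne h.tt

theorem Fr.ta_sq : t * a * (t * a) = 1 := by
  calc t * a * (t * a) = t * (a * t) * a := by group
    _ = t * (t * a) * a := by rw [h.comm]
    _ = (t * t) * (a * a) := by group
    _ = 1 := by rw [h.tt, h.aa, one_mul]

theorem Fr.gta : g * (t * a) * g⁻¹ = t * a := by
  have h1 : g * (t * a) * g⁻¹ = (g * t * g⁻¹) * (g * a * g⁻¹) := by group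
  rw [h1, h.gt, h.ga, h.comm]

theorem Fr.wta : w * (t * a) * w⁻¹ = a := by
  have h1 : w * (t * a) * w⁻¹ = (w * t * w⁻¹) * (w * a * w⁻¹) := by group
  rw [h1, h.wt, h.wa, ← mul_assoc, h.tt, one_mul]

theorem Fr.inM_g {x : G} (hx : InM t a x) : InM t a (g * x * g⁻¹) := by
  constructor
  · calc g * x * g⁻¹ * t = g * x * g⁻¹ * (g * a * g⁻¹) := by rw [h.ga]
      _ = g * (x * a) * g⁻¹ := by group
      _ = g * (a * x) * g⁻¹ := by rw [hx.2]
      _ = (g * a * g⁻¹) * (g * x * g⁻¹) := by group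
      _ = t * (g * x * g⁻¹) := by rw [h.ga]
  · calc g * x * g⁻¹ * a = g * x * g⁻¹ * (g * t * g⁻¹) := by rw [h.gt]
      _ = g * (x * t) * g⁻¹ := by group
      _ = g * (t * x) * g⁻¹ := by rw [hx.1]
      _ = (g * t * g⁻¹) * (g * x * g⁻¹) := by group
      _ = a * (g * x * g⁻¹) := by rw [h.gt]

theorem Fr.inM_ta {x : G} (hx : InM t a x) : x * (t * a) = t * a * x := by
  calc x * (t * a) = x * t * a := by group
    _ = t * (x * a) := by rw [hx.1]; group
    _ = t * a * x := by rw [hx.2]; group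

theorem Fr.inM_w {x : G} (hx : InM t a x) : InM t a (w * x * w⁻¹) := by
  constructor
  · calc w * x * w⁻¹ * t = w * x * w⁻¹ * (w * t * w⁻¹) := by rw [h.wt]
      _ = w * (x * t) * w⁻¹ := by group
      _ = w * (t * x) * w⁻¹ := by rw [hx.1]
      _ = (w * t * w⁻¹) * (w * x * w⁻¹) := by group
      _ = t * (w * x * w⁻¹) := by rw [h.wt]
  · calc w * x * w⁻¹ * a = w * x * w⁻¹ * (w * (t * a) * w⁻¹) := by rw [h.wta]
      _ = w * (x * (t * a)) * w⁻¹ := by group
      _ = w * (t * a * x) * w⁻¹ := by rw [h.inM_ta hx]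
      _ = (w * (t * a) * w⁻¹) * (w * x * w⁻¹) := by group
      _ = a * (w * x * w⁻¹) := by rw [h.wta]

/-- The inverse frame. -/
theorem Fr.symm : Fr t a g⁻¹ w⁻¹ where
  tt := h.tt
  aa := h.aa
  comm := h.comm
  gt := by
    have h1 : g⁻¹ * (g * a * g⁻¹) * g = a := by group
    rw [h.ga] at h1
    rwa [inv_inv]
  ga := by
    have h1 : g⁻¹ * (g * t * g⁻¹) * g = t := by group
    rw [h.gt] at h1
    rwa [inv_inv]
  wt := by
    have h1 : w⁻¹ * (w * t * w⁻¹) * w = t := by group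
    rw [h.wt] at h1
    rwa [inv_inv]
  wa := by
    have h1 : w⁻¹ * (w * (t * a) * w⁻¹) * w = t * a := by group
    rw [h.wta] at h1
    rwa [inv_inv]
  t_ne := h.t_ne

end Fr

section Three

variable {t a g w : G} {L P : Subgroup G}

/-- `L` does not contain the centralizer `M` of the four-group, and if `x ∈ M` is not in `L` then
one of the involutions `a`, `t a` is a power of `x ^ n`. -/
structure LHyp (t a : G) (L : Subgroup G) (n : ℕ) : Prop where
  ne : ∃ x, InM t a x ∧ ¬ At t L t x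
  inv : ∀ x, InM t a x → ¬ At t L t x → a ∈ Subgroup.zpowers (x ^ n) ∨
    t * a ∈ Subgroup.zpowers (x ^ n)

theorem zpowers_conj {x v m : G} {n : ℕ} (h : v ∈ Subgroup.zpowers (x ^ n)) :
    m * v * m⁻¹ ∈ Subgroup.zpowers ((m * x * m⁻¹) ^ n) := by
  obtain ⟨k, hk⟩ := Subgroup.mem_zpowers_iff.1 h
  exact Subgroup.mem_zpowers_iff.2 ⟨k, by rw [conj_pow, conj_zpow, hk]⟩

variable {n : ℕ}

theorem inv_a (h : Fr t a g w) (hL : LHyp t a L n) {x : G} (hx : InM t a x)
    (hn : ¬ At t L a x) : t ∈ Subgroup.zpowers (x ^ n) ∨ t * a ∈ Subgroup.zpowers (x ^ n) := by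
  have h1 := h.symm.inM_g hx
  have h2 : ¬ At t L t (g⁻¹ * x * g⁻¹⁻¹) := by
    rw [← at_conj g, h.gt]
    have : g * (g⁻¹ * x * g⁻¹⁻¹) * g⁻¹ = x := by group
    rwa [this]
  have e : g * (g⁻¹ * x * g⁻¹⁻¹) * g⁻¹ = x := by group
  rcases hL.inv _ h1 h2 with h3 | h3
  · left
    have h4 := zpowers_conj (m := g) h3
    rwa [h.ga, e] at h4
  · right
    have h4 := zpowers_conj (m := g) h3
    rwa [h.gta, e] at h4

theorem inv_ta (h : Fr t a g w) (hL : LHyp t a L n) {x : G} (hx : InM t a x)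
    (hn : ¬ At t L (t * a) x) : t ∈ Subgroup.zpowers (x ^ n) ∨ a ∈ Subgroup.zpowers (x ^ n) := by
  have h1 := h.symm.inM_w hx
  have e : w * (w⁻¹ * x * w⁻¹⁻¹) * w⁻¹ = x := by group
  have h2 : ¬ At t L a (w⁻¹ * x * w⁻¹⁻¹) := by
    rw [← at_conj w, h.wa, e]
    exact hn
  rcases inv_a h hL h1 h2 with h3 | h3
  · left
    have h4 := zpowers_conj (m := w) h3
    rwa [h.wt, e] at h4
  · right
    have h4 := zpowers_conj (m := w) h3
    rwa [h.wta, e] at h4

/-- The involution in `⟨x ^ n⟩`. -/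
theorem mem_ta (h : Fr t a g w) (hL : LHyp t a L n) {x : G} (hx : InM t a x)
    (hn : ¬ At t L t x) (hn' : ¬ At t L a x) : t * a ∈ Subgroup.zpowers (x ^ n) := by
  rcases hL.inv x hx hn with h1 | h1
  · rcases inv_a h hL hx hn' with h2 | h2
    · exact absurd (eq_of_zpowers h2 h1 h.tt h.aa h.t_ne h.a_ne) h.ne
    · exact h2
  · exact h1

theorem mem_a (h : Fr t a g w) (hL : LHyp t a L n) {x : G} (hx : InM t a x)
    (hn : ¬ At t L t x) (hn' : ¬ At t L (t * a) x) : a ∈ Subgroup.zpowers (x ^ n) := by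
  rcases hL.inv x hx hn with h1 | h1
  · exact h1
  · rcases inv_ta h hL hx hn' with h2 | h2
    · exfalso
      have h3 := eq_of_zpowers h2 h1 h.tt h.ta_sq h.t_ne h.ta_ne
      exact h.a_ne (by
        have h4 : t * 1 = t * a := by rw [mul_one]; exact h3
        exact (mul_left_cancel h4).symm)
    · exact h2

theorem not_three (h : Fr t a g w) (hL : LHyp t a L n) {x : G} (hx : InM t a x) :
    At t L t x ∨ At t L a x ∨ At t L (t * a) x := by
  by_contra hcon
  push Not at hcon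
  obtain ⟨h1, h2, h3⟩ := hcon
  have h4 := mem_ta h hL hx h1 h2
  have h5 := mem_a h hL hx h1 h3
  have h6 := eq_of_zpowers h4 h5 h.ta_sq h.aa h.ta_ne h.a_ne
  exact h.t_ne (by
    have h7 : t * a = 1 * a := by rw [one_mul]; exact h6
    exact mul_right_cancel h7)

theorem InM.mul {x y : G} (hx : InM t a x) (hy : InM t a y) : InM t a (x * y) := by
  constructor
  · rw [mul_assoc, hy.1, ← mul_assoc, hx.1, mul_assoc]
  · rw [mul_assoc, hy.2, ← mul_assoc, hx.2, mul_assoc]

theorem at_of_two (h : Fr t a g w) (hL : LHyp t a L n) {x : G} (hx : InM t a x)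
    (h1 : At t L a x) (h2 : At t L (t * a) x) : At t L t x := by
  by_contra hn
  -- the conjugates of `x`
  have x1M := h.inM_g hx
  have a1 : ¬ At t L a (g * x * g⁻¹) := by
    rw [← h.gt, at_conj]; exact hn
  have a2 : At t L t (g * x * g⁻¹) := by
    rw [← at_conj g, h.ga] at h1; exact h1
  have a3 : At t L (t * a) (g * x * g⁻¹) := by
    rw [← at_conj g, h.gta] at h2; exact h2
  set y := g * x * g⁻¹ with hy
  have x2M := h.inM_w x1M
  have b1 : ¬ At t L (t * a) (w * y * w⁻¹) := by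
    rw [← h.wa, at_conj]; exact a1
  have b2 : At t L t (w * y * w⁻¹) := by
    rw [← at_conj w, h.wt] at a2; exact a2
  have b3 : At t L a (w * y * w⁻¹) := by
    rw [← at_conj w, h.wta] at a3; exact a3
  set y' := w * y * w⁻¹ with hy'
  rcases not_three h hL ((hx.mul x1M).mul x2M) with c | c | c
  · exact not_at_mul_right (not_at_mul_right hn a2) b2 c
  · exact not_at_mul_right (not_at_mul_left a1 h1) b3 c
  · exact not_at_mul_left b1 (at_mul h2 a3) c

/-- An element of `M` in `L_t` and not in `L_ta`. -/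
theorem exists_sep (h : Fr t a g w) (hL : LHyp t a L n) :
    ∃ x, InM t a x ∧ At t L t x ∧ ¬ At t L (t * a) x := by
  by_contra hcon
  push Not at hcon
  -- `L_t ≤ L_ta` on `M`
  obtain ⟨x, hx, hn⟩ := hL.ne
  have h1 : ∀ x, InM t a x → At t L t x → At t L a x := by
    intro x hx hxt
    have h2 := hcon _ (h.inM_w hx) (by rw [← at_conj w, h.wt] at hxt; exact hxt)
    rw [← at_conj w, h.wa]
    exact h2
  have h2 : ∀ x, InM t a x → At t L a x → At t L t x := by
    intro x hx hxa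
    have h3 := h1 _ (h.inM_g hx) (by rw [← at_conj g, h.ga] at hxa; exact hxa)
    rw [← h.gt, at_conj] at h3
    exact h3
  have h3 : ∀ x, InM t a x → At t L (t * a) x → At t L t x := by
    intro x hx hxta
    have h4 : At t L a (w * x * w⁻¹) := by rw [← at_conj w, h.wta] at hxta; exact hxta
    have h5 := h2 _ (h.inM_w hx) h4
    rw [← at_conj w, h.wt]
    exact h5
  rcases not_three h hL hx with h4 | h4 | h4
  · exact hn h4
  · exact hn (h2 x hx h4)
  · exact hn (h3 x hx h4)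

/-- If `x x^w ∈ P` for `x ∈ M`, there is an element of `P_a` outside `L_t`. -/
theorem exists_notMem (h : Fr t a g w) (hL : LHyp t a L n)
    (hP : ∀ x, InM t a x → At t P t (x * (w * x * w⁻¹))) :
    ∃ x, InM t a x ∧ At t P a x ∧ ¬ At t L t x := by
  obtain ⟨x, hx, h1, h2⟩ := exists_sep h hL
  have hy := h.symm.inM_g hx
  have h3 := hP _ hy
  rw [← at_conj g, h.gt] at h3
  set y := g⁻¹ * x * g⁻¹⁻¹ with hy'
  have e : g * (y * (w * y * w⁻¹)) * g⁻¹ = x * (g * (w * y * w⁻¹) * g⁻¹) := by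
    rw [hy']; group
  rw [e] at h3
  have hz := h.inM_g (h.inM_w hy)
  refine ⟨_, hx.mul hz, h3, ?_⟩
  refine not_at_mul_left ?_ h1
  -- `g w g⁻¹` maps `ta` to `t`
  have h4 : ¬ At t L (t * a) y := by
    rw [← at_conj g, h.gta]
    have : g * y * g⁻¹ = x := by rw [hy']; group
    rwa [this]
  rw [← at_conj w, h.wta, ← at_conj g, h.ga] at h4
  exact h4

end Three

end Cfsg.Agent.Classification.QDW.WrThree
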