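import Mathlib
import Cfsg.Prelude.Def_Characters
import Cfsg.Agent.Characters.Core
import Cfsg.Agent.Characters.Values
import Cfsg.Agent.Classification.InvCent.PairCount
import Cfsg.Agent.Classification.InvCent.WrChiVal
import Cfsg.Agent.Classification.QDW.WrInstC
import Cfsg.Agent.Classification.QDW.WrFrobOut
import Cfsg.Agent.Classification.QDW.WrCore
import Cfsg.Agent.Classification.QDW.WrThree

/-!
# The wreathed case: from the group `G` to the hypotheses of `WrCore`

`G` is a finite simple group with one class of involutions, `t` an involution, `π : C(t) →* C` onto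
with odd kernel, `C` of type `GL₂(q)/Z₀` (`ε = 1`) or `GU₂(q)/Z₀` (`ε = -1`), `4 ∣ r = (q - ε)_2`,
`|Z| = r`.

* `exists_frame`: there is `g : G` with `g t g⁻¹ = u'`, `g u' g⁻¹ = t`;
* `coreHyp`: `WrCore.CoreHyp`;
* `posCore`: `WrCore.PosCore`.
-/

set_option autoImplicit false
set_option linter.unusedSectionVars false

namespace Cfsg.Agent.Classification.QDW.WrAssembly

open Cfsg Cfsg.Agent.Characters Cfsg.Agent.Classification.InvCent
open Cfsg.Agent.Classification.RTwo.General Cfsg.Agent.Classification.QDW.WrDefs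
open Cfsg.Agent.Classification.QDW.WrInst Cfsg.Agent.Classification.QDW.InstGamma
open Cfsg.Agent.Classification.QDW.WrThree Cfsg.Agent.Classification.QDW.WrCore

universe v w

section Faith

variable {G : Type v} [Group G] [Finite G]

/-- In a simple group, a character nontrivial at some element is faithful. -/
theorem eq_one_of_apply [hs : IsSimpleGroup G] {χ : G → ℂ} (hχ : IsCharacter G χ) {t : G}
    (ht : χ t ≠ χ 1) {x : G} (hx : χ x = χ 1) : x = 1 := by
  obtain ⟨n, ρ, rfl⟩ := hχ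
  have h1 : ρ.character 1 = (Module.finrank ℂ (Fin n → ℂ) : ℂ) := by
    rw [Values.character_eq_finrank_iff, map_one]
    rfl
  have key : ∀ g : G, ρ.character g = ρ.character 1 ↔ g ∈ MonoidHom.ker ρ := by
    intro g
    rw [h1, Values.character_eq_finrank_iff, MonoidHom.mem_ker]
    rfl
  rcases (inferInstance : (MonoidHom.ker ρ).Normal).eq_bot_or_eq_top with h2 | h2
  · have h3 := (key x).1 hx
    rw [h2, Subgroup.mem_bot] at h3
    exact h3
  · exact absurd ((key t).2 (by rw [h2]; exact Subgroup.mem_top t)) ht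

end Faith

section Base

variable {G : Type v} [Group G] {C : Type w} [Group C] {t : G} {z : C}
  {π : (Subgroup.centralizer ({t} : Set G)) →* C} {q : ℕ} {ε : ℤ} {Z T T' U : Subgroup C}
  {s s' u : C} {r : ℕ} {b : C →* ℂˣ} {u' w : Subgroup.centralizer ({t} : Set G)}

theorem isOver (h : Hyp t z π) : Over π (tt t) z where
  surj := h.surj
  odd := h.odd_ker
  central x := ((tt_comm x).eq).symm
  sq := tt_mul_tt h
  map := map_tt h

theorem mem_centralizer {x : G} : x ∈ Subgroup.centralizer ({t} : Set G) ↔ x * t = t * x := by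
  rw [Subgroup.mem_centralizer_singleton_iff]

/-- The noncentral involutions of `C(t)` are conjugate. -/
theorem exists_conj_A [Finite C] (h : Hyp t z π) (hC : CHyp z q ε Z T T' U s s' u)
    (hp : Pair π (tt t) s u u' w) {y : Subgroup.centralizer ({t} : Set G)} (hy : y * y = 1)
    (h1 : y ≠ 1) (ht : y ≠ tt t) : ∃ a, a * y * a⁻¹ = u' := by
  classical
  let _ : Fintype C := Fintype.ofFinite C
  have ho := isOver h
  have hπ1 : π y ≠ 1 := fun h2 => h1 (eq_one_of_sq ho.odd h2 hy)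
  have hπz : π y ≠ z := by
    intro h2
    obtain ⟨k, -, hk⟩ := exists_conj ho.odd ho.sq hy (by rw [ho.map, h2])
    apply ht
    rw [← hk, ho.central k, mul_inv_cancel_right]
  have hmem : π y ∈ nInv z := by
    rw [mem_nInv]
    refine ⟨orderOf_eq_prime ?_ hπ1, hπz⟩
    rw [sq, ← map_mul, hy, map_one]
  obtain ⟨c, hc⟩ := hC.nInv_isConj hmem
  obtain ⟨κ, hκ⟩ := ho.surj c
  have h2 : π (κ * y * κ⁻¹) = π u' := by
    rw [map_mul, map_mul, map_inv, hκ, ← hc, hp.map_u]
    group
  have h3 : κ * y * κ⁻¹ * (κ * y * κ⁻¹) = 1 := by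
    have h4 : κ * y * κ⁻¹ * (κ * y * κ⁻¹) = κ * (y * y) * κ⁻¹ := by group
    rw [h4, hy]; group
  obtain ⟨k, -, hk⟩ := exists_conj ho.odd h3 hp.sq h2
  exact ⟨k * κ, by rw [← hk]; group⟩

theorem u'_ne_one [Finite C] (hC : CHyp z q ε Z T T' U s s' u) (hp : Pair π (tt t) s u u' w) : u' ≠ 1 := by
  rintro rfl
  have h5 := hp.map_u
  rw [map_one] at h5
  exact WrChar.u_ne_one hC h5.symm

theorem u'_ne_t (h : Hyp t z π) (hC : CHyp z q ε Z T T' U s s' u)
    (hp : Pair π (tt t) s u u' w) : u' ≠ tt t := by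
  rintro rfl
  have h5 := hp.map_u
  rw [map_tt h] at h5
  exact hC.u_ne h5.symm

/-- There is an element of `G` interchanging `t` and `u'`. -/
theorem exists_frame [Finite C] (h : Hyp t z π) (hC : CHyp z q ε Z T T' U s s' u)
    (hp : Pair π (tt t) s u u' w) : ∃ g : G, Fr t (u' : G) g (w : G) := by
  have ho := isOver h
  have hu2 : (u' : G) * u' = 1 := congrArg Subtype.val hp.sq
  have hu1 : (u' : G) ≠ 1 := fun h1 => u'_ne_one hC hp (Subtype.ext h1)
  have hut : (u' : G) ≠ t := fun h1 => u'_ne_t h hC hp (Subtype.ext h1)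
  have hcomm : (u' : G) * t = t * u' := mem_centralizer.1 u'.2
  obtain ⟨c, hc⟩ := isConj_iff.1 (h.one_class (u' : G) (orderOf_eq_prime (by rw [sq]; exact hu2) hu1))
  have e1 : c⁻¹ * (u' : G) * c = t := by rw [← hc]; group
  have hy : c⁻¹ * t * c ∈ Subgroup.centralizer ({t} : Set G) := by
    rw [mem_centralizer]
    calc c⁻¹ * t * c * t = c⁻¹ * t * c * (c⁻¹ * (u' : G) * c) := by rw [e1]
      _ = c⁻¹ * (t * (u' : G)) * c := by group
      _ = c⁻¹ * ((u' : G) * t) * c := by rw [hcomm]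
      _ = (c⁻¹ * (u' : G) * c) * (c⁻¹ * t * c) := by group
      _ = t * (c⁻¹ * t * c) := by rw [e1]
  obtain ⟨a, ha⟩ := exists_conj_A h hC hp (y := ⟨c⁻¹ * t * c, hy⟩)
    (Subtype.ext (by
      change c⁻¹ * t * c * (c⁻¹ * t * c) = 1
      have h4 : c⁻¹ * t * c * (c⁻¹ * t * c) = c⁻¹ * (t * t) * c := by group
      rw [h4, t_mul_t h]; group))
    (fun h1 => by
      have h2 : c⁻¹ * t * c = 1 := congrArg Subtype.val h1
      apply t_ne_one h
      have h3 : t = c * (c⁻¹ * t * c) * c⁻¹ := by group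
      rw [h3, h2]; group)
    (fun h1 => by
      have h2 : c⁻¹ * t * c = t := congrArg Subtype.val h1
      apply hut
      rw [← hc]
      have h3 : c * t = t * c := by
        calc c * t = c * (c⁻¹ * t * c) := by rw [h2]
          _ = t * c := by group
      rw [h3]; group)
  have ha' : (a : G) * (c⁻¹ * t * c) * (a : G)⁻¹ = u' := congrArg Subtype.val ha
  refine ⟨a * c⁻¹, ?_⟩
  exact
    { tt := t_mul_t h
      aa := hu2
      comm := hcomm
      gt := by rw [← ha']; group
      ga := by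
        have h4 : (a : G) * c⁻¹ * u' * ((a : G) * c⁻¹)⁻¹ = (a : G) * (c⁻¹ * u' * c) * (a : G)⁻¹ := by
          group
        rw [h4, e1, mem_centralizer.1 a.2, mul_inv_cancel_right]
      wt := by rw [mem_centralizer.1 w.2, mul_inv_cancel_right]
      wa := congrArg Subtype.val hp.conj
      t_ne := t_ne_one h }

/-- A subgroup of `C(t)` as a subgroup of `G`. -/
def up (S : Subgroup (Subgroup.centralizer ({t} : Set G))) : Subgroup G :=
  S.map (Subgroup.centralizer ({t} : Set G)).subtype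

theorem mem_up {S : Subgroup (Subgroup.centralizer ({t} : Set G))}
    {x : Subgroup.centralizer ({t} : Set G)} : (x : G) ∈ up S ↔ x ∈ S := by
  unfold up
  rw [Subgroup.mem_map]
  constructor
  · rintro ⟨y, hy, hyx⟩
    have h1 : y = x := Subtype.ext hyx
    rwa [← h1]
  · intro hx
    exact ⟨x, hx, rfl⟩

theorem inv_up {S : Subgroup (Subgroup.centralizer ({t} : Set G))} (hS : S.Normal) :
    WrThree.Inv t (up S) := by
  rintro a ha x hx
  obtain ⟨y, hy, rfl⟩ := Subgroup.mem_map.1 hx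
  have h1 := hS.conj_mem y hy ⟨a, mem_centralizer.2 ha⟩
  exact mem_up.2 h1

theorem up_mono {S S' : Subgroup (Subgroup.centralizer ({t} : Set G))} (h : S ≤ S') :
    up S ≤ up S' := Subgroup.map_mono h

theorem normal_Z [Finite C] (hC : CHyp z q ε Z T T' U s s' u) : Z.Normal := by
  constructor
  intro n hn g
  rw [hC.Z_central n hn g, mul_inv_cancel_right]
  exact hn

/-- `x ∈ M` as a statement on `G`. -/
theorem inM_iff {x : Subgroup.centralizer ({t} : Set G)} :
    InM t (u' : G) (x : G) ↔ x ∈ Subgroup.centralizer ({u'} : Set _) := by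
  rw [mem_cent]
  exact ⟨fun hx => Subtype.ext hx.2, fun hx => ⟨mem_centralizer.1 x.2, congrArg Subtype.val hx⟩⟩

/-- The subgroup of `M` attached to the involution `v`. -/
def Hs (P : Subgroup G) (u' : Subgroup.centralizer ({t} : Set G)) (v : G) :
    Subgroup (Subgroup.centralizer ({t} : Set G)) where
  carrier := {x | x ∈ Subgroup.centralizer ({u'} : Set _) ∧ At t P v (x : G)}
  one_mem' := ⟨one_mem _, fun n _ => by
    have h1 : n⁻¹ * ((1 : Subgroup.centralizer ({t} : Set G)) : G) * n = 1 := by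
      rw [Subgroup.coe_one, mul_one, inv_mul_cancel]
    rw [h1]; exact one_mem P⟩
  mul_mem' hx hy := ⟨mul_mem hx.1 hy.1, at_mul hx.2 hy.2⟩
  inv_mem' hx := ⟨inv_mem hx.1, at_inv hx.2⟩

theorem mem_Hs {P : Subgroup G} {v : G} {x : Subgroup.centralizer ({t} : Set G)} :
    x ∈ Hs P u' v ↔ x ∈ Subgroup.centralizer ({u'} : Set _) ∧ At t P v (x : G) := Iff.rfl

/-- The powers `x ^ (r / 2)` of the elements of `T` with `b x ^ (r / 2) ≠ 1`. -/
theorem exists_pow_half [Finite C] (hC : CHyp z q ε Z T T' U s s' u)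
    (hD : DetHyp q ε T T' U s s' u r b) {x : C} (hx : x ∈ T) (hb : b x ^ (r / 2) ≠ 1) :
    ∃ n : ℕ, x ^ (r / 2 * n) = u ∨ x ^ (r / 2 * n) = z * u := by
  obtain ⟨n, hn, h1⟩ := exists_odd hC hD
  refine ⟨n, ?_⟩
  have h2 : x ^ (r / 2 * n) * x ^ (r / 2 * n) = 1 := by
    rw [← pow_add]
    have h3 : r / 2 * n + r / 2 * n = r * n := by
      conv_rhs => rw [half hD]
      ring
    rw [h3, h1 x hx]
  have h3 : b (x ^ (r / 2 * n)) ≠ 1 := by
    intro h4
    apply hb
    obtain ⟨m, hm⟩ := hn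
    rw [map_pow, pow_mul, hm, pow_succ, pow_mul, sq, b_sq hD, one_pow, one_mul] at h4
    exact h4
  rcases hC.invol_T _ (pow_mem hx _) h2 with h | h | h | h
  · exact absurd (by rw [h, map_one]) h3
  · exact absurd (by rw [h, WrChar.b_z hC hD]) h3
  · exact Or.inl h
  · exact Or.inr h

/-- (INV) For `x ∈ M` with `lam x ≠ 1`, one of `u'`, `t u'` is a power of `x ^ (r / 2)`. -/
theorem mem_zpowers [Finite C] (h : Hyp t z π) (hC : CHyp z q ε Z T T' U s s' u)
    (hD : DetHyp q ε T T' U s s' u r b) (hp : Pair π (tt t) s u u' w)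
    {x : Subgroup.centralizer ({t} : Set G)} (hx : x * u' = u' * x) (hl : lam π r b x ≠ 1) :
    u' ∈ Subgroup.zpowers (x ^ (r / 2)) ∨ tt t * u' ∈ Subgroup.zpowers (x ^ (r / 2)) := by
  have ho := isOver h
  have key : ∀ v : Subgroup.centralizer ({t} : Set G), v * v = 1 → Commute x v →
      ∀ n : ℕ, π (x ^ (r / 2 * n)) = π v → v ∈ Subgroup.zpowers (x ^ (r / 2)) := by
    intro v hv hxv n hn
    have hvi : v⁻¹ = v := inv_eq_of_mul_eq_one_left hv
    have h1 : π (v * x ^ (r / 2 * n)) = 1 := by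
      rw [map_mul, hn, ← map_mul, hv, map_one]
    have h2 := pow_card_ker π h1
    have h3 : Commute v (x ^ (r / 2 * n)) := hxv.symm.pow_right _
    rw [h3.mul_pow] at h2
    obtain ⟨m, hm⟩ := ho.odd
    have h4 : v ^ Nat.card π.ker = v := by
      rw [hm, pow_succ, pow_mul, sq, hv, one_pow, one_mul]
    rw [h4] at h2
    have h5 : (x ^ (r / 2)) ^ (n * Nat.card π.ker) = v := by
      rw [pow_mul, ← pow_mul x, ← hvi]
      exact eq_inv_of_mul_eq_one_right h2
    rw [← h5]
    exact pow_mem (Subgroup.mem_zpowers _) _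
  obtain ⟨n, hn⟩ := exists_pow_half hC hD (map_mem ho hC hp hx) hl
  rcases hn with hn | hn
  · left
    exact key u' hp.sq hx n (by rw [map_pow, hn, hp.map_u])
  · right
    refine key (tt t * u') ?_ ?_ n (by rw [map_pow, hn, map_mul, map_tt h, hp.map_u])
    · have h5 : tt t * u' * (tt t * u') = (tt t * (u' * tt t)) * u' := by group
      rw [h5, ho.central u', ← mul_assoc, ho.sq, one_mul, hp.sq]
    · have h6 : Commute x (tt t) := ho.central x
      exact h6.mul_right hx

theorem val_zpowers {A : Subgroup G} {x y : A} :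
    (y : G) ∈ Subgroup.zpowers (x : G) ↔ y ∈ Subgroup.zpowers x := by
  rw [Subgroup.mem_zpowers_iff, Subgroup.mem_zpowers_iff]
  refine exists_congr fun k => ?_
  rw [← Subgroup.coe_zpow]
  exact ⟨fun h => Subtype.ext h, fun h => congrArg Subtype.val h⟩

/-- The hypotheses of `WrThree` on the kernel of the quadratic character. -/
theorem lHyp [Finite C] (h : Hyp t z π) (hC : CHyp z q ε Z T T' U s s' u)
    (hD : DetHyp q ε T T' U s s' u r b) (hp : Pair π (tt t) s u u' w) :
    LHyp t (u' : G) (up (lam π r b).ker) (r / 2) where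
  ne := by
    obtain ⟨x, hx, hl⟩ := (wrHyp (isOver h) hC hD hp).lam_ne
    refine ⟨x, inM_iff.2 hx, fun h1 => hl ?_⟩
    rw [at_self (inv_up inferInstance), mem_up] at h1
    exact h1
  inv x hx hn := by
    have h1 : x ∈ Subgroup.centralizer ({t} : Set G) := mem_centralizer.2 hx.1
    have h2 : lam π r b ⟨x, h1⟩ ≠ 1 := by
      intro h3
      apply hn
      rw [at_self (inv_up inferInstance)]
      exact (mem_up (x := ⟨x, h1⟩)).2 h3
    have h3 : (⟨x, h1⟩ : Subgroup.centralizer ({t} : Set G)) * u' = u' * ⟨x, h1⟩ :=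
      Subtype.ext hx.2
    rcases mem_zpowers h hC hD hp h3 h2 with h4 | h4
    · left
      have h5 := val_zpowers.2 h4
      rwa [Subgroup.coe_pow] at h5
    · right
      have h5 := val_zpowers.2 h4
      rwa [Subgroup.coe_pow] at h5

theorem comap_Z_le [Finite C] (hC : CHyp z q ε Z T T' U s s' u)
    (hD : DetHyp q ε T T' U s s' u r b) : Z.comap π ≤ (lam π r b).ker := fun x hx => by
  rw [MonoidHom.mem_ker, lam_apply]
  exact b_Z hC hD hx

end Base

section Core

variable {G : Type v} [Group G] [Finite G] {C : Type w} [Group C] [Finite C] {t : G} {z : C}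
  {π : (Subgroup.centralizer ({t} : Set G)) →* C} {q : ℕ} {ε : ℤ} {Z T T' U : Subgroup C}
  {s s' u : C} {r : ℕ} {b : C →* ℂˣ} {u' w : Subgroup.centralizer ({t} : Set G)} {g : G}

/-- Conjugation by `g⁻¹` on `M`. -/
theorem exists_gconj (hf : Fr t (u' : G) g (w : G))
    {x : Subgroup.centralizer ({t} : Set G)} (hx : x ∈ Subgroup.centralizer ({u'} : Set _)) :
    ∃ y : Subgroup.centralizer ({t} : Set G), y ∈ Subgroup.centralizer ({u'} : Set _) ∧
      (y : G) = g⁻¹ * x * g := by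
  have h1 := hf.symm.inM_g (inM_iff.2 hx)
  rw [inv_inv] at h1
  exact ⟨⟨g⁻¹ * x * g, mem_centralizer.2 h1.1⟩,
    (inM_iff (x := ⟨g⁻¹ * x * g, mem_centralizer.2 h1.1⟩)).1 h1, rfl⟩

theorem Hs_le {P : Subgroup G} {v : G} : Hs P u' v ≤ Subgroup.centralizer ({u'} : Set _) :=
  fun _ hx => hx.1

/-- `|H_u| = |H_t|`. -/
theorem card_Hs {P : Subgroup G} (hf : Fr t (u' : G) g (w : G)) :
    Nat.card (Hs P u' (u' : G)) = Nat.card (Hs P u' t) := by
  have hf' := hf.symm
  refine Nat.card_congr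
    { toFun := fun x => ⟨⟨g⁻¹ * (x : Subgroup.centralizer ({t} : Set G)) * g, ?_⟩, ?_, ?_⟩
      invFun := fun x => ⟨⟨g * (x : Subgroup.centralizer ({t} : Set G)) * g⁻¹, ?_⟩, ?_, ?_⟩
      left_inv := ?_
      right_inv := ?_ }
  · have h1 := hf'.inM_g (inM_iff.2 x.2.1)
    rw [inv_inv] at h1
    exact mem_centralizer.2 h1.1
  · have h1 := hf'.inM_g (inM_iff.2 x.2.1)
    rw [inv_inv] at h1
    exact inM_iff.1 h1
  · have h1 := (at_conj (t := t) (P := P) g⁻¹).2 x.2.2
    rw [hf'.ga, inv_inv] at h1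
    exact h1
  · exact mem_centralizer.2 (hf.inM_g (inM_iff.2 x.2.1)).1
  · exact inM_iff.1 (hf.inM_g (inM_iff.2 x.2.1))
  · have h1 := (at_conj (t := t) (P := P) g).2 x.2.2
    rw [hf.gt] at h1
    exact h1
  · intro x
    apply Subtype.ext
    apply Subtype.ext
    change g * (g⁻¹ * (x : Subgroup.centralizer ({t} : Set G)) * g) * g⁻¹ = _
    group
  · intro x
    apply Subtype.ext
    apply Subtype.ext
    change g⁻¹ * (g * (x : Subgroup.centralizer ({t} : Set G)) * g⁻¹) * g = _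
    group

theorem mem_Hs_t {S : Subgroup (Subgroup.centralizer ({t} : Set G))} (hS : S.Normal)
    {x : Subgroup.centralizer ({t} : Set G)} :
    x ∈ Hs (up S) u' t ↔ x ∈ Subgroup.centralizer ({u'} : Set _) ∧ x ∈ S := by
  rw [mem_Hs, at_self (inv_up hS), mem_up]

/-- The index of `H_u` in `M`. -/
theorem index_Hs (h : Hyp t z π) (hC : CHyp z q ε Z T T' U s s' u)
    (hp : Pair π (tt t) s u u' w) (hf : Fr t (u' : G) g (w : G)) :
    ((Hs (up (Z.comap π)) u' (u' : G)).relIndex (Subgroup.centralizer ({u'} : Set _)) : ℤ) =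
      q - ε := by
  rw [← relIndex_Z (isOver h) hC hp]
  congr 1
  have hZ : (Z.comap π).Normal := (normal_Z hC).comap π
  have h1 : Hs (up (Z.comap π)) u' t = Z.comap π ⊓ Subgroup.centralizer ({u'} : Set _) := by
    ext x
    rw [mem_Hs_t hZ, Subgroup.mem_inf, and_comm]
  rw [← Subgroup.inf_relIndex_right (Z.comap π), ← h1]
  have key : ∀ H : Subgroup (Subgroup.centralizer ({t} : Set G)),
      H ≤ Subgroup.centralizer ({u'} : Set _) →
      Nat.card H * H.relIndex (Subgroup.centralizer ({u'} : Set _)) =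
        Nat.card (Subgroup.centralizer ({u'} : Set (Subgroup.centralizer ({t} : Set G)))) := by
    intro H hH
    have h2 := Subgroup.relIndex_mul_relIndex ⊥ H _ bot_le hH
    rwa [Subgroup.relIndex_bot_left, Subgroup.relIndex_bot_left] at h2
  have h2 := key _ (Hs_le (P := up (Z.comap π)) (u' := u') (v := (u' : G)))
  have h3 := key _ (Hs_le (P := up (Z.comap π)) (u' := u') (v := t))
  rw [card_Hs hf, ← h3] at h2
  exact Nat.eq_of_mul_eq_mul_left Nat.card_pos h2

theorem comm_ker (h : Hyp t z π) (hC : CHyp z q ε Z T T' U s s' u)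
    (hp : Pair π (tt t) s u u' w) {x y : Subgroup.centralizer ({t} : Set G)}
    (hx : x ∈ Subgroup.centralizer ({u'} : Set _))
    (hy : y ∈ Subgroup.centralizer ({u'} : Set _)) : x * y * x⁻¹ * y⁻¹ ∈ π.ker := by
  have h1 := hC.T_comm _ (map_mem (isOver h) hC hp (mem_cent.1 hx)) _
    (map_mem (isOver h) hC hp (mem_cent.1 hy))
  rw [MonoidHom.mem_ker, map_mul, map_mul, map_mul, map_inv, map_inv, h1]
  group

/-- **The hypotheses `XHyp`.** -/
theorem xHyp (h : Hyp t z π) (hC : CHyp z q ε Z T T' U s s' u)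
    (hD : DetHyp q ε T T' U s s' u r b) (h4 : 4 ∣ r) (hp : Pair π (tt t) s u u' w)
    (hf : Fr t (u' : G) g (w : G)) :
    WrX.XHyp (Subgroup.centralizer ({u'} : Set _)) (Hs (up (Z.comap π)) u' (u' : G))
      (Hs (up (Z.comap π)) u' (t * (u' : G))) (lam π r b) (tt t) u' w := by
  have ho := isOver h
  have hZ : (Z.comap π).Normal := (normal_Z hC).comap π
  have hwr := wrHyp ho hC hD hp
  have hinv := inv_up hZ
  have hL := lHyp h hC hD hp
  have hinvL := inv_up (t := t) (S := (lam π r b).ker) inferInstance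
  have hle : up (Z.comap π) ≤ up (lam π r b).ker := up_mono (comap_Z_le hC hD)
  have hu' : u' ∈ Subgroup.centralizer ({u'} : Set (Subgroup.centralizer ({t} : Set G))) :=
    mem_cent.2 rfl
  have hat : ∀ {x : Subgroup.centralizer ({t} : Set G)}, At t (up (lam π r b).ker) t (x : G) ↔
      lam π r b x = 1 := by
    intro x
    rw [at_self hinvL, mem_up, MonoidHom.mem_ker]
  have humem : u' ∈ Hs (up (Z.comap π)) u' (u' : G) := by
    refine ⟨hu', ?_⟩
    rw [at_iff hinv hf.gt]
    have h1 : g⁻¹ * (u' : G) * g = t := by rw [← hf.gt]; group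
    rw [h1]
    refine (mem_up (x := tt t)).2 ?_
    rw [Subgroup.mem_comap, map_tt h]
    exact hC.t_mem
  have hmemHv : ∀ y, y ∈ Hs (up (Z.comap π)) u' (t * (u' : G)) ↔
      w⁻¹ * y * w ∈ Hs (up (Z.comap π)) u' (u' : G) := by
    intro y
    rw [mem_Hs, mem_Hs]
    have h1 : At t (up (Z.comap π)) (u' : G)
        ((w⁻¹ * y * w : Subgroup.centralizer ({t} : Set G)) : G) ↔
        At t (up (Z.comap π)) (t * (u' : G)) (y : G) := by
      rw [← at_conj (w : G), hf.wa]
      have h2 : (w : G) * ((w⁻¹ * y * w : Subgroup.centralizer ({t} : Set G)) : G) * (w : G)⁻¹ =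
          y := by
        simp only [Subgroup.coe_mul, Subgroup.coe_inv]
        group
      rw [h2]
    rw [h1]
    refine and_congr_left fun _ => ⟨hwr.conj_mem y, fun h2 => ?_⟩
    have h3 := hwr.conj_mem' _ h2
    have h4 : w * (w⁻¹ * y * w) * w⁻¹ = y := by group
    rwa [h4] at h3
  exact
    { t_mem := mem_cent.2 ((ho.central u').symm)
      t_sq := ho.sq
      t_lam := lam_tau ho hC hD
      t_notMem := by
        rintro ⟨-, h1⟩
        have h1 : At t (up (Z.comap π)) (u' : G) t := h1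
        rw [at_iff hinv hf.gt] at h1
        have h2 : g⁻¹ * t * g = u' := by
          have h3 := hf.symm.gt
          rwa [inv_inv] at h3
        rw [h2, mem_up, Subgroup.mem_comap, hp.map_u] at h1
        exact u_notMem hC h1
      Hu_le := Hs_le
      comm := by
        intro x hx y hy
        refine ⟨mul_mem (mul_mem (mul_mem hx hy) (inv_mem hx)) (inv_mem hy), ?_⟩
        obtain ⟨x', hx', ex⟩ := exists_gconj hf hx
        obtain ⟨y', hy', ey⟩ := exists_gconj hf hy
        rw [at_iff hinv hf.gt]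
        have h1 : g⁻¹ * ((x * y * x⁻¹ * y⁻¹ : Subgroup.centralizer ({t} : Set G)) : G) * g =
            ((x' * y' * x'⁻¹ * y'⁻¹ : Subgroup.centralizer ({t} : Set G)) : G) := by
          simp only [Subgroup.coe_mul, Subgroup.coe_inv, ex, ey]
          group
        rw [h1, mem_up, Subgroup.mem_comap, MonoidHom.mem_ker.1 (comm_ker h hC hp hx' hy')]
        exact one_mem Z
      u_mem := humem
      u_lam := lam_u hD h4 hp
      tu_mem := by
        rw [hmemHv]
        have h1 : w⁻¹ * (tt t * u') * w = u' := by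
          rw [← hp.conj]; group
        rw [h1]
        exact humem
      mem_Hv := hmemHv
      lam_Hu := by
        obtain ⟨x, hx, hxP, hxL⟩ := exists_notMem (P := up (Z.comap π)) hf hL (by
          intro x hx
          have hxA : x ∈ Subgroup.centralizer ({t} : Set G) := mem_centralizer.2 hx.1
          have hxM : (⟨x, hxA⟩ : Subgroup.centralizer ({t} : Set G)) ∈
              Subgroup.centralizer ({u'} : Set _) :=
            inM_iff.1 (show InM t (u' : G) ((⟨x, hxA⟩ : Subgroup.centralizer ({t} : Set G)) : G)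
              from hx)
          have h1 : x * ((w : G) * x * (w : G)⁻¹) =
              ((⟨x, hxA⟩ * (w * ⟨x, hxA⟩ * w⁻¹) : Subgroup.centralizer ({t} : Set G)) : G) := rfl
          rw [at_self hinv, h1, mem_up, Subgroup.mem_comap, map_mul, map_mul, map_mul, map_inv,
            hp.map_w]
          exact hC.s_norm _ (map_mem ho hC hp (mem_cent.1 hxM)))
        have hxA : x ∈ Subgroup.centralizer ({t} : Set G) := mem_centralizer.2 hx.1
        refine ⟨⟨x, hxA⟩, ⟨inM_iff.1 hx, hxP⟩, fun h1 => hxL ?_⟩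
        exact (hat (x := ⟨x, hxA⟩)).2 h1
      disj := by
        intro x hx hx'
        rw [← hat]
        exact at_of_two hf hL (inM_iff.2 hx.1) (at_mono hle hx.2) (at_mono hle hx'.2) }

/-- The values of `χ` used for the wreathed case. -/
structure Chi (π : (Subgroup.centralizer ({t} : Set G)) →* C) (z : C) (q : ℕ) (ε : ℤ)
    (Z T : Subgroup C) (r : ℕ) (χ : G → ℂ) : Prop where
  isChar : IsCharacter G χ
  one : χ 1 = (q : ℂ) ^ 2 + ε * q
  at_t : χ t = 1 + ε * q
  at_K : ∀ x : Subgroup.centralizer ({t} : Set G), π x = z → χ x = 1 + ε * q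
  at_T : ∀ x : Subgroup.centralizer ({t} : Set G), ∀ y ∈ T, Odd (orderOf y) → y ∉ Z →
    π x = z * y → χ x = 2
  at_lev : ∀ x : Subgroup.centralizer ({t} : Set G), z ∈ Subgroup.zpowers ((π x) ^ (r / 2)) →
    π x ∈ T → π x ∉ Z → χ x = 2
  at_lev' : ∀ x : Subgroup.centralizer ({t} : Set G), z ∈ Subgroup.zpowers ((π x) ^ (r / 2)) →
    π x ∈ Z → χ x = 1 + ε * q

theorem exists_chi [Fintype G] (h : Hyp t z π) (hC : CHyp z q ε Z T T' U s s' u)
    (hD : DetHyp q ε T T' U s s' u r b) (hr : 4 ∣ r) : ∃ χ : G → ℂ, Chi π z q ε Z T r χ := by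
  let _ : Fintype C := Fintype.ofFinite C
  obtain ⟨μ, hμ⟩ := hC.base.exists_mu
  obtain ⟨M, hM⟩ := Cfsg.Agent.Blocks.ExistsModular.exists_isPModular Nat.prime_two
  obtain ⟨χ, -, h1, ht, hodd, hlev⟩ := WrChiVal.exists_chi_QS h hC hD hr (three_le hC) hμ hM
  refine ⟨χ, Core.isIrr_isCharacter χ.2, h1, ht, ?_, ?_, ?_, ?_⟩
  · intro x hx
    rw [hodd x 1 (by rw [hx, mul_one]) (by rw [orderOf_one]; exact odd_one),
      hC.torus.R_Z hC.base _ (one_mem Z), mul_one]
  · intro x y hy ho hyZ hx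
    rw [hodd x y hx ho, hC.torus.R_T hC.base _ hy hyZ]
    norm_num
  · intro x hx hxT h2
    rw [hlev x hx, hC.torus.R_T hC.base _ hxT h2]
    norm_num
  · intro x hx h2
    rw [hlev x hx, hC.torus.R_Z hC.base _ h2, mul_one]

/-- The value of `χ` at an element of `M` having `v = n t n⁻¹` as a power. -/
theorem chi_at (hC : CHyp z q ε Z T T' U s s' u) (h : Hyp t z π)
    (hp : Pair π (tt t) s u u' w) {χ : G → ℂ} (hχ : Chi π z q ε Z T r χ) {n : G} {v : G}
    (hn : n * t * n⁻¹ = v) {x : G} (hx : InM t (u' : G) (n⁻¹ * x * n))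
    (hv : v ∈ Subgroup.zpowers (x ^ (r / 2))) :
    (At t (up (Z.comap π)) v x → χ x = 1 + ε * q) ∧
      (¬ At t (up (Z.comap π)) v x → χ x = 2) := by
  have hcl := Core.isCharacter_isClassFunction hχ.isChar
  have hZ : (Z.comap π).Normal := (normal_Z hC).comap π
  have hxA : n⁻¹ * x * n ∈ Subgroup.centralizer ({t} : Set G) := mem_centralizer.2 hx.1
  have e1 : χ (n⁻¹ * x * n) = χ x := by
    have := hcl x n⁻¹
    rwa [inv_inv] at this
  have hv' : z ∈ Subgroup.zpowers ((π ⟨n⁻¹ * x * n, hxA⟩) ^ (r / 2)) := by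
    have h1 := zpowers_conj (m := n⁻¹) hv
    have h2 : n⁻¹ * v * n⁻¹⁻¹ = t := by rw [← hn]; group
    rw [h2, inv_inv] at h1
    have h3 : tt t ∈ Subgroup.zpowers ((⟨n⁻¹ * x * n, hxA⟩ :
        Subgroup.centralizer ({t} : Set G)) ^ (r / 2)) := val_zpowers.1 h1
    obtain ⟨k, hk⟩ := Subgroup.mem_zpowers_iff.1 h3
    rw [← map_tt h, ← hk, map_zpow, map_pow]
    exact Subgroup.zpow_mem_zpowers _ _
  have hT : π ⟨n⁻¹ * x * n, hxA⟩ ∈ T :=
    map_mem (isOver h) hC hp (mem_cent.1 (inM_iff.1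
      (show InM t (u' : G) ((⟨n⁻¹ * x * n, hxA⟩ : Subgroup.centralizer ({t} : Set G)) : G)
        from hx)))
  have hat : At t (up (Z.comap π)) v x ↔ π ⟨n⁻¹ * x * n, hxA⟩ ∈ Z := by
    rw [at_iff (inv_up hZ) hn]
    exact mem_up (x := ⟨n⁻¹ * x * n, hxA⟩)
  rw [hat, ← e1]
  exact ⟨fun h1 => hχ.at_lev' ⟨n⁻¹ * x * n, hxA⟩ hv' h1,
    fun h1 => hχ.at_lev ⟨n⁻¹ * x * n, hxA⟩ hv' hT h1⟩

open scoped Classical in
theorem chi_M (h : Hyp t z π) (hC : CHyp z q ε Z T T' U s s' u)
    (hD : DetHyp q ε T T' U s s' u r b) (hp : Pair π (tt t) s u u' w)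
    (hf : Fr t (u' : G) g (w : G)) {χ : G → ℂ} (hχ : Chi π z q ε Z T r χ)
    {x : Subgroup.centralizer ({t} : Set G)} (hx : x ∈ Subgroup.centralizer ({u'} : Set _))
    (hl : lam π r b x ≠ 1) :
    χ x = 2 + (((ε * q - 1 : ℤ)) : ℂ) *
      ((if x ∈ Hs (up (Z.comap π)) u' (u' : G) then 1 else 0) +
        (if x ∈ Hs (up (Z.comap π)) u' (t * (u' : G)) then 1 else 0)) := by
  have hL := lHyp h hC hD hp
  have hinvL := inv_up (t := t) (S := (lam π r b).ker) inferInstance
  have hle : up (Z.comap π) ≤ up (lam π r b).ker := up_mono (comap_Z_le hC hD)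
  have hxM : InM t (u' : G) (x : G) := inM_iff.2 hx
  have hn : ¬ At t (up (lam π r b).ker) t (x : G) := by
    rw [at_self hinvL, mem_up, MonoidHom.mem_ker]
    exact hl
  -- transport
  have hMg : InM t (u' : G) (g⁻¹ * (x : G) * g) := by
    have := hf.symm.inM_g hxM
    rwa [inv_inv] at this
  have hMw : InM t (u' : G) (((w : G) * g)⁻¹ * (x : G) * ((w : G) * g)) := by
    have h1 := hf.symm.inM_w hxM
    rw [inv_inv] at h1
    have h2 := hf.symm.inM_g h1
    rw [inv_inv] at h2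
    have h3 : ((w : G) * g)⁻¹ * (x : G) * ((w : G) * g) =
        g⁻¹ * ((w : G)⁻¹ * (x : G) * (w : G)) * g := by group
    rwa [h3]
  have hwg : (w : G) * g * t * ((w : G) * g)⁻¹ = t * (u' : G) := by
    have h3 : (w : G) * g * t * ((w : G) * g)⁻¹ = (w : G) * (g * t * g⁻¹) * (w : G)⁻¹ := by group
    rw [h3, hf.gt, hf.wa]
  by_cases hu : At t (up (lam π r b).ker) (u' : G) (x : G)
  · have hv : ¬ At t (up (lam π r b).ker) (t * (u' : G)) (x : G) := fun h1 =>
      hn (at_of_two hf hL hxM hu h1)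
    have hHv : x ∉ Hs (up (Z.comap π)) u' (t * (u' : G)) := fun h1 => hv (at_mono hle h1.2)
    have hz := mem_a hf hL hxM hn hv
    obtain ⟨c1, c2⟩ := chi_at hC h hp hχ hf.gt hMg hz
    rw [if_neg hHv]
    by_cases hHu : x ∈ Hs (up (Z.comap π)) u' (u' : G)
    · rw [if_pos hHu, c1 hHu.2]
      push_cast
      ring
    · rw [if_neg hHu, c2 (fun h1 => hHu ⟨hx, h1⟩)]
      ring
  · have hHu : x ∉ Hs (up (Z.comap π)) u' (u' : G) := fun h1 => hu (at_mono hle h1.2)
    have hz := mem_ta hf hL hxM hn hu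
    obtain ⟨c1, c2⟩ := chi_at hC h hp hχ hwg hMw hz
    rw [if_neg hHu]
    by_cases hHv : x ∈ Hs (up (Z.comap π)) u' (t * (u' : G))
    · rw [if_pos hHv, c1 hHv.2]
      push_cast
      ring
    · rw [if_neg hHv, c2 (fun h1 => hHv ⟨hx, h1⟩)]
      ring

/-- **The hypotheses `CoreHyp`.** -/
theorem coreHyp [IsSimpleGroup G] (h : Hyp t z π) (hC : CHyp z q ε Z T T' U s s' u)
    (hD : DetHyp q ε T T' U s s' u r b) (h4 : 4 ∣ r) (hp : Pair π (tt t) s u u' w)
    (hf : Fr t (u' : G) g (w : G)) {χ : G → ℂ} (hχ : Chi π z q ε Z T r χ) :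
    CoreHyp q ε π.ker (Subgroup.centralizer ({u'} : Set _)) (Wg hC π u')
      (Hs (up (Z.comap π)) u' (u' : G)) (Hs (up (Z.comap π)) u' (t * (u' : G))) (lam π r b)
      (tt t) u' w (fun x => χ (x : G)) where
  wr := wrHyp (isOver h) hC hD hp
  xh := xHyp h hC hD h4 hp hf
  q_ge := three_le hC
  eps := hC.eps
  t_comm x := ((isOver h).central x).symm
  uu := hp.sq
  mem_M x := by rw [mem_cent]; exact eq_comm
  index := index_Hs h hC hp hf
  isChar := Core.isCharacter_comp (Subgroup.centralizer ({t} : Set G)).subtype hχ.isChar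
  chi_one := hχ.one
  chi_t := hχ.at_t
  chi_K k hk := by
    have h1 : χ ((tt t * k : Subgroup.centralizer ({t} : Set G)) : G) = χ t := by
      rw [hχ.at_K _ (by rw [map_mul, map_tt h, MonoidHom.mem_ker.1 hk, mul_one]), hχ.at_t]
    exact h1
  faith k hk h1 := by
    refine Subtype.ext (eq_one_of_apply hχ.isChar (t := t) ?_ h1)
    rw [hχ.at_t, hχ.one]
    intro h2
    have hq := three_le hC
    have h3 : (1 : ℤ) + ε * q = (q : ℤ) ^ 2 + ε * q := by exact_mod_cast h2
    nlinarith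
  chi_M x hx hl := chi_M h hC hD hp hf hχ hx hl
  W_le := W_le (isOver h) hC hp
  W_odd := W_odd (isOver h) hC hp
  KM_le := KM_le hC
  conj_W y hy := conj_W (isOver h) hC hp hy
  comm_W x hx y hy := comm_W (isOver h) hC hp hx hy

theorem exists_conj_W (h : Hyp t z π) (hC : CHyp z q ε Z T T' U s s' u)
    (hp : Pair π (tt t) s u u' w) {n : G}
    (hn : ∀ x, InM t (u' : G) x → InM t (u' : G) (n⁻¹ * x * n))
    {y : Subgroup.centralizer ({t} : Set G)} (hy : y ∈ Wg hC π u') :
    ∃ y' ∈ Wg hC π u', (y' : G) = n⁻¹ * y * n := by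
  obtain ⟨hyM, hyo⟩ := (mem_W (isOver h) hC hp).1 hy
  have h1 := hn _ (inM_iff.2 hyM)
  have hA : n⁻¹ * (y : G) * n ∈ Subgroup.centralizer ({t} : Set G) := mem_centralizer.2 h1.1
  refine ⟨⟨n⁻¹ * (y : G) * n, hA⟩, (mem_W (isOver h) hC hp).2 ⟨?_, ?_⟩, rfl⟩
  · exact inM_iff.1 (show InM t (u' : G) ((⟨n⁻¹ * (y : G) * n, hA⟩ :
      Subgroup.centralizer ({t} : Set G)) : G) from h1)
  · have h2 : orderOf (⟨n⁻¹ * (y : G) * n, hA⟩ : Subgroup.centralizer ({t} : Set G)) =
        orderOf (y : G) := by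
      rw [← Subgroup.orderOf_coe]
      have h3 : n⁻¹ * (y : G) * n = MulAut.conj n⁻¹ (y : G) := by
        rw [MulAut.conj_apply, inv_inv]
      change orderOf (n⁻¹ * (y : G) * n) = _
      rw [h3]
      exact MulEquiv.orderOf_eq _ _
    rw [h2, Subgroup.orderOf_coe]
    exact hyo

theorem mem_K_iff (_h : Hyp t z π) (hC : CHyp z q ε Z T T' U s s' u)
    (hD : DetHyp q ε T T' U s s' u r b) (hZ : Nat.card Z = r)
    {y : Subgroup.centralizer ({t} : Set G)} (hy : y ∈ Wg hC π u') :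
    y ∈ π.ker ↔ At t (up (Z.comap π)) t (y : G) := by
  have hZn : (Z.comap π).Normal := (normal_Z hC).comap π
  rw [at_self (inv_up hZn), mem_up]
  constructor
  · intro h1
    rw [Subgroup.mem_comap, MonoidHom.mem_ker.1 h1]
    exact one_mem Z
  · intro h1
    exact W_K1 hC hD hZ hy h1

/-- **The hypotheses `PosCore`.** -/
theorem posCore (h : Hyp t z π) (hC : CHyp z q 1 Z T T' U s s' u)
    (hD : DetHyp q 1 T T' U s s' u r b) (hN : Norm 1 T T' U) (hZ : Nat.card Z = r)
    (hp : Pair π (tt t) s u u' w)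
    (hf : Fr t (u' : G) g (w : G)) {χ : G → ℂ} (hχ : Chi π z q 1 Z T r χ) :
    PosCore q π.ker (Subgroup.centralizer ({u'} : Set _)) (Wg hC π u')
      (Hs (up (Z.comap π)) u' (u' : G)) (Hs (up (Z.comap π)) u' (t * (u' : G)))
      (B₀ π U) (B₁ π U w) (Z.comap π) (lam π r b) (tt t) w (fun x => χ (x : G)) := by
  have ho := isOver h
  have hcl := Core.isCharacter_isClassFunction hχ.isChar
  have hM : ∀ {y : Subgroup.centralizer ({t} : Set G)}, y ∈ Wg hC π u' →
      y ∈ Subgroup.centralizer ({u'} : Set _) := fun hy => W_le ho hC hp hy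
  have hHs : ∀ {v : G} {y : Subgroup.centralizer ({t} : Set G)}, y ∈ Wg hC π u' →
      (y ∈ Hs (up (Z.comap π)) u' v ↔ At t (up (Z.comap π)) v (y : G)) := fun hy =>
    ⟨fun h1 => h1.2, fun h1 => ⟨hM hy, h1⟩⟩
  have hval : ∀ n x : G, χ (n⁻¹ * x * n) = χ x := by
    intro n x
    have := hcl x n⁻¹
    rwa [inv_inv] at this
  have hcj : ∀ n v x : G, At t (up (Z.comap π)) v (n⁻¹ * x * n) ↔
      At t (up (Z.comap π)) (n * v * n⁻¹) x := by
    intro n v x
    rw [← at_conj n (x := n⁻¹ * x * n)]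
    have h1 : n * (n⁻¹ * x * n) * n⁻¹ = x := by group
    rw [h1]
  have hg : ∀ x, InM t (u' : G) x → InM t (u' : G) (g⁻¹ * x * g) := by
    intro x hx
    have := hf.symm.inM_g hx
    rwa [inv_inv] at this
  have hw : ∀ x, InM t (u' : G) x → InM t (u' : G) ((w : G)⁻¹ * x * w) := by
    intro x hx
    have := hf.symm.inM_w hx
    rwa [inv_inv] at this
  have hw' : ∀ x, InM t (u' : G) x → InM t (u' : G) ((w : G) * x * (w : G)⁻¹) :=
    fun x hx => hf.inM_w hx
  -- the element interchanging `t` and `t u'`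
  set n : G := (w : G) * g * (w : G)⁻¹ with hn
  have hnM : ∀ x, InM t (u' : G) x → InM t (u' : G) (n⁻¹ * x * n) := by
    intro x hx
    have h1 := hw' _ (hg _ (hw _ hx))
    have h2 : n⁻¹ * x * n = (w : G) * (g⁻¹ * ((w : G)⁻¹ * x * w) * g) * (w : G)⁻¹ := by
      rw [hn]; group
    rwa [h2]
  have hwt' : (w : G)⁻¹ * t * w = t := by
    have := hf.symm.wt
    rwa [inv_inv] at this
  have hwa' : (w : G)⁻¹ * (u' : G) * w = t * u' := by
    have := hf.symm.wa
    rwa [inv_inv] at this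
  have hwta' : (w : G)⁻¹ * (t * (u' : G)) * w = u' := by
    have := hf.symm.wta
    rwa [inv_inv] at this
  have hnt : n * t * n⁻¹ = t * u' := by
    have h1 : n * t * n⁻¹ = (w : G) * (g * ((w : G)⁻¹ * t * w) * g⁻¹) * (w : G)⁻¹ := by
      rw [hn]; group
    rw [h1, hwt', hf.gt, hf.wa]
  have hna : n * (u' : G) * n⁻¹ = u' := by
    have h1 : n * (u' : G) * n⁻¹ = (w : G) * (g * ((w : G)⁻¹ * (u' : G) * w) * g⁻¹) * (w : G)⁻¹ := by
      rw [hn]; group
    rw [h1, hwa', hf.gta, hf.wta]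
  have hnta : n * (t * (u' : G)) * n⁻¹ = t := by
    have h1 : n * (t * (u' : G)) * n⁻¹ =
        (w : G) * (g * ((w : G)⁻¹ * (t * (u' : G)) * w) * g⁻¹) * (w : G)⁻¹ := by
      rw [hn]; group
    rw [h1, hwta', hf.ga, hf.wt]
  exact
    { idx := fun H hH hH1 => idx_pos ho hC hD hN hp rfl hH hH1
      W_K1 := fun y hy hy1 => W_K1 hC hD hZ hy hy1
      chi_W := fun y hy hyK => by
        obtain ⟨-, hyo, -⟩ := mem_Wg.1 hy
        exact hχ.at_T (tt t * y) (π y) (map_mem ho hC hp (mem_cent.1 (hM hy))) hyo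
          (fun h1 => hyK (W_K1 hC hD hZ hy h1)) (by rw [map_mul, map_tt h])
      fix₀ := fun y hy hyK x hx => fix₀ ho hC hN hp rfl hy hyK hx
      fix₁ := fun y hy hyK x hx => fix₁ ho hC hN hp rfl hy hyK hx
      swap := fun y hy => by
        obtain ⟨y', hy', e⟩ := exists_conj_W h hC hp hg hy
        refine ⟨y', hy', ?_, ?_, ?_, ?_⟩
        · rw [e, hval]
        · rw [mem_K_iff h hC hD hZ hy', e, hcj, hf.gt, hHs hy]
        · rw [mem_K_iff h hC hD hZ hy, hHs hy', e, hcj, hf.ga]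
        · rw [hHs hy', hHs hy, e, hcj, hf.gta]
      swap' := fun y hy => by
        obtain ⟨y', hy', e⟩ := exists_conj_W h hC hp hnM hy
        refine ⟨y', hy', ?_, ?_, ?_, ?_⟩
        · rw [e, hval]
        · rw [mem_K_iff h hC hD hZ hy', e, hcj, hnt, hHs hy]
        · rw [mem_K_iff h hC hD hZ hy, hHs hy', e, hcj, hnta]
        · rw [hHs hy', hHs hy, e, hcj, hna]
      h01 := fun x hx => h01 ho hC hp hx
      h10 := fun x hx => h10 ho hC hp hx
      gen := gen ho hC hD hN hp rfl }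

open scoped Classical in
/-- **The wreathed case: the core is central.** -/
theorem core_central [IsSimpleGroup G] (h : Hyp t z π) (hC : CHyp z q ε Z T T' U s s' u)
    (hD : DetHyp q ε T T' U s s' u r b) (hN : Norm ε T T' U) (h4 : 4 ∣ r)
    (hZ : Nat.card Z = r) (hp : Pair π (tt t) s u u' w) (hf : Fr t (u' : G) g (w : G)) {N : ℕ}
    (hNq : (N : ℤ) = q + ε) :
    π.ker ≤ Subgroup.center (Subgroup.centralizer ({t} : Set G)) ∧
      π.ker ⊓ Hs (up (Z.comap π)) u' (u' : G) = ⊥ ∧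
      ∀ x ∈ π.ker, x ≠ 1 → ∃ ψ : Subgroup.centralizer ({t} : Set G) → ℂ,
        IsIrrCharacter (Subgroup.centralizer ({t} : Set G)) ψ ∧ ψ 1 = N ∧ ψ x ≠ ψ 1 := by
  let _ : Fintype G := Fintype.ofFinite G
  let _ : Fintype (Subgroup.centralizer ({t} : Set G)) := Fintype.ofFinite _
  obtain ⟨χ, hχ⟩ := exists_chi h hC hD h4
  have ho := isOver h
  have h3 := three_le hC
  rcases hC.eps with he | he
  · subst he
    obtain rfl : N = q + 1 := by omega
    have h5 : 5 ≤ q := by
      obtain ⟨k, -, hk⟩ := hD.r_dvd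
      obtain ⟨c, rfl⟩ := h4
      have h6 : (q : ℤ) = 1 + 4 * (c * k) := by
        push_cast at hk
        linarith
      omega
    have hcore := coreHyp h hC hD h4 hp hf hχ
    obtain ⟨T₁, z₀, m, hd, hT₁⟩ := exists_frobData ho hC hD hN hZ h5
    have hT : π.ker ⊔ Subgroup.centralizer ({u'} : Set _) ≤ T₁.comap π := by
      rw [hT₁ rfl, sup_eq ho hC hp]
    exact core_pos hcore (posCore h hC hD hN hZ hp hf hχ) (WrFrobOut.frobOut_one hcore.wr hd hT)
  · subst he
    have hcore := coreHyp h hC hD h4 hp hf hχ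
    have hidx : ∀ H : Subgroup (Subgroup.centralizer ({t} : Set G)),
        π.ker ⊔ Subgroup.centralizer ({u'} : Set _) ≤ H → H ≠ ⊤ → q ≤ H.index :=
      fun H hH hH1 => idx_neg ho hC hD h4 hN hp rfl hH hH1
    have hNq' : N + 1 = q := by omega
    obtain ⟨K1, hF⟩ : ∃ K1, FrobOut N hcore.wr K1 := by
      rcases Nat.lt_or_ge q 5 with h6 | h6
      · obtain ⟨k, hk⟩ := hC.odd_q
        obtain rfl : N = 2 := by omega
        exact ⟨_, WrFrobOut.frobOut_two hcore.wr⟩
      · obtain ⟨T₁, z₀, m, hd, -⟩ := exists_frobData ho hC hD hN hZ h6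
        obtain rfl : N = q - 1 := by omega
        exact ⟨_, WrFrobOut.frobOut_neg hcore.wr hd⟩
    exact core_neg hcore hNq' hF hidx

/-- **The wreathed case: the core is central**, short form. -/
theorem central [IsSimpleGroup G] (h : Hyp t z π) (hC : CHyp z q ε Z T T' U s s' u)
    (hD : DetHyp q ε T T' U s s' u r b) (hN : Norm ε T T' U) (h4 : 4 ∣ r)
    (hZ : Nat.card Z = r) : ∀ k, π k = 1 → ∀ c : Subgroup.centralizer ({t} : Set G),
      c * k = k * c := by
  obtain ⟨u', w, hp⟩ := exists_pair (isOver h) hC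
  obtain ⟨g, hf⟩ := exists_frame h hC hp
  have h3 := three_le hC
  obtain ⟨N, hN'⟩ : ∃ N : ℕ, (N : ℤ) = q + ε := by
    rcases hC.eps with he | he
    · exact ⟨q + 1, by rw [he]; push_cast; rfl⟩
    · exact ⟨q - 1, by rw [he]; omega⟩
  obtain ⟨h1, -, -⟩ := core_central h hC hD hN h4 hZ hp hf hN'
  intro k hk c
  exact Subgroup.mem_center_iff.1 (h1 (MonoidHom.mem_ker.2 hk)) c

end Core

end Cfsg.Agent.Classification.QDW.WrAssembly
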