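import Mathlib
import Cfsg.Agent.Classification.QDW.FieldRes
import Cfsg.Agent.Classification.QDW.CDataInst
import Cfsg.Agent.Classification.QDW.InstModelW

/-!
# The data of `H₁`

`CData` (quasi-dihedral) and `WData` (wreathed) for the group `↥(H1 L e)`, with or without field
automorphisms; the Zsigmondy prime if `H1 L e ≠ ⊤`.
-/

set_option autoImplicit false
set_option linter.unusedSectionVars false

namespace Cfsg.Agent.Classification.QDW.FieldData

open Cfsg Cfsg.Agent.Classification.InvCent Cfsg.Agent.Classification.QDW.InstC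
  Cfsg.Agent.Classification.QDW.StructQ Cfsg.Agent.Classification.QDW.StructMain
  Cfsg.Agent.Classification.QDW.StructW Cfsg.Agent.Classification.QDW.FieldRes
  Cfsg.Agent.Classification.QDW.InstModelW Matrix

variable {H : Type*} [Group H] [Finite H] {S : Sylow 2 H} {L : Subgroup H} [hLn : L.Normal]
  {F : Type*} [Field F] [Fintype F] {e : L ≃* SpecialLinearGroup (Fin 2) F}

/-- **The data of `H₁`**, quasi-dihedral. -/
theorem exists_cdata {y : H} (h : QD S L e y) :
    ∃ (ε : ℤ) (Z T T' U : Subgroup (H1 L e)) (s : H1 L e) (b : H1 L e →* ℂˣ),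
      CData (z0 (e1 L e)) (Fintype.card F) ε Z T T' U s ⟨y, y_mem_H1 h⟩ ⟨y, y_mem_H1 h⟩ b ∧
      (ε = 1 ∧ Fintype.card F % 4 = 3 ∨ ε = -1 ∧ Fintype.card F % 4 = 1) := by
  obtain ⟨ε, Z, T, T', U, s, b, h1, h2, -⟩ := CDataInst.exists_cdata (qd_res h) H1_res
  exact ⟨ε, Z, T, T', U, s, b, h1, h2⟩

/-- **The data of `H₁`**, wreathed. -/
theorem exists_wdata {n : ℕ} {u : ZMod (2 ^ n) → ZMod (2 ^ n) → (S : Subgroup H)}
    {s : (S : Subgroup H)} (h : WR S L e n u s) {z : H1 L e} (hz : orderOf z = 2)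
    (hzc : ∀ c, c * z = z * c) :
    ∃ (ε : ℤ) (Z T T' U : Subgroup (H1 L e)) (s₁ s' u₁ : H1 L e) (b : H1 L e →* ℂˣ),
      WData z (Fintype.card F) ε Z T T' U s₁ s' u₁ (2 ^ n) b ∧
      (ε = 1 ∧ Fintype.card F % 4 = 1 ∨ ε = -1 ∧ Fintype.card F % 4 = 3) := by
  obtain ⟨u₁, s₁, h1, -, -⟩ := wr_res h
  exact InstModelW.exists_wdata h1 H1_res hz hzc

end Cfsg.Agent.Classification.QDW.FieldData
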