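import Mathlib
import Cfsg.Prelude.Def_Characters
import Cfsg.Prelude.Def_Blocks
import Cfsg.Agent.Characters.Core
import Cfsg.Agent.Characters.Brauer
import Cfsg.Agent.Blocks.Basic
import Cfsg.Agent.Blocks.Local
import Cfsg.Agent.Blocks.Residue
import Cfsg.Agent.Blocks.CentralizerSum
import Cfsg.Agent.Blocks.PrincipalSection
import Cfsg.Agent.Classification.BGBlockB0
import Cfsg.Agent.S0909
import Cfsg.Agent.S0913

/-!
# The principal 2-block and a normal subgroup of odd index covered by `C(S)` (Alperin, Dade)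

`N` normal in the finite group `Γ`, `Γ / N` abelian, `S ≤ N` of odd index in `Γ` and
`Γ = N C_Γ(S)` (`AD N S`). Then the restriction to `N` is a bijection from the principal 2-block
of `Γ` onto the principal 2-block of `N`.

* `AD.inner_res`: the restriction is isometric on the principal block;
* `AD.res_mem`, `AD.exists_res`: the bijection;
* `AD.twist_notMem`: for a linear character `l ≠ 1` of `Γ / N` the character `l X` is not in the
  principal block.
-/

set_option autoImplicit false
set_option linter.unusedSectionVars false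

open Cfsg
open scoped ComplexConjugate

namespace Cfsg.Agent.Classification.QDW.Fld

open Cfsg.Agent.Characters Cfsg.Agent.Blocks.Local Cfsg.Agent.Blocks.Basic

/-- `N` is normal with abelian quotient, `S ≤ N` has odd index and `N C(S) = Γ`. -/
structure AD {Γ : Type*} [Group Γ] (N S : Subgroup Γ) : Prop where
  normal : N.Normal
  comm : ∀ x y : Γ, x * y * x⁻¹ * y⁻¹ ∈ N
  odd_index : Odd S.index
  le : S ≤ N
  cover : ∀ g : Γ, ∃ n ∈ N, ∃ c : Γ, (∀ s ∈ S, Commute c s) ∧ g = n * c

section

variable {Γ : Type*} [Group Γ] [Finite Γ] {N S : Subgroup Γ}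

theorem AD.odd_index_N (h : AD N S) : Odd N.index :=
  Odd.of_dvd_nat h.odd_index (Subgroup.index_dvd_of_le h.le)

theorem AD.odd_index_centralizer (h : AD N S) {c : Γ} (hc : ∀ s ∈ S, Commute c s) :
    Odd (Subgroup.centralizer ({c} : Set Γ)).index := by
  refine Odd.of_dvd_nat h.odd_index (Subgroup.index_dvd_of_le fun s hs => ?_)
  rw [Subgroup.mem_centralizer_singleton_iff]
  exact (hc s hs).eq.symm

/-- A linear character of `Γ / N` as a function on `Γ`. -/
def lamFun (N : Subgroup Γ) [N.Normal] (l : Γ ⧸ N →* ℂ) : Γ → ℂ := fun g => l (QuotientGroup.mk g)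

section Normal

variable [N.Normal] (l : Γ ⧸ N →* ℂ)

theorem lamFun_one : lamFun N l 1 = 1 := by
  unfold lamFun
  rw [QuotientGroup.mk_one, map_one]

theorem lamFun_mul (g h : Γ) : lamFun N l (g * h) = lamFun N l g * lamFun N l h := by
  unfold lamFun
  rw [QuotientGroup.mk_mul, map_mul]

theorem lamFun_of_mem {g : Γ} (hg : g ∈ N) : lamFun N l g = 1 := by
  unfold lamFun
  rw [(QuotientGroup.eq_one_iff g).2 hg, map_one]

theorem lamFun_pow (g : Γ) : lamFun N l g ^ N.index = 1 := by
  unfold lamFun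
  rw [← map_pow, ← QuotientGroup.mk_pow]
  have : g ^ N.index ∈ N := Subgroup.pow_index_mem N g
  rw [(QuotientGroup.eq_one_iff _).2 this, map_one]

theorem lamFun_isClassFunction : IsClassFunction Γ (lamFun N l) := by
  intro g k
  unfold lamFun
  rw [QuotientGroup.mk_mul, QuotientGroup.mk_mul, QuotientGroup.mk_inv, map_mul, map_mul,
    mul_comm (l _) (l _), mul_assoc, ← map_mul, mul_inv_cancel, map_one, mul_one]

theorem lamFun_isCharacter : IsCharacter Γ (lamFun N l) :=
  Core.isCharacter_comp (QuotientGroup.mk' N) (Brauer.isCharacter_of_monoidHom l)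

theorem lamFun_mul_conj (g : Γ) : lamFun N l g * conj (lamFun N l g) = 1 := by
  have h2 : ‖lamFun N l g‖ = 1 :=
    Complex.norm_eq_one_of_pow_eq_one (lamFun_pow l g) Subgroup.index_ne_zero_of_finite
  rw [Complex.mul_conj, Complex.normSq_eq_norm_sq, h2]
  norm_num

/-- The product of an irreducible character with a linear one. -/
theorem isIrr_lamFun_mul {X : Γ → ℂ} (hX : IsIrrCharacter Γ X) :
    IsIrrCharacter Γ (fun g => lamFun N l g * X g) := by
  classical
  have := Fintype.ofFinite Γ
  have h1 : IsCharacter Γ (fun g => lamFun N l g * X g) :=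
    Core.isCharacter_mul (lamFun_isCharacter l) (Core.isIrr_isCharacter hX)
  rw [Core.isIrr_iff_classInner_self h1]
  have h2 : classInner (fun g => lamFun N l g * X g) (fun g => lamFun N l g * X g) =
      classInner X X := by
    rw [Core.classInner_def, Core.classInner_def]
    congr 1
    refine Finset.sum_congr rfl fun g _ => ?_
    rw [map_mul]
    linear_combination (X g * conj (X g)) * lamFun_mul_conj l g
  rw [h2, Core.classInner_irr_self hX]

end Normal

theorem AD.exists_ne (h : AD N S) [N.Normal] {l : Γ ⧸ N →* ℂ} (hl : l ≠ 1) :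
    ∃ c : Γ, (∀ s ∈ S, Commute c s) ∧ lamFun N l c ≠ 1 := by
  by_contra hcon
  push Not at hcon
  apply hl
  refine MonoidHom.ext fun x => ?_
  obtain ⟨g, rfl⟩ := QuotientGroup.mk_surjective x
  obtain ⟨n, hn, c, hc, rfl⟩ := h.cover g
  have h1 := lamFun_mul l n c
  rw [lamFun_of_mem l hn, one_mul, hcon c hc] at h1
  exact h1

/-- For `l ≠ 1` the twist of a character of the principal block is not in the principal block. -/
theorem AD.twist_notMem (h : AD N S) [N.Normal] {M : Ideal AlgInt} (hM : IsPModular 2 M)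
    {l : Γ ⧸ N →* ℂ} (hl : l ≠ 1) {X Y : IrrCharacter Γ} (hX : X ∈ principalBlock M Γ)
    (hY : Y ∈ principalBlock M Γ) : (fun g => lamFun N l g * (X : Γ → ℂ) g) ≠ (Y : Γ → ℂ) := by
  have hMp := isPrime_of_isPModular hM
  intro he
  obtain ⟨c, hc, hlc⟩ := h.exists_ne hl
  have h1 := hX c
  have h2 := hY c
  set w := lamFun N l c with hw
  set i : ℂ := ((Subgroup.centralizer ({c} : Set Γ)).index : ℂ) with hi
  have hwn : w ^ N.index = 1 := lamFun_pow l c
  have hwi : IsIntegral ℤ w := IsIntegral.of_pow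
    (Nat.pos_of_ne_zero (Subgroup.index_ne_zero_of_finite (H := N)))
    (by rw [hwn]; exact isIntegral_one)
  have hwR : MemLocalRing M w := memLocalRing_of_isIntegral hwi
  have e1 : centralChar (fun _ : Γ => (1 : ℂ)) c = i := by
    unfold centralChar
    rw [mul_one, div_one]
  have e2 : centralChar (Y : Γ → ℂ) c = w * centralChar (X : Γ → ℂ) c := by
    unfold centralChar
    rw [← he]
    simp only [lamFun_one, one_mul]
    rw [← hw]
    ring
  rw [e1] at h1 h2
  rw [e2] at h2
  have h3 := memLocalIdeal_sub h2 (memLocalIdeal_mul_left hwR h1)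
  have h4 : i - w * centralChar (X : Γ → ℂ) c - w * (i - centralChar (X : Γ → ℂ) c) =
      i * (1 - w) := by ring
  rw [h4] at h3
  have hodd := h.odd_index_centralizer hc
  have hinv : MemLocalRing M (i⁻¹) := memLocalRing_inv_natCast hM hodd.not_two_dvd_nat
  have hi0 : i ≠ 0 := by
    rw [hi]
    exact_mod_cast Subgroup.index_ne_zero_of_finite
  have h5 := memLocalIdeal_mul_left hinv h3
  rw [← mul_assoc, inv_mul_cancel₀ hi0, one_mul] at h5
  have h6 : (1 : AlgInt) - ⟨w, hwi⟩ ∈ M := by
    rw [← memLocalIdeal_algInt_iff]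
    exact h5
  have h7 := Blocks.Residue.eq_of_sub_mem hM (ε₁ := 1) (ε₂ := ⟨w, hwi⟩)
    ⟨1, by norm_num, by simp⟩ ⟨N.index, h.odd_index_N.not_two_dvd_nat, hwn⟩ h6
  exact hlc (congrArg Subtype.val h7).symm

open Classical in
/-- The dual of `Γ / N`. -/
theorem AD.exists_dual (h : AD N S) [N.Normal] : ∃ Λ : Finset (Γ ⧸ N →* ℂ), ∀ g : Γ,
    ∑ l ∈ Λ, lamFun N l g = if g ∈ N then (N.index : ℂ) else 0 := by
  let _ : CommGroup (Γ ⧸ N) := { (inferInstance : Group (Γ ⧸ N)) with
    mul_comm := fun a b => by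
      obtain ⟨x, rfl⟩ := QuotientGroup.mk_surjective a
      obtain ⟨y, rfl⟩ := QuotientGroup.mk_surjective b
      have h1 := (QuotientGroup.eq_one_iff (x * y * x⁻¹ * y⁻¹)).2 (h.comm x y)
      rw [QuotientGroup.mk_mul, QuotientGroup.mk_mul, QuotientGroup.mk_mul, QuotientGroup.mk_inv,
        QuotientGroup.mk_inv] at h1
      rw [mul_inv_eq_one, mul_inv_eq_iff_eq_mul] at h1
      exact h1 }
  obtain ⟨Λ, hΛ⟩ := Brauer.exists_dual (Γ ⧸ N)
  refine ⟨Λ, fun g => ?_⟩
  have h1 := hΛ (QuotientGroup.mk g)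
  unfold lamFun
  rw [h1]
  have h2 : ((QuotientGroup.mk g : Γ ⧸ N) = 1) ↔ g ∈ N := QuotientGroup.eq_one_iff g
  by_cases h3 : g ∈ N
  · rw [if_pos (h2.2 h3), if_pos h3]
    rfl
  · rw [if_neg (fun h4 => h3 (h2.1 h4)), if_neg h3]

theorem sum_subtype_mem (N : Subgroup Γ) [Fintype Γ] [Fintype N] [DecidablePred (· ∈ N)]
    (F : Γ → ℂ) : ∑ n : N, F n = ∑ g : Γ, if g ∈ N then F g else 0 := by
  rw [← Finset.sum_filter]
  refine Finset.sum_nbij' (fun n : N => (n : Γ)) (fun g => if hg : g ∈ N then ⟨g, hg⟩ else 1)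
    (fun n _ => Finset.mem_filter.2 ⟨Finset.mem_univ _, n.2⟩) (fun g _ => Finset.mem_univ _)
    (fun n _ => by simp) (fun g hg => ?_) (fun n _ => rfl)
  rw [dif_pos (Finset.mem_filter.1 hg).2]

open Classical in
theorem AD.classInner_eq (h : AD N S) [N.Normal] [Fintype Γ] [Fintype N]
    {Λ : Finset (Γ ⧸ N →* ℂ)}
    (hΛ : ∀ g : Γ, ∑ l ∈ Λ, lamFun N l g = if g ∈ N then (N.index : ℂ) else 0) (X Y : Γ → ℂ) :
    classInner (fun n : N => X n) (fun n : N => Y n) =
      ∑ l ∈ Λ, classInner (fun g => lamFun N l g * X g) Y := by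
  classical
  have h1 : ∀ l ∈ Λ, classInner (fun g => lamFun N l g * X g) Y =
      (Nat.card Γ : ℂ)⁻¹ * ∑ g : Γ, lamFun N l g * (X g * conj (Y g)) := by
    intro l _
    rw [Core.classInner_def]
    congr 1
    exact Finset.sum_congr rfl fun g _ => by ring
  rw [Finset.sum_congr rfl h1, ← Finset.mul_sum, Finset.sum_comm, Core.classInner_def,
    sum_subtype_mem N (fun g => X g * conj (Y g))]
  have h2 : ∀ g : Γ, ∑ l ∈ Λ, lamFun N l g * (X g * conj (Y g)) =
      (N.index : ℂ) * (if g ∈ N then X g * conj (Y g) else 0) := by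
    intro g
    rw [← Finset.sum_mul, hΛ]
    split_ifs <;> ring
  rw [Finset.sum_congr rfl (fun g _ => h2 g), ← Finset.mul_sum, ← mul_assoc]
  congr 1
  have h3 : (Nat.card N : ℂ) * (N.index : ℂ) = Nat.card Γ := by
    exact_mod_cast N.card_mul_index
  have h4 : (Nat.card N : ℂ) ≠ 0 := Core.card_ne_zero_complex
  have h5 : (N.index : ℂ) ≠ 0 := by exact_mod_cast Subgroup.index_ne_zero_of_finite
  rw [← h3]
  field_simp

/-- The restriction is isometric on the principal block. -/
theorem AD.inner_res (h : AD N S) [Fintype Γ] [Fintype N] {M : Ideal AlgInt}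
    (hM : IsPModular 2 M) {X Y : IrrCharacter Γ} (hX : X ∈ principalBlock M Γ)
    (hY : Y ∈ principalBlock M Γ) :
    classInner (fun n : N => (X : Γ → ℂ) n) (fun n : N => (Y : Γ → ℂ) n) =
      classInner (X : Γ → ℂ) (Y : Γ → ℂ) := by
  classical
  have := h.normal
  obtain ⟨Λ, hΛ⟩ := h.exists_dual
  rw [h.classInner_eq hΛ]
  have h0 : ∀ l ∈ Λ, l ≠ 1 →
      classInner (fun g => lamFun N l g * (X : Γ → ℂ) g) (Y : Γ → ℂ) = 0 := by
    intro l _ hl
    exact Core.classInner_irr_ne (isIrr_lamFun_mul l X.2) Y.2 (h.twist_notMem hM hl hX hY)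
  have e1 : (fun g => lamFun N (1 : Γ ⧸ N →* ℂ) g * (X : Γ → ℂ) g) = (X : Γ → ℂ) := by
    funext g
    unfold lamFun
    rw [MonoidHom.one_apply, one_mul]
  by_cases hmem : (1 : Γ ⧸ N →* ℂ) ∈ Λ
  · rw [Finset.sum_eq_single_of_mem _ hmem (fun l hl hne => h0 l hl hne), e1]
  · exfalso
    -- the sum for `X = Y = 1` would vanish
    have hMp := isPrime_of_isPModular hM
    have hone : (⟨fun _ => 1, isIrrCharacter_one⟩ : IrrCharacter Γ) ∈ principalBlock M Γ :=
      Blocks.PrincipalSection.one_mem_principalBlock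
    have h1 := h.classInner_eq hΛ (fun _ => (1 : ℂ)) (fun _ => (1 : ℂ))
    have h2 : ∀ l ∈ Λ, classInner (fun g => lamFun N l g * (1 : ℂ)) (fun _ : Γ => (1 : ℂ)) = 0 := by
      intro l hl
      have hne : l ≠ 1 := fun h3 => hmem (h3 ▸ hl)
      exact Core.classInner_irr_ne (isIrr_lamFun_mul l isIrrCharacter_one) isIrrCharacter_one
        (h.twist_notMem hM hne hone hone)
    rw [Finset.sum_eq_zero h2] at h1
    have h3 : classInner (fun _ : N => (1 : ℂ)) (fun _ : N => (1 : ℂ)) = 1 :=
      Core.classInner_irr_self isIrrCharacter_one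
    rw [h3] at h1
    exact one_ne_zero h1

/-- The restriction of a member of the principal block is irreducible. -/
theorem AD.isIrr_res (h : AD N S) {M : Ideal AlgInt} (hM : IsPModular 2 M) {X : IrrCharacter Γ}
    (hX : X ∈ principalBlock M Γ) : IsIrrCharacter N (fun n : N => (X : Γ → ℂ) n) := by
  have := Fintype.ofFinite Γ
  have := Fintype.ofFinite N
  have h1 : IsCharacter N (fun n : N => (X : Γ → ℂ) n) :=
    Core.isCharacter_comp N.subtype (Core.isIrr_isCharacter X.2)
  rw [Core.isIrr_iff_classInner_self h1, h.inner_res hM hX hX, Core.classInner_irr_self X.2]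

/-- The restriction as an irreducible character. -/
noncomputable def AD.res (h : AD N S) {M : Ideal AlgInt} (hM : IsPModular 2 M)
    (X : IrrCharacter Γ) (hX : X ∈ principalBlock M Γ) : IrrCharacter N :=
  ⟨fun n : N => (X : Γ → ℂ) n, h.isIrr_res hM hX⟩

theorem AD.res_inj (h : AD N S) {M : Ideal AlgInt} (hM : IsPModular 2 M) {X Y : IrrCharacter Γ}
    (hX : X ∈ principalBlock M Γ) (hY : Y ∈ principalBlock M Γ)
    (he : (fun n : N => (X : Γ → ℂ) n) = fun n : N => (Y : Γ → ℂ) n) : X = Y := by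
  have := Fintype.ofFinite Γ
  have := Fintype.ofFinite N
  by_contra hne
  have h1 := h.inner_res hM hX hY
  rw [Core.classInner_irr_ne X.2 Y.2 (fun h2 => hne (Subtype.ext h2)), ← he,
    Core.classInner_irr_self (h.isIrr_res hM hX)] at h1
  exact one_ne_zero h1

theorem AD.index_centralizer (h : AD N S) (n : N) : ∃ k : ℕ, Odd k ∧
    (Subgroup.centralizer ({(n : Γ)} : Set Γ)).index =
      (Subgroup.centralizer ({n} : Set N)).index * k := by
  have hN := h.normal
  set C := Subgroup.centralizer ({(n : Γ)} : Set Γ) with hC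
  have h1 : C.subgroupOf N = Subgroup.centralizer ({n} : Set N) := by
    ext x
    rw [Subgroup.mem_subgroupOf, hC, Subgroup.mem_centralizer_singleton_iff,
      Subgroup.mem_centralizer_singleton_iff]
    constructor
    · intro h2
      exact Subtype.ext h2
    · intro h2
      exact congrArg Subtype.val h2
  refine ⟨(N ⊔ C).index, Odd.of_dvd_nat h.odd_index_N (Subgroup.index_dvd_of_le le_sup_left), ?_⟩
  have h2 : C.relIndex (N ⊔ C) * (N ⊔ C).index = C.index :=
    Subgroup.relIndex_mul_index le_sup_right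
  have h3 : C.relIndex (N ⊔ C) = C.relIndex N := by
    have e1 : (N ⊓ C).relIndex C * C.relIndex (N ⊔ C) = (N ⊓ C).relIndex (N ⊔ C) :=
      Subgroup.relIndex_mul_relIndex _ _ _ inf_le_right le_sup_right
    have e2 : (N ⊓ C).relIndex N * N.relIndex (N ⊔ C) = (N ⊓ C).relIndex (N ⊔ C) :=
      Subgroup.relIndex_mul_relIndex _ _ _ inf_le_left le_sup_left
    rw [Subgroup.relIndex_sup_left, Subgroup.inf_relIndex_left, mul_comm] at e2
    rw [Subgroup.inf_relIndex_right] at e1
    have e3 : N.relIndex C ≠ 0 := Subgroup.index_ne_zero_of_finite (H := N.subgroupOf C)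
    exact Nat.eq_of_mul_eq_mul_left (Nat.pos_of_ne_zero e3) (e1.trans e2.symm)
  rw [← h2, h3, Subgroup.relIndex, h1]

/-- The restriction of a member of the principal block is in the principal block. -/
theorem AD.res_mem (h : AD N S) {M : Ideal AlgInt} (hM : IsPModular 2 M) {X : IrrCharacter Γ}
    (hX : X ∈ principalBlock M Γ) : h.res hM X hX ∈ principalBlock M N := by
  have hMp := isPrime_of_isPModular hM
  intro n
  obtain ⟨k, hk, he⟩ := h.index_centralizer n
  have h1 := hX (n : Γ)
  have hinv : MemLocalRing M ((k : ℂ)⁻¹) := memLocalRing_inv_natCast hM hk.not_two_dvd_nat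
  have h2 := memLocalIdeal_mul_left hinv h1
  have hk0 : (k : ℂ) ≠ 0 := by
    have : k ≠ 0 := by rintro rfl; exact absurd hk (by decide)
    exact_mod_cast this
  convert h2 using 1
  unfold centralChar AD.res
  rw [he]
  push_cast
  field_simp

/-- **Alperin, Dade.** Every member of the principal block of `N` is the restriction of a member
of the principal block of `Γ`. -/
theorem AD.exists_res (h : AD N S) {M : Ideal AlgInt} (hM : IsPModular 2 M) {Y : IrrCharacter N}
    (hY : Y ∈ principalBlock M N) :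
    ∃ X : IrrCharacter Γ, ∃ hX : X ∈ principalBlock M Γ, h.res hM X hX = Y := by
  classical
  have : Fact (Nat.Prime 2) := ⟨Nat.prime_two⟩
  have hMp := isPrime_of_isPModular hM
  have := Fintype.ofFinite Γ
  have := Fintype.ofFinite N
  have : Finite (IrrCharacter Γ) := Core.finite_irr
  have := Fintype.ofFinite (IrrCharacter Γ)
  have : Finite (IrrCharacter N) := Core.finite_irr
  have := Fintype.ofFinite (IrrCharacter N)
  set A : Set (IrrCharacter N) :=
    {ψ | ∃ X : IrrCharacter Γ, ∃ hX : X ∈ principalBlock M Γ, h.res hM X hX = ψ} with hA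
  have hone : (⟨fun _ => 1, isIrrCharacter_one⟩ : IrrCharacter Γ) ∈ principalBlock M Γ :=
    Blocks.PrincipalSection.one_mem_principalBlock
  have h1A : (⟨fun _ => 1, isIrrCharacter_one⟩ : IrrCharacter N) ∈ A := ⟨_, hone, rfl⟩
  have key : ∀ n : N, blockCoeff A n = (N.index : ℂ) * blockCoeff (principalBlock M Γ) (n : Γ) := by
    intro n
    unfold blockCoeff
    have e1 : ∑ᶠ χ ∈ A, (χ : N → ℂ) 1 * conj ((χ : N → ℂ) n) =
        ∑ᶠ χ ∈ principalBlock M Γ, (χ : Γ → ℂ) 1 * conj ((χ : Γ → ℂ) (n : Γ)) := by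
      rw [Blocks.Orthogonality.finsum_mem_eq_sum_filter,
        Blocks.Orthogonality.finsum_mem_eq_sum_filter]
      symm
      refine Finset.sum_bij (fun X hX => h.res hM X (Finset.mem_filter.1 hX).2) ?_ ?_ ?_ ?_
      · intro X hX
        exact Finset.mem_filter.2 ⟨Finset.mem_univ _, X, (Finset.mem_filter.1 hX).2, rfl⟩
      · intro X hX Y hY he
        exact h.res_inj hM (Finset.mem_filter.1 hX).2 (Finset.mem_filter.1 hY).2
          (congrArg Subtype.val he)
      · intro ψ hψ
        obtain ⟨X, hX, he⟩ := (Finset.mem_filter.1 hψ).2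
        exact ⟨X, Finset.mem_filter.2 ⟨Finset.mem_univ _, hX⟩, he⟩
      · intro X hX
        rfl
    rw [e1]
    have h3 : (Nat.card N : ℂ) * (N.index : ℂ) = Nat.card Γ := by
      exact_mod_cast N.card_mul_index
    have h4 : (Nat.card N : ℂ) ≠ 0 := Core.card_ne_zero_complex
    have h5 : (N.index : ℂ) ≠ 0 := by exact_mod_cast Subgroup.index_ne_zero_of_finite
    rw [← h3]
    field_simp
  have h2 := S0909.result 2 M hM A (fun n => by
    rw [key]
    exact memLocalRing_mul (memLocalRing_natCast _)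
      (S0913.result 2 M hM _ Blocks.PrincipalSection.isPBlock_principalBlock (n : Γ))) _ h1A
  exact h2 hY

end

end Cfsg.Agent.Classification.QDW.Fld
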