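import Mathlib
import Cfsg.Agent.Classification.QDW.FldBlock
import Cfsg.Agent.Classification.BGIsometry
import Cfsg.Agent.Blocks.SecondMain
import Cfsg.Agent.Blocks.PrincipalInflate
import Cfsg.Agent.Blocks.Covering

/-!
# Principal parts and the canonical lift

* `classInner_blockPart`, `isGeneralized_blockPart`, `blockPart_equiv`, `blockPart_comp`:
  the part of a function in the principal block;
* `section_part`: the principal part on the section of a 2-element;
* `blockPart_supp`: functions supported on `{x | t ∈ zpowers x}`;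
* `hat`: the canonical lift of a function on `N` to `Γ`; `AD.hat_res`, `AD.classInner_hat`,
  `AD.classInner_hat_hat`, `isGeneralized_hat`, `hat_supp`.
-/

set_option autoImplicit false
set_option linter.unusedSectionVars false

open Cfsg
open scoped ComplexConjugate

namespace Cfsg.Agent.Classification.QDW.Fld

open Cfsg.Agent.Characters Cfsg.Agent.Blocks.Local Cfsg.Agent.Blocks.Basic
  Cfsg.Agent.Classification.BGBlockB0

section Part

variable {Γ : Type*} [Group Γ] [Finite Γ]

theorem isClass_blockPart (B : Set (IrrCharacter Γ)) (ϑ : Γ → ℂ) :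
    IsClassFunction Γ (blockPart B ϑ) := by
  classical
  have := Fintype.ofFinite Γ
  have : Finite (IrrCharacter Γ) := Core.finite_irr
  have := Fintype.ofFinite (IrrCharacter Γ)
  intro g k
  rw [blockPart_sum, blockPart_sum]
  exact Finset.sum_congr rfl fun χ _ => by rw [Core.isIrr_isClassFunction χ.2 g k]

theorem blockPart_smul (B : Set (IrrCharacter Γ)) (c : ℂ) (ϑ : Γ → ℂ) :
    blockPart B (c • ϑ) = c • blockPart B ϑ := by
  classical
  have := Fintype.ofFinite Γ
  have : Finite (IrrCharacter Γ) := Core.finite_irr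
  have := Fintype.ofFinite (IrrCharacter Γ)
  funext g
  rw [Pi.smul_apply, blockPart_sum, blockPart_sum, smul_eq_mul, Finset.mul_sum]
  exact Finset.sum_congr rfl fun χ _ => by rw [Core.classInner_smul_left]; ring

theorem blockPart_zero (B : Set (IrrCharacter Γ)) : blockPart B (0 : Γ → ℂ) = 0 := by
  have := blockPart_smul B 0 (0 : Γ → ℂ)
  rwa [zero_smul, zero_smul] at this

theorem blockPart_fsum (B : Set (IrrCharacter Γ)) {ι : Type*} (J : Finset ι) (f : ι → Γ → ℂ) :
    blockPart B (∑ i ∈ J, f i) = ∑ i ∈ J, blockPart B (f i) := by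
  classical
  induction J using Finset.induction_on with
  | empty => rw [Finset.sum_empty, Finset.sum_empty, blockPart_zero]
  | insert a J ha ih => rw [Finset.sum_insert ha, Finset.sum_insert ha, blockPart_add, ih]

theorem classInner_blockPart [Fintype Γ] (B : Set (IrrCharacter Γ)) (ϑ ψ : Γ → ℂ) :
    classInner (blockPart B ϑ) ψ = classInner ϑ (blockPart B ψ) := by
  classical
  have : Finite (IrrCharacter Γ) := Core.finite_irr
  have := Fintype.ofFinite (IrrCharacter Γ)
  have h1 : ∀ η : Γ → ℂ, blockPart B η = ∑ χ : IrrCharacter Γ with χ ∈ B,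
      classInner η (χ : Γ → ℂ) • (χ : Γ → ℂ) := by
    intro η
    funext g
    rw [blockPart_sum, Finset.sum_apply]
    rfl
  rw [h1, h1, Core.classInner_sum_left, Core.classInner_sum_right]
  refine Finset.sum_congr rfl fun χ _ => ?_
  rw [Core.classInner_smul_left, Core.classInner_smul_right, Core.classInner_conj_symm ψ, mul_comm]

theorem blockPart_idem (B : Set (IrrCharacter Γ)) (ϑ : Γ → ℂ) :
    blockPart B (blockPart B ϑ) = blockPart B ϑ := by
  classical
  have := Fintype.ofFinite Γ
  have : Finite (IrrCharacter Γ) := Core.finite_irr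
  have := Fintype.ofFinite (IrrCharacter Γ)
  have h1 : blockPart B ϑ = ∑ χ : IrrCharacter Γ with χ ∈ B,
      classInner ϑ (χ : Γ → ℂ) • (χ : Γ → ℂ) := by
    funext g
    rw [blockPart_sum, Finset.sum_apply]
    rfl
  conv_lhs => rw [h1]
  rw [blockPart_fsum, h1]
  refine Finset.sum_congr rfl fun χ hχ => ?_
  rw [blockPart_smul, (blockPart_irr B χ).1 (Finset.mem_filter.1 hχ).2]

theorem isGeneralized_blockPart (B : Set (IrrCharacter Γ)) {ϑ : Γ → ℂ}
    (h : IsGeneralizedCharacter Γ ϑ) : IsGeneralizedCharacter Γ (blockPart B ϑ) := by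
  classical
  have := Fintype.ofFinite Γ
  have : Finite (IrrCharacter Γ) := Core.finite_irr
  have := Fintype.ofFinite (IrrCharacter Γ)
  rw [Core.isGeneralizedCharacter_iff] at h ⊢
  obtain ⟨m, rfl⟩ := h
  refine ⟨fun χ => if χ ∈ B then m χ else 0, ?_⟩
  funext g
  rw [blockPart_sum, Finset.sum_apply, Finset.sum_filter]
  refine Finset.sum_congr rfl fun χ _ => ?_
  rw [Core.classInner_sum_zsmul_irr]
  by_cases h1 : χ ∈ B
  · have e : (fun χ => if χ ∈ B then m χ else 0) χ = m χ := if_pos h1
    rw [if_pos h1, e, Pi.smul_apply, zsmul_eq_mul]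
  · have e : (fun χ => if χ ∈ B then m χ else 0) χ = 0 := if_neg h1
    rw [if_neg h1, e, zero_smul, Pi.zero_apply]

/-- Principal parts and isomorphisms. -/
theorem blockPart_equiv {K : Type*} [Group K] [Finite K] {M : Ideal AlgInt} (e : Γ ≃* K)
    (ϑ : K → ℂ) (g : Γ) : blockPart (principalBlock M Γ) (fun x => ϑ (e x)) g =
      blockPart (principalBlock M K) ϑ (e g) := by
  classical
  have := Fintype.ofFinite Γ
  have := Fintype.ofFinite K
  have : Finite (IrrCharacter Γ) := Core.finite_irr
  have := Fintype.ofFinite (IrrCharacter Γ)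
  have : Finite (IrrCharacter K) := Core.finite_irr
  have := Fintype.ofFinite (IrrCharacter K)
  rw [blockPart_sum, blockPart_sum]
  have hmem : ∀ (χ : IrrCharacter K) (χ' : IrrCharacter Γ)
      (_ : ∀ x, (χ' : Γ → ℂ) x = (χ : K → ℂ) (e x)),
      χ' ∈ principalBlock M Γ ↔ χ ∈ principalBlock M K := by
    intro χ χ' he
    have e1 : (χ' : Γ → ℂ) = fun x => (χ : K → ℂ) (e x) := funext he
    constructor
    · intro h1 k
      have h2 := h1 (e.symm k)
      rw [e1, Blocks.Covering.centralChar_comp_equiv e (χ : K → ℂ),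
        Blocks.Covering.centralChar_comp_equiv e (fun _ : K => (1 : ℂ)) (e.symm k),
        e.apply_symm_apply] at h2
      exact h2
    · intro h1 x
      have h2 := h1 (e x)
      rw [e1, Blocks.Covering.centralChar_comp_equiv e (χ : K → ℂ),
        Blocks.Covering.centralChar_comp_equiv e (fun _ : K => (1 : ℂ)) x]
      exact h2
  have hinner : ∀ χ : K → ℂ, classInner (fun x => ϑ (e x)) (fun x => χ (e x)) =
      classInner ϑ χ := by
    intro χ
    rw [Core.classInner_def, Core.classInner_def, Nat.card_congr e.toEquiv]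
    congr 1
    exact Fintype.sum_equiv e.toEquiv _ _ fun x => rfl
  refine Finset.sum_bij' (fun χ _ => (⟨fun k => (χ : Γ → ℂ) (e.symm k),
      Core.isIrr_comp (e.symm : K →* Γ) e.symm.surjective χ.2⟩ : IrrCharacter K))
    (fun χ _ => (⟨fun x => (χ : K → ℂ) (e x),
      Core.isIrr_comp (e : Γ →* K) e.surjective χ.2⟩ : IrrCharacter Γ)) ?_ ?_ ?_ ?_ ?_
  · intro χ hχ
    refine Finset.mem_filter.2 ⟨Finset.mem_univ _, ?_⟩
    exact (hmem _ χ (fun x => congrArg (χ : Γ → ℂ) (e.symm_apply_apply x).symm)).1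
      (Finset.mem_filter.1 hχ).2
  · intro χ hχ
    refine Finset.mem_filter.2 ⟨Finset.mem_univ _, ?_⟩
    exact (hmem χ _ (fun x => rfl)).2 (Finset.mem_filter.1 hχ).2
  · intro χ _
    apply Subtype.ext
    funext x
    exact congrArg (χ : Γ → ℂ) (e.symm_apply_apply x)
  · intro χ _
    apply Subtype.ext
    funext x
    exact congrArg (χ : K → ℂ) (e.apply_symm_apply x)
  · intro χ _
    have h1 := hinner (fun k => (χ : Γ → ℂ) (e.symm k))
    simp only [e.symm_apply_apply] at h1
    rw [← h1]
    simp only [e.symm_apply_apply]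

/-- **The principal part on a section.** -/
theorem section_part {p : ℕ} [Fact p.Prime] {M : Ideal AlgInt} (hM : IsPModular p M) (a : Γ)
    (ha : ∃ k : ℕ, orderOf a = p ^ k) {H : Subgroup Γ}
    (hH : H = Subgroup.centralizer ({a} : Set Γ)) {ϑ : Γ → ℂ} (hϑ : IsClassFunction Γ ϑ) (y : H)
    (hy : ¬ p ∣ orderOf y) :
    blockPart (principalBlock M Γ) ϑ (a * (y : Γ)) =
      blockPart (principalBlock M H) (fun c : H => ϑ (a * (c : Γ))) y := by
  classical
  have := Fintype.ofFinite Γ
  have := Fintype.ofFinite H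
  have : Finite (IrrCharacter Γ) := Core.finite_irr
  have := Fintype.ofFinite (IrrCharacter Γ)
  have : Finite (IrrCharacter H) := Core.finite_irr
  have := Fintype.ofFinite (IrrCharacter H)
  have key : ∀ ζ : IrrCharacter Γ,
      blockPart (principalBlock M H) (fun c : H => (ζ : Γ → ℂ) (a * (c : Γ))) y =
        if ζ ∈ principalBlock M Γ then (ζ : Γ → ℂ) (a * (y : Γ)) else 0 := by
    intro ζ
    rw [blockPart_sum]
    have h1 := Blocks.CentralizerSum.sum_components hM a ha hH
      (Blocks.PrincipalSection.isPBlock_principalBlock (M := M))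
      (A := principalBlock M H)
      (fun ξ => Blocks.PrincipalSection.mem_principalBlock_iff_induced hM a ha hH ξ) y hy ζ
    exact h1
  have hexp : (fun c : H => ϑ (a * (c : Γ))) = ∑ ζ : IrrCharacter Γ,
      classInner ϑ (ζ : Γ → ℂ) • (fun c : H => (ζ : Γ → ℂ) (a * (c : Γ))) := by
    funext c
    have h1 := congrFun (Core.classFunction_eq_sum hϑ) (a * (c : Γ))
    rw [h1, Finset.sum_apply, Finset.sum_apply]
    rfl
  rw [hexp, blockPart_fsum, Finset.sum_apply, blockPart_sum, Finset.sum_filter]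
  refine Finset.sum_congr rfl fun ζ _ => ?_
  rw [blockPart_smul, Pi.smul_apply, key, smul_eq_mul]
  split_ifs
  · rfl
  · rw [mul_zero]

/-- The 2-part and an involution. -/
theorem mem_zpowers_iff_of_isPPart {t u z : Γ} (ht : t * t = 1) (h : IsPPart 2 u z) :
    t ∈ Subgroup.zpowers u ↔ t ∈ Subgroup.zpowers z := by
  obtain ⟨y, rfl, hc, ⟨k, hk⟩, hy⟩ := h
  have hyo : Odd (orderOf y) := Nat.not_even_iff_odd.1 fun h1 => hy (even_iff_two_dvd.1 h1)
  have ht2 : t ^ orderOf y = t := by
    obtain ⟨l, hl⟩ := hyo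
    rw [hl, pow_succ, pow_mul, sq, ht, one_pow, one_mul]
  constructor
  · intro h1
    obtain ⟨j, hj⟩ := Subgroup.mem_zpowers_iff.1 h1
    refine Subgroup.mem_zpowers_iff.2 ⟨orderOf y * j, ?_⟩
    rw [← ht2, ← hj, ← zpow_natCast, ← zpow_mul, mul_comm j, zpow_mul (z * y), zpow_natCast,
      hc.mul_pow, pow_orderOf_eq_one, mul_one, ← zpow_natCast, ← zpow_mul]
  · intro h1
    obtain ⟨j, hj⟩ := Subgroup.mem_zpowers_iff.1 h1
    refine Subgroup.mem_zpowers_iff.2 ⟨orderOf y * j, ?_⟩
    rw [zpow_mul, zpow_natCast, hc.mul_pow, pow_orderOf_eq_one, mul_one, ← zpow_natCast, ← zpow_mul,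
      mul_comm, zpow_mul, hj, zpow_natCast, ht2]

/-- Principal parts of functions supported on the elements having the central involution `t` as a
power. -/
theorem blockPart_supp {M : Ideal AlgInt} (hM : IsPModular 2 M) {t : Γ} (ht : t * t = 1)
    (htc : ∀ g : Γ, g * t * g⁻¹ = t) {ϑ : Γ → ℂ} (hϑ : IsClassFunction Γ ϑ)
    (hs : ∀ x, ϑ x ≠ 0 → t ∈ Subgroup.zpowers x) (x : Γ)
    (hx : blockPart (principalBlock M Γ) ϑ x ≠ 0) : t ∈ Subgroup.zpowers x := by
  have : Fact (Nat.Prime 2) := ⟨Nat.prime_two⟩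
  by_contra hcon
  apply hx
  obtain ⟨z, hz⟩ := Blocks.SecondMain.exists_isPPart Nat.prime_two x
  have hzx : t ∉ Subgroup.zpowers z := fun h1 => hcon ((mem_zpowers_iff_of_isPPart ht hz).2 h1)
  have hord : ∃ k : ℕ, orderOf z = 2 ^ k := by
    obtain ⟨-, -, -, h1, -⟩ := hz
    exact h1
  refine (S0925.result 2 M hM).1 ϑ hϑ z hord ?_ _
    Blocks.PrincipalSection.isPBlock_principalBlock x z hz (IsConj.refl z)
  intro u' z' hpp hconj
  by_contra h0
  have h1 := (mem_zpowers_iff_of_isPPart ht hpp).1 (hs _ h0)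
  obtain ⟨c, hc⟩ := isConj_iff.1 hconj
  apply hzx
  obtain ⟨j, hj⟩ := Subgroup.mem_zpowers_iff.1 h1
  refine Subgroup.mem_zpowers_iff.2 ⟨j, ?_⟩
  rw [← hc, conj_zpow] at hj
  have h2 : z ^ j = c⁻¹ * t * c := by rw [← hj]; group
  have h3 := htc c⁻¹
  rw [inv_inv] at h3
  rw [h2, h3]

/-- If `ϑ` agrees on the elements of odd order with a function in the span of the principal
block, so does its principal part. -/
theorem blockPart_of_odd {M : Ideal AlgInt} (hM : IsPModular 2 M) {ϑ η : Γ → ℂ}
    (hϑ : IsClassFunction Γ ϑ) (hη : blockPart (principalBlock M Γ) η = η)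
    (h : ∀ y, Odd (orderOf y) → ϑ y = η y) {y : Γ} (hy : Odd (orderOf y)) :
    blockPart (principalBlock M Γ) ϑ y = η y := by
  have hcl : IsClassFunction Γ (ϑ - η) := by
    have h1 : IsClassFunction Γ η := by rw [← hη]; exact isClass_blockPart _ _
    intro g k
    rw [Pi.sub_apply, Pi.sub_apply, hϑ g k, h1 g k]
  have h1 := blockPart_odd hM hcl (fun g hg => by rw [Pi.sub_apply, h g hg, sub_self]) hy
  rw [blockPart_sub, Pi.sub_apply, hη] at h1
  exact sub_eq_zero.1 h1

end Part

section Comp

variable {H : Type*} [Group H] [Finite H] {C : Type*} [Group C] [Finite C] {π : H →* C}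

/-- Inflation of the principal block. -/
theorem comp_mem {M : Ideal AlgInt} (hM : IsPModular 2 M) (hπ : Function.Surjective π)
    {ψ : IrrCharacter C} (hψ : ψ ∈ principalBlock M C)
    {ψ' : IrrCharacter H} (he : ∀ x, (ψ' : H → ℂ) x = (ψ : C → ℂ) (π x)) :
    ψ' ∈ principalBlock M H := by
  have hMp := isPrime_of_isPModular hM
  intro x
  have h1 := hψ (π x)
  have h2 : (Subgroup.centralizer ({π x} : Set C)).index ∣
      (Subgroup.centralizer ({x} : Set H)).index := by
    rw [← Subgroup.index_comap_of_surjective _ hπ]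
    refine Subgroup.index_dvd_of_le fun y hy => ?_
    rw [Subgroup.mem_centralizer_singleton_iff] at hy
    rw [Subgroup.mem_comap, Subgroup.mem_centralizer_singleton_iff, ← map_mul, ← map_mul, hy]
  obtain ⟨k, hk⟩ := h2
  have h3 := memLocalIdeal_mul_left (memLocalRing_natCast (M := M) k) h1
  convert h3 using 1
  unfold centralChar
  rw [he, he, map_one, hk]
  push_cast
  ring

/-- Inflation of the span of the principal block. -/
theorem blockPart_comp {M : Ideal AlgInt} (hM : IsPModular 2 M) (hπ : Function.Surjective π)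
    {f : C → ℂ} (hf : blockPart (principalBlock M C) f = f) :
    blockPart (principalBlock M H) (fun x => f (π x)) = fun x => f (π x) := by
  classical
  have := Fintype.ofFinite H
  have := Fintype.ofFinite C
  have : Finite (IrrCharacter C) := Core.finite_irr
  have := Fintype.ofFinite (IrrCharacter C)
  have h1 : f = ∑ χ : IrrCharacter C with χ ∈ principalBlock M C,
      classInner f (χ : C → ℂ) • (χ : C → ℂ) := by
    conv_lhs => rw [← hf]
    funext g
    rw [blockPart_sum, Finset.sum_apply]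
    rfl
  have h2 : (fun x => f (π x)) = ∑ χ : IrrCharacter C with χ ∈ principalBlock M C,
      classInner f (χ : C → ℂ) • (fun x : H => (χ : C → ℂ) (π x)) := by
    funext x
    rw [Finset.sum_apply]
    have h3 := congrFun h1 (π x)
    rw [Finset.sum_apply] at h3
    exact h3
  rw [h2, blockPart_fsum]
  refine Finset.sum_congr rfl fun χ hχ => ?_
  rw [blockPart_smul]
  congr 1
  let χ' : IrrCharacter H := ⟨fun x => (χ : C → ℂ) (π x), Core.isIrr_comp π hπ χ.2⟩
  exact (blockPart_irr (principalBlock M H) χ').1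
    (comp_mem hM hπ (Finset.mem_filter.1 hχ).2 (fun x => rfl))

/-- A function in the span of the principal block comes from the quotient by a normal subgroup of
odd order. -/
theorem exists_of_blockPart {M : Ideal AlgInt} (hM : IsPModular 2 M)
    (hπ : Function.Surjective π) (hker : Odd (Nat.card π.ker)) {φ : H → ℂ}
    (hφ : blockPart (principalBlock M H) φ = φ) :
    ∃ f : C → ℂ, blockPart (principalBlock M C) f = f ∧ ∀ x, φ x = f (π x) := by
  classical
  have : Fact (Nat.Prime 2) := ⟨Nat.prime_two⟩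
  have := Fintype.ofFinite H
  have := Fintype.ofFinite C
  have : Finite (IrrCharacter H) := Core.finite_irr
  have := Fintype.ofFinite (IrrCharacter H)
  have hex : ∀ χ : IrrCharacter H, ∃ f : C → ℂ, blockPart (principalBlock M C) f = f ∧
      (χ ∈ principalBlock M H → ∀ x, (χ : H → ℂ) x = f (π x)) := by
    intro χ
    by_cases hχ : χ ∈ principalBlock M H
    · obtain ⟨ψ, hψ, he⟩ := Blocks.PrincipalInflate.exists_comp hM hπ hker.not_two_dvd_nat hχ
      exact ⟨(ψ : C → ℂ), (blockPart_irr _ ψ).1 hψ, fun _ x => congrFun he x⟩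
    · exact ⟨0, blockPart_zero _, fun h => absurd h hχ⟩
  choose F hF1 hF2 using hex
  refine ⟨∑ χ : IrrCharacter H with χ ∈ principalBlock M H, classInner φ (χ : H → ℂ) • F χ,
    ?_, fun x => ?_⟩
  · rw [blockPart_fsum]
    exact Finset.sum_congr rfl fun χ _ => by rw [blockPart_smul, hF1]
  · have h1 := congrFun hφ x
    rw [blockPart_sum] at h1
    rw [← h1, Finset.sum_apply]
    refine Finset.sum_congr rfl fun χ hχ => ?_
    rw [Pi.smul_apply, smul_eq_mul, hF2 χ (Finset.mem_filter.1 hχ).2 x]

end Comp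

section Hat

variable {Γ : Type*} [Group Γ] [Fintype Γ] {N S : Subgroup Γ}

/-- The canonical lift. -/
noncomputable def hat (M : Ideal AlgInt) (N : Subgroup Γ) (φ : N → ℂ) : Γ → ℂ :=
  blockPart (principalBlock M Γ) (indFun N φ)

theorem isClass_hat (M : Ideal AlgInt) (φ : N → ℂ) : IsClassFunction Γ (hat M N φ) :=
  isClass_blockPart _ _

theorem blockPart_hat (M : Ideal AlgInt) (φ : N → ℂ) :
    blockPart (principalBlock M Γ) (hat M N φ) = hat M N φ := blockPart_idem _ _

theorem isGeneralized_hat (M : Ideal AlgInt) {φ : N → ℂ} (h : IsGeneralizedCharacter N φ) :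
    IsGeneralizedCharacter Γ (hat M N φ) :=
  isGeneralized_blockPart _ (Brauer.isGeneralizedCharacter_indFun _ h)

/-- The restriction of the lift is the principal part. -/
theorem AD.hat_res (h : AD N S) {M : Ideal AlgInt} (hM : IsPModular 2 M) (φ : N → ℂ) (n : N) :
    hat M N φ n = blockPart (principalBlock M N) φ n := by
  classical
  have := Fintype.ofFinite N
  have : Finite (IrrCharacter Γ) := Core.finite_irr
  have := Fintype.ofFinite (IrrCharacter Γ)
  have : Finite (IrrCharacter N) := Core.finite_irr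
  have := Fintype.ofFinite (IrrCharacter N)
  unfold hat
  rw [blockPart_sum, blockPart_sum]
  refine Finset.sum_bij (fun X hX => h.res hM X (Finset.mem_filter.1 hX).2) ?_ ?_ ?_ ?_
  · intro X hX
    exact Finset.mem_filter.2 ⟨Finset.mem_univ _, h.res_mem hM (Finset.mem_filter.1 hX).2⟩
  · intro X hX Y hY he
    exact h.res_inj hM (Finset.mem_filter.1 hX).2 (Finset.mem_filter.1 hY).2
      (congrArg Subtype.val he)
  · intro ψ hψ
    obtain ⟨X, hX, he⟩ := h.exists_res hM (Finset.mem_filter.1 hψ).2
    exact ⟨X, Finset.mem_filter.2 ⟨Finset.mem_univ _, hX⟩, he⟩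
  · intro X hX
    rw [BGIsometry.classInner_indFun_left N φ (Core.isIrr_isClassFunction X.2)]
    rfl

/-- Inner products of the lift. -/
theorem classInner_hat {M : Ideal AlgInt} [Fintype N] (φ : N → ℂ) (ψ : Γ → ℂ) :
    classInner (hat M N φ) ψ =
      classInner φ (fun n : N => blockPart (principalBlock M Γ) ψ n) := by
  unfold hat
  rw [classInner_blockPart, BGIsometry.classInner_indFun_left N φ (isClass_blockPart _ _)]

theorem AD.classInner_hat_hat (h : AD N S) {M : Ideal AlgInt} (hM : IsPModular 2 M) [Fintype N]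
    (φ ψ : N → ℂ) :
    classInner (hat M N φ) (hat M N ψ) = classInner φ (blockPart (principalBlock M N) ψ) := by
  rw [classInner_hat, blockPart_hat]
  congr 1
  funext n
  exact h.hat_res hM ψ n

/-- The support of an induced function. -/
theorem indFun_supp {t : Γ} (htc : ∀ g : Γ, g * t * g⁻¹ = t) {φ : N → ℂ}
    (hs : ∀ n : N, φ n ≠ 0 → t ∈ Subgroup.zpowers (n : Γ)) (x : Γ) (hx : indFun N φ x ≠ 0) :
    t ∈ Subgroup.zpowers x := by
  classical
  by_contra hcon
  apply hx
  rw [Core.indFun_apply, Finset.sum_eq_zero, mul_zero]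
  intro g _
  by_cases hg : g⁻¹ * x * g ∈ N
  · rw [Core.extendByZero_of_mem _ _ hg]
    by_contra h0
    apply hcon
    obtain ⟨j, hj⟩ := Subgroup.mem_zpowers_iff.1 (hs _ h0)
    refine Subgroup.mem_zpowers_iff.2 ⟨j, ?_⟩
    have h1 : (g⁻¹ * x * g) ^ j = g⁻¹ * x ^ j * g := by
      have := conj_zpow (i := j) (a := g⁻¹) (b := x)
      rwa [inv_inv] at this
    change (g⁻¹ * x * g) ^ j = t at hj
    rw [h1] at hj
    have h2 : x ^ j = g * t * g⁻¹ := by rw [← hj]; group
    rw [h2, htc]
  · exact Core.extendByZero_of_notMem _ _ hg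

theorem hat_supp {M : Ideal AlgInt} (hM : IsPModular 2 M) {t : Γ} (ht : t * t = 1)
    (htc : ∀ g : Γ, g * t * g⁻¹ = t) {φ : N → ℂ}
    (hs : ∀ n : N, φ n ≠ 0 → t ∈ Subgroup.zpowers (n : Γ)) (x : Γ) (hx : hat M N φ x ≠ 0) :
    t ∈ Subgroup.zpowers x :=
  blockPart_supp hM ht htc (Brauer.indFun_isClassFunction N φ) (indFun_supp htc hs) x hx

end Hat

end Cfsg.Agent.Classification.QDW.Fld
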