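import Mathlib
import Cfsg.Agent.Classification.QDW.FldLift
import Cfsg.Agent.Classification.InvCent.BlockEval

/-!
# The span of the principal 2-block of `C` of type `GL₂(q)/Z₀`, `GU₂(q)/Z₀`

* `Prin M f`: `f` is in the span of the principal block;
* `prin_of_section`: a criterion by sections of 2-elements;
* `prin_R_one`, `prin_R`: the functions `R_T(g)`, `g` invariant under translation by elements of
  odd order and supported on the elements having `t` as a power, are in this span;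
* `Prin.mul_odd`, `Prin.eval`, `Prin.GG_eq`: values of the functions in the span.
-/

set_option autoImplicit false
set_option linter.unusedSectionVars false

open Cfsg
open scoped ComplexConjugate

namespace Cfsg.Agent.Classification.QDW.Fld

open Cfsg.Agent.Characters Cfsg.Agent.Blocks.Local Cfsg.Agent.Blocks.Basic
  Cfsg.Agent.Classification.BGBlockB0 Cfsg.Agent.Classification.InvCent

section Prin

variable {Γ : Type*} [Group Γ] [Finite Γ]

/-- `f` is in the span of the principal block. -/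
def Prin (M : Ideal AlgInt) (f : Γ → ℂ) : Prop := blockPart (principalBlock M Γ) f = f

variable {M : Ideal AlgInt}

theorem Prin.isClass {f : Γ → ℂ} (h : Prin M f) : IsClassFunction Γ f := by
  have := isClass_blockPart (principalBlock M Γ) f
  rwa [h] at this

theorem Prin.add {f g : Γ → ℂ} (hf : Prin M f) (hg : Prin M g) : Prin M (f + g) := by
  unfold Prin at *
  rw [blockPart_add, hf, hg]

theorem Prin.smul {f : Γ → ℂ} (c : ℂ) (hf : Prin M f) : Prin M (c • f) := by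
  unfold Prin at *
  rw [blockPart_smul, hf]

theorem Prin.sub {f g : Γ → ℂ} (hf : Prin M f) (hg : Prin M g) : Prin M (f - g) := by
  unfold Prin at *
  rw [blockPart_sub, hf, hg]

theorem Prin.neg {f : Γ → ℂ} (hf : Prin M f) : Prin M (-f) := by
  unfold Prin at *
  rw [blockPart_neg, hf]

theorem Prin.zero : Prin M (0 : Γ → ℂ) := blockPart_zero _

theorem Prin.fsum {ι : Type*} (J : Finset ι) (f : ι → Γ → ℂ) (h : ∀ i ∈ J, Prin M (f i)) :
    Prin M (∑ i ∈ J, f i) := by
  unfold Prin at *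
  rw [blockPart_fsum]
  exact Finset.sum_congr rfl h

theorem prin_one (hM : IsPModular 2 M) : Prin M (1 : Γ → ℂ) := blockPart_of_inB (one_inB hM)

theorem prin_blockPart (f : Γ → ℂ) : Prin M (blockPart (principalBlock M Γ) f) :=
  blockPart_idem _ _

open Classical in
theorem Prin.apply [Fintype Γ] [Fintype (IrrCharacter Γ)] {f : Γ → ℂ} (h : Prin M f) (x : Γ) :
    f x = ∑ χ : IrrCharacter Γ with χ ∈ principalBlock M Γ,
      classInner f (χ : Γ → ℂ) * (χ : Γ → ℂ) x := by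
  rw [← blockPart_sum, h]

theorem Prin.comp {C : Type*} [Group C] [Finite C] (hM : IsPModular 2 M) {π : Γ →* C}
    (hπ : Function.Surjective π) {f : C → ℂ} (hf : Prin M f) : Prin M (fun x => f (π x)) :=
  blockPart_comp hM hπ hf

theorem centralChar_conj {χ : Γ → ℂ} (hχ : IsClassFunction Γ χ) (g x : Γ) :
    centralChar χ (g * x * g⁻¹) = centralChar χ x := by
  have h1 := Blocks.Covering.centralChar_comp_equiv (MulAut.conj g) χ x
  rw [MulAut.conj_apply] at h1
  rw [← h1]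
  congr 1
  funext y
  rw [MulAut.conj_apply, hχ y g]

/-- Criterion by sections. -/
theorem prin_of_section (hM : IsPModular 2 M) {t : Γ} (ht : t * t = 1)
    (htc : ∀ g : Γ, g * t * g⁻¹ = t) {ϑ : Γ → ℂ} (hϑ : IsClassFunction Γ ϑ)
    (hs : ∀ x, ϑ x ≠ 0 → t ∈ Subgroup.zpowers x)
    (h : ∀ a : Γ, (∃ k : ℕ, orderOf a = 2 ^ k) → t ∈ Subgroup.zpowers a →
      ∃ η : Subgroup.centralizer ({a} : Set Γ) → ℂ, Prin M η ∧
        ∀ y : Subgroup.centralizer ({a} : Set Γ), Odd (orderOf y) → ϑ (a * y) = η y) :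
    Prin M ϑ := by
  have : Fact (Nat.Prime 2) := ⟨Nat.prime_two⟩
  funext x
  by_cases hx : t ∈ Subgroup.zpowers x
  · obtain ⟨a, hpp⟩ := Blocks.SecondMain.exists_isPPart Nat.prime_two x
    have hta := (mem_zpowers_iff_of_isPPart ht hpp).1 hx
    obtain ⟨y, rfl, hc, hord, hy⟩ := hpp
    obtain ⟨η, h1, h2⟩ := h a hord hta
    have hyC : y ∈ Subgroup.centralizer ({a} : Set Γ) := by
      rw [Subgroup.mem_centralizer_singleton_iff]
      exact hc.eq.symm
    have hy' : ¬ 2 ∣ orderOf (⟨y, hyC⟩ : Subgroup.centralizer ({a} : Set Γ)) := by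
      rwa [Subgroup.orderOf_mk]
    have hyo : Odd (orderOf (⟨y, hyC⟩ : Subgroup.centralizer ({a} : Set Γ))) :=
      Nat.not_even_iff_odd.1 fun h3 => hy' (even_iff_two_dvd.1 h3)
    have h3 := section_part hM a hord rfl hϑ ⟨y, hyC⟩ hy'
    rw [h3]
    have hcl : IsClassFunction (Subgroup.centralizer ({a} : Set Γ))
        (fun c : Subgroup.centralizer ({a} : Set Γ) => ϑ (a * (c : Γ))) := by
      intro g k
      have h4 : k * a = a * k := Subgroup.mem_centralizer_singleton_iff.1 k.2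
      have h5 : a * ((k * g * k⁻¹ : Subgroup.centralizer ({a} : Set Γ)) : Γ) =
          (k : Γ) * (a * (g : Γ)) * (k : Γ)⁻¹ := by
        push_cast
        rw [← mul_assoc, ← mul_assoc, ← mul_assoc, h4]
      change ϑ (a * ((k * g * k⁻¹ : Subgroup.centralizer ({a} : Set Γ)) : Γ)) = ϑ (a * (g : Γ))
      rw [h5, hϑ]
    rw [blockPart_of_odd hM hcl h1 (fun y hy => h2 y hy) hyo]
    exact (h2 _ hyo).symm
  · have h1 : ϑ x = 0 := by
      by_contra h0
      exact hx (hs x h0)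
    rw [h1]
    by_contra h0
    exact hx (blockPart_supp hM ht htc hϑ hs x h0)

end Prin

section C

variable {C : Type*} [Group C] [Fintype C] {t : C} {q : ℕ} {ε : ℤ} {Z T T' U : Subgroup C}
  {s s' u : C} {M : Ideal AlgInt}

theorem index_ZU (hb : Base q Z U) {z v : C} (hz : z ∈ Z) (hv : v ∈ U) (hv1 : v ≠ 1) :
    ((Subgroup.centralizer ({z * v} : Set C)).index : ℂ) = (q : ℂ) ^ 2 - 1 := by
  have h0 : Subgroup.centralizer ({z * v} : Set C) = hb.ZU := by
    ext c
    rw [Subgroup.mem_centralizer_singleton_iff, hb.mem_ZU]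
    constructor
    · intro h1
      refine hb.cent_U v hv hv1 c ?_
      have h2 : z * (c * v) = z * (v * c) := by
        rw [← mul_assoc, ← hb.Z_central z hz c, mul_assoc, h1, mul_assoc]
      exact mul_left_cancel h2
    · rintro ⟨z', hz', v', hv', rfl⟩
      calc z' * v' * (z * v) = z' * (v' * z) * v := by group
        _ = z' * (z * v') * v := by rw [hb.Z_central z hz v']
        _ = (z' * z) * (v' * v) := by group
        _ = (z * z') * (v * v') := by rw [hb.Z_central z hz z', hb.U_comm v' hv' v hv]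
        _ = z * (z' * v) * v' := by group
        _ = z * (v * z') * v' := by rw [← hb.Z_central z' hz' v]
        _ = z * v * (z' * v') := by group
  have h1 : (Nat.card hb.ZU : ℂ) * ((Subgroup.centralizer ({z * v} : Set C)).index : ℂ) =
      Nat.card C := by
    rw [h0]
    exact_mod_cast hb.ZU.card_mul_index
  rw [hb.card_ZU, hb.card_C_cast] at h1
  have h2 := hb.card_Z_ne
  have h3 := hb.q_ne
  push_cast at h1
  have h4 : ((Nat.card Z : ℂ) * q) *
      (((Subgroup.centralizer ({z * v} : Set C)).index : ℂ) - (q ^ 2 - 1)) = 0 := by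
    linear_combination h1
  exact sub_eq_zero.1 ((mul_eq_zero.1 h4).resolve_left (mul_ne_zero h2 h3))

/-- An even integer times a unit is in the local ideal. -/
theorem memLocalIdeal_q (hM : IsPModular 2 M) (hb : Base q Z U) :
    MemLocalIdeal M ((q : ℂ) ^ 2 - 1) := by
  have h1 : MemLocalIdeal M (((q : ℤ) ^ 2 - 1 : ℤ) : ℂ) := by
    rw [memLocalIdeal_intCast_iff hM]
    obtain ⟨k, hk⟩ := hb.odd_q
    exact ⟨2 * k ^ 2 + 2 * k, by rw [hk]; push_cast; ring⟩
  push_cast at h1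
  exact h1

/-- `R_T(1)` is in the span of the principal block. -/
theorem prin_R_one (h : CHyp t q ε Z T T' U s s' u) (hM : IsPModular 2 M) {μ : U →* ℂˣ}
    (hμ : ∃ v : U, μ v ≠ 1) : Prin M (Torus.R T h.base μ (fun _ => 1)) := by
  classical
  have hMp := isPrime_of_isPModular hM
  have hb := h.base
  set R := Torus.R T h.base μ (fun _ => (1 : ℂ)) with hR
  set X : C → ℂ := R - 1 with hX
  have hRcl : IsClassFunction C R := Torus.R_isClassFunction _ _
  have hone : IsClassFunction C (1 : C → ℂ) := Core.isIrr_isClassFunction Core.isIrr_one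
  have hXcl : IsClassFunction C X := by
    intro g k
    rw [hX, Pi.sub_apply, Pi.sub_apply, hRcl g k, hone g k]
  -- values
  have vZ : ∀ x ∈ Z, X x = ε * q := by
    intro x hx
    rw [hX, Pi.sub_apply, hR, h.torus.R_Z h.base _ hx, Pi.one_apply]
    ring
  have vT : ∀ x ∈ T, x ∉ Z → X x = 1 := by
    intro x hx hxZ
    rw [hX, Pi.sub_apply, hR, h.torus.R_T h.base _ hx hxZ, Pi.one_apply]
    ring
  have vT' : ∀ x ∈ T', x ∉ Z → X x = -1 := by
    intro x hx hxZ
    rw [hX, Pi.sub_apply, hR, h.torus.R_T' h.torus' h.eps_ne.symm h.base _ hx hxZ, Pi.one_apply]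
    ring
  have vU : ∀ x ∈ Z, ∀ v ∈ U, v ≠ 1 → X (x * v) = 0 := by
    intro x hx v hv hv1
    rw [hX, Pi.sub_apply, hR, h.torus.R_ZU h.base hμ _ hx hv hv1, Pi.one_apply]
    ring
  have hε : (ε : ℂ) * ε = 1 := by exact_mod_cast h.torus.sq_sign
  have hq0 := hb.q_ne
  have hε0 : (ε : ℂ) ≠ 0 := by
    intro h0
    rw [h0, zero_mul] at hε
    exact zero_ne_one hε
  -- `X` is irreducible up to sign
  have hgen : IsGeneralizedCharacter C X := by
    have h1 : IsGeneralizedCharacter C R := by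
      refine h.torus.isGeneralized_R h.base ?_
      exact Brauer.isGeneralizedCharacter_of_isCharacter (Core.isCharacter_one (G := T))
    have h2 : IsGeneralizedCharacter C (1 : C → ℂ) :=
      Brauer.isGeneralizedCharacter_of_isCharacter Core.isCharacter_one
    have h3 := Brauer.isGeneralizedCharacter_add h1 (Brauer.isGeneralizedCharacter_neg h2)
    rwa [← sub_eq_add_neg] at h3
  have hRR : classInner R R = 2 := by
    rw [hR, h.torus.classInner_R_R h.base hμ]
    rw [ssum_congr (F' := fun _ => (2 : ℂ)) (fun x _ => by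
      rw [map_add, map_one]; norm_num), ssum_const]
    have h3 : (Nat.card T : ℂ) ≠ 0 := Core.card_ne_zero_complex
    field_simp
  have hR1 : classInner R (1 : C → ℂ) = 1 := by
    have h4 : ∀ x, (1 : C → ℂ) x =
        (1 / 2) * (R x + Torus.R T' h.base μ (fun _ => 1) x) := by
      intro x
      have h5 := h.torus.R_add_R h.torus' rfl h.base hμ h.exhaust (f := fun _ => (1 : ℂ))
        (fun _ _ => rfl) (fun _ _ _ _ => rfl) x
      rw [← hR] at h5
      rw [h5, Pi.one_apply]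
      ring
    have h6 : (1 : C → ℂ) = (1 / 2 : ℂ) • (R + Torus.R T' h.base μ (fun _ => 1)) := by
      funext x
      rw [Pi.smul_apply, Pi.add_apply, smul_eq_mul]
      exact h4 x
    rw [h6, Core.classInner_smul_right, Core.classInner_add_right, hRR, hR,
      h.torus.classInner_R_R' h.torus' rfl h.base hμ, add_zero, map_div₀, map_one, map_ofNat]
    norm_num
  have h1R : classInner (1 : C → ℂ) R = 1 := by
    rw [← Core.classInner_conj_symm, hR1, map_one]
  have h11 : classInner (1 : C → ℂ) (1 : C → ℂ) = 1 := Core.classInner_irr_self Core.isIrr_one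
  have hnorm : classInner X X = 1 := by
    rw [hX, Core.classInner_sub_left, Core.classInner_sub_right, Core.classInner_sub_right, hRR,
      hR1, h1R, h11]
    norm_num
  -- central characters
  have hcc : ∀ x, MemLocalIdeal M (centralChar (fun _ : C => (1 : ℂ)) x - centralChar X x) := by
    intro x
    obtain ⟨g, hg⟩ := h.exhaust x
    rw [← centralChar_conj hXcl g x,
      ← centralChar_conj (χ := fun _ : C => (1 : ℂ)) (fun _ _ => rfl) g x]
    generalize g * x * g⁻¹ = y at hg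
    have e1 : centralChar (fun _ : C => (1 : ℂ)) y =
        ((Subgroup.centralizer ({y} : Set C)).index : ℂ) := by
      unfold centralChar
      rw [mul_one, div_one]
    have e2 : centralChar X y =
        ((Subgroup.centralizer ({y} : Set C)).index : ℂ) * (X y * ε / q) := by
      unfold centralChar
      rw [vZ 1 (one_mem Z)]
      field_simp
      linear_combination (-((Subgroup.centralizer ({y} : Set C)).index : ℂ) * X y) * hε
    rw [e1, e2]
    have hq1 := memLocalIdeal_q hM h.base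
    rcases hg with hy | hy | ⟨z, hz, v, hv, rfl⟩
    · by_cases hyZ : y ∈ Z
      · have e3 : (ε : ℂ) * q * ε / q = 1 := by
          field_simp
          linear_combination hε
        rw [vZ y hyZ, e3, mul_one, sub_self]
        exact memLocalIdeal_zero
      · rw [vT y hy hyZ, h.torus.index_centralizer h.base hy hyZ]
        convert hq1 using 1
        field_simp
        linear_combination (-1 : ℂ) * hε
    · by_cases hyZ : y ∈ Z
      · have e3 : (ε : ℂ) * q * ε / q = 1 := by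
          field_simp
          linear_combination hε
        rw [vZ y hyZ, e3, mul_one, sub_self]
        exact memLocalIdeal_zero
      · rw [vT' y hy hyZ, h.torus'.index_centralizer h.base hy hyZ]
        convert hq1 using 1
        push_cast
        field_simp
        linear_combination (-1 : ℂ) * hε
    · by_cases hv1 : v = 1
      · have e3 : (ε : ℂ) * q * ε / q = 1 := by
          field_simp
          linear_combination hε
        rw [hv1, mul_one, vZ z hz, e3, mul_one, sub_self]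
        exact memLocalIdeal_zero
      · rw [vU z hz v hv hv1, zero_mul, zero_div, mul_zero, sub_zero, index_ZU h.base hz hv hv1]
        exact hq1
  have hXP : Prin M X := by
    rcases Core.isIrr_of_generalized hgen hnorm with h1 | h1
    · exact (blockPart_irr (principalBlock M C) ⟨X, h1⟩).1 hcc
    · have h2 : Prin M (-X) := by
        refine (blockPart_irr (principalBlock M C) ⟨-X, h1⟩).1 ?_
        intro x
        have h3 : centralChar (-X) x = centralChar X x := by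
          unfold centralChar
          rw [Pi.neg_apply, Pi.neg_apply, mul_neg, neg_div_neg_eq]
        change MemLocalIdeal M (centralChar (fun _ : C => (1 : ℂ)) x - centralChar (-X) x)
        rw [h3]
        exact hcc x
      have := h2.neg
      rwa [neg_neg] at this
  have h9 : R = X + 1 := by rw [hX]; abel
  rw [h9]
  exact hXP.add (prin_one hM)

/-- `R_T'(1)` is in the span of the principal block. -/
theorem prin_R'_one (h : CHyp t q ε Z T T' U s s' u) (hM : IsPModular 2 M) {μ : U →* ℂˣ}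
    (hμ : ∃ v : U, μ v ≠ 1) : Prin M (Torus.R T' h.base μ (fun _ => 1)) := by
  have h1 : Torus.R T' h.base μ (fun _ => (1 : ℂ)) =
      (2 : ℂ) • (1 : C → ℂ) - Torus.R T h.base μ (fun _ => 1) := by
    funext x
    have h5 := h.torus.R_add_R h.torus' rfl h.base hμ h.exhaust (f := fun _ => (1 : ℂ))
      (fun _ _ => rfl) (fun _ _ _ _ => rfl) x
    rw [Pi.sub_apply, Pi.smul_apply, Pi.one_apply, smul_eq_mul]
    linear_combination h5
  rw [h1]
  exact ((prin_one hM).smul 2).sub (prin_R_one h hM hμ)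

theorem mem_zpowers_conj {x g : C} (htc : ∀ c : C, c * t * c⁻¹ = t)
    (h : t ∈ Subgroup.zpowers x) : t ∈ Subgroup.zpowers (g * x * g⁻¹) := by
  obtain ⟨k, hk⟩ := Subgroup.mem_zpowers_iff.1 h
  refine Subgroup.mem_zpowers_iff.2 ⟨k, ?_⟩
  rw [conj_zpow, hk, htc]

theorem t_conj (h : CHyp t q ε Z T T' U s s' u) (c : C) : c * t * c⁻¹ = t := by
  rw [h.Z_central t h.t_mem c, mul_assoc, mul_inv_cancel, mul_one]

theorem odd_of_mul_ZU (h : CHyp t q ε Z T T' U s s' u) {z v : C} (hz : z ∈ Z) (hv : v ∈ U)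
    (ho : Odd (orderOf (z * v))) : Odd (orderOf z) := by
  have h1 : z ^ orderOf (z * v) * v ^ orderOf (z * v) = 1 := by
    rw [← (show Commute z v from (h.Z_central z hz v).symm).mul_pow, pow_orderOf_eq_one]
  have h2 : z ^ orderOf (z * v) = 1 := by
    refine h.base.eq_one_of_mem (pow_mem hz _) ?_
    rw [eq_inv_of_mul_eq_one_left h1]
    exact inv_mem (pow_mem hv _)
  exact Odd.of_dvd_nat ho (orderOf_dvd_of_pow_eq_one h2)

/-- `x ∉ Z` a 2-element, `y` of odd order commuting with `x`: then `x y ∉ Z`. -/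
theorem mul_notMem_Z {x y : C} (hc : Commute x y) (hx : ∃ k : ℕ, orderOf x = 2 ^ k)
    (hy : Odd (orderOf y)) (hxZ : x ∉ Z) : x * y ∉ Z := by
  intro h5
  apply hxZ
  have h7 : (x * y) ^ orderOf y = x ^ orderOf y := by
    rw [hc.mul_pow, pow_orderOf_eq_one, mul_one]
  obtain ⟨k, hk⟩ := hx
  have h8 : Nat.Coprime (orderOf y) (orderOf x) := by
    rw [hk]
    exact Nat.Coprime.pow_right _ (Nat.coprime_two_right.2 hy)
  obtain ⟨l, hl⟩ := exists_pow_eq_self_of_coprime h8
  rw [← hl, ← h7]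
  exact pow_mem (pow_mem h5 _) _

/-- A 2-element of `Z U` is in `Z`. -/
theorem eq_one_of_two_ZU (h : CHyp t q ε Z T T' U s s' u) {z v : C} (hz : z ∈ Z) (hv : v ∈ U)
    (ho : ∃ k : ℕ, orderOf (z * v) = 2 ^ k) : v = 1 := by
  obtain ⟨k, hk⟩ := ho
  have h1 : z ^ 2 ^ k * v ^ 2 ^ k = 1 := by
    rw [← (show Commute z v from (h.Z_central z hz v).symm).mul_pow, ← hk, pow_orderOf_eq_one]
  have h2 : v ^ 2 ^ k = 1 := by
    refine h.base.eq_one_of_mem ?_ (pow_mem hv _)
    rw [eq_inv_of_mul_eq_one_right h1]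
    exact inv_mem (pow_mem hz _)
  have h3 := orderOf_dvd_of_pow_eq_one h2
  have h4 : Nat.Coprime (orderOf v) (2 ^ k) :=
    Nat.Coprime.pow_right _ (Nat.coprime_two_right.2 (h.odd_orderOf_U hv))
  exact orderOf_eq_one_iff.1 (Nat.eq_one_of_dvd_coprimes h4 dvd_rfl h3)

/-- `R_T(g)` on the section of an element of `Z`. -/
theorem R_section (h : CHyp t q ε Z T T' U s s' u) {δ : ℤ} {T₁ T₂ : Subgroup C} {s₁ s₂ : C}
    (hT : Torus q δ Z T₁ s₁) (hT₂ : Torus q (-δ) Z T₂ s₂)
    (hexh : ∀ c : C, ∃ g : C, g * c * g⁻¹ ∈ T₁ ∨ g * c * g⁻¹ ∈ T₂ ∨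
      ∃ z ∈ Z, ∃ v ∈ U, g * c * g⁻¹ = z * v)
    {μ : U →* ℂˣ} (hμ : ∃ v : U, μ v ≠ 1) {g : C → ℂ} {a : C} (ha : a ∈ Z)
    (hg : ∀ y ∈ T₁, Odd (orderOf y) → g (a * y) = g a) {y : C} (hy : Odd (orderOf y)) :
    Torus.R T₁ h.base μ g (a * y) = g a * Torus.R T₁ h.base μ (fun _ => 1) y := by
  obtain ⟨c, hc⟩ := hexh y
  have e0 : c * (a * y) * c⁻¹ = a * (c * y * c⁻¹) := by
    calc c * (a * y) * c⁻¹ = (c * a) * y * c⁻¹ := by group
      _ = a * (c * y * c⁻¹) := by rw [h.Z_central a ha c]; group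
  rw [← Torus.R_isClassFunction h.base g (a * y) c,
    ← Torus.R_isClassFunction h.base (fun _ => (1 : ℂ)) y c, e0]
  have hyo : Odd (orderOf (c * y * c⁻¹)) := by
    have h1 : orderOf (c * y * c⁻¹) = orderOf y := (MulAut.conj c).orderOf_eq y
    rwa [h1]
  generalize c * y * c⁻¹ = w at hc hyo
  have hne : -δ ≠ δ := by
    rcases hT.sign with h1 | h1 <;> rw [h1] <;> decide
  have hnot : ∀ {w : C}, w ∉ Z → a * w ∉ Z := fun hw h1 => hw ((Z.mul_mem_cancel_left ha).1 h1)
  rcases hc with hw | hw | ⟨z, hz, v, hv, rfl⟩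
  · by_cases hwZ : w ∈ Z
    · rw [hT.R_Z h.base _ (mul_mem ha hwZ), hT.R_Z h.base _ hwZ, hg w hw hyo]
      ring
    · have hso : Odd (orderOf (s₁ * w * s₁⁻¹)) := by
        have h1 : orderOf (s₁ * w * s₁⁻¹) = orderOf w := (MulAut.conj s₁).orderOf_eq w
        rwa [h1]
      have e1 : s₁ * (a * w) * s₁⁻¹ = a * (s₁ * w * s₁⁻¹) := by
        calc s₁ * (a * w) * s₁⁻¹ = (s₁ * a) * w * s₁⁻¹ := by group
          _ = a * (s₁ * w * s₁⁻¹) := by rw [h.Z_central a ha s₁]; group
      rw [hT.R_T h.base _ (mul_mem (hT.Z_le ha) hw) (hnot hwZ), hT.R_T h.base _ hw hwZ, e1,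
        hg w hw hyo, hg _ (hT.s_conj w hw) hso]
      ring
  · by_cases hwZ : w ∈ Z
    · rw [hT.R_Z h.base _ (mul_mem ha hwZ), hT.R_Z h.base _ hwZ, hg w (hT.Z_le hwZ) hyo]
      ring
    · rw [hT.R_T' hT₂ hne h.base _ (mul_mem (hT₂.Z_le ha) hw) (hnot hwZ),
        hT.R_T' hT₂ hne h.base _ hw hwZ, mul_zero]
  · rw [← mul_assoc]
    have hzo := odd_of_mul_ZU h hz hv hyo
    by_cases hv1 : v = 1
    · rw [hv1, mul_one, mul_one, hT.R_Z h.base _ (mul_mem ha hz), hT.R_Z h.base _ hz,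
        hg z (hT.Z_le hz) hzo]
      ring
    · rw [hT.R_ZU h.base hμ _ (mul_mem ha hz) hv hv1, hT.R_ZU h.base hμ _ hz hv hv1,
        hg z (hT.Z_le hz) hzo]
      ring

/-- `R_T(g)` on the section of a 2-element outside `Z`. -/
theorem R_section_T (h : CHyp t q ε Z T T' U s s' u) {δ : ℤ} {T₁ T₂ : Subgroup C} {s₁ s₂ : C}
    (hT : Torus q δ Z T₁ s₁) (hT₂ : Torus q (-δ) Z T₂ s₂)
    (hexh : ∀ c : C, ∃ g : C, g * c * g⁻¹ ∈ T₁ ∨ g * c * g⁻¹ ∈ T₂ ∨
      ∃ z ∈ Z, ∃ v ∈ U, g * c * g⁻¹ = z * v)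
    {μ : U →* ℂˣ} {g : C → ℂ}
    (hg : ∀ x ∈ T₁, t ∈ Subgroup.zpowers x → ∀ y ∈ T₁, Odd (orderOf y) → g (x * y) = g x)
    {a : C} (ha : a ∉ Z) (ha2 : ∃ k : ℕ, orderOf a = 2 ^ k) (hta : t ∈ Subgroup.zpowers a)
    {y : C} (hc : Commute a y) (hy : Odd (orderOf y)) :
    Torus.R T₁ h.base μ g (a * y) = Torus.R T₁ h.base μ g a := by
  obtain ⟨c, hcc⟩ := hexh a
  have e0 : c * (a * y) * c⁻¹ = (c * a * c⁻¹) * (c * y * c⁻¹) := by group
  rw [← Torus.R_isClassFunction h.base g (a * y) c, ← Torus.R_isClassFunction h.base g a c, e0]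
  have hyo : Odd (orderOf (c * y * c⁻¹)) := by
    have h1 : orderOf (c * y * c⁻¹) = orderOf y := (MulAut.conj c).orderOf_eq y
    rwa [h1]
  have ha2' : ∃ k : ℕ, orderOf (c * a * c⁻¹) = 2 ^ k := by
    have h1 : orderOf (c * a * c⁻¹) = orderOf a := (MulAut.conj c).orderOf_eq a
    rwa [h1]
  have hta' : t ∈ Subgroup.zpowers (c * a * c⁻¹) := mem_zpowers_conj (t_conj h) hta
  have haZ : c * a * c⁻¹ ∉ Z := by
    intro h1
    apply ha
    have h2 : a = c⁻¹ * ((c * a * c⁻¹) * c) := by group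
    rw [h2, ← h.Z_central _ h1 c, ← mul_assoc, inv_mul_cancel, one_mul]
    exact h1
  have hcom : Commute (c * a * c⁻¹) (c * y * c⁻¹) := by
    show c * a * c⁻¹ * (c * y * c⁻¹) = c * y * c⁻¹ * (c * a * c⁻¹)
    calc c * a * c⁻¹ * (c * y * c⁻¹) = c * (a * y) * c⁻¹ := by group
      _ = c * (y * a) * c⁻¹ := by rw [hc.eq]
      _ = c * y * c⁻¹ * (c * a * c⁻¹) := by group
  generalize c * a * c⁻¹ = x at *
  generalize c * y * c⁻¹ = w at *
  have hne : -δ ≠ δ := by
    rcases hT.sign with h1 | h1 <;> rw [h1] <;> decide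
  have hxw : x * w ∉ Z := mul_notMem_Z hcom ha2' hyo haZ
  rcases hcc with hx | hx | ⟨z, hz, v, hv, rfl⟩
  · have hw : w ∈ T₁ := hT.cent x hx haZ w hcom.eq.symm
    have hso : Odd (orderOf (s₁ * w * s₁⁻¹)) := by
      have h1 : orderOf (s₁ * w * s₁⁻¹) = orderOf w := (MulAut.conj s₁).orderOf_eq w
      rwa [h1]
    have e1 : s₁ * (x * w) * s₁⁻¹ = (s₁ * x * s₁⁻¹) * (s₁ * w * s₁⁻¹) := by group
    rw [hT.R_T h.base _ (mul_mem hx hw) hxw, hT.R_T h.base _ hx haZ, e1, hg x hx hta' w hw hyo,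
      hg _ (hT.s_conj x hx) (mem_zpowers_conj (t_conj h) hta') _ (hT.s_conj w hw) hso]
  · have hw : w ∈ T₂ := hT₂.cent x hx haZ w hcom.eq.symm
    rw [hT.R_T' hT₂ hne h.base _ (mul_mem hx hw) hxw, hT.R_T' hT₂ hne h.base _ hx haZ]
  · exfalso
    apply haZ
    rw [eq_one_of_two_ZU h hz hv ha2', mul_one]
    exact hz

/-- **The functions `R_T(g)` in the span of the principal block.** -/
theorem prin_R_aux (h : CHyp t q ε Z T T' U s s' u) (hM : IsPModular 2 M) {δ : ℤ}
    {T₁ T₂ : Subgroup C} {s₁ s₂ : C}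
    (hT : Torus q δ Z T₁ s₁) (hT₂ : Torus q (-δ) Z T₂ s₂)
    (hexh : ∀ c : C, ∃ g : C, g * c * g⁻¹ ∈ T₁ ∨ g * c * g⁻¹ ∈ T₂ ∨
      ∃ z ∈ Z, ∃ v ∈ U, g * c * g⁻¹ = z * v)
    {μ : U →* ℂˣ} (hμ : ∃ v : U, μ v ≠ 1) (h1 : Prin M (Torus.R T₁ h.base μ (fun _ => 1)))
    {g : C → ℂ} (hg0 : ∀ x ∈ T₁, g x ≠ 0 → t ∈ Subgroup.zpowers x)
    (hg : ∀ x ∈ T₁, t ∈ Subgroup.zpowers x → ∀ y ∈ T₁, Odd (orderOf y) → g (x * y) = g x) :
    Prin M (Torus.R T₁ h.base μ g) := by
  refine prin_of_section hM h.z_sq (t_conj h) (Torus.R_isClassFunction _ _)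
    (fun x hx => R_support h hT μ hg0 hx) ?_
  intro a ha2 hta
  by_cases haZ : a ∈ Z
  · refine ⟨fun y => (g a • Torus.R T₁ h.base μ (fun _ => 1))
      ((Subgroup.centralizer ({a} : Set C)).subtype y), Prin.comp hM ?_ (h1.smul (g a)), ?_⟩
    · intro c
      refine ⟨⟨c, ?_⟩, rfl⟩
      rw [Subgroup.mem_centralizer_singleton_iff]
      exact h.Z_central a haZ c
    · intro y hy
      have hyo : Odd (orderOf (y : C)) := by rwa [Subgroup.orderOf_coe]
      rw [R_section h hT hT₂ hexh hμ haZ (hg a (hT.Z_le haZ) hta) hyo]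
      rfl
  · refine ⟨Torus.R T₁ h.base μ g a • 1, (prin_one hM).smul _, ?_⟩
    intro y hy
    have hyo : Odd (orderOf (y : C)) := by rwa [Subgroup.orderOf_coe]
    rw [Pi.smul_apply, Pi.one_apply, smul_eq_mul, mul_one]
    exact R_section_T h hT hT₂ hexh hg haZ ha2 hta
      (Subgroup.mem_centralizer_singleton_iff.1 y.2).symm hyo

theorem prin_R (h : CHyp t q ε Z T T' U s s' u) (hM : IsPModular 2 M)
    {μ : U →* ℂˣ} (hμ : ∃ v : U, μ v ≠ 1)
    {g : C → ℂ} (hg0 : ∀ x ∈ T, g x ≠ 0 → t ∈ Subgroup.zpowers x)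
    (hg : ∀ x ∈ T, t ∈ Subgroup.zpowers x → ∀ y ∈ T, Odd (orderOf y) → g (x * y) = g x) :
    Prin M (Torus.R T h.base μ g) :=
  prin_R_aux h hM h.torus h.torus' h.exhaust hμ (prin_R_one h hM hμ) hg0 hg

theorem prin_R' (h : CHyp t q ε Z T T' U s s' u) (hM : IsPModular 2 M)
    {μ : U →* ℂˣ} (hμ : ∃ v : U, μ v ≠ 1)
    {g : C → ℂ} (hg0 : ∀ x ∈ T', g x ≠ 0 → t ∈ Subgroup.zpowers x)
    (hg : ∀ x ∈ T', t ∈ Subgroup.zpowers x → ∀ y ∈ T', Odd (orderOf y) → g (x * y) = g x) :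
    Prin M (Torus.R T' h.base μ g) := by
  have h2 : Torus q (- -ε) Z T s := by rw [neg_neg]; exact h.torus
  refine prin_R_aux h hM h.torus' h2 ?_ hμ (prin_R'_one h hM hμ) hg0 hg
  intro c
  obtain ⟨g, h3 | h3 | h3⟩ := h.exhaust c
  · exact ⟨g, Or.inr (Or.inl h3)⟩
  · exact ⟨g, Or.inl h3⟩
  · exact ⟨g, Or.inr (Or.inr h3)⟩

/-- A function in the span of the principal block at `x y`, `x` a 2-element outside `Z` of a
torus, `y` of odd order in this torus. -/
theorem Prin.mul_odd (hM : IsPModular 2 M) {F : C → ℂ} (hF : Prin M F) {δ : ℤ} {T₁ : Subgroup C}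
    {s₁ : C} (hT : Torus q δ Z T₁ s₁) {x y : C} (hx : x ∈ T₁) (hxZ : x ∉ Z)
    (hx2 : ∃ k : ℕ, orderOf x = 2 ^ k) (hy : y ∈ T₁) (hyo : Odd (orderOf y)) :
    F (x * y) = F x := by
  classical
  have : Fact (Nat.Prime 2) := ⟨Nat.prime_two⟩
  have : Finite (IrrCharacter C) := Core.finite_irr
  have := Fintype.ofFinite (IrrCharacter C)
  rw [hF.apply, hF.apply]
  refine Finset.sum_congr rfl fun χ hχ => ?_
  congr 1
  have h1 := Blocks.PrincipalConstGen.irr_const 2 M hM (u := x) hx2 (Subgroup.zpowers y) ?_ ?_ ?_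
    (y := 1) (n := y) (Commute.one_right _) (by rw [orderOf_one]; norm_num)
    (Subgroup.mem_zpowers y) χ (Finset.mem_filter.1 hχ).2
  · rwa [mul_one] at h1
  · rintro n ⟨k, rfl⟩
    exact (show Commute x y from hT.comm x hx y hy).zpow_right k
  · rintro c hc n ⟨k, rfl⟩
    have hcT : c ∈ T₁ := hT.cent x hx hxZ c hc.eq.symm
    have h2 : Commute c (y ^ k) := (show Commute c y from hT.comm c hcT y hy).zpow_right k
    have h3 : c * y ^ k * c⁻¹ = y ^ k := by rw [h2.eq, mul_assoc, mul_inv_cancel, mul_one]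
    simp only [h3]
    exact ⟨k, rfl⟩
  · rw [Nat.card_zpowers]
    exact Nat.coprime_two_right.2 hyo

/-- A function in the span of the principal block on the section of an element of `Z`. -/
theorem Prin.eval (h : CHyp t q ε Z T T' U s s' u) (hM : IsPModular 2 M) {μ : U →* ℂˣ}
    (hμ : ∃ v : U, μ v ≠ 1) {F : C → ℂ} (hF : Prin M F) {ζ : C} (hζ : ζ ∈ Z) :
    ∃ a b : ℂ, ∀ y : C, Odd (orderOf y) → F (ζ * y) = ev T T' h.base μ a b y := by
  classical
  have : Finite (IrrCharacter C) := Core.finite_irr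
  have := Fintype.ofFinite (IrrCharacter C)
  have hcen : ζ ∈ Subgroup.center C :=
    Subgroup.mem_center_iff.2 fun g => h.Z_central ζ hζ g
  have hex : ∀ χ : IrrCharacter C, ∃ ab : ℂ × ℂ, χ ∈ principalBlock M C → ∀ y : C,
      Odd (orderOf y) → (χ : C → ℂ) (ζ * y) = ev T T' h.base μ ab.1 ab.2 y := by
    intro χ
    by_cases hχ : χ ∈ principalBlock M C
    · obtain ⟨a, b, hab⟩ := h.exists_eval hM hχ hμ
      obtain ⟨c, -, hc⟩ := Blocks.CentralizerSum.exists_central_scalar χ.2 hcen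
      refine ⟨(c * a, c * b), fun _ y hy => ?_⟩
      rw [hc, hab y hy]
      unfold ev
      ring
    · exact ⟨0, fun h1 => absurd h1 hχ⟩
  choose ab hab using hex
  refine ⟨∑ χ : IrrCharacter C with χ ∈ principalBlock M C, classInner F (χ : C → ℂ) * (ab χ).1,
    ∑ χ : IrrCharacter C with χ ∈ principalBlock M C, classInner F (χ : C → ℂ) * (ab χ).2,
    fun y hy => ?_⟩
  rw [hF.apply]
  unfold ev
  rw [Finset.sum_mul, Finset.sum_mul, ← Finset.sum_add_distrib, Finset.sum_div]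
  refine Finset.sum_congr rfl fun χ hχ => ?_
  rw [hab χ (Finset.mem_filter.1 hχ).2 y hy]
  unfold ev
  ring

/-- **The modified values on the tori.** -/
theorem Prin.GG_eq (hC : CHyp t q ε Z T T' U s s' u) (hM : IsPModular 2 M) {F : C → ℂ}
    (hF : Prin M F) {v₀ : C} (hv₀ : v₀ ∈ U) (hv₀1 : v₀ ≠ 1) :
    (∀ x ∈ T, ∀ y ∈ T, Odd (orderOf y) →
      Torus.GG q ε Z F v₀ (x * y) = Torus.GG q ε Z F v₀ x) ∧
    (∀ x ∈ T', ∀ y ∈ T', Odd (orderOf y) →
      Torus.GG q (-ε) Z F v₀ (x * y) = Torus.GG q (-ε) Z F v₀ x) := by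
  have : Fact (Nat.Prime 2) := ⟨Nat.prime_two⟩
  obtain ⟨μ, hμ⟩ := hC.base.exists_mu
  have hv₀o : Odd (orderOf v₀) := hC.odd_orderOf_U hv₀
  -- elements of `Z`
  have hZ : ∀ {δ : ℤ} {T₁ : Subgroup C} {s₁ : C} (_ : Torus q δ Z T₁ s₁)
      (A B : ℂ → ℂ → ℂ)
      (_ : ∀ a b y, y ∈ T₁ → y ∉ Z → ev T T' hC.base μ a b y = A a b)
      (_ : ∀ a b y, y ∈ Z → ev T T' hC.base μ a b y =
        ((1 + δ * q) * A a b + (1 - δ * q) * B a b) / 2)
      (_ : ∀ a b y, y ∈ Z → ev T T' hC.base μ a b (y * v₀) = (A a b + B a b) / 2)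
      (ζ : C) (_ : ζ ∈ Z) (y : C) (_ : y ∈ T₁) (_ : Odd (orderOf y)),
      Torus.GG q δ Z F v₀ (ζ * y) = Torus.GG q δ Z F v₀ ζ := by
    intro δ T₁ s₁ hT A B h1 h2 h3 ζ hζ y hy hyo
    obtain ⟨a, b, hab⟩ := Prin.eval hC hM hμ hF hζ
    have key : ∀ y ∈ T₁, Odd (orderOf y) → Torus.GG q δ Z F v₀ (ζ * y) = A a b := by
      intro y hy hyo
      by_cases hyZ : y ∈ Z
      · refine hT.GG_of_eval hC.base (mul_mem hζ hyZ) (b := B a b) ?_ ?_
        · rw [hab y hyo, h2 a b y hyZ]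
        · rw [mul_assoc, hab (y * v₀) (odd_mul (hC.Z_central y hyZ v₀).symm hyo hv₀o),
            h3 a b y hyZ]
      · rw [Torus.GG_notMem (fun h4 => hyZ ((Z.mul_mem_cancel_left hζ).1 h4)), hab y hyo,
          h1 a b y hy hyZ]
    rw [key y hy hyo]
    have h4 := key 1 (one_mem T₁) (by rw [orderOf_one]; exact odd_one)
    rw [mul_one] at h4
    rw [h4]
  -- general elements
  have hgen : ∀ {δ : ℤ} {T₁ : Subgroup C} {s₁ : C} (_ : Torus q δ Z T₁ s₁)
      (A B : ℂ → ℂ → ℂ)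
      (_ : ∀ a b y, y ∈ T₁ → y ∉ Z → ev T T' hC.base μ a b y = A a b)
      (_ : ∀ a b y, y ∈ Z → ev T T' hC.base μ a b y =
        ((1 + δ * q) * A a b + (1 - δ * q) * B a b) / 2)
      (_ : ∀ a b y, y ∈ Z → ev T T' hC.base μ a b (y * v₀) = (A a b + B a b) / 2)
      (x : C) (_ : x ∈ T₁) (y : C) (_ : y ∈ T₁)
      (_ : Odd (orderOf y)),
      Torus.GG q δ Z F v₀ (x * y) = Torus.GG q δ Z F v₀ x := by
    intro δ T₁ s₁ hT A B h1 h2 h3 x hx y hy hyo
    obtain ⟨m, r, k, hr, hk, hxk, hxr⟩ := CoreConst.exists_exponent C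
    set x₂ := x ^ k with hx₂
    set x' := x₂⁻¹ * x with hx'
    have hx₂T : x₂ ∈ T₁ := pow_mem hx k
    have hx'T : x' ∈ T₁ := mul_mem (inv_mem hx₂T) hx
    have hx'o : Odd (orderOf x') := Odd.of_dvd_nat hr (orderOf_dvd_of_pow_eq_one (hxr x))
    have hx₂o : ∃ k : ℕ, orderOf x₂ = 2 ^ k := by
      obtain ⟨l, -, hl⟩ := (Nat.dvd_prime_pow Nat.prime_two).1 (orderOf_dvd_of_pow_eq_one (hxk x))
      exact ⟨l, hl⟩
    have key : ∀ w ∈ T₁, Odd (orderOf w) →
        Torus.GG q δ Z F v₀ (x₂ * w) = Torus.GG q δ Z F v₀ x₂ := by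
      intro w hw hwo
      by_cases hxZ : x₂ ∈ Z
      · exact hZ hT A B h1 h2 h3 x₂ hxZ w hw hwo
      · have h4 : x₂ * w ∉ Z := mul_notMem_Z (hT.comm _ hx₂T _ hw) hx₂o hwo hxZ
        rw [Torus.GG_notMem h4, Torus.GG_notMem hxZ]
        exact Prin.mul_odd hM hF hT hx₂T hxZ hx₂o hw hwo
    have h5 : x = x₂ * x' := by rw [hx']; group
    have h6 : x * y = x₂ * (x' * y) := by rw [hx']; group
    rw [h6, key _ (mul_mem hx'T hy) (odd_mul (hT.comm _ hx'T _ hy) hx'o hyo)]
    conv_rhs => rw [h5]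
    rw [key _ hx'T hx'o]
  refine ⟨fun x hx y hy hyo => hgen hC.torus (fun a _ => a) (fun _ b => b)
      (fun a b y hy hyZ => ev_T hC μ a b hy hyZ) (fun a b y hy => ev_Z hC μ a b hy)
      (fun a b y hy => ev_ZU hC hμ a b hy hv₀ hv₀1) x hx y hy hyo,
    fun x hx y hy hyo => hgen hC.torus' (fun _ b => b) (fun a _ => a)
      (fun a b y hy hyZ => ev_T' hC μ a b hy hyZ) (fun a b y hy => ?_)
      (fun a b y hy => ?_) x hx y hy hyo⟩
  · rw [ev_Z hC μ a b hy]
    push_cast
    ring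
  · rw [ev_ZU hC hμ a b hy hv₀ hv₀1]
    ring

end C

end Cfsg.Agent.Classification.QDW.Fld
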