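import Mathlib
import Cfsg.Agent.Classification.QDW.FldC
import Cfsg.Agent.Classification.InvCent.GPair

/-!
# The centralizer of an involution with field automorphisms: the induced functions

`G` has one class of involutions, `Γ = C(t)`, `N` normal in `Γ` with `Γ = N C_Γ(S)`, `Γ / N` abelian
of odd order (`AD N S`), `π : N →* C` onto with odd kernel (`FHyp`).

For `f` in the span of the principal 2-block of `C` the canonical lift of `f ∘ π` to `Γ` is a class
function `hat M N (f ∘ π)`; `FInd M π f` is the function on `G` induced from it.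

* `exists_F`: on `N` a character of `G` in the principal 2-block comes from a function in the span
  of the principal 2-block of `C`;
* `FInd_inner`, `FInd_values`, `FInd_one`, `isGeneralized_FInd`, `FInd_odd`, `FInd_apply`;
* `FI`, `FInd_sum`, `FInd_conj`: linearity, complex conjugation.
-/

set_option autoImplicit false
set_option linter.unusedSectionVars false

open Cfsg
open scoped ComplexConjugate

namespace Cfsg.Agent.Classification.QDW.Fld

open Cfsg.Agent.Characters Cfsg.Agent.Blocks.Local Cfsg.Agent.Blocks.Basic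
  Cfsg.Agent.Classification.BGBlockB0 Cfsg.Agent.Classification.InvCent
  Cfsg.Agent.Classification.BGIsometry Cfsg.Agent.Classification.BGOrder

universe w v

/-- `G` has one class of involutions, `Γ = C(t)`, `N` normal in `Γ`, `Γ / N` abelian of odd order,
`Γ = N C_Γ(S)` with `S ≤ N` of odd index in `Γ`, `π : N →* C` onto with odd kernel, `π t = z`. -/
structure FHyp {G : Type w} [Group G] {C : Type v} [Group C] (t : G) (z : C)
    (N S : Subgroup (Subgroup.centralizer ({t} : Set G))) (π : N →* C) : Prop where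
  orderOf_t : orderOf t = 2
  one_class : ∀ x : G, orderOf x = 2 → IsConj t x
  ad : AD N S
  surj : Function.Surjective π
  odd_ker : Odd (Nat.card π.ker)
  t_mem : RTwo.General.tt t ∈ N
  map_t : π ⟨RTwo.General.tt t, t_mem⟩ = z

section Basic

variable {G : Type w} [Group G] {C : Type v} [Group C] {t : G} {z : C}
  {N S : Subgroup (Subgroup.centralizer ({t} : Set G))} {π : N →* C}

/-- `t` as an element of `N`. -/
def tN (H : FHyp t z N S π) : N := ⟨RTwo.General.tt t, H.t_mem⟩

theorem FHyp.map_tN (H : FHyp t z N S π) : π (tN H) = z := H.map_t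

theorem FHyp.t_mul_t (H : FHyp t z N S π) : t * t = 1 := by
  have := pow_orderOf_eq_one t
  rwa [H.orderOf_t, sq] at this

theorem FHyp.tt_mul_tt (H : FHyp t z N S π) : RTwo.General.tt t * RTwo.General.tt t = 1 :=
  Subtype.ext H.t_mul_t

theorem FHyp.tN_mul_tN (H : FHyp t z N S π) : tN H * tN H = 1 := Subtype.ext H.tt_mul_tt

theorem FHyp.t_ne_one (H : FHyp t z N S π) : t ≠ 1 := by
  rintro rfl
  have := H.orderOf_t
  simp at this

theorem FHyp.z_mul_z (H : FHyp t z N S π) : z * z = 1 := by
  rw [← H.map_tN, ← map_mul, H.tN_mul_tN, map_one]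

theorem FHyp.tN_comm (H : FHyp t z N S π) (x : N) : Commute (tN H) x :=
  Subtype.ext (RTwo.General.tt_comm (x : Subgroup.centralizer ({t} : Set G))).eq

theorem FHyp.z_comm (H : FHyp t z N S π) (q : C) : Commute z q := by
  obtain ⟨x, rfl⟩ := H.surj q
  rw [← H.map_tN]
  exact (H.tN_comm x).map π

theorem FHyp.eq_one_of_ker (H : FHyp t z N S π) {x : N} (hx : π x = 1) {m : ℕ}
    (hxm : x ^ 2 ^ m = 1) : x = 1 := by
  have h1 : (⟨x, hx⟩ : π.ker) ^ Nat.card π.ker = 1 := pow_card_eq_one'
  have h2 : x ^ Nat.card π.ker = 1 := congrArg Subtype.val h1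
  have h3 : orderOf x ∣ 2 ^ m := orderOf_dvd_of_pow_eq_one hxm
  have h4 : orderOf x ∣ Nat.card π.ker := orderOf_dvd_of_pow_eq_one h2
  have h5 : Nat.Coprime (2 ^ m) (Nat.card π.ker) :=
    Nat.Coprime.pow_left _ (Nat.coprime_two_left.2 H.odd_ker)
  have h6 := Nat.dvd_gcd h3 h4
  rw [h5] at h6
  exact orderOf_eq_one_iff.1 (Nat.dvd_one.1 h6)

theorem FHyp.z_ne_one (H : FHyp t z N S π) : z ≠ 1 := by
  intro h1
  have h2 : tN H = 1 := H.eq_one_of_ker (x := tN H) (by rw [H.map_tN, h1]) (m := 1)
    (by rw [pow_one, sq]; exact H.tN_mul_tN)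
  exact H.t_ne_one (congrArg (fun x : N => ((x : Subgroup.centralizer ({t} : Set G)) : G)) h2)

/-- `t` is a power of `x` in `N` iff it is in `G`. -/
theorem FHyp.mem_zpowers_iff (H : FHyp t z N S π) {x : N} :
    t ∈ Subgroup.zpowers ((x : Subgroup.centralizer ({t} : Set G)) : G) ↔
      tN H ∈ Subgroup.zpowers x := by
  constructor
  · intro h1
    obtain ⟨k, hk⟩ := Subgroup.mem_zpowers_iff.1 h1
    exact Subgroup.mem_zpowers_iff.2 ⟨k, Subtype.ext (Subtype.ext (by simpa [tN, RTwo.General.tt] using hk))⟩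
  · intro h1
    obtain ⟨k, hk⟩ := Subgroup.mem_zpowers_iff.1 h1
    refine Subgroup.mem_zpowers_iff.2 ⟨k, ?_⟩
    have h2 := congrArg (fun x : N => ((x : Subgroup.centralizer ({t} : Set G)) : G)) hk
    simpa [tN, RTwo.General.tt] using h2

theorem FHyp.mem_zpowers_map (H : FHyp t z N S π) {x : N} :
    t ∈ Subgroup.zpowers ((x : Subgroup.centralizer ({t} : Set G)) : G) ↔
      z ∈ Subgroup.zpowers (π x) := by
  rw [H.mem_zpowers_iff]
  constructor
  · intro hx
    obtain ⟨k, hk⟩ := Subgroup.mem_zpowers_iff.1 hx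
    rw [← H.map_tN, ← hk, map_zpow]
    exact zpow_mem (Subgroup.mem_zpowers _) _
  · intro hx
    obtain ⟨s, hs⟩ := Subgroup.mem_zpowers_iff.1 hx
    have h1 : π (x ^ s * tN H) = 1 := by
      rw [map_mul, map_zpow, hs, H.map_tN, H.z_mul_z]
    have h2 : (x ^ s * tN H) ^ Nat.card π.ker = 1 :=
      congrArg Subtype.val (pow_card_eq_one' (x := (⟨x ^ s * tN H, h1⟩ : π.ker)))
    have h3 : tN H ^ Nat.card π.ker = tN H := by
      obtain ⟨k, hk⟩ := H.odd_ker
      rw [hk, pow_succ, pow_mul, sq, H.tN_mul_tN, one_pow, one_mul]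
    rw [((H.tN_comm x).symm.zpow_left s).mul_pow, h3] at h2
    have h4 : tN H = ((x ^ s) ^ Nat.card π.ker)⁻¹ := eq_inv_of_mul_eq_one_right h2
    rw [h4]
    exact inv_mem (pow_mem (zpow_mem (Subgroup.mem_zpowers _) _) _)

theorem FHyp.mem_zpowers_Γ (_ : FHyp t z N S π)
    {x : Subgroup.centralizer ({t} : Set G)} :
    t ∈ Subgroup.zpowers (x : G) ↔ RTwo.General.tt t ∈ Subgroup.zpowers x := by
  constructor
  · intro h1
    obtain ⟨k, hk⟩ := Subgroup.mem_zpowers_iff.1 h1
    exact Subgroup.mem_zpowers_iff.2 ⟨k, Subtype.ext (by simpa [RTwo.General.tt] using hk)⟩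
  · intro h1
    obtain ⟨k, hk⟩ := Subgroup.mem_zpowers_iff.1 h1
    refine Subgroup.mem_zpowers_iff.2 ⟨k, ?_⟩
    have h2 := congrArg Subtype.val hk
    simpa [RTwo.General.tt] using h2

theorem FHyp.tt_conj (_ : FHyp t z N S π) (g : Subgroup.centralizer ({t} : Set G)) :
    g * RTwo.General.tt t * g⁻¹ = RTwo.General.tt t := by
  rw [← (RTwo.General.tt_comm g).eq, mul_assoc, mul_inv_cancel, mul_one]

end Basic

section Sec

variable {G : Type w} [Group G] [Finite G]

/-- **The principal part on `C(t)`.** On the elements of `C(t)` having `t` as a power a character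
of the principal block agrees with its principal part. -/
theorem principal_part_centralizer {M : Ideal AlgInt} (hM : IsPModular 2 M) {t : G}
    (ht : t * t = 1) {X : G → ℂ} (hX : Prin M X) (x : Subgroup.centralizer ({t} : Set G))
    (hx : t ∈ Subgroup.zpowers (x : G)) :
    blockPart (principalBlock M (Subgroup.centralizer ({t} : Set G)))
      (fun y : Subgroup.centralizer ({t} : Set G) => X y) x = X x := by
  have : Fact (Nat.Prime 2) := ⟨Nat.prime_two⟩
  have hXc : IsClassFunction G X := hX.isClass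
  obtain ⟨a, hpp⟩ := Blocks.SecondMain.exists_isPPart Nat.prime_two x
  obtain ⟨y, rfl, hc, hord, hy⟩ := hpp
  -- in `G`
  have hordG : ∃ k : ℕ, orderOf (a : G) = 2 ^ k := by
    obtain ⟨k, hk⟩ := hord
    exact ⟨k, by rw [Subgroup.orderOf_coe, hk]⟩
  have hcG : Commute (a : G) (y : G) := congrArg Subtype.val hc.eq
  have hyG : ¬ 2 ∣ orderOf (y : G) := by rwa [Subgroup.orderOf_coe]
  have hta : t ∈ Subgroup.zpowers (a : G) :=
    (mem_zpowers_iff_of_isPPart (u := ((a * y : Subgroup.centralizer ({t} : Set G)) : G)) ht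
      ⟨(y : G), by rw [Subgroup.coe_mul], hcG, hordG, hyG⟩).1 hx
  have hle : Subgroup.centralizer ({(a : G)} : Set G) ≤ Subgroup.centralizer ({t} : Set G) :=
    InvCent.centralizer_le hta
  have hyC : y ∈ Subgroup.centralizer ({a} : Set (Subgroup.centralizer ({t} : Set G))) := by
    rw [Subgroup.mem_centralizer_singleton_iff]
    exact hc.eq.symm
  -- the isomorphism
  let e : Subgroup.centralizer ({a} : Set (Subgroup.centralizer ({t} : Set G))) ≃*
      Subgroup.centralizer ({(a : G)} : Set G) :=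
    { toFun := fun c => ⟨((c : Subgroup.centralizer ({t} : Set G)) : G), by
        rw [Subgroup.mem_centralizer_singleton_iff]
        exact congrArg Subtype.val (Subgroup.mem_centralizer_singleton_iff.1 c.2)⟩
      invFun := fun c => ⟨⟨(c : G), hle c.2⟩, by
        rw [Subgroup.mem_centralizer_singleton_iff]
        exact Subtype.ext (Subgroup.mem_centralizer_singleton_iff.1 c.2)⟩
      left_inv := fun c => rfl
      right_inv := fun c => rfl
      map_mul' := fun c d => rfl }
  have hcl : IsClassFunction (Subgroup.centralizer ({t} : Set G))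
      (fun y : Subgroup.centralizer ({t} : Set G) => X y) := fun g k => hXc (g : G) (k : G)
  have h1 := section_part hM a hord rfl hcl ⟨y, hyC⟩ (by rwa [Subgroup.orderOf_mk])
  have h2 := blockPart_equiv (M := M) e
    (fun c : Subgroup.centralizer ({(a : G)} : Set G) => X ((a : G) * (c : G))) ⟨y, hyC⟩
  have h3 := section_part hM (a : G) hordG rfl hXc (e ⟨y, hyC⟩) (by
    rw [MulEquiv.orderOf_eq, Subgroup.orderOf_mk]; exact hy)
  have h4 : blockPart (principalBlock M G) X = X := hX
  rw [h4, ← h2] at h3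
  exact h1.trans h3.symm

end Sec

section Main

variable {G : Type w} [Group G] [Fintype G] {C : Type v} [Group C] [Fintype C] {t : G} {z : C}
  {N S : Subgroup (Subgroup.centralizer ({t} : Set G))} {π : N →* C} {M : Ideal AlgInt}

/-- The restriction of a function in the span of the principal block. -/
theorem AD.prin_res {Γ : Type*} [Group Γ] [Finite Γ] {N S : Subgroup Γ} (h : AD N S)
    (hM : IsPModular 2 M) {f : Γ → ℂ} (hf : Prin M f) : Prin M (fun n : N => f n) := by
  classical
  have := Fintype.ofFinite Γ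
  have : Finite (IrrCharacter Γ) := Core.finite_irr
  have := Fintype.ofFinite (IrrCharacter Γ)
  have h2 : (fun n : N => f n) = ∑ χ ∈ (Finset.univ.filter
      (fun χ : IrrCharacter Γ => χ ∈ principalBlock M Γ)),
      classInner f (χ : Γ → ℂ) • (fun n : N => (χ : Γ → ℂ) n) := by
    funext n
    rw [Finset.sum_apply, hf.apply]
    rfl
  rw [h2]
  refine Prin.fsum _ _ fun χ hχ => Prin.smul _ ?_
  exact (blockPart_irr (principalBlock M N) (h.res hM χ (Finset.mem_filter.1 hχ).2)).1
    (h.res_mem hM (Finset.mem_filter.1 hχ).2)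

/-- A class function `F` of `C` in the span of the principal block giving the values of `X` on the
elements of `N` having `t` as a power. -/
theorem exists_F (H : FHyp t z N S π) (hM : IsPModular 2 M) {X : G → ℂ} (hX : Prin M X) :
    ∃ F : C → ℂ, Prin M F ∧
      (∀ n : N, blockPart (principalBlock M (Subgroup.centralizer ({t} : Set G)))
        (fun y : Subgroup.centralizer ({t} : Set G) => X y) n = F (π n)) ∧
      ∀ n : N, z ∈ Subgroup.zpowers (π n) →
        X ((n : Subgroup.centralizer ({t} : Set G)) : G) = F (π n) := by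
  obtain ⟨F, hF1, hF2⟩ := exists_of_blockPart hM H.surj H.odd_ker
    (H.ad.prin_res hM (prin_blockPart (M := M)
      (fun y : Subgroup.centralizer ({t} : Set G) => X y)))
  refine ⟨F, hF1, hF2, fun n hn => ?_⟩
  rw [← hF2 n]
  exact (principal_part_centralizer hM H.t_mul_t hX _ (H.mem_zpowers_map.2 hn)).symm

/-- The function induced from the canonical lift of `f ∘ π`. -/
noncomputable def FInd (M : Ideal AlgInt) {N : Subgroup (Subgroup.centralizer ({t} : Set G))}
    (π : N →* C) (f : C → ℂ) : G → ℂ :=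
  haveI := Fintype.ofFinite (Subgroup.centralizer ({t} : Set G))
  indFun (Subgroup.centralizer ({t} : Set G)) (hat M N (fun x => f (π x)))

theorem supp_hat (H : FHyp t z N S π) (hM : IsPModular 2 M) {f : C → ℂ}
    (hf0 : ∀ c, f c ≠ 0 → z ∈ Subgroup.zpowers c)
    [Fintype (Subgroup.centralizer ({t} : Set G))] :
    Supp t (hat M N (fun x => f (π x))) := by
  intro x hx
  rw [H.mem_zpowers_Γ]
  refine hat_supp hM H.tt_mul_tt H.tt_conj (fun n hn => ?_) x hx
  rw [← H.mem_zpowers_Γ, H.mem_zpowers_map]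
  exact hf0 _ hn

theorem FInd_inner (H : FHyp t z N S π) (hM : IsPModular 2 M) {f g : C → ℂ} (hg : Prin M g)
    (hf0 : ∀ c, f c ≠ 0 → z ∈ Subgroup.zpowers c) (hg0 : ∀ c, g c ≠ 0 → z ∈ Subgroup.zpowers c) :
    classInner (FInd M π f) (FInd M π g) = classInner f g := by
  let _ : Fintype (Subgroup.centralizer ({t} : Set G)) := Fintype.ofFinite _
  have := Fintype.ofFinite N
  unfold FInd
  rw [classInner_indFun_indFun H.orderOf_t (isClass_hat _ _) (isClass_hat _ _)
    (supp_hat H hM hf0) (supp_hat H hM hg0), H.ad.classInner_hat_hat hM,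
    Prin.comp hM H.surj hg, classInner_comp π H.surj]

theorem FInd_values (H : FHyp t z N S π) (hM : IsPModular 2 M) {X : G → ℂ} (hX : Prin M X)
    {f c : C → ℂ} (hf0 : ∀ c, f c ≠ 0 → z ∈ Subgroup.zpowers c)
    (hc : ∀ n : N, f (π n) ≠ 0 →
      X ((n : Subgroup.centralizer ({t} : Set G)) : G) = c (π n)) :
    classInner (FInd M π f) X = classInner f c := by
  let _ : Fintype (Subgroup.centralizer ({t} : Set G)) := Fintype.ofFinite _
  have := Fintype.ofFinite N
  unfold FInd
  rw [classInner_indFun_left _ _ hX.isClass, classInner_hat, ← classInner_comp π H.surj f c]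
  rw [Core.classInner_def, Core.classInner_def]
  congr 1
  refine Finset.sum_congr rfl fun n _ => ?_
  by_cases h0 : f (π n) = 0
  · rw [h0, zero_mul, zero_mul]
  · rw [principal_part_centralizer hM H.t_mul_t hX _ (H.mem_zpowers_map.2 (hf0 _ h0)), hc n h0]

theorem FInd_one (H : FHyp t z N S π) (hM : IsPModular 2 M) {f : C → ℂ}
    (hf0 : ∀ c, f c ≠ 0 → z ∈ Subgroup.zpowers c) :
    classInner (FInd M π f) 1 = classInner f 1 :=
  FInd_values H hM (prin_one hM) hf0 (fun _ _ => rfl)

theorem isGeneralized_FInd {f : C → ℂ} (hf : IsGeneralizedCharacter C f) :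
    IsGeneralizedCharacter G (FInd (t := t) M π f) := by
  let _ : Fintype (Subgroup.centralizer ({t} : Set G)) := Fintype.ofFinite _
  refine Brauer.isGeneralizedCharacter_indFun _ (isGeneralized_hat M ?_)
  obtain ⟨χ, ψ, hχ, hψ, rfl⟩ := hf
  exact ⟨fun x => χ (π x), fun x => ψ (π x), Core.isCharacter_comp π hχ,
    Core.isCharacter_comp π hψ, rfl⟩

theorem isClass_FInd (f : C → ℂ) : IsClassFunction G (FInd (t := t) M π f) :=
  Brauer.indFun_isClassFunction _ _

theorem FInd_odd (H : FHyp t z N S π) (hM : IsPModular 2 M) {f : C → ℂ}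
    (hf0 : ∀ c, f c ≠ 0 → z ∈ Subgroup.zpowers c) {g : G} (hg : Odd (orderOf g)) :
    FInd M π f g = 0 := by
  let _ : Fintype (Subgroup.centralizer ({t} : Set G)) := Fintype.ofFinite _
  exact indFun_eq_zero_of_odd H.orderOf_t (supp_hat H hM hf0) hg

theorem FInd_at_one (H : FHyp t z N S π) (hM : IsPModular 2 M) {f : C → ℂ}
    (hf0 : ∀ c, f c ≠ 0 → z ∈ Subgroup.zpowers c) : FInd M π f 1 = 0 :=
  FInd_odd H hM hf0 (by rw [orderOf_one]; exact odd_one)

theorem FInd_add (f g : C → ℂ) : FInd (t := t) M π (f + g) = FInd M π f + FInd M π g := by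
  let _ : Fintype (Subgroup.centralizer ({t} : Set G)) := Fintype.ofFinite _
  unfold FInd hat
  rw [← Brauer.indFun_add, ← blockPart_add, ← Brauer.indFun_add]
  rfl

theorem FInd_smul (c : ℂ) (f : C → ℂ) : FInd (t := t) M π (c • f) = c • FInd M π f := by
  let _ : Fintype (Subgroup.centralizer ({t} : Set G)) := Fintype.ofFinite _
  unfold FInd hat
  rw [← Brauer.indFun_smul, ← blockPart_smul, ← Brauer.indFun_smul]
  rfl

/-- `FInd` is linear. -/
noncomputable def FI (M : Ideal AlgInt) {N : Subgroup (Subgroup.centralizer ({t} : Set G))}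
    (π : N →* C) : (C → ℂ) →ₗ[ℂ] (G → ℂ) where
  toFun f := FInd M π f
  map_add' := FInd_add
  map_smul' := FInd_smul

theorem FInd_zero : FInd (t := t) M π (0 : C → ℂ) = 0 := (FI M π).map_zero

theorem FInd_sub (f g : C → ℂ) : FInd (t := t) M π (f - g) = FInd M π f - FInd M π g :=
  (FI M π).map_sub f g

theorem FInd_neg (f : C → ℂ) : FInd (t := t) M π (-f) = -FInd M π f := (FI M π).map_neg f

theorem FInd_fsum {ι : Type*} (J : Finset ι) (f : ι → C → ℂ) :
    FInd (t := t) M π (∑ i ∈ J, f i) = ∑ i ∈ J, FInd M π (f i) := map_sum (FI M π) f J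

theorem FInd_sum {ι : Type*} (J : Finset ι) (c : ι → ℂ) (f : ι → C → ℂ) :
    FInd (t := t) M π (fun x => ∑ i ∈ J, c i * f i x) =
      fun x => ∑ i ∈ J, c i * FInd M π (f i) x := by
  have h1 : (fun x => ∑ i ∈ J, c i * f i x) = ∑ i ∈ J, c i • f i := by
    funext x
    rw [Finset.sum_apply]
    rfl
  rw [h1, FInd_fsum]
  funext x
  rw [Finset.sum_apply]
  refine Finset.sum_congr rfl fun i _ => ?_
  rw [FInd_smul]
  rfl

/-- The values of `FInd` on the elements of `N` having `t` as a power. -/
theorem FInd_apply (H : FHyp t z N S π) (hM : IsPModular 2 M) {f : C → ℂ} (hf : Prin M f)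
    (hf0 : ∀ c, f c ≠ 0 → z ∈ Subgroup.zpowers c) {n : N} (hn : z ∈ Subgroup.zpowers (π n)) :
    FInd M π f ((n : Subgroup.centralizer ({t} : Set G)) : G) = f (π n) := by
  let _ : Fintype (Subgroup.centralizer ({t} : Set G)) := Fintype.ofFinite _
  unfold FInd
  rw [indFun_eq H.orderOf_t (isClass_hat _ _) (supp_hat H hM hf0) (H.mem_zpowers_map.2 hn),
    H.ad.hat_res hM]
  exact congrFun (Prin.comp hM H.surj hf) n

theorem FInd_t (H : FHyp t z N S π) (hM : IsPModular 2 M) {f : C → ℂ} (hf : Prin M f)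
    (hf0 : ∀ c, f c ≠ 0 → z ∈ Subgroup.zpowers c) : FInd M π f t = f z := by
  have h1 := FInd_apply H hM hf hf0 (n := tN H)
    (by rw [H.map_tN]; exact Subgroup.mem_zpowers z)
  rw [H.map_tN] at h1
  exact h1

end Main

section Conj

variable {Γ : Type*} [Group Γ] [Finite Γ] {M : Ideal AlgInt}

theorem centralChar_conj_apply {η : Γ → ℂ} (hη : IsCharacter Γ η) (x : Γ) :
    centralChar (fun x => conj (η x)) x = centralChar η x⁻¹ := by
  unfold centralChar
  have h3 : conj (η x) = η x⁻¹ := (Core.isCharacter_apply_inv hη x).symm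
  have h4 : conj (η 1) = η 1 := by
    have := Core.isCharacter_apply_inv hη 1
    rw [inv_one] at this
    exact this.symm
  have h5 : (Subgroup.centralizer ({x⁻¹} : Set Γ)) = Subgroup.centralizer ({x} : Set Γ) := by
    ext y
    rw [Subgroup.mem_centralizer_singleton_iff, Subgroup.mem_centralizer_singleton_iff]
    constructor
    · intro h6
      exact (Commute.inv_right_iff.1 (show Commute y x⁻¹ from h6)).eq
    · intro h6
      exact (Commute.inv_right (show Commute y x from h6)).eq
  rw [← h5]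
  simp only [h3, h4]

/-- The principal block is invariant under complex conjugation. -/
theorem conj_mem_principalBlock {χ : IrrCharacter Γ}
    (hχ : χ ∈ principalBlock M Γ) {χ' : IrrCharacter Γ}
    (he : ∀ x, (χ' : Γ → ℂ) x = conj ((χ : Γ → ℂ) x)) : χ' ∈ principalBlock M Γ := by
  intro x
  have h1 := hχ x⁻¹
  have e1 : (χ' : Γ → ℂ) = fun x => conj ((χ : Γ → ℂ) x) := funext he
  have e2 : centralChar (fun _ : Γ => (1 : ℂ)) x = centralChar (fun _ : Γ => (1 : ℂ)) x⁻¹ := by
    have e3 := centralChar_conj_apply (Core.isIrr_isCharacter (Core.isIrr_one (G := Γ))) x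
    have e4 : (fun x : Γ => conj ((1 : Γ → ℂ) x)) = fun _ => 1 := by
      funext x
      rw [Pi.one_apply, map_one]
    rw [e4] at e3
    exact e3
  rw [e1, centralChar_conj_apply (Core.isIrr_isCharacter χ.2), e2]
  exact h1

theorem blockPart_conj (ϑ : Γ → ℂ) :
    blockPart (principalBlock M Γ) (fun x => conj (ϑ x)) =
      fun x => conj (blockPart (principalBlock M Γ) ϑ x) := by
  classical
  have := Fintype.ofFinite Γ
  have : Finite (IrrCharacter Γ) := Core.finite_irr
  have := Fintype.ofFinite (IrrCharacter Γ)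
  funext g
  rw [blockPart_sum, blockPart_sum, map_sum]
  have hcl : ∀ χ : Γ → ℂ, classInner (fun x => conj (ϑ x)) (fun x => conj (χ x)) =
      conj (classInner ϑ χ) := by
    intro χ
    rw [Core.classInner_def, Core.classInner_def, map_mul, map_inv₀, Complex.conj_natCast, map_sum]
    congr 1
    refine Finset.sum_congr rfl fun x _ => ?_
    rw [map_mul]
  let e : IrrCharacter Γ → IrrCharacter Γ :=
    fun χ => ⟨fun x => conj ((χ : Γ → ℂ) x), Core.isIrr_conj χ.2⟩
  have hee : ∀ χ, e (e χ) = χ := by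
    intro χ
    apply Subtype.ext
    funext x
    exact Complex.conj_conj _
  refine Finset.sum_bij' (fun χ _ => e χ) (fun χ _ => e χ) ?_ ?_ ?_ ?_ ?_
  · intro χ hχ
    exact Finset.mem_filter.2 ⟨Finset.mem_univ _,
      conj_mem_principalBlock (Finset.mem_filter.1 hχ).2 (fun x => rfl)⟩
  · intro χ hχ
    exact Finset.mem_filter.2 ⟨Finset.mem_univ _,
      conj_mem_principalBlock (Finset.mem_filter.1 hχ).2 (fun x => rfl)⟩
  · intro χ _
    exact hee χ
  · intro χ _
    exact hee χ
  · intro χ _
    have h1 := hcl (e χ : Γ → ℂ)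
    have h2 : (fun x => conj (((e χ : IrrCharacter Γ) : Γ → ℂ) x)) = (χ : Γ → ℂ) := by
      funext x
      exact Complex.conj_conj _
    rw [h2] at h1
    rw [map_mul, ← h1]
    congr 1
    exact (Complex.conj_conj _).symm

theorem Prin.conj {f : Γ → ℂ} (hf : Prin M f) : Prin M (fun x => conj (f x)) := by
  unfold Prin at *
  rw [blockPart_conj, hf]

theorem indFun_conj [Fintype Γ] (K : Subgroup Γ) (φ : K → ℂ) :
    indFun K (fun x => conj (φ x)) = fun x => conj (indFun K φ x) := by
  funext x
  rw [Core.indFun_apply, Core.indFun_apply, map_mul, map_inv₀, Complex.conj_natCast, map_sum]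
  congr 1
  refine Finset.sum_congr rfl fun y _ => ?_
  by_cases h : y⁻¹ * x * y ∈ K
  · rw [Core.extendByZero_of_mem _ _ h, Core.extendByZero_of_mem _ _ h]
  · rw [Core.extendByZero_of_notMem _ _ h, Core.extendByZero_of_notMem _ _ h, map_zero]

theorem FInd_conj {G : Type w} [Group G] [Fintype G] {C : Type v} [Group C] {t : G}
    {N : Subgroup (Subgroup.centralizer ({t} : Set G))} {π : N →* C} (f : C → ℂ) :
    FInd M π (fun x => conj (f x)) = fun x => conj (FInd M π f x) := by
  let _ : Fintype (Subgroup.centralizer ({t} : Set G)) := Fintype.ofFinite _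
  unfold FInd hat
  rw [indFun_conj, blockPart_conj, indFun_conj]

end Conj

end Cfsg.Agent.Classification.QDW.Fld
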