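import Mathlib
import Cfsg.Agent.Classification.QDW.FldTau

/-!
# The centralizer of an involution with field automorphisms: the class formula

* `kapN` : the number of involutions of `N` over the noncentral involution `u` of `C`;
* `kapN_odd`;
* `classFormula` : `|G : C(t)| ∑ c_j X_j(t)² / X_j(1) = kapN² * pairSum z b`.
-/

set_option autoImplicit false
set_option linter.unusedSectionVars false

open Cfsg
open scoped ComplexConjugate

namespace Cfsg.Agent.Classification.QDW.Fld

open Cfsg.Agent.Characters Cfsg.Agent.Blocks.Local Cfsg.Agent.Blocks.Basic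
  Cfsg.Agent.Classification.BGBlockB0 Cfsg.Agent.Classification.InvCent
  Cfsg.Agent.Classification.BGIsometry Cfsg.Agent.Classification.BGOrder
  Cfsg.Agent.Classification.BGSplit

universe w v

/-- The number of involutions of `N` over `u`. -/
noncomputable def kapN {N : Type w} {C : Type v} [Group N] [Group C] (π : N →* C) (u : C) : ℕ :=
  Nat.card {x : N // orderOf x = 2 ∧ π x = u}

section Odd

variable {G : Type w} {C : Type v} [Group G] [Finite G] [Group C] {t : G} {z : C}
  {N S : Subgroup (Subgroup.centralizer ({t} : Set G))} {π : N →* C}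

/-- The fibres of `π` have the order of the kernel. -/
theorem card_fibre (h : FHyp t z N S π) (u : C) :
    Nat.card {x : N // π x = u} = Nat.card π.ker := by
  obtain ⟨x₀, hx₀⟩ := h.surj u
  refine Nat.card_congr
    { toFun := fun x => ⟨x.1 * x₀⁻¹, ?_⟩
      invFun := fun k => ⟨k.1 * x₀, ?_⟩
      left_inv := fun x => Subtype.ext (by simp)
      right_inv := fun k => Subtype.ext (by simp) }
  · rw [MonoidHom.mem_ker, map_mul, x.2, map_inv, hx₀, mul_inv_cancel]
  · rw [map_mul, hx₀, MonoidHom.mem_ker.1 k.2, one_mul]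

/-- The number of involutions over an involution is odd. -/
theorem kapN_odd' (h : FHyp t z N S π) {u : C} (hu : u * u = 1) (hu1 : u ≠ 1) :
    Odd (kapN π u) := by
  classical
  let A := {x : N // π x = u}
  have := Fintype.ofFinite A
  have hu' : u⁻¹ = u := inv_eq_of_mul_eq_one_left hu
  let f : Function.End A := fun x => ⟨x.1⁻¹, by rw [map_inv, x.2, hu']⟩
  have hf : f ^ 2 ^ 1 = 1 := by
    funext x
    apply Subtype.ext
    show (x.1⁻¹)⁻¹ = x.1
    rw [inv_inv]
  have : Fact (Nat.Prime 2) := ⟨Nat.prime_two⟩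
  have h1 := Equiv.Perm.card_fixedPoints_modEq (p := 2) (n := 1) hf
  have h2 : Fintype.card (Function.fixedPoints f) = kapN π u := by
    rw [kapN, ← Nat.card_eq_fintype_card]
    refine Nat.card_congr
      { toFun := fun x => ⟨x.1.1, ?_, x.1.2⟩
        invFun := fun x => ⟨⟨x.1, x.2.2⟩, ?_⟩
        left_inv := fun x => rfl
        right_inv := fun x => rfl }
    · have h3 : (x.1.1)⁻¹ = x.1.1 := congrArg Subtype.val x.2
      refine orderOf_of_mul_self ?_ ?_
      · nth_rw 1 [← h3]
        exact inv_mul_cancel _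
      · intro h4
        apply hu1
        rw [← x.1.2, h4, map_one]
    · apply Subtype.ext
      exact inv_eq_of_mul_eq_one_left (mul_self_of_orderOf x.2.1)
  have h3 : Fintype.card A = Nat.card π.ker := by
    rw [← Nat.card_eq_fintype_card]
    exact card_fibre h u
  rw [h2, h3] at h1
  have h4 : kapN π u % 2 = 1 := by
    rw [← h1]
    exact Nat.odd_iff.1 h.odd_ker
  exact Nat.odd_iff.2 h4

/-- The involution of `N` over `z` is `t`. -/
theorem eq_tN (h : FHyp t z N S π) {x : N} (hx : orderOf x = 2) (hxz : π x = z) : x = tN h := by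
  have h1 := mul_self_of_orderOf hx
  have h2 : π (x * tN h) = 1 := by rw [map_mul, hxz, h.map_tN, h.z_mul_z]
  have h3 : (x * tN h) ^ 2 ^ 1 = 1 := by
    rw [pow_one, sq]
    calc x * tN h * (x * tN h) = x * (tN h * x) * tN h := by group
      _ = (x * x) * (tN h * tN h) := by rw [(h.tN_comm x).eq]; group
      _ = 1 := by rw [h1, h.tN_mul_tN, one_mul]
  have h4 := h.eq_one_of_ker h2 h3
  rw [eq_inv_of_mul_eq_one_left h4]
  exact inv_eq_of_mul_eq_one_left h.tN_mul_tN

/-- An element of order 2 of `Γ` lies in `N`. -/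
theorem mem_of_orderOf_two (h : FHyp t z N S π) {x : Subgroup.centralizer ({t} : Set G)}
    (hx : orderOf x = 2) : x ∈ N := by
  have := h.ad.normal
  have h1 : (QuotientGroup.mk' N x) ^ N.index = 1 := by
    rw [Subgroup.index_eq_card]
    exact pow_card_eq_one'
  have h2 : (QuotientGroup.mk' N x) ^ 2 = 1 := by
    rw [← map_pow, ← hx, pow_orderOf_eq_one, map_one]
  obtain ⟨k, hk⟩ := h.ad.odd_index_N
  rw [hk, pow_succ, pow_mul, h2, one_pow, one_mul] at h1
  exact (QuotientGroup.eq_one_iff x).1 h1

end Odd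

section Formula

variable {G : Type w} {C : Type v} [Group G] [Group C] {t : G} {z : C}
  {N S : Subgroup (Subgroup.centralizer ({t} : Set G))} {π : N →* C} {M : Ideal AlgInt}
  {q : ℕ} {ε : ℤ} {Z T T' U : Subgroup C} {s s' u : C}

theorem kapN_odd [Finite G] (h : FHyp t z N S π) (hC : CHyp z q ε Z T T' U s s' u) :
    Odd (kapN π u) := by
  refine kapN_odd' h (mul_self_of_orderOf hC.orderOf_u) ?_
  rintro rfl
  have := hC.orderOf_u
  rw [orderOf_one] at this
  norm_num at this

/-- The number of involutions over each noncentral involution. -/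
theorem card_over [Fintype C] (h : FHyp t z N S π) (hC : CHyp z q ε Z T T' U s s' u) {c : C}
    (hc : c ∈ nInv z) :
    Nat.card {x : N // orderOf x = 2 ∧ π x = c} = kapN π u := by
  obtain ⟨d, hd⟩ := hC.nInv_isConj hc
  obtain ⟨D, hD⟩ := h.surj d
  refine Nat.card_congr
    { toFun := fun x => ⟨D * x.1 * D⁻¹, ?_, ?_⟩
      invFun := fun x => ⟨D⁻¹ * x.1 * D, ?_, ?_⟩
      left_inv := fun x => Subtype.ext (by group)
      right_inv := fun x => Subtype.ext (by group) }
  · exact ((MulAut.conj D).orderOf_eq x.1).trans x.2.1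
  · rw [map_mul, map_mul, map_inv, hD, x.2.2, ← hd]
    group
  · have := ((MulAut.conj D⁻¹).orderOf_eq x.1).trans x.2.1
    rwa [MulAut.conj_apply, inv_inv] at this
  · rw [map_mul, map_mul, map_inv, hD, x.2.2, ← hd]

/-- **The class formula**, for a function on `C(t)`. -/
theorem classFormula_gen [Fintype G] [Fintype C] (h : FHyp t z N S π)
    (hC : CHyp z q ε Z T T' U s s' u) {b : C → ℂ}
    (hb : ∀ c, b c ≠ 0 → z ∈ Subgroup.zpowers c)
    {β : Subgroup.centralizer ({t} : Set G) → ℂ} (hβs : Supp t β) (hβ : ∀ n : N, β n = b (π n))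
    {ι : Type*} (J : Finset ι) (c : ι → ℂ) (X : ι → G → ℂ) (hX : ∀ j ∈ J, SignedIrr (X j))
    (hind : indFun (Subgroup.centralizer ({t} : Set G)) β = fun g => ∑ j ∈ J, c j * X j g) :
    ((Subgroup.centralizer ({t} : Set G)).index : ℂ) * ∑ j ∈ J, c j * (X j t ^ 2 / X j 1) =
      (kapN π u : ℂ) ^ 2 * pairSum z b := by
  classical
  let _ : Fintype (Subgroup.centralizer ({t} : Set G)) := Fintype.ofFinite _
  -- make the characters honest
  let s : ι → ℂ := fun j => if IsIrrCharacter G (X j) then 1 else -1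
  have hs : ∀ j ∈ J, (s j = 1 ∧ IsIrrCharacter G (X j)) ∨ (s j = -1 ∧ IsIrrCharacter G (-X j)) := by
    intro j hj
    by_cases hj2 : IsIrrCharacter G (X j)
    · exact Or.inl ⟨if_pos hj2, hj2⟩
    · exact Or.inr ⟨if_neg hj2, (hX j hj).resolve_left hj2⟩
  have hind' : indFun (Subgroup.centralizer ({t} : Set G)) β =
      fun g => ∑ j ∈ J, (c j * s j) * ((fun j g => s j * X j g) j g) := by
    refine hind.trans ?_
    funext g
    refine Finset.sum_congr rfl fun j hj => ?_
    rcases hs j hj with ⟨h1, -⟩ | ⟨h1, -⟩ <;> · simp only [h1]; ring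
  have hirr : ∀ j ∈ J, IsIrrCharacter G ((fun j g => s j * X j g) j) := by
    intro j hj
    rcases hs j hj with ⟨h1, h2⟩ | ⟨h1, h2⟩
    · have : (fun g => s j * X j g) = X j := by funext g; rw [h1, one_mul]
      simpa only [this] using h2
    · have : (fun g => s j * X j g) = -X j := by
        funext g; rw [h1, neg_one_mul]; rfl
      simpa only [this] using h2
  have key := sum_pairs_eq t h.orderOf_t h.one_class _ rfl β J _ _ hirr hind'
  have hsum : ∑ j ∈ J, (c j * s j) * (((fun j g => s j * X j g) j t) ^ 2 /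
      ((fun j g => s j * X j g) j 1)) = ∑ j ∈ J, c j * (X j t ^ 2 / X j 1) := by
    refine Finset.sum_congr rfl fun j hj => ?_
    rcases hs j hj with ⟨h1, -⟩ | ⟨h1, -⟩ <;> · simp only [h1]; ring
  rw [hsum, sum_pairs_restrict t h.orderOf_t _ rfl β hβs] at key
  rw [← key]
  -- the set of involutions
  set I : Finset N := Finset.univ.filter (fun x => orderOf x = 2) with hI
  have hmem : ∀ x, x ∈ I ↔ orderOf x = 2 := fun x => by simp [hI]
  have hrestr : ∀ F : Subgroup.centralizer ({t} : Set G) → ℂ,
      ∑ x ∈ Finset.univ.filter (fun x : Subgroup.centralizer ({t} : Set G) => orderOf x = 2), F x =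
      ∑ x ∈ I, F x := by
    intro F
    symm
    refine Finset.sum_bij (fun x _ => (x : Subgroup.centralizer ({t} : Set G))) ?_ ?_ ?_ ?_
    · intro x hx
      rw [hmem] at hx
      simp only [Finset.mem_filter, Finset.mem_univ, true_and]
      rwa [Subgroup.orderOf_coe]
    · intro x _ y _ h1
      exact Subtype.ext h1
    · intro x hx
      simp only [Finset.mem_filter, Finset.mem_univ, true_and] at hx
      refine ⟨⟨x, mem_of_orderOf_two h hx⟩, ?_, rfl⟩
      rw [hmem, Subgroup.orderOf_mk]
      exact hx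
    · intro x _
      rfl
  have hval : ∀ x y : N, β
      ((x : Subgroup.centralizer ({t} : Set G)) * (y : Subgroup.centralizer ({t} : Set G))) =
      b (π (x * y)) := by
    intro x y
    rw [← hβ, Subgroup.coe_mul]
  rw [hrestr, Finset.sum_congr rfl fun x _ => (hrestr _).trans
    (Finset.sum_congr rfl fun y _ => hval x y)]
  have hzz := h.z_mul_z
  have hz1 := h.z_ne_one
  have hmaps : ∀ x ∈ I, π x ∈ insert z (nInv z) := by
    intro x hx
    rw [hmem] at hx
    have hxx := mul_self_of_orderOf hx
    rw [Finset.mem_insert, mem_nInv]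
    by_cases hxz : π x = z
    · exact Or.inl hxz
    · refine Or.inr ⟨orderOf_of_mul_self (by rw [← map_mul, hxx, map_one]) ?_, hxz⟩
      intro h1
      have h2 := h.eq_one_of_ker h1 (m := 1) (by rw [pow_one, sq, hxx])
      rw [h2, orderOf_one] at hx
      norm_num at hx
  -- sums over involutions
  have hsumI : ∀ F : C → ℂ, ∑ x ∈ I, F (π x) = F z + (kapN π u : ℂ) * ∑ v ∈ nInv z, F v := by
    intro F
    rw [← Finset.sum_fiberwise_of_maps_to hmaps]
    have hfib : ∀ c ∈ insert z (nInv z), ∑ x ∈ I.filter (fun x => π x = c), F (π x) =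
        ((I.filter (fun x => π x = c)).card : ℂ) * F c := by
      intro c _
      rw [Finset.sum_congr rfl (g := fun _ => F c) (fun x hx => by
        rw [(Finset.mem_filter.1 hx).2]), Finset.sum_const, nsmul_eq_mul]
    rw [Finset.sum_congr rfl hfib, Finset.sum_insert (by
      rw [mem_nInv]; exact fun h0 => h0.2 rfl)]
    have h1 : (I.filter (fun x => π x = z)) = {tN h} := by
      ext x
      rw [Finset.mem_filter, hmem, Finset.mem_singleton]
      constructor
      · rintro ⟨hx, hxz⟩
        exact eq_tN h hx hxz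
      · rintro rfl
        refine ⟨orderOf_of_mul_self h.tN_mul_tN ?_, h.map_tN⟩
        intro h0
        apply hz1
        rw [← h.map_tN, h0, map_one]
    have h2 : ∀ c ∈ nInv z, ((I.filter (fun x => π x = c)).card : ℂ) * F c =
        (kapN π u : ℂ) * F c := by
      intro c hc
      congr 2
      rw [← card_over h hC hc, Nat.card_eq_fintype_card, Fintype.card_subtype]
      congr 1
      ext x
      simp [hI]
    rw [h1, Finset.card_singleton, Nat.cast_one, one_mul, Finset.sum_congr rfl h2,
      ← Finset.mul_sum]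
  have hb1 : b 1 = 0 := by
    by_contra h0
    have h2 := hb 1 h0
    rw [Subgroup.zpowers_one_eq_bot, Subgroup.mem_bot] at h2
    exact hz1 h2
  have hbz : ∀ v ∈ nInv z, b (z * v) = 0 := by
    intro v hv
    by_contra h0
    obtain ⟨k, hk⟩ := Subgroup.mem_zpowers_iff.1 (hb _ h0)
    have hvv := nInv_mul_self hv
    have h2 : (z * v) * (z * v) = 1 := by
      calc z * v * (z * v) = z * (v * z) * v := by group
        _ = (z * z) * (v * v) := by rw [← (h.z_comm v).eq]; group
        _ = 1 := by rw [hzz, hvv, one_mul]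
    have h3 : (z * v) ^ (2 : ℤ) = 1 := by rw [zpow_two, h2]
    rcases Int.even_or_odd' k with ⟨j, hj | hj⟩
    · rw [hj, zpow_mul, h3, one_zpow] at hk
      exact hz1 hk.symm
    · rw [hj, zpow_add, zpow_mul, h3, one_zpow, one_mul, zpow_one] at hk
      have h4 : v = 1 := mul_eq_left.1 hk
      rw [mem_nInv, h4, orderOf_one] at hv
      exact absurd hv.1 (by norm_num)
  have hbz' : ∀ v ∈ nInv z, b (v * z) = 0 := by
    intro v hv
    rw [← (h.z_comm v).eq]
    exact hbz v hv
  have hinner : ∀ x : N, ∑ y ∈ I, b (π (x * y)) =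
      b (π x * z) + (kapN π u : ℂ) * ∑ v ∈ nInv z, b (π x * v) := by
    intro x
    rw [← hsumI (fun d => b (π x * d))]
    exact Finset.sum_congr rfl fun y _ => by rw [map_mul]
  rw [Finset.sum_congr rfl fun x _ => hinner x,
    hsumI (fun d => b (d * z) + (kapN π u : ℂ) * ∑ v ∈ nInv z, b (d * v)), hzz, hb1, zero_add,
    Finset.sum_eq_zero hbz, mul_zero, zero_add, Finset.sum_add_distrib,
    Finset.sum_eq_zero hbz', zero_add, ← Finset.mul_sum, pairSum]
  ring

/-- **The class formula.** -/
theorem classFormula [Fintype G] [Fintype C] (h : FHyp t z N S π) (hM : IsPModular 2 M)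
    (hC : CHyp z q ε Z T T' U s s' u) {b : C → ℂ} (hbp : Prin M b)
    (hb : ∀ c, b c ≠ 0 → z ∈ Subgroup.zpowers c)
    {ι : Type*} (J : Finset ι) (c : ι → ℂ) (X : ι → G → ℂ) (hX : ∀ j ∈ J, SignedIrr (X j))
    (hind : FInd M π b = fun g => ∑ j ∈ J, c j * X j g) :
    ((Subgroup.centralizer ({t} : Set G)).index : ℂ) * ∑ j ∈ J, c j * (X j t ^ 2 / X j 1) =
      (kapN π u : ℂ) ^ 2 * pairSum z b := by
  let _ : Fintype (Subgroup.centralizer ({t} : Set G)) := Fintype.ofFinite _
  refine classFormula_gen h hC hb (supp_hat h hM hb) (fun n => ?_) J c X hX hind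
  rw [h.ad.hat_res hM]
  exact congrFun (Prin.comp hM h.surj hbp) n

end Formula

end Cfsg.Agent.Classification.QDW.Fld
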