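import Mathlib
import Cfsg.Agent.Classification.QDW.FldClass

/-!
# The centralizer of an involution with field automorphisms: twisted lifts

For a linear character `l` of `Γ / N`, `FIndL M l π f` is the function on `G` induced from the
product of `l` and the canonical lift of `f ∘ π`.

* `AD.classInner_twist`, `AD.classInner_twist_ne`;
* `FIndL_inner`, `FIndL_inner_ne`, `FIndL_prin` (orthogonality to the principal block),
  `isGeneralized_FIndL`, `FIndL_odd`, `FIndL_apply`, `FIndL_apply'`;
* `classFormulaL`: the class formula.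
-/

set_option autoImplicit false
set_option linter.unusedSectionVars false

open Cfsg
open scoped ComplexConjugate

namespace Cfsg.Agent.Classification.QDW.Fld

open Cfsg.Agent.Characters Cfsg.Agent.Blocks.Local Cfsg.Agent.Blocks.Basic
  Cfsg.Agent.Classification.BGBlockB0 Cfsg.Agent.Classification.InvCent
  Cfsg.Agent.Classification.BGIsometry Cfsg.Agent.Classification.BGOrder
  Cfsg.Agent.Classification.BGSplit

universe w v

section Local

variable {Γ : Type*} [Group Γ] [Fintype Γ] {N S : Subgroup Γ} {M : Ideal AlgInt}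

/-- The product with a linear character. -/
theorem classInner_twist [N.Normal] (l : Γ ⧸ N →* ℂ) (φ ψ : Γ → ℂ) :
    classInner (fun g => lamFun N l g * φ g) (fun g => lamFun N l g * ψ g) = classInner φ ψ := by
  rw [Core.classInner_def, Core.classInner_def]
  congr 1
  refine Finset.sum_congr rfl fun g _ => ?_
  rw [map_mul]
  linear_combination φ g * conj (ψ g) * lamFun_mul_conj l g

theorem twist_fsum [N.Normal] (l : Γ ⧸ N →* ℂ) {ι : Type*} (J : Finset ι) (c : ι → ℂ)
    (f : ι → Γ → ℂ) : (fun g => lamFun N l g * ∑ i ∈ J, c i * f i g) =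
      ∑ i ∈ J, c i • fun g => lamFun N l g * f i g := by
  funext g
  rw [Finset.mul_sum, Finset.sum_apply]
  refine Finset.sum_congr rfl fun i _ => ?_
  rw [Pi.smul_apply, smul_eq_mul]
  ring

/-- Twists of the principal block by different linear characters are orthogonal. -/
theorem AD.classInner_twist_ne (h : AD N S) [N.Normal] (hM : IsPModular 2 M)
    {l l' : Γ ⧸ N →* ℂ} (hl : l ≠ l') {φ ψ : Γ → ℂ} (hφ : Prin M φ) (hψ : Prin M ψ) :
    classInner (fun g => lamFun N l g * φ g) (fun g => lamFun N l' g * ψ g) = 0 := by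
  classical
  have : Finite (IrrCharacter Γ) := Core.finite_irr
  have := Fintype.ofFinite (IrrCharacter Γ)
  have e1 : (fun g => lamFun N l g * φ g) = ∑ χ ∈ (Finset.univ.filter
      (fun χ : IrrCharacter Γ => χ ∈ principalBlock M Γ)),
      classInner φ (χ : Γ → ℂ) • fun g => lamFun N l g * (χ : Γ → ℂ) g := by
    rw [← twist_fsum]
    funext g
    rw [hφ.apply]
  have e2 : (fun g => lamFun N l' g * ψ g) = ∑ χ ∈ (Finset.univ.filter
      (fun χ : IrrCharacter Γ => χ ∈ principalBlock M Γ)),
      classInner ψ (χ : Γ → ℂ) • fun g => lamFun N l' g * (χ : Γ → ℂ) g := by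
    rw [← twist_fsum]
    funext g
    rw [hψ.apply]
  rw [e1, e2, Core.classInner_sum_left]
  refine Finset.sum_eq_zero fun χ hχ => ?_
  rw [Core.classInner_smul_left, Core.classInner_sum_right, Finset.sum_eq_zero, mul_zero]
  intro η hη
  rw [Core.classInner_smul_right]
  have hχ' := (Finset.mem_filter.1 hχ).2
  have hη' := (Finset.mem_filter.1 hη).2
  have hzero : classInner (fun g => lamFun N l g * (χ : Γ → ℂ) g)
      (fun g => lamFun N l' g * (η : Γ → ℂ) g) = 0 := by
    refine Core.classInner_irr_ne (isIrr_lamFun_mul l χ.2) (isIrr_lamFun_mul l' η.2) ?_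
    intro he
    -- the quotient `l'' = l * conj l'`
    let l'' : Γ ⧸ N →* ℂ :=
      { toFun := fun x => l x * conj (l' x)
        map_one' := by simp
        map_mul' := fun x y => by rw [map_mul, map_mul, map_mul]; ring }
    have hl'' : l'' ≠ 1 := by
      intro h1
      apply hl
      refine MonoidHom.ext fun x => ?_
      obtain ⟨g, rfl⟩ := QuotientGroup.mk_surjective x
      have h2 : l (QuotientGroup.mk g) * conj (l' (QuotientGroup.mk g)) = 1 :=
        DFunLike.congr_fun h1 (QuotientGroup.mk g : Γ ⧸ N)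
      have h3 : l' (QuotientGroup.mk g) * conj (l' (QuotientGroup.mk g)) = 1 :=
        lamFun_mul_conj l' g
      have h4 : conj (l' (QuotientGroup.mk g)) ≠ 0 := right_ne_zero_of_mul_eq_one h3
      exact mul_right_cancel₀ h4 (h2.trans h3.symm)
    refine h.twist_notMem hM hl'' hχ' hη' ?_
    funext g
    have h5 : lamFun N l g * (χ : Γ → ℂ) g = lamFun N l' g * (η : Γ → ℂ) g := congrFun he g
    have h6 : lamFun N l'' g = lamFun N l g * conj (lamFun N l' g) := rfl
    rw [h6]
    linear_combination conj (lamFun N l' g) * h5 + (η : Γ → ℂ) g * lamFun_mul_conj l' g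
  rw [hzero, mul_zero]

theorem isGeneralized_twist [N.Normal] (l : Γ ⧸ N →* ℂ) {φ : Γ → ℂ}
    (hφ : IsGeneralizedCharacter Γ φ) :
    IsGeneralizedCharacter Γ (fun g => lamFun N l g * φ g) := by
  obtain ⟨χ, ψ, hχ, hψ, rfl⟩ := hφ
  refine ⟨fun g => lamFun N l g * χ g, fun g => lamFun N l g * ψ g,
    Core.isCharacter_mul (lamFun_isCharacter l) hχ, Core.isCharacter_mul (lamFun_isCharacter l) hψ,
    ?_⟩
  funext g
  simp only [Pi.sub_apply]
  ring

theorem isClass_twist [N.Normal] (l : Γ ⧸ N →* ℂ) {φ : Γ → ℂ} (hφ : IsClassFunction Γ φ) :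
    IsClassFunction Γ (fun g => lamFun N l g * φ g) := by
  intro g k
  change lamFun N l (k * g * k⁻¹) * φ (k * g * k⁻¹) = lamFun N l g * φ g
  rw [lamFun_isClassFunction l g k, hφ g k]

end Local

section Main

variable {G : Type w} [Group G] [Fintype G] {C : Type v} [Group C] [Fintype C] {t : G} {z : C}
  {N S : Subgroup (Subgroup.centralizer ({t} : Set G))} {π : N →* C} {M : Ideal AlgInt}

/-- The function induced from the product of `l` and the canonical lift of `f ∘ π`. -/
noncomputable def FIndL (M : Ideal AlgInt) {N : Subgroup (Subgroup.centralizer ({t} : Set G))}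
    [N.Normal] (l : Subgroup.centralizer ({t} : Set G) ⧸ N →* ℂ) (π : N →* C) (f : C → ℂ) :
    G → ℂ :=
  haveI := Fintype.ofFinite (Subgroup.centralizer ({t} : Set G))
  indFun (Subgroup.centralizer ({t} : Set G))
    (fun x => lamFun N l x * hat M N (fun x => f (π x)) x)

variable [N.Normal] {l l' : Subgroup.centralizer ({t} : Set G) ⧸ N →* ℂ}

theorem FIndL_one_eq (f : C → ℂ) :
    FIndL M (1 : Subgroup.centralizer ({t} : Set G) ⧸ N →* ℂ) π f = FInd M π f := by
  let _ : Fintype (Subgroup.centralizer ({t} : Set G)) := Fintype.ofFinite _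
  have h1 : ∀ x, lamFun N (1 : Subgroup.centralizer ({t} : Set G) ⧸ N →* ℂ) x = 1 := fun _ => rfl
  unfold FIndL FInd
  simp only [h1, one_mul]

theorem supp_twist (H : FHyp t z N S π) (hM : IsPModular 2 M) {f : C → ℂ}
    (hf0 : ∀ c, f c ≠ 0 → z ∈ Subgroup.zpowers c)
    [Fintype (Subgroup.centralizer ({t} : Set G))] :
    Supp t (fun x => lamFun N l x * hat M N (fun x => f (π x)) x) := by
  intro x hx
  exact supp_hat H hM hf0 x (right_ne_zero_of_mul hx)

theorem FIndL_inner (H : FHyp t z N S π) (hM : IsPModular 2 M) {f g : C → ℂ} (hg : Prin M g)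
    (hf0 : ∀ c, f c ≠ 0 → z ∈ Subgroup.zpowers c) (hg0 : ∀ c, g c ≠ 0 → z ∈ Subgroup.zpowers c) :
    classInner (FIndL M l π f) (FIndL M l π g) = classInner f g := by
  let _ : Fintype (Subgroup.centralizer ({t} : Set G)) := Fintype.ofFinite _
  rw [← FInd_inner H hM hg hf0 hg0]
  unfold FIndL FInd
  rw [classInner_indFun_indFun H.orderOf_t (isClass_twist l (isClass_hat _ _))
    (isClass_twist l (isClass_hat _ _)) (supp_twist H hM hf0) (supp_twist H hM hg0),
    classInner_twist, classInner_indFun_indFun H.orderOf_t (isClass_hat _ _) (isClass_hat _ _)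
    (supp_hat H hM hf0) (supp_hat H hM hg0)]

theorem FIndL_inner_ne (H : FHyp t z N S π) (hM : IsPModular 2 M) (hl : l ≠ l') {f g : C → ℂ}
    (hf0 : ∀ c, f c ≠ 0 → z ∈ Subgroup.zpowers c) (hg0 : ∀ c, g c ≠ 0 → z ∈ Subgroup.zpowers c) :
    classInner (FIndL M l π f) (FIndL M l' π g) = 0 := by
  let _ : Fintype (Subgroup.centralizer ({t} : Set G)) := Fintype.ofFinite _
  unfold FIndL
  rw [classInner_indFun_indFun H.orderOf_t (isClass_twist l (isClass_hat _ _))
    (isClass_twist l' (isClass_hat _ _)) (supp_twist H hM hf0) (supp_twist H hM hg0)]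
  exact H.ad.classInner_twist_ne hM hl (blockPart_hat M _) (blockPart_hat M _)

/-- The twisted lifts, `l ≠ 1`, are orthogonal to the principal block of `G`. -/
theorem FIndL_prin (H : FHyp t z N S π) (hM : IsPModular 2 M) (hl : l ≠ 1) {f : C → ℂ}
    (hf0 : ∀ c, f c ≠ 0 → z ∈ Subgroup.zpowers c) {X : G → ℂ} (hX : Prin M X) :
    classInner (FIndL M l π f) X = 0 := by
  let _ : Fintype (Subgroup.centralizer ({t} : Set G)) := Fintype.ofFinite _
  unfold FIndL
  rw [classInner_indFun_left _ _ hX.isClass]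
  have h1 := H.ad.classInner_twist_ne hM hl (blockPart_hat M (fun x => f (π x)))
    (prin_blockPart (M := M) (fun y : Subgroup.centralizer ({t} : Set G) => X y))
  have h2 : (fun g => lamFun N (1 : Subgroup.centralizer ({t} : Set G) ⧸ N →* ℂ) g *
      blockPart (principalBlock M (Subgroup.centralizer ({t} : Set G)))
        (fun y : Subgroup.centralizer ({t} : Set G) => X y) g) =
      blockPart (principalBlock M (Subgroup.centralizer ({t} : Set G)))
        (fun y : Subgroup.centralizer ({t} : Set G) => X y) := by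
    funext g
    have h3 : lamFun N (1 : Subgroup.centralizer ({t} : Set G) ⧸ N →* ℂ) g = 1 := rfl
    rw [h3, one_mul]
  rw [h2] at h1
  rw [← h1, Core.classInner_def, Core.classInner_def]
  congr 1
  refine Finset.sum_congr rfl fun x _ => ?_
  by_cases h0 : hat M N (fun x => f (π x)) x = 0
  · rw [h0, mul_zero, zero_mul, zero_mul]
  · rw [principal_part_centralizer hM H.t_mul_t hX _ (supp_hat H hM hf0 x h0)]

theorem FIndL_one (H : FHyp t z N S π) (hM : IsPModular 2 M) (hl : l ≠ 1) {f : C → ℂ}
    (hf0 : ∀ c, f c ≠ 0 → z ∈ Subgroup.zpowers c) : classInner (FIndL M l π f) 1 = 0 :=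
  FIndL_prin H hM hl hf0 (prin_one hM)

theorem isGeneralized_FIndL {f : C → ℂ} (hf : IsGeneralizedCharacter C f) :
    IsGeneralizedCharacter G (FIndL M l π f) := by
  let _ : Fintype (Subgroup.centralizer ({t} : Set G)) := Fintype.ofFinite _
  refine Brauer.isGeneralizedCharacter_indFun _ (isGeneralized_twist l (isGeneralized_hat M ?_))
  obtain ⟨χ, ψ, hχ, hψ, rfl⟩ := hf
  exact ⟨fun x => χ (π x), fun x => ψ (π x), Core.isCharacter_comp π hχ,
    Core.isCharacter_comp π hψ, rfl⟩

theorem isClass_FIndL (f : C → ℂ) : IsClassFunction G (FIndL M l π f) :=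
  Brauer.indFun_isClassFunction _ _

theorem FIndL_odd (H : FHyp t z N S π) (hM : IsPModular 2 M) {f : C → ℂ}
    (hf0 : ∀ c, f c ≠ 0 → z ∈ Subgroup.zpowers c) {g : G} (hg : Odd (orderOf g)) :
    FIndL M l π f g = 0 := by
  let _ : Fintype (Subgroup.centralizer ({t} : Set G)) := Fintype.ofFinite _
  exact indFun_eq_zero_of_odd H.orderOf_t (supp_twist H hM hf0) hg

theorem FIndL_at_one (H : FHyp t z N S π) (hM : IsPModular 2 M) {f : C → ℂ}
    (hf0 : ∀ c, f c ≠ 0 → z ∈ Subgroup.zpowers c) : FIndL M l π f 1 = 0 :=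
  FIndL_odd H hM hf0 (by rw [orderOf_one]; exact odd_one)

/-- The values on the elements of `Γ` having `t` as a power. -/
theorem FIndL_apply' (H : FHyp t z N S π) (hM : IsPModular 2 M) {f : C → ℂ}
    (hf0 : ∀ c, f c ≠ 0 → z ∈ Subgroup.zpowers c) {x : Subgroup.centralizer ({t} : Set G)}
    (hx : t ∈ Subgroup.zpowers (x : G)) :
    FIndL M l π f (x : G) = lamFun N l x * FInd M π f (x : G) := by
  let _ : Fintype (Subgroup.centralizer ({t} : Set G)) := Fintype.ofFinite _
  unfold FIndL FInd
  rw [indFun_eq H.orderOf_t (isClass_twist l (isClass_hat _ _)) (supp_twist H hM hf0) hx,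
    indFun_eq H.orderOf_t (isClass_hat _ _) (supp_hat H hM hf0) hx]

theorem FIndL_apply (H : FHyp t z N S π) (hM : IsPModular 2 M) {f : C → ℂ} (hf : Prin M f)
    (hf0 : ∀ c, f c ≠ 0 → z ∈ Subgroup.zpowers c) {n : N} (hn : z ∈ Subgroup.zpowers (π n)) :
    FIndL M l π f ((n : Subgroup.centralizer ({t} : Set G)) : G) = f (π n) := by
  rw [FIndL_apply' H hM hf0 (H.mem_zpowers_map.2 hn), FInd_apply H hM hf hf0 hn,
    lamFun_of_mem l n.2, one_mul]

theorem FIndL_add (f g : C → ℂ) : FIndL M l π (f + g) = FIndL M l π f + FIndL M l π g := by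
  let _ : Fintype (Subgroup.centralizer ({t} : Set G)) := Fintype.ofFinite _
  unfold FIndL
  rw [← Brauer.indFun_add]
  congr 1
  funext x
  have h1 : hat M N (fun x => (f + g) (π x)) =
      hat M N (fun x => f (π x)) + hat M N (fun x => g (π x)) := by
    unfold hat
    rw [← blockPart_add, ← Brauer.indFun_add]
    rfl
  rw [h1, Pi.add_apply, Pi.add_apply]
  ring

theorem FIndL_smul (c : ℂ) (f : C → ℂ) : FIndL M l π (c • f) = c • FIndL M l π f := by
  let _ : Fintype (Subgroup.centralizer ({t} : Set G)) := Fintype.ofFinite _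
  unfold FIndL
  rw [← Brauer.indFun_smul]
  congr 1
  funext x
  have h1 : hat M N (fun x => (c • f) (π x)) = c • hat M N (fun x => f (π x)) := by
    unfold hat
    rw [← blockPart_smul, ← Brauer.indFun_smul]
    rfl
  rw [h1, Pi.smul_apply, Pi.smul_apply, smul_eq_mul, smul_eq_mul]
  ring

/-- `FIndL` is linear. -/
noncomputable def FIL (M : Ideal AlgInt) {N : Subgroup (Subgroup.centralizer ({t} : Set G))}
    [N.Normal] (l : Subgroup.centralizer ({t} : Set G) ⧸ N →* ℂ) (π : N →* C) :
    (C → ℂ) →ₗ[ℂ] (G → ℂ) where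
  toFun f := FIndL M l π f
  map_add' := FIndL_add
  map_smul' := FIndL_smul

/-- **The class formula** for the twisted lifts. -/
theorem classFormulaL (h : FHyp t z N S π) (hM : IsPModular 2 M)
    {q : ℕ} {ε : ℤ} {Z T T' U : Subgroup C} {s s' u : C}
    (hC : CHyp z q ε Z T T' U s s' u) {b : C → ℂ} (hbp : Prin M b)
    (hb : ∀ c, b c ≠ 0 → z ∈ Subgroup.zpowers c)
    {ι : Type*} (J : Finset ι) (c : ι → ℂ) (X : ι → G → ℂ) (hX : ∀ j ∈ J, SignedIrr (X j))
    (hind : FIndL M l π b = fun g => ∑ j ∈ J, c j * X j g) :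
    ((Subgroup.centralizer ({t} : Set G)).index : ℂ) * ∑ j ∈ J, c j * (X j t ^ 2 / X j 1) =
      (kapN π u : ℂ) ^ 2 * pairSum z b := by
  let _ : Fintype (Subgroup.centralizer ({t} : Set G)) := Fintype.ofFinite _
  refine classFormula_gen h hC hb (supp_twist h hM hb) (fun n => ?_) J c X hX hind
  rw [lamFun_of_mem l n.2, one_mul, h.ad.hat_res hM]
  exact congrFun (Prin.comp hM h.surj hbp) n

end Main

end Cfsg.Agent.Classification.QDW.Fld
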