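import Mathlib

/-!
# Class functions on `C(t)` which are invariant under fusion

`Fusion.total`: if a class function `Λ` of `C(t)` is invariant under an element of order three of
`N(⟨t, w⟩)` then it is constant on the intersections of the conjugacy classes of `G` with `C(t)`.
-/

set_option autoImplicit false

namespace Cfsg.Agent.Classification.QDW.Fld

namespace Fusion

universe u

variable {G : Type u} [Group G] {t : G}

/-- `c` is the value of `Λ` at the conjugate of `v` by an element which takes `i` to `t`. -/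
def L (t : G) (Λ : Subgroup.centralizer ({t} : Set G) → ℂ) (v i : G) (c : ℂ) : Prop :=
  ∃ (g : G) (x : Subgroup.centralizer ({t} : Set G)), g * t * g⁻¹ = i ∧ v = g * x * g⁻¹ ∧ Λ x = c

theorem L.conj {Λ : Subgroup.centralizer ({t} : Set G) → ℂ} {v i : G} {c : ℂ} (h : L t Λ v i c)
    (k : G) : L t Λ (k * v * k⁻¹) (k * i * k⁻¹) c := by
  obtain ⟨g, x, h1, h2, h3⟩ := h
  refine ⟨k * g, x, ?_, ?_, h3⟩
  · rw [← h1]
    group
  · rw [h2]
    group

theorem L.unique {Λ : Subgroup.centralizer ({t} : Set G) → ℂ}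
    (hΛ : ∀ k x : Subgroup.centralizer ({t} : Set G), Λ (k * x * k⁻¹) = Λ x) {v i : G} {c c' : ℂ}
    (h : L t Λ v i c) (h' : L t Λ v i c') : c = c' := by
  obtain ⟨g, x, h1, h2, h3⟩ := h
  obtain ⟨g', x', h1', h2', h3'⟩ := h'
  have hk : g'⁻¹ * g ∈ Subgroup.centralizer ({t} : Set G) := by
    refine Subgroup.mem_centralizer_singleton_iff.2 ?_
    have e : g * t * g⁻¹ = g' * t * g'⁻¹ := by rw [h1, h1']
    calc g'⁻¹ * g * t = g'⁻¹ * (g * t * g⁻¹) * g := by group
      _ = g'⁻¹ * (g' * t * g'⁻¹) * g := by rw [e]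
      _ = t * (g'⁻¹ * g) := by group
  have hx : x' = ⟨g'⁻¹ * g, hk⟩ * x * ⟨g'⁻¹ * g, hk⟩⁻¹ := by
    apply Subtype.ext
    change (x' : G) = g'⁻¹ * g * x * (g'⁻¹ * g)⁻¹
    have e : g * x * g⁻¹ = g' * x' * g'⁻¹ := by rw [← h2, h2']
    calc (x' : G) = g'⁻¹ * (g' * x' * g'⁻¹) * g' := by group
      _ = g'⁻¹ * (g * x * g⁻¹) * g' := by rw [e]
      _ = g'⁻¹ * g * x * (g'⁻¹ * g)⁻¹ := by group
  rw [← h3, ← h3', hx, hΛ]

theorem exists_L (Λ : Subgroup.centralizer ({t} : Set G) → ℂ)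
    (one_class : ∀ x : G, orderOf x = 2 → IsConj t x) {v i : G} (hi : orderOf i = 2)
    (hv : Commute i v) : ∃ c, L t Λ v i c := by
  obtain ⟨g, hg⟩ := isConj_iff.1 (one_class i hi)
  have hx : g⁻¹ * v * g ∈ Subgroup.centralizer ({t} : Set G) := by
    refine Subgroup.mem_centralizer_singleton_iff.2 ?_
    have e : t = g⁻¹ * i * g := by rw [← hg]; group
    have h1 : v * i = i * v := hv.eq.symm
    calc g⁻¹ * v * g * t = g⁻¹ * (v * i) * g := by rw [e]; group
      _ = g⁻¹ * (i * v) * g := by rw [h1]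
      _ = t * (g⁻¹ * v * g) := by rw [e]; group
  refine ⟨_, g, ⟨_, hx⟩, hg, ?_, rfl⟩
  change v = g * (g⁻¹ * v * g) * g⁻¹
  group

theorem orderOf_conj' (k x : G) : orderOf (k * x * k⁻¹) = orderOf x :=
  orderOf_injective (MulAut.conj k).toMonoidHom (MulAut.conj k).injective x

/-- Commuting involutions in `C(v)`. -/
theorem step {w h : G} {Λ : Subgroup.centralizer ({t} : Set G) → ℂ}
    (hΛ : ∀ k x : Subgroup.centralizer ({t} : Set G), Λ (k * x * k⁻¹) = Λ x)
    (one_class : ∀ x : G, orderOf x = 2 → IsConj t x)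
    (h1 : h * t * h⁻¹ = w) (h2 : h * w * h⁻¹ = t * w)
    (hconj : ∀ x : G, orderOf x = 2 → Commute t x → x ≠ t →
      ∃ c ∈ Subgroup.centralizer ({t} : Set G), c * x * c⁻¹ = w)
    (hst : ∀ x y : Subgroup.centralizer ({t} : Set G), Commute w (x : G) →
      (y : G) = h * x * h⁻¹ → Λ y = Λ x)
    {v i j : G} (hi : orderOf i = 2) (hj : orderOf j = 2) (hvi : Commute i v) (hvj : Commute j v)
    (hij : Commute i j) {c : ℂ} (hc : L t Λ v i c) : L t Λ v j c := by
  have main : ∀ v j : G, orderOf j = 2 → Commute t v → Commute j v → Commute t j → ∀ c,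
      L t Λ v t c → L t Λ v j c := by
    intro v j hj hv hvj htj c hc
    by_cases e : j = t
    · rw [e]; exact hc
    obtain ⟨k, hk, hkw⟩ := hconj j hj htj e
    have hkt : k * t * k⁻¹ = t := by
      have := Subgroup.mem_centralizer_singleton_iff.1 hk
      rw [this]; group
    -- conjugate by `k`
    have h3 := hc.conj k
    rw [hkt] at h3
    have hvt' : Commute t (k * v * k⁻¹) := by
      have := (hv.map (MulAut.conj k).toMonoidHom)
      change Commute (k * t * k⁻¹) (k * v * k⁻¹) at this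
      rwa [hkt] at this
    have hvw' : Commute w (k * v * k⁻¹) := by
      have := (hvj.map (MulAut.conj k).toMonoidHom)
      change Commute (k * j * k⁻¹) (k * v * k⁻¹) at this
      rwa [hkw] at this
    suffices h4 : L t Λ (k * v * k⁻¹) w c by
      have h5 := h4.conj k⁻¹
      have e1 : k⁻¹ * (k * v * k⁻¹) * k⁻¹⁻¹ = v := by group
      have e2 : k⁻¹ * w * k⁻¹⁻¹ = j := by rw [← hkw]; group
      rwa [e1, e2] at h5
    generalize hv' : k * v * k⁻¹ = v' at h3 hvt' hvw'
    have hmem : v' ∈ Subgroup.centralizer ({t} : Set G) :=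
      Subgroup.mem_centralizer_singleton_iff.2 hvt'.eq.symm
    have h6 : L t Λ v' t (Λ ⟨v', hmem⟩) := ⟨1, ⟨v', hmem⟩, by group, by
      change v' = 1 * v' * 1⁻¹
      group, rfl⟩
    have h7 : c = Λ ⟨v', hmem⟩ := L.unique hΛ h3 h6
    have hx : h⁻¹ * v' * h ∈ Subgroup.centralizer ({t} : Set G) := by
      refine Subgroup.mem_centralizer_singleton_iff.2 ?_
      have e : t = h⁻¹ * w * h := by rw [← h1]; group
      have e1 : v' * w = w * v' := hvw'.eq.symm
      calc h⁻¹ * v' * h * t = h⁻¹ * (v' * w) * h := by rw [e]; group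
        _ = h⁻¹ * (w * v') * h := by rw [e1]
        _ = t * (h⁻¹ * v' * h) := by rw [e]; group
    have hwx : Commute w (h⁻¹ * v' * h) := by
      have e : w = h⁻¹ * (t * w) * h := by rw [← h2]; group
      have e1 : Commute (t * w) v' := hvt'.mul_left hvw'
      have e2 := e1.map (MulAut.conj h⁻¹).toMonoidHom
      change Commute (h⁻¹ * (t * w) * h⁻¹⁻¹) (h⁻¹ * v' * h⁻¹⁻¹) at e2
      rw [inv_inv, ← e] at e2
      exact e2
    refine ⟨h, ⟨h⁻¹ * v' * h, hx⟩, h1, ?_, ?_⟩
    · change v' = h * (h⁻¹ * v' * h) * h⁻¹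
      group
    · rw [h7]
      refine (hst ⟨h⁻¹ * v' * h, hx⟩ ⟨v', hmem⟩ hwx ?_).symm
      change v' = h * (h⁻¹ * v' * h) * h⁻¹
      group
  obtain ⟨g, hg⟩ := isConj_iff.1 (one_class i hi)
  have hgi : g⁻¹ * i * g⁻¹⁻¹ = t := by rw [← hg]; group
  have h3 := hc.conj g⁻¹
  rw [hgi] at h3
  have h4 := main (g⁻¹ * v * g⁻¹⁻¹) (g⁻¹ * j * g⁻¹⁻¹) (by rw [orderOf_conj']; exact hj)
    (by
      have := hvi.map (MulAut.conj g⁻¹).toMonoidHom
      change Commute (g⁻¹ * i * g⁻¹⁻¹) (g⁻¹ * v * g⁻¹⁻¹) at this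
      rwa [hgi] at this)
    (hvj.map (MulAut.conj g⁻¹).toMonoidHom)
    (by
      have := hij.map (MulAut.conj g⁻¹).toMonoidHom
      change Commute (g⁻¹ * i * g⁻¹⁻¹) (g⁻¹ * j * g⁻¹⁻¹) at this
      rwa [hgi] at this) c h3
  have h5 := h4.conj g
  have e1 : g * (g⁻¹ * v * g⁻¹⁻¹) * g⁻¹ = v := by group
  have e2 : g * (g⁻¹ * j * g⁻¹⁻¹) * g⁻¹ = j := by group
  rwa [e1, e2] at h5

/-- Two involutions of a finite group `K` are joined, up to conjugation, by a chain of two pairs of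
commuting involutions. -/
theorem exists_chain {K : Type*} [Group K] [Finite K] {i j : K} (hi : orderOf i = 2)
    (hj : orderOf j = 2) : ∃ k c : K, orderOf k = 2 ∧ Commute i k ∧ Commute k (c * j * c⁻¹) := by
  have : Fact (Nat.Prime 2) := ⟨Nat.prime_two⟩
  have hzi : IsPGroup 2 (Subgroup.zpowers i) := by
    refine IsPGroup.of_card (n := 1) ?_
    rw [Nat.card_zpowers, hi]
    norm_num
  have hzj : IsPGroup 2 (Subgroup.zpowers j) := by
    refine IsPGroup.of_card (n := 1) ?_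
    rw [Nat.card_zpowers, hj]
    norm_num
  obtain ⟨Q, hQ⟩ := hzi.exists_le_sylow
  obtain ⟨R, hR⟩ := hzj.exists_le_sylow
  obtain ⟨c, hc⟩ := MulAction.exists_smul_eq K R Q
  have hiQ : i ∈ (Q : Subgroup K) := hQ (Subgroup.mem_zpowers i)
  have hjR : j ∈ (R : Subgroup K) := hR (Subgroup.mem_zpowers j)
  have hjQ : c * j * c⁻¹ ∈ (Q : Subgroup K) := by
    rw [← hc, Sylow.coe_subgroup_smul, Subgroup.mem_pointwise_smul_iff_inv_smul_mem]
    have : (MulAut.conj c)⁻¹ • (c * j * c⁻¹) = j := by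
      rw [← map_inv, MulAut.smul_def, MulAut.conj_apply]
      group
    rw [this]
    exact hjR
  have hne : Nontrivial (Q : Subgroup K) := by
    refine ⟨⟨⟨i, hiQ⟩, 1, ?_⟩⟩
    intro h
    have : i = 1 := congrArg Subtype.val h
    rw [this, orderOf_one] at hi
    norm_num at hi
  have hcn := Q.isPGroup'.center_nontrivial
  obtain ⟨z, hz⟩ := (Q.isPGroup'.to_subgroup (Subgroup.center (Q : Subgroup K))).exists_card_eq.elim
    (fun n hn => by
      have hn0 : n ≠ 0 := by
        rintro rfl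
        rw [pow_zero, Nat.card_eq_one_iff_unique] at hn
        exact not_subsingleton _ hn.1
      exact exists_prime_orderOf_dvd_card' (G := Subgroup.center (Q : Subgroup K)) 2
        (hn ▸ dvd_pow_self 2 hn0))
  refine ⟨((z : (Q : Subgroup K)) : K), c, ?_, ?_, ?_⟩
  · rw [Subgroup.orderOf_coe, Subgroup.orderOf_coe]
    exact hz
  · have := Subgroup.mem_center_iff.1 z.2 ⟨i, hiQ⟩
    exact congrArg Subtype.val this
  · have := Subgroup.mem_center_iff.1 z.2 ⟨c * j * c⁻¹, hjQ⟩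
    exact (congrArg Subtype.val this).symm

theorem total [Finite G] {w h : G} {Λ : Subgroup.centralizer ({t} : Set G) → ℂ}
    (hΛ : ∀ k x : Subgroup.centralizer ({t} : Set G), Λ (k * x * k⁻¹) = Λ x)
    (ht : orderOf t = 2)
    (one_class : ∀ x : G, orderOf x = 2 → IsConj t x)
    (h1 : h * t * h⁻¹ = w) (h2 : h * w * h⁻¹ = t * w)
    (hconj : ∀ x : G, orderOf x = 2 → Commute t x → x ≠ t →
      ∃ c ∈ Subgroup.centralizer ({t} : Set G), c * x * c⁻¹ = w)
    (hst : ∀ x y : Subgroup.centralizer ({t} : Set G), Commute w (x : G) →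
      (y : G) = h * x * h⁻¹ → Λ y = Λ x) :
    ∀ x y : Subgroup.centralizer ({t} : Set G), IsConj (x : G) (y : G) → Λ x = Λ y := by
  intro x y hxy
  obtain ⟨g, hg⟩ := isConj_iff.1 hxy
  have hty : Commute t (y : G) := (Subgroup.mem_centralizer_singleton_iff.1 y.2).symm
  have htx : Commute t (x : G) := (Subgroup.mem_centralizer_singleton_iff.1 x.2).symm
  have hjy : Commute (g * t * g⁻¹) (y : G) := by
    have := htx.map (MulAut.conj g).toMonoidHom
    change Commute (g * t * g⁻¹) (g * x * g⁻¹) at this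
    rwa [hg] at this
  have hjo : orderOf (g * t * g⁻¹) = 2 := by rw [orderOf_conj']; exact ht
  have hLy : L t Λ (y : G) t (Λ y) := ⟨1, y, by group, by group, rfl⟩
  have hLx : L t Λ (y : G) (g * t * g⁻¹) (Λ x) := ⟨g, x, rfl, hg.symm, rfl⟩
  -- the chain in `C(y)`
  let i' : Subgroup.centralizer ({(y : G)} : Set G) :=
    ⟨t, Subgroup.mem_centralizer_singleton_iff.2 hty.eq⟩
  let j' : Subgroup.centralizer ({(y : G)} : Set G) :=
    ⟨g * t * g⁻¹, Subgroup.mem_centralizer_singleton_iff.2 hjy.eq⟩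
  obtain ⟨k, c, hk, hik, hkj⟩ := exists_chain (i := i') (j := j')
    (by rw [← Subgroup.orderOf_coe]; exact ht) (by rw [← Subgroup.orderOf_coe]; exact hjo)
  have hky : Commute (k : G) (y : G) := Subgroup.mem_centralizer_singleton_iff.1 k.2
  have hcy : Commute (c : G) (y : G) := Subgroup.mem_centralizer_singleton_iff.1 c.2
  have hko : orderOf (k : G) = 2 := by rw [Subgroup.orderOf_coe]; exact hk
  have hik' : Commute t (k : G) := congrArg Subtype.val hik
  have hkj' : Commute (k : G) (c * (g * t * g⁻¹) * c⁻¹) := congrArg Subtype.val hkj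
  have hcyc : (c : G) * y * (c : G)⁻¹ = y := by rw [hcy.eq]; group
  have h3 := step hΛ one_class h1 h2 hconj hst ht hko hty hky hik' hLy
  have hoj : orderOf ((c : G) * (g * t * g⁻¹) * (c : G)⁻¹) = 2 := by
    rw [orderOf_conj']; exact hjo
  have hjy' : Commute ((c : G) * (g * t * g⁻¹) * (c : G)⁻¹) (y : G) := by
    have := hjy.map (MulAut.conj (c : G)).toMonoidHom
    change Commute ((c : G) * (g * t * g⁻¹) * (c : G)⁻¹) ((c : G) * y * (c : G)⁻¹) at this
    rwa [hcyc] at this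
  have h4 := step hΛ one_class h1 h2 hconj hst hko hoj hky hjy' hkj' h3
  have h5 := hLx.conj (c : G)
  rw [hcyc] at h5
  exact L.unique hΛ h5 h4

end Fusion

end Cfsg.Agent.Classification.QDW.Fld
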