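import Mathlib
import Cfsg.Agent.Classification.QDW.FusionL
import Cfsg.Agent.Classification.QDW.FldTwist

/-!
# Field automorphisms: a linear character of `C(t) / N` is invariant under fusion

`total_fusion`: if `lamFun N l` is invariant under an element of order three of `N(⟨t, w⟩)` then it
is constant on the intersections of the conjugacy classes of `G` with `C(t)`.
-/

set_option autoImplicit false
set_option linter.unusedVariables false

open Cfsg

namespace Cfsg.Agent.Classification.QDW.Fld

theorem total_fusion {G : Type*} [Group G] [Finite G] {t w h : G}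
    {N : Subgroup (Subgroup.centralizer ({t} : Set G))} [N.Normal] (hN : Odd N.index)
    {l : Subgroup.centralizer ({t} : Set G) ⧸ N →* ℂ}
    (ht : orderOf t = 2) (one_class : ∀ x : G, orderOf x = 2 → IsConj t x)
    (hw : orderOf w = 2) (htw : Commute t w) (hne : w ≠ t)
    (h1 : h * t * h⁻¹ = w) (h2 : h * w * h⁻¹ = t * w)
    (hconj : ∀ x : G, orderOf x = 2 → Commute t x → x ≠ t →
      ∃ c ∈ Subgroup.centralizer ({t} : Set G), c * x * c⁻¹ = w)
    (hst : ∀ x y : Subgroup.centralizer ({t} : Set G), Commute w (x : G) →
      (y : G) = h * x * h⁻¹ → lamFun N l y = lamFun N l x) :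
    ∀ x y : Subgroup.centralizer ({t} : Set G), IsConj (x : G) (y : G) →
      lamFun N l x = lamFun N l y := by
  refine Fusion.total (fun k x => ?_) ht one_class h1 h2 hconj hst
  rw [lamFun_mul, lamFun_mul, mul_right_comm, ← lamFun_mul, mul_inv_cancel, lamFun_one, one_mul]

end Cfsg.Agent.Classification.QDW.Fld
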