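import Mathlib
import Cfsg.Agent.Classification.QDW.FldFusion
import Cfsg.Agent.Classification.QDW.FldClass
import Cfsg.Agent.Classification.RTwo.CoreKill

/-!
# Field automorphisms: the noncentral involutions of `C(t)` are conjugate
-/

set_option autoImplicit false
set_option linter.unusedSectionVars false

open Cfsg

namespace Cfsg.Agent.Classification.QDW.Fld

open Cfsg.Agent.Classification.InvCent

universe w v

variable {G : Type w} [Group G] {C : Type v} [Group C] {t : G} {z : C}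
  {N S : Subgroup (Subgroup.centralizer ({t} : Set G))} {π : N →* C} {q : ℕ} {ε : ℤ}
  {Z T T' U : Subgroup C} {s s' u : C}

/-- An involution of `C(t)` different from `t` lies in `N` over an involution different
from `z`. -/
theorem FHyp.exists_over [Finite G] (h : FHyp t z N S π) {x : G} (hx : orderOf x = 2)
    (htx : Commute t x) (hxt : x ≠ t) :
    ∃ y : N, ((y : Subgroup.centralizer ({t} : Set G)) : G) = x ∧ orderOf y = 2 ∧
      orderOf (π y) = 2 ∧ π y ≠ z := by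
  have hmem : x ∈ Subgroup.centralizer ({t} : Set G) :=
    Subgroup.mem_centralizer_singleton_iff.2 htx.eq.symm
  have ho : orderOf (⟨x, hmem⟩ : Subgroup.centralizer ({t} : Set G)) = 2 := by
    rw [← Subgroup.orderOf_coe]; exact hx
  have hN := mem_of_orderOf_two h ho
  have ho' : orderOf (⟨⟨x, hmem⟩, hN⟩ : N) = 2 := by
    rw [← Subgroup.orderOf_coe]; exact ho
  refine ⟨⟨⟨x, hmem⟩, hN⟩, rfl, ho', ?_, ?_⟩
  · refine orderOf_eq_prime ?_ ?_
    · rw [← map_pow, ← ho', pow_orderOf_eq_one, map_one]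
    · intro h1
      have h2 : (⟨⟨x, hmem⟩, hN⟩ : N) ∈ π.ker := h1
      have h3 := orderOf_dvd_natCard (⟨⟨⟨x, hmem⟩, hN⟩, h2⟩ : π.ker)
      rw [← Subgroup.orderOf_coe] at h3
      change orderOf (⟨⟨x, hmem⟩, hN⟩ : N) ∣ _ at h3
      rw [ho'] at h3
      exact (Nat.not_even_iff_odd.2 h.odd_ker) (even_iff_two_dvd.2 h3)
  · intro h1
    have h2 := eq_tN h ho' h1
    have h3 : ((⟨⟨x, hmem⟩, hN⟩ : N) : Subgroup.centralizer ({t} : Set G)) = RTwo.General.tt t := by
      rw [h2]; rfl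
    exact hxt (congrArg Subtype.val h3)

/-- The involutions of `C(t)` different from `t` are conjugate in `C(t)`. -/
theorem FHyp.exists_conj [Finite G] [Finite C] (h : FHyp t z N S π)
    (hC : CHyp z q ε Z T T' U s s' u) {x y : G} (hx : orderOf x = 2) (htx : Commute t x)
    (hxt : x ≠ t) (hy : orderOf y = 2) (hty : Commute t y) (hyt : y ≠ t) :
    ∃ c ∈ Subgroup.centralizer ({t} : Set G), c * x * c⁻¹ = y := by
  have : Fact (Nat.Prime 2) := ⟨Nat.prime_two⟩
  let _ : Fintype C := Fintype.ofFinite C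
  obtain ⟨x', rfl, hx1, hx2, hx3⟩ := h.exists_over hx htx hxt
  obtain ⟨y', rfl, hy1, hy2, hy3⟩ := h.exists_over hy hty hyt
  obtain ⟨a, ha⟩ := hC.nInv_isConj (mem_nInv.2 ⟨hx2, hx3⟩)
  obtain ⟨b, hb⟩ := hC.nInv_isConj (mem_nInv.2 ⟨hy2, hy3⟩)
  obtain ⟨d, hd⟩ := h.surj (b⁻¹ * a)
  have h1 : π (d * x' * d⁻¹) = π y' := by
    rw [map_mul, map_mul, map_inv, hd, ← ha, ← hb]
    group
  have hcop : (Nat.card π.ker).Coprime 2 := Nat.coprime_two_right.2 h.odd_ker
  have ho : (d * x' * d⁻¹) ^ 2 ^ 1 = 1 := by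
    rw [pow_one, conj_pow, ← hx1, pow_orderOf_eq_one, mul_one, mul_inv_cancel]
  have ho' : y' ^ 2 ^ 1 = 1 := by
    rw [pow_one, ← hy1, pow_orderOf_eq_one]
  obtain ⟨e, he⟩ := isConj_iff.1
    (RTwo.CoreKill.isConj_of_ker_coprime π hcop (d * x' * d⁻¹) y' 1 ho ho' h1)
  have hed : ((e * d : N) : Subgroup.centralizer ({t} : Set G)) * x' *
      ((e * d : N) : Subgroup.centralizer ({t} : Set G))⁻¹ = y' := by
    rw [← he]
    push_cast
    group
  exact ⟨((e * d : N) : Subgroup.centralizer ({t} : Set G)), SetLike.coe_mem _,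
    congrArg Subtype.val hed⟩

/-- An involution of `C(t)` different from `t`, over `u`. -/
theorem FHyp.exists_over_u [Finite G] (h : FHyp t z N S π) (hC : CHyp z q ε Z T T' U s s' u) :
    ∃ w : N, π w = u ∧ orderOf w = 2 ∧
      orderOf ((w : Subgroup.centralizer ({t} : Set G)) : G) = 2 ∧
      Commute t ((w : Subgroup.centralizer ({t} : Set G)) : G) ∧
      ((w : Subgroup.centralizer ({t} : Set G)) : G) ≠ t := by
  obtain ⟨x, hx⟩ := h.surj u
  have huu : u * u = 1 := hC.uu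
  have hu1 : u ≠ 1 := by
    intro h1
    have := hC.orderOf_u
    rw [h1, orderOf_one] at this
    norm_num at this
  obtain ⟨m, hm⟩ := h.odd_ker
  have hk : (x ^ 2) ^ (2 * m + 1) = 1 := by
    have h1 : x ^ 2 ∈ π.ker := by
      rw [MonoidHom.mem_ker, map_pow, hx, sq, huu]
    have h2 : (⟨x ^ 2, h1⟩ : π.ker) ^ Nat.card π.ker = 1 := pow_card_eq_one'
    rw [hm] at h2
    exact congrArg Subtype.val h2
  have hπw : π (x ^ (2 * m + 1)) = u := by
    rw [map_pow, hx, pow_succ, pow_mul, sq, huu, one_pow, one_mul]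
  have hw2 : orderOf (x ^ (2 * m + 1)) = 2 := by
    refine orderOf_eq_prime ?_ ?_
    · rw [← pow_mul, mul_comm, pow_mul]
      exact hk
    · intro h1
      rw [h1, map_one] at hπw
      exact hu1 hπw.symm
  refine ⟨x ^ (2 * m + 1), hπw, hw2, ?_, ?_, ?_⟩
  · rw [Subgroup.orderOf_coe, Subgroup.orderOf_coe]
    exact hw2
  · exact (Subgroup.mem_centralizer_singleton_iff.1 (SetLike.coe_mem _)).symm
  · intro h1
    apply hC.u_ne
    have h2 : x ^ (2 * m + 1) = tN h := Subtype.ext (Subtype.ext h1)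
    rw [← hπw, h2, h.map_tN]

/-- The frame: `g` permutes `t`, `w`, `t w` cyclically, `s₁ ∈ C(t)` interchanges `w` and `t w`. -/
theorem FHyp.exists_frame [Finite G] [Finite C] (h : FHyp t z N S π)
    (hC : CHyp z q ε Z T T' U s s' u) {w : G} (hw : orderOf w = 2) (htw : Commute t w)
    (hne : w ≠ t) : ∃ g s₁ : G, g * t * g⁻¹ = w ∧ g * w * g⁻¹ = t * w ∧
      s₁ ∈ Subgroup.centralizer ({t} : Set G) ∧ s₁ * w * s₁⁻¹ = t * w := by
  have htt : t * t = 1 := h.t_mul_t
  have hww : w * w = 1 := mul_self_of_orderOf hw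
  have ho : orderOf (t * w) = 2 := by
    refine orderOf_of_mul_self ?_ ?_
    · calc t * w * (t * w) = t * (w * t) * w := by group
        _ = (t * t) * (w * w) := by rw [← htw.eq]; group
        _ = 1 := by rw [htt, hww, one_mul]
    · intro h1
      apply hne
      have h2 : w = t⁻¹ := by rw [eq_inv_iff_mul_eq_one, ← htw.eq, h1]
      rw [h2]
      exact inv_eq_of_mul_eq_one_left htt
  have hctw : Commute t (t * w) := (Commute.refl t).mul_right htw
  have hntw : t * w ≠ t := by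
    intro h1
    have h2 : w = 1 := mul_eq_left.1 h1
    rw [h2, orderOf_one] at hw
    norm_num at hw
  obtain ⟨s₁, hs₁, hsw⟩ := h.exists_conj hC hw htw hne ho hctw hntw
  obtain ⟨g₀, hg₀⟩ := isConj_iff.1 (h.one_class w hw)
  -- `g₀⁻¹ t g₀` is an involution of `C(t)`
  have e0 : g₀⁻¹ * w * g₀ = t := by rw [← hg₀]; group
  have ho1 : orderOf (g₀⁻¹ * t * g₀) = 2 := by
    have := (MulAut.conj g₀⁻¹).orderOf_eq t
    rw [MulAut.conj_apply, inv_inv] at this
    rw [this, h.orderOf_t]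
  have hc1 : Commute t (g₀⁻¹ * t * g₀) := by
    have h1 := htw.symm.map (MulAut.conj g₀⁻¹).toMonoidHom
    change Commute (g₀⁻¹ * w * g₀⁻¹⁻¹) (g₀⁻¹ * t * g₀⁻¹⁻¹) at h1
    rwa [inv_inv, e0] at h1
  have hn1 : g₀⁻¹ * t * g₀ ≠ t := by
    intro h1
    apply hne
    rw [← hg₀]
    calc g₀ * t * g₀⁻¹ = g₀ * (g₀⁻¹ * t * g₀) * g₀⁻¹ := by rw [h1]
      _ = t := by group
  obtain ⟨c, hc, hcw⟩ := h.exists_conj hC ho1 hc1 hn1 hw htw hne
  have hct : c * t * c⁻¹ = t := by
    rw [Subgroup.mem_centralizer_singleton_iff.1 hc]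
    group
  have hst : s₁ * t * s₁⁻¹ = t := by
    rw [Subgroup.mem_centralizer_singleton_iff.1 hs₁]
    group
  -- the swap `k = c g₀⁻¹`
  refine ⟨c * g₀⁻¹ * s₁, s₁, ?_, ?_, hs₁, hsw⟩
  · calc c * g₀⁻¹ * s₁ * t * (c * g₀⁻¹ * s₁)⁻¹
        = c * (g₀⁻¹ * (s₁ * t * s₁⁻¹) * g₀) * c⁻¹ := by group
      _ = w := by rw [hst, hcw]
  · calc c * g₀⁻¹ * s₁ * w * (c * g₀⁻¹ * s₁)⁻¹
        = c * (g₀⁻¹ * (s₁ * w * s₁⁻¹) * g₀) * c⁻¹ := by group
      _ = (c * (g₀⁻¹ * t * g₀) * c⁻¹) * (c * (g₀⁻¹ * w * g₀) * c⁻¹) := by rw [hsw]; group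
      _ = t * w := by rw [hcw, e0, hct, htw.eq]

/-- `total_fusion` for the centralizer of an involution with field automorphisms. -/
theorem FHyp.total_fusion [Finite G] [Finite C] [N.Normal] (h : FHyp t z N S π)
    (hC : CHyp z q ε Z T T' U s s' u) {l : Subgroup.centralizer ({t} : Set G) ⧸ N →* ℂ} {w g : G}
    (hw : orderOf w = 2) (htw : Commute t w) (hne : w ≠ t)
    (h1 : g * t * g⁻¹ = w) (h2 : g * w * g⁻¹ = t * w)
    (hst : ∀ x y : Subgroup.centralizer ({t} : Set G), Commute w (x : G) →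
      (y : G) = g * x * g⁻¹ → lamFun N l y = lamFun N l x) :
    ∀ x y : Subgroup.centralizer ({t} : Set G), IsConj (x : G) (y : G) →
      lamFun N l x = lamFun N l y :=
  Fld.total_fusion h.ad.odd_index_N h.orderOf_t h.one_class hw htw hne h1 h2
    (fun _ hx htx hxt => h.exists_conj hC hx htx hxt hw htw hne) hst

end Cfsg.Agent.Classification.QDW.Fld
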