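import Mathlib
import Cfsg.Agent.Classification.QDW.FldConj

/-!
# The elements of odd order of `C(⟨t, w⟩)`

`FHyp t z N R π`, `CHyp` for the target of `π : N →* C`, `w` an involution of `C(t)` over `u`: the elements
of odd order of `C(⟨t, w⟩)` form a subgroup `W`.
-/

set_option autoImplicit false
set_option linter.unusedSectionVars false

open Cfsg
open scoped Pointwise

namespace Cfsg.Agent.Classification.QDW.FieldW

open Cfsg.Agent.Classification.InvCent Cfsg.Agent.Classification.QDW.Fld Subgroup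

/-- Burnside: the elements of odd order form a subgroup. -/
theorem exists_odd {D : Type*} [Group D] [Finite D] (P : Sylow 2 D)
    (hP : ∀ x : D, (∀ p ∈ P, x * p * x⁻¹ ∈ P) → ∀ p ∈ P, x * p = p * x) :
    ∃ W : Subgroup D, ∀ x, x ∈ W ↔ Odd (orderOf x) := by
  have : Fact (Nat.Prime 2) := ⟨Nat.prime_two⟩
  have hN : normalizer ((P : Subgroup D) : Set D) ≤ centralizer ((P : Subgroup D) : Set D) := by
    intro x hx
    rw [mem_centralizer_iff]
    intro p hp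
    exact (hP x (fun p hp => (mem_normalizer_iff.1 hx p).1 hp) p hp).symm
  have h1 := MonoidHom.not_dvd_card_ker_transferSylow P hN
  have h2 := (MonoidHom.ker_transferSylow_isComplement' P hN).index_eq_card
  refine ⟨(MonoidHom.transferSylow P hN).ker, fun x => ⟨fun hx => ?_, fun hx => ?_⟩⟩
  · have h3 := orderOf_dvd_natCard (⟨x, hx⟩ : (MonoidHom.transferSylow P hN).ker)
    rw [Subgroup.orderOf_mk] at h3
    rw [← Nat.not_even_iff_odd, even_iff_two_dvd]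
    exact fun h4 => h1 (h4.trans h3)
  · rw [MonoidHom.mem_ker]
    obtain ⟨k, hk⟩ := P.2 (MonoidHom.transferSylow P hN x)
    have h3 := orderOf_dvd_of_pow_eq_one hk
    have h4 := orderOf_map_dvd (MonoidHom.transferSylow P hN) x
    have h5 : Nat.Coprime (orderOf x) (2 ^ k) := Nat.Coprime.pow_right _ (Nat.coprime_two_right.2 hx)
    have h6 := Nat.dvd_gcd h4 h3
    rw [h5] at h6
    exact orderOf_eq_one_iff.1 (Nat.dvd_one.1 h6)

/-- A `2`-subgroup is conjugate into a subgroup of odd index. -/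
theorem exists_conj_le {Γ : Type*} [Group Γ] [Finite Γ] {R Q : Subgroup Γ} (hR : Odd R.index)
    (hQ : IsPGroup 2 Q) : ∃ γ : Γ, ∀ x ∈ Q, γ * x * γ⁻¹ ∈ R := by
  have : Fact (Nat.Prime 2) := ⟨Nat.prime_two⟩
  obtain ⟨P, hP⟩ := hQ.exists_le_sylow
  obtain ⟨R₂⟩ : Nonempty (Sylow 2 R) := inferInstance
  have h1 : ¬ 2 ∣ ((R₂ : Subgroup R).map R.subtype).index := by
    rw [index_map_subtype]
    intro h
    rcases (Nat.Prime.dvd_mul Nat.prime_two).1 h with h | h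
    · exact R₂.not_dvd_index h
    · exact (Nat.not_even_iff_odd.2 hR) (even_iff_two_dvd.2 h)
  have h2 : IsPGroup 2 ((R₂ : Subgroup R).map R.subtype) := R₂.2.map _
  obtain ⟨P', hP'⟩ := h2.exists_le_sylow
  have h3 : (R₂ : Subgroup R).map R.subtype = P' := by
    apply le_antisymm hP'
    apply Subgroup.relIndex_eq_one.1
    obtain ⟨k, hk⟩ := IsPGroup.iff_card.1 P'.2
    have h4 : ((R₂ : Subgroup R).map R.subtype).relIndex P' ∣ 2 ^ k := by
      rw [← hk]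
      exact Subgroup.relIndex_dvd_card _ _
    obtain ⟨j, -, hj⟩ := (Nat.dvd_prime_pow Nat.prime_two).1 h4
    rcases Nat.eq_zero_or_pos j with h0 | h0
    · rw [hj, h0, pow_zero]
    · exfalso
      apply h1
      rw [← Subgroup.relIndex_mul_index hP', hj]
      exact (dvd_pow_self 2 h0.ne').mul_right _
  obtain ⟨γ, hγ⟩ := MulAction.exists_smul_eq Γ P P'
  refine ⟨γ, fun x hx => ?_⟩
  have h4 : γ * x * γ⁻¹ ∈ P' := by
    rw [← hγ]
    have : (γ • P : Sylow 2 Γ) = γ • P := rfl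
    change MulAut.conj γ • x ∈ (MulAut.conj γ • (P : Subgroup Γ))
    exact Subgroup.smul_mem_pointwise_smul _ _ _ (hP hx)
  have h5 : γ * x * γ⁻¹ ∈ (R₂ : Subgroup R).map R.subtype := by rw [h3]; exact h4
  obtain ⟨y, -, hy⟩ := h5
  rw [← hy]
  exact y.2

universe w v

variable {G : Type w} [Group G] {C : Type v} [Group C] {t : G} {z : C}
  {N R : Subgroup (Subgroup.centralizer ({t} : Set G))} {π : N →* C} {q : ℕ} {ε : ℤ}
  {Z T T' U : Subgroup C} {s s' u : C}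

/-- A `2`-element of a group lies in a normal subgroup of odd index. -/
theorem mem_of_two {Γ : Type*} [Group Γ] [Finite Γ] {N : Subgroup Γ} [N.Normal] (hN : Odd N.index)
    {x : Γ} {k : ℕ} (hx : x ^ 2 ^ k = 1) : x ∈ N := by
  have h2 : (QuotientGroup.mk' N x) ^ 2 ^ k = 1 := by rw [← map_pow, hx, map_one]
  have h3 : (QuotientGroup.mk' N x) ^ N.index = 1 := by
    rw [Subgroup.index]; exact pow_card_eq_one'
  have h4 := Nat.dvd_gcd (orderOf_dvd_of_pow_eq_one h2) (orderOf_dvd_of_pow_eq_one h3)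
  have h5 : Nat.Coprime (2 ^ k) N.index := Nat.Coprime.pow_left _ (Nat.coprime_two_left.2 hN)
  rw [h5] at h4
  exact (QuotientGroup.eq_one_iff x).1 (orderOf_eq_one_iff.1 (Nat.dvd_one.1 h4))

/-- The elements of odd order of `C_Γ(w)`. -/
theorem exists_W_abs {Γ : Type*} [Group Γ] [Finite Γ] {N R : Subgroup Γ} (ad : AD N R) {C : Type*}
    [Group C] (π : N →* C) (hodd : Odd (Nat.card π.ker)) {w : N} (T : Subgroup C)
    (hT : ∀ n : N, (n : Γ) * w = w * n → π n ∈ T) (hTc : ∀ x ∈ T, ∀ y ∈ T, x * y = y * x)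
    (hww : w * w = 1) :
    ∃ W : Subgroup Γ, ∀ x, x ∈ W ↔ x * (w : Γ) = w * x ∧ Odd (orderOf x) := by
  have : Fact (Nat.Prime 2) := ⟨Nat.prime_two⟩
  have hNn := ad.normal
  obtain ⟨w', hw'⟩ : ∃ w' : Γ, w' = (w : Γ) := ⟨_, rfl⟩
  rw [← hw'] at hT ⊢
  have hww' : w' * w' = 1 := by rw [hw']; exact congrArg Subtype.val hww
  set D : Subgroup Γ := Subgroup.centralizer {w'} with hD
  have hmemD : ∀ x : Γ, x ∈ D ↔ x * w' = w' * x := fun x => by
    rw [hD, Subgroup.mem_centralizer_singleton_iff]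
  obtain ⟨P⟩ : Nonempty (Sylow 2 D) := inferInstance
  obtain ⟨γ, hγ⟩ := exists_conj_le (Q := (P : Subgroup D).map D.subtype) ad.odd_index (P.2.map _)
  -- `w' ∈ P`
  have hwD : w' ∈ D := (hmemD w').2 rfl
  have hwP : (⟨w', hwD⟩ : D) ∈ P := by
    have h1 : IsPGroup 2 (Subgroup.zpowers (⟨w', hwD⟩ : D)) := by
      rintro ⟨_, k, rfl⟩
      refine ⟨1, Subtype.ext (Subtype.ext ?_)⟩
      change (w' ^ k) ^ 2 ^ 1 = 1
      rw [pow_one, ← zpow_natCast, ← _root_.zpow_mul, mul_comm, _root_.zpow_mul, zpow_natCast, sq,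
        hww', _root_.one_zpow]
    obtain ⟨P₂, hP₂⟩ := h1.exists_le_sylow
    obtain ⟨g, hg⟩ := MulAction.exists_smul_eq D P₂ P
    have h2 : g * (⟨w', hwD⟩ : D) * g⁻¹ ∈ P := by
      rw [← hg]
      change MulAut.conj g • (⟨w', hwD⟩ : D) ∈ (MulAut.conj g • (P₂ : Subgroup D))
      exact Subgroup.smul_mem_pointwise_smul _ _ _ (hP₂ (Subgroup.mem_zpowers _))
    have h3 : g * (⟨w', hwD⟩ : D) * g⁻¹ = ⟨w', hwD⟩ := by
      rw [mul_inv_eq_iff_eq_mul]
      exact Subtype.ext ((hmemD g).1 g.2)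
    rwa [h3] at h2
  have hPc : ∀ x : D, (∀ p ∈ P, x * p * x⁻¹ ∈ P) → ∀ p ∈ P, x * p = p * x := by
    intro x hx p hp
    obtain ⟨n, hn, c, hc, hxc⟩ := ad.cover (γ * x * γ⁻¹)
    set n' : Γ := γ⁻¹ * n * γ with hn'
    set c' : Γ := γ⁻¹ * c * γ with hc'
    have hn'N : n' ∈ N := by
      have := hNn.conj_mem n hn γ⁻¹
      rwa [inv_inv] at this
    have hxn : (x : Γ) = n' * c' := by
      calc (x : Γ) = γ⁻¹ * (γ * x * γ⁻¹) * γ := by group
        _ = γ⁻¹ * (n * c) * γ := by rw [hxc]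
        _ = n' * c' := by rw [hn', hc']; group
    have hcp : ∀ p ∈ P, c' * (p : Γ) = p * c' := by
      intro p hp
      have h1 := (hc _ (hγ p (mem_map_of_mem _ hp))).eq
      change c * (γ * (p : Γ) * γ⁻¹) = γ * (p : Γ) * γ⁻¹ * c at h1
      calc c' * (p : Γ) = γ⁻¹ * (c * (γ * p * γ⁻¹)) * γ := by rw [hc']; group
        _ = γ⁻¹ * (γ * p * γ⁻¹ * c) * γ := by rw [h1]
        _ = p * c' := by rw [hc']; group
    have hcw : c' * w' = w' * c' := hcp _ hwP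
    have hxw : (x : Γ) * w' = w' * x := (hmemD _).1 x.2
    have hn'x : n' = x * c'⁻¹ := by rw [hxn, mul_inv_cancel_right]
    have hn'w : n' * w' = w' * n' := by
      have h1 : Commute (x : Γ) w' := hxw
      have h2 : Commute c' w' := hcw
      rw [hn'x]
      exact (h1.mul_left h2.inv_left).eq
    have hpN : (p : Γ) ∈ N := by
      obtain ⟨k, hk⟩ := P.2 ⟨p, hp⟩
      have hk' : (p : Γ) ^ 2 ^ k = 1 := congrArg (fun y : P => ((y : D) : Γ)) hk
      exact mem_of_two ad.odd_index_N hk'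
    have h1 := hT ⟨n', hn'N⟩ hn'w
    have h2 := hT ⟨p, hpN⟩ ((hmemD _).1 p.2)
    -- the commutator
    have h3 : π (⟨n', hn'N⟩ * ⟨p, hpN⟩ * ⟨n', hn'N⟩⁻¹ * ⟨p, hpN⟩⁻¹) = 1 := by
      rw [map_mul, map_mul, map_mul, map_inv, map_inv, hTc _ h1 _ h2, mul_inv_cancel_right,
        mul_inv_cancel]
    have h4 : n' * p * n'⁻¹ * (p : Γ)⁻¹ = x * p * (x : Γ)⁻¹ * (p : Γ)⁻¹ := by
      have h5 : c'⁻¹ * (p : Γ) * c' = p := by
        rw [mul_assoc, ← hcp p hp, inv_mul_cancel_left]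
      rw [hn'x]
      calc (x : Γ) * c'⁻¹ * p * (x * c'⁻¹)⁻¹ * (p : Γ)⁻¹
          = x * (c'⁻¹ * p * c') * (x : Γ)⁻¹ * (p : Γ)⁻¹ := by group
        _ = _ := by rw [h5]
    have h5 : x * p * x⁻¹ * p⁻¹ ∈ P := P.mul_mem (hx p hp) (P.inv_mem hp)
    obtain ⟨k, hk⟩ := P.2 ⟨_, h5⟩
    have hk' : (x * p * x⁻¹ * p⁻¹ : D) ^ 2 ^ k = 1 := congrArg Subtype.val hk
    have hk2 : ((x : Γ) * p * (x : Γ)⁻¹ * (p : Γ)⁻¹) ^ 2 ^ k = 1 := congrArg Subtype.val hk'
    set y : N := ⟨n', hn'N⟩ * ⟨p, hpN⟩ * ⟨n', hn'N⟩⁻¹ * ⟨p, hpN⟩⁻¹ with hy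
    have hy1 : (y : Γ) = (x : Γ) * p * (x : Γ)⁻¹ * (p : Γ)⁻¹ := h4
    have hy2 : y ^ 2 ^ k = 1 := by
      apply Subtype.ext
      change (y : Γ) ^ 2 ^ k = 1
      rw [hy1, hk2]
    have hy3 : y ^ Nat.card π.ker = 1 := by
      have : (⟨y, h3⟩ : π.ker) ^ Nat.card π.ker = 1 := pow_card_eq_one'
      exact congrArg Subtype.val this
    have hy4 := Nat.dvd_gcd (orderOf_dvd_of_pow_eq_one hy2) (orderOf_dvd_of_pow_eq_one hy3)
    rw [Nat.Coprime.pow_left k (Nat.coprime_two_left.2 hodd)] at hy4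
    have hy5 : y = 1 := orderOf_eq_one_iff.1 (Nat.dvd_one.1 hy4)
    have h6 : (x : Γ) * p * (x : Γ)⁻¹ * (p : Γ)⁻¹ = 1 := by rw [← hy1, hy5]; rfl
    rw [mul_inv_eq_one, mul_inv_eq_iff_eq_mul] at h6
    exact Subtype.ext h6
  obtain ⟨W, hW⟩ := exists_odd P hPc
  refine ⟨W.map D.subtype, fun x => ?_⟩
  constructor
  · rintro ⟨y, hy, rfl⟩
    refine ⟨(hmemD _).1 y.2, ?_⟩
    have := (hW y).1 hy
    rwa [← Subgroup.orderOf_coe] at this
  · rintro ⟨h1, h2⟩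
    refine ⟨⟨x, (hmemD x).2 h1⟩, (hW _).2 ?_, rfl⟩
    rwa [Subgroup.orderOf_mk]

/-- **The elements of odd order of `C(⟨t, w⟩)` form a subgroup.** -/
theorem exists_W [Finite G] (h : FHyp t z N R π) (hC : CHyp z q ε Z T T' U s s' u) {w : N}
    (hπ : π w = u) (hww : w * w = 1) :
    ∃ W : Subgroup G, ∀ x, x ∈ W ↔ x * t = t * x ∧
      x * ((w : Subgroup.centralizer ({t} : Set G)) : G) =
        ((w : Subgroup.centralizer ({t} : Set G)) : G) * x ∧ Odd (orderOf x) := by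
  obtain ⟨W, hW⟩ := exists_W_abs h.ad π h.odd_ker (w := w) T (fun n hn => by
    apply hC.cent_T u hC.u_mem hC.u_notMem
    rw [← hπ, ← map_mul, ← map_mul]
    congr 1
    exact Subtype.ext hn) hC.T_comm hww
  refine ⟨W.map (Subgroup.centralizer ({t} : Set G)).subtype, fun x => ?_⟩
  constructor
  · rintro ⟨y, hy, rfl⟩
    obtain ⟨h1, h2⟩ := (hW y).1 hy
    refine ⟨Subgroup.mem_centralizer_singleton_iff.1 y.2, congrArg Subtype.val h1, ?_⟩
    rwa [← Subgroup.orderOf_coe] at h2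
  · rintro ⟨h1, h2, h3⟩
    refine ⟨⟨x, Subgroup.mem_centralizer_singleton_iff.2 h1⟩, (hW _).2 ⟨Subtype.ext h2, ?_⟩, rfl⟩
    rwa [Subgroup.orderOf_mk]

end Cfsg.Agent.Classification.QDW.FieldW
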