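import Mathlib

/-!
# The dichotomy (0) of the field case

`W` acts on three cyclic groups `T_0, T_1, T_2` (permuted by `S₃`) through `ρ i : W →* (ZMod m)ˣ`.
Either `ρ 0 = ρ 1 = ρ 2` (case `S`), or the Sylow `r`-subgroup `P` of `W` maps onto
`T_{0,r} × T_{1,r} × T_{2,r}` (case `U`).
-/

set_option autoImplicit false

namespace Cfsg.Agent.Classification.QDW.FuDich

/-- Three characters permuted by `S₃`: all equal, or a `w` with values `(1, d, d⁻¹)`, `d ≠ 1`. -/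
theorem exists_split {W E : Type*} [Group W] [CommGroup E] (ρ : Fin 3 → W →* E) (s h : W → W)
    (h1 : ∀ i w, ρ (i + 1) (h w) = ρ i w) (hinv : ∀ w, ∃ w', h w' = w)
    (s0 : ∀ w, ρ 0 (s w) = ρ 0 w) (s1 : ∀ w, ρ 1 (s w) = ρ 2 w) (s2 : ∀ w, ρ 2 (s w) = ρ 1 w) :
    (∀ i j, ρ i = ρ j) ∨ ∃ w, ρ 0 w = 1 ∧ ρ 1 w * ρ 2 w = 1 ∧ ρ 1 w ≠ 1 := by
  by_cases h12 : ρ 1 = ρ 2
  · left
    -- all equal
    have h20 : ρ 2 = ρ 0 := by
      ext w
      obtain ⟨w', rfl⟩ := hinv w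
      have e1 : ρ 2 (h w') = ρ 1 w' := h1 1 w'
      have e2 : ρ 0 (h w') = ρ 2 w' := h1 2 w'
      rw [e1, e2, h12]
    intro i j
    have key : ∀ k, ρ k = ρ 0 := by
      intro k
      fin_cases k
      · rfl
      · exact h12.trans h20
      · exact h20
    rw [key i, key j]
  · right
    obtain ⟨w0, hw0⟩ : ∃ w0, ρ 1 w0 ≠ ρ 2 w0 := by
      by_contra hcon
      push Not at hcon
      exact h12 (MonoidHom.ext hcon)
    refine ⟨w0⁻¹ * s w0, ?_, ?_, ?_⟩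
    · rw [map_mul, map_inv, s0, inv_mul_cancel]
    · rw [map_mul, map_mul, map_inv, map_inv, s1, s2]
      calc (ρ 1 w0)⁻¹ * ρ 2 w0 * ((ρ 2 w0)⁻¹ * ρ 1 w0) = (ρ 1 w0)⁻¹ * ρ 1 w0 := by group
        _ = 1 := inv_mul_cancel _
    · rw [map_mul, map_inv, s1]
      intro hcon
      exact hw0 (inv_mul_eq_one.1 hcon)

/-- An element acting with three different powers splits off the middle factor. -/
theorem exists_middle {P T : Type*} [Group P] [Group T] (φ : Fin 3 → P →* T)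
    (Tr : Subgroup T) (hTr : ∀ y ∈ Tr, ∃ x, φ 1 x = y) (α : P → P) (k : Fin 3 → ℤ)
    (hα : ∀ i x, φ i (α x) = φ i x ^ k i) (h0 : ∀ x, φ 0 x ^ k 0 = φ 0 x)
    (hpow : ∀ y ∈ Tr, ∃ z ∈ Tr, z ^ ((k 1 - 1) * (k 1 - k 2)) = y) (y : T) (hy : y ∈ Tr) :
    ∃ x, φ 0 x = 1 ∧ φ 1 x = y ∧ φ 2 x = 1 := by
  obtain ⟨z, hz, rfl⟩ := hpow y hy
  obtain ⟨x, rfl⟩ := hTr z hz
  -- first commutator
  obtain ⟨δ, hδ⟩ : ∃ δ : P, δ = α x * x⁻¹ := ⟨_, rfl⟩
  have d0 : φ 0 δ = 1 := by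
    rw [hδ, map_mul, map_inv, hα, h0, mul_inv_cancel]
  have d1 : φ 1 δ = φ 1 x ^ (k 1 - 1) := by
    rw [hδ, map_mul, map_inv, hα, zpow_sub, zpow_one]
  refine ⟨α δ * (δ ^ k 2)⁻¹, ?_, ?_, ?_⟩
  · rw [map_mul, map_inv, map_zpow, hα, h0, d0, one_zpow, inv_one, one_mul]
  · rw [map_mul, map_inv, map_zpow, hα, d1, ← zpow_sub, ← zpow_mul]
  · rw [map_mul, map_inv, map_zpow, hα, mul_inv_cancel]

/-- `z ↦ z ^ e` is onto on a finite group of order prime to `e`. -/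
theorem exists_zpow_eq {T : Type*} [Group T] (Tr : Subgroup T) [Finite Tr] {e : ℤ}
    (he : IsCoprime e (Nat.card Tr)) (y : T) (hy : y ∈ Tr) : ∃ z ∈ Tr, z ^ e = y := by
  obtain ⟨a, b, hab⟩ := he
  refine ⟨y ^ a, Tr.zpow_mem hy a, ?_⟩
  have hcard : y ^ ((Nat.card Tr : ℕ) : ℤ) = 1 := by
    rw [zpow_natCast]
    have := pow_card_eq_one' (x := (⟨y, hy⟩ : Tr))
    exact congrArg Subtype.val this
  calc (y ^ a) ^ e = y ^ (a * e) := (zpow_mul y a e).symm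
    _ = y ^ (a * e + b * (Nat.card Tr : ℕ)) := by
        rw [zpow_add, mul_comm b, zpow_mul y _ b, hcard, one_zpow, mul_one]
    _ = y := by rw [hab, zpow_one]

end Cfsg.Agent.Classification.QDW.FuDich
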