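import Mathlib
import Cfsg.Agent.Classification.QDW.TypeHom
import Cfsg.Agent.ClassicalGeometry.NegOneOmega

/-!
# Tori of `SL(2,F)`

`g : GL(2,F)` of trace zero, `TG g` the subgroup of `SL(2,F)` commuting with `g`.

* `exists_eig`: an injective homomorphism `χ : TG g →* Ωˣ` with `tr x = χ x + (χ x)⁻¹`;
* `isCyclic_TG`; `eq_or_eq_inv`: two elements of `TG g` with the same trace are equal or inverse;
* `tr_pow`: `tr (x ^ p ^ i) = tr x ^ p ^ i`;
* `card_TG`: `|TG g| = q - 1` if `-det g` is a square, `q + 1` otherwise.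
-/

set_option autoImplicit false
set_option linter.unusedSectionVars false

namespace Cfsg.Agent.Classification.QDW.TorusG

open Subgroup Matrix Cfsg.Agent.Lib.SL2Mat Cfsg.Agent.Classification.QDW.TypeHom

variable {F : Type*} [Field F]

/-- The elements of `SL(2,F)` commuting with `g`. -/
def TG (g : GL (Fin 2) F) : Subgroup (SpecialLinearGroup (Fin 2) F) where
  carrier := {x | conjGL g x = x}
  one_mem' := map_one _
  mul_mem' := by
    intro a b ha hb
    change conjGL g (a * b) = a * b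
    rw [map_mul, show conjGL g a = a from ha, show conjGL g b = b from hb]
  inv_mem' := by
    intro a ha
    change conjGL g a⁻¹ = a⁻¹
    rw [map_inv, show conjGL g a = a from ha]

theorem mem_TG (g : GL (Fin 2) F) (x : SpecialLinearGroup (Fin 2) F) : x ∈ TG g ↔ conjGL g x = x :=
  Iff.rfl

theorem mem_TG_iff (g : GL (Fin 2) F) (x : SpecialLinearGroup (Fin 2) F) :
    x ∈ TG g ↔ g.1 * x.1 = x.1 * g.1 := by
  constructor
  · intro h
    have h : (conjGL g x).1 = x.1 := congrArg Subtype.val ((mem_TG g x).1 h)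
    rw [conjGL_val] at h
    calc g.1 * x.1 = g.1 * x.1 * (g⁻¹.1 * g.1) := by
          rw [← Units.val_mul, inv_mul_cancel, Units.val_one, mul_one]
      _ = (g.1 * x.1 * g⁻¹.1) * g.1 := by rw [mul_assoc, mul_assoc, mul_assoc]
      _ = x.1 * g.1 := by rw [h]
  · intro h
    refine (mem_TG g x).2 (Subtype.ext ?_)
    rw [conjGL_val, h, mul_assoc, ← Units.val_mul, mul_inv_cancel, Units.val_one, mul_one]

/-- The coefficients: `x = A x + B x * g`. -/
noncomputable def A (x : SpecialLinearGroup (Fin 2) F) : F := tr x / 2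

/-- The coefficients: `x = A x + B x * g`. -/
noncomputable def B (g : GL (Fin 2) F) (x : SpecialLinearGroup (Fin 2) F) : F :=
  (x.1 * g.1).trace / (-2 * g.1.det)

theorem det_ne (g : GL (Fin 2) F) : g.1.det ≠ 0 := by
  have h := g.2
  intro h0
  have h1 : g.1.det * (g⁻¹).1.det = 1 := by
    rw [← det_mul, ← Units.val_mul, mul_inv_cancel, Units.val_one, det_one]
  rw [h0, zero_mul] at h1
  exact zero_ne_one h1

theorem entries {g : GL (Fin 2) F} {x : SpecialLinearGroup (Fin 2) F} (h : x ∈ TG g)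
    (ht : g.1 0 0 + g.1 1 1 = 0) :
    x.1 0 1 * g.1 1 0 = g.1 0 1 * x.1 1 0 ∧ g.1 0 1 * (x.1 0 0 - x.1 1 1) = 2 * g.1 0 0 * x.1 0 1 ∧
      g.1 1 0 * (x.1 0 0 - x.1 1 1) = 2 * g.1 0 0 * x.1 1 0 := by
  rw [mem_TG_iff] at h
  have h00 := congrFun (congrFun h 0) 0
  have h01 := congrFun (congrFun h 0) 1
  have h10 := congrFun (congrFun h 1) 0
  simp only [Matrix.mul_apply, Fin.sum_univ_two] at h00 h01 h10
  refine ⟨?_, ?_, ?_⟩
  · linear_combination -h00
  · linear_combination -h01 - x.1 0 1 * ht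
  · linear_combination h10 - x.1 1 0 * ht

theorem decomp (h2 : (2 : F) ≠ 0) {g : GL (Fin 2) F} {x : SpecialLinearGroup (Fin 2) F}
    (h : x ∈ TG g) (ht : g.1 0 0 + g.1 1 1 = 0) : x.1 = A x • (1 : Matrix (Fin 2) (Fin 2) F) + B g x • g.1 := by
  obtain ⟨h1, h3, h4⟩ := entries h ht
  have hd := det_ne g
  have hD : g.1.det = g.1 0 0 * g.1 1 1 - g.1 0 1 * g.1 1 0 := det_fin_two _
  have htr : (x.1 * g.1).trace = x.1 0 0 * g.1 0 0 + x.1 0 1 * g.1 1 0 + (x.1 1 0 * g.1 0 1 + x.1 1 1 * g.1 1 1) := by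
    rw [Matrix.trace_fin_two, Matrix.mul_apply, Matrix.mul_apply, Fin.sum_univ_two, Fin.sum_univ_two]
  have hB : B g x * (2 * g.1.det) = - (x.1 * g.1).trace := by
    unfold B
    field_simp
  have hA : 2 * A x = x.1 0 0 + x.1 1 1 := by
    unfold A tr
    field_simp
  have hg : g.1 1 1 = - g.1 0 0 := by linear_combination ht
  rw [htr] at hB
  rw [hD, hg] at hB hd
  set D : F := g.1 0 0 * -g.1 0 0 - g.1 0 1 * g.1 1 0 with hDdef
  have h2D : 2 * D ≠ 0 := mul_ne_zero h2 hd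
  ext i j
  fin_cases i <;> fin_cases j
  all_goals
    simp only [Matrix.add_apply, Matrix.smul_apply, smul_eq_mul, Fin.zero_eta, Fin.mk_one,
      Matrix.one_apply_eq, mul_one]
    apply mul_left_cancel₀ h2D
  · rw [hDdef] at hB ⊢
    linear_combination -(g.1 0 0 * -g.1 0 0 - g.1 0 1 * g.1 1 0) * hA - g.1 0 0 * hB - g.1 1 0 * h3 -
      g.1 0 0 * h1
  · rw [hDdef] at hB ⊢
    simp only [ne_eq, Fin.reduceEq, not_false_eq_true, Matrix.one_apply_ne, mul_zero, zero_add]
    linear_combination -g.1 0 1 * hB + g.1 0 0 * h3 - g.1 0 1 * h1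
  · rw [hDdef] at hB ⊢
    simp only [ne_eq, Fin.reduceEq, not_false_eq_true, Matrix.one_apply_ne, mul_zero, zero_add]
    linear_combination -g.1 1 0 * hB + g.1 0 0 * h4 + g.1 1 0 * h1
  · rw [hDdef] at hB ⊢
    rw [hg]
    linear_combination -(g.1 0 0 * -g.1 0 0 - g.1 0 1 * g.1 1 0) * hA + g.1 0 0 * hB + g.1 1 0 * h3 +
      g.1 0 0 * h1

theorem g_sq {g : GL (Fin 2) F} (ht : g.1 0 0 + g.1 1 1 = 0) :
    g.1 * g.1 = (-g.1.det) • (1 : Matrix (Fin 2) (Fin 2) F) := by
  have hD : g.1.det = g.1 0 0 * g.1 1 1 - g.1 0 1 * g.1 1 0 := det_fin_two _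
  rw [hD]
  ext i j
  fin_cases i <;> fin_cases j
  all_goals
    simp only [Matrix.mul_apply, Fin.sum_univ_two, Matrix.smul_apply, smul_eq_mul, Fin.zero_eta, Fin.mk_one,
      Matrix.one_apply_eq, mul_one, ne_eq, Fin.reduceEq, not_false_eq_true, Matrix.one_apply_ne, mul_zero]
  · linear_combination g.1 0 0 * ht
  · linear_combination g.1 0 1 * ht
  · linear_combination g.1 1 0 * ht
  · linear_combination g.1 1 1 * ht

theorem A_mul (h2 : (2 : F) ≠ 0) {g : GL (Fin 2) F} {x y : SpecialLinearGroup (Fin 2) F}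
    (hx : x ∈ TG g) (hy : y ∈ TG g) (ht : g.1 0 0 + g.1 1 1 = 0) :
    A (x * y) = A x * A y - g.1.det * (B g x * B g y) := by
  have h := congrArg Matrix.trace (congrArg₂ (· * ·) (decomp h2 hx ht) (decomp h2 hy ht))
  have htr : g.1.trace = 0 := by rw [Matrix.trace_fin_two]; exact ht
  simp only [Matrix.add_mul, Matrix.mul_add, Matrix.smul_mul, Matrix.mul_smul, one_mul, mul_one, g_sq ht,
    Matrix.trace_add, Matrix.trace_smul, htr, Matrix.trace_one, Fintype.card_fin, smul_eq_mul] at h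
  rw [← val_mul, ← tr_eq] at h
  unfold A at h ⊢
  apply mul_left_cancel₀ h2
  rw [mul_div_cancel₀ _ h2, h]
  push_cast
  ring

theorem B_mul (h2 : (2 : F) ≠ 0) {g : GL (Fin 2) F} {x y : SpecialLinearGroup (Fin 2) F}
    (hx : x ∈ TG g) (hy : y ∈ TG g) (ht : g.1 0 0 + g.1 1 1 = 0) :
    B g (x * y) = A x * B g y + B g x * A y := by
  have hd := det_ne g
  have h := congrArg (fun M => (M * g.1).trace)
    (congrArg₂ (· * ·) (decomp h2 hx ht) (decomp h2 hy ht))
  have htr : g.1.trace = 0 := by rw [Matrix.trace_fin_two]; exact ht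
  simp only [Matrix.add_mul, Matrix.mul_add, Matrix.smul_mul, Matrix.mul_smul, one_mul, mul_one, g_sq ht,
    Matrix.trace_add, Matrix.trace_smul, htr, Matrix.trace_one, Fintype.card_fin, smul_eq_mul] at h
  rw [← val_mul] at h
  have h3 : (-2 * g.1.det) ≠ 0 := mul_ne_zero (neg_ne_zero.2 h2) hd
  have h4 : B g (x * y) * (-2 * g.1.det) = ((x * y).1 * g.1).trace := by
    unfold B
    rw [div_mul_cancel₀ _ h3]
  apply mul_right_cancel₀ h3
  rw [h4, h]
  push_cast
  ring

theorem A_one (h2 : (2 : F) ≠ 0) : A (1 : SpecialLinearGroup (Fin 2) F) = 1 := by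
  unfold A
  rw [tr_eq, val_one, Matrix.trace_one, Fintype.card_fin]
  push_cast
  exact div_self h2

theorem B_one {g : GL (Fin 2) F} (ht : g.1 0 0 + g.1 1 1 = 0) :
    B g (1 : SpecialLinearGroup (Fin 2) F) = 0 := by
  unfold B
  rw [val_one, one_mul, Matrix.trace_fin_two, ht, zero_div]

theorem norm_eq (h2 : (2 : F) ≠ 0) {g : GL (Fin 2) F} {x : SpecialLinearGroup (Fin 2) F}
    (hx : x ∈ TG g) (ht : g.1 0 0 + g.1 1 1 = 0) : A x * A x + g.1.det * (B g x * B g x) = 1 := by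
  have hD : g.1.det = g.1 0 0 * g.1 1 1 - g.1 0 1 * g.1 1 0 := det_fin_two _
  have h1 := x.2
  rw [decomp h2 hx ht, det_fin_two] at h1
  simp only [Matrix.add_apply, Matrix.smul_apply, smul_eq_mul, Matrix.one_apply_eq, mul_one, ne_eq,
    not_false_eq_true, Matrix.one_apply_ne, mul_zero, zero_add, one_ne_zero, zero_ne_one] at h1
  rw [← h1, hD]
  linear_combination -(A x * B g x) * ht

/-- The eigenvalue homomorphism. -/
theorem exists_eig (h2 : (2 : F) ≠ 0) {g : GL (Fin 2) F} (ht : g.1 0 0 + g.1 1 1 = 0) :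
    ∃ χ : TG g →* (AlgebraicClosure F)ˣ, Function.Injective χ ∧ ∀ x : TG g,
      algebraMap F (AlgebraicClosure F) (tr x.1) = (χ x : AlgebraicClosure F) + ((χ x)⁻¹ : (AlgebraicClosure F)ˣ) := by
  set ι := algebraMap F (AlgebraicClosure F) with hι
  have hd := det_ne g
  obtain ⟨θ, hθ⟩ := IsAlgClosed.exists_pow_nat_eq (ι (-g.1.det)) (n := 2) (by norm_num)
  have hθ0 : θ ≠ 0 := by
    rintro rfl
    rw [zero_pow (by norm_num)] at hθ
    exact neg_ne_zero.2 hd ((map_eq_zero ι).1 hθ.symm)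
  have h2' : (2 : AlgebraicClosure F) ≠ 0 := by
    intro h
    apply h2
    apply (map_eq_zero ι).1
    rw [map_ofNat]
    exact h
  have hn : ∀ x ∈ TG g, (ι (A x) + ι (B g x) * θ) * (ι (A x) - ι (B g x) * θ) = 1 := by
    intro x hx
    have h1 := congrArg ι (norm_eq h2 hx ht)
    rw [map_add, map_mul, map_mul, map_mul, map_one] at h1
    rw [map_neg] at hθ
    rw [← h1]
    linear_combination -(ι (B g x)) * (ι (B g x)) * hθ
  have hn' : ∀ x ∈ TG g, (ι (A x) - ι (B g x) * θ) * (ι (A x) + ι (B g x) * θ) = 1 := by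
    intro x hx
    rw [mul_comm, hn x hx]
  let χ : TG g →* (AlgebraicClosure F)ˣ :=
    { toFun := fun x => ⟨ι (A x.1) + ι (B g x.1) * θ, ι (A x.1) - ι (B g x.1) * θ, hn x.1 x.2, hn' x.1 x.2⟩
      map_one' := by
        apply Units.ext
        change ι (A 1) + ι (B g 1) * θ = 1
        rw [A_one h2, B_one ht, map_one, map_zero, zero_mul, add_zero]
      map_mul' := by
        intro x y
        apply Units.ext
        change ι (A (x.1 * y.1)) + ι (B g (x.1 * y.1)) * θ =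
          (ι (A x.1) + ι (B g x.1) * θ) * (ι (A y.1) + ι (B g y.1) * θ)
        rw [A_mul h2 x.2 y.2 ht, B_mul h2 x.2 y.2 ht, map_add, map_sub, map_mul, map_mul, map_mul, map_mul,
          map_mul]
        rw [map_neg] at hθ
        linear_combination -(ι (B g x.1)) * (ι (B g y.1)) * hθ }
  have hχ : ∀ x, (χ x : AlgebraicClosure F) = ι (A x.1) + ι (B g x.1) * θ := fun _ => rfl
  have hχi : ∀ x, (((χ x)⁻¹ : (AlgebraicClosure F)ˣ) : AlgebraicClosure F) =
      ι (A x.1) - ι (B g x.1) * θ := fun _ => rfl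
  refine ⟨χ, ?_, ?_⟩
  · intro x y hxy
    have h1 := congrArg (fun u : (AlgebraicClosure F)ˣ => (u : AlgebraicClosure F)) hxy
    have h3 := congrArg (fun u : (AlgebraicClosure F)ˣ => ((u⁻¹ : (AlgebraicClosure F)ˣ) : AlgebraicClosure F)) hxy
    simp only [hχ, hχi] at h1 h3
    have hA : A x.1 = A y.1 := by
      apply (algebraMap F (AlgebraicClosure F)).injective
      apply mul_left_cancel₀ h2'
      linear_combination h1 + h3
    have hB : B g x.1 = B g y.1 := by
      apply (algebraMap F (AlgebraicClosure F)).injective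
      apply mul_left_cancel₀ (mul_ne_zero h2' hθ0)
      linear_combination h1 - h3
    apply Subtype.ext
    apply Subtype.ext
    rw [decomp h2 x.2 ht, decomp h2 y.2 ht, hA, hB]
  · intro x
    rw [hχ, hχi]
    have h1 : tr x.1 = A x.1 + A x.1 := by
      unfold A
      field_simp
      ring
    rw [h1, map_add]
    ring

theorem isCyclic_TG [Finite F] (h2 : (2 : F) ≠ 0) {g : GL (Fin 2) F} (ht : g.1 0 0 + g.1 1 1 = 0) :
    IsCyclic (TG g) := by
  obtain ⟨χ, hχ, -⟩ := exists_eig h2 ht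
  exact isCyclic_of_injective_ringHom ((Units.coeHom _).comp χ) (Units.val_injective.comp hχ)

theorem eq_or_eq_inv (h2 : (2 : F) ≠ 0) {g : GL (Fin 2) F} (ht : g.1 0 0 + g.1 1 1 = 0)
    {x y : SpecialLinearGroup (Fin 2) F} (hx : x ∈ TG g) (hy : y ∈ TG g) (h : tr x = tr y) :
    x = y ∨ x = y⁻¹ := by
  obtain ⟨χ, hχ, hχ2⟩ := exists_eig h2 ht
  have h1 := hχ2 ⟨x, hx⟩
  have h3 := hχ2 ⟨y, hy⟩
  rw [show tr (⟨x, hx⟩ : TG g).1 = tr (⟨y, hy⟩ : TG g).1 from h, h3] at h1
  set a := χ ⟨x, hx⟩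
  set b := χ ⟨y, hy⟩
  have h4 : ((b : AlgebraicClosure F) - a) * (1 - (a⁻¹ : (AlgebraicClosure F)ˣ) * (b⁻¹ : (AlgebraicClosure F)ˣ)) = 0 := by
    have ha : (a : AlgebraicClosure F) * (a⁻¹ : (AlgebraicClosure F)ˣ) = 1 := by rw [← Units.val_mul, mul_inv_cancel, Units.val_one]
    have hb : (b : AlgebraicClosure F) * (b⁻¹ : (AlgebraicClosure F)ˣ) = 1 := by rw [← Units.val_mul, mul_inv_cancel, Units.val_one]
    linear_combination h1 + ((b⁻¹ : (AlgebraicClosure F)ˣ) : AlgebraicClosure F) * ha -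
      ((a⁻¹ : (AlgebraicClosure F)ˣ) : AlgebraicClosure F) * hb
  rcases mul_eq_zero.1 h4 with h5 | h5
  · left
    have h6 : a = b := Units.ext (sub_eq_zero.1 h5).symm
    exact congrArg Subtype.val (hχ h6)
  · right
    have h6 : a = b⁻¹ := by
      apply inv_injective
      rw [inv_inv]
      apply eq_of_mul_inv_eq_one
      apply Units.ext
      rw [Units.val_mul, Units.val_one]
      exact (sub_eq_zero.1 h5).symm
    rw [← map_inv] at h6
    exact congrArg Subtype.val (hχ h6)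

theorem tr_pow (h2 : (2 : F) ≠ 0) {g : GL (Fin 2) F} (ht : g.1 0 0 + g.1 1 1 = 0) {p : ℕ} [Fact p.Prime]
    [CharP F p] {x : SpecialLinearGroup (Fin 2) F} (hx : x ∈ TG g) (i : ℕ) :
    tr (x ^ p ^ i) = tr x ^ p ^ i := by
  have : CharP (AlgebraicClosure F) p := charP_of_injective_algebraMap (algebraMap F _).injective p
  obtain ⟨χ, hχ, hχ2⟩ := exists_eig h2 ht
  apply (algebraMap F (AlgebraicClosure F)).injective
  rw [map_pow]
  have h1 := hχ2 ⟨x, hx⟩
  have h3 := hχ2 (⟨x, hx⟩ ^ p ^ i)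
  rw [map_pow, ← inv_pow, Units.val_pow_eq_pow_val, Units.val_pow_eq_pow_val, ← add_pow_char_pow] at h3
  rw [show tr (⟨x, hx⟩ : TG g).1 = tr x from rfl] at h1
  rw [← h1] at h3
  exact h3

/-- The torus as a conic. -/
noncomputable def conicEquiv (h2 : (2 : F) ≠ 0) {g : GL (Fin 2) F} (ht : g.1 0 0 + g.1 1 1 = 0) :
    TG g ≃ {z : F × F // z.1 * z.1 + g.1.det * (z.2 * z.2) = 1} where
  toFun x := ⟨(A x.1, B g x.1), norm_eq h2 x.2 ht⟩
  invFun z := ⟨⟨z.1.1 • (1 : Matrix (Fin 2) (Fin 2) F) + z.1.2 • g.1, by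
    have hD : g.1.det = g.1 0 0 * g.1 1 1 - g.1 0 1 * g.1 1 0 := det_fin_two _
    have h := z.2
    rw [det_fin_two]
    simp only [Matrix.add_apply, Matrix.smul_apply, smul_eq_mul, Matrix.one_apply_eq, mul_one, ne_eq,
      not_false_eq_true, Matrix.one_apply_ne, mul_zero, zero_add, one_ne_zero, zero_ne_one]
    linear_combination h + z.1.1 * z.1.2 * ht - z.1.2 * z.1.2 * hD⟩, by
    refine (mem_TG_iff _ _).2 ?_
    change g.1 * (z.1.1 • (1 : Matrix (Fin 2) (Fin 2) F) + z.1.2 • g.1) =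
      (z.1.1 • (1 : Matrix (Fin 2) (Fin 2) F) + z.1.2 • g.1) * g.1
    rw [mul_add, add_mul, Matrix.mul_smul, Matrix.mul_smul, Matrix.smul_mul, Matrix.smul_mul, mul_one,
      one_mul]⟩
  left_inv x := by
    apply Subtype.ext
    apply Subtype.ext
    exact (decomp h2 x.2 ht).symm
  right_inv z := by
    apply Subtype.ext
    have hd := det_ne g
    have htr : g.1.trace = 0 := by rw [Matrix.trace_fin_two]; exact ht
    refine Prod.ext ?_ ?_
    · change A _ = z.1.1
      unfold A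
      rw [tr_eq]
      change (z.1.1 • (1 : Matrix (Fin 2) (Fin 2) F) + z.1.2 • g.1).trace / 2 = z.1.1
      rw [Matrix.trace_add, Matrix.trace_smul, Matrix.trace_smul, htr, Matrix.trace_one, Fintype.card_fin,
        smul_zero, add_zero, smul_eq_mul]
      push_cast
      exact mul_div_cancel_right₀ _ h2
    · change B g _ = z.1.2
      unfold B
      change ((z.1.1 • (1 : Matrix (Fin 2) (Fin 2) F) + z.1.2 • g.1) * g.1).trace / (-2 * g.1.det) = z.1.2
      rw [add_mul, Matrix.smul_mul, Matrix.smul_mul, one_mul, g_sq ht, Matrix.trace_add, Matrix.trace_smul,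
        Matrix.trace_smul, Matrix.trace_smul, htr, Matrix.trace_one, Fintype.card_fin, smul_zero, zero_add,
        smul_eq_mul, smul_eq_mul]
      push_cast
      rw [div_eq_iff (mul_ne_zero (neg_ne_zero.2 h2) hd)]
      ring

theorem card_TG_of_square [Finite F] (h2 : (2 : F) ≠ 0) {g : GL (Fin 2) F}
    (ht : g.1 0 0 + g.1 1 1 = 0) (hs : IsSquare (-g.1.det)) : Nat.card (TG g) = Nat.card F - 1 := by
  have hd := det_ne g
  obtain ⟨s, hs⟩ := hs
  have hs0 : s ≠ 0 := by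
    rintro rfl
    rw [mul_zero] at hs
    exact neg_ne_zero.2 hd hs
  rw [Nat.card_congr (conicEquiv h2 ht), ← Nat.card_units]
  have h2s : 2 * s ≠ 0 := mul_ne_zero h2 hs0
  have hdet : g.1.det = - (s * s) := by rw [← hs, neg_neg]
  have hu : ∀ u : Fˣ, (u : F) * (u⁻¹ : Fˣ) = 1 := by
    intro u; rw [← Units.val_mul, mul_inv_cancel, Units.val_one]
  have h1 : ∀ u : Fˣ, ((u : F) + (u⁻¹ : Fˣ)) / 2 * (((u : F) + (u⁻¹ : Fˣ)) / 2) + g.1.det *
      (((u : F) - (u⁻¹ : Fˣ)) / (2 * s) * (((u : F) - (u⁻¹ : Fˣ)) / (2 * s))) = 1 := by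
    intro u
    have h3 : ((u : F) + (u⁻¹ : Fˣ)) / 2 * (((u : F) + (u⁻¹ : Fˣ)) / 2) + -(s * s) *
      (((u : F) - (u⁻¹ : Fˣ)) / (2 * s) * (((u : F) - (u⁻¹ : Fˣ)) / (2 * s))) = (u : F) * (u⁻¹ : Fˣ) := by
      field_simp
      ring
    rw [hdet, h3, hu]
  have h3 : ∀ z : {z : F × F // z.1 * z.1 + g.1.det * (z.2 * z.2) = 1},
      (z.1.1 + s * z.1.2) * (z.1.1 - s * z.1.2) = 1 := by
    intro z
    have h := z.2
    linear_combination h - z.1.2 * z.1.2 * hdet
  have h4 : ∀ z : {z : F × F // z.1 * z.1 + g.1.det * (z.2 * z.2) = 1},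
      (z.1.1 - s * z.1.2) * (z.1.1 + s * z.1.2) = 1 := by
    intro z
    rw [mul_comm, h3]
  refine (Nat.card_congr (
    { toFun := fun u : Fˣ => ⟨(((u : F) + (u⁻¹ : Fˣ)) / 2, ((u : F) - (u⁻¹ : Fˣ)) / (2 * s)), h1 u⟩
      invFun := fun z => ⟨z.1.1 + s * z.1.2, z.1.1 - s * z.1.2, h3 z, h4 z⟩
      left_inv := ?_
      right_inv := ?_ } : Fˣ ≃ {z : F × F // z.1 * z.1 + g.1.det * (z.2 * z.2) = 1})).symm
  · intro u
    apply Units.ext
    change ((u : F) + (u⁻¹ : Fˣ)) / 2 + s * (((u : F) - (u⁻¹ : Fˣ)) / (2 * s)) = u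
    field_simp
    ring
  · intro z
    apply Subtype.ext
    refine Prod.ext ?_ ?_
    · change ((z.1.1 + s * z.1.2) + (z.1.1 - s * z.1.2)) / 2 = z.1.1
      field_simp
      ring
    · change ((z.1.1 + s * z.1.2) - (z.1.1 - s * z.1.2)) / (2 * s) = z.1.2
      field_simp
      ring

theorem card_TG_of_not_square [Finite F] (h2 : (2 : F) ≠ 0) {g : GL (Fin 2) F}
    (ht : g.1 0 0 + g.1 1 1 = 0) (hs : ¬ IsSquare (-g.1.det)) : Nat.card (TG g) = Nat.card F + 1 := by
  classical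
  let _ := Fintype.ofFinite F
  rw [Nat.card_congr (conicEquiv h2 ht), Nat.card_eq_fintype_card (α := F),
    ← Cfsg.Agent.ClassicalGeometry.NegOneOmega.card_binary h2 0 g.1.det, ← Nat.card_eq_fintype_card]
  · have h1 : ∀ z : {z : F × F // z.1 * z.1 + g.1.det * (z.2 * z.2) = 1},
        (![z.1.1, z.1.2] : Fin 2 → F) 0 ^ 2 + 0 * (![z.1.1, z.1.2] : Fin 2 → F) 0 *
          (![z.1.1, z.1.2] : Fin 2 → F) 1 + g.1.det * (![z.1.1, z.1.2] : Fin 2 → F) 1 ^ 2 = 1 := by
      intro z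
      have h := z.2
      change z.1.1 ^ 2 + 0 * z.1.1 * z.1.2 + g.1.det * z.1.2 ^ 2 = 1
      linear_combination h
    have h3 : ∀ z : {z : Fin 2 → F // z 0 ^ 2 + 0 * z 0 * z 1 + g.1.det * z 1 ^ 2 = 1},
        z.1 0 * z.1 0 + g.1.det * (z.1 1 * z.1 1) = 1 := by
      intro z
      have h := z.2
      linear_combination h
    refine Nat.card_congr (
      { toFun := fun z => ⟨![z.1.1, z.1.2], h1 z⟩
        invFun := fun z => ⟨(z.1 0, z.1 1), h3 z⟩
        left_inv := ?_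
        right_inv := ?_ } : {z : F × F // z.1 * z.1 + g.1.det * (z.2 * z.2) = 1} ≃
          {z : Fin 2 → F // z 0 ^ 2 + 0 * z 0 * z 1 + g.1.det * z 1 ^ 2 = 1})
    · intro z; rfl
    · intro z
      apply Subtype.ext
      funext i
      fin_cases i <;> rfl
  · intro a b hab
    by_cases hb : b = 0
    · refine ⟨?_, hb⟩
      rw [hb] at hab
      have : a ^ 2 = 0 := by linear_combination hab
      exact pow_eq_zero_iff (two_ne_zero) |>.1 this
    · exfalso
      apply hs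
      refine ⟨a / b, ?_⟩
      have : a * a = -g.1.det * (b * b) := by linear_combination hab
      rw [div_mul_div_comm, this, mul_div_assoc, div_self (mul_ne_zero hb hb), mul_one]

end Cfsg.Agent.Classification.QDW.TorusG
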