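import Mathlib
import Cfsg.Agent.Classification.QDW.GlauberTwo
import Cfsg.Agent.Classification.QDW.Inertia
import Cfsg.Agent.Classification.QDW.LineC

/-!
# Field automorphisms: the local data of case U

`Geo`: the group `H = C₁/K` with the torus `T ∋ u₀`, `Tr` a Sylow `r`-subgroup of `H` in `T`.
`Fu`: the group `N = N_{C₁}(R)`, `R` an `r`-subgroup of `K`, normal in `N`.
-/

set_option autoImplicit false
set_option linter.unusedSectionVars false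

namespace Cfsg.Agent.Classification.QDW.CaseU

open Cfsg Cfsg.Agent.Classification.InvCent

universe u

/-- The conjugate `g S g⁻¹`. -/
def cj {G : Type*} [Group G] (g : G) (S : Subgroup G) : Subgroup G :=
  S.map (MulAut.conj g).toMonoidHom

theorem mem_cj {G : Type*} [Group G] {g : G} {S : Subgroup G} {x : G} :
    x ∈ cj g S ↔ g⁻¹ * x * g ∈ S := by
  constructor
  · rintro ⟨y, hy, rfl⟩
    have : g⁻¹ * ((MulAut.conj g).toMonoidHom y) * g = y := by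
      show g⁻¹ * (g * y * g⁻¹) * g = y
      group
    rw [this]
    exact hy
  · intro h
    refine ⟨g⁻¹ * x * g, h, ?_⟩
    show g * (g⁻¹ * x * g) * g⁻¹ = x
    group

/-- The normalizer. -/
abbrev Nm {G : Type*} [Group G] (S : Subgroup G) : Subgroup G := Subgroup.normalizer (S : Set G)

/-- The average of `X` over `Y` (the dimension of the fixed space of `Y`). -/
noncomputable def avg {G : Type*} [Group G] (Y : Subgroup G) (X : G → ℂ) : ℂ :=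
  (Nat.card Y : ℂ)⁻¹ * ∑ᶠ y : Y, X y

/-- The subgroup data of `H`. `L₀` is `SL₂(q)`, `Tr` the Sylow `r`-subgroup of the torus `T`,
`E` a `2`-subgroup of `T` (QD: `⟨z, u₀⟩`; wreathed: the Sylow `2`-subgroup of `T`). -/
structure Geo {H : Type*} [Group H] (z : H) (q : ℕ) (ε : ℤ) (Z T T' U : Subgroup H)
    (s₀ s₀' u₀ : H) (L₀ Tr E : Subgroup H) (r : ℕ) : Prop where
  chyp : CHyp z q ε Z T T' U s₀ s₀' u₀
  norm₁ : ε = 1 → ∀ τ ∈ T, ∀ v ∈ U, τ * v * τ⁻¹ ∈ U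
  q_big : 27 ≤ q
  Z_two : ∃ k, Nat.card Z = 2 ^ k
  L_normal : L₀.Normal
  s_mem : s₀ ∈ L₀ ⊔ E
  E_le : E ≤ T
  z_mem : z ∈ E
  u_mem : u₀ ∈ E
  Tr_le : Tr ≤ T
  Tr_pg : IsPGroup r Tr
  Tr_index : ¬ r ∣ Tr.index
  /-- Zsigmondy-Dickson -/
  tri : ∀ J : Subgroup H, Tr ≤ J → E ≤ J → ¬ L₀ ≤ J →
    (∀ g ∈ J, ∀ x ∈ Tr, g * x * g⁻¹ ∈ Tr) ∨
    (ε = 1 ∧ ((U ≤ J ∧ J ≤ Nm U) ∨ (cj s₀ U ≤ J ∧ J ≤ Nm (cj s₀ U))))
  /-- `|H : N(Tr)| = q (q + ε) / 2` -/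
  index_T : (q : ℤ) * (q + ε) ≤ 2 * (Nm Tr).index

/-- The data of `N = N_{C₁}(R)`. `P` is a Sylow `r`-subgroup of `W = O(C(⟨t,u⟩))`,
`Au = A_u ∩ N`, `Atu = A_{tu} ∩ N`, `P ∩ R = P ∩ A_t = C_R(u)`. -/
structure Fu {N : Type*} [Group N] {H : Type*} [Group H] (π : N →* H) (z u₀ s₀ : H)
    (Tr E : Subgroup H) (t u s : N) (Au Atu P R D : Subgroup N) (r mr : ℕ) : Prop where
  surj : Function.Surjective π
  oddK : Odd (Nat.card π.ker)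
  prime : r.Prime
  r7 : 7 ≤ r
  mr_eq : ∃ k, mr = r ^ (k + 1)
  R_normal : R.Normal
  R_le : R ≤ π.ker
  R_pg : IsPGroup r R
  tt : t * t = 1
  t_comm : ∀ x, Commute t x
  map_t : π t = z
  uu : u * u = 1
  map_u : π u = u₀
  su : s * u * s⁻¹ = t * u
  map_s : π s = s₀
  P_pg : IsPGroup r P
  P_comm : ∀ x ∈ P, Commute u x
  map_P : P.map π = Tr
  fix_le : ∀ x ∈ R, Commute u x → x ∈ P
  P_ker : ∀ x ∈ P, π x = 1 → x ∈ R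
  s_P : ∀ x, x ∈ P ↔ s * x * s⁻¹ ∈ P
  t_D : t ∈ D
  u_D : u ∈ D
  map_D : D.map π = E
  D_comm : ∀ d ∈ D, Commute u d
  D_P : ∀ d ∈ D, ∀ x ∈ P, d * x * d⁻¹ * x⁻¹ ∈ P ⊓ R ⊓ Au ⊓ Atu
  Au_conj : ∀ g, Commute u g → ∀ x ∈ Au, g * x * g⁻¹ ∈ Au
  Atu_conj : ∀ g, Commute u g → ∀ x ∈ Atu, g * x * g⁻¹ ∈ Atu
  s_Au : ∀ x, x ∈ Au ↔ s * x * s⁻¹ ∈ Atu
  s_Atu : ∀ x, x ∈ Atu ↔ s * x * s⁻¹ ∈ Au
  cyc_u : ∃ g ∈ P, ∀ x ∈ P, ∃ k : ℕ, x * (g ^ k)⁻¹ ∈ Au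
  cyc_tu : ∃ g ∈ P, ∀ x ∈ P, ∃ k : ℕ, x * (g ^ k)⁻¹ ∈ Atu
  cyc_t : ∃ g ∈ P, ∀ x ∈ P, ∃ k : ℕ, x * (g ^ k)⁻¹ ∈ R
  idx_u : (P ⊓ Au).relIndex P = mr
  idx_tu : (P ⊓ Atu).relIndex P = mr
  idx_t : (P ⊓ R).relIndex P = mr
  idx_0 : (P ⊓ R ⊓ Au ⊓ Atu).relIndex P = mr ^ 3

/-- The values of `X = E_-` (trace on the `(-1)`-eigenspace of `t`). -/
structure Val {N : Type*} [Group N] [Finite N] (t u : N) (Au Atu P : Subgroup N) (q : ℕ)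
    (ε : ℤ) (m : ℕ) (X : N → ℂ) : Prop where
  char : IsCharacter N X
  neg : ∀ x, X (t * x) = - X x
  two_m : (2 * m : ℤ) = q - ε
  val₀ : ∀ y ∈ P, y ∈ Au → y ∈ Atu → X (u * y) = 0
  val₁ : ∀ y ∈ P, y ∈ Au → y ∉ Atu → X (u * y) = ε * m
  val₂ : ∀ y ∈ P, y ∉ Au → y ∈ Atu → X (u * y) = - (ε * m)
  val₃ : ∀ y ∈ P, y ∉ Au → y ∉ Atu → X (u * y) = 0

section Names

variable {N : Type*} [Group N] (t u : N) (Au Atu P R : Subgroup N)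

/-- `P₀ = P ∩ A_t ∩ A_u ∩ A_{tu}`. -/
abbrev P0 : Subgroup N := P ⊓ R ⊓ Au ⊓ Atu

/-- `C_R(u)`. -/
abbrev Fx : Subgroup N := R ⊓ Subgroup.centralizer ({u} : Set N)

/-- `[P₀, P ∩ A_u ∩ A_{tu}]`. -/
def P1t : Subgroup N := ⁅P0 Au Atu P R, P ⊓ Au ⊓ Atu⁆

/-- `[P₀, P ∩ A_t ∩ A_{tu}]`. -/
def P1u : Subgroup N := ⁅P0 Au Atu P R, P ⊓ R ⊓ Atu⁆

/-- `[P₀, P ∩ A_t ∩ A_u]`. -/
def P1tu : Subgroup N := ⁅P0 Au Atu P R, P ⊓ R ⊓ Au⁆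

end Names

section Corr

variable {N : Type*} [Group N]

/-- `χ`, a linear character of `C_R(u)`, is a nontrivial character of `T_{u,r}`: trivial on `A`
(`A = Au` or `Atu`). -/
structure IsX (R : Subgroup N) (u : N) (A : Subgroup N) (χ : Fx u R →* ℂˣ) : Prop where
  ne_one : χ ≠ 1
  triv : ∀ x : Fx u R, (x : N) ∈ A → χ x = 1

/-- `θ ∈ Irr(R)` is `u`-invariant and `χ` is its Glauberman correspondent: some extension `ψ` of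
`θ` to a group `R⟨u⟩` has `ψ (u y) = ± χ y`. -/
def GC [Finite N] (R : Subgroup N) (u : N) (θ : R → ℂ) (χ : Fx u R →* ℂˣ) : Prop :=
  IsIrrCharacter R θ ∧ ∃ (M : Subgroup N) (hR : R ≤ M) (hu : u ∈ M) (ψ : M → ℂ) (c : ℂ),
    (∀ x ∈ M, x ∈ R ∨ u * x ∈ R) ∧ IsIrrCharacter M ψ ∧ (∀ y : R, ψ ⟨y, hR y.2⟩ = θ y) ∧
    (c = 1 ∨ c = -1) ∧
    ∀ y : Fx u R, ψ ⟨u * y, mul_mem hu (hR y.2.1)⟩ = c * (χ y : ℂ)

end Corr

end Cfsg.Agent.Classification.QDW.CaseU
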