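import Mathlib
import Cfsg.Agent.ClassicalGeometry.PoleCases
import Cfsg.Agent.ClassicalGeometry.PolePrime

/-!
# Subgroups of `PGL₂(q)` containing a torus element of Zsigmondy prime order (abstract part)

`G` is a finite group acting on the projective line over an algebraically closed field (`Pole`), of order
dividing `q (q² - 1)`, `q = p ^ n`; `t ∈ G` is an `r`-element, `r ∣ q - ε` a Zsigmondy prime. Then
`⟨t⟩` is normal in `G`, or `G` fixes the only pole of `p`-elements, or `G` has `q + 1` such poles and
Sylow `p`-subgroups of order `q`.
-/

set_option autoImplicit false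
set_option linter.unusedSectionVars false

namespace Cfsg.Agent.Classification.QDW.GeoPole

open Subgroup MulAction Cfsg.Agent.ClassicalGeometry.PoleCount Cfsg.Agent.ClassicalGeometry.PoleCount.Pole
open Cfsg.Agent.ClassicalGeometry.PoleCases Cfsg.Agent.ClassicalGeometry.PoleWild

/-- Elements of odd order of dihedral groups generate normal subgroups. -/
theorem dihedral_normal {k : ℕ} {t : DihedralGroup k} (ht : Odd (orderOf t)) (g : DihedralGroup k) :
    g * t * g⁻¹ ∈ zpowers t := by
  rcases t with i | i
  · rcases g with j | j
    · refine ⟨1, ?_⟩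
      rw [DihedralGroup.inv_r, DihedralGroup.r_mul_r, DihedralGroup.r_mul_r, add_neg_cancel_comm]
      exact zpow_one _
    · refine ⟨-1, ?_⟩
      rw [DihedralGroup.inv_sr, DihedralGroup.sr_mul_r, DihedralGroup.sr_mul_sr]
      change (DihedralGroup.r i) ^ (-1 : ℤ) = _
      rw [zpow_neg_one, DihedralGroup.inv_r]
      congr 1
      ring
  · exfalso
    rw [DihedralGroup.orderOf_sr] at ht
    exact absurd ht (by decide)

/-- A group acting freely on a finite set of `m` points has order dividing `m`. -/
theorem card_dvd_of_free {A X : Type*} [Group A] [Finite A] [Finite X] [MulAction A X]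
    (hfree : ∀ (a : A) (x : X), a • x = x → a = 1) : Nat.card A ∣ Nat.card X := by
  classical
  have := Fintype.ofFinite A
  have := Fintype.ofFinite X
  have h1 := Nat.card_congr (MulAction.selfEquivSigmaOrbitsQuotientStabilizer A X)
  rw [h1, Nat.card_sigma]
  apply Finset.dvd_sum
  intro ω _
  have h3 : stabilizer A (Quotient.out ω) = ⊥ := by
    rw [eq_bot_iff]
    intro a ha
    exact hfree a _ ha
  have h5 : Nat.card (A ⧸ stabilizer A (Quotient.out ω)) = Nat.card A := by
    have h6 := Subgroup.card_mul_index (stabilizer A (Quotient.out ω))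
    rw [h3, Subgroup.card_bot, one_mul] at h6
    rw [← h6, h3]
    rfl
  exact dvd_of_eq h5.symm

variable {G Ω K : Type*} [Group G] [Finite G] [MulAction G Ω] [Field K] {p : ℕ} [hp : Fact p.Prime]
  [CharP K p]

/-- All non-identity powers of an element of order prime to `p` have the same two fixed points. -/
theorem exists_fix (h : Pole p K G Ω) {t : G} (ht1 : t ≠ 1) (ht : (orderOf t).Coprime p) :
    ∃ a b : Ω, a ≠ b ∧ ∀ c ∈ zpowers t, c ≠ 1 → ∀ x, c • x = x ↔ x = a ∨ x = b := by
  have hpow : ∀ c ∈ zpowers t, c ^ p = 1 → c = 1 := by
    intro c hc hcp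
    have h1 : orderOf c ∣ orderOf t := orderOf_dvd_of_mem_zpowers hc
    have h3 := Nat.dvd_gcd h1 (orderOf_dvd_of_pow_eq_one hcp)
    rw [ht] at h3
    exact orderOf_eq_one_iff.1 (Nat.dvd_one.1 h3)
  obtain ⟨a, b, hab, hfix⟩ := h.two t fun h1 => ht1 (hpow t (mem_zpowers t) h1)
  refine ⟨a, b, hab, fun c hc hc1 => ?_⟩
  obtain ⟨a', b', hab', hfix'⟩ := h.two c fun h1 => hc1 (hpow c hc h1)
  obtain ⟨k, rfl⟩ := mem_zpowers_iff.1 hc
  have ha : (t ^ k) • a = a := by
    have h1 : t ∈ stabilizer G a := (hfix a).2 (Or.inl rfl)
    exact (stabilizer G a).zpow_mem h1 k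
  have hb : (t ^ k) • b = b := by
    have h1 : t ∈ stabilizer G b := (hfix b).2 (Or.inr rfl)
    exact (stabilizer G b).zpow_mem h1 k
  have ha' := (hfix' a).1 ha
  have hb' := (hfix' b).1 hb
  intro x
  rw [hfix']
  rcases ha' with rfl | rfl <;> rcases hb' with rfl | rfl
  · exact absurd rfl hab
  · exact Iff.rfl
  · exact or_comm
  · exact absurd rfl hab

/-- A free cyclic action. -/
theorem orderOf_dvd_ncard {c : G} {S : Set Ω} (hS : S.Finite)
    (hinv : ∀ d ∈ zpowers c, ∀ x ∈ S, d • x ∈ S) (hfree : ∀ d ∈ zpowers c, d ≠ 1 → ∀ x ∈ S, d • x ≠ x) :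
    orderOf c ∣ S.ncard := by
  let P : SubMulAction (zpowers c) Ω :=
    { carrier := S
      smul_mem' := fun d x hx => hinv d d.2 x hx }
  have hfin : Finite P := hS
  have h1 := card_dvd_of_free (A := zpowers c) (X := P) (fun d x hx => by
    by_contra hd
    exact hfree d d.2 (fun h => hd (Subtype.ext h)) x.1 x.2 (congrArg Subtype.val hx))
  rw [Nat.card_zpowers] at h1
  exact h1

theorem main (h : Pole p K G Ω) (hp2 : Odd p) {n r : ℕ} {ε : ℤ} (hε : ε = 1 ∨ ε = -1) (hn : 0 < n)
    (hG : Nat.card G ∣ p ^ n * (p ^ (2 * n) - 1)) (hr : r.Prime) (hr7 : 7 ≤ r)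
    (hrq : (r : ℤ) ∣ (p : ℤ) ^ n - ε) (hrn : ∀ j, r ∣ p ^ j - 1 → n ∣ j)
    (hrn' : ε = -1 → ∀ j, r ∣ p ^ j - 1 → 2 * n ∣ j) {t : G} (ht1 : t ≠ 1) {e : ℕ}
    (ht : orderOf t = r ^ e)
    (hs : ε = 1 → Even n → ∃ s : G, s * t = t * s ∧ orderOf s = 2 ^ (p ^ n - 1).factorization 2) :
    (∀ g : G, g * t * g⁻¹ ∈ zpowers t) ∨ (∃ x ∈ Op p G Ω, ∀ g : G, g • x = x) ∨
      ((Op p G Ω).ncard = p ^ n + 1 ∧ ∀ x ∈ Op p G Ω, Nat.card (h.E x) = p ^ n) := by
  have hp1 := hp.out
  have hrp : r ≠ p := by
    rintro rfl
    have h1 : (r : ℤ) ∣ (r : ℤ) ^ n := dvd_pow_self _ hn.ne'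
    have h3 : (r : ℤ) ∣ ε := by
      have := dvd_sub h1 hrq
      rwa [sub_sub_cancel] at this
    have h5 : (r : ℤ) ∣ 1 := by
      rcases hε with h | h
      · rwa [h] at h3
      · rw [h] at h3; exact (dvd_neg.1 h3)
    have := Int.le_of_dvd (by norm_num) h5
    omega
  have hcop : (orderOf t).Coprime p := by
    rw [ht]
    exact Nat.Coprime.pow_left _ ((Nat.coprime_primes hr hp1).2 hrp)
  have he : e ≠ 0 := by
    rintro rfl
    rw [pow_zero] at ht
    exact ht1 (orderOf_eq_one_iff.1 ht)
  have hrdvd : r ∣ Nat.card G := by
    have h1 := orderOf_dvd_natCard t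
    rw [ht] at h1
    exact (dvd_pow_self r he).trans h1
  have hodd : Odd (orderOf t) := by
    rw [ht]
    exact (hr.eq_two_or_odd'.resolve_left (by omega)).pow
  -- the dihedral and cyclic cases
  by_cases hpG : p ∣ Nat.card G
  swap
  · left
    have hpow : ∀ g : G, g ≠ 1 → g ^ p ≠ 1 := by
      intro g hg hgp
      apply hpG
      rw [← orderOf_eq_prime hgp hg]
      exact orderOf_dvd_natCard g
    have hcyc : ∀ x : Ω, IsCyclic (stabilizer G x) := by
      intro x
      obtain ⟨χ, hχ⟩ := h.chi x
      have hinj : Function.Injective χ := by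
        rw [injective_iff_map_eq_one]
        intro g hg
        by_contra hne
        have h1 := (hχ g).mp hg
        exact hpow g (fun h => hne (Subtype.ext h)) (congrArg Subtype.val h1)
      exact isCyclic_of_injective_ringHom ((Units.coeHom K).comp χ) (Units.val_injective.comp hinj)
    rcases Cfsg.Agent.ClassicalGeometry.PolePrime.pole_prime
      (fun (g : G) hg => h.two g (hpow g hg)) hcyc with h1 | ⟨k, hk, ⟨f⟩⟩ | ⟨⟨f⟩⟩ | ⟨⟨f⟩⟩ | ⟨⟨f⟩⟩
    · intro g
      let _ : CommGroup G := IsCyclic.commGroup
      rw [mul_comm g t, mul_inv_cancel_right]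
      exact mem_zpowers t
    · intro g
      have h3 : Odd (orderOf (f t)) := by rw [MulEquiv.orderOf_eq]; exact hodd
      obtain ⟨j, hj⟩ := mem_zpowers_iff.1 (dihedral_normal h3 (f g))
      rw [← map_zpow, ← map_mul, ← map_inv, ← map_mul] at hj
      exact mem_zpowers_iff.2 ⟨j, f.injective hj⟩
    · exfalso
      rw [Nat.card_congr f.toEquiv, nat_card_alternatingGroup, Nat.card_fin] at hrdvd
      have h3 : r ∣ Nat.factorial 4 := hrdvd.trans ⟨2, by decide⟩
      have := (hr.dvd_factorial).1 h3
      omega
    · exfalso
      rw [Nat.card_congr f.toEquiv, Nat.card_perm, Nat.card_fin] at hrdvd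
      have := (hr.dvd_factorial).1 hrdvd
      omega
    · exfalso
      rw [Nat.card_congr f.toEquiv, nat_card_alternatingGroup, Nat.card_fin] at hrdvd
      have h3 : r ∣ Nat.factorial 5 := hrdvd.trans ⟨2, by decide⟩
      have := (hr.dvd_factorial).1 h3
      omega
  · right
    obtain ⟨u, hu⟩ := exists_prime_orderOf_dvd_card' p hpG
    have hup : u ^ p = 1 := by rw [← hu]; exact pow_orderOf_eq_one u
    have hu1 : u ≠ 1 := by
      rintro rfl
      rw [orderOf_one] at hu
      exact hp1.one_lt.ne hu
    obtain ⟨x₀, hx₀⟩ := h.one u hu1 hup
    have hx₀' : x₀ ∈ Op p G Ω := ⟨u, hu1, hup, (hx₀ x₀).mpr rfl⟩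
    by_cases hone : ∀ x ∈ Op p G Ω, x = x₀
    · left
      exact ⟨x₀, hx₀', fun g => hone _ (smul_mem_Op g hx₀')⟩
    · right
      push Not at hone
      obtain ⟨x₁, hx₁, hne⟩ := hone
      have hfin : (Op p G Ω).Finite := h.finite_Op
      have hr2 : 2 ≤ (Op p G Ω).ncard := by
        rw [← Set.ncard_pair hne.symm]
        exact Set.ncard_le_ncard (by
          rintro x (rfl | rfl)
          · exact hx₀'
          · exact hx₁) hfin
      obtain ⟨i, hi⟩ := (IsPGroup.iff_card).1 (h.isPGroup_E x₀)
      have hnc : (Op p G Ω).ncard = Nat.card (h.E x₀) + 1 := by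
        obtain ⟨y, hy, heq, h1 | ⟨h1, h2, h3⟩ | ⟨h1, h2, h3, h4, h5, h6⟩⟩ := numbers h hx₀' hr2
        · exact h1
        · exfalso
          have : Even (p ^ i) := by rw [← hi, h1]; decide
          exact (Nat.not_even_iff_odd.2 hp2.pow) this
        · exfalso
          rw [h2] at hrdvd
          have h7 : r ∣ Nat.factorial 5 := hrdvd.trans ⟨2, by decide⟩
          have := (hr.dvd_factorial).1 h7
          omega
      rw [hi] at hnc
      -- the fixed points of `t`
      obtain ⟨a, b, hab, hfix⟩ := exists_fix h ht1 hcop
      have hda : ∀ d ∈ zpowers t, d • a = a := by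
        intro d hd
        by_cases hd1 : d = 1
        · rw [hd1, one_smul]
        · exact (hfix d hd hd1 a).2 (Or.inl rfl)
      have hdb : ∀ d ∈ zpowers t, d • b = b := by
        intro d hd
        by_cases hd1 : d = 1
        · rw [hd1, one_smul]
        · exact (hfix d hd hd1 b).2 (Or.inr rfl)
      have hdvd : orderOf t ∣ (Op p G Ω \ {a, b}).ncard := by
        apply orderOf_dvd_ncard (hfin.subset Set.sdiff_subset)
        · rintro d hd x ⟨hx, hxab⟩
          refine ⟨smul_mem_Op d hx, fun h1 => hxab ?_⟩
          rcases h1 with h1 | h1
          · left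
            have h3 : d • x = d • a := by rw [hda d hd]; exact h1
            exact smul_left_cancel d h3
          · right
            have h3 : d • x = d • b := by rw [hdb d hd]; exact h1
            exact smul_left_cancel d h3
        · rintro d hd hd1 x ⟨hx, hxab⟩ hdx
          exact hxab ((hfix d hd hd1 x).1 hdx)
      have hrS : r ∣ (Op p G Ω \ {a, b}).ncard := by
        rw [ht] at hdvd
        exact (dvd_pow_self r he).trans hdvd
      -- the exponent
      have hip : p ^ i ∣ p ^ n := by
        have h1 : p ^ i ∣ Nat.card G := by
          rw [← hi]; exact Subgroup.card_subgroup_dvd_card _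
        refine (Nat.Coprime.dvd_of_dvd_mul_right ?_ (h1.trans hG))
        apply Nat.Coprime.pow_left
        rw [hp1.coprime_iff_not_dvd]
        intro h3
        have h5 : p ∣ p ^ (2 * n) := dvd_pow_self _ (by omega)
        have h6 : 1 ≤ p ^ (2 * n) := Nat.one_le_pow _ _ hp1.pos
        have h7 : p ∣ 1 := by
          have := Nat.dvd_sub h5 h3
          rwa [Nat.sub_sub_self h6] at this
        exact hp1.one_lt.ne' (Nat.dvd_one.1 h7)
      have hin : i ≤ n := (Nat.pow_dvd_pow_iff_le_right hp1.one_lt).1 hip
      have hi0 : 0 < i := by
        rcases Nat.eq_zero_or_pos i with h0 | h0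
        · exfalso
          rw [h0, pow_zero] at hi
          have h1 : (⟨u, (hx₀ x₀).mpr rfl, hup⟩ : h.E x₀) = 1 := by
            have := (Nat.card_eq_one_iff_unique.1 hi).1
            exact Subsingleton.elim _ _
          exact hu1 (congrArg Subtype.val h1)
        · exact h0
      have hpi1 : 1 ≤ p ^ i := Nat.one_le_pow _ _ hp1.pos
      have hlast : n ∣ i → i = n := fun h1 => le_antisymm hin (Nat.le_of_dvd hi0 h1)
      have hkey : i = n := by
        by_cases ha : a ∈ Op p G Ω
        · by_cases hb : b ∈ Op p G Ω
          · have hsub : ({a, b} : Set Ω) ⊆ Op p G Ω := by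
              rintro x (rfl | rfl)
              · exact ha
              · exact hb
            rw [Set.ncard_sdiff hsub (Set.toFinite _), hnc, Set.ncard_pair hab] at hrS
            exact hlast (hrn i (by rwa [show p ^ i + 1 - 2 = p ^ i - 1 by omega] at hrS))
          · exfalso
            have h1 : Op p G Ω \ {a, b} = Op p G Ω \ {a} := by
              ext x
              simp only [Set.mem_sdiff, Set.mem_insert_iff, Set.mem_singleton_iff]
              constructor
              · rintro ⟨h1, h3⟩
                exact ⟨h1, fun h5 => h3 (Or.inl h5)⟩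
              · rintro ⟨h1, h3⟩
                refine ⟨h1, ?_⟩
                rintro (h5 | h5)
                · exact h3 h5
                · rw [h5] at h1; exact hb h1
            have h3 := Set.ncard_sdiff_singleton_add_one ha hfin
            rw [h1] at hrS
            have h5 : (Op p G Ω \ {a}).ncard = p ^ i := by omega
            rw [h5] at hrS
            exact hrp ((Nat.prime_dvd_prime_iff_eq hr hp1).1 (hr.dvd_of_dvd_pow hrS))
        · by_cases hb : b ∈ Op p G Ω
          · exfalso
            have h1 : Op p G Ω \ {a, b} = Op p G Ω \ {b} := by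
              ext x
              simp only [Set.mem_sdiff, Set.mem_insert_iff, Set.mem_singleton_iff]
              constructor
              · rintro ⟨h1, h3⟩
                exact ⟨h1, fun h5 => h3 (Or.inr h5)⟩
              · rintro ⟨h1, h3⟩
                refine ⟨h1, ?_⟩
                rintro (h5 | h5)
                · rw [h5] at h1; exact ha h1
                · exact h3 h5
            have h3 := Set.ncard_sdiff_singleton_add_one hb hfin
            rw [h1] at hrS
            have h5 : (Op p G Ω \ {b}).ncard = p ^ i := by omega
            rw [h5] at hrS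
            exact hrp ((Nat.prime_dvd_prime_iff_eq hr hp1).1 (hr.dvd_of_dvd_pow hrS))
          · have h1 : Op p G Ω \ {a, b} = Op p G Ω := by
              ext x
              simp only [Set.mem_sdiff, Set.mem_insert_iff, Set.mem_singleton_iff]
              constructor
              · rintro ⟨h1, h3⟩
                exact h1
              · intro h1
                refine ⟨h1, ?_⟩
                rintro (h5 | h5)
                · rw [h5] at h1; exact ha h1
                · rw [h5] at h1; exact hb h1
            rw [h1, hnc] at hrS
            have h3 : p ^ (2 * i) - 1 = (p ^ i + 1) * (p ^ i - 1) := by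
              rw [mul_comm 2 i, pow_mul, ← Nat.sq_sub_sq, one_pow]
            have h5 : r ∣ p ^ (2 * i) - 1 := by rw [h3]; exact hrS.mul_right _
            rcases hε with hε | hε
            · obtain ⟨k, hk⟩ := hrn _ h5
              have hk2 : k = 1 ∨ k = 2 := by
                have hk0 : k ≠ 0 := by rintro rfl; omega
                have hk3 : k ≤ 2 := by
                  by_contra hcon
                  push Not at hcon
                  nlinarith
                omega
              rcases hk2 with rfl | rfl
              · exfalso
                -- `n = 2 i`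
                obtain ⟨s, hst, hso⟩ := hs hε ⟨i, by omega⟩
                have hpn : p ^ n - 1 = (p ^ i + 1) * (p ^ i - 1) := by
                  rw [← h3]; congr 2; omega
                have hpi3 : 3 ≤ p ^ i := by
                  have h7 : 3 ≤ p := by
                    have := hp1.two_le
                    rcases hp2 with ⟨k, hk⟩
                    omega
                  exact h7.trans (Nat.le_self_pow hi0.ne' p)
                have hev : Even (p ^ i) ∨ Odd (p ^ i) := Nat.even_or_odd _
                have hoddpi : Odd (p ^ i) := hp2.pow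
                have h2m : 1 ≤ (p ^ i - 1).factorization 2 := by
                  rw [← Nat.prime_two.dvd_iff_one_le_factorization (by omega)]
                  obtain ⟨k, hk⟩ := hoddpi
                  exact ⟨k, by omega⟩
                have hfac : (p ^ n - 1).factorization 2 = (p ^ i + 1).factorization 2 +
                    (p ^ i - 1).factorization 2 := by
                  rw [hpn, Nat.factorization_mul (by omega) (by omega)]
                  rfl
                have hs1 : s ≠ 1 := by
                  rintro rfl
                  rw [orderOf_one] at hso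
                  have : 2 ≤ 2 ^ (p ^ n - 1).factorization 2 := by
                    calc 2 = 2 ^ 1 := (pow_one 2).symm
                      _ ≤ _ := Nat.pow_le_pow_right (by norm_num) (by omega)
                  omega
                have hscop : (orderOf s).Coprime p := by
                  rw [hso]
                  exact Nat.Coprime.pow_left _ (Nat.coprime_two_left.2 hp2)
                obtain ⟨a', b', hab', hfix'⟩ := exists_fix h hs1 hscop
                have htt : t * t ∈ zpowers t := mul_mem (mem_zpowers t) (mem_zpowers t)
                have htt1 : t * t ≠ 1 := by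
                  intro h7
                  have h8 : orderOf t ∣ 2 := orderOf_dvd_of_pow_eq_one (by rw [sq]; exact h7)
                  have h9 := Nat.dvd_gcd h8 (dvd_refl (orderOf t))
                  have h10 : Nat.Coprime 2 (orderOf t) := Nat.coprime_two_left.2 hodd
                  have h11 : orderOf t ∣ 1 := by
                    have := Nat.dvd_gcd h8 (dvd_refl (orderOf t))
                    rwa [h10] at this
                  exact ht1 (orderOf_eq_one_iff.1 (Nat.dvd_one.1 h11))
                have hsfix : ∀ x : Ω, s • x = x → x = a ∨ x = b := by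
                  intro x hx
                  apply (hfix (t * t) htt htt1 x).1
                  have hx' := (hfix' s (mem_zpowers s) hs1 x).1 hx
                  have h7 : ∀ z : Ω, s • z = z → s • (t • z) = t • z := by
                    intro z hz
                    rw [← mul_smul, hst, mul_smul, hz]
                  have h8 := (hfix' s (mem_zpowers s) hs1 _).1 (h7 x hx)
                  have h9 := (hfix' s (mem_zpowers s) hs1 _).1 (h7 _ (h7 x hx))
                  rw [mul_smul]
                  -- `x, t x, t t x ∈ {a', b'}`
                  by_cases h10 : t • x = x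
                  · rw [h10, h10]
                  · have h11 : t • (t • x) ≠ t • x := fun h12 => h10 (smul_left_cancel t h12)
                    rcases hx' with rfl | rfl <;> rcases h8 with h8 | h8 <;> rcases h9 with h9 | h9
                    · exact h9
                    · exact absurd h8 h10
                    · exact h9
                    · exact absurd (h9.trans h8.symm) h11
                    · exact absurd (h9.trans h8.symm) h11
                    · exact h9
                    · exact absurd h8 h10
                    · exact h9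
                have hsab : ∀ d ∈ zpowers s, d ≠ 1 → ∀ x : Ω, d • x = x → x = a ∨ x = b := by
                  intro d hd hd1 x hx
                  apply hsfix
                  exact (hfix' s (mem_zpowers s) hs1 x).2 ((hfix' d hd hd1 x).1 hx)
                have h7 : orderOf s ∣ (Op p G Ω).ncard := by
                  apply orderOf_dvd_ncard hfin
                  · intro d hd x hx
                    exact smul_mem_Op d hx
                  · intro d hd hd1 x hx hdx
                    rcases hsab d hd hd1 x hdx with rfl | rfl
                    · exact ha hx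
                    · exact hb hx
                rw [hso, hnc, Nat.prime_two.pow_dvd_iff_le_factorization (by omega), hfac] at h7
                omega
              · omega
            · have h7 := hrn' hε _ h5
              exact hlast (Nat.dvd_of_mul_dvd_mul_left (by norm_num) h7)
      subst hkey
      refine ⟨hnc, fun x hx => ?_⟩
      rw [h.card_E_eq hx hx₀', hi]

end Cfsg.Agent.Classification.QDW.GeoPole
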