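import Mathlib

/-!
# Stability of the torus part of `O(C(V))`

`W` is a finite group with normal subgroups `A i ≤ B i` (`i : Fin 3`), `B i / A i` cyclic of order
`m`, `W / B i` of order at most `f`; an element outside `B i` has few fixed points on `B i / A i`
(less than `√(m / f)`). If the `A i` have pairwise trivial intersection and are permuted by
automorphisms then `B 0 = B 1 = B 2`.
-/

set_option autoImplicit false
set_option linter.unusedSectionVars false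
set_option linter.unusedVariables false

namespace Cfsg.Agent.Classification.QDW.Stab

variable {W : Type*} [Group W]

/-- One side `A ≤ B ≤ W`. -/
structure Side (m f : ℕ) (A B : Subgroup W) : Prop where
  normA : A.Normal
  normB : B.Normal
  le : A ≤ B
  card : A.relIndex B = m
  cyc : ∃ g ∈ B, ∀ x ∈ B, ∃ n : ℤ, x * g ^ n ∈ A
  idx : B.index ≤ f
  fix : ∀ w, w ∉ B → ∃ d : ℕ, 0 < d ∧ f * d ^ 2 < m ∧
    ∀ x ∈ B, w * x * w⁻¹ * x⁻¹ ∈ A → x ^ d ∈ A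

namespace Side

variable {m f : ℕ} {A B : Subgroup W}

/-- The quotient `B / A`. -/
abbrev Quo (A B : Subgroup W) [A.Normal] : Type _ := B ⧸ (A.subgroupOf B)

theorem comm_mem (h : Side m f A B) {x y : W} (hx : x ∈ B) (hy : y ∈ B) :
    x * y * x⁻¹ * y⁻¹ ∈ A := by
  have := h.normA
  obtain ⟨g, hg, hgen⟩ := h.cyc
  obtain ⟨k, hk⟩ := hgen x hx
  obtain ⟨l, hl⟩ := hgen y hy
  have e1 : ((x * y * x⁻¹ * y⁻¹ : W) : W ⧸ A) = 1 := by
    have h1 : (x : W ⧸ A) = ((g : W ⧸ A) ^ k)⁻¹ := by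
      rw [eq_inv_iff_mul_eq_one, ← QuotientGroup.mk_zpow, ← QuotientGroup.mk_mul]
      exact (QuotientGroup.eq_one_iff _).2 hk
    have h2 : (y : W ⧸ A) = ((g : W ⧸ A) ^ l)⁻¹ := by
      rw [eq_inv_iff_mul_eq_one, ← QuotientGroup.mk_zpow, ← QuotientGroup.mk_mul]
      exact (QuotientGroup.eq_one_iff _).2 hl
    rw [QuotientGroup.mk_mul, QuotientGroup.mk_mul, QuotientGroup.mk_mul, QuotientGroup.mk_inv,
      QuotientGroup.mk_inv, h1, h2]
    group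
  exact (QuotientGroup.eq_one_iff _).1 e1

/-- The number of elements `x` of `B` with `x ^ e ∈ A`. -/
theorem card_le [Finite W] (h : Side m f A B) {e : ℕ} (he : 0 < e) :
    Nat.card {x : W // x ∈ B ∧ x ^ e ∈ A} ≤ e * Nat.card A := by
  classical
  have := h.normA
  obtain ⟨g, hg, hgen⟩ := h.cyc
  have hZ : IsCyclic (Subgroup.zpowers ((g : W) : W ⧸ A)) := inferInstance
  have hfin := Fintype.ofFinite (Subgroup.zpowers ((g : W) : W ⧸ A))
  have hmem : ∀ x ∈ B, ((x : W) : W ⧸ A) ∈ Subgroup.zpowers ((g : W) : W ⧸ A) := by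
    intro x hx
    obtain ⟨n, hn⟩ := hgen x hx
    refine Subgroup.mem_zpowers_iff.2 ⟨-n, ?_⟩
    rw [zpow_neg, eq_comm, eq_inv_iff_mul_eq_one, ← QuotientGroup.mk_zpow,
      ← QuotientGroup.mk_mul]
    exact (QuotientGroup.eq_one_iff _).2 hn
  let E := {y : Subgroup.zpowers ((g : W) : W ⧸ A) // y ^ e = 1}
  have hE : Nat.card E ≤ e := by
    have h1 := IsCyclic.card_pow_eq_one_le (α := Subgroup.zpowers ((g : W) : W ⧸ A)) he
    rw [Nat.card_eq_fintype_card, Fintype.card_subtype]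
    exact h1
  let F : {x : W // x ∈ B ∧ x ^ e ∈ A} → E × A := fun x =>
    (⟨⟨((x.1 : W) : W ⧸ A), hmem x.1 x.2.1⟩, Subtype.ext (by
      change ((x.1 : W) : W ⧸ A) ^ e = 1
      rw [← QuotientGroup.mk_pow]
      exact (QuotientGroup.eq_one_iff _).2 x.2.2)⟩,
     ⟨(((x.1 : W) : W ⧸ A).out)⁻¹ * x.1, QuotientGroup.eq.1 (QuotientGroup.out_eq' _)⟩)
  have hF : Function.Injective F := by
    intro x y hxy
    have h1 : ((x.1 : W) : W ⧸ A) = ((y.1 : W) : W ⧸ A) :=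
      congrArg (fun z : E × A => ((z.1.1 : Subgroup.zpowers ((g : W) : W ⧸ A)) : W ⧸ A)) hxy
    have h2 : (((x.1 : W) : W ⧸ A).out)⁻¹ * x.1 = (((y.1 : W) : W ⧸ A).out)⁻¹ * y.1 :=
      congrArg (fun z : E × A => (z.2 : W)) hxy
    rw [h1] at h2
    exact Subtype.ext (mul_left_cancel h2)
  have h1 := Nat.card_le_card_of_injective F hF
  rw [Nat.card_prod] at h1
  exact h1.trans (Nat.mul_le_mul_right _ hE)

theorem card_mul_relIndex {H K : Subgroup W} (hHK : H ≤ K) :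
    Nat.card H * H.relIndex K = Nat.card K := by
  have h1 := Subgroup.relIndex_mul_relIndex ⊥ H K bot_le hHK
  rwa [Subgroup.relIndex_bot_left, Subgroup.relIndex_bot_left] at h1

/-- A subgroup between `A` and `B` of exponent `e` modulo `A` has index at most `e` over `A`. -/
theorem relIndex_le [Finite W] (h : Side m f A B) {I : Subgroup W} (hAI : A ≤ I) (hIB : I ≤ B)
    {e : ℕ} (he : 0 < e) (hI : ∀ x ∈ I, x ^ e ∈ A) : A.relIndex I ≤ e := by
  have h1 : Nat.card I ≤ Nat.card {x : W // x ∈ B ∧ x ^ e ∈ A} :=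
    Nat.card_le_card_of_injective (fun x : I => ⟨x.1, hIB x.2, hI x.1 x.2⟩)
      (fun x y hxy => Subtype.ext (congrArg (fun z : {x : W // x ∈ B ∧ x ^ e ∈ A} => z.1) hxy))
  have h2 := h1.trans (h.card_le he)
  rw [← card_mul_relIndex hAI, mul_comm e] at h2
  exact Nat.le_of_mul_le_mul_left h2 Nat.card_pos

/-- Subgroups between `A` and `B` of the same order coincide. -/
theorem eq_of_card_eq [Finite W] (h : Side m f A B) {I J : Subgroup W} (hAI : A ≤ I)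
    (hIB : I ≤ B) (hAJ : A ≤ J) (hJB : J ≤ B) (hc : Nat.card I = Nat.card J) : I = J := by
  have := h.normA
  have hAI0 : Nat.card A * A.relIndex I = Nat.card I := card_mul_relIndex hAI
  have hAJ0 : Nat.card A * A.relIndex J = Nat.card J := card_mul_relIndex hAJ
  have hA0 : 0 < Nat.card A := Nat.card_pos
  have heJ : A.relIndex J = A.relIndex I := by
    apply Nat.eq_of_mul_eq_mul_left hA0
    rw [hAI0, hAJ0, hc]
  have he0 : 0 < A.relIndex I := by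
    refine Nat.pos_of_ne_zero fun h0 => ?_
    rw [h0, mul_zero] at hAI0
    exact Nat.card_pos.ne hAI0
  have hpow : ∀ K : Subgroup W, A ≤ K → A.relIndex K = A.relIndex I →
      ∀ x ∈ K, x ^ (A.relIndex I) ∈ A := by
    intro K hAK hK x hx
    have h1 := pow_card_eq_one' (x := ((⟨x, hx⟩ : K) : K ⧸ A.subgroupOf K))
    have h2 : Nat.card (K ⧸ A.subgroupOf K) = A.relIndex I := hK
    rw [h2, ← QuotientGroup.mk_pow] at h1
    have h3 := (QuotientGroup.eq_one_iff _).1 h1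
    rw [Subgroup.mem_subgroupOf] at h3
    exact h3
  have key : ∀ K : Subgroup W, A ≤ K → K ≤ B → A.relIndex K = A.relIndex I →
      (K : Set W) = {x : W | x ∈ B ∧ x ^ (A.relIndex I) ∈ A} := by
    intro K hAK hKB hK
    refine Set.eq_of_subset_of_ncard_le (fun x hx => ⟨hKB hx, hpow K hAK hK x hx⟩) ?_
      (Set.toFinite _)
    have h1 := h.card_le he0
    rw [mul_comm, ← hK, card_mul_relIndex hAK, hK] at h1
    exact h1
  exact SetLike.coe_injective ((key I hAI hIB rfl).trans (key J hAJ hJB heJ).symm)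

end Side

section Main

variable {m f : ℕ}

/-- The commutator with `a` is a homomorphism modulo `A` on `B`: powers. -/
theorem comm_pow {A B : Subgroup W} (h : Side m f A B) (a : W) {x : W} (hx : x ∈ B) (d : ℕ) :
    (a * x * a⁻¹ * x⁻¹) ^ d ∈ A ↔ a * x ^ d * a⁻¹ * (x ^ d)⁻¹ ∈ A := by
  have := h.normA
  have hax : a * x * a⁻¹ ∈ B := h.normB.conj_mem x hx a
  have hc : Commute ((a * x * a⁻¹ : W) : W ⧸ A) ((x⁻¹ : W) : W ⧸ A) := by
    have h2 := h.comm_mem hax (inv_mem hx)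
    have h3 : ((a * x * a⁻¹ * x⁻¹ * (a * x * a⁻¹)⁻¹ * x⁻¹⁻¹ : W) : W ⧸ A) = 1 :=
      (QuotientGroup.eq_one_iff _).2 h2
    rw [QuotientGroup.mk_mul, QuotientGroup.mk_mul, QuotientGroup.mk_mul,
      QuotientGroup.mk_inv _ (a * x * a⁻¹), QuotientGroup.mk_inv _ (x⁻¹), mul_inv_eq_one,
      mul_inv_eq_iff_eq_mul] at h3
    exact h3
  rw [← QuotientGroup.eq_one_iff, ← QuotientGroup.eq_one_iff, QuotientGroup.mk_pow,
    QuotientGroup.mk_mul, hc.mul_pow, ← QuotientGroup.mk_pow, ← QuotientGroup.mk_pow,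
    ← QuotientGroup.mk_mul, conj_pow, inv_pow]

/-- Normal subgroups with trivial intersection commute. -/
theorem comm_of_inf {A A' : Subgroup W} (hA : A.Normal) (hA' : A'.Normal) (h : A ⊓ A' = ⊥)
    {a a' : W} (ha : a ∈ A) (ha' : a' ∈ A') : a * a' = a' * a := by
  have h1 : a * a' * a⁻¹ * a'⁻¹ ∈ A ⊓ A' := by
    refine ⟨?_, ?_⟩
    · have : a * a' * a⁻¹ * a'⁻¹ = a * (a' * a⁻¹ * a'⁻¹) := by group
      rw [this]
      exact mul_mem ha (hA.conj_mem _ (inv_mem ha) a')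
    · exact mul_mem (hA'.conj_mem _ ha' a) (A'.inv_mem ha')
  rw [h, Subgroup.mem_bot] at h1
  rw [mul_inv_eq_one, mul_inv_eq_iff_eq_mul] at h1
  exact h1

/-- Step (a): `A₂ ≤ B₁`. -/
theorem le_of_swap [Finite W] {A₁ A₂ A₃ B₁ : Subgroup W} (h : Side m f A₁ B₁) (hA₂ : A₂.Normal)
    (hA₃ : A₃.Normal) (h23 : A₂ ⊓ A₃ = ⊥) (σ : W ≃* W) (hσA : ∀ x ∈ A₂, σ x ∈ A₃)
    (hσB : ∀ x, σ x ∈ B₁ → x ∈ B₁) : A₂ ≤ B₁ := by
  intro a ha
  by_contra haB
  have haB' : σ a ∉ B₁ := fun h1 => haB (hσB a h1)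
  obtain ⟨d, hd0, hd, hfix⟩ := h.fix a haB
  obtain ⟨d', hd0', hd', hfix'⟩ := h.fix (σ a) haB'
  have hall : ∀ x ∈ B₁, x ^ (d' * d) ∈ A₁ := by
    intro x hx
    have hy : a * x * a⁻¹ * x⁻¹ ∈ A₂ := by
      have : a * x * a⁻¹ * x⁻¹ = a * (x * a⁻¹ * x⁻¹) := by group
      rw [this]
      exact mul_mem ha (hA₂.conj_mem _ (inv_mem ha) x)
    have hyB : a * x * a⁻¹ * x⁻¹ ∈ B₁ := mul_mem (h.normB.conj_mem x hx a) (inv_mem hx)
    have hcomm := comm_of_inf hA₂ hA₃ h23 hy (hσA a ha)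
    have h1 : σ a * (a * x * a⁻¹ * x⁻¹) * (σ a)⁻¹ * (a * x * a⁻¹ * x⁻¹)⁻¹ ∈ A₁ := by
      rw [← hcomm, mul_inv_cancel_right, mul_inv_cancel]
      exact one_mem _
    have h2 := hfix' _ hyB h1
    rw [comm_pow h a hx] at h2
    have h3 := hfix _ (pow_mem hx d') h2
    rw [← pow_mul] at h3
    exact h3
  have h1 := h.relIndex_le h.le le_rfl (Nat.mul_pos hd0' hd0) hall
  rw [h.card] at h1
  have hf : 0 < f := lt_of_lt_of_le (Nat.pos_of_ne_zero Subgroup.index_ne_zero_of_finite) h.idx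
  rcases le_total d d' with hdd | hdd
  · have : d' * d ≤ d' ^ 2 := by rw [sq]; exact Nat.mul_le_mul_left _ hdd
    have : d' ^ 2 ≤ f * d' ^ 2 := Nat.le_mul_of_pos_left _ hf
    omega
  · have : d' * d ≤ d ^ 2 := by rw [sq]; exact Nat.mul_le_mul_right _ hdd
    have : d ^ 2 ≤ f * d ^ 2 := Nat.le_mul_of_pos_left _ hf
    omega

/-- Step (b): `A₁ A₂ = A₁ A₃`. -/
theorem sup_eq [Finite W] {A₁ A₂ A₃ B₁ : Subgroup W} (h : Side m f A₁ B₁) (hA₂ : A₂.Normal)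
    (hA₃ : A₃.Normal) (h12 : A₁ ⊓ A₂ = ⊥) (h13 : A₁ ⊓ A₃ = ⊥) (h2 : A₂ ≤ B₁) (h3 : A₃ ≤ B₁)
    (hc : Nat.card A₂ = Nat.card A₃) : A₁ ⊔ A₂ = A₁ ⊔ A₃ := by
  have := h.normA
  refine h.eq_of_card_eq le_sup_left (sup_le h.le h2) le_sup_left (sup_le h.le h3) ?_
  have e1 := Side.card_mul_relIndex (H := A₁) (K := A₁ ⊔ A₂) le_sup_left
  have e2 := Side.card_mul_relIndex (H := A₁) (K := A₁ ⊔ A₃) le_sup_left
  have f1 : A₁.relIndex (A₁ ⊔ A₂) = Nat.card A₂ := by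
    rw [Subgroup.relIndex_sup_left, ← Subgroup.inf_relIndex_right, h12, Subgroup.relIndex_bot_left]
  have f2 : A₁.relIndex (A₁ ⊔ A₃) = Nat.card A₃ := by
    rw [Subgroup.relIndex_sup_left, ← Subgroup.inf_relIndex_right, h13, Subgroup.relIndex_bot_left]
  rw [← e1, ← e2, f1, f2, hc]

/-- Step (c): `B₁ ≤ B₂`. -/
theorem le_of_sup [Finite W] {A₁ A₂ A₃ B₁ B₂ : Subgroup W} (h₁ : Side m f A₁ B₁)
    (h₂ : Side m f A₂ B₂) (hA₃ : A₃.Normal) (h12 : A₁ ⊓ A₂ = ⊥) (h13 : A₁ ⊓ A₃ = ⊥)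
    (h21 : A₂ ≤ B₁) (h31 : A₃ ≤ B₁) (hs : A₁ ≤ A₂ ⊔ A₃) : B₁ ≤ B₂ := by
  intro τ hτ
  by_contra hτ2
  have := h₁.normA
  have := h₁.normB
  have := h₂.normA
  obtain ⟨d, hd0, hd, hfix⟩ := h₂.fix τ hτ2
  -- `τ` centralises `A₂`, `A₃`, hence `A₁`
  have hc : ∀ A : Subgroup W, A.Normal → A₁ ⊓ A = ⊥ → A ≤ B₁ → ∀ a ∈ A, τ * a = a * τ := by
    intro A hA h1A hAB a ha
    have h1 : τ * a * τ⁻¹ * a⁻¹ ∈ A₁ ⊓ A :=
      ⟨h₁.comm_mem hτ (hAB ha), mul_mem (hA.conj_mem a ha τ) (A.inv_mem ha)⟩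
    rw [h1A, Subgroup.mem_bot, mul_inv_eq_one, mul_inv_eq_iff_eq_mul] at h1
    exact h1
  have hc1 : ∀ a ∈ A₁, τ * a = a * τ := by
    have h1 : A₂ ⊔ A₃ ≤ Subgroup.centralizer {τ} := by
      refine sup_le (fun a ha => ?_) (fun a ha => ?_)
      · rw [Subgroup.mem_centralizer_singleton_iff]
        exact (hc A₂ h₂.normA h12 h21 a ha).symm
      · rw [Subgroup.mem_centralizer_singleton_iff]
        exact (hc A₃ hA₃ h13 h31 a ha).symm
    intro a ha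
    have h2 := h1 (hs ha)
    rw [Subgroup.mem_centralizer_singleton_iff] at h2
    exact h2.symm
  have hall : ∀ x ∈ B₁ ⊓ B₂, x ^ (d * d) ∈ A₂ := by
    rintro x ⟨hx1, hx2⟩
    have hy : τ * x * τ⁻¹ * x⁻¹ ∈ A₁ := h₁.comm_mem hτ hx1
    have hyB : τ * x * τ⁻¹ * x⁻¹ ∈ B₂ := mul_mem (h₂.normB.conj_mem x hx2 τ) (inv_mem hx2)
    have h1 : τ * (τ * x * τ⁻¹ * x⁻¹) * τ⁻¹ * (τ * x * τ⁻¹ * x⁻¹)⁻¹ ∈ A₂ := by
      rw [hc1 _ hy, mul_inv_cancel_right, mul_inv_cancel]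
      exact one_mem _
    have h2 := hfix _ hyB h1
    rw [comm_pow h₂ τ hx2] at h2
    have h3 := hfix _ (pow_mem hx2 d) h2
    rw [← pow_mul] at h3
    exact h3
  have h1 := h₂.relIndex_le (I := B₁ ⊓ B₂) (le_inf h21 h₂.le) inf_le_right
    (Nat.mul_pos hd0 hd0) hall
  have h3 := Subgroup.relIndex_mul_relIndex A₂ (B₁ ⊓ B₂) B₂ (le_inf h21 h₂.le) inf_le_right
  rw [h₂.card, Subgroup.inf_relIndex_right] at h3
  have h4 : B₁.relIndex B₂ ≤ f := (Nat.le_of_dvd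
    (Nat.pos_of_ne_zero Subgroup.index_ne_zero_of_finite)
    (Subgroup.relIndex_dvd_index_of_normal B₁ B₂)).trans h₁.idx
  have h5 : m ≤ d * d * f := by
    rw [← h3]
    exact Nat.mul_le_mul h1 h4
  have h6 : d * d * f = f * d ^ 2 := by ring
  omega

/-- **Stability.** -/
theorem main [Finite W] {A B : Fin 3 → Subgroup W} (h : ∀ i, Side m f (A i) (B i))
    (hinf : ∀ i j, i ≠ j → A i ⊓ A j = ⊥) (σ : Fin 3 → (W ≃* W))
    (hσA : ∀ i j k, i ≠ j → i ≠ k → j ≠ k → ∀ x ∈ A j, σ i x ∈ A k)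
    (hσB : ∀ i x, σ i x ∈ B i → x ∈ B i) : ∀ i j, B i = B j := by
  have hcard : ∀ i j k, i ≠ j → i ≠ k → j ≠ k → Nat.card (A j) ≤ Nat.card (A k) := by
    intro i j k hij hik hjk
    refine Nat.card_le_card_of_injective
      (fun x : A j => (⟨σ i x, hσA i j k hij hik hjk x x.2⟩ : A k)) ?_
    intro x y hxy
    exact Subtype.ext ((σ i).injective (congrArg Subtype.val hxy))
  have hle : ∀ i j, i ≠ j → A j ≤ B i := by
    intro i j hij
    obtain ⟨k, hik, hjk⟩ : ∃ k : Fin 3, i ≠ k ∧ j ≠ k := by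
      revert i j; decide
    exact le_of_swap (h i) (h j).normA (h k).normA (hinf j k hjk) (σ i)
      (hσA i j k hij hik hjk) (hσB i)
  have hsup : ∀ i j k, i ≠ j → i ≠ k → j ≠ k → A i ⊔ A j = A i ⊔ A k := by
    intro i j k hij hik hjk
    exact sup_eq (h i) (h j).normA (h k).normA (hinf i j hij) (hinf i k hik) (hle i j hij)
      (hle i k hik) (le_antisymm (hcard i j k hij hik hjk) (hcard i k j hik hij hjk.symm))
  have hBle : ∀ i j, i ≠ j → B i ≤ B j := by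
    intro i j hij
    obtain ⟨k, hik, hjk⟩ : ∃ k : Fin 3, i ≠ k ∧ j ≠ k := by
      revert i j; decide
    refine le_of_sup (h i) (h j) (h k).normA (hinf i j hij) (hinf i k hik) (hle i j hij)
      (hle i k hik) ?_
    have h1 := hsup j i k hij.symm hjk hik
    rw [← h1]
    exact le_sup_right
  intro i j
  by_cases hij : i = j
  · rw [hij]
  · exact le_antisymm (hBle i j hij) (hBle j i (Ne.symm hij))

end Main

section Num

theorem num_aux {Q : ℤ} (hQ : 3 ≤ Q) {b : ℕ} (hb : 3 ≤ b) :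
    (b : ℤ) * (Q * (Q + 1) ^ 2) + 6 ≤ 6 * Q ^ b := by
  induction b, hb using Nat.le_induction with
  | base =>
    push_cast
    nlinarith [mul_nonneg (sub_nonneg.2 hQ) (sub_nonneg.2 hQ), mul_nonneg (mul_nonneg
      (sub_nonneg.2 hQ) (sub_nonneg.2 hQ)) (sub_nonneg.2 hQ)]
  | succ b hb ih =>
    have h1 : (0 : ℤ) < Q * (Q + 1) ^ 2 := by positivity
    have h2 : (1 : ℤ) ≤ b := by exact_mod_cast (by omega : 1 ≤ b)
    have h3 : (0 : ℤ) < Q ^ b := by positivity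
    have h4 : Q ^ (b + 1) = Q ^ b * Q := pow_succ Q b
    rw [h4]
    push_cast
    have h5 : (0 : ℤ) ≤ ((b : ℤ) - 1) * (Q * (Q + 1) ^ 2) := mul_nonneg (sub_nonneg.2 h2) h1.le
    have h6 : (0 : ℤ) ≤ Q ^ b * (Q - 3) := mul_nonneg h3.le (sub_nonneg.2 hQ)
    have h7 : (1 : ℤ) ≤ Q ^ b := by linarith
    nlinarith

/-- The numerical condition: `q₀ = p ^ n₀`, `q = q₀ ^ b`, `d`, `m` the parts of `q₀ - e`, `q - e`
prime to `r ≥ 2`. -/
theorem num {p n₀ b f r m d : ℕ} {e : ℤ} (he : e = 1 ∨ e = -1) (hp : 3 ≤ p) (hn₀ : 1 ≤ n₀)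
    (hb : 3 ≤ b) (hf : f ≤ b * n₀) (hr : 2 ≤ r) (hd : ((p : ℤ) ^ n₀) - e = r * d)
    (hm : (((p : ℤ) ^ n₀) ^ b) - e = r * m) : f * d ^ 2 < m := by
  have h3n : ∀ n : ℕ, 1 ≤ n → 3 * (n : ℤ) ≤ (p : ℤ) ^ n := by
    intro n hn
    induction n, hn using Nat.le_induction with
    | base =>
      rw [pow_one]
      exact_mod_cast hp
    | succ n hn ih =>
      have hp' : (3 : ℤ) ≤ p := by exact_mod_cast hp
      have hn' : (1 : ℤ) ≤ n := by exact_mod_cast hn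
      rw [pow_succ]
      push_cast
      nlinarith [mul_nonneg (sub_nonneg.2 ih) (sub_nonneg.2 hp')]
  set Q : ℤ := (p : ℤ) ^ n₀ with hQ
  have h3 := h3n n₀ hn₀
  have hn' : (1 : ℤ) ≤ n₀ := by exact_mod_cast hn₀
  have hQ3 : 3 ≤ Q := by linarith
  have h4 := num_aux hQ3 hb
  have hb' : (3 : ℤ) ≤ b := by exact_mod_cast hb
  have hf' : (f : ℤ) ≤ b * n₀ := by exact_mod_cast hf
  have hr' : (2 : ℤ) ≤ r := by exact_mod_cast hr
  have hQb : (1 : ℤ) ≤ Q ^ b := one_le_pow₀ (by linarith)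
  have h5 : (f : ℤ) * (Q - e) ^ 2 < 2 * (Q ^ b - e) := by
    have h6 : 3 * ((f : ℤ) * (Q - e) ^ 2) ≤ b * Q * (Q - e) ^ 2 := by
      have h7 : 3 * (f : ℤ) ≤ b * Q := by nlinarith
      nlinarith [mul_nonneg (sub_nonneg.2 h7) (sq_nonneg (Q - e))]
    have h8 : (b : ℤ) * Q * (Q - e) ^ 2 < 6 * (Q ^ b - e) := by
      rcases he with rfl | rfl
      · have h9 : (0 : ℤ) < b * Q * (4 * Q) := by positivity
        nlinarith
      · nlinarith
    linarith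
  have h6 : ((r : ℤ) * r) * (f * d ^ 2) < (r * r) * m := by
    calc ((r : ℤ) * r) * (f * d ^ 2) = f * (Q - e) ^ 2 := by rw [hd]; ring
      _ < 2 * (Q ^ b - e) := h5
      _ ≤ r * (Q ^ b - e) := by
        have : (0 : ℤ) ≤ Q ^ b - e := by rcases he with rfl | rfl <;> linarith
        nlinarith
      _ = (r * r) * m := by rw [hm]; ring
  have h7 : ((f * d ^ 2 : ℕ) : ℤ) < m := by
    push_cast
    exact lt_of_mul_lt_mul_left h6 (by positivity)
  exact_mod_cast h7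

end Num

end Cfsg.Agent.Classification.QDW.Stab
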