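import Mathlib
import Cfsg.Agent.Classification.QDW.GeoMk

/-!
# The Sylow `2`-subgroup of the torus

* `isCyclic_conj`: the image in `PGL(2,F)` of the centralizer of a matrix of trace zero is cyclic;
* `isCyclic_map_T`: the torus `T` of a `CHyp` group acts on `L₀` as a cyclic group of order `q - ε`;
* `exists_mem`, `sup_eq_top`: the hypotheses of `GeoMk.geo` on `E`, the Sylow `2`-subgroup of `T`.
-/

set_option autoImplicit false
set_option linter.unusedSectionVars false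

namespace Cfsg.Agent.Classification.QDW.GeoE

open Subgroup Matrix Cfsg.Agent.Lib.SL2Mat Cfsg.Agent.TwoFusion
  Cfsg.Agent.TwoFusion.NormalSL2 Cfsg.Agent.Classification.QDW.TypeHom
  Cfsg.Agent.Classification.QDW.StructQ Cfsg.Agent.Classification.QDW.TorusG
  Cfsg.Agent.Classification.QDW.TorusF Cfsg.Agent.Classification.QDW.TorusW
  Cfsg.Agent.Classification.QDW.GeoTorus Cfsg.Agent.Classification.InvCent
  Cfsg.Agent.Classification.QDW.CaseU Cfsg.Agent.Classification.QDW.GeoMk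

section Mat

variable {F : Type*} [Field F]

/-- The first coefficient. -/
noncomputable def a (M : Matrix (Fin 2) (Fin 2) F) : F := M.trace / 2

/-- The second coefficient. -/
noncomputable def b (g M : Matrix (Fin 2) (Fin 2) F) : F := (M * g).trace / (-2 * g.det)

theorem decomp (h2 : (2 : F) ≠ 0) {g M : Matrix (Fin 2) (Fin 2) F} (hd : g.det ≠ 0)
    (h : g * M = M * g) (ht : g 0 0 + g 1 1 = 0) : M = a M • (1 : Matrix (Fin 2) (Fin 2) F) + b g M • g := by
  have h00 := congrFun (congrFun h 0) 0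
  have h01 := congrFun (congrFun h 0) 1
  have h10 := congrFun (congrFun h 1) 0
  simp only [Matrix.mul_apply, Fin.sum_univ_two] at h00 h01 h10
  have h1 : M 0 1 * g 1 0 = g 0 1 * M 1 0 := by linear_combination -h00
  have h3 : g 0 1 * (M 0 0 - M 1 1) = 2 * g 0 0 * M 0 1 := by linear_combination -h01 - M 0 1 * ht
  have h4 : g 1 0 * (M 0 0 - M 1 1) = 2 * g 0 0 * M 1 0 := by linear_combination h10 - M 1 0 * ht
  have hD : g.det = g 0 0 * g 1 1 - g 0 1 * g 1 0 := det_fin_two _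
  have htr : (M * g).trace = M 0 0 * g 0 0 + M 0 1 * g 1 0 + (M 1 0 * g 0 1 + M 1 1 * g 1 1) := by
    rw [Matrix.trace_fin_two, Matrix.mul_apply, Matrix.mul_apply, Fin.sum_univ_two, Fin.sum_univ_two]
  have hB : b g M * (2 * g.det) = - (M * g).trace := by
    unfold b
    field_simp
  have hA : 2 * a M = M 0 0 + M 1 1 := by
    unfold a
    rw [Matrix.trace_fin_two]
    field_simp
  have hg : g 1 1 = - g 0 0 := by linear_combination ht
  rw [htr] at hB
  rw [hD, hg] at hB hd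
  set D : F := g 0 0 * -g 0 0 - g 0 1 * g 1 0 with hDdef
  have h2D : 2 * D ≠ 0 := mul_ne_zero h2 hd
  ext i j
  fin_cases i <;> fin_cases j
  all_goals
    simp only [Matrix.add_apply, Matrix.smul_apply, smul_eq_mul, Fin.zero_eta, Fin.mk_one,
      Matrix.one_apply_eq, mul_one]
    apply mul_left_cancel₀ h2D
  · rw [hDdef] at hB ⊢
    linear_combination -(g 0 0 * -g 0 0 - g 0 1 * g 1 0) * hA - g 0 0 * hB - g 1 0 * h3 -
      g 0 0 * h1
  · rw [hDdef] at hB ⊢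
    simp only [ne_eq, Fin.reduceEq, not_false_eq_true, Matrix.one_apply_ne, mul_zero, zero_add]
    linear_combination -g 0 1 * hB + g 0 0 * h3 - g 0 1 * h1
  · rw [hDdef] at hB ⊢
    simp only [ne_eq, Fin.reduceEq, not_false_eq_true, Matrix.one_apply_ne, mul_zero, zero_add]
    linear_combination -g 1 0 * hB + g 0 0 * h4 + g 1 0 * h1
  · rw [hDdef] at hB ⊢
    rw [hg]
    linear_combination -(g 0 0 * -g 0 0 - g 0 1 * g 1 0) * hA + g 0 0 * hB + g 1 0 * h3 +
      g 0 0 * h1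

theorem g_sq {g : Matrix (Fin 2) (Fin 2) F} (ht : g 0 0 + g 1 1 = 0) :
    g * g = (-g.det) • (1 : Matrix (Fin 2) (Fin 2) F) := by
  have hD : g.det = g 0 0 * g 1 1 - g 0 1 * g 1 0 := det_fin_two _
  rw [hD]
  ext i j
  fin_cases i <;> fin_cases j
  all_goals
    simp only [Matrix.mul_apply, Fin.sum_univ_two, Matrix.smul_apply, smul_eq_mul, Fin.zero_eta, Fin.mk_one,
      Matrix.one_apply_eq, mul_one, ne_eq, Fin.reduceEq, not_false_eq_true, Matrix.one_apply_ne, mul_zero]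
  · linear_combination g 0 0 * ht
  · linear_combination g 0 1 * ht
  · linear_combination g 1 0 * ht
  · linear_combination g 1 1 * ht

theorem trace_g {g : Matrix (Fin 2) (Fin 2) F} (ht : g 0 0 + g 1 1 = 0) : g.trace = 0 := by
  rw [Matrix.trace_fin_two]; exact ht

theorem a_mul (h2 : (2 : F) ≠ 0) {g M N : Matrix (Fin 2) (Fin 2) F} (hd : g.det ≠ 0)
    (hM : g * M = M * g) (hN : g * N = N * g) (ht : g 0 0 + g 1 1 = 0) :
    a (M * N) = a M * a N - g.det * (b g M * b g N) := by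
  have h := congrArg Matrix.trace (congrArg₂ (· * ·) (decomp h2 hd hM ht) (decomp h2 hd hN ht))
  simp only [Matrix.add_mul, Matrix.mul_add, Matrix.smul_mul, Matrix.mul_smul, one_mul, mul_one, g_sq ht,
    Matrix.trace_add, Matrix.trace_smul, trace_g ht, Matrix.trace_one, Fintype.card_fin, smul_eq_mul] at h
  have h3 : a (M * N) * 2 = (M * N).trace := by
    unfold a; rw [div_mul_cancel₀ _ h2]
  apply mul_right_cancel₀ h2
  rw [h3, h]
  push_cast
  ring

theorem b_mul (h2 : (2 : F) ≠ 0) {g M N : Matrix (Fin 2) (Fin 2) F} (hd : g.det ≠ 0)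
    (hM : g * M = M * g) (hN : g * N = N * g) (ht : g 0 0 + g 1 1 = 0) :
    b g (M * N) = a M * b g N + b g M * a N := by
  have h := congrArg (fun X => (X * g).trace) (congrArg₂ (· * ·) (decomp h2 hd hM ht) (decomp h2 hd hN ht))
  simp only [Matrix.add_mul, Matrix.mul_add, Matrix.smul_mul, Matrix.mul_smul, one_mul, mul_one, g_sq ht,
    Matrix.trace_add, Matrix.trace_smul, trace_g ht, Matrix.trace_one, Fintype.card_fin, smul_eq_mul] at h
  have h3 : (-2 * g.det) ≠ 0 := mul_ne_zero (neg_ne_zero.2 h2) hd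
  have h4 : b g (M * N) * (-2 * g.det) = ((M * N) * g).trace := by
    unfold b
    rw [div_mul_cancel₀ _ h3]
  apply mul_right_cancel₀ h3
  rw [h4, h]
  push_cast
  ring

theorem det_eq (h2 : (2 : F) ≠ 0) {g M : Matrix (Fin 2) (Fin 2) F} (hd : g.det ≠ 0)
    (hM : g * M = M * g) (ht : g 0 0 + g 1 1 = 0) :
    M.det = a M * a M + g.det * (b g M * b g M) := by
  have hD : g.det = g 0 0 * g 1 1 - g 0 1 * g 1 0 := det_fin_two _
  conv_lhs => rw [decomp h2 hd hM ht]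
  rw [det_fin_two]
  simp only [Matrix.add_apply, Matrix.smul_apply, smul_eq_mul, Matrix.one_apply_eq, mul_one, ne_eq,
    not_false_eq_true, Matrix.one_apply_ne, mul_zero, zero_add, one_ne_zero, zero_ne_one]
  rw [hD]
  linear_combination (a M * b g M) * ht

theorem mat_mul {g M N : Matrix (Fin 2) (Fin 2) F} (hM : g * M = M * g) (hN : g * N = N * g) :
    g * (M * N) = M * N * g := by
  rw [← Matrix.mul_assoc, hM, Matrix.mul_assoc, hN, ← Matrix.mul_assoc]

/-- The image in `PGL(2,F)` of the centralizer of a matrix of trace zero is cyclic. -/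
theorem exists_gen_conj [Finite F] (h2 : (2 : F) ≠ 0) {g : GL (Fin 2) F} (ht : g.1 0 0 + g.1 1 1 = 0) :
    ∃ h₀ : GL (Fin 2) F, g * h₀ = h₀ * g ∧
      ∀ h : GL (Fin 2) F, g * h = h * g → conjGL h ∈ zpowers (conjGL h₀) := by
  set K := AlgebraicClosure F
  set ι := algebraMap F K with hι
  have hinj : Function.Injective ι := (algebraMap F K).injective
  have hd : g.1.det ≠ 0 := TorusG.det_ne g
  obtain ⟨θ, hθ⟩ := IsAlgClosed.exists_pow_nat_eq (ι (-g.1.det)) (n := 2) (by norm_num)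
  have hθ0 : θ ≠ 0 := by
    rintro rfl
    rw [zero_pow (by norm_num)] at hθ
    exact hd (neg_eq_zero.1 (hinj (by rw [← hθ, map_zero])))
  have h2K : (2 : K) ≠ 0 := by
    intro h
    apply h2
    apply hinj
    rw [map_ofNat, h, map_zero]
  let Cg : Subgroup (GL (Fin 2) F) := centralizer {g}
  have hCg : ∀ h : Cg, g.1 * (h : GL (Fin 2) F).1 = (h : GL (Fin 2) F).1 * g.1 := by
    intro h
    have h1 := mem_centralizer_singleton_iff.1 h.2
    exact (congrArg (fun u : GL (Fin 2) F => (u : Matrix (Fin 2) (Fin 2) F)) h1).symm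
  have hprod : ∀ h : Cg, (ι (a (h : GL (Fin 2) F).1) + ι (b g.1 (h : GL (Fin 2) F).1) * θ) *
      (ι (a (h : GL (Fin 2) F).1) - ι (b g.1 (h : GL (Fin 2) F).1) * θ) = ι (h : GL (Fin 2) F).1.det := by
    intro h
    rw [det_eq h2 hd (hCg h) ht, map_add, map_mul, map_mul, map_mul]
    rw [map_neg] at hθ
    linear_combination -ι (b g.1 (h : GL (Fin 2) F).1) ^ 2 * hθ
  have hne : ∀ h : Cg, ι (h : GL (Fin 2) F).1.det ≠ 0 := by
    intro h h1
    exact TorusG.det_ne (h : GL (Fin 2) F) (hinj (by rw [h1, map_zero]))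
  have hplus : ∀ h : Cg, ι (a (h : GL (Fin 2) F).1) + ι (b g.1 (h : GL (Fin 2) F).1) * θ ≠ 0 := by
    intro h h1
    apply hne h
    rw [← hprod, h1, zero_mul]
  have hminus : ∀ h : Cg, ι (a (h : GL (Fin 2) F).1) - ι (b g.1 (h : GL (Fin 2) F).1) * θ ≠ 0 := by
    intro h h1
    apply hne h
    rw [← hprod, h1, mul_zero]
  have ha1 : a (1 : Matrix (Fin 2) (Fin 2) F) = 1 := by
    unfold a
    rw [Matrix.trace_one, Fintype.card_fin]
    push_cast
    exact div_self h2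
  have hb1 : b g.1 (1 : Matrix (Fin 2) (Fin 2) F) = 0 := by
    unfold b
    rw [one_mul, trace_g ht, zero_div]
  let χ : Cg →* Kˣ :=
    { toFun := fun h => Units.mk0 _ (hplus h) / Units.mk0 _ (hminus h)
      map_one' := by
        apply Units.ext
        rw [Units.val_div_eq_div_val]
        change (ι (a ((1 : GL (Fin 2) F) : Matrix (Fin 2) (Fin 2) F)) +
          ι (b g.1 ((1 : GL (Fin 2) F) : Matrix (Fin 2) (Fin 2) F)) * θ) /
          (ι (a ((1 : GL (Fin 2) F) : Matrix (Fin 2) (Fin 2) F)) -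
          ι (b g.1 ((1 : GL (Fin 2) F) : Matrix (Fin 2) (Fin 2) F)) * θ) = 1
        rw [Units.val_one, ha1, hb1]
        simp
      map_mul' := by
        intro x y
        apply Units.ext
        rw [Units.val_mul, Units.val_div_eq_div_val, Units.val_div_eq_div_val, Units.val_div_eq_div_val]
        simp only [Units.val_mk0]
        have e1 : (((x * y : Cg) : GL (Fin 2) F) : Matrix (Fin 2) (Fin 2) F) =
          (x : GL (Fin 2) F).1 * (y : GL (Fin 2) F).1 := rfl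
        rw [e1, a_mul h2 hd (hCg x) (hCg y) ht, b_mul h2 hd (hCg x) (hCg y) ht, div_mul_div_comm]
        rw [map_neg] at hθ
        congr 1
        · simp only [map_sub, map_add, map_mul]
          linear_combination -(ι (b g.1 (x : GL (Fin 2) F).1) * ι (b g.1 (y : GL (Fin 2) F).1)) * hθ
        · simp only [map_sub, map_add, map_mul]
          linear_combination -(ι (b g.1 (x : GL (Fin 2) F).1) * ι (b g.1 (y : GL (Fin 2) F).1)) * hθ }
  have hker : ∀ h : Cg, χ h = 1 → conjGL (h : GL (Fin 2) F) = 1 := by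
    intro h hh
    have h1 : ι (a (h : GL (Fin 2) F).1) + ι (b g.1 (h : GL (Fin 2) F).1) * θ =
        ι (a (h : GL (Fin 2) F).1) - ι (b g.1 (h : GL (Fin 2) F).1) * θ := by
      have h3 := congrArg Units.val hh
      change ((Units.mk0 _ (hplus h) / Units.mk0 _ (hminus h) : Kˣ) : K) = 1 at h3
      rw [Units.val_div_eq_div_val, div_eq_one_iff_eq (Units.ne_zero _)] at h3
      exact h3
    have h3 : 2 * (ι (b g.1 (h : GL (Fin 2) F).1) * θ) = 0 := by linear_combination h1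
    have h5 : b g.1 (h : GL (Fin 2) F).1 = 0 := by
      rcases mul_eq_zero.1 h3 with h6 | h6
      · exact absurd h6 h2K
      · rcases mul_eq_zero.1 h6 with h7 | h7
        · exact hinj (by rw [h7, map_zero])
        · exact absurd h7 hθ0
    have h6 := decomp h2 hd (hCg h) ht
    rw [h5, zero_smul, add_zero] at h6
    rw [← MonoidHom.mem_ker, GeoPhi.ker_conjGL, Subgroup.mem_center_iff]
    intro x
    apply Units.ext
    rw [Units.val_mul, Units.val_mul, h6]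
    simp
  have hfin : Finite Cg := by
    have : Finite (GL (Fin 2) F) := inferInstance
    infer_instance
  have hfin' : Finite χ.range := Finite.of_surjective _ χ.rangeRestrict_surjective
  have hcyc : IsCyclic χ.range := inferInstance
  obtain ⟨⟨_, ⟨h₀, rfl⟩⟩, hgen⟩ := hcyc.exists_generator
  refine ⟨h₀, (mem_centralizer_singleton_iff.1 h₀.2).symm, ?_⟩
  intro h hh
  have hmem : h ∈ Cg := mem_centralizer_singleton_iff.2 hh.symm
  obtain ⟨k, hk⟩ := mem_zpowers_iff.1 (hgen ⟨χ ⟨h, hmem⟩, ⟨_, rfl⟩⟩)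
  have hk' : χ h₀ ^ k = χ ⟨h, hmem⟩ := congrArg Subtype.val hk
  have h1 : χ (⟨h, hmem⟩ * (h₀ ^ k)⁻¹) = 1 := by
    rw [map_mul, map_inv, map_zpow, hk', mul_inv_cancel]
  have h3 := hker _ h1
  change conjGL (h * (((h₀ ^ k : Cg) : GL (Fin 2) F))⁻¹) = 1 at h3
  rw [map_mul, map_inv, mul_inv_eq_one] at h3
  rw [mem_zpowers_iff]
  refine ⟨k, ?_⟩
  rw [h3, SubgroupClass.coe_zpow, map_zpow]

end Mat

variable {C : Type*} [Group C] [Finite C] {z u₀ s₀ s₀' : C} {q : ℕ} {ε : ℤ} {Z T T' U Tr E : Subgroup C}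
  {L₀ : Subgroup C} [hLn : L₀.Normal] {F : Type*} [Field F] [Finite F]
  {e₀ : L₀ ≃* SpecialLinearGroup (Fin 2) F} {S₀ : Sylow 2 C} {p n r : ℕ}

theorem u_notMem_Z (hC : CHyp z q ε Z T T' U s₀ s₀' u₀) : u₀ ∉ Z := by
  intro h
  have h1 := hC.s_u
  rw [hC.Z_central u₀ h s₀, mul_inv_cancel_right] at h1
  have h5 : z = 1 := by
    have : z * u₀ = 1 * u₀ := by rw [one_mul]; exact h1.symm
    exact mul_right_cancel this
  have h6 := hC.orderOf_t
  rw [h5, orderOf_one] at h6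
  omega

theorem CL_le (hC : CHyp z q ε Z T T' U s₀ s₀' u₀) : CL L₀ u₀ ≤ T := by
  intro x hx
  exact hC.cent_T u₀ hC.u_mem (u_notMem_Z hC) x ((mem_CL u₀ x).1 hx).2

theorem exists_TH' (hC : CHyp z q ε Z T T' U s₀ s₀' u₀) (B : Base S₀ L₀ e₀) (hH : ∀ c, c ∈ H1 L₀ e₀) :
    ∃ g ε', TH L₀ e₀ u₀ g ε' := by
  have huu : u₀ * u₀ = 1 := by rw [← sq, ← hC.orderOf_u]; exact pow_orderOf_eq_one u₀
  refine exists_TH (e := e₀) B.two_ne (hH u₀) huu ?_
  by_contra hcon
  push Not at hcon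
  apply u_notMem_Z hC
  have h1 := B.cent u₀ (fun l hl => (hcon l hl).symm)
  by_contra h3
  apply hC.s_notMem
  exact hC.cent_T u₀ hC.u_mem h3 s₀ (h1 s₀).symm

/-- The kernel of the action of `T` is `Z`. -/
theorem mem_Z_iff (hC : CHyp z q ε Z T T' U s₀ s₀' u₀) (B : Base S₀ L₀ e₀) {x : C} (hx : x ∈ T) :
    x ∈ Z ↔ act L₀ e₀ x = 1 := by
  constructor
  · intro h
    apply MulEquiv.ext
    intro y
    obtain ⟨l, rfl⟩ := e₀.surjective y
    rw [act_mk]
    change _ = e₀ l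
    congr 1
    apply Subtype.ext
    change x * (l : C) * x⁻¹ = l
    rw [mul_inv_eq_iff_eq_mul]
    exact (hC.Z_central x h l).symm
  · intro h
    by_contra h3
    exact hC.s_notMem (hC.cent_T x hx h3 s₀ ((central_of_act B h).1 s₀).symm)

/-- The elements of `T` act as matrices commuting with `g`. -/
theorem exists_comm (hC : CHyp z q ε Z T T' U s₀ s₀' u₀) (hq3 : 3 < q)
    (hq : Nat.card F = q) {g : GL (Fin 2) F} {ε' : ℤ} (h : TH L₀ e₀ u₀ g ε')
    (hH : ∀ c, c ∈ H1 L₀ e₀) {x : C} (hx : x ∈ T) :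
    ∃ h : GL (Fin 2) F, g * h = h * g ∧ act L₀ e₀ x = conjGL h := by
  obtain ⟨h₁, hh⟩ := (mem_H1 x).1 (hH x)
  refine ⟨h₁, ?_, hh⟩
  have hcyc := h.isCyclic_CL
  obtain ⟨⟨t₁, ht₁⟩, hgen⟩ := hcyc.exists_ofOrder_eq_natCard
  have hto : orderOf t₁ = Nat.card (CL L₀ u₀) := by
    rw [← hgen]; exact (Subgroup.orderOf_mk t₁ ht₁).symm
  have hcard := h.card_CL
  have h3 : 2 < orderOf t₁ := by
    have h5 : ((orderOf t₁ : ℕ) : ℤ) = (q : ℤ) - ε' := by rw [hto, hcard, hq]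
    have h6 : (3 : ℤ) < q := by exact_mod_cast hq3
    rcases h.eps_or with h7 | h7 <;> rw [h7] at h5 <;> omega
  obtain ⟨hL, hu⟩ := (mem_CL u₀ t₁).1 ht₁
  set X := e₀ ⟨t₁, hL⟩ with hX
  have hXg : X ∈ TG g := (mem_TG_of u₀ g h.act_y _).2 hu
  have hXh : X ∈ TG h₁ := (mem_TG_of x h₁ hh _).2 (hC.T_comm _ (CL_le hC ht₁) _ hx)
  have hdec := TorusG.decomp h.two_ne hXg h.tr0
  have hB : TorusG.B g X ≠ 0 := by
    intro h0
    rw [h0, zero_smul, add_zero] at hdec
    have h5 : X * X = 1 := by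
      have h6 : X.1.det = TorusG.A X * TorusG.A X := by
        rw [hdec, det_smul, det_one, mul_one, Fintype.card_fin, sq]
      rw [X.2] at h6
      apply Subtype.ext
      rw [val_mul, hdec]
      simp only [Matrix.smul_mul, one_mul, smul_smul]
      rw [← h6, one_smul]
      exact Matrix.SpecialLinearGroup.coe_one.symm
    have h7 : t₁ * t₁ = 1 := by
      rw [hX, ← map_mul, e₀.map_eq_one_iff] at h5
      exact congrArg Subtype.val h5
    have h9 : orderOf t₁ ∣ 2 := orderOf_dvd_of_pow_eq_one (by rw [sq]; exact h7)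
    have h8 := Nat.le_of_dvd (by norm_num) h9
    omega
  rw [mem_TG_iff] at hXh
  apply Units.ext
  rw [Units.val_mul, Units.val_mul]
  have h5 : TorusG.B g X • (h₁.1 * g.1) = TorusG.B g X • (g.1 * h₁.1) := by
    rw [hdec] at hXh
    simp only [Matrix.mul_add, Matrix.add_mul, Matrix.mul_smul, Matrix.smul_mul, one_mul, mul_one] at hXh
    exact add_left_cancel hXh
  ext i j
  have h6 := congrFun (congrFun h5 i) j
  rw [Matrix.smul_apply, Matrix.smul_apply, smul_eq_mul, smul_eq_mul] at h6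
  exact (mul_left_cancel₀ hB h6).symm

/-- `T` acts on `L₀` as a cyclic group of order `q - ε`. -/
theorem exists_gen (hC : CHyp z q ε Z T T' U s₀ s₀' u₀) (hq3 : 3 < q) (B : Base S₀ L₀ e₀)
    (hH : ∀ c, c ∈ H1 L₀ e₀) (hq : Nat.card F = q) :
    ∃ x ∈ T, ((orderOf (act L₀ e₀ x) : ℕ) : ℤ) = q - ε := by
  obtain ⟨g, ε', h⟩ := exists_TH' hC B hH
  obtain ⟨h₀, -, hgen⟩ := exists_gen_conj h.two_ne h.tr0
  have hle : T.map (act L₀ e₀) ≤ zpowers (conjGL h₀) := by
    rintro _ ⟨x, hx, rfl⟩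
    obtain ⟨h₁, hc, ha⟩ := exists_comm hC hq3 hq h hH hx
    rw [ha]
    exact hgen h₁ hc
  have hcyc : IsCyclic (T.map (act L₀ e₀)) :=
    isCyclic_of_injective (Subgroup.inclusion hle) (Subgroup.inclusion_injective _)
  obtain ⟨⟨_, ⟨x, hx, rfl⟩⟩, hx'⟩ := hcyc.exists_ofOrder_eq_natCard
  refine ⟨x, hx, ?_⟩
  have hxo : orderOf (act L₀ e₀ x) = Nat.card (T.map (act L₀ e₀)) := by
    rw [← hx']; exact (Subgroup.orderOf_mk _ _).symm
  rw [hxo]
  -- the order of the image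
  have h1 : Nat.card Z * Nat.card (T.map (act L₀ e₀)) = Nat.card T := by
    let f : T →* MulAut (SpecialLinearGroup (Fin 2) F) := (act L₀ e₀).comp T.subtype
    have h3 : Nat.card f.ker = Nat.card Z := by
      have h5 : f.ker = Z.subgroupOf T := by
        ext y
        rw [MonoidHom.mem_ker, Subgroup.mem_subgroupOf, mem_Z_iff hC B y.2]
        rfl
      rw [h5]
      exact Nat.card_congr (Subgroup.subgroupOfEquivOfLe hC.Z_le_T).toEquiv
    have h5 : f.range = T.map (act L₀ e₀) := by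
      ext y
      constructor
      · rintro ⟨a, rfl⟩
        exact ⟨a, a.2, rfl⟩
      · rintro ⟨a, ha, rfl⟩
        exact ⟨⟨a, ha⟩, rfl⟩
    rw [← h3, ← h5, ← Subgroup.index_ker, Subgroup.card_mul_index]
  have h3 := hC.card_T
  have h5 : (Nat.card Z : ℤ) * (Nat.card (T.map (act L₀ e₀)) : ℤ) = Nat.card Z * (q - ε) := by
    rw [← h3, ← h1]; push_cast; rfl
  have h6 : (Nat.card Z : ℤ) ≠ 0 := by
    have : 0 < Nat.card Z := Nat.card_pos
    omega
  exact mul_left_cancel₀ h6 h5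

/-- The powers of `2`. -/
theorem order_two_part {G : Type*} [Group G] {y : G} {N m : ℕ} (hy : orderOf y = N) (hN : N ≠ 0) (hm : Odd m)
    {k : ℕ} (h : orderOf (y ^ m) ∣ 2 ^ k) : orderOf (y ^ m) = 2 ^ N.factorization 2 := by
  obtain ⟨j, hj, hjk⟩ := (Nat.dvd_prime_pow Nat.prime_two).1 h
  have hm0 : m ≠ 0 := by rintro rfl; exact absurd hm (by decide)
  have h1 : orderOf (y ^ m) = N / Nat.gcd N m := by
    rw [orderOf_pow' y hm0, hy]
  have h3 : N = Nat.gcd N m * orderOf (y ^ m) := by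
    rw [h1, Nat.mul_div_cancel' (Nat.gcd_dvd_left N m)]
  have h5 : ¬ 2 ∣ Nat.gcd N m := by
    intro h6
    have h7 := h6.trans (Nat.gcd_dvd_right N m)
    exact (Nat.not_even_iff_odd.2 hm) (even_iff_two_dvd.2 h7)
  have h6 : Nat.gcd N m ≠ 0 := by
    intro h6
    exact hN (Nat.eq_zero_of_gcd_eq_zero_left h6)
  rw [hjk] at h3 ⊢
  congr 1
  conv_rhs => rw [h3]
  rw [Nat.factorization_mul h6 (pow_ne_zero _ (by norm_num)), Nat.prime_two.factorization_pow]
  simp only [Finsupp.add_apply, Finsupp.single_eq_same]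
  rw [Nat.factorization_eq_zero_of_not_dvd h5, zero_add]

/-- The element of `E` of order `(q - ε)₂`. -/
theorem exists_mem (hC : CHyp z q ε Z T T' U s₀ s₀' u₀) (hq3 : 3 < q) (B : Base S₀ L₀ e₀)
    (hH : ∀ c, c ∈ H1 L₀ e₀) (hq : Nat.card F = q)
    (hE2 : ∀ x ∈ T, (∃ k : ℕ, x ^ 2 ^ k = 1) → x ∈ E) {N : ℕ} (hN : (N : ℤ) = q - ε) :
    ∃ s ∈ E, orderOf (act L₀ e₀ s) = 2 ^ N.factorization 2 := by
  obtain ⟨x, hx, hxo⟩ := exists_gen hC hq3 B hH hq
  have hxo' : orderOf (act L₀ e₀ x) = N := by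
    have : ((orderOf (act L₀ e₀ x) : ℕ) : ℤ) = N := by rw [hxo, hN]
    exact_mod_cast this
  have hN0 : N ≠ 0 := by
    rintro rfl
    have h1 : (3 : ℤ) < q := by exact_mod_cast hq3
    rcases hC.eps with h | h <;> rw [h] at hN <;> push_cast at hN <;> omega
  obtain ⟨k, m, hm, hkm⟩ := Nat.exists_eq_two_pow_mul_odd (n := orderOf x) (orderOf_pos x).ne'
  have hxm : (x ^ m) ^ 2 ^ k = 1 := by
    rw [← pow_mul, mul_comm, ← hkm, pow_orderOf_eq_one]
  refine ⟨x ^ m, hE2 _ (T.pow_mem hx m) ⟨k, hxm⟩, ?_⟩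
  rw [map_pow]
  apply order_two_part hxo' hN0 hm (k := k)
  apply orderOf_dvd_of_pow_eq_one
  rw [← map_pow, ← map_pow, hxm, map_one]

/-- `ε' = ε`. -/
theorem eps_eq (hz : Zs F ε p n r) {g : GL (Fin 2) F} {ε' : ℤ} (h : TH L₀ e₀ u₀ g ε')
    (hε : ε = 1 ∨ ε = -1) (hr : r ∣ Nat.card (CL L₀ u₀)) : ε' = ε := by
  have h1 : (r : ℤ) ∣ (p : ℤ) ^ n - ε' := by
    have h3 := h.card_CL
    rw [hz.card_F] at h3
    push_cast at h3
    rw [← h3]
    exact_mod_cast hr
  have h3 := dvd_sub h1 hz.dvd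
  have h5 : (7 : ℤ) ≤ r := by exact_mod_cast hz.r_ge
  rcases h.eps_or with h6 | h6 <;> rcases hε with h7 | h7 <;> rw [h6, h7] at h3 ⊢
  · exfalso
    have h8 : ((p : ℤ) ^ n - 1 - ((p : ℤ) ^ n - -1)) = -2 := by ring
    rw [h8, dvd_neg] at h3
    have := Int.le_of_dvd (by norm_num) h3
    omega
  · exfalso
    have h8 : ((p : ℤ) ^ n - -1 - ((p : ℤ) ^ n - 1)) = 2 := by ring
    rw [h8] at h3
    have := Int.le_of_dvd (by norm_num) h3
    omega

/-- `C = L₀ T`. -/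
theorem sup_T (hC : CHyp z q ε Z T T' U s₀ s₀' u₀) (B : Base S₀ L₀ e₀)
    (hH : ∀ c, c ∈ H1 L₀ e₀) (hq : Nat.card F = q) (hz : Zs F ε p n r) (hTr : Tr ≤ T) (hpg : IsPGroup r Tr)
    (hind : ¬ r ∣ Tr.index) : L₀ ⊔ T = ⊤ := by
  obtain ⟨g, ε', h⟩ := exists_TH' hC B hH
  have hle := (GeoMk.Tr_le hC B hH hz hTr hpg).1
  have hr : r ∣ Nat.card (CL L₀ u₀) :=
    (r_dvd_card hC hq hz hind).trans (Subgroup.card_dvd_of_le hle)
  have hε := eps_eq hz h hC.eps hr
  subst hε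
  have hTL : L₀ ⊓ T ≤ CL L₀ u₀ := by
    intro x hx
    exact (mem_CL u₀ x).2 ⟨hx.1, hC.T_comm x hx.2 u₀ hC.u_mem⟩
  have hq1 := hC.one_lt_q
  -- orders
  have h1 : Nat.card L₀ * Nat.card T ≤ Nat.card (L₀ ⊔ T : Subgroup C) * Nat.card (CL L₀ u₀) := by
    have h5 : Nat.card L₀ * L₀.relIndex T = Nat.card (L₀ ⊔ T : Subgroup C) := by
      rw [← Subgroup.relIndex_sup_left T L₀, ← Subgroup.relIndex_bot_left (H := L₀),
        ← Subgroup.relIndex_bot_left (H := L₀ ⊔ T), Subgroup.relIndex_mul_relIndex _ _ _ bot_le le_sup_left]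
    have h6 : Nat.card (L₀ ⊓ T : Subgroup C) * L₀.relIndex T = Nat.card T := by
      rw [← Subgroup.inf_relIndex_right L₀ T, ← Subgroup.relIndex_bot_left (H := L₀ ⊓ T),
        Subgroup.relIndex_mul_relIndex _ _ _ bot_le inf_le_right, Subgroup.relIndex_bot_left]
    have h7 : Nat.card (L₀ ⊓ T : Subgroup C) ≤ Nat.card (CL L₀ u₀) :=
      Nat.card_le_card_of_injective _ (Subgroup.inclusion_injective hTL)
    calc Nat.card L₀ * Nat.card T = Nat.card (L₀ ⊔ T : Subgroup C) * Nat.card (L₀ ⊓ T : Subgroup C) := by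
          rw [← h6, ← h5]; ring
      _ ≤ _ := Nat.mul_le_mul_left _ h7
  have hcL := card_L L₀ e₀
  rw [hq] at hcL
  have h3 : Nat.card C * Nat.card (CL L₀ u₀) ≤ Nat.card (L₀ ⊔ T : Subgroup C) * Nat.card (CL L₀ u₀) := by
    refine le_trans (le_of_eq ?_) h1
    have h5 := h.card_CL
    have h6 := hC.card_T
    rw [hq] at h5
    have h7 : ((Nat.card C * Nat.card (CL L₀ u₀) : ℕ) : ℤ) = ((Nat.card L₀ * Nat.card T : ℕ) : ℤ) := by
      rw [hC.card_C, hcL]
      push_cast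
      rw [h5, h6]
      ring
    exact_mod_cast h7
  have h5 : Nat.card C ≤ Nat.card (L₀ ⊔ T : Subgroup C) :=
    Nat.le_of_mul_le_mul_right h3 Nat.card_pos
  exact Subgroup.eq_top_of_card_eq _ (le_antisymm (Subgroup.card_le_card_group _) h5)

/-- `C = L₀ E`. -/
theorem sup_E (hC : CHyp z q ε Z T T' U s₀ s₀' u₀) (B : Base S₀ L₀ e₀)
    (hH : ∀ c, c ∈ H1 L₀ e₀) (hq : Nat.card F = q) (hz : Zs F ε p n r) (hTr : Tr ≤ T) (hpg : IsPGroup r Tr)
    (hind : ¬ r ∣ Tr.index) (hE2 : ∀ x ∈ T, (∃ k : ℕ, x ^ 2 ^ k = 1) → x ∈ E) : L₀ ⊔ E = ⊤ := by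
  rw [eq_top_iff, ← sup_T hC B hH hq hz hTr hpg hind]
  refine sup_le le_sup_left ?_
  intro x hx
  obtain ⟨k, m, hm, hkm⟩ := Nat.exists_eq_two_pow_mul_odd (n := orderOf x) (orderOf_pos x).ne'
  have hxk : x ^ 2 ^ k ∈ L₀ := by
    apply mem_L_of_odd B (hH _)
    have h1 : (x ^ 2 ^ k) ^ m = 1 := by rw [← pow_mul, ← hkm, pow_orderOf_eq_one]
    exact Odd.of_dvd_nat hm (orderOf_dvd_of_pow_eq_one h1)
  have hxm : x ^ m ∈ E := by
    apply hE2 _ (T.pow_mem hx m)
    exact ⟨k, by rw [← pow_mul, mul_comm, ← hkm, pow_orderOf_eq_one]⟩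
  have hcop : Nat.Coprime (2 ^ k) m := Nat.Coprime.pow_left _ (Nat.coprime_two_left.2 hm)
  have h1 : IsCoprime ((2 ^ k : ℕ) : ℤ) (m : ℤ) := Nat.isCoprime_iff_coprime.2 hcop
  obtain ⟨a, b, hab⟩ := h1
  have h3 : x = (x ^ 2 ^ k) ^ a * (x ^ m) ^ b := by
    rw [← zpow_natCast x (2 ^ k), ← zpow_natCast x m, ← _root_.zpow_mul, ← _root_.zpow_mul, ← _root_.zpow_add,
      mul_comm _ a, mul_comm _ b, hab, _root_.zpow_one]
  rw [h3]
  exact mul_mem (mem_sup_left (L₀.zpow_mem hxk a)) (mem_sup_right (E.zpow_mem hxm b))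

/-- **The structure `Geo`**, `E` the Sylow `2`-subgroup of `T`. -/
theorem geo (hC : CHyp z q ε Z T T' U s₀ s₀' u₀) (norm₁ : ε = 1 → ∀ τ ∈ T, ∀ v ∈ U, τ * v * τ⁻¹ ∈ U)
    (hZ2 : ∃ k, Nat.card Z = 2 ^ k) (B : Base S₀ L₀ e₀) (hH : ∀ c, c ∈ H1 L₀ e₀)
    (hq : Nat.card F = q) (hz : Zs F ε p n r) (hTr : Tr ≤ T) (hpg : IsPGroup r Tr)
    (hind : ¬ r ∣ Tr.index) (hET : E ≤ T) (hE2 : ∀ x ∈ T, (∃ k : ℕ, x ^ 2 ^ k = 1) → x ∈ E) :
    Geo z q ε Z T T' U s₀ s₀' u₀ L₀ Tr E r := by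
  have hzz : z ^ 2 ^ 1 = 1 := by rw [pow_one, ← hC.orderOf_t, pow_orderOf_eq_one]
  have huu : u₀ ^ 2 ^ 1 = 1 := by rw [pow_one, ← hC.orderOf_u, pow_orderOf_eq_one]
  have hq3 : 3 < q := by rw [← hq]; have := hz.card_ge; omega
  refine GeoMk.geo hC norm₁ hZ2 B hH hq hz hTr hpg hind hET
    (hE2 z (hC.Z_le_T hC.t_mem) ⟨1, hzz⟩) (hE2 u₀ hC.u_mem ⟨1, huu⟩) ?_ ?_
  · rw [sup_E hC B hH hq hz hTr hpg hind hE2]; trivial
  · intro hε _
    apply exists_mem hC hq3 B hH hq hE2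
    rw [hε, ← hq, hz.card_F]
    have h1 : 1 ≤ p ^ n := Nat.one_le_pow _ _ hz.p_prime.pos
    push_cast [Nat.cast_sub h1]
    rfl

end Cfsg.Agent.Classification.QDW.GeoE
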