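import Mathlib
import Cfsg.Agent.Lib.Zsigmondy
import Cfsg.Agent.Classification.QDW.GeoMk

/-!
# Existence of the Zsigmondy prime
-/

set_option autoImplicit false
set_option linter.unusedSectionVars false

namespace Cfsg.Agent.Classification.QDW.GeoNum

open Cfsg.Agent.Classification.QDW.GeoTorus

/-- The Zsigmondy prime, when `n` has an odd divisor `f ≥ 3`. -/
theorem exists_Zs {F : Type*} {ε : ℤ} (hε : ε = 1 ∨ ε = -1) {p n f : ℕ} (hp : p.Prime) (hp2 : Odd p)
    (hF : Nat.card F = p ^ n) (hf : Odd f) (hf3 : 3 ≤ f) (hfn : f ∣ n) (hn : 0 < n) :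
    ∃ r, Zs F ε p n r ∧ n < r ∧ (ε = -1 → 2 * n < r) := by
  have hn3 : 3 ≤ n := hf3.trans (Nat.le_of_dvd hn hfn)
  have hp3 : 3 ≤ p := by
    have := hp.two_le
    rcases hp2 with ⟨k, hk⟩
    omega
  have hp1 : 1 ≤ p ^ n := Nat.one_le_pow _ _ hp.pos
  rcases hε with rfl | rfl
  · obtain ⟨r, hr, hr1, hr2, hr3⟩ := Cfsg.Agent.Lib.Zsigmondy.exists_primitive (a := p) (n := n)
      (by omega) (by omega) (by omega) (by omega)
    have hr0 := hr.two_le
    have hrn : n < r := by
      have := Nat.le_of_dvd (by omega) hr2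
      omega
    have hrodd : Odd r := hr.eq_two_or_odd'.resolve_left (by omega)
    have h7 : 7 ≤ r := by
      by_contra hcon
      push Not at hcon
      -- `n ≤ 5` and `n` is odd
      have hn5 : n ≤ 5 := by omega
      have hnodd : n = 3 ∨ n = 5 := by
        obtain ⟨c, hc⟩ := hfn
        have hc1 : c = 1 := by
          rcases Nat.lt_or_ge c 2 with h | h
          · interval_cases c
            · omega
            · rfl
          · exfalso
            nlinarith
        rw [hc1, mul_one] at hc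
        rcases hf with ⟨k, hk⟩
        omega
      obtain ⟨m, hm⟩ := hrodd
      obtain ⟨c, hc⟩ := hr2
      rcases hnodd with rfl | rfl
      · omega
      · omega
    refine ⟨r, ⟨hp, hp2, hn3, hF, hr, h7, ?_, fun j hj => (hr1 j).1 hj, fun h => by norm_num at h⟩, hrn,
      fun h => by norm_num at h⟩
    have h9 := (hr1 n).2 (dvd_refl n)
    have h11 : (r : ℤ) ∣ ((p ^ n - 1 : ℕ) : ℤ) := by exact_mod_cast h9
    rw [Nat.cast_sub hp1] at h11
    push_cast at h11
    exact h11
  · obtain ⟨r, hr, hr1, hr2, hr3⟩ := Cfsg.Agent.Lib.Zsigmondy.exists_primitive (a := p) (n := 2 * n)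
      (by omega) (by omega) (by omega) (by omega)
    have hr0 := hr.two_le
    have hrn : 2 * n < r := by
      have := Nat.le_of_dvd (by omega) hr2
      omega
    refine ⟨r, ⟨hp, hp2, hn3, hF, hr, by omega, ?_, fun j hj => ?_, fun _ j hj => (hr1 j).1 hj⟩, by omega,
      fun _ => hrn⟩
    · have h9 := (hr1 (2 * n)).2 (dvd_refl _)
      have h3 : p ^ (2 * n) - 1 = (p ^ n + 1) * (p ^ n - 1) := by
        rw [mul_comm 2 n, pow_mul, ← Nat.sq_sub_sq, one_pow]
      rw [h3] at h9
      have h5 : ¬ r ∣ p ^ n - 1 := by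
        intro h5
        have := Nat.le_of_dvd hn ((hr1 n).1 h5)
        omega
      have h6 := (hr.dvd_mul.1 h9).resolve_right h5
      have h7 : (r : ℤ) ∣ ((p ^ n + 1 : ℕ) : ℤ) := by exact_mod_cast h6
      push_cast at h7
      rw [sub_neg_eq_add]
      exact h7
    · exact (dvd_mul_left n 2).trans ((hr1 j).1 hj)

end Cfsg.Agent.Classification.QDW.GeoNum
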