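import Mathlib
import Cfsg.Agent.Classification.QDW.FieldW
import Cfsg.Agent.Classification.QDW.FieldRes
import Cfsg.Agent.Classification.QDW.FuDichG
import Cfsg.Agent.Classification.QDW.GeoE
import Cfsg.Agent.Classification.QDW.GeoNum

/-!
# The set-up of the field case

From `FHyp` for `π₁ : N →* H₁` and `CHyp` for `H₁ = H1 L e`: the `FuDichG.Setup`, with the sign `ε` of
`CHyp`; the Zsigmondy prime if `H1 L e ≠ ⊤`.
-/

set_option autoImplicit false
set_option linter.unusedSectionVars false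

namespace Cfsg.Agent.Classification.QDW.FieldSetup

open Subgroup Matrix Cfsg.Agent.Lib.SL2Mat Cfsg.Agent.Lib.AutSL2 Cfsg.Agent.TwoFusion
  Cfsg.Agent.TwoFusion.NormalSL2 Cfsg.Agent.Classification.QDW.TypeHom
  Cfsg.Agent.Classification.QDW.StructQ Cfsg.Agent.Classification.QDW.StructMain
  Cfsg.Agent.Classification.QDW.TorusG Cfsg.Agent.Classification.QDW.TorusF
  Cfsg.Agent.Classification.QDW.TorusW Cfsg.Agent.Classification.QDW.GeoTorus
  Cfsg.Agent.Classification.QDW.FuDichG Cfsg.Agent.Classification.QDW.FieldRes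
  Cfsg.Agent.Classification.QDW.Fld Cfsg.Agent.Classification.InvCent

section Sign

variable {C : Type*} [Group C] [Finite C] {z u₀ s₀ s₀' : C} {q : ℕ} {ε : ℤ} {Z T T' U : Subgroup C}
  {L₀ : Subgroup C} [hLn : L₀.Normal] {F : Type*} [Field F] [Finite F]
  {e₀ : L₀ ≃* SpecialLinearGroup (Fin 2) F} {S₀ : Sylow 2 C}

/-- The sign of the torus. -/
theorem eps_eq (hC : CHyp z q ε Z T T' U s₀ s₀' u₀) (B : Base S₀ L₀ e₀) (hq : Nat.card F = q)
    (hq5 : 5 < q) {g : GL (Fin 2) F} {ε' : ℤ} (h : TH L₀ e₀ u₀ g ε') : ε' = ε := by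
  classical
  have hle : CL L₀ u₀ ≤ T := GeoE.CL_le hC
  have hZn : (Z.subgroupOf T).Normal := by
    refine ⟨fun x hx g => ?_⟩
    rw [mem_subgroupOf] at hx ⊢
    have h1 := hC.Z_central _ hx (g : C)
    change (g : C) * (x : C) * (g : C)⁻¹ ∈ Z
    rw [h1, mul_inv_cancel_right]
    exact hx
  -- the intersection with the centre
  set K : Subgroup (CL L₀ u₀) := Z.subgroupOf (CL L₀ u₀) with hK
  have hmem : ∀ x : K, ((x : CL L₀ u₀) : C) = 1 ∨ ((x : CL L₀ u₀) : C) = z0 e₀ := by
    intro x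
    have h1 : ((x : CL L₀ u₀) : C) ∈ Z := x.2
    exact StructW.central_mem B ((mem_CL u₀ _).1 (x : CL L₀ u₀).2).1
      (fun k => (hC.Z_central _ h1 k).symm)
  have h2 : Nat.card K ≤ 2 := by
    have h3 : Function.Injective (fun x : K => decide (((x : CL L₀ u₀) : C) = 1)) := by
      intro x y hxy
      simp only [decide_eq_decide] at hxy
      apply Subtype.ext
      apply Subtype.ext
      rcases hmem x with h4 | h4
      · rw [h4, hxy.1 h4]
      · rcases hmem y with h5 | h5
        · rw [h5, hxy.2 h5]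
        · rw [h4, h5]
    have h4 := Nat.card_le_card_of_injective _ h3
    rwa [Nat.card_eq_fintype_card (α := Bool), Fintype.card_bool] at h4
  have h3 := K.card_mul_index
  have h4 : K.index ∣ (Z.subgroupOf T).index := by
    have h5 : (Z.subgroupOf T).relIndex ((CL L₀ u₀).subgroupOf T) = Z.relIndex (CL L₀ u₀) :=
      relIndex_subgroupOf hle
    have h6 : (Z.subgroupOf T).relIndex ((CL L₀ u₀).subgroupOf T) ∣ (Z.subgroupOf T).index :=
      relIndex_dvd_index_of_normal _ _
    rw [h5] at h6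
    exact h6
  have h5 : (((Z.subgroupOf T).index : ℕ) : ℤ) = q - ε := by
    have h6 := (Z.subgroupOf T).card_mul_index
    have h7 : Nat.card (Z.subgroupOf T) = Nat.card Z :=
      Nat.card_congr (Subgroup.subgroupOfEquivOfLe hC.Z_le_T).toEquiv
    rw [h7] at h6
    have h8 := hC.card_T
    rw [← h6] at h8
    push_cast at h8
    have h9 : (Nat.card Z : ℤ) ≠ 0 := by
      have : 0 < Nat.card Z := Nat.card_pos
      exact_mod_cast this.ne'
    exact mul_left_cancel₀ h9 h8
  have h6 := h.card_CL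
  rw [hq, ← h3] at h6
  push_cast at h6
  have h7 : ((K.index : ℕ) : ℤ) ∣ q - ε := by
    rw [← h5]
    exact_mod_cast h4
  have h8 : ((q : ℤ) - ε') ∣ 2 * (q - ε) := by
    have h9 : 0 < Nat.card K := Nat.card_pos
    obtain ⟨m, hm⟩ := h7
    rcases (by omega : Nat.card K = 1 ∨ Nat.card K = 2) with h10 | h10
    · rw [h10, Nat.cast_one, one_mul] at h6
      exact ⟨2 * m, by rw [hm, ← h6]; ring⟩
    · rw [h10] at h6
      exact ⟨m, by rw [hm, ← h6]; push_cast; ring⟩
  have h9 : (5 : ℤ) < q := by exact_mod_cast hq5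
  rcases h.eps_or with h10 | h10 <;> rcases hC.eps with h11 | h11 <;> rw [h10, h11] at h8 ⊢
  · exfalso
    have h12 : ((q : ℤ) - 1) ∣ 4 := by
      have h13 := dvd_sub h8 (Dvd.intro_left 2 rfl : ((q : ℤ) - 1) ∣ 2 * ((q : ℤ) - 1))
      have h14 : 2 * ((q : ℤ) - -1) - 2 * ((q : ℤ) - 1) = 4 := by ring
      rwa [h14] at h13
    have := Int.le_of_dvd (by norm_num) h12
    omega
  · exfalso
    have h12 : ((q : ℤ) - -1) ∣ 4 := by
      have h13 := dvd_sub (Dvd.intro_left 2 rfl : ((q : ℤ) - -1) ∣ 2 * ((q : ℤ) - -1)) h8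
      have h14 : 2 * ((q : ℤ) - -1) - 2 * ((q : ℤ) - 1) = 4 := by ring
      rwa [h14] at h13
    have := Int.le_of_dvd (by norm_num) h12
    omega

end Sign

section Local

variable {H : Type*} [Group H] [Finite H] {S : Sylow 2 H} {L : Subgroup H} [hLn : L.Normal]
  {F : Type*} [Field F] [Finite F] {e : L ≃* SpecialLinearGroup (Fin 2) F}
  {z u₀ s₀ s₀' : H1 L e} {q : ℕ} {ε : ℤ} {Z T T' U : Subgroup (H1 L e)}

theorem th_of_res {g : GL (Fin 2) F} {ε' : ℤ} (h : TH (L1 L e) (e1 L e) u₀ g ε') :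
    TH L e (u₀ : H) g ε' :=
  ⟨h.two_ne, by rw [← act_res]; exact h.act_y, h.tr0, h.eps⟩

/-- `TH` with the sign of `CHyp`. -/
theorem exists_th (B : Base S L e) (hS : (S : Subgroup H) ≤ H1 L e)
    (hC : CHyp z q ε Z T T' U s₀ s₀' u₀) (hq : Nat.card F = q) (hq5 : 5 < q) :
    ∃ g : GL (Fin 2) F, TH L e (u₀ : H) g ε := by
  obtain ⟨g, ε', h⟩ := GeoE.exists_TH' hC (base_res B hS) mem_H1_res
  have h1 := eps_eq hC (base_res B hS) hq hq5 h
  subst h1
  exact ⟨g, th_of_res h⟩

/-- `|Aut F| ≤ n`. -/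
theorem card_aut_le {F : Type*} [Field F] [Finite F] {p n : ℕ} [Fact p.Prime] [CharP F p]
    (hn : Nat.card F = p ^ n) (hn0 : 0 < n) : Nat.card (F ≃+* F) ≤ n := by
  have hfr : ∀ (a : F) (k : ℕ), a ^ p ^ (n * k) = a := by
    intro a k
    induction k with
    | zero => simp
    | succ k ih =>
      rw [Nat.mul_succ, pow_add, pow_mul, ih, ← hn]
      let _ := Fintype.ofFinite F
      rw [Nat.card_eq_fintype_card]; exact FiniteField.pow_card a
  have hmod : ∀ (a : F) (i : ℕ), a ^ p ^ i = a ^ p ^ (i % n) := by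
    intro a i
    conv_lhs => rw [← Nat.div_add_mod i n]
    rw [pow_add, pow_mul, hfr]
  choose i hi using fun σ : F ≃+* F => exists_frob (p := p) σ
  have hinj : Function.Injective (fun σ : F ≃+* F => (⟨i σ % n, Nat.mod_lt _ hn0⟩ : Fin n)) := by
    intro σ τ h
    have h1 : i σ % n = i τ % n := congrArg Fin.val h
    apply RingEquiv.ext
    intro a
    rw [hi, hi, hmod, h1, ← hmod]
  have h1 := Nat.card_le_card_of_injective _ hinj
  rwa [Nat.card_eq_fintype_card (α := Fin n), Fintype.card_fin] at h1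

/-- The Zsigmondy prime. -/
theorem exists_zs (hodd : Odd (H1 L e).index) (h2 : (2 : F) ≠ 0) (hne : H1 L e ≠ ⊤)
    (hε : ε = 1 ∨ ε = -1) :
    ∃ p n r : ℕ, Zs F ε p n r ∧ n < r ∧ (ε = -1 → 2 * n < r) ∧ ¬ r ∣ (H1 L e).index := by
  obtain ⟨p, hpc⟩ := CharP.exists F
  have : CharP F p := hpc
  have hp : Fact p.Prime := ⟨CharP.char_is_prime F p⟩
  let _ := Fintype.ofFinite F
  obtain ⟨n, -, hn⟩ := FiniteField.card F p
  rw [← Nat.card_eq_fintype_card] at hn
  have hpodd : Odd p := by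
    rcases hp.out.eq_two_or_odd' with h0 | h0
    · exfalso
      apply h2
      have := CharP.cast_eq_zero F p
      rw [h0] at this
      exact_mod_cast this
    · exact h0
  obtain ⟨w, hw⟩ : ∃ w : H, w ∉ H1 L e := by
    by_contra hcon
    push Not at hcon
    exact hne (eq_top_iff.2 fun x _ => hcon x)
  have hσ : Odd (orderOf (tau L e w)) := by
    refine Odd.of_dvd_nat hodd ?_
    have h3 : (H1 L e).index = Nat.card (tau L e).range := index_ker (tau L e)
    rw [h3]
    have h4 := orderOf_dvd_natCard (⟨tau L e w, ⟨w, rfl⟩⟩ : (tau L e).range)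
    rwa [← Subgroup.orderOf_coe] at h4
  obtain ⟨d, b, c, hnd, hb, -, -, hb1⟩ := exists_q0 (p := p) hn (tau L e w) hσ
  have hb3 : 3 ≤ b := by
    rcases hb with ⟨k, hk⟩
    rcases Nat.eq_zero_or_pos k with h0 | h0
    · exfalso
      exact hw (hb1 (by omega))
    · omega
  obtain ⟨r, hr, h3, h4⟩ := GeoNum.exists_Zs hε hp.out hpodd hn hb hb3 (Dvd.intro_left d hnd.symm) n.pos
  refine ⟨p, n, r, hr, h3, h4, fun h5 => ?_⟩
  have h6 : (H1 L e).index ≤ n := by
    have h7 : (H1 L e).index = Nat.card (tau L e).range := index_ker (tau L e)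
    have h8 : Finite (F ≃+* F) := Finite.of_injective (fun σ : F ≃+* F => (σ : F → F))
      DFunLike.coe_injective
    rw [h7]
    exact (Subgroup.card_le_card_group _).trans (card_aut_le (p := p) hn n.pos)
  have h7 : 0 < (H1 L e).index := Nat.pos_of_ne_zero Subgroup.index_ne_zero_of_finite
  have := Nat.le_of_dvd h7 h5
  omega

theorem card_ge {p n r : ℕ} (hz : Zs F ε p n r) : 27 ≤ Nat.card F := by
  have h1 := hz.p_prime.two_le
  have h2 := hz.p_odd
  have h3 : 3 ≤ p := by
    rcases h2 with ⟨k, hk⟩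
    omega
  rw [hz.card_F]
  calc 27 = 3 ^ 3 := by norm_num
    _ ≤ p ^ 3 := Nat.pow_le_pow_left h3 3
    _ ≤ p ^ n := Nat.pow_le_pow_right (by omega) hz.n_ge

/-- `q ≥ 125` if `q ≡ 1 mod 4` and there are field automorphisms. -/
theorem card_ge' (hodd : Odd (H1 L e).index) (h2 : (2 : F) ≠ 0) (hne : H1 L e ≠ ⊤)
    (h4 : Nat.card F % 4 = 1) : 125 ≤ Nat.card F := by
  obtain ⟨p, hpc⟩ := CharP.exists F
  have : CharP F p := hpc
  have hp : Fact p.Prime := ⟨CharP.char_is_prime F p⟩
  let _ := Fintype.ofFinite F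
  obtain ⟨n, -, hn⟩ := FiniteField.card F p
  rw [← Nat.card_eq_fintype_card] at hn
  obtain ⟨w, hw⟩ : ∃ w : H, w ∉ H1 L e := by
    by_contra hcon
    push Not at hcon
    exact hne (eq_top_iff.2 fun x _ => hcon x)
  have hσ : Odd (orderOf (tau L e w)) := by
    refine Odd.of_dvd_nat hodd ?_
    have h3 : (H1 L e).index = Nat.card (tau L e).range := index_ker (tau L e)
    rw [h3]
    have h4 := orderOf_dvd_natCard (⟨tau L e w, ⟨w, rfl⟩⟩ : (tau L e).range)
    rwa [← Subgroup.orderOf_coe] at h4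
  obtain ⟨d, b, c, hnd, hb, -, -, hb1⟩ := exists_q0 (p := p) hn (tau L e w) hσ
  have hb3 : 3 ≤ b := by
    rcases hb with ⟨k, hk⟩
    rcases Nat.eq_zero_or_pos k with h0 | h0
    · exfalso
      exact hw (hb1 (by omega))
    · omega
  have hd : d ≠ 0 := by
    rintro rfl
    rw [zero_mul] at hnd
    exact n.ne_zero hnd
  have hq : Nat.card F = (p ^ d) ^ b := by rw [hn, hnd, pow_mul]
  have h5 : (p ^ d) % 4 = 1 := by
    have h6 : ((p ^ d) ^ b) % 4 = 1 := by rw [← hq]; exact h4
    obtain ⟨k, hk⟩ := hb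
    rw [hk, pow_succ, pow_mul, Nat.mul_mod, Nat.pow_mod, Nat.pow_mod (p ^ d) 2 4] at h6
    have h7 := Nat.mod_lt (p ^ d) (by norm_num : 0 < 4)
    rcases (by omega : p ^ d % 4 = 0 ∨ p ^ d % 4 = 1 ∨ p ^ d % 4 = 2 ∨ p ^ d % 4 = 3) with
      h8 | h8 | h8 | h8
    · rw [h8] at h6
      norm_num at h6
    · exact h8
    · rw [h8, Nat.mul_mod] at h6
      norm_num at h6
      omega
    · rw [h8] at h6
      norm_num at h6
  have h6 : 5 ≤ p ^ d := by
    have h7 : 2 ≤ p ^ d := hp.out.two_le.trans (Nat.le_self_pow hd p)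
    omega
  rw [hq]
  calc 125 = 5 ^ 3 := by norm_num
    _ ≤ (p ^ d) ^ 3 := Nat.pow_le_pow_left h6 3
    _ ≤ (p ^ d) ^ b := Nat.pow_le_pow_right (by omega) hb3

variable {G : Type*} [Group G] [Finite G] {t : G}
  {π : Subgroup.centralizer ({t} : Set G) →* H}
  {R : Subgroup (Subgroup.centralizer ({t} : Set G))}

/-- **The set-up**: `u` over `u₀`, `h` of order `3` on `⟨t, u⟩`, `s ∈ C(t)` interchanging `u` and `t u`. -/
theorem exists_setup (hsurj : Function.Surjective π) (hodd : Odd (Nat.card π.ker))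
    (hf : FHyp t z (StructF.N π L e) R (StructF.piN π L e))
    (hC : CHyp z q ε Z T T' U s₀ s₀' u₀) (B : Base S L e) (hS : (S : Subgroup H) ≤ H1 L e)
    (hq : Nat.card F = q) (hq5 : 5 < q) :
    ∃ (u s h : G) (uM : u ∈ Subgroup.centralizer ({t} : Set G)) (g : GL (Fin 2) F) (W : Subgroup G),
      Setup t u s h (Subgroup.centralizer ({t} : Set G)) S L e π uM g ε W ∧
      π ⟨u, uM⟩ = (u₀ : H) ∧ orderOf u = 2 ∧ u ≠ t ∧ s ∈ Subgroup.centralizer ({t} : Set G) := by
  obtain ⟨w, hwπ, hw2, hw2', htw, hwt⟩ := hf.exists_over_u hC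
  obtain ⟨h, s, h1, h2, h3, h4⟩ := hf.exists_frame hC hw2' htw hwt
  have hww : w * w = 1 := by rw [← sq, ← hw2, pow_orderOf_eq_one]
  obtain ⟨W, hW⟩ := FieldW.exists_W hf hC hwπ hww
  obtain ⟨g, hg⟩ := exists_th B hS hC hq hq5
  have hπw : π (w : Subgroup.centralizer ({t} : Set G)) = (u₀ : H) := by
    rw [← StructF.piN_apply, hwπ]
  refine ⟨((w : Subgroup.centralizer ({t} : Set G)) : G), s, h, SetLike.coe_mem _, g, W, ?_, hπw,
    hw2', hwt, h3⟩
  exact
    { mem_M := fun x => Subgroup.mem_centralizer_singleton_iff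
      mem_W := hW
      whyp :=
        { base := B
          th := by
            have : π (⟨((w : Subgroup.centralizer ({t} : Set G)) : G), SetLike.coe_mem _⟩ :
                Subgroup.centralizer ({t} : Set G)) = (u₀ : H) := hπw
            rw [this]
            exact hg
          surj := hsurj
          odd_ker := hodd
          uu := congrArg Subtype.val hww
          mem_W := fun x => by
            rw [mem_subgroupOf, hW]
            constructor
            · rintro ⟨-, h5, h6⟩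
              refine ⟨Subtype.ext h5, ?_⟩
              rwa [Subgroup.orderOf_coe] at h6
            · rintro ⟨h5, h6⟩
              refine ⟨Subgroup.mem_centralizer_singleton_iff.1 x.2, congrArg Subtype.val h5, ?_⟩
              rwa [Subgroup.orderOf_coe] }
      st := Subgroup.mem_centralizer_singleton_iff.1 h3
      su := h4
      ht := h1
      hu := h2 }

omit [Finite G] in
/-- The Zsigmondy prime divides the order of the torus. -/
theorem zsig_of_zs [Finite G] {M : Subgroup G} {π : M →* H} {u s h : G} {uM : u ∈ M}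
    {g : GL (Fin 2) F} {W : Subgroup G} (hS : Setup t u s h M S L e π uM g ε W) {p n r : ℕ}
    (hz : Zs F ε p n r) : Setup.Zsig hS p n r where
  prime_p := hz.p_prime
  card_F := hz.card_F
  prime_r := hz.r_prime
  zsig := hz.zs
  dvd := by
    have h1 : Nat.card hS.tor = ordCompl[2] (Nat.card (CL L (π ⟨u, uM⟩))) := hS.whyp.card_TT
    rw [h1]
    have h2 : r ∣ Nat.card (CL L (π ⟨u, uM⟩)) := by
      have h3 := hS.whyp.th.card_CL
      rw [hz.card_F] at h3
      have h4 : (r : ℤ) ∣ ((Nat.card (CL L (π ⟨u, uM⟩)) : ℕ) : ℤ) := by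
        rw [h3]
        push_cast
        exact hz.dvd
      exact_mod_cast h4
    have h3 : Nat.Coprime r (2 ^ (Nat.card (CL L (π ⟨u, uM⟩))).factorization 2) := by
      apply Nat.Coprime.pow_right
      rw [Nat.coprime_primes hz.r_prime Nat.prime_two]
      have := hz.r_ge
      omega
    rw [← Nat.ordProj_mul_ordCompl_eq_self (Nat.card (CL L (π ⟨u, uM⟩))) 2] at h2
    exact h3.dvd_of_dvd_mul_left h2

end Local

end Cfsg.Agent.Classification.QDW.FieldSetup
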