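import Mathlib

/-!
# The numbers of the quasi-dihedral case, with an arbitrary core

`Q = ε q`, `Q ≡ 3 mod 4`; `f = X₂(1)`, `x = X₄(1)`, `X₃(1) = -1-x`, `n = |G : C(t)|`.  With
`d₂ = f - Q²`, `d₃ = -x - Q²`: `d₂ d₃ = Q²(Q²-1)`.  The slacks are
`n₂ = f - Q - (Q²-1) = d₂ - Q + 1` and `n₃ = -x - Q - 2 - (Q²-1) = d₃ - Q - 1`.
-/

set_option autoImplicit false

namespace Cfsg.Agent.Classification.QDW.NumBridge

/-- The numerical data of the quasi-dihedral case, before the lower bounds. -/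
structure Num (q : ℕ) (ε n κ f x : ℤ) : Prop where
  q_ge : 3 ≤ q
  eps : ε = 1 ∨ ε = -1
  mod_q : (4 : ℤ) ∣ ε * q + 1
  odd_n : Odd n
  odd_κ : Odd κ
  eqA : n * (f - ε * q) ^ 2 =
    κ ^ 2 * ((ε * q) * (ε * q - 1) * (ε * q + 1) ^ 2 * f * (f - 1))
  eqB : x * (f - (ε * q) ^ 2) = -(ε * q) ^ 2 * (f - 1)
  f_ne_zero : f ≠ 0
  f_ne_one : f ≠ 1
  x_ne_zero : x ≠ 0
  x_ne : x ≠ -1
  mod_f : (4 : ℤ) ∣ f - ε * q

section

variable {q : ℕ} {ε n κ f x : ℤ}

theorem eps_sq (h : ε = 1 ∨ ε = -1) : ε * ε = 1 := by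
  rcases h with h | h <;> rw [h] <;> norm_num

theorem Num.sq (h : Num q ε n κ f x) : (ε * q) ^ 2 = (q : ℤ) ^ 2 := by
  rw [mul_pow, _root_.sq ε, eps_sq h.eps, one_mul]

/-- The product formula. -/
theorem Num.prod (h : Num q ε n κ f x) :
    (f - (q : ℤ) ^ 2) * (-x - (q : ℤ) ^ 2) = (q : ℤ) ^ 2 * ((q : ℤ) ^ 2 - 1) := by
  have h1 := h.eqB
  rw [h.sq] at h1
  have h2 : -(q : ℤ) ^ 2 * (f - 1) = -((q : ℤ) ^ 2 * (f - 1)) := by ring
  rw [h2] at h1
  linear_combination -h1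

theorem Num.q_cases (h : Num q ε n κ f x) :
    (ε = 1 ∧ (q : ℤ) % 4 = 3) ∨ (ε = -1 ∧ (q : ℤ) % 4 = 1) := by
  have h1 := h.mod_q
  rcases h.eps with h2 | h2
  · left
    refine ⟨h2, ?_⟩
    rw [h2] at h1
    omega
  · right
    refine ⟨h2, ?_⟩
    rw [h2] at h1
    omega

theorem Num.d₂_ne (h : Num q ε n κ f x) : f - (q : ℤ) ^ 2 ≠ 0 := by
  intro h1
  have h2 := h.prod
  have h3 := h.q_ge
  rw [h1, zero_mul] at h2
  have h4 : (3 : ℤ) ≤ q := by exact_mod_cast h3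
  nlinarith [mul_pos (show (0 : ℤ) < (q : ℤ) ^ 2 by positivity)
    (show (0 : ℤ) < (q : ℤ) ^ 2 - 1 by nlinarith)]

/-- `2`-adic content of the order formula. -/
theorem Num.two_pow_dvd (h : Num q ε n κ f x) {k : ℕ} (hk : (2 : ℤ) ^ k ∣ ε * q + 1) :
    (2 : ℤ) ^ (k + 1) ∣ f - ε * q := by
  -- it is enough to treat `2 ≤ k`
  wlog h2k : 2 ≤ k with H
  · have h1 := H h (k := 2) (by norm_num; exact h.mod_q) le_rfl
    refine (pow_dvd_pow 2 ?_).trans h1
    omega
  obtain ⟨g, hg⟩ := h.mod_f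
  obtain ⟨j, rfl⟩ : ∃ j, k = 2 + j := ⟨k - 2, by omega⟩
  obtain ⟨v, hv⟩ := hk
  have hQ : (ε * q) % 4 = 3 := by have := h.mod_q; omega
  obtain ⟨c, hc⟩ : ∃ c : ℤ, ε * q = 4 * c + 3 := ⟨(ε * q) / 4, by omega⟩
  have hf3 : f = 4 * (g + c) + 3 := by linear_combination hg + hc
  -- `n g² = κ² Q (2c+1) (2^j v)² f (4 (..) + 2) ...`
  have e1 : n * g ^ 2 = κ ^ 2 * ((ε * q) * (2 * c + 1) * f * (2 * (g + c) + 1)) *
      (4 * (2 ^ j * v) ^ 2) := by
    have h1 := h.eqA
    rw [hg] at h1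
    have h2 : ε * q + 1 = 4 * (2 ^ j * v) := by rw [hv]; ring
    have h3 : ε * q - 1 = 2 * (2 * c + 1) := by linear_combination hc
    have h4 : f - 1 = 2 * (2 * (g + c) + 1) := by linear_combination hf3
    rw [h2, h3, h4] at h1
    have h5 : (16 : ℤ) ≠ 0 := by norm_num
    apply mul_left_cancel₀ h5
    linear_combination h1
  have h6 : (2 ^ (j + 1) : ℤ) ^ 2 ∣ n * g ^ 2 := by
    rw [e1]
    refine Dvd.dvd.mul_left ?_ _
    refine ⟨v ^ 2, ?_⟩
    ring
  have h7 : IsCoprime ((2 ^ (j + 1) : ℤ) ^ 2) n := by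
    refine IsCoprime.pow_left (IsCoprime.pow_left ?_)
    obtain ⟨r, hr⟩ := h.odd_n
    exact ⟨-r, 1, by rw [hr]; ring⟩
  have h8 := h7.dvd_of_dvd_mul_left h6
  have h9 : (2 ^ (j + 1) : ℤ) ∣ g := (Int.pow_dvd_pow_iff two_ne_zero).1 h8
  rw [hg, show 2 + j + 1 = 2 + (j + 1) by ring, pow_add]
  have : ((2 : ℤ) ^ 2) = 4 := by norm_num
  rw [this]
  exact mul_dvd_mul_left 4 h9

theorem Num.eight_dvd (h : Num q ε n κ f x) : (8 : ℤ) ∣ f - ε * q := by
  have := h.two_pow_dvd (k := 2) (by norm_num; exact h.mod_q)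
  norm_num at this
  exact this

/-- If `2^k ∣ Q + 1` then `2^(k+2)` divides the slack of `X₂`. -/
theorem Num.dvd_slack₂ (h : Num q ε n κ f x) {k : ℕ} (hk : (2 : ℤ) ^ k ∣ ε * q + 1) :
    (2 : ℤ) ^ (k + 2) ∣ f - ε * q - ((q : ℤ) ^ 2 - 1) := by
  -- choose the exact power
  wlog hex : ¬ (2 : ℤ) ^ (k + 1) ∣ ε * q + 1 with H
  · rw [not_not] at hex
    by_contra hcon
    -- a maximal exponent
    have hne : ε * (q : ℤ) + 1 ≠ 0 := by
      have h1 := h.q_ge
      rcases h.eps with h2 | h2 <;> rw [h2] <;> omega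
    have hfin : FiniteMultiplicity (2 : ℤ) (ε * q + 1) :=
      Int.finiteMultiplicity_iff.2 ⟨by norm_num, hne⟩
    have h3 : (2 : ℤ) ^ multiplicity (2 : ℤ) (ε * q + 1) ∣ ε * q + 1 :=
      pow_multiplicity_dvd _ _
    have h4 : ¬ (2 : ℤ) ^ (multiplicity (2 : ℤ) (ε * q + 1) + 1) ∣ ε * q + 1 :=
      hfin.not_pow_dvd_of_multiplicity_lt (Nat.lt_succ_self _)
    have h5 := H h h3 h4
    apply hcon
    refine (pow_dvd_pow 2 ?_).trans h5
    have h6 : k ≤ multiplicity (2 : ℤ) (ε * q + 1) := hfin.le_multiplicity_of_pow_dvd hk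
    omega
  have hk2 : 2 ≤ k := by
    by_contra h1
    apply hex
    have h2 := h.mod_q
    exact (pow_dvd_pow 2 (by omega)).trans (by norm_num; exact h2 : (2 : ℤ) ^ 2 ∣ ε * q + 1)
  obtain ⟨g, hg⟩ := h.two_pow_dvd hk
  obtain ⟨v, hv⟩ := hk
  have hvo : Odd v := by
    by_contra h1
    rw [Int.not_odd_iff_even] at h1
    obtain ⟨r, hr⟩ := h1
    apply hex
    exact ⟨r, by rw [hv, hr]; ring⟩
  have hQ : (ε * q) % 4 = 3 := by have := h.mod_q; omega
  obtain ⟨c, hc⟩ : ∃ c : ℤ, ε * q = 4 * c + 3 := ⟨(ε * q) / 4, by omega⟩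
  obtain ⟨w, hw⟩ : ∃ w : ℤ, f = 4 * w + 3 := by
    have := h.mod_f
    exact ⟨f / 4, by omega⟩
  -- `g` is odd
  have hgo : Odd g := by
    by_contra h1
    rw [Int.not_odd_iff_even] at h1
    have e1 : n * g ^ 2 = κ ^ 2 * ((ε * q) * (2 * c + 1) * f * (2 * w + 1)) * v ^ 2 := by
      have h1 := h.eqA
      rw [hg] at h1
      have h3 : ε * q - 1 = 2 * (2 * c + 1) := by linear_combination hc
      have h4 : f - 1 = 2 * (2 * w + 1) := by linear_combination hw
      rw [hv, h3, h4] at h1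
      have h5 : ((2 : ℤ) ^ (k + 1)) ^ 2 ≠ 0 := by positivity
      apply mul_left_cancel₀ h5
      linear_combination h1
    have h2 : Even (n * g ^ 2) := by
      refine Even.mul_left ?_ _
      exact h1.pow_of_ne_zero two_ne_zero
    rw [e1] at h2
    have hQo : Odd (ε * (q : ℤ)) := by rw [hc]; exact ⟨2 * c + 1, by ring⟩
    have hfo : Odd f := by rw [hw]; exact ⟨2 * w + 1, by ring⟩
    have h3 : Odd (κ ^ 2 * ((ε * q) * (2 * c + 1) * f * (2 * w + 1)) * v ^ 2) :=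
      (h.odd_κ.pow.mul (((hQo.mul ⟨c, rfl⟩).mul hfo).mul ⟨w, rfl⟩)).mul hvo.pow
    exact (Int.not_even_iff_odd.2 h3) h2
  -- `Q² - 1 = 2^(k+1) v (2c+1)`
  have e2 : (q : ℤ) ^ 2 - 1 = 2 ^ (k + 1) * (v * (2 * c + 1)) := by
    rw [← h.sq]
    have h3 : ε * q - 1 = 2 * (2 * c + 1) := by linear_combination hc
    calc (ε * (q : ℤ)) ^ 2 - 1 = (ε * q + 1) * (ε * q - 1) := by ring
      _ = _ := by rw [hv, h3]; ring
  rw [hg, e2, ← mul_sub, show k + 2 = k + 1 + 1 by ring, pow_succ]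
  refine mul_dvd_mul_left _ ?_
  have h5 : Even (g - v * (2 * c + 1)) := hgo.sub_odd (hvo.mul ⟨c, rfl⟩)
  exact h5.two_dvd

/-- If `2^k ∣ Q + 1` then `2^(k+2)` divides the slack of `X₃`. -/
theorem Num.dvd_slack₃ (h : Num q ε n κ f x) {k : ℕ} (hk : (2 : ℤ) ^ k ∣ ε * q + 1) :
    (2 : ℤ) ^ (k + 2) ∣ -x - ε * q - 2 - ((q : ℤ) ^ 2 - 1) := by
  wlog h2k : 2 ≤ k with H
  · have h1 := H h (k := 2) (by norm_num; exact h.mod_q) le_rfl
    refine (pow_dvd_pow 2 ?_).trans h1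
    omega
  obtain ⟨g, hg⟩ := h.dvd_slack₂ hk
  obtain ⟨v, hv⟩ := hk
  have hQ : (ε * q) % 4 = 3 := by have := h.mod_q; omega
  obtain ⟨c, hc⟩ : ∃ c : ℤ, ε * q = 4 * c + 3 := ⟨(ε * q) / 4, by omega⟩
  have hp := h.prod
  have hs := h.sq
  -- `f - q² = 2 m`, `m = (2c+1) + 2^(k+1) g`
  set m : ℤ := 2 * c + 1 + 2 ^ (k + 1) * g with hm
  have h1 : f - (q : ℤ) ^ 2 = 2 * m := by
    rw [hm]
    have : f - (q : ℤ) ^ 2 = 2 ^ (k + 2) * g + (ε * q - 1) := by linear_combination hg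
    rw [this, hc]
    ring
  have hmo : Odd m := by
    rw [hm]
    refine Odd.add_even ⟨c, rfl⟩ ?_
    refine Even.mul_right ?_ _
    rw [Int.even_pow]
    exact ⟨by decide, by omega⟩
  set y : ℤ := -x - ε * q - 2 - ((q : ℤ) ^ 2 - 1) with hy
  have h2 : -x - (q : ℤ) ^ 2 = y + (ε * q + 1) := by rw [hy]; ring
  rw [h1, h2, ← hs] at hp
  -- `m y = (Q+1) (Q² (2c+1) - m)`
  have h3 : m * y = (ε * q + 1) * ((ε * q) ^ 2 * (2 * c + 1) - m) := by
    have h4 : (2 : ℤ) ≠ 0 := two_ne_zero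
    apply mul_left_cancel₀ h4
    have h5 : ε * q - 1 = 2 * (2 * c + 1) := by linear_combination hc
    have h6 : (ε * (q : ℤ)) ^ 2 - 1 = (ε * q + 1) * (2 * (2 * c + 1)) := by
      rw [← h5]; ring
    rw [h6] at hp
    linear_combination hp
  have h4 : (2 : ℤ) ^ (k + 2) ∣ m * y := by
    rw [h3, hv]
    have h5 : (2 : ℤ) ^ 2 ∣ (ε * q) ^ 2 * (2 * c + 1) - m := by
      rw [hm, hc]
      obtain ⟨j, rfl⟩ : ∃ j, k = 1 + j := ⟨k - 1, by omega⟩
      refine ⟨(2 * c + 1) * (4 * c ^ 2 + 6 * c + 2) - 2 ^ j * g, ?_⟩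
      rw [show 1 + j + 1 = 2 + j by ring, pow_add]
      ring
    obtain ⟨b, hb⟩ := h5
    rw [hb, pow_add]
    exact ⟨v * b, by ring⟩
  have h7 : IsCoprime ((2 : ℤ) ^ (k + 2)) m := by
    refine IsCoprime.pow_left ?_
    obtain ⟨r, hr⟩ := hmo
    exact ⟨-r, 1, by rw [hr]; ring⟩
  exact h7.dvd_of_dvd_mul_left h4

/-! ### The lower bounds -/

/-- `ε = 1`. -/
theorem Num.pos (h : Num q 1 n κ f x) (lb₂ : (q : ℤ) ^ 2 - 1 ≤ |f - 1 * q|)
    (lb₃ : (q : ℤ) ^ 2 - 1 ≤ |x + 1 * q + 2|) :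
    (q : ℤ) ^ 2 - 1 ≤ f - q ∧ (q : ℤ) ^ 2 - 1 ≤ -x - q - 2 ∧
      (f - q < 2 * (q : ℤ) ^ 2 - q - 1 ∨ -x - q - 2 < 2 * (q : ℤ) ^ 2 - q - 1) := by
  have hq : (3 : ℤ) ≤ q := by exact_mod_cast h.q_ge
  have hp := h.prod
  rw [one_mul] at lb₂ lb₃
  have hqq : (9 : ℤ) ≤ (q : ℤ) ^ 2 := by nlinarith
  have h2 : (q : ℤ) ^ 2 - 1 ≤ f - q := by
    rcases le_abs'.1 lb₂ with h1 | h1
    · exfalso
      -- `f < 0`
      have hf : f < 0 := by nlinarith
      have h3 : 0 < -x := by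
        have := h.eqB
        rw [h.sq] at this
        by_contra hcon
        nlinarith
      have h4 : -x < (q : ℤ) ^ 2 := by
        by_contra hcon
        push Not at hcon
        nlinarith
      rcases le_abs'.1 lb₃ with h5 | h5 <;> nlinarith
    · exact h1
  have hd2 : 0 < f - (q : ℤ) ^ 2 := by linarith
  have hd3 : 0 < -x - (q : ℤ) ^ 2 := by
    by_contra hcon
    push Not at hcon
    nlinarith
  have h3 : (q : ℤ) ^ 2 - 1 ≤ -x - q - 2 := by
    rcases le_abs'.1 lb₃ with h5 | h5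
    · linarith
    · nlinarith
  refine ⟨h2, h3, ?_⟩
  by_contra hcon
  push Not at hcon
  obtain ⟨h4, h5⟩ := hcon
  have h6 : (q : ℤ) ^ 2 - 1 ≤ f - (q : ℤ) ^ 2 := by linarith
  have h7 : (q : ℤ) ^ 2 + 1 ≤ -x - (q : ℤ) ^ 2 := by linarith
  nlinarith

/-- The equality case for `X₃`. -/
theorem Num.slack₃_eq_zero (h : Num q ε n κ f x) :
    -x - ε * q - 2 - ((q : ℤ) ^ 2 - 1) = 0 ↔ f = (ε * q) ^ 3 := by
  have hp := h.prod
  have hs := h.sq
  have hne : ε * (q : ℤ) + 1 ≠ 0 := by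
    have h1 := h.q_ge
    rcases h.eps with h2 | h2 <;> rw [h2] <;> omega
  have hne' : ε * (q : ℤ) - 1 ≠ 0 := by
    have h1 := h.q_ge
    rcases h.eps with h2 | h2 <;> rw [h2] <;> omega
  have hq0 : ε * (q : ℤ) ≠ 0 := by
    have h1 := h.q_ge
    rcases h.eps with h2 | h2 <;> rw [h2] <;> omega
  rw [← hs] at hp ⊢
  constructor
  · intro h1
    have h2 : -x - (ε * q) ^ 2 = ε * q + 1 := by linear_combination h1
    rw [h2] at hp
    apply mul_right_cancel₀ hne
    linear_combination hp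
  · intro h1
    have h2 : f - (ε * q) ^ 2 = (ε * q) ^ 2 * (ε * q - 1) := by rw [h1]; ring
    rw [h2] at hp
    have h3 : (ε * (q : ℤ)) ^ 2 * (ε * q - 1) ≠ 0 := mul_ne_zero (pow_ne_zero 2 hq0) hne'
    have h4 : (ε * (q : ℤ)) ^ 2 * (ε * q - 1) * (-x - (ε * q) ^ 2 - (ε * q + 1)) = 0 := by
      linear_combination hp
    rcases mul_eq_zero.1 h4 with h5 | h5
    · exact absurd h5 h3
    · linear_combination h5

/-- The equality case for `X₂`. -/
theorem Num.slack₂_eq_zero :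
    f - ε * q - ((q : ℤ) ^ 2 - 1) = 0 ↔ f = (q : ℤ) ^ 2 + ε * q - 1 := by
  constructor
  · intro h1; linear_combination h1
  · intro h1; linear_combination h1

theorem dvd_nat {p e σ N : ℕ} (hp : p.Prime) (hσ : σ ≠ 0) (h : σ ∣ (p ^ e) ^ 2 * N)
    (hn : ¬ p ^ e ∣ σ) : σ ∣ p ^ e * N := by
  obtain ⟨i, σ', h1, rfl⟩ := Nat.exists_eq_pow_mul_and_not_dvd hσ p hp.ne_one
  have hi : i < e := by
    by_contra h2
    exact hn ((pow_dvd_pow p (not_lt.1 h2)).mul_right _)
  have hc : Nat.Coprime σ' (p ^ e) :=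
    (Nat.Coprime.pow_right e ((hp.coprime_iff_not_dvd.2 h1).symm))
  have h2 : σ' ∣ N := by
    have h3 : σ' ∣ (p ^ e) ^ 2 * N := (dvd_mul_left σ' (p ^ i)).trans h
    exact (hc.pow_right 2).dvd_of_dvd_mul_left h3
  exact mul_dvd_mul (pow_dvd_pow p hi.le) h2

theorem dvd_int {q : ℕ} (hq : IsPrimePow q) {σ N : ℤ} (hσ : σ ≠ 0) (h : σ ∣ (q : ℤ) ^ 2 * N)
    (hn : ¬ (q : ℤ) ∣ σ) : σ ∣ (q : ℤ) * N := by
  obtain ⟨p, e, hp, -, rfl⟩ := hq
  rw [← Int.natAbs_dvd_natAbs] at h hn ⊢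
  rw [Int.natAbs_mul] at h ⊢
  rw [Int.natAbs_pow] at h
  simp only [Int.natAbs_natCast] at h hn ⊢
  exact dvd_nat hp.nat_prime (Int.natAbs_ne_zero.2 hσ) h hn

/-- `ε = -1`. -/
theorem Num.neg (h : Num q (-1) n κ f x) (hpp : IsPrimePow q)
    (lb₂ : (q : ℤ) ^ 2 - 1 ≤ |f - -1 * q|)
    (lb₃ : (q : ℤ) ^ 2 - 1 ≤ |x + -1 * q + 2|) :
    (0 < f ∧ f < (q : ℤ) ^ 2 ∧ (q : ℤ) ^ 2 - 1 ≤ f + q ∧ f + q - ((q : ℤ) ^ 2 - 1) ≤ q) ∨
    ((q : ℤ) ^ 2 < f ∧ (q : ℤ) ^ 2 - 1 ≤ -x + q - 2 ∧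
      (f + q < 2 * ((q : ℤ) ^ 2 - 1) ∨ -x + q - 2 < 2 * ((q : ℤ) ^ 2 - 1))) ∨
    (f < 0 ∧ (q : ℤ) ^ 2 - 1 ≤ -x + q - 2 ∧ -x + q - 2 - ((q : ℤ) ^ 2 - 1) ≤ q - 2) := by
  have hq4 : (q : ℤ) % 4 = 1 := by
    rcases h.q_cases with ⟨h1, -⟩ | ⟨-, h1⟩
    · exact absurd h1 (by norm_num)
    · exact h1
  have hq3 : (3 : ℤ) ≤ q := by exact_mod_cast h.q_ge
  have hq : (5 : ℤ) ≤ q := by omega
  have hp := h.prod
  have hqq : (25 : ℤ) ≤ (q : ℤ) ^ 2 := by nlinarith
  have lb₂' : (q : ℤ) ^ 2 - 1 ≤ |f + q| := by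
    have : f - -1 * (q : ℤ) = f + q := by ring
    rwa [this] at lb₂
  have lb₃' : (q : ℤ) ^ 2 - 1 ≤ |x - q + 2| := by
    have : x + -1 * (q : ℤ) + 2 = x - q + 2 := by ring
    rwa [this] at lb₃
  rcases le_abs'.1 lb₂' with h1 | h1
  · -- `f < 0`
    right; right
    have hf : f < 0 := by nlinarith
    have hx : x < 0 := by
      have := h.eqB
      rw [h.sq] at this
      by_contra hcon
      push Not at hcon
      nlinarith
    have hx2 : -x < (q : ℤ) ^ 2 := by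
      by_contra hcon
      push Not at hcon
      nlinarith
    refine ⟨hf, ?_, ?_⟩
    · rcases le_abs'.1 lb₃' with h5 | h5
      · linarith
      · nlinarith
    · linarith
  · rcases lt_trichotomy f ((q : ℤ) ^ 2) with h2 | h2 | h2
    · left
      exact ⟨by nlinarith, h2, h1, by linarith⟩
    · exfalso
      exact h.d₂_ne (by rw [h2, sub_self])
    · right; left
      have hd2 : 0 < f - (q : ℤ) ^ 2 := by linarith
      have hd3 : 0 < -x - (q : ℤ) ^ 2 := by
        by_contra hcon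
        push Not at hcon
        nlinarith
      refine ⟨h2, by linarith, ?_⟩
      by_contra hcon
      push Not at hcon
      obtain ⟨h4, h5⟩ := hcon
      -- `d₂ = 2 σ`, `q + 1 = 2 m`, `q - 1 = 2^j w`
      obtain ⟨c, hc⟩ : ∃ c : ℤ, (q : ℤ) = 4 * c + 1 := ⟨(q : ℤ) / 4, by omega⟩
      have hmf : (4 : ℤ) ∣ f + q := by
        have := h.mod_f
        have h6 : f - -1 * (q : ℤ) = f + q := by ring
        rwa [h6] at this
      obtain ⟨g, hg⟩ := hmf
      set σ : ℤ := 2 * (g - 4 * c ^ 2 - 3 * c) - 1 with hσ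
      have e2 : f - (q : ℤ) ^ 2 = 2 * σ := by
        rw [hσ]
        have : f = 4 * g - q := by linear_combination hg
        rw [this, hc]
        ring
      have hσo : Odd σ := ⟨g - 4 * c ^ 2 - 3 * c - 1, by rw [hσ]; ring⟩
      set m : ℤ := 2 * c + 1 with hm
      have e3 : (q : ℤ) + 1 = 2 * m := by rw [hm, hc]; ring
      have hd3' : (q : ℤ) ^ 2 - q ≤ -x - (q : ℤ) ^ 2 := by linarith
      have hσ1 : ((q : ℤ) - 2) * m ≤ σ := by nlinarith
      have hσ2 : σ ≤ q * m := by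
        have : 2 * σ * ((q : ℤ) ^ 2 - q) ≤ (q : ℤ) ^ 2 * ((q : ℤ) ^ 2 - 1) := by
          rw [← hp, e2]
          exact mul_le_mul_of_nonneg_left hd3' (by linarith)
        have h6 : (q : ℤ) ^ 2 * ((q : ℤ) ^ 2 - 1) = 2 * (q * m) * ((q : ℤ) ^ 2 - q) := by
          rw [show 2 * ((q : ℤ) * m) = q * (2 * m) by ring, ← e3]; ring
        rw [h6] at this
        have h7 : (0 : ℤ) < (q : ℤ) ^ 2 - q := by nlinarith
        have h8 := le_of_mul_le_mul_right this h7
        linarith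
      have hσ0 : 0 < σ := by nlinarith
      have hm1 : 1 ≤ m := by rw [hm]; omega
      by_cases hqσ : (q : ℤ) ∣ σ
      · obtain ⟨σ₁, hσ₁⟩ := hqσ
        have h6 : m - 1 ≤ σ₁ := by
          by_contra h7
          push Not at h7
          have : σ₁ ≤ m - 2 := by omega
          nlinarith
        have h7 : σ₁ ≤ m := by
          rw [hσ₁] at hσ2
          exact le_of_mul_le_mul_left hσ2 (by linarith)
        have h8 : σ₁ = m := by
          rcases eq_or_lt_of_le h7 with h9 | h9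
          · exact h9
          · exfalso
            have h10 : σ₁ = m - 1 := by omega
            have h11 : Even σ := by
              rw [hσ₁, h10, hm]
              exact ⟨q * c, by ring⟩
            exact (Int.not_even_iff_odd.2 hσo) h11
        have h9 := h.eight_dvd
        have h10 : f - -1 * (q : ℤ) = 2 * q * (q + 1) := by
          have : f = (q : ℤ) ^ 2 + 2 * (q * m) := by
            rw [h8] at hσ₁
            linear_combination e2 + 2 * hσ₁
          rw [this, show 2 * ((q : ℤ) * m) = q * (2 * m) by ring, ← e3]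
          ring
        rw [h10, hc] at h9
        have h11 : 2 * (4 * c + 1) * (4 * c + 1 + 1) = 8 * (4 * c ^ 2 + 3 * c) + 4 := by ring
        rw [h11] at h9
        omega
      · -- `σ ∣ q m w`
        obtain ⟨j, w, hw1, hw2⟩ := Nat.exists_eq_pow_mul_and_not_dvd
          (show q - 1 ≠ 0 by have := h.q_ge; omega) 2 (by norm_num)
        have hw3 : (q : ℤ) - 1 = 2 ^ j * w := by
          have h6 : ((q - 1 : ℕ) : ℤ) = ((2 ^ j * w : ℕ) : ℤ) := by rw [hw2]
          rw [Nat.cast_sub (by have := h.q_ge; omega)] at h6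
          push_cast at h6
          exact h6
        have hj : 2 ≤ j := by
          by_contra h6
          have h7 : j = 0 ∨ j = 1 := by omega
          have hwo : w % 2 = 1 := by omega
          rcases h7 with h7 | h7
          · rw [h7, pow_zero, one_mul] at hw3
            omega
          · rw [h7, pow_one] at hw3
            omega
        have h6 : σ * (-x - (q : ℤ) ^ 2) = (q : ℤ) ^ 2 * (m * w) * 2 ^ j := by
          have h7 : (q : ℤ) ^ 2 - 1 = 2 * m * (2 ^ j * w) := by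
            rw [← e3, ← hw3]; ring
          rw [e2, h7] at hp
          have h8 : (2 : ℤ) ≠ 0 := two_ne_zero
          apply mul_left_cancel₀ h8
          linear_combination hp
        have h7 : σ ∣ (q : ℤ) ^ 2 * (m * w) := by
          have h8 : IsCoprime σ ((2 : ℤ) ^ j) := by
            refine IsCoprime.pow_right ?_
            obtain ⟨r, hr⟩ := hσo
            exact ⟨1, -r, by rw [hr]; ring⟩
          exact h8.dvd_of_dvd_mul_right ⟨_, h6.symm⟩
        obtain ⟨τ, hτ⟩ := dvd_int hpp hσ0.ne' h7 hqσ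
        have hw0 : (0 : ℤ) < w := by
          have : (0 : ℤ) < 2 ^ j * w := by rw [← hw3]; linarith
          exact pos_of_mul_pos_right this (by positivity)
        have h9 : σ < q * m := by
          rcases eq_or_lt_of_le hσ2 with h10 | h10
          · exact absurd ⟨m, h10⟩ hqσ
          · exact h10
        have h10 : (w : ℤ) + 1 ≤ τ := by
          by_contra h11
          push Not at h11
          have h12 : τ ≤ w := by omega
          have h13 : (q : ℤ) * (m * w) ≤ σ * w := by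
            rw [hτ]
            exact mul_le_mul_of_nonneg_left h12 hσ0.le
          nlinarith
        have h11 : ((q : ℤ) - 2) * m * (w + 1) ≤ q * (m * w) := by
          rw [hτ]
          calc ((q : ℤ) - 2) * m * (w + 1) ≤ σ * (w + 1) :=
                mul_le_mul_of_nonneg_right hσ1 (by linarith)
            _ ≤ σ * τ := mul_le_mul_of_nonneg_left h10 hσ0.le
        have h12 : (q : ℤ) ≤ 2 * w + 2 := by
          have h13 : m * (((q : ℤ) - 2) * (w + 1)) ≤ m * (q * w) := by linarith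
          have h14 := le_of_mul_le_mul_left h13 (by linarith)
          linarith
        have h13 : 4 * (w : ℤ) ≤ q - 1 := by
          rw [hw3]
          have h14 : (4 : ℤ) ≤ 2 ^ j := by
            calc (4 : ℤ) = 2 ^ 2 := by norm_num
              _ ≤ 2 ^ j := pow_le_pow_right₀ (by norm_num) hj
          exact mul_le_mul_of_nonneg_right h14 hw0.le
        omega

/-! ### Regular blocks -/

theorem mul_eq_cases {q : ℤ} (hq : 3 ≤ q) {l j : ℤ} (h : (q * l - 1) * j = q ^ 2 - 1) :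
    l = q ∨ l = 1 ∨ l = -1 ∨ l = 0 := by
  obtain ⟨i, hi⟩ : ∃ i, j = 1 + q * i := ⟨l * j - q, by linear_combination -h⟩
  have h1 : l * (1 + q * i) = q + i := by
    rw [hi] at h
    have h2 : q * (l * (1 + q * i)) = q * (q + i) := by linear_combination h
    exact mul_left_cancel₀ (by linarith) h2
  by_cases h0 : i = 0
  · left
    rw [h0] at h1
    linarith
  by_cases h2 : i = 1
  · right; left
    rw [h2] at h1
    have h3 : (q + 1) * (l - 1) = 0 := by linear_combination h1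
    rcases mul_eq_zero.1 h3 with h4 | h4 <;> linarith
  by_cases h3 : i = -1
  · right; right; left
    rw [h3] at h1
    have h4 : (q - 1) * (l + 1) = 0 := by linear_combination -h1
    rcases mul_eq_zero.1 h4 with h5 | h5 <;> linarith
  right; right; right
  by_contra hl
  have h4 : 2 ≤ i ∨ i ≤ -2 := by omega
  rcases h4 with h4 | h4
  · have hP : 0 < 1 + q * i := by nlinarith
    have h5 : 0 < l := by
      by_contra h6
      push Not at h6
      have h7 := mul_nonpos_of_nonpos_of_nonneg h6 hP.le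
      linarith
    have h6 : 1 * (1 + q * i) ≤ l * (1 + q * i) := mul_le_mul_of_nonneg_right h5 hP.le
    have h7 : 0 < (q - 1) * (i - 1) := mul_pos (by linarith) (by linarith)
    nlinarith
  · have hP : 1 + q * i < 0 := by nlinarith
    have h5 : 1 ≤ l ∨ l ≤ -1 := by omega
    rcases h5 with h5 | h5
    · have h6 : l * (1 + q * i) ≤ 1 * (1 + q * i) := mul_le_mul_of_nonpos_right h5 hP.le
      have h7 : (q - 1) * (i - 1) < 0 := mul_neg_of_pos_of_neg (by linarith) (by linarith)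
      nlinarith
    · have h6 : -1 * (1 + q * i) ≤ l * (1 + q * i) := mul_le_mul_of_nonpos_right h5 hP.le
      have h7 : (q + 1) * (i + 1) < 0 := mul_neg_of_pos_of_neg (by linarith) (by linarith)
      nlinarith

theorem isCoprime_of_prime {p : ℕ} (hp : p.Prime) {a : ℤ} (h : ¬ (p : ℤ) ∣ a) (k : ℕ) :
    IsCoprime ((p : ℤ) ^ k) a :=
  IsCoprime.pow_left ((Nat.prime_iff_prime_int.1 hp).coprime_iff_not_dvd.2 h)

/-- **The numbers of a regular block**: `k = 1`. -/
theorem Num.eq_cube (h : Num q ε n κ f x) (hpp : IsPrimePow q) {a : ℤ}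
    (ha : a * (q : ℤ) ^ 2 * (f - ε * q) ^ 2 =
      (q + ε) * ((ε * q) * (ε * q - 1) * (ε * q + 1) ^ 2 * f * (f - 1))) :
    f = (ε * q) ^ 3 := by
  have hq3 : (3 : ℤ) ≤ q := by exact_mod_cast h.q_ge
  have h8 := h.eight_dvd
  have hprod := h.prod
  have hε2 := eps_sq h.eps
  obtain ⟨p, e, hp', he, hqe⟩ := hpp
  have hp : p.Prime := hp'.nat_prime
  have hpZ : Prime (p : ℤ) := Nat.prime_iff_prime_int.1 hp
  have hqe' : (q : ℤ) = (p : ℤ) ^ e := by rw [← hqe]; push_cast; rfl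
  have hpq : (p : ℤ) ∣ q := by rw [hqe']; exact dvd_pow_self _ he.ne'
  have hp1 : ¬ (p : ℤ) ∣ 1 := fun h1 => hpZ.not_isUnit (isUnit_of_dvd_one h1)
  have hpm : ¬ (p : ℤ) ∣ ε * q - 1 := fun h1 => hp1 (by
    have h2 := dvd_sub (hpq.mul_left ε) h1
    rwa [sub_sub_cancel] at h2)
  have hpp1 : ¬ (p : ℤ) ∣ ε * q + 1 := fun h1 => hp1 (by
    have h2 := dvd_sub h1 (hpq.mul_left ε)
    rwa [add_sub_cancel_left] at h2)
  have hpe : ¬ (p : ℤ) ∣ q + ε := fun h1 => hp1 (by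
    have h2 := (dvd_sub h1 hpq).mul_left ε
    rwa [add_sub_cancel_left, hε2] at h2)
  have hεn : ε ≠ 0 := by
    rintro rfl
    norm_num at hε2
  have hq0 : (q : ℤ) ≠ 0 := by linarith
  by_cases hpf : (p : ℤ) ∣ f
  · have hpf1 : ¬ (p : ℤ) ∣ f - 1 := fun h1 => hp1 (by
      have h2 := dvd_sub hpf h1
      rwa [sub_sub_cancel] at h2)
    -- `q ∣ f`
    have hqf : (q : ℤ) ∣ f := by
      by_contra hcon
      have hfm : FiniteMultiplicity (p : ℤ) f :=
        Int.finiteMultiplicity_iff.2 ⟨by rw [Int.natAbs_natCast]; exact hp.ne_one, h.f_ne_zero⟩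
      obtain ⟨f₀, hff', hf₀⟩ := hfm.exists_eq_pow_mul_and_not_dvd
      obtain ⟨j, hff⟩ : ∃ j : ℕ, f = (p : ℤ) ^ j * f₀ := ⟨_, hff'⟩
      clear hff'
      have hj : j < e := by
        by_contra h1
        apply hcon
        rw [hff, hqe']
        exact (pow_dvd_pow _ (not_lt.1 h1)).mul_right _
      obtain ⟨i, rfl⟩ : ∃ i, e = j + (i + 1) := ⟨e - j - 1, by omega⟩
      have h1 : f - ε * q = (p : ℤ) ^ j * (f₀ - ε * (p : ℤ) ^ (i + 1)) := by
        rw [hff, hqe', pow_add]; ring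
      have h2 : (p : ℤ) ∣ (q + ε) * (ε * (ε * q - 1) * (ε * q + 1) ^ 2 * f₀ * (f - 1)) := by
        have h3 : (p : ℤ) ^ j * (q : ℤ) * (a * q * (p : ℤ) ^ j * (f₀ - ε * (p : ℤ) ^ (i + 1)) ^ 2) =
            (p : ℤ) ^ j * (q : ℤ) *
              ((q + ε) * (ε * (ε * q - 1) * (ε * q + 1) ^ 2 * f₀ * (f - 1))) := by
          rw [h1] at ha
          have h4 : (q + ε) * ((ε * q) * (ε * q - 1) * (ε * q + 1) ^ 2 * f * (f - 1)) =
              (q + ε) * ((ε * q) * (ε * q - 1) * (ε * q + 1) ^ 2 * ((p : ℤ) ^ j * f₀) *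
                (f - 1)) := by rw [← hff]
          rw [h4] at ha
          linear_combination ha
        have h5 := mul_left_cancel₀ (mul_ne_zero (pow_ne_zero j hpZ.ne_zero) hq0) h3
        rw [← h5]
        exact (((hpq.mul_left a).mul_right _).mul_right _)
      rcases hpZ.dvd_or_dvd h2 with h3 | h3
      · exact hpe h3
      rcases hpZ.dvd_or_dvd h3 with h3 | h3
      · rcases hpZ.dvd_or_dvd h3 with h3 | h3
        · rcases hpZ.dvd_or_dvd h3 with h3 | h3
          · rcases hpZ.dvd_or_dvd h3 with h3 | h3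
            · apply hp1
              have := h3.mul_left ε
              rwa [hε2] at this
            · exact hpm h3
          · exact hpp1 (hpZ.dvd_of_dvd_pow h3)
        · exact hf₀ h3
      · exact hpf1 h3
    obtain ⟨f₁, hf₁⟩ := hqf
    have h1 : (q : ℤ) ^ 2 ∣ f₁ := by
      have h2 : (q : ℤ) ^ 2 * (a * (f₁ - ε) ^ 2) =
          f₁ * ((q + ε) * (ε * (ε * q - 1) * (ε * q + 1) ^ 2 * (f - 1))) := by
        have h3 : f - ε * q = q * (f₁ - ε) := by rw [hf₁]; ring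
        rw [h3] at ha
        have h4 : (q + ε) * ((ε * q) * (ε * q - 1) * (ε * q + 1) ^ 2 * f * (f - 1)) =
              (q + ε) * ((ε * q) * (ε * q - 1) * (ε * q + 1) ^ 2 * (q * f₁) *
                (f - 1)) := by rw [← hf₁]
        rw [h4] at ha
        apply mul_left_cancel₀ (pow_ne_zero 2 hq0)
        linear_combination ha
      have h3 : IsCoprime ((q : ℤ) ^ 2)
          ((q + ε) * (ε * (ε * q - 1) * (ε * q + 1) ^ 2 * (f - 1))) := by
        rw [hqe', ← pow_mul, ← hqe']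
        refine isCoprime_of_prime hp ?_ _
        intro h4
        rcases hpZ.dvd_or_dvd h4 with h4 | h4
        · exact hpe h4
        rcases hpZ.dvd_or_dvd h4 with h4 | h4
        · rcases hpZ.dvd_or_dvd h4 with h4 | h4
          · rcases hpZ.dvd_or_dvd h4 with h4 | h4
            · apply hp1
              have := h4.mul_left ε
              rwa [hε2] at this
            · exact hpm h4
          · exact hpp1 (hpZ.dvd_of_dvd_pow h4)
        · exact hpf1 h4
      exact h3.dvd_of_dvd_mul_right ⟨_, h2.symm⟩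
    obtain ⟨l, hl⟩ := h1
    have hfl : f = (q : ℤ) ^ 3 * l := by rw [hf₁, hl]; ring
    have h2 : ((q : ℤ) * l - 1) * (-x - (q : ℤ) ^ 2) = (q : ℤ) ^ 2 - 1 := by
      apply mul_left_cancel₀ (pow_ne_zero 2 hq0)
      rw [hfl] at hprod
      linear_combination hprod
    rcases mul_eq_cases hq3 h2 with h3 | h3 | h3 | h3
    · -- `f = q⁴`
      exfalso
      rw [hfl, h3] at h8
      rcases h.q_cases with ⟨h4, h5⟩ | ⟨h4, h5⟩
      · obtain ⟨c, hc⟩ : ∃ c : ℤ, (q : ℤ) = 4 * c + 3 := ⟨(q : ℤ) / 4, by omega⟩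
        have h6 : (4 : ℤ) ∣ (q : ℤ) ^ 3 * q - ε * q := (by norm_num : (4 : ℤ) ∣ 8).trans h8
        rw [h4, hc] at h6
        have h7 : (4 * c + 3) ^ 3 * (4 * c + 3) - 1 * (4 * c + 3) =
          4 * (64 * c ^ 4 + 192 * c ^ 3 + 216 * c ^ 2 + 107 * c + 19) + 2 := by ring
        rw [h7] at h6
        omega
      · obtain ⟨c, hc⟩ : ∃ c : ℤ, (q : ℤ) = 4 * c + 1 := ⟨(q : ℤ) / 4, by omega⟩
        have h6 : (4 : ℤ) ∣ (q : ℤ) ^ 3 * q - ε * q := (by norm_num : (4 : ℤ) ∣ 8).trans h8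
        rw [h4, hc] at h6
        have h7 : (4 * c + 1) ^ 3 * (4 * c + 1) - -1 * (4 * c + 1) =
          4 * (64 * c ^ 4 + 64 * c ^ 3 + 24 * c ^ 2 + 5 * c) + 2 := by ring
        rw [h7] at h6
        omega
    · rcases h.q_cases with ⟨h4, h5⟩ | ⟨h4, h5⟩
      · rw [hfl, h3, h4]; ring
      · exfalso
        obtain ⟨c, hc⟩ : ∃ c : ℤ, (q : ℤ) = 4 * c + 1 := ⟨(q : ℤ) / 4, by omega⟩
        have h6 : (4 : ℤ) ∣ f - ε * q := (by norm_num : (4 : ℤ) ∣ 8).trans h8
        rw [hfl, h3, h4, hc] at h6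
        have h7 : (4 * c + 1) ^ 3 * 1 - -1 * (4 * c + 1) =
          4 * (16 * c ^ 3 + 12 * c ^ 2 + 4 * c) + 2 := by ring
        rw [h7] at h6
        omega
    · rcases h.q_cases with ⟨h4, h5⟩ | ⟨h4, h5⟩
      · exfalso
        obtain ⟨c, hc⟩ : ∃ c : ℤ, (q : ℤ) = 4 * c + 3 := ⟨(q : ℤ) / 4, by omega⟩
        have h6 : (4 : ℤ) ∣ f - ε * q := (by norm_num : (4 : ℤ) ∣ 8).trans h8
        rw [hfl, h3, h4, hc] at h6
        have h7 : (4 * c + 3) ^ 3 * -1 - 1 * (4 * c + 3) =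
          4 * (-16 * c ^ 3 - 36 * c ^ 2 - 28 * c - 8) + 2 := by ring
        rw [h7] at h6
        omega
      · rw [hfl, h3, h4]; ring
    · exfalso
      apply h.f_ne_zero
      rw [hfl, h3, mul_zero]
  · -- `p ∤ f`
    have hpfq : ¬ (p : ℤ) ∣ f - ε * q := fun h1 => hpf (by
      have h2 := dvd_add h1 (hpq.mul_left ε)
      rwa [sub_add_cancel] at h2)
    have h1 : (q : ℤ) ∣ f - 1 := by
      have h2 : (q : ℤ) * (a * (f - ε * q) ^ 2) =
          (f - 1) * ((q + ε) * (ε * (ε * q - 1) * (ε * q + 1) ^ 2 * f)) := by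
        apply mul_left_cancel₀ hq0
        linear_combination ha
      have h3 : IsCoprime (q : ℤ) ((q + ε) * (ε * (ε * q - 1) * (ε * q + 1) ^ 2 * f)) := by
        rw [hqe', ← hqe']
        have h4 : IsCoprime ((p : ℤ) ^ e) ((q + ε) * (ε * (ε * q - 1) * (ε * q + 1) ^ 2 * f)) := by
          refine isCoprime_of_prime hp ?_ _
          intro h4
          rcases hpZ.dvd_or_dvd h4 with h4 | h4
          · exact hpe h4
          rcases hpZ.dvd_or_dvd h4 with h4 | h4
          · rcases hpZ.dvd_or_dvd h4 with h4 | h4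
            · rcases hpZ.dvd_or_dvd h4 with h4 | h4
              · apply hp1
                have := h4.mul_left ε
                rwa [hε2] at this
              · exact hpm h4
            · exact hpp1 (hpZ.dvd_of_dvd_pow h4)
          · exact hpf h4
        rwa [← hqe'] at h4
      exact h3.dvd_of_dvd_mul_right ⟨_, h2.symm⟩
    obtain ⟨l', hl'⟩ := h1
    -- `q² ∣ d₃`
    have h2 : (q : ℤ) ^ 2 ∣ -x - (q : ℤ) ^ 2 := by
      have h3 : IsCoprime ((q : ℤ) ^ 2) (f - (q : ℤ) ^ 2) := by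
        have h4 : IsCoprime ((p : ℤ) ^ (e * 2)) (f - (q : ℤ) ^ 2) := by
          refine isCoprime_of_prime hp ?_ _
          intro h5
          apply hpf
          have h6 := dvd_add h5 (hpq.trans (dvd_pow_self (q : ℤ) two_ne_zero))
          rwa [sub_add_cancel] at h6
        rwa [pow_mul, ← hqe'] at h4
      exact h3.dvd_of_dvd_mul_left ⟨_, hprod⟩
    obtain ⟨j, hj⟩ := h2
    have h3 : (f - (q : ℤ) ^ 2) * j = (q : ℤ) ^ 2 - 1 := by
      apply mul_left_cancel₀ (pow_ne_zero 2 hq0)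
      rw [hj] at hprod
      linear_combination hprod
    set i : ℤ := l' - q with hi
    have h4 : f - (q : ℤ) ^ 2 = 1 + q * i := by rw [hi]; linear_combination hl'
    rw [h4] at h3
    obtain ⟨l, hl⟩ : ∃ l, j = q * l - 1 := ⟨q - i * j, by linear_combination h3⟩
    have h5 : ((q : ℤ) * l - 1) * (1 + q * i) = (q : ℤ) ^ 2 - 1 := by
      rw [← hl, mul_comm]; exact h3
    have hd : f - (q : ℤ) ^ 2 = 1 ∨ f - (q : ℤ) ^ 2 = q + 1 ∨ f - (q : ℤ) ^ 2 = 1 - q ∨
        f - (q : ℤ) ^ 2 = 1 - (q : ℤ) ^ 2 := by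
      rw [h4]
      rcases mul_eq_cases hq3 h5 with h6 | h6 | h6 | h6
      · left
        have h7 : ((q : ℤ) ^ 2 - 1) * (1 + q * i - 1) = 0 := by
          rw [h6] at h5; linear_combination h5
        rcases mul_eq_zero.1 h7 with h8 | h8
        · nlinarith
        · linarith
      · right; left
        have h7 : ((q : ℤ) - 1) * (1 + q * i - (q + 1)) = 0 := by
          rw [h6] at h5; linear_combination h5
        rcases mul_eq_zero.1 h7 with h8 | h8
        · linarith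
        · linarith
      · right; right; left
        have h7 : ((q : ℤ) + 1) * (1 + q * i - (1 - q)) = 0 := by
          rw [h6] at h5; linear_combination -h5
        rcases mul_eq_zero.1 h7 with h8 | h8
        · linarith
        · linarith
      · right; right; right
        rw [h6] at h5; linear_combination -h5
    exfalso
    rcases h.q_cases with ⟨hε, h5'⟩ | ⟨hε, h5'⟩
    · obtain ⟨c, hc⟩ : ∃ c : ℤ, (q : ℤ) = 4 * c + 3 := ⟨(q : ℤ) / 4, by omega⟩
      have h6 : (4 : ℤ) ∣ f - ε * q := (by norm_num : (4 : ℤ) ∣ 8).trans h8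
      rcases hd with h7 | h7 | h7 | h7
      · have h9 : f - ε * q = 4 * (4 * c ^ 2 + 5 * c + 1) + 3 := by
          have : f = 1 + (q : ℤ) ^ 2 := by linear_combination h7
          rw [this, hε, hc]; ring
        omega
      · have h9 : f - ε * q = 4 * (4 * c ^ 2 + 6 * c + 2) + 2 := by
          have : f = (q : ℤ) + 1 + (q : ℤ) ^ 2 := by linear_combination h7
          rw [this, hε, hc]; ring
        omega
      · have h9 : f - ε * q = 8 * (2 * c ^ 2 + 2 * c) + 4 := by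
          have : f = 1 - (q : ℤ) + (q : ℤ) ^ 2 := by linear_combination h7
          rw [this, hε, hc]; ring
        omega
      · exact h.f_ne_one (by linear_combination h7)
    · obtain ⟨c, hc⟩ : ∃ c : ℤ, (q : ℤ) = 4 * c + 1 := ⟨(q : ℤ) / 4, by omega⟩
      have h6 : (4 : ℤ) ∣ f - ε * q := (by norm_num : (4 : ℤ) ∣ 8).trans h8
      rcases hd with h7 | h7 | h7 | h7
      · have h9 : f - ε * q = 4 * (4 * c ^ 2 + 3 * c) + 3 := by
          have : f = 1 + (q : ℤ) ^ 2 := by linear_combination h7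
          rw [this, hε, hc]; ring
        omega
      · have h9 : f - ε * q = 8 * (2 * c ^ 2 + 2 * c) + 4 := by
          have : f = (q : ℤ) + 1 + (q : ℤ) ^ 2 := by linear_combination h7
          rw [this, hε, hc]; ring
        omega
      · have h9 : f - ε * q = 4 * (4 * c ^ 2 + 2 * c) + 2 := by
          have : f = 1 - (q : ℤ) + (q : ℤ) ^ 2 := by linear_combination h7
          rw [this, hε, hc]; ring
        omega
      · exact h.f_ne_one (by linear_combination h7)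

end

end Cfsg.Agent.Classification.QDW.NumBridge
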