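import Mathlib
import Cfsg.Agent.Classification.QDW.NumBridge

/-!
# The numbers of the `L1`-lemma (quasi-dihedral case)

`Q = ± q`. The principal 2-block has the signed degrees `1, f, -1-x, x, 1-f+x`; a family of
characters twisted by a fusion invariant linear character of odd order has the signed degrees
`a, b, x₃, x₄, x₅` satisfying the same relations. If `|f - Q| ≥ 2 (q - 1)` and `q ≥ 25` this
contradicts `|a| ≥ 15`, `|x₅| ≥ 7`.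

* `core`: the inequality;
* `false_of_phi`: class formula of `1 - X₂ + L`;
* `false_of_psi`: class formula of `1 + X₃ + X₄`;
* `bounds_of_congr`: the bounds from the congruences modulo `2 ^ n`, `n ≥ 4`.
-/

set_option autoImplicit false

namespace Cfsg.Agent.Classification.QDW.FieldNum

/-- `(A + B)² ≤ 5/2 A² + 5/3 B²`. -/
theorem sq_add_le (A B : ℚ) : (A + B) ^ 2 ≤ 5 / 2 * A ^ 2 + 5 / 3 * B ^ 2 := by
  nlinarith [sq_nonneg (3 * A - 2 * B)]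

theorem abs_mul_le {a w n c : ℚ} (h : a * w = n) (hn : 0 ≤ n) (hc : 0 ≤ c) (ha : c ≤ |a|) :
    c * w ≤ n := by
  have h1 : |a| * |w| = n := by rw [← abs_mul, h, abs_of_nonneg hn]
  have h2 : c * |w| ≤ |a| * |w| := mul_le_mul_of_nonneg_right ha (abs_nonneg _)
  have h3 : c * w ≤ c * |w| := mul_le_mul_of_nonneg_left (le_abs_self _) hc
  linarith

/-- **The inequality.** -/
theorem core {q Q v v' k a y : ℚ} (hq : 25 ≤ q) (hQ : Q = q ∨ Q = -q)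
    (hv : v + v' = Q ^ 2 - 1) (hk : |k| ≤ q * (q + 1) / 2)
    (h1 : a * (v * (v + Q + 1)) = (Q ^ 2 - 1 + k) * (Q ^ 2 + Q + k))
    (h2 : y * (v' * (v' + Q + 1)) = (Q ^ 2 - 1 + k) * (Q ^ 2 + Q + k))
    (ha : 15 ≤ |a|) (hy : 7 ≤ |y|) : False := by
  have hQ2 : Q ^ 2 = q ^ 2 := by rcases hQ with rfl | rfl <;> ring
  have hQge : -q ≤ Q := by rcases hQ with rfl | rfl <;> linarith
  obtain ⟨hk1, hk2⟩ := abs_le.1 hk
  set K : ℚ := q * (q + 1) / 2 with hK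
  have hf1 : 0 ≤ Q ^ 2 - 1 + k := by
    rw [hQ2]
    nlinarith
  have hf2 : 0 ≤ Q ^ 2 + Q + k := by
    rw [hQ2]
    nlinarith
  set n : ℚ := (Q ^ 2 - 1 + k) * (Q ^ 2 + Q + k) with hn
  have hn0 : 0 ≤ n := mul_nonneg hf1 hf2
  have hnle : n ≤ (Q ^ 2 - 1 + K) * (Q ^ 2 + Q + K) := by
    rw [hn]
    refine mul_le_mul (by linarith) (by linarith) hf2 (by linarith)
  have e1 := abs_mul_le h1 hn0 (by norm_num) ha
  have e2 := abs_mul_le h2 hn0 (by norm_num) hy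
  have e3 := sq_add_le (v + (Q + 1) / 2) (v' + (Q + 1) / 2)
  have e4 : v + (Q + 1) / 2 + (v' + (Q + 1) / 2) = Q ^ 2 + Q := by linarith
  rw [e4] at e3
  have e5 : (v + (Q + 1) / 2) ^ 2 = v * (v + Q + 1) + (Q + 1) ^ 2 / 4 := by ring
  have e6 : (v' + (Q + 1) / 2) ^ 2 = v' * (v' + Q + 1) + (Q + 1) ^ 2 / 4 := by ring
  rw [e5, e6] at e3
  have e7 : (Q ^ 2 + Q) ^ 2 ≤ 17 / 42 * n + 25 / 24 * (Q + 1) ^ 2 := by linarith
  have e8 : (Q ^ 2 + Q) ^ 2 ≤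
      17 / 42 * ((Q ^ 2 - 1 + K) * (Q ^ 2 + Q + K)) + 25 / 24 * (Q + 1) ^ 2 := by linarith
  obtain ⟨s, hs⟩ : ∃ s, q = 25 + s := ⟨q - 25, by ring⟩
  have hs0 : 0 ≤ s := by linarith
  have hs2 : 0 ≤ s ^ 2 := by positivity
  have hs3 : 0 ≤ s ^ 3 := by positivity
  have hs4 : 0 ≤ s ^ 4 := by positivity
  rcases hQ with rfl | rfl
  · rw [hK, hs] at e8
    ring_nf at e8
    linarith
  · rw [hK, hs] at e8
    ring_nf at e8
    linarith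

/-- `k = Q (Q² - 1) / (f - Q)` satisfies `|k| ≤ q (q + 1) / 2` if `|f - Q| ≥ 2 (q - 1)`. -/
theorem abs_k_le {q Q f : ℚ} (hq : 25 ≤ q) (hQ : Q = q ∨ Q = -q) (hf : 2 * (q - 1) ≤ |f - Q|) :
    |Q * (Q ^ 2 - 1) / (f - Q)| ≤ q * (q + 1) / 2 := by
  have hQa : |Q| = q := by
    rcases hQ with rfl | rfl
    · exact abs_of_nonneg (by linarith)
    · rw [abs_neg]; exact abs_of_nonneg (by linarith)
  have hQ2 : Q ^ 2 = q ^ 2 := by rcases hQ with rfl | rfl <;> ring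
  have hpos : 0 < |f - Q| := by linarith
  have h1 : 0 ≤ q ^ 2 - 1 := by nlinarith
  rw [abs_div, abs_mul, hQa, hQ2, abs_of_nonneg h1, div_le_iff₀ hpos]
  have h2 : q * (q + 1) / 2 * (2 * (q - 1)) ≤ q * (q + 1) / 2 * |f - Q| :=
    mul_le_mul_of_nonneg_left hf (by positivity)
  linarith

/-- **Contradiction, from the class formula of `1 - X₂ + L`** (rational numbers). -/
theorem false_of_phi' {q Q f a b x₄ x₅ : ℚ} (hq : 25 ≤ q) (hQ : Q = q ∨ Q = -q)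
    (hf : 2 * (q - 1) ≤ |f - Q|) (hf0 : f ≠ 0) (hf1 : f ≠ 1) (ha0 : a ≠ 0) (hb0 : b ≠ 0)
    (hba : b ≠ a)
    (hA : (b - Q * a) ^ 2 * (f * (f - 1)) = (f - Q) ^ 2 * (a * b * (b - a)))
    (hS : a - b + x₄ - x₅ = 0) (hB : b * x₄ = Q ^ 2 * a * x₅)
    (ha : 15 ≤ |a|) (hy : 7 ≤ |x₅|) : False := by
  have hfQ : f - Q ≠ 0 := by
    intro h
    rw [h, abs_zero] at hf
    linarith
  have hbQ : b - Q * a ≠ 0 := by
    intro h
    rw [h] at hA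
    have h1 : (f - Q) ^ 2 * (a * b * (b - a)) ≠ 0 :=
      mul_ne_zero (pow_ne_zero _ hfQ) (mul_ne_zero (mul_ne_zero ha0 hb0) (sub_ne_zero.2 hba))
    exact h1 (by rw [← hA]; ring)
  have hff : f * (f - 1) ≠ 0 := mul_ne_zero hf0 (sub_ne_zero.2 hf1)
  have hB' : x₅ * (Q ^ 2 * a - b) = b * (b - a) := by
    have h1 : x₄ = x₅ + b - a := by linarith
    rw [h1] at hB
    linarith
  have h0 : (Q ^ 2 - 1 + Q * (Q ^ 2 - 1) / (f - Q)) * (Q ^ 2 + Q + Q * (Q ^ 2 - 1) / (f - Q)) =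
      f * (f - 1) * (Q * (Q - 1) * (Q + 1) ^ 2) / (f - Q) ^ 2 := by
    field_simp
    ring
  have h1 : a * b * (b - a) / (b - Q * a) ^ 2 = f * (f - 1) / (f - Q) ^ 2 := by
    rw [div_eq_div_iff (pow_ne_zero _ hbQ) (pow_ne_zero _ hfQ)]
    linarith
  refine core (v := b * (Q ^ 2 - 1) / (b - Q * a)) (v' := -(Q * a * (Q ^ 2 - 1)) / (b - Q * a))
    (k := Q * (Q ^ 2 - 1) / (f - Q)) (a := a) (y := x₅) hq hQ ?_ (abs_k_le hq hQ hf) ?_ ?_ ha hy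
  · field_simp
    ring
  · rw [h0]
    have h2 : f * (f - 1) * (Q * (Q - 1) * (Q + 1) ^ 2) / (f - Q) ^ 2 =
        (f * (f - 1) / (f - Q) ^ 2) * (Q * (Q - 1) * (Q + 1) ^ 2) := by ring
    rw [h2, ← h1]
    have h3 : b * (Q ^ 2 - 1) / (b - Q * a) + Q + 1 = Q * (Q + 1) * (b - a) / (b - Q * a) := by
      rw [eq_div_iff hbQ, add_mul, add_mul, div_mul_cancel₀ _ hbQ]
      ring
    rw [h3, div_mul_div_comm, ← sq, ← mul_div_assoc, div_mul_eq_mul_div]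
    congr 1
    ring
  · rw [h0]
    have h2 : f * (f - 1) * (Q * (Q - 1) * (Q + 1) ^ 2) / (f - Q) ^ 2 =
        (f * (f - 1) / (f - Q) ^ 2) * (Q * (Q - 1) * (Q + 1) ^ 2) := by ring
    rw [h2, ← h1]
    have h3 : a * b * (b - a) = a * (x₅ * (Q ^ 2 * a - b)) := by rw [hB']; ring
    rw [h3]
    field_simp
    ring

/-- The relation `b x₄ = Q² a x₅` from the class formula of `1 - X₂ + X₄ - X₅`. -/
theorem rel_of_S {Q a b x₄ x₅ : ℚ} (ha0 : a ≠ 0) (hb0 : b ≠ 0) (h40 : x₄ ≠ 0) (h50 : x₅ ≠ 0)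
    (hax : a ≠ x₅) (hS : a - b + x₄ - x₅ = 0)
    (hC : 1 / a - Q ^ 2 / b + Q ^ 2 / x₄ - 1 / x₅ = 0) : b * x₄ = Q ^ 2 * a * x₅ := by
  have h1 : 1 / a - 1 / x₅ = Q ^ 2 * (1 / b - 1 / x₄) := by
    have : 1 / a - 1 / x₅ = (1 / a - Q ^ 2 / b + Q ^ 2 / x₄ - 1 / x₅) +
      Q ^ 2 * (1 / b - 1 / x₄) := by ring
    rw [this, hC, zero_add]
  have h2 : x₄ - b = x₅ - a := by linarith
  have h3 : 1 / a - 1 / x₅ = (x₅ - a) / (a * x₅) := by field_simp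
  have h4 : 1 / b - 1 / x₄ = (x₅ - a) / (b * x₄) := by
    rw [← h2]; field_simp
  rw [h3, h4, ← mul_div_assoc, div_eq_div_iff (mul_ne_zero ha0 h50) (mul_ne_zero hb0 h40)] at h1
  have h5 : (x₅ - a) * (b * x₄) = (x₅ - a) * (Q ^ 2 * a * x₅) := by linarith
  exact mul_left_cancel₀ (sub_ne_zero.2 hax.symm) h5

/-- The class formula of `1 - X₂ + L` from that of `1 + X₃ + X₄`. -/
theorem phi_of_psi {Q f x a b x₄ x₅ C : ℚ} (hQ0 : Q ≠ 0) (hQ1 : Q ≠ -1) (hx0 : x ≠ 0)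
    (hx1 : x ≠ -1) (ha0 : a ≠ 0) (h40 : x₄ ≠ 0) (h3 : a + x₄ ≠ 0)
    (hxB : x * (f - Q ^ 2) = -Q ^ 2 * (f - 1)) (hS : a - b + x₄ - x₅ = 0)
    (hB : b * x₄ = Q ^ 2 * a * x₅) (h0 : 1 - (Q + 1) ^ 2 / (1 + x) + Q ^ 2 / x = C)
    (h1 : 1 / a - (Q + 1) ^ 2 / (a + x₄) + Q ^ 2 / x₄ = C) :
    (b - Q * a) ^ 2 * (f * (f - 1)) = (f - Q) ^ 2 * (a * b * (b - a)) := by
  have hx1' : 1 + x ≠ 0 := by
    intro h
    exact hx1 (by linarith)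
  have hQ1' : Q + 1 ≠ 0 := by
    intro h
    exact hQ1 (by linarith)
  have e0 : C * (x * (1 + x)) = (x - Q) ^ 2 := by
    rw [← h0]
    field_simp
    ring
  have e1 : C * (a * x₄ * (a + x₄)) = (x₄ - Q * a) ^ 2 := by
    rw [← h1]
    field_simp
    ring
  -- `f (x + Q²) = Q² (1 + x)`, `b (x₄ + Q² a) = Q² a (a + x₄)`
  have e2 : f * (x + Q ^ 2) = Q ^ 2 * (1 + x) := by linarith
  have e3 : b * (x₄ + Q ^ 2 * a) = Q ^ 2 * a * (a + x₄) := by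
    have h5 : x₅ = a - b + x₄ := by linarith
    rw [h5] at hB
    linarith
  have hx2 : x + Q ^ 2 ≠ 0 := by
    intro h
    rw [h, mul_zero] at e2
    exact mul_ne_zero (pow_ne_zero 2 hQ0) hx1' e2.symm
  have hx4 : x₄ + Q ^ 2 * a ≠ 0 := by
    intro h
    rw [h, mul_zero] at e3
    exact mul_ne_zero (mul_ne_zero (pow_ne_zero 2 hQ0) ha0) h3 e3.symm
  have f1 : f = Q ^ 2 * (1 + x) / (x + Q ^ 2) := by rw [eq_div_iff hx2]; exact e2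
  have f2 : b = Q ^ 2 * a * (a + x₄) / (x₄ + Q ^ 2 * a) := by rw [eq_div_iff hx4]; exact e3
  have g1 : f - 1 = x * (Q ^ 2 - 1) / (x + Q ^ 2) := by rw [f1]; field_simp; ring
  have g2 : b - a = a * x₄ * (Q ^ 2 - 1) / (x₄ + Q ^ 2 * a) := by rw [f2]; field_simp; ring
  have g3 : f - Q = Q * (Q - 1) * (x - Q) / (x + Q ^ 2) := by rw [f1]; field_simp; ring
  have g4 : b - Q * a = Q * a * (Q - 1) * (x₄ - Q * a) / (x₄ + Q ^ 2 * a) := by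
    rw [f2]; field_simp; ring
  rw [g4, g1, g3, g2, f1, f2]
  have k1 : (Q * a * (Q - 1) * (x₄ - Q * a) / (x₄ + Q ^ 2 * a)) ^ 2 *
      (Q ^ 2 * (1 + x) / (x + Q ^ 2) * (x * (Q ^ 2 - 1) / (x + Q ^ 2))) =
      (x₄ - Q * a) ^ 2 * (x * (1 + x)) * (Q ^ 4 * a ^ 2 * (Q - 1) ^ 2 * (Q ^ 2 - 1) /
        ((x₄ + Q ^ 2 * a) ^ 2 * (x + Q ^ 2) ^ 2)) := by
    field_simp
  have k2 : (Q * (Q - 1) * (x - Q) / (x + Q ^ 2)) ^ 2 *
      (a * (Q ^ 2 * a * (a + x₄) / (x₄ + Q ^ 2 * a)) * (a * x₄ * (Q ^ 2 - 1) / (x₄ + Q ^ 2 * a))) =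
      (x - Q) ^ 2 * (a * x₄ * (a + x₄)) * (Q ^ 4 * a ^ 2 * (Q - 1) ^ 2 * (Q ^ 2 - 1) /
        ((x₄ + Q ^ 2 * a) ^ 2 * (x + Q ^ 2) ^ 2)) := by
    field_simp
  rw [k1, k2, ← e0, ← e1]
  ring

/-- The bounds from the congruences. -/
theorem bounds_of_congr {n : ℕ} (hn : 4 ≤ n) {a y : ℤ} (ha : (2 : ℤ) ^ n ∣ a - 1) (ha1 : a ≠ 1)
    (hy : (2 : ℤ) ^ n ∣ y - 1 + 2 ^ (n - 1)) : 15 ≤ |a| ∧ 7 ≤ |y| ∧ a ≠ y := by
  obtain ⟨m, rfl⟩ : ∃ m, n = m + 4 := ⟨n - 4, by omega⟩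
  have h1 : (2 : ℤ) ^ (m + 4) = 16 * 2 ^ m := by ring
  have h2 : (2 : ℤ) ^ (m + 4 - 1) = 8 * 2 ^ m := by
    rw [show m + 4 - 1 = m + 3 by omega]; ring
  have h3 : (1 : ℤ) ≤ 2 ^ m := one_le_pow₀ (by norm_num)
  rw [h1] at ha hy
  rw [h2] at hy
  obtain ⟨c, hc⟩ := ha
  obtain ⟨d, hd⟩ := hy
  set p : ℤ := 2 ^ m with hp
  refine ⟨?_, ?_, ?_⟩
  · have hc0 : c ≠ 0 := by
      rintro rfl
      apply ha1
      linarith
    rcases lt_or_gt_of_ne hc0 with h | h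
    · rw [le_abs]
      right
      nlinarith
    · rw [le_abs]
      left
      nlinarith
  · rcases lt_or_ge 0 d with h | h
    · rw [le_abs]
      left
      nlinarith
    · rw [le_abs]
      right
      nlinarith
  · rintro rfl
    have h4 : p * (16 * d - 16 * c - 8) = 0 := by linarith
    rcases mul_eq_zero.1 h4 with h5 | h5
    · omega
    · omega

/-- **Contradiction, from the class formula of `1 - X₂ + L`.** `e = Q = ± q`, `N = |G : C(t)|`. -/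
theorem false_of_phi {q Q f : ℤ} (hq : 25 ≤ q) (hQ : Q = q ∨ Q = -q)
    (hf : 2 * (q - 1) ≤ |f - Q|) (hf0 : f ≠ 0) (hf1 : f ≠ 1) {N κ : ℤ} (hN : N ≠ 0)
    (hA₀ : N * (f - Q) ^ 2 = κ ^ 2 * (Q * (Q - 1) * (Q + 1) ^ 2 * f * (f - 1)))
    {n : ℕ} (hn : 4 ≤ n) {a b x₄ x₅ : ℤ} (ha0 : a ≠ 0) (hb0 : b ≠ 0) (hba : b ≠ a)
    (h40 : x₄ ≠ 0) (h50 : x₅ ≠ 0)
    (hA : N * (b - Q * a) ^ 2 = κ ^ 2 * (Q * (Q - 1) * (Q + 1) ^ 2 * (a * b * (b - a))))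
    (hS : a - b + x₄ - x₅ = 0)
    (hC : (1 : ℚ) / a - (Q : ℚ) ^ 2 / b + (Q : ℚ) ^ 2 / x₄ - 1 / x₅ = 0)
    (ha : (2 : ℤ) ^ n ∣ a - 1) (ha1 : a ≠ 1) (hy : (2 : ℤ) ^ n ∣ x₅ - 1 + 2 ^ (n - 1)) :
    False := by
  obtain ⟨b1, b2, b3⟩ := bounds_of_congr hn ha ha1 hy
  have hκ : κ ^ 2 * (Q * (Q - 1) * (Q + 1) ^ 2) ≠ 0 := by
    intro h
    have h1 : N * (f - Q) ^ 2 = 0 := by
      rw [hA₀]
      linear_combination (f * (f - 1)) * h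
    rcases mul_eq_zero.1 h1 with h2 | h2
    · exact hN h2
    · have h3 : f - Q = 0 := by
        exact pow_eq_zero_iff (two_ne_zero) |>.1 h2
      rw [h3, abs_zero] at hf
      omega
  have hA' : (b - Q * a) ^ 2 * (f * (f - 1)) = (f - Q) ^ 2 * (a * b * (b - a)) := by
    have h1 : κ ^ 2 * (Q * (Q - 1) * (Q + 1) ^ 2) * ((b - Q * a) ^ 2 * (f * (f - 1))) =
        κ ^ 2 * (Q * (Q - 1) * (Q + 1) ^ 2) * ((f - Q) ^ 2 * (a * b * (b - a))) := by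
      linear_combination (f - Q) ^ 2 * hA - (b - Q * a) ^ 2 * hA₀
    exact mul_left_cancel₀ hκ h1
  refine false_of_phi' (q := q) (Q := Q) (f := f) (a := a) (b := b) (x₄ := x₄) (x₅ := x₅)
    (by exact_mod_cast hq) (by
      rcases hQ with h | h
      · left; exact_mod_cast h
      · right; exact_mod_cast h) (by exact_mod_cast hf) (by exact_mod_cast hf0)
    (by exact_mod_cast hf1) (by exact_mod_cast ha0) (by exact_mod_cast hb0)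
    (by exact_mod_cast hba) (by exact_mod_cast hA') (by exact_mod_cast hS) ?_
    (by exact_mod_cast b1) (by exact_mod_cast b2)
  exact rel_of_S (by exact_mod_cast ha0) (by exact_mod_cast hb0) (by exact_mod_cast h40)
    (by exact_mod_cast h50) (by exact_mod_cast b3) (by exact_mod_cast hS) hC

/-- **Contradiction, from the class formula of `1 + X₃ + X₄`.** -/
theorem false_of_psi {q Q f x : ℤ} (hq : 25 ≤ q) (hQ : Q = q ∨ Q = -q)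
    (hf : 2 * (q - 1) ≤ |f - Q|) (hf0 : f ≠ 0) (hf1 : f ≠ 1) (hx0 : x ≠ 0) (hx1 : x ≠ -1)
    (hxB : x * (f - Q ^ 2) = -Q ^ 2 * (f - 1))
    {n : ℕ} (hn : 4 ≤ n) {a b x₃ x₄ x₅ : ℤ} (ha0 : a ≠ 0) (hb0 : b ≠ 0) (h30 : x₃ ≠ 0)
    (h40 : x₄ ≠ 0) (h50 : x₅ ≠ 0)
    (hP₁ : a + x₃ + x₄ = 0)
    (hP : (1 : ℚ) / a + ((Q : ℚ) + 1) ^ 2 / x₃ + (Q : ℚ) ^ 2 / x₄ =
      1 + ((Q : ℚ) + 1) ^ 2 / (-1 - x) + (Q : ℚ) ^ 2 / x)
    (hS : a - b + x₄ - x₅ = 0)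
    (hC : (1 : ℚ) / a - (Q : ℚ) ^ 2 / b + (Q : ℚ) ^ 2 / x₄ - 1 / x₅ = 0)
    (ha : (2 : ℤ) ^ n ∣ a - 1) (ha1 : a ≠ 1) (hy : (2 : ℤ) ^ n ∣ x₅ - 1 + 2 ^ (n - 1)) :
    False := by
  obtain ⟨b1, b2, b3⟩ := bounds_of_congr hn ha ha1 hy
  have hba : b ≠ a := by
    intro h
    have h1 : x₄ = x₅ := by linarith
    have h2 := hC
    rw [h, h1] at h2
    have ha0' : (a : ℚ) ≠ 0 := by exact_mod_cast ha0
    have h50' : (x₅ : ℚ) ≠ 0 := by exact_mod_cast h50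
    have h3 : (1 - (Q : ℚ) ^ 2) * ((x₅ : ℚ) - a) = 0 := by
      have h4 : (1 : ℚ) / a - (Q : ℚ) ^ 2 / a + (Q : ℚ) ^ 2 / x₅ - 1 / x₅ =
        (1 - (Q : ℚ) ^ 2) * ((x₅ : ℚ) - a) / (a * x₅) := by
        field_simp
        ring
      rw [h4, div_eq_zero_iff] at h2
      rcases h2 with h2 | h2
      · exact h2
      · exact absurd h2 (mul_ne_zero ha0' h50')
    rcases mul_eq_zero.1 h3 with h4 | h4
    · have h5 : (1 : ℤ) - Q ^ 2 = 0 := by exact_mod_cast h4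
      have h6 : Q ^ 2 = q ^ 2 := by rcases hQ with rfl | rfl <;> ring
      rw [h6] at h5
      nlinarith
    · apply b3
      have : (a : ℚ) = x₅ := by linarith
      exact_mod_cast this
  have hQ0 : Q ≠ 0 := by
    intro h
    rcases hQ with h' | h' <;> omega
  have hQ1 : Q ≠ -1 := by
    intro h
    rcases hQ with h' | h' <;> omega
  have hB := rel_of_S (Q := Q) (a := a) (b := b) (x₄ := x₄) (x₅ := x₅)
    (by exact_mod_cast ha0) (by exact_mod_cast hb0) (by exact_mod_cast h40)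
    (by exact_mod_cast h50) (by exact_mod_cast b3) (by exact_mod_cast hS) hC
  have h3 : a + x₄ ≠ 0 := by
    intro h
    apply h30
    linarith
  have h3' : (x₃ : ℚ) = -(a + x₄) := by
    have : x₃ = -(a + x₄) := by linarith
    rw [this]
    push_cast
    ring
  have hA' := phi_of_psi (Q := Q) (f := f) (x := x) (a := a) (b := b) (x₄ := x₄) (x₅ := x₅)
    (C := 1 - ((Q : ℚ) + 1) ^ 2 / (1 + x) + (Q : ℚ) ^ 2 / x)
    (by exact_mod_cast hQ0) (by exact_mod_cast hQ1) (by exact_mod_cast hx0)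
    (by exact_mod_cast hx1) (by exact_mod_cast ha0) (by exact_mod_cast h40)
    (by exact_mod_cast h3) (by exact_mod_cast hxB) (by exact_mod_cast hS) hB rfl (by
      rw [h3'] at hP
      have e1 : ((Q : ℚ) + 1) ^ 2 / (-(a + x₄)) = -(((Q : ℚ) + 1) ^ 2 / (a + x₄)) := by
        rw [div_neg]
      have e2 : ((Q : ℚ) + 1) ^ 2 / (-1 - x) = -(((Q : ℚ) + 1) ^ 2 / (1 + x)) := by
        rw [show (-1 - (x : ℚ)) = -(1 + x) by ring, div_neg]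
      rw [e1, e2] at hP
      linarith)
  exact false_of_phi' (q := q) (Q := Q) (f := f) (a := a) (b := b) (x₄ := x₄) (x₅ := x₅)
    (by exact_mod_cast hq) (by
      rcases hQ with h | h
      · left; exact_mod_cast h
      · right; exact_mod_cast h) (by exact_mod_cast hf) (by exact_mod_cast hf0)
    (by exact_mod_cast hf1) (by exact_mod_cast ha0) (by exact_mod_cast hb0)
    (by exact_mod_cast hba) hA' (by exact_mod_cast hS) hB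
    (by exact_mod_cast b1) (by exact_mod_cast b2)

open Cfsg.Agent.Classification.QDW.NumBridge in
/-- The congruence of the last degree. -/
theorem congr_five {q : ℕ} {ε n κ f x : ℤ} (h : Num q ε n κ f x) {a : ℕ}
    (ha : (2 : ℤ) ^ a ∣ ε * q + 1) (ha' : ¬ (2 : ℤ) ^ (a + 1) ∣ ε * q + 1) {y : ℤ}
    (hy : (2 : ℤ) ^ (a + 2) ∣ y - (1 - f + x)) :
    (2 : ℤ) ^ (a + 2) ∣ y - 1 + 2 ^ (a + 2 - 1) := by
  have h2 := h.dvd_slack₂ ha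
  have h3 := h.dvd_slack₃ ha
  have hsq := h.sq
  obtain ⟨v, hv⟩ := ha
  have hvodd : ¬ 2 ∣ v := by
    rintro ⟨c, rfl⟩
    exact ha' ⟨c, by rw [hv, pow_succ]; ring⟩
  have hQ : (ε * q) % 4 = 3 := by have := h.mod_q; omega
  -- `2 Q v + 2 = 4 j`
  obtain ⟨j, hj⟩ : ∃ j : ℤ, ε * q * v + 1 = 2 * j := by
    obtain ⟨c, hc⟩ : ∃ c : ℤ, ε * q = 2 * c + 1 := ⟨(ε * q) / 2, by omega⟩
    obtain ⟨d, hd⟩ : ∃ d : ℤ, v = 2 * d + 1 := ⟨v / 2, by omega⟩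
    exact ⟨2 * c * d + c + d + 1, by rw [hc, hd]; ring⟩
  have e1 : y - 1 + 2 ^ (a + 2 - 1) = (y - (1 - f + x)) - (f - ε * q - ((q : ℤ) ^ 2 - 1)) -
      (-x - ε * q - 2 - ((q : ℤ) ^ 2 - 1)) - 2 ^ (a + 2) * (j - 1) := by
    have e2 : (2 : ℤ) ^ (a + 2 - 1) = 2 * 2 ^ a := by
      rw [show a + 2 - 1 = a + 1 by omega, pow_succ]; ring
    have e3 : (2 : ℤ) ^ (a + 2) = 4 * 2 ^ a := by rw [pow_add]; ring
    rw [e2, e3]
    -- `2 Q (Q+1) = 2 Q 2^a v`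
    have e4 : 2 * ((q : ℤ) ^ 2) + 2 * (ε * q) = 2 * 2 ^ a * (2 * j - 1) := by
      rw [← hsq]
      have e5 : 2 * (ε * (q : ℤ)) ^ 2 + 2 * (ε * q) = 2 * (ε * q) * (ε * q + 1) := by ring
      rw [e5, hv]
      have e6 : 2 * j - 1 = ε * q * v := by linarith
      rw [e6]; ring
    linear_combination (-1 : ℤ) * e4
  rw [e1]
  exact dvd_sub (dvd_sub (dvd_sub hy h2) h3) (dvd_mul_right _ _)

open Cfsg.Agent.Classification.QDW.NumBridge in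
/-- **The numbers of the `L1`-lemma.** -/
theorem main {q : ℕ} {ε n κ f x : ℤ} (h : Num q ε n κ f x) {a : ℕ} (ha2 : 2 ≤ a)
    (ha : (2 : ℤ) ^ a ∣ ε * q + 1) (ha' : ¬ (2 : ℤ) ^ (a + 1) ∣ ε * q + 1) {y₁ y₂ y₄ : ℤ}
    (hA : n * (y₂ - ε * q * y₁) ^ 2 =
      κ ^ 2 * ((ε * q) * (ε * q - 1) * (ε * q + 1) ^ 2 * y₁ * y₂ * (y₂ - y₁)))
    (hS : (y₄ - y₂) * (y₂ * y₄ - (ε * q) ^ 2 * y₁ * (y₁ - y₂ + y₄)) = 0)
    (h1 : y₁ ≠ 0) (h1' : y₁ ≠ 1) (h2 : y₂ ≠ 0) (_h4 : y₄ ≠ 0) (h21 : y₂ ≠ y₁)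
    (_h5 : y₁ - y₂ + y₄ ≠ 0)
    (c1 : (2 : ℤ) ^ (a + 2) ∣ y₁ - 1) (c5 : (2 : ℤ) ^ (a + 2) ∣ (y₁ - y₂ + y₄) - (1 - f + x))
    (hb : 2 * ((q : ℤ) - 1) ≤ |f - ε * q|) (hn : 0 < n) (hk : κ ≠ 0) (hq : 27 ≤ q)
    (_hq' : ε = -1 → 125 ≤ q) : False := by
  obtain ⟨b1, b2, b3⟩ := bounds_of_congr (n := a + 2) (by omega) c1 h1' (congr_five h ha ha' c5)
  have hq27 : (27 : ℤ) ≤ q := by exact_mod_cast hq
  have h42 : y₄ - y₂ ≠ 0 := by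
    intro h6
    apply b3
    linarith
  have hB : y₂ * y₄ = (ε * q) ^ 2 * y₁ * (y₁ - y₂ + y₄) := by
    rcases mul_eq_zero.1 hS with h6 | h6
    · exact absurd h6 h42
    · linarith
  have hQ : ε * (q : ℤ) = q ∨ ε * (q : ℤ) = -q := by
    rcases h.eps with h6 | h6
    · left; rw [h6, one_mul]
    · right; rw [h6]; ring
  have hκ : κ ^ 2 * ((ε * q) * (ε * q - 1) * (ε * q + 1) ^ 2) ≠ 0 := by
    refine mul_ne_zero (pow_ne_zero 2 hk) (mul_ne_zero (mul_ne_zero ?_ ?_) (pow_ne_zero 2 ?_))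
    · rcases hQ with h6 | h6 <;> rw [h6] <;> omega
    · rcases hQ with h6 | h6 <;> rw [h6] <;> omega
    · rcases hQ with h6 | h6 <;> rw [h6] <;> omega
  have hA' : (y₂ - ε * q * y₁) ^ 2 * (f * (f - 1)) =
      (f - ε * q) ^ 2 * (y₁ * y₂ * (y₂ - y₁)) := by
    have hA₀ := h.eqA
    have h6 : κ ^ 2 * ((ε * q) * (ε * q - 1) * (ε * q + 1) ^ 2) *
        ((y₂ - ε * q * y₁) ^ 2 * (f * (f - 1))) =
        κ ^ 2 * ((ε * q) * (ε * q - 1) * (ε * q + 1) ^ 2) *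
          ((f - ε * q) ^ 2 * (y₁ * y₂ * (y₂ - y₁))) := by
      linear_combination (f - ε * q) ^ 2 * hA - (y₂ - ε * q * y₁) ^ 2 * hA₀
    exact mul_left_cancel₀ hκ h6
  refine false_of_phi' (q := (q : ℤ)) (Q := ((ε * q : ℤ) : ℚ)) (f := f) (a := y₁) (b := y₂)
    (x₄ := y₄) (x₅ := ((y₁ - y₂ + y₄ : ℤ) : ℚ)) ?_ ?_ ?_ ?_ ?_ ?_ ?_ ?_ ?_ ?_ ?_ ?_ ?_
  · have : (25 : ℤ) ≤ q := by linarith
    exact_mod_cast this
  · rcases hQ with h6 | h6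
    · left; exact_mod_cast h6
    · right; exact_mod_cast h6
  · exact_mod_cast hb
  · exact_mod_cast h.f_ne_zero
  · exact_mod_cast h.f_ne_one
  · exact_mod_cast h1
  · exact_mod_cast h2
  · exact_mod_cast h21
  · exact_mod_cast hA'
  · push_cast
    ring
  · exact_mod_cast hB
  · exact_mod_cast b1
  · exact_mod_cast b2

end Cfsg.Agent.Classification.QDW.FieldNum
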