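import Mathlib
import Cfsg.Agent.Classification.QDW.FldClass
import Cfsg.Agent.Classification.InvCent.SDFull

/-!
# The centralizer of an involution with field automorphisms: values, semidihedral case

The analogues for `FInd` of the results of `InvCent.SDSec` and `InvCent.SDFull`.

* `Gen.prin_phi`, `prin_psi`: the functions `phi j`, `psi` lie in the span of the principal block;
* `sdHyp`: the Gram data;
* `ValN`, `val_a`, `val_b`: the values on the 2-section of `t`;
* `ValDN`, `val_T'`, `ValN.valDN`: the values on all elements of `N` having `t` as a power.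
-/

set_option autoImplicit false
set_option linter.unusedSectionVars false

open Cfsg
open scoped ComplexConjugate

namespace Cfsg.Agent.Classification.QDW.Fld

open Cfsg.Agent.Characters Cfsg.Agent.Blocks.Local Cfsg.Agent.Blocks.Basic
  Cfsg.Agent.Classification.BGBlockB0 Cfsg.Agent.Classification.InvCent
  Cfsg.Agent.Classification.BGIsometry Cfsg.Agent.Classification.BGOrder
  Cfsg.Agent.Classification.BGSplit Cfsg.Agent.Classification.InvCent.SDGram

universe w v

section Cside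

variable {C : Type*} [Group C] [Fintype C] {t : C} {q : ℕ} {ε : ℤ} {Z T T' U : Subgroup C}
  {s s' u : C} {h : CHyp t q ε Z T T' U s s' u} {b : C →* ℂˣ} {θ : T' →* ℂˣ} {n : ℕ} {μ : U →* ℂˣ}
  {χ : T →* ℂˣ} {M : Ideal AlgInt}

theorem prin_phi (g : Gen h b θ n) (hM : IsPModular 2 M) (hμ : ∃ v : U, μ v ≠ 1) (j : ℕ) :
    Prin M (phi h μ θ j) := by
  have key : ∀ y ∈ T', Odd (orderOf y) → lin (θ ^ j) y = 1 := by
    intro y hy hyo
    rw [lin_pow_hom _ _ hy, g.lin_odd hy hyo, one_pow]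
  refine prin_R' h hM hμ (g := fun x => 1 - lin (θ ^ j) x) ?_ ?_
  · intro x hx hx1
    refine h.zpowers_T' hx fun ho => hx1 ?_
    simp only [key x hx ho, sub_self]
  · intro x hx _ y hy hyo
    rw [lin_mul _ hx hy, key y hy hyo, mul_one]

theorem prin_psi (g : Gen h b θ n) (c : Chi h b χ) (hM : IsPModular 2 M)
    (hμ : ∃ v : U, μ v ≠ 1) : Prin M (psi h μ θ n χ) := by
  unfold psi
  refine Prin.smul _ (Prin.add ?_ (prin_phi g hM hμ _))
  have key : ∀ y ∈ T, Odd (orderOf y) → lin χ y = 1 := by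
    intro y hy hyo
    rcases c.lin_cases hy with h1 | h1
    · exact h1
    · exfalso
      obtain ⟨k, hk⟩ := hyo
      have h2 : lin χ y ^ orderOf y = 1 := by
        rw [lin_apply χ hy, ← Units.val_pow_eq_pow_val, ← map_pow]
        have h3 : (⟨y, hy⟩ : T) ^ orderOf y = 1 := Subtype.ext (pow_orderOf_eq_one y)
        rw [h3, map_one, Units.val_one]
      rw [h1, hk, pow_succ, pow_mul] at h2
      norm_num at h2
  refine prin_R h hM hμ (g := gT s χ) ?_ ?_
  · intro x hx hx1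
    exact h.zpowers_of_odd (c.gT_odd hx hx1)
  · intro x hx _ y hy hyo
    have hsx := h.torus.s_conj x hx
    have hsy := h.torus.s_conj y hy
    have hso : Odd (orderOf (s * y * s⁻¹)) := by
      rwa [← (SemiconjBy.orderOf_eq s (x := y) (y := s * y * s⁻¹) (by simp [SemiconjBy]))]
    have e1 : s * (x * y) * s⁻¹ = (s * x * s⁻¹) * (s * y * s⁻¹) := by group
    unfold gT
    rw [lin_mul _ hx hy, key y hy hyo, mul_one, e1, lin_mul _ hsx hsy, key _ hsy hso, mul_one]

/-- A function in the span of the principal block on the elements of `T'` with a given value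
`≠ 1, -1` of `θ`. -/
theorem Prin.eq_of_lin (g : Gen h b θ n) (hM : IsPModular 2 M) {F : C → ℂ} (hF : Prin M F)
    {x y : C} (hx : x ∈ T') (hy : y ∈ T') (hxy : lin θ x = lin θ y) (h1 : lin θ x ≠ 1)
    (h2 : lin θ x ≠ -1) : F x = F y := by
  obtain ⟨m, r, k, hr, hk, e2, e3⟩ := QDW.CoreConst.exists_exponent C
  have hord : ∀ w : C, ∃ l : ℕ, orderOf (w ^ k) = 2 ^ l := by
    intro w
    obtain ⟨l, -, hl⟩ := (Nat.dvd_prime_pow Nat.prime_two).1 (orderOf_dvd_of_pow_eq_one (e2 w))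
    exact ⟨l, hl⟩
  have hodd : ∀ w : C, Odd (orderOf ((w ^ k)⁻¹ * w)) := fun w =>
    hr.of_dvd_nat (orderOf_dvd_of_pow_eq_one (e3 w))
  have hlinT : ∀ w ∈ T', lin θ (w ^ k) = lin θ w := by
    intro w hw
    have h5 := g.lin_odd (mul_mem (inv_mem (pow_mem hw k)) hw) (hodd w)
    have h6 : lin θ w = lin θ (w ^ k) * lin θ ((w ^ k)⁻¹ * w) := by
      rw [← lin_mul θ (pow_mem hw k) (mul_mem (inv_mem (pow_mem hw k)) hw), mul_inv_cancel_left]
    rw [h6, h5, mul_one]
  have key : ∀ w ∈ T', lin θ w ≠ 1 → lin θ w ≠ -1 → F w = F (w ^ k) := by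
    intro w hw hw1 hw2
    have hwZ : w ^ k ∉ Z := by
      intro hZ
      rcases g.lin_Z hZ with h3 | h3
      · exact hw1 ((hlinT w hw).symm.trans h3)
      · exact hw2 ((hlinT w hw).symm.trans h3)
    have h3 := Prin.mul_odd hM hF h.torus' (pow_mem hw k) hwZ (hord w)
      (mul_mem (inv_mem (pow_mem hw k)) hw) (hodd w)
    rwa [mul_inv_cancel_left] at h3
  rw [key x hx h1 h2, key y hy (by rwa [← hxy]) (by rwa [← hxy])]
  have hxk := pow_mem hx k
  have hyk := pow_mem hy k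
  have h3 : lin θ ((x ^ k)⁻¹ * y ^ k) = 1 := by
    have h4 : lin θ (x ^ k) * lin θ ((x ^ k)⁻¹ * y ^ k) = lin θ (y ^ k) := by
      rw [← lin_mul θ hxk (mul_mem (inv_mem hxk) hyk), mul_inv_cancel_left]
    rw [hlinT x hx, hlinT y hy, hxy] at h4
    exact (mul_eq_left₀ (lin_ne_zero θ hy)).1 h4
  have h5 := (g.lin_eq_one_iff (mul_mem (inv_mem hxk) hyk)).1 h3
  have hc : Commute (x ^ k) (y ^ k) := h.T'_comm _ hxk _ hyk
  have h6 : ((x ^ k)⁻¹ * y ^ k) ^ 2 ^ m = 1 := by
    rw [(hc.inv_left).mul_pow, inv_pow, e2, e2, inv_one, one_mul]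
  have h7 : orderOf ((x ^ k)⁻¹ * y ^ k) = 1 := by
    refine Nat.eq_one_of_dvd_coprimes ?_ (orderOf_dvd_of_pow_eq_one h6) dvd_rfl
    exact Nat.Coprime.pow_left _ (Nat.coprime_two_left.2 h5)
  rw [orderOf_eq_one_iff] at h7
  rw [inv_mul_eq_one.1 h7]

/-- From the values on the 2-section of `t` and on `T'` to all values. -/
theorem eval_all (g : Gen h b θ n) (c : Chi h b χ) (hμ : ∃ v : U, μ v ≠ 1) {F : C → ℂ}
    (hF : IsClassFunction C F) {β : C → ℂ} (hβc : IsClassFunction C β)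
    (hβ : ∀ x, Odd (orderOf (t * x)) → β x = 1) {a₀ b₀ : ℂ}
    (hV : ∀ y, Odd (orderOf y) → F (t * y) = (a₀ * Torus.R T h.base μ (fun _ => 1) y +
      b₀ * Torus.R T' h.base μ (fun _ => 1) y) / 2)
    (hT' : ∀ x ∈ T', lin θ x ≠ 1 → lin θ x ≠ -1 → F x = β x * b₀) {x : C}
    (hx : t ∈ Subgroup.zpowers x) :
    F x = β x * ((a₀ * Torus.R T h.base μ (fun _ => 1) x +
      b₀ * Torus.R T' h.base μ (fun _ => 1) x) / 2) := by
  obtain ⟨d, hd⟩ := h.exhaust x
  rw [← hF x d, ← hβc x d, ← Torus.R_isClassFunction h.base _ x d,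
    ← Torus.R_isClassFunction h.base _ x d]
  have hx' : t ∈ Subgroup.zpowers (d * x * d⁻¹) := by
    apply h.zpowers_conj (d * x * d⁻¹) d⁻¹
    have e1 : d⁻¹ * (d * x * d⁻¹) * d⁻¹⁻¹ = x := by group
    rwa [e1]
  generalize d * x * d⁻¹ = y at hd hx'
  have key : Odd (orderOf (t * y)) → F y = β y * ((a₀ * Torus.R T h.base μ (fun _ => 1) y +
      b₀ * Torus.R T' h.base μ (fun _ => 1) y) / 2) := by
    intro ho
    have h1 := hV (t * y) ho
    rw [← mul_assoc, h.tt, one_mul] at h1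
    rw [h1, hβ _ ho, one_mul,
      h.torus.R_one_mul h.torus' rfl h.base hμ h.exhaust h.t_mem,
      h.torus'.R_one_mul h.torus (by ring) h.base hμ h.exh' h.t_mem]
  rcases hd with hy | hy | ⟨a, ha, v, hv, hy⟩
  · exact key (odd_of_T c hy hx')
  · by_cases ho : Odd (orderOf (t * y))
    · exact key ho
    have hzT := h.Z_le_T' h.t_mem
    have l1 : lin θ y ≠ 1 := by
      intro h1
      have h2 := (g.lin_eq_one_iff hy).1 h1
      have h3 : orderOf t ∣ orderOf y := orderOf_dvd_of_mem_zpowers hx'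
      rw [h.orderOf_t] at h3
      exact (Nat.not_even_iff_odd.2 h2) (even_iff_two_dvd.2 h3)
    have l2 : lin θ y ≠ -1 := by
      intro h1
      refine ho ((g.lin_eq_one_iff (mul_mem hzT hy)).1 ?_)
      rw [lin_mul _ hzT hy, g.lin_t, h1]
      ring
    have hyZ : y ∉ Z := by
      intro h1
      rcases g.lin_Z h1 with h2 | h2
      · exact l1 h2
      · exact l2 h2
    have hne : ε ≠ -ε := by rcases h.eps with h1 | h1 <;> rw [h1] <;> norm_num
    rw [hT' y hy l1 l2, h.torus.R_T' h.torus' hne.symm h.base _ hy hyZ,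
      h.torus'.R_T h.base _ hy hyZ]
    ring
  · refine key ?_
    rw [hy]
    refine h.odd_ZU a ha v hv (odd_of_T c (h.Z_le_T ha) ?_)
    rw [hy] at hx'
    obtain ⟨k, hk⟩ := Subgroup.mem_zpowers_iff.1 hx'
    have hcom : Commute a v := (h.Z_central a ha v).symm
    rw [hcom.mul_zpow] at hk
    have h2 : v ^ k = 1 := by
      refine h.base.eq_one_of_mem ?_ (zpow_mem hv _)
      have h3 : v ^ k = (a ^ k)⁻¹ * t := by rw [← hk, inv_mul_cancel_left]
      rw [h3]
      exact mul_mem (inv_mem (zpow_mem ha _)) h.t_mem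
    rw [h2, mul_one] at hk
    exact Subgroup.mem_zpowers_iff.2 ⟨k, hk⟩

end Cside

section

variable {G : Type w} [Group G] [Fintype G] {C : Type v} [Group C] [Fintype C] {t : G} {z : C}
  {N S : Subgroup (Subgroup.centralizer ({t} : Set G))} {π : N →* C} {M : Ideal AlgInt}
  {q : ℕ} {ε : ℤ} {Z T T' U : Subgroup C} {s s' u : C}
  {h : CHyp z q ε Z T T' U s s' u} {b : C →* ℂˣ} {θ : T' →* ℂˣ} {n : ℕ} {μ : U →* ℂˣ}
  {χ : T →* ℂˣ}

/-- A signed character of the principal block is in its span. -/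
theorem prin_of_inB {X : G → ℂ} (hX : InB (principalBlock M G) X) : Prin M X :=
  blockPart_of_inB hX

open Classical in
/-- The Gram data. -/
theorem sdHyp (H : FHyp t z N S π) (g : Gen h b θ n) (c : Chi h b χ)
    (hD : DetHyp q ε T T' U s s' u 2 b) (hμ : ∃ v : U, μ v ≠ 1) (hM : IsPModular 2 M) :
    SDHyp (fun f : g.Fam μ => FInd M π f.1) (FInd M π (phi h μ θ (2 ^ (n - 1))))
      (FInd M π (psi h μ θ n χ)) := by
  have pF : ∀ f ∈ g.Fam μ, Prin M f := by
    rintro f ⟨j, hj, rfl⟩; exact prin_phi g hM hμ j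
  have sF : ∀ f ∈ g.Fam μ, ∀ x, f x ≠ 0 → z ∈ Subgroup.zpowers x := by
    rintro f ⟨j, hj, rfl⟩ x hx; exact g.phi_supp hμ j hx
  have gF : ∀ f ∈ g.Fam μ, IsGeneralizedCharacter C f := by
    rintro f ⟨j, hj, rfl⟩; exact g.phi_gen j
  have ps : Prin M (phi h μ θ (2 ^ (n - 1))) := prin_phi g hM hμ _
  have ss : ∀ x, phi h μ θ (2 ^ (n - 1)) x ≠ 0 → z ∈ Subgroup.zpowers x :=
    fun x hx => g.phi_supp hμ _ hx
  have gp := psi_gen g c hD hμ
  have pp : Prin M (psi h μ θ n χ) := prin_psi g c hM hμ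
  have sp : ∀ x, psi h μ θ n χ x ≠ 0 → z ∈ Subgroup.zpowers x :=
    fun x hx => psi_supp g c hD hμ hx
  refine
    { gΦ := fun f => isGeneralized_FInd (gF f.1 f.2)
      gS := isGeneralized_FInd (g.phi_gen _)
      gP := isGeneralized_FInd gp
      oneΦ := fun f => FInd_at_one H hM (sF f.1 f.2)
      oneS := FInd_at_one H hM ss
      oneP := FInd_at_one H hM sp
      ΦΦ := fun f f' => ?_
      ΦS := fun f => ?_
      SS := ?_
      PP := ?_
      PΦ := fun f => ?_
      PS := ?_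
      trivΦ := fun f => ?_
      trivS := ?_
      trivP := ?_ }
  · rw [FInd_inner H hM (pF f'.1 f'.2) (sF f.1 f.2) (sF f'.1 f'.2)]
    by_cases hff : f = f'
    · rw [if_pos hff, hff]; exact g.Fam_self hμ f'.2
    · rw [if_neg hff]; exact g.Fam_ne hμ f.2 f'.2 (fun h1 => hff (Subtype.ext h1))
  · exact (FInd_inner H hM ps (sF f.1 f.2) ss).trans (g.Fam_phis hμ f.2)
  · exact (FInd_inner H hM ps ss ss).trans (g.phis_self hμ)
  · exact (FInd_inner H hM pp sp sp).trans (psi_self g c hD hμ)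
  · exact (FInd_inner H hM (pF f.1 f.2) sp (sF f.1 f.2)).trans (psi_Fam g c hD hμ f.2)
  · exact (FInd_inner H hM ps sp ss).trans (psi_phis g c hD hμ)
  · exact (FInd_one H hM (sF f.1 f.2)).trans (g.Fam_one hμ f.2)
  · exact (FInd_one H hM ss).trans (g.phi_one hμ g.half_ne_one)
  · exact (FInd_one H hM sp).trans (psi_one g c hD hμ)

/-- The values of `X` on the elements of `N` in the 2-section of `t`. -/
def ValN (h : CHyp z q ε Z T T' U s s' u) (μ : U →* ℂˣ) (π : N →* C) (X : G → ℂ) (a b : ℂ) :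
    Prop :=
  ∀ (x : N) (y : C), π x = z * y → Odd (orderOf y) →
    X ((x : Subgroup.centralizer ({t} : Set G)) : G) = (a * Torus.R T h.base μ (fun _ => 1) y +
        b * Torus.R T' h.base μ (fun _ => 1) y) / 2

/-- **The 2-section of `t`.** -/
theorem blockEvalN (H : FHyp t z N S π) (h : CHyp z q ε Z T T' U s s' u) (hM : IsPModular 2 M)
    {X : G → ℂ} (hX : Prin M X) (hμ : ∃ v : U, μ v ≠ 1) : ∃ a b : ℂ, ValN h μ π X a b := by
  obtain ⟨F, hF, -, hF2⟩ := exists_F H hM hX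
  obtain ⟨a, b, hab⟩ := Prin.eval h hM hμ hF h.t_mem
  refine ⟨a, b, fun x y hxy hyo => ?_⟩
  rw [hF2 x ?_, hxy, hab y hyo]
  · rfl
  · rw [hxy]
    refine h.zpowers_of_odd ?_
    rw [← mul_assoc, h.tt, one_mul]
    exact hyo

/-- Inner product of a function supported on the 2-section of `t`. -/
theorem classInner_of_valN (H : FHyp t z N S π) (hM : IsPModular 2 M) (hμ : ∃ v : U, μ v ≠ 1)
    {X : G → ℂ} (hX : Prin M X) {a₀ b₀ : ℂ} (hV : ValN h μ π X a₀ b₀) {f : C → ℂ}
    (hf : ∀ x, f x ≠ 0 → Odd (orderOf (z * x))) :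
    classInner (FInd M π f) X = classInner f (fun x => (a₀ * Torus.R T h.base μ (fun _ => 1) x +
      b₀ * Torus.R T' h.base μ (fun _ => 1) x) / 2) := by
  refine FInd_values H hM hX (fun x hx => h.zpowers_of_odd (hf x hx)) ?_
  intro x hx
  have h1 := hf _ hx
  have h2 : π x = z * (z * π x) := by rw [← mul_assoc, h.tt, one_mul]
  rw [hV x (z * π x) h2 h1, h.torus.R_one_mul h.torus' rfl h.base hμ h.exhaust h.t_mem,
    h.torus'.R_one_mul h.torus (by ring) h.base hμ h.exh' h.t_mem]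

/-- The coefficient `b` of `X`. -/
theorem val_b (H : FHyp t z N S π) (hM : IsPModular 2 M) (g : Gen h b θ n) (hμ : ∃ v : U, μ v ≠ 1) {X : G → ℂ} (hX : Prin M X)
    {a₀ b₀ : ℂ} (hV : ValN h μ π X a₀ b₀) {xθ xs : ℤ}
    (h1 : ∀ f ∈ g.Fam μ, classInner (FInd M π f) X = xθ)
    (h2 : classInner (FInd M π (phi h μ θ (2 ^ (n - 1)))) X = xs) : b₀ = 2 * xθ - xs := by
  have e1 := classInner_of_valN H hM hμ hX hV (f := Torus.R T' h.base μ (sec θ n)) (fun x hx =>
    h.support_T' hμ (P := fun x => Odd (orderOf (z * x))) h.odd_conj h.odd_ZU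
      (fun _ hy hy1 => g.sec_odd hy hy1) hx)
  rw [h.inner_T' hμ, g.ssum_sec, inv_mul_cancel₀ Core.card_ne_zero_complex, mul_one, g.R_sec,
    FInd_sum] at e1
  have e2 : (fun x => ∑ j ∈ Finset.range (2 ^ n), (-(-1 : ℂ) ^ j) * FInd M π (phi h μ θ j) x) =
      ∑ j ∈ Finset.range (2 ^ n), (-(-1 : ℂ) ^ j) • FInd M π (phi h μ θ j) := by
    funext x
    simp only [Finset.sum_apply, Pi.smul_apply, smul_eq_mul]
  rw [e2, Core.classInner_sum_left] at e1
  have hhalf : 2 ^ (n - 1) < 2 ^ n := by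
    have := g.three_le
    exact Nat.pow_lt_pow_right (by norm_num) (by omega)
  have h0 : (0 : ℕ) ≠ 2 ^ (n - 1) := (by positivity : (0 : ℕ) < 2 ^ (n - 1)).ne
  have hval : ∀ j ∈ Finset.range (2 ^ n), classInner (FInd M π (phi h μ θ j)) X =
      xθ + (if j = 0 then -(xθ : ℂ) else 0) + (if j = 2 ^ (n - 1) then (xs : ℂ) - xθ else 0) := by
    intro j hj
    rw [Finset.mem_range] at hj
    by_cases hj0 : j = 0
    · subst hj0
      rw [g.phi_eq_zero ((g.pow_eq_one_iff 0).2 (dvd_zero _)), if_pos rfl, if_neg h0]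
      have : FInd M π (0 : C → ℂ) = 0 := by
        have := FInd_sum (t := t) (M := M) (π := π) (∅ : Finset ℕ) (fun _ => 1) (fun _ => (0 : C → ℂ))
        simp only [Finset.sum_empty] at this
        exact this
      rw [this, Core.classInner_zero_left]
      ring
    by_cases hj1 : j = 2 ^ (n - 1)
    · rw [hj1, if_neg h0.symm, if_pos rfl, h2]
      ring
    rw [if_neg hj0, if_neg hj1, add_zero, add_zero]
    refine h1 _ (g.phi_mem_Fam ?_)
    rintro ⟨c, hc⟩
    have h3 := g.half_add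
    have h4 : (0 : ℕ) < 2 ^ (n - 1) := by positivity
    have h5 : c < 2 := by
      by_contra h6
      have : 2 ^ (n - 1) * 2 ≤ 2 ^ (n - 1) * c := Nat.mul_le_mul_left _ (by omega)
      omega
    interval_cases c
    · exact hj0 (by rw [hc, mul_zero])
    · exact hj1 (by rw [hc, mul_one])
  have e3 : ∑ j ∈ Finset.range (2 ^ n), classInner ((-(-1 : ℂ) ^ j) • FInd M π (phi h μ θ j)) X =
      2 * xθ - xs := by
    have e4 : ∀ j ∈ Finset.range (2 ^ n), classInner ((-(-1 : ℂ) ^ j) • FInd M π (phi h μ θ j)) X =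
        (-(xθ : ℂ)) * (-1) ^ j + (if j = 0 then (xθ : ℂ) else 0) +
          (if j = 2 ^ (n - 1) then (xθ : ℂ) - xs else 0) := by
      intro j hj
      rw [Core.classInner_smul_left, hval j hj]
      by_cases hj0 : j = 0
      · subst hj0
        rw [if_pos rfl, if_pos rfl, if_neg h0, if_neg h0]
        ring
      by_cases hj1 : j = 2 ^ (n - 1)
      · rw [if_neg hj0, if_neg hj0, if_pos hj1, if_pos hj1, hj1, g.even_half.neg_one_pow]
        ring
      rw [if_neg hj0, if_neg hj0, if_neg hj1, if_neg hj1]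
      ring
    rw [Finset.sum_congr rfl e4, Finset.sum_add_distrib, Finset.sum_add_distrib, ← Finset.mul_sum,
      g.sum_neg_one, Finset.sum_ite_eq', Finset.sum_ite_eq',
      if_pos (Finset.mem_range.2 (by positivity)), if_pos (Finset.mem_range.2 hhalf)]
    ring
  rw [e3] at e1
  have e5 := congrArg conj e1
  rw [Complex.conj_conj] at e5
  rw [← e5, map_sub, map_mul, map_ofNat, map_intCast, map_intCast]

/-- The coefficient `a` of `X`. -/
theorem val_a (H : FHyp t z N S π) (hM : IsPModular 2 M) (g : Gen h b θ n) (c : Chi h b χ) (hD : DetHyp q ε T T' U s s' u 2 b)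
    (hμ : ∃ v : U, μ v ≠ 1) {X : G → ℂ} (hX : Prin M X)
    {a₀ b₀ : ℂ} (hV : ValN h μ π X a₀ b₀) {xp xs : ℤ}
    (h1 : classInner (FInd M π (psi h μ θ n χ)) X = xp)
    (h2 : classInner (FInd M π (phi h μ θ (2 ^ (n - 1)))) X = xs) : a₀ = 2 * xp - xs := by
  have e1 := classInner_of_valN H hM hμ hX hV (f := Torus.R T h.base μ (gT s χ)) (fun x hx =>
    RT_supp g c hD hμ hx)
  rw [h.inner_T hμ, c.ssum_gT hD, inv_mul_cancel₀ Core.card_ne_zero_complex, mul_one] at e1
  have e2 : FInd M π (psi h μ θ n χ) =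
      (1 / 2 : ℂ) • (FInd M π (Torus.R T h.base μ (gT s χ)) + FInd M π (phi h μ θ (2 ^ (n - 1)))) := by
    have h3 := FInd_sum (t := t) (M := M) (π := π) (Finset.univ : Finset (Fin 2)) (fun _ => (1 / 2 : ℂ))
      ![Torus.R T h.base μ (gT s χ), phi h μ θ (2 ^ (n - 1))]
    simp only [Fin.sum_univ_two, Matrix.cons_val_zero, Matrix.cons_val_one] at h3
    have h4 : psi h μ θ n χ = fun x => 1 / 2 * Torus.R T h.base μ (gT s χ) x +
        1 / 2 * phi h μ θ (2 ^ (n - 1)) x := by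
      funext x
      unfold psi
      simp only [Pi.smul_apply, Pi.add_apply, smul_eq_mul]
      ring
    rw [h4, h3]
    funext x
    simp only [Pi.smul_apply, Pi.add_apply, smul_eq_mul]
    ring
  rw [e2, Core.classInner_smul_left, Core.classInner_add_left, e1, h2] at h1
  have e3 : conj a₀ = 2 * xp - xs := by linear_combination 2 * h1
  have e5 := congrArg conj e3
  rw [Complex.conj_conj] at e5
  rw [e5, map_sub, map_mul, map_ofNat, map_intCast, map_intCast]


/-- The value at an element above `T'` whose `2`-part is not above `Z`. -/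
theorem val_T' (H : FHyp t z N S π) (g : Gen h b θ n) (hμ : ∃ v : U, μ v ≠ 1)
    (hM : IsPModular 2 M) {X : G → ℂ} (hX : Prin M X)
    {xθ xs : ℤ} (h1 : ∀ f ∈ g.Fam μ, classInner (FInd M π f) X = xθ)
    (h2 : classInner (FInd M π (phi h μ θ (2 ^ (n - 1)))) X = xs)
    {x : N} (hx : π x ∈ T') (hx1 : lin θ (π x) ≠ 1)
    (hx2 : lin θ (π x) ≠ -1) :
    X ((x : Subgroup.centralizer ({t} : Set G)) : G) = xθ - lin θ (π x) ^ 2 ^ (n - 1) * (xs - xθ) := by
  obtain ⟨F, hF, -, hF2⟩ := exists_F H hM hX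
  have hsupp : ∀ y, Torus.R T' h.base μ (secl θ n (lin θ (π x))) y ≠ 0 → z ∈ Subgroup.zpowers y := by
    intro y hy
    obtain ⟨c, hc1, hc2⟩ := g.secl_supp hμ hx hx1 hx2 hy
    refine h.zpowers_conj y c (h.zpowers_T' hc1 fun ho => hx1 ?_)
    rw [← hc2]
    exact g.lin_odd hc1 ho
  have e1 : classInner (FInd M π (Torus.R T' h.base μ (secl θ n (lin θ (π x))))) X =
      classInner (Torus.R T' h.base μ (secl θ n (lin θ (π x)))) (X ((x : Subgroup.centralizer ({t} : Set G)) : G) • (1 : C → ℂ)) := by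
    refine FInd_values H hM hX hsupp ?_
    intro y hy
    obtain ⟨c, hc1, hc2⟩ := g.secl_supp hμ hx hx1 hx2 hy
    rw [Pi.smul_apply, Pi.one_apply, smul_eq_mul, mul_one, hF2 y (hsupp _ hy),
      hF2 x (h.zpowers_T' hx fun ho => hx1 (g.lin_odd hx ho)), ← hF.isClass (π y) c]
    exact hF.eq_of_lin g hM hc1 hx hc2 (by rw [hc2]; exact hx1) (by rw [hc2]; exact hx2)
  rw [Core.classInner_smul_right, h.inner_T'_one hμ, g.ssum_secl hx hx1,
    inv_mul_cancel₀ Core.card_ne_zero_complex, mul_one, g.R_secl, FInd_sum] at e1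
  set l := lin θ (π x) with hl
  have e2 : (fun y => ∑ j ∈ Finset.range (2 ^ n), (-(l⁻¹) ^ j) * FInd M π (phi h μ θ j) y) =
      ∑ j ∈ Finset.range (2 ^ n), (-(l⁻¹) ^ j) • FInd M π (phi h μ θ j) := by
    funext y
    simp only [Finset.sum_apply, Pi.smul_apply, smul_eq_mul]
  rw [e2, Core.classInner_sum_left] at e1
  have hhalf : 2 ^ (n - 1) < 2 ^ n := by
    have := g.three_le
    exact Nat.pow_lt_pow_right (by norm_num) (by omega)
  have h0 : (0 : ℕ) ≠ 2 ^ (n - 1) := (by positivity : (0 : ℕ) < 2 ^ (n - 1)).ne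
  have hval : ∀ j ∈ Finset.range (2 ^ n), classInner (FInd M π (phi h μ θ j)) X =
      xθ + (if j = 0 then -(xθ : ℂ) else 0) + (if j = 2 ^ (n - 1) then (xs : ℂ) - xθ else 0) := by
    intro j hj
    rw [Finset.mem_range] at hj
    by_cases hj0 : j = 0
    · subst hj0
      rw [g.phi_eq_zero ((g.pow_eq_one_iff 0).2 (dvd_zero _)), if_pos rfl, if_neg h0]
      have : FInd M π (0 : C → ℂ) = 0 := by
        have := FInd_sum (t := t) (M := M) (π := π) (∅ : Finset ℕ) (fun _ => 1) (fun _ => (0 : C → ℂ))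
        simp only [Finset.sum_empty] at this
        exact this
      rw [this, Core.classInner_zero_left]
      ring
    by_cases hj1 : j = 2 ^ (n - 1)
    · rw [hj1, if_neg h0.symm, if_pos rfl, h2]
      ring
    rw [if_neg hj0, if_neg hj1, add_zero, add_zero]
    refine h1 _ (g.phi_mem_Fam ?_)
    rintro ⟨c, hc⟩
    have h3 := g.half_add
    have h4 : (0 : ℕ) < 2 ^ (n - 1) := by positivity
    have h5 : c < 2 := by
      by_contra h6
      have : 2 ^ (n - 1) * 2 ≤ 2 ^ (n - 1) * c := Nat.mul_le_mul_left _ (by omega)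
      omega
    interval_cases c
    · exact hj0 (by rw [hc, mul_zero])
    · exact hj1 (by rw [hc, mul_one])
  have hlh : (l⁻¹) ^ 2 ^ (n - 1) = l ^ 2 ^ (n - 1) := by
    have h3 : l ^ 2 ^ (n - 1) * l ^ 2 ^ (n - 1) = 1 := by
      rw [← pow_add, g.half_add, hl, g.lin_pow hx]
    rw [inv_pow]
    exact inv_eq_of_mul_eq_one_left h3
  have e3 : ∑ j ∈ Finset.range (2 ^ n), classInner ((-(l⁻¹) ^ j) • FInd M π (phi h μ θ j)) X =
      xθ - l ^ 2 ^ (n - 1) * (xs - xθ) := by
    have e4 : ∀ j ∈ Finset.range (2 ^ n), classInner ((-(l⁻¹) ^ j) • FInd M π (phi h μ θ j)) X =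
        (-(xθ : ℂ)) * (l⁻¹) ^ j + (if j = 0 then (xθ : ℂ) else 0) +
          (if j = 2 ^ (n - 1) then -(l ^ 2 ^ (n - 1) * ((xs : ℂ) - xθ)) else 0) := by
      intro j hj
      rw [Core.classInner_smul_left, hval j hj]
      by_cases hj0 : j = 0
      · subst hj0
        rw [if_pos rfl, if_pos rfl, if_neg h0, if_neg h0]
        ring
      by_cases hj1 : j = 2 ^ (n - 1)
      · rw [if_neg hj0, if_neg hj0, if_pos hj1, if_pos hj1, hj1, hlh]
        ring
      rw [if_neg hj0, if_neg hj0, if_neg hj1, if_neg hj1]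
      ring
    rw [Finset.sum_congr rfl e4, Finset.sum_add_distrib, Finset.sum_add_distrib, ← Finset.mul_sum,
      hl, g.sum_inv hx hx1, ← hl, Finset.sum_ite_eq', Finset.sum_ite_eq',
      if_pos (Finset.mem_range.2 (by positivity)), if_pos (Finset.mem_range.2 hhalf)]
    ring
  rw [e3] at e1
  have hlr : conj (l ^ 2 ^ (n - 1)) = l ^ 2 ^ (n - 1) := by
    have h3 : l ^ 2 ^ (n - 1) * l ^ 2 ^ (n - 1) = 1 := by
      rw [← pow_add, g.half_add, hl, g.lin_pow hx]
    rcases mul_self_eq_one_iff.1 h3 with h4 | h4 <;> rw [h4] <;> simp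
  have e5 := congrArg conj e1
  rw [Complex.conj_conj, map_sub, map_mul, map_sub, hlr, map_intCast, map_intCast] at e5
  exact e5.symm


/-- `X x = β (π x) (a R_T(1) (π x) + b R_{T'}(1) (π x)) / 2` for all `x : N` such that `z` is a
power of `π x`. -/
def ValDN (h : CHyp z q ε Z T T' U s s' u) (μ : U →* ℂˣ) (π : N →* C) (β : C → ℂ) (X : G → ℂ)
    (a b : ℂ) : Prop :=
  ∀ x : N, z ∈ Subgroup.zpowers (π x) →
    X ((x : Subgroup.centralizer ({t} : Set G)) : G) = β (π x) * ((a * Torus.R T h.base μ (fun _ => 1) (π x) +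
      b * Torus.R T' h.base μ (fun _ => 1) (π x)) / 2)

/-- From `ValN` to `ValDN`. -/
theorem ValN.valDN (H : FHyp t z N S π) (hM : IsPModular 2 M) (g : Gen h b θ n) (c : Chi h b χ)
    (hμ : ∃ v : U, μ v ≠ 1) {X : G → ℂ} (hX : Prin M X) {β : C → ℂ}
    (hβc : IsClassFunction C β) (hβ : ∀ x, Odd (orderOf (z * x)) → β x = 1) {a₀ b₀ : ℂ}
    (hV : ValN h μ π X a₀ b₀)
    (hT' : ∀ x : N, π x ∈ T' → lin θ (π x) ≠ 1 → lin θ (π x) ≠ -1 →
      X ((x : Subgroup.centralizer ({t} : Set G)) : G) = β (π x) * b₀) :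
    ValDN h μ π β X a₀ b₀ := by
  obtain ⟨F, hF, -, hF2⟩ := exists_F H hM hX
  intro x hx
  rw [hF2 x hx]
  refine eval_all g c hμ hF.isClass hβc hβ ?_ ?_ hx
  · intro y hy
    obtain ⟨w, hw⟩ := H.surj (z * y)
    have h1 := hV w y hw hy
    rw [hF2 w ?_, hw] at h1
    · exact h1
    · rw [hw]
      refine h.zpowers_of_odd ?_
      rw [← mul_assoc, h.tt, one_mul]
      exact hy
  · intro y hy h1 h2
    obtain ⟨w, rfl⟩ := H.surj y
    rw [← hT' w hy h1 h2, hF2 w (h.zpowers_T' hy fun ho => h1 (g.lin_odd hy ho))]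


end

end Cfsg.Agent.Classification.QDW.Fld
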