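import Mathlib
import Cfsg.Agent.Classification.QDW.FldSD

/-!
# The centralizer of an involution with field automorphisms: the characters, semidihedral case

* `SDResN`, `SDFullN`: the analogues of `SDRes`, `SDFull` for `FInd`, with the values on `N`;
* `exists_sdFullN`: their existence, for given `μ`, `θ`, `χ`;
* `exists_sdResN`.
-/

set_option autoImplicit false
set_option linter.unusedSectionVars false

open Cfsg
open scoped ComplexConjugate

namespace Cfsg.Agent.Classification.QDW.Fld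

open Cfsg.Agent.Characters Cfsg.Agent.Blocks.Local Cfsg.Agent.Blocks.Basic
  Cfsg.Agent.Classification.BGBlockB0 Cfsg.Agent.Classification.InvCent
  Cfsg.Agent.Classification.BGIsometry Cfsg.Agent.Classification.BGOrder
  Cfsg.Agent.Classification.BGSplit Cfsg.Agent.Classification.InvCent.SDGram

universe w v

section

variable {G : Type w} [Group G] [Fintype G] {C : Type v} [Group C] [Fintype C] {t : G} {z : C}
  {N S : Subgroup (Subgroup.centralizer ({t} : Set G))} {π : N →* C} {M : Ideal AlgInt}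
  {q : ℕ} {ε : ℤ} {Z T T' U : Subgroup C} {s s' u : C}
  {h : CHyp z q ε Z T T' U s s' u} {b : C →* ℂˣ} {θ : T' →* ℂˣ} {n : ℕ} {μ : U →* ℂˣ}
  {χ : T →* ℂˣ}

/-- Class formula for three constituents. -/
theorem cf_three (H : FHyp t z N S π) (hM : IsPModular 2 M) (hC : CHyp z q ε Z T T' U s s' u)
    {f : C → ℂ} (hfp : Prin M f)
    (hf : ∀ x, f x ≠ 0 → z ∈ Subgroup.zpowers x) {A B : G → ℂ} (hA : SignedIrr A)
    (hB : SignedIrr B) (hE : FInd M π f = 1 + A + B) :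
    ((Subgroup.centralizer ({t} : Set G)).index : ℂ) * (1 + A t ^ 2 / A 1 + B t ^ 2 / B 1) =
      (kapN π u : ℂ) ^ 2 * pairSum z f := by
  have h1 := classFormula H hM hC hfp hf (Finset.univ : Finset (Fin 3)) (fun _ => 1)
    ![(1 : G → ℂ), A, B] (by
      intro j _
      fin_cases j
      · exact signedIrr_one
      · exact hA
      · exact hB) (by
      rw [hE]
      funext x
      simp [Fin.sum_univ_three])
  rw [← h1]
  congr 1
  simp [Fin.sum_univ_three]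

/-- Class formula for four constituents. -/
theorem cf_four (H : FHyp t z N S π) (hM : IsPModular 2 M) (hC : CHyp z q ε Z T T' U s s' u)
    {f : C → ℂ} (hfp : Prin M f)
    (hf : ∀ x, f x ≠ 0 → z ∈ Subgroup.zpowers x) {A B D : G → ℂ} (hA : SignedIrr A)
    (hB : SignedIrr B) (hD : SignedIrr D) (hE : FInd M π f = 1 + A + B + D) :
    ((Subgroup.centralizer ({t} : Set G)).index : ℂ) *
      (1 + A t ^ 2 / A 1 + B t ^ 2 / B 1 + D t ^ 2 / D 1) =
      (kapN π u : ℂ) ^ 2 * pairSum z f := by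
  have h1 := classFormula H hM hC hfp hf (Finset.univ : Finset (Fin 4)) (fun _ => 1)
    ![(1 : G → ℂ), A, B, D] (by
      intro j _
      fin_cases j
      · exact signedIrr_one
      · exact hA
      · exact hB
      · exact hD) (by
      rw [hE]
      funext x
      simp [Fin.sum_univ_four])
  rw [← h1]
  congr 1
  simp [Fin.sum_univ_four]

/-- The value at `t`. -/
theorem ValN.apply_t (H : FHyp t z N S π) {X : G → ℂ} {a₀ b₀ : ℂ}
    (hV : ValN h μ π X a₀ b₀) : X t = (a₀ * (1 + ε * q) + b₀ * (1 - ε * q)) / 2 := by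
  have h1 := hV (tN H) 1 (by rw [H.map_tN, mul_one])
    (by rw [orderOf_one]; exact odd_one)
  rw [h.torus.R_Z h.base _ (one_mem Z), h.torus'.R_Z h.base _ (one_mem Z)] at h1
  have h2 : X t = X ((tN H : Subgroup.centralizer ({t} : Set G)) : G) := rfl
  rw [h2, h1]
  push_cast
  ring

theorem ValN.add {X Y : G → ℂ} {a₀ b₀ a₁ b₁ : ℂ} (hX : ValN h μ π X a₀ b₀)
    (hY : ValN h μ π Y a₁ b₁) : ValN h μ π (X + Y) (a₀ + a₁) (b₀ + b₁) := by
  intro x y hx hy
  rw [Pi.add_apply, hX x y hx hy, hY x y hx hy]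
  ring

theorem ValN.sub {X Y : G → ℂ} {a₀ b₀ a₁ b₁ : ℂ} (hX : ValN h μ π X a₀ b₀)
    (hY : ValN h μ π Y a₁ b₁) : ValN h μ π (X - Y) (a₀ - a₁) (b₀ - b₁) := by
  intro x y hx hy
  rw [Pi.sub_apply, hX x y hx hy, hY x y hx hy]
  ring

theorem ValN.one (hμ : ∃ v : U, μ v ≠ 1) : ValN h μ π (1 : G → ℂ) 1 1 := by
  intro x y _ _
  rw [Pi.one_apply, one_mul, one_mul]
  exact h.two_one hμ y

/-- The characters of `G` in the semidihedral case. -/
structure SDResN (M : Ideal AlgInt) (h : CHyp z q ε Z T T' U s s' u) (μ : U →* ℂˣ)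
    (π : N →* C) (X₂ X₃ X₄ X₅ L : G → ℂ) (f x : ℤ) : Prop where
  in₂ : InB (principalBlock M G) X₂
  in₃ : InB (principalBlock M G) X₃
  in₄ : InB (principalBlock M G) X₄
  in₅ : InB (principalBlock M G) X₅
  inL : InB (principalBlock M G) L
  val₂ : ValN h μ π X₂ 1 (-1)
  val₃ : ValN h μ π X₃ 2 0
  val₄ : ValN h μ π X₄ 1 (-1)
  val₅ : ValN h μ π X₅ 1 1
  valL : ValN h μ π L 0 2
  odd_L : ∀ g, Odd (orderOf g) → 1 - X₂ g + L g = 0
  odd_S : ∀ g, Odd (orderOf g) → 1 - X₂ g + X₄ g - X₅ g = 0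
  odd_P : ∀ g, Odd (orderOf g) → 1 + X₃ g + X₄ g = 0
  one₂ : X₂ 1 = f
  one₄ : X₄ 1 = x
  t₂ : X₂ t = ε * q
  t₃ : X₃ t = 1 + ε * q
  t₄ : X₄ t = ε * q
  t₅ : X₅ t = 1
  tL : L t = 1 - ε * q
  f_ne_zero : f ≠ 0
  f_ne_one : f ≠ 1
  x_ne_zero : x ≠ 0
  x_ne : x ≠ -1
  f_ne_x : f ≠ x
  eqA : ((Subgroup.centralizer ({t} : Set G)).index : ℤ) * (f - ε * q) ^ 2 =
    (kapN π u : ℤ) ^ 2 * ((ε * q) * (ε * q - 1) * (ε * q + 1) ^ 2 * f * (f - 1))
  eqB : x * (f - (ε * q) ^ 2) = -(ε * q) ^ 2 * (f - 1)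

/-- The characters of `G` in the semidihedral case, with their values on `{x | t ∈ zpowers x}` and
all the relations between them. -/
structure SDFullN (M : Ideal AlgInt) (h : CHyp z q ε Z T T' U s s' u) (b : C →* ℂˣ)
    (θ : T' →* ℂˣ) (n : ℕ) (χ : T →* ℂˣ) (μ : U →* ℂˣ)
    (π : N →* C) (X₂ X₃ X₄ X₅ : G → ℂ) (L : ℕ → G → ℂ)
    (f x : ℤ) : Prop extends SDResN M h μ π X₂ X₃ X₄ X₅ (L 1) f x where
  inL' : ∀ j, ¬ 2 ^ (n - 1) ∣ j → InB (principalBlock M G) (L j)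
  /-- the relations -/
  eqΦ : ∀ j, ¬ 2 ^ (n - 1) ∣ j → FInd M π (phi h μ θ j) = 1 - X₂ + L j
  eqS : FInd M π (phi h μ θ (2 ^ (n - 1))) = 1 - X₂ + X₄ - X₅
  eqP : FInd M π (psi h μ θ n χ) = 1 + X₃ + X₄
  /-- orthogonality -/
  orth₂ : classInner X₂ 1 = 0
  orth₃ : classInner X₃ 1 = 0
  orth₄ : classInner X₄ 1 = 0
  orth₅ : classInner X₅ 1 = 0
  orthL : ∀ j, ¬ 2 ^ (n - 1) ∣ j → classInner (L j) 1 = 0
  x₂₃ : classInner X₂ X₃ = 0
  x₂₄ : classInner X₂ X₄ = 0
  x₂₅ : classInner X₂ X₅ = 0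
  x₃₄ : classInner X₃ X₄ = 0
  x₃₅ : classInner X₃ X₅ = 0
  x₄₅ : classInner X₄ X₅ = 0
  L₂ : ∀ j, ¬ 2 ^ (n - 1) ∣ j → classInner (L j) X₂ = 0
  L₃ : ∀ j, ¬ 2 ^ (n - 1) ∣ j → classInner (L j) X₃ = 0
  L₄ : ∀ j, ¬ 2 ^ (n - 1) ∣ j → classInner (L j) X₄ = 0
  L₅ : ∀ j, ¬ 2 ^ (n - 1) ∣ j → classInner (L j) X₅ = 0
  /-- inner products with the induced functions -/
  Φ₂ : ∀ j, ¬ 2 ^ (n - 1) ∣ j → classInner (FInd M π (phi h μ θ j)) X₂ = -1
  Φ₃ : ∀ j, ¬ 2 ^ (n - 1) ∣ j → classInner (FInd M π (phi h μ θ j)) X₃ = 0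
  S₂ : classInner (FInd M π (phi h μ θ (2 ^ (n - 1)))) X₂ = -1
  P₂ : classInner (FInd M π (psi h μ θ n χ)) X₂ = 0
  P₃ : classInner (FInd M π (psi h μ θ n χ)) X₃ = 1
  /-- the values -/
  valD₂ : ∀ y : N, z ∈ Subgroup.zpowers (π y) →
    X₂ ((y : Subgroup.centralizer ({t} : Set G)) : G) = (Torus.R T h.base μ (fun _ => 1) (π y) - Torus.R T' h.base μ (fun _ => 1) (π y)) / 2
  valD₃ : ∀ y : N, z ∈ Subgroup.zpowers (π y) →
    X₃ ((y : Subgroup.centralizer ({t} : Set G)) : G) = Torus.R T h.base μ (fun _ => 1) (π y)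
  valD₄ : ∀ y : N, z ∈ Subgroup.zpowers (π y) →
    X₄ ((y : Subgroup.centralizer ({t} : Set G)) : G) = ((b (π y) : ℂˣ) : ℂ) *
      ((Torus.R T h.base μ (fun _ => 1) (π y) - Torus.R T' h.base μ (fun _ => 1) (π y)) / 2)
  valD₅ : ∀ y : N, z ∈ Subgroup.zpowers (π y) →
    X₅ ((y : Subgroup.centralizer ({t} : Set G)) : G) = ((b (π y) : ℂˣ) : ℂ)
  /-- the degrees -/
  oneL : ∀ j, ¬ 2 ^ (n - 1) ∣ j → L j 1 = f - 1
  one₃ : X₃ 1 = -1 - x
  one₅ : X₅ 1 = 1 - f + x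

/-- **The characters of `G` in the semidihedral case**, for given `μ`, `θ`, `χ`. -/
theorem exists_sdFullN (H : FHyp t z N S π) (g : Gen h b θ n) (c : Chi h b χ)
    (hD : DetHyp q ε T T' U s s' u 2 b) (hμ : ∃ v : U, μ v ≠ 1)
    (hM : IsPModular 2 M) (hlin : ∀ X : G → ℂ, SignedIrr X → X 1 = 1 → X = 1) :
    ∃ (X₂ X₃ X₄ X₅ : G → ℂ) (L : ℕ → G → ℂ) (f x : ℤ),
      SDFullN M h b θ n χ μ π X₂ X₃ X₄ X₅ L f x := by
  classical
  let _ : Fintype (g.Fam μ) := g.Fam_finite.fintype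
  have hcard : 3 ≤ Fintype.card (g.Fam μ) := by
    obtain ⟨f₁, h1, f₂, h2, f₃, h3, h12, h13, h23⟩ := g.exists_three hμ
    have : 2 < Fintype.card (g.Fam μ) := Fintype.two_lt_card_iff.2
      ⟨⟨f₁, h1⟩, ⟨f₂, h2⟩, ⟨f₃, h3⟩, fun e => h12 (congrArg Subtype.val e),
        fun e => h13 (congrArg Subtype.val e), fun e => h23 (congrArg Subtype.val e)⟩
    omega
  obtain ⟨X₂, X₃, X₄, X₅, L, S⟩ := exists_sdSplit hcard (sdHyp H g c hD hμ hM)
  -- supports
  have hj1 : ¬ 2 ^ (n - 1) ∣ 1 := by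
    intro h1
    have h2 := Nat.le_of_dvd one_pos h1
    have h3 : 1 < 2 ^ (n - 1) := Nat.one_lt_two_pow (by have := g.three_le; omega)
    omega
  let i₁ : g.Fam μ := ⟨phi h μ θ 1, g.phi_mem_Fam hj1⟩
  let L' : ℕ → G → ℂ := fun j =>
    if hj : ¬ 2 ^ (n - 1) ∣ j then L ⟨phi h μ θ j, g.phi_mem_Fam hj⟩ else 0
  have hL' : ∀ j, (hj : ¬ 2 ^ (n - 1) ∣ j) → L' j = L ⟨phi h μ θ j, g.phi_mem_Fam hj⟩ :=
    fun j hj => dif_pos hj
  have s1 : ∀ x, phi h μ θ 1 x ≠ 0 → z ∈ Subgroup.zpowers x := fun x hx => g.phi_supp hμ _ hx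
  have ss : ∀ x, phi h μ θ (2 ^ (n - 1)) x ≠ 0 → z ∈ Subgroup.zpowers x :=
    fun x hx => g.phi_supp hμ _ hx
  have sp : ∀ x, psi h μ θ n χ x ≠ 0 → z ∈ Subgroup.zpowers x :=
    fun x hx => psi_supp g c hD hμ hx
  have sF : ∀ i : g.Fam μ, ∀ x, (i : C → ℂ) x ≠ 0 → z ∈ Subgroup.zpowers x := by
    rintro ⟨f, j, hj, rfl⟩ x hx
    exact g.phi_supp hμ j hx
  have oddLi : ∀ i : g.Fam μ, ∀ g, Odd (orderOf g) → 1 - X₂ g + L i g = 0 := by
    intro i g hg
    have h1 := congrFun (S.eqΦ i) g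
    rw [FInd_odd H hM (sF i) hg] at h1
    exact h1.symm
  have oddL : ∀ g, Odd (orderOf g) → 1 - X₂ g + L i₁ g = 0 := oddLi i₁
  have oddS : ∀ g, Odd (orderOf g) → 1 - X₂ g + X₄ g - X₅ g = 0 := by
    intro g hg
    have h1 := congrFun S.eqS g
    rw [FInd_odd H hM ss hg] at h1
    exact h1.symm
  have oddP : ∀ g, Odd (orderOf g) → 1 + X₃ g + X₄ g = 0 := by
    intro g hg
    have h1 := congrFun S.eqP g
    rw [FInd_odd H hM sp hg] at h1
    exact h1.symm
  -- blocks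
  have inLi : ∀ i : g.Fam μ, InB (principalBlock M G) (-X₂) ∧ InB (principalBlock M G) (L i) :=
    fun i => inB_of_three hM (signed_neg S.s₂) (S.sL i) (fun g hg => by
      have := oddLi i g hg
      simp only [Pi.add_apply, Pi.one_apply, Pi.neg_apply]
      linear_combination this)
  have in2' := (inLi i₁).1
  have in2 : InB (principalBlock M G) X₂ := by
    have := InB.neg in2'
    rwa [neg_neg] at this
  obtain ⟨in3, in4⟩ := inB_of_three hM S.s₃ S.s₄ (fun g hg => oddP g hg)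
  have in5 : InB (principalBlock M G) X₅ := by
    have h1 := inB_of_four hM in2' in4 (signed_neg S.s₅) (fun g hg => by
      have := oddS g hg
      simp only [Pi.add_apply, Pi.one_apply, Pi.neg_apply]
      linear_combination this)
    have := InB.neg h1
    rwa [neg_neg] at this
  -- inner products
  have e22 := signed_self S.s₂
  have e33 := signed_self S.s₃
  have e44 := signed_self S.s₄
  have e55 := signed_self S.s₅
  have y12 := inner_symm_zero S.one₂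
  have y13 := inner_symm_zero S.one₃
  have y14 := inner_symm_zero S.one₄
  have y15 := inner_symm_zero S.one₅
  have y32 := inner_symm_zero S.x₂₃
  have y42 := inner_symm_zero S.x₂₄
  have y52 := inner_symm_zero S.x₂₅
  have y43 := inner_symm_zero S.x₃₄
  have y53 := inner_symm_zero S.x₃₅
  have y54 := inner_symm_zero S.x₄₅
  have F2 : ∀ f ∈ g.Fam μ, classInner (FInd M π f) X₂ = ((-1 : ℤ) : ℂ) := by
    intro f hf
    have h1 := S.eqΦ ⟨f, hf⟩
    simp only at h1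
    rw [h1, Core.classInner_add_left, Core.classInner_sub_left, y12, e22, S.L₂]
    norm_num
  have F3 : ∀ f ∈ g.Fam μ, classInner (FInd M π f) X₃ = ((0 : ℤ) : ℂ) := by
    intro f hf
    have h1 := S.eqΦ ⟨f, hf⟩
    simp only at h1
    rw [h1, Core.classInner_add_left, Core.classInner_sub_left, y13, S.x₂₃, S.L₃]
    norm_num
  have F4 : ∀ f ∈ g.Fam μ, classInner (FInd M π f) X₄ = ((0 : ℤ) : ℂ) := by
    intro f hf
    have h1 := S.eqΦ ⟨f, hf⟩
    simp only at h1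
    rw [h1, Core.classInner_add_left, Core.classInner_sub_left, y14, S.x₂₄, S.L₄]
    norm_num
  have F5 : ∀ f ∈ g.Fam μ, classInner (FInd M π f) X₅ = ((0 : ℤ) : ℂ) := by
    intro f hf
    have h1 := S.eqΦ ⟨f, hf⟩
    simp only at h1
    rw [h1, Core.classInner_add_left, Core.classInner_sub_left, y15, S.x₂₅, S.L₅]
    norm_num
  have S2 : classInner (FInd M π (phi h μ θ (2 ^ (n - 1)))) X₂ = ((-1 : ℤ) : ℂ) := by
    rw [S.eqS, Core.classInner_sub_left, Core.classInner_add_left, Core.classInner_sub_left,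
      y12, e22, y42, y52]
    norm_num
  have S3 : classInner (FInd M π (phi h μ θ (2 ^ (n - 1)))) X₃ = ((0 : ℤ) : ℂ) := by
    rw [S.eqS, Core.classInner_sub_left, Core.classInner_add_left, Core.classInner_sub_left,
      y13, S.x₂₃, y43, y53]
    norm_num
  have S4 : classInner (FInd M π (phi h μ θ (2 ^ (n - 1)))) X₄ = ((1 : ℤ) : ℂ) := by
    rw [S.eqS, Core.classInner_sub_left, Core.classInner_add_left, Core.classInner_sub_left,
      y14, S.x₂₄, e44, y54]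
    norm_num
  have S5 : classInner (FInd M π (phi h μ θ (2 ^ (n - 1)))) X₅ = ((-1 : ℤ) : ℂ) := by
    rw [S.eqS, Core.classInner_sub_left, Core.classInner_add_left, Core.classInner_sub_left,
      y15, S.x₂₅, S.x₄₅, e55]
    norm_num
  have P2 : classInner (FInd M π (psi h μ θ n χ)) X₂ = ((0 : ℤ) : ℂ) := by
    rw [S.eqP, Core.classInner_add_left, Core.classInner_add_left, y12, y32, y42]
    norm_num
  have P3 : classInner (FInd M π (psi h μ θ n χ)) X₃ = ((1 : ℤ) : ℂ) := by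
    rw [S.eqP, Core.classInner_add_left, Core.classInner_add_left, y13, e33, y43]
    norm_num
  have P4 : classInner (FInd M π (psi h μ θ n χ)) X₄ = ((1 : ℤ) : ℂ) := by
    rw [S.eqP, Core.classInner_add_left, Core.classInner_add_left, y14, S.x₃₄, e44]
    norm_num
  have P5 : classInner (FInd M π (psi h μ θ n χ)) X₅ = ((0 : ℤ) : ℂ) := by
    rw [S.eqP, Core.classInner_add_left, Core.classInner_add_left, y15, S.x₃₅, S.x₄₅]
    norm_num
  -- values
  have V2 : ValN h μ π X₂ 1 (-1) := by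
    obtain ⟨a₀, b₀, hV⟩ := blockEvalN H h hM (prin_of_inB in2) hμ
    have hb := val_b H hM g hμ (prin_of_inB in2) hV F2 S2
    have ha := val_a H hM g c hD hμ (prin_of_inB in2) hV P2 S2
    have e1 : a₀ = 1 := by rw [ha]; norm_num
    have e2 : b₀ = -1 := by rw [hb]; norm_num
    subst e1 e2
    exact hV
  have V3 : ValN h μ π X₃ 2 0 := by
    obtain ⟨a₀, b₀, hV⟩ := blockEvalN H h hM (prin_of_inB in3) hμ
    have hb := val_b H hM g hμ (prin_of_inB in3) hV F3 S3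
    have ha := val_a H hM g c hD hμ (prin_of_inB in3) hV P3 S3
    have e1 : a₀ = 2 := by rw [ha]; norm_num
    have e2 : b₀ = 0 := by rw [hb]; norm_num
    subst e1 e2
    exact hV
  have V4 : ValN h μ π X₄ 1 (-1) := by
    obtain ⟨a₀, b₀, hV⟩ := blockEvalN H h hM (prin_of_inB in4) hμ
    have hb := val_b H hM g hμ (prin_of_inB in4) hV F4 S4
    have ha := val_a H hM g c hD hμ (prin_of_inB in4) hV P4 S4
    have e1 : a₀ = 1 := by rw [ha]; norm_num
    have e2 : b₀ = -1 := by rw [hb]; norm_num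
    subst e1 e2
    exact hV
  have V5 : ValN h μ π X₅ 1 1 := by
    obtain ⟨a₀, b₀, hV⟩ := blockEvalN H h hM (prin_of_inB in5) hμ
    have hb := val_b H hM g hμ (prin_of_inB in5) hV F5 S5
    have ha := val_a H hM g c hD hμ (prin_of_inB in5) hV P5 S5
    have e1 : a₀ = 1 := by rw [ha]; norm_num
    have e2 : b₀ = 1 := by rw [hb]; norm_num
    subst e1 e2
    exact hV
  have VL : ValN h μ π (L i₁) 0 2 := by
    have h1 : ValN h μ π (FInd M π (phi h μ θ 1)) 0 4 := by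
      intro x y hx hy
      have h2 : z ∈ Subgroup.zpowers (π x) := by
        refine h.zpowers_of_odd ?_
        rw [hx, ← mul_assoc, h.tt, one_mul]
        exact hy
      rw [FInd_apply H hM (prin_phi g hM hμ 1) s1 h2, hx, g.phi_section hμ 1 hy]
      ring
    have h2 : L i₁ = FInd M π (phi h μ θ 1) - 1 + X₂ := by
      have h3 := S.eqΦ i₁
      have h4 : FInd M π (phi h μ θ 1) = 1 - X₂ + L i₁ := h3
      rw [h4]
      abel
    rw [h2]
    have h3 := (h1.sub (ValN.one (h := h) (π := π) hμ)).add V2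
    have e1 : (0 : ℂ) - 1 + 1 = 0 := by norm_num
    have e2 : (4 : ℂ) - 1 + -1 = 2 := by norm_num
    rw [e1, e2] at h3
    exact h3
  -- values at `t`
  have t2 : X₂ t = ε * q := by rw [V2.apply_t H]; ring
  have t3 : X₃ t = 1 + ε * q := by rw [V3.apply_t H]; ring
  have t4 : X₄ t = ε * q := by rw [V4.apply_t H]; ring
  have t5 : X₅ t = 1 := by rw [V5.apply_t H]; ring
  have tL : L i₁ t = 1 - ε * q := by rw [VL.apply_t H]; ring
  -- degrees
  obtain ⟨f, hf0, hf⟩ := InvCent.WreathedGram.signed_degree S.s₂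
  obtain ⟨x, hx0, hx⟩ := InvCent.WreathedGram.signed_degree S.s₄
  have ho : Odd (orderOf (1 : G)) := by rw [orderOf_one]; exact odd_one
  have dLi : ∀ i : g.Fam μ, L i 1 = f - 1 := by
    intro i
    have := oddLi i 1 ho
    rw [hf] at this
    linear_combination this
  have dL : L i₁ 1 = f - 1 := dLi i₁
  have d3 : X₃ 1 = -1 - x := by
    have := oddP 1 ho
    rw [hx] at this
    linear_combination this
  have d5 : X₅ 1 = 1 - f + x := by
    have := oddS 1 ho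
    rw [hf, hx] at this
    linear_combination -this
  have hf1 : f ≠ 1 := by
    rintro rfl
    exact (S.sL i₁).apply_one_ne_zero (by rw [dL]; norm_num)
  have hx1 : x ≠ -1 := by
    rintro rfl
    exact S.s₃.apply_one_ne_zero (by rw [d3]; norm_num)
  have hfx : f ≠ x := by
    rintro rfl
    have h1 : X₅ = 1 := hlin X₅ S.s₅ (by rw [d5]; ring)
    have h2 := S.one₅
    rw [h1, InvCent.WreathedGram.one_one] at h2
    exact one_ne_zero h2
  have cf0 : (f : ℂ) ≠ 0 := by exact_mod_cast hf0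
  have cx0 : (x : ℂ) ≠ 0 := by exact_mod_cast hx0
  have cf1 : (f : ℂ) - 1 ≠ 0 := by
    intro h1
    exact hf1 (by exact_mod_cast sub_eq_zero.1 h1)
  have c5 : (1 : ℂ) - f + x ≠ 0 := by
    rw [← d5]
    exact S.s₅.apply_one_ne_zero
  have hε : (ε : ℂ) * ε = 1 := by exact_mod_cast h.torus.sq_sign
  have hn0 : ((Subgroup.centralizer ({t} : Set G)).index : ℂ) ≠ 0 := by
    have : (Subgroup.centralizer ({t} : Set G)).index ≠ 0 := Subgroup.index_ne_zero_of_finite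
    exact_mod_cast this
  -- all values
  have c1 : IsClassFunction C (fun _ => (1 : ℂ)) := fun _ _ => rfl
  have cb : IsClassFunction C (fun y => ((b y : ℂˣ) : ℂ)) := by
    intro y w
    show ((b (w * y * w⁻¹) : ℂˣ) : ℂ) = ((b y : ℂˣ) : ℂ)
    rw [map_mul, map_mul, map_inv, mul_inv_cancel_comm]
  have ob : ∀ y, Odd (orderOf (z * y)) → (fun y => ((b y : ℂˣ) : ℂ)) y = 1 := by
    intro y hy
    have hbz : b z = 1 := by
      refine hD.b_T₀ z (h.Z_le_T h.t_mem) ?_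
      rw [h.Z_central z h.t_mem s, mul_inv_cancel_right, h.tt]
    have h1 : b (z * y) = b y := by rw [map_mul, hbz, one_mul]
    have h2 : orderOf (b (z * y)) ∣ orderOf (z * y) := orderOf_map_dvd b _
    have h3 : orderOf (b (z * y)) ∣ 2 := orderOf_dvd_of_pow_eq_one (hD.pow_eq_one _)
    have h4 : orderOf (b (z * y)) = 1 :=
      Nat.eq_one_of_dvd_coprimes (Nat.coprime_two_left.2 hy) h3 h2
    rw [orderOf_eq_one_iff, h1] at h4
    simp only [h4, Units.val_one]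
  have D2 : ValDN h μ π (fun _ => 1) X₂ 1 (-1) := by
    refine V2.valDN H hM g c hμ (prin_of_inB in2) c1 (fun _ _ => rfl) ?_
    intro y hy h1 h2
    rw [val_T' H g hμ hM (prin_of_inB in2) F2 S2 hy h1 h2]
    push_cast
    ring
  have D3 : ValDN h μ π (fun _ => 1) X₃ 2 0 := by
    refine V3.valDN H hM g c hμ (prin_of_inB in3) c1 (fun _ _ => rfl) ?_
    intro y hy h1 h2
    rw [val_T' H g hμ hM (prin_of_inB in3) F3 S3 hy h1 h2]
    push_cast
    ring
  have D4 : ValDN h μ π (fun y => ((b y : ℂˣ) : ℂ)) X₄ 1 (-1) := by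
    refine V4.valDN H hM g c hμ (prin_of_inB in4) cb ob ?_
    intro y hy h1 h2
    rw [val_T' H g hμ hM (prin_of_inB in4) F4 S4 hy h1 h2, ← lin_pow_hom _ _ hy, g.lin_half hy]
    push_cast
    ring
  have D5 : ValDN h μ π (fun y => ((b y : ℂˣ) : ℂ)) X₅ 1 1 := by
    refine V5.valDN H hM g c hμ (prin_of_inB in5) cb ob ?_
    intro y hy h1 h2
    rw [val_T' H g hμ hM (prin_of_inB in5) F5 S5 hy h1 h2, ← lin_pow_hom _ _ hy, g.lin_half hy]
    push_cast
    ring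
  refine ⟨X₂, X₃, X₄, X₅, L', f, x,
    { in₂ := in2, in₃ := in3, in₄ := in4, in₅ := in5, inL := by rw [hL' 1 hj1]; exact (inLi i₁).2,
      val₂ := V2, val₃ := V3, val₄ := V4, val₅ := V5, valL := by rw [hL' 1 hj1]; exact VL,
      odd_L := by rw [hL' 1 hj1]; exact oddL
      odd_S := oddS, odd_P := oddP,
      one₂ := hf, one₄ := hx, t₂ := t2, t₃ := t3, t₄ := t4, t₅ := t5
      tL := by rw [hL' 1 hj1]; exact tL
      f_ne_zero := hf0, f_ne_one := hf1, x_ne_zero := hx0, x_ne := hx1, f_ne_x := hfx,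
      eqA := ?_, eqB := ?_
      inL' := fun j hj => by rw [hL' j hj]; exact (inLi _).2
      eqΦ := fun j hj => by rw [hL' j hj]; exact S.eqΦ ⟨_, g.phi_mem_Fam hj⟩
      eqS := S.eqS, eqP := S.eqP
      orth₂ := S.one₂, orth₃ := S.one₃, orth₄ := S.one₄, orth₅ := S.one₅
      orthL := fun j hj => by rw [hL' j hj]; exact S.oneL _
      x₂₃ := S.x₂₃, x₂₄ := S.x₂₄, x₂₅ := S.x₂₅, x₃₄ := S.x₃₄, x₃₅ := S.x₃₅, x₄₅ := S.x₄₅
      L₂ := fun j hj => by rw [hL' j hj]; exact S.L₂ _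
      L₃ := fun j hj => by rw [hL' j hj]; exact S.L₃ _
      L₄ := fun j hj => by rw [hL' j hj]; exact S.L₄ _
      L₅ := fun j hj => by rw [hL' j hj]; exact S.L₅ _
      Φ₂ := fun j hj => by rw [F2 _ (g.phi_mem_Fam hj)]; norm_num
      Φ₃ := fun j hj => by rw [F3 _ (g.phi_mem_Fam hj)]; norm_num
      S₂ := by rw [S2]; norm_num
      P₂ := by rw [P2]; norm_num
      P₃ := by rw [P3]; norm_num
      valD₂ := fun y hy => by rw [D2 y hy]; ring
      valD₃ := fun y hy => by rw [D3 y hy]; ring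
      valD₄ := fun y hy => by rw [D4 y hy]; ring
      valD₅ := fun y hy => by rw [D5 y hy, one_mul, one_mul, ← h.two_one hμ, mul_one]
      oneL := fun j hj => by rw [hL' j hj]; exact dLi _
      one₃ := d3, one₅ := d5 }⟩
  · have h1 : FInd M π (phi h μ θ 1) = 1 + -X₂ + L i₁ := by
      rw [← sub_eq_add_neg]
      exact S.eqΦ i₁
    have h2 := cf_three H hM h (prin_phi g hM hμ 1) s1 (signed_neg S.s₂) (S.sL i₁) h1
    rw [g.pairSum_phi hμ hj1, Pi.neg_apply, Pi.neg_apply, t2, tL, hf, dL] at h2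
    have h3 : (((Subgroup.centralizer ({t} : Set G)).index : ℤ) * (f - ε * q) ^ 2 : ℤ) =
      (((kapN π u : ℤ) ^ 2 * ((ε * q) * (ε * q - 1) * (ε * q + 1) ^ 2 * f * (f - 1)) : ℤ) : ℂ) := by
      push_cast
      field_simp at h2
      linear_combination h2 - (kapN π u : ℂ) ^ 2 * f * (f - 1) *
        (((ε : ℂ) ^ 2 + 1) * q ^ 4 + ε * q ^ 3 - q ^ 2) * hε
    exact_mod_cast h3
  · have h1 : FInd M π (phi h μ θ (2 ^ (n - 1))) = 1 + -X₂ + X₄ + -X₅ := by
      rw [← sub_eq_add_neg, ← sub_eq_add_neg]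
      exact S.eqS
    have h2 := cf_four H hM h (prin_phi g hM hμ _) ss (signed_neg S.s₂) S.s₄ (signed_neg S.s₅) h1
    rw [g.pairSum_phis hD hμ, mul_zero] at h2
    have h3 := (mul_eq_zero.1 h2).resolve_left hn0
    simp only [Pi.neg_apply] at h3
    rw [t2, t4, t5, hf, hx, d5] at h3
    have h4 : ((x : ℂ) - f) * (f * x - (ε * q) ^ 2 * (1 - f + x)) = 0 := by
      field_simp at h3
      linear_combination h3
    have h5 : (x : ℂ) - f ≠ 0 := by
      intro h6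
      apply hfx
      have : (x : ℂ) = f := sub_eq_zero.1 h6
      exact_mod_cast this.symm
    have h6 := (mul_eq_zero.1 h4).resolve_left h5
    have h7 : ((x * (f - (ε * q) ^ 2) : ℤ) : ℂ) = ((-(ε * q) ^ 2 * (f - 1) : ℤ) : ℂ) := by
      push_cast
      linear_combination h6
    exact_mod_cast h7

/-- The characters of `G` for a choice of `μ`, `θ`, `χ`. -/
theorem exists_sdFullN' (H : FHyp t z N S π) (h : CHyp z q ε Z T T' U s s' u)
    (hD : DetHyp q ε T T' U s s' u 2 b) (hM : IsPModular 2 M)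
    (hlin : ∀ X : G → ℂ, SignedIrr X → X 1 = 1 → X = 1) :
    ∃ (μ : U →* ℂˣ) (_ : ∃ v : U, μ v ≠ 1) (θ : T' →* ℂˣ) (n : ℕ) (_ : Gen h b θ n)
      (χ : T →* ℂˣ) (_ : Chi h b χ) (X₂ X₃ X₄ X₅ : G → ℂ) (L : ℕ → G → ℂ) (f x : ℤ),
      SDFullN M h b θ n χ μ π X₂ X₃ X₄ X₅ L f x := by
  obtain ⟨μ, hμ⟩ := h.base.exists_mu
  obtain ⟨θ, n, g⟩ := exists_gen h hD
  obtain ⟨χ, c⟩ := exists_chi h hD
  exact ⟨μ, hμ, θ, n, g, χ, c, exists_sdFullN H g c hD hμ hM hlin⟩

theorem exists_sdResN (H : FHyp t z N S π) (h : CHyp z q ε Z T T' U s s' u)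
    (hD : DetHyp q ε T T' U s s' u 2 b) (hM : IsPModular 2 M)
    (hlin : ∀ X : G → ℂ, SignedIrr X → X 1 = 1 → X = 1) :
    ∃ (μ : U →* ℂˣ) (_ : ∃ v : U, μ v ≠ 1) (X₂ X₃ X₄ X₅ L : G → ℂ) (f x : ℤ),
      SDResN M h μ π X₂ X₃ X₄ X₅ L f x := by
  obtain ⟨μ, hμ, θ, n, g, χ, c, X₂, X₃, X₄, X₅, L, f, x, hR⟩ := exists_sdFullN' H h hD hM hlin
  exact ⟨μ, hμ, X₂, X₃, X₄, X₅, L 1, f, x, hR.toSDResN⟩

end

end Cfsg.Agent.Classification.QDW.Fld
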