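import Mathlib
import Cfsg.Agent.Classification.QDW.FldTwist
import Cfsg.Agent.Blocks.CentralizerSum
import Cfsg.Agent.Blocks.PrincipalSection

/-!
# Twisted blocks

`Λ` is a class function on `G` with roots of unity as values, multiplicative on the centralizer
`H` of a `p`-element `a`.  `InL M Λ χ`: the central character of `χ` is `Λ` times the one of the
principal block, modulo `M`.

* `Tw`: linear characters as functions;
* `section_twist`: the principal part of `c ↦ conj (Λ c) χ (a c)` on `H` at the `p`-regular elements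
  is this function if `InL M Λ χ`, and zero otherwise (a twisted form of the third main theorem);
* `principal_part_twist`: the same for `C(t)` and all the elements having `t` as a power;
* `exists_FL`: `X` with `InL`: the values on `N`, inner products with the twisted lifts;
* `FIndL_eq_zero`: the inner products vanish if not `InL`.
-/

set_option autoImplicit false
set_option linter.unusedSectionVars false

open Cfsg
open scoped ComplexConjugate

namespace Cfsg.Agent.Classification.QDW.Fld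

open Cfsg.Agent.Characters Cfsg.Agent.Blocks.Local Cfsg.Agent.Blocks.Basic
  Cfsg.Agent.Classification.BGBlockB0 Cfsg.Agent.Classification.InvCent
  Cfsg.Agent.Classification.BGIsometry Cfsg.Agent.Classification.BGOrder
  Cfsg.Agent.Classification.BGSplit

universe w v

section Unit

theorem root_mul_conj {c : ℂ} {m : ℕ} (hm : 0 < m) (h : c ^ m = 1) : c * conj c = 1 := by
  have h2 : ‖c‖ = 1 := Complex.norm_eq_one_of_pow_eq_one h hm.ne'
  rw [Complex.mul_conj, Complex.normSq_eq_norm_sq, h2]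
  norm_num

theorem root_ring {M : Ideal AlgInt} [M.IsPrime] {c : ℂ} {m : ℕ} (hm : 0 < m) (h : c ^ m = 1) :
    MemLocalRing M c :=
  memLocalRing_of_isIntegral (IsIntegral.of_pow hm (by rw [h]; exact isIntegral_one))

theorem root_conj {c : ℂ} {m : ℕ} (h : c ^ m = 1) : conj c ^ m = 1 := by
  rw [← map_pow, h, map_one]

end Unit

section Tw

variable {K : Type*} [Group K]

/-- A linear character of finite order, as a function. -/
structure Tw (l : K → ℂ) : Prop where
  mul : ∀ x y, l (x * y) = l x * l y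
  root : ∃ m : ℕ, 0 < m ∧ ∀ x, l x ^ m = 1

variable {l : K → ℂ}

theorem Tw.mul_conj (h : Tw l) (x : K) : l x * conj (l x) = 1 := by
  obtain ⟨m, hm, hr⟩ := h.root
  exact root_mul_conj hm (hr x)

theorem Tw.ne_zero (h : Tw l) (x : K) : l x ≠ 0 := left_ne_zero_of_mul_eq_one (h.mul_conj x)

theorem Tw.one (h : Tw l) : l 1 = 1 := by
  have h1 := h.mul 1 1
  rw [mul_one] at h1
  exact (mul_eq_left₀ (h.ne_zero 1)).1 h1.symm

theorem Tw.conj (h : Tw l) : Tw (fun x => conj (l x)) where
  mul x y := by rw [h.mul, map_mul]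
  root := by
    obtain ⟨m, hm, hr⟩ := h.root
    exact ⟨m, hm, fun x => root_conj (hr x)⟩

theorem Tw.ring (h : Tw l) {M : Ideal AlgInt} [M.IsPrime] (x : K) : MemLocalRing M (l x) := by
  obtain ⟨m, hm, hr⟩ := h.root
  exact root_ring hm (hr x)

theorem Tw.isCharacter (h : Tw l) [Finite K] : IsCharacter K l :=
  Brauer.isCharacter_of_monoidHom (⟨⟨l, h.one⟩, h.mul⟩ : K →* ℂ)

theorem Tw.isIrr (h : Tw l) [Finite K] {X : K → ℂ} (hX : IsIrrCharacter K X) :
    IsIrrCharacter K (fun g => l g * X g) := by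
  classical
  have := Fintype.ofFinite K
  have h1 : IsCharacter K (fun g => l g * X g) :=
    Core.isCharacter_mul h.isCharacter (Core.isIrr_isCharacter hX)
  rw [Core.isIrr_iff_classInner_self h1]
  have h2 : classInner (fun g => l g * X g) (fun g => l g * X g) = classInner X X := by
    rw [Core.classInner_def, Core.classInner_def]
    congr 1
    refine Finset.sum_congr rfl fun g _ => ?_
    rw [map_mul]
    linear_combination (X g * (starRingEnd ℂ) (X g)) * h.mul_conj g
  rw [h2, Core.classInner_irr_self hX]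

/-- The twist of the irreducible characters. -/
noncomputable def Tw.tw (h : Tw l) [Finite K] (X : IrrCharacter K) : IrrCharacter K :=
  ⟨fun g => l g * (X : K → ℂ) g, h.isIrr X.2⟩

theorem Tw.tw_apply (h : Tw l) [Finite K] (X : IrrCharacter K) (g : K) :
    (h.tw X : K → ℂ) g = l g * (X : K → ℂ) g := rfl

theorem Tw.tw_conj (h : Tw l) [Finite K] (X : IrrCharacter K) : h.conj.tw (h.tw X) = X := by
  apply Subtype.ext
  funext g
  show (starRingEnd ℂ) (l g) * (l g * (X : K → ℂ) g) = (X : K → ℂ) g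
  linear_combination (X : K → ℂ) g * h.mul_conj g

theorem Tw.conj_tw (h : Tw l) [Finite K] (X : IrrCharacter K) : h.tw (h.conj.tw X) = X := by
  apply Subtype.ext
  funext g
  show l g * ((starRingEnd ℂ) (l g) * (X : K → ℂ) g) = (X : K → ℂ) g
  linear_combination (X : K → ℂ) g * h.mul_conj g

theorem Tw.centralChar (h : Tw l) (X : K → ℂ) (g : K) :
    centralChar (fun g => l g * X g) g = l g * Cfsg.centralChar X g := by
  show ((Subgroup.centralizer ({g} : Set K)).index : ℂ) * (l g * X g) / (l 1 * X 1) =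
    l g * (((Subgroup.centralizer ({g} : Set K)).index : ℂ) * X g / X 1)
  rw [h.one, one_mul]
  ring

theorem Tw.sameBlock (h : Tw l) {M : Ideal AlgInt} [M.IsPrime] {X Y : K → ℂ}
    (hXY : SameBlock M X Y) : SameBlock M (fun g => l g * X g) (fun g => l g * Y g) := by
  intro g
  rw [h.centralChar, h.centralChar, ← mul_sub]
  exact memLocalIdeal_mul_left (h.ring g) (hXY g)

theorem Tw.classInner (h : Tw l) [Fintype K] (X Y : K → ℂ) :
    Cfsg.classInner X (fun g => l g * Y g) =
      Cfsg.classInner (fun g => (starRingEnd ℂ) (l g) * X g) Y := by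
  rw [Core.classInner_def, Core.classInner_def]
  congr 1
  refine Finset.sum_congr rfl fun g _ => ?_
  rw [map_mul]
  ring

/-- The induced central character of a twist. -/
theorem Tw.induced {G : Type*} [Group G] {H : Subgroup G} {l : H → ℂ} (h : Tw l) {Λ : G → ℂ}
    (hΛ : IsClassFunction G Λ) (hl : ∀ x : H, l x = Λ x) (X : H → ℂ) (g : G) :
    inducedCentralChar H (fun x => l x * X x) g = Λ g * inducedCentralChar H X g := by
  rw [inducedCentralChar_def, inducedCentralChar_def, mul_finsum_mem]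
  refine finsum_mem_congr rfl fun x hx => ?_
  obtain ⟨c, hc⟩ := isConj_iff.1 (show IsConj g (x : G) from hx)
  have h1 : l x = Λ g := by rw [hl, ← hc, hΛ g c]
  simp only [h.one, one_mul, h1]
  ring

end Tw

section Section

variable {G : Type w} [Group G] {M : Ideal AlgInt}

/-- The central character is `Λ` times the principal one. -/
def InL (M : Ideal AlgInt) (Λ : G → ℂ) (χ : G → ℂ) : Prop :=
  ∀ g : G, MemLocalIdeal M (Λ g * centralChar (fun _ : G => (1 : ℂ)) g - centralChar χ g)

theorem InL.sameBlock [M.IsPrime] {Λ : G → ℂ} {χ ψ : G → ℂ} (h : InL M Λ χ) (h' : InL M Λ ψ) :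
    SameBlock M χ ψ := fun g =>
  memLocalIdeal_sub_trans (memLocalIdeal_sub_comm (h g)) (h' g)

theorem InL.of_sameBlock [M.IsPrime] {Λ : G → ℂ} {χ ψ : G → ℂ} (h : InL M Λ χ)
    (h' : SameBlock M χ ψ) : InL M Λ ψ := fun g => memLocalIdeal_sub_trans (h g) (h' g)

theorem InL.block [M.IsPrime] {Λ : G → ℂ} {χ : IrrCharacter G} (h : InL M Λ (χ : G → ℂ)) :
    {ψ : IrrCharacter G | InL M Λ (ψ : G → ℂ)} = blockOf M (χ : G → ℂ) := by
  ext ψ
  exact ⟨fun h1 => h.sameBlock h1, fun h1 => h.of_sameBlock h1⟩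

variable [Finite G] {p : ℕ} [Fact p.Prime]

/-- The data of a section. -/
structure Sec (p : ℕ) (Λ : G → ℂ) (a : G) (H : Subgroup G) : Prop where
  cl : IsClassFunction G Λ
  root : ∃ m : ℕ, 0 < m ∧ ∀ x, Λ x ^ m = 1
  pel : ∃ k : ℕ, orderOf a = p ^ k
  eq : H = Subgroup.centralizer ({a} : Set G)
  mul : ∀ x ∈ H, ∀ y ∈ H, Λ (x * y) = Λ x * Λ y

variable {Λ : G → ℂ} {a : G} {H : Subgroup G}

theorem Sec.tw (h : Sec p Λ a H) : Tw (fun x : H => Λ x) where
  mul x y := h.mul x x.2 y y.2
  root := by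
    obtain ⟨m, hm, hr⟩ := h.root
    exact ⟨m, hm, fun x => hr x⟩

theorem Sec.ring (h : Sec p Λ a H) [M.IsPrime] (g : G) : MemLocalRing M (Λ g) := by
  obtain ⟨m, hm, hr⟩ := h.root
  exact root_ring hm (hr g)

theorem Sec.conj_ring (h : Sec p Λ a H) [M.IsPrime] (g : G) : MemLocalRing M (conj (Λ g)) := by
  obtain ⟨m, hm, hr⟩ := h.root
  exact root_ring hm (root_conj (hr g))

theorem Sec.mul_conj (h : Sec p Λ a H) (g : G) : Λ g * conj (Λ g) = 1 := by
  obtain ⟨m, hm, hr⟩ := h.root
  exact root_mul_conj hm (hr g)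

/-- The block of `H` induced to `G`. -/
theorem Sec.defined (h : Sec p Λ a H) (hM : IsPModular p M) (ξ : IrrCharacter H) :
    InducedBlockDefined M H (blockOf M (ξ : H → ℂ)) := by
  obtain ⟨k, hk⟩ := h.pel
  have hzH : a ∈ H := h.eq ▸ Subgroup.mem_centralizer_singleton_iff.2 rfl
  have hP : IsPGroup p (Subgroup.zpowers a) := by
    refine IsPGroup.of_card (n := k) ?_
    rw [Nat.card_zpowers, hk]
  have hcent : Subgroup.centralizer ((Subgroup.zpowers a : Subgroup G) : Set G) = H := by
    rw [h.eq]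
    ext x
    rw [Subgroup.mem_centralizer_singleton_iff]
    constructor
    · intro h1
      exact (Subgroup.mem_centralizer_iff.1 h1 a (Subgroup.mem_zpowers a)).symm
    · intro h1
      rw [Subgroup.mem_centralizer_iff]
      rintro w ⟨n, rfl⟩
      exact (show Commute a x from h1.symm).zpow_left n
  exact S0919.result p M hM (Subgroup.zpowers a) H hP
    ((Subgroup.zpowers_le).2 hzH) hcent.le
    (by rw [← hcent]; exact Subgroup.centralizer_le_normalizer _)
    (blockOf M (ξ : H → ℂ)) (isPBlock_blockOf ξ)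

/-- The induced central character of the trivial character. -/
theorem Sec.principal (h : Sec p Λ a H) (hM : IsPModular p M) (g : G) :
    MemLocalIdeal M (inducedCentralChar H (fun _ : H => (1 : ℂ)) g -
      centralChar (fun _ : G => (1 : ℂ)) g) := by
  have := isPrime_of_isPModular hM
  have h1 := (Blocks.PrincipalSection.mem_principalBlock_iff_induced hM a h.pel h.eq
    (⟨fun _ => 1, isIrrCharacter_one⟩ : IrrCharacter H)).1
    Blocks.PrincipalSection.one_mem_principalBlock
  exact h1.2.2 ⟨fun _ => 1, isIrrCharacter_one⟩ (mem_blockOf_self _)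
    ⟨fun _ => 1, isIrrCharacter_one⟩ Blocks.PrincipalSection.one_mem_principalBlock g

/-- Some character has `InL`. -/
theorem Sec.exists_inL (h : Sec p Λ a H) (hM : IsPModular p M) :
    ∃ χ : IrrCharacter G, InL M Λ (χ : G → ℂ) := by
  have := isPrime_of_isPModular hM
  obtain ⟨B, hB⟩ := h.defined hM (h.tw.tw (⟨fun _ => 1, isIrrCharacter_one⟩ : IrrCharacter H))
  obtain ⟨χ, hχ⟩ := isPBlock_nonempty hB.2.1
  refine ⟨χ, fun g => ?_⟩
  have h1 := hB.2.2 _ (mem_blockOf_self _) χ hχ g
  have h2 : inducedCentralChar H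
      (h.tw.tw (⟨fun _ => 1, isIrrCharacter_one⟩ : IrrCharacter H) : H → ℂ) g =
      Λ g * inducedCentralChar H (fun _ : H => (1 : ℂ)) g :=
    h.tw.induced h.cl (fun x => rfl) (fun _ => (1 : ℂ)) g
  rw [h2] at h1
  have h3 := memLocalIdeal_mul_left (h.ring (M := M) g) (h.principal hM g)
  have h4 := memLocalIdeal_sub h1 h3
  convert h4 using 1
  ring

/-- The blocks of `H` inducing the twisted block. -/
theorem Sec.mem_iff (h : Sec p Λ a H) (hM : IsPModular p M) (ξ : IrrCharacter H) :
    h.tw.conj.tw ξ ∈ principalBlock M H ↔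
      IsInducedBlock M H (blockOf M (ξ : H → ℂ)) {ψ : IrrCharacter G | InL M Λ (ψ : G → ℂ)} := by
  have hMp := isPrime_of_isPModular hM
  obtain ⟨χ₀, hχ₀⟩ := h.exists_inL hM
  have hB : IsPBlock M {ψ : IrrCharacter G | InL M Λ (ψ : G → ℂ)} := ⟨χ₀, hχ₀.block⟩
  rw [Blocks.PrincipalSection.mem_principalBlock_iff_induced hM a h.pel h.eq]
  -- the value of the induced central characters
  have e1 : ∀ (ξ' : IrrCharacter H) (g : G), inducedCentralChar H (ξ' : H → ℂ) g =
      Λ g * inducedCentralChar H (h.tw.conj.tw ξ' : H → ℂ) g := by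
    intro ξ' g
    have h1 := h.tw.induced h.cl (fun x => rfl) (h.tw.conj.tw ξ' : H → ℂ) g
    have h2 : (fun x : H => Λ x * (h.tw.conj.tw ξ' : H → ℂ) x) = (ξ' : H → ℂ) :=
      congrArg Subtype.val (h.tw.conj_tw ξ')
    rw [h2] at h1
    exact h1
  have e2 : ∀ ξ₁ ξ₂ : IrrCharacter H, SameBlock M (ξ₁ : H → ℂ) (ξ₂ : H → ℂ) →
      SameBlock M (h.tw.conj.tw ξ₁ : H → ℂ) (h.tw.conj.tw ξ₂ : H → ℂ) :=
    fun ξ₁ ξ₂ h1 => h.tw.conj.sameBlock h1
  constructor
  · rintro ⟨-, -, h3⟩
    refine ⟨isPBlock_blockOf ξ, hB, fun ξ' hξ' χ hχ g => ?_⟩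
    have h4 := h3 (h.tw.conj.tw ξ') (e2 ξ ξ' hξ') ⟨fun _ => 1, isIrrCharacter_one⟩
      Blocks.PrincipalSection.one_mem_principalBlock g
    rw [e1]
    have h5 := memLocalIdeal_add (memLocalIdeal_mul_left (h.ring (M := M) g) h4) (hχ g)
    convert h5 using 1
    show _ = Λ g * (_ - centralChar (fun _ : G => (1 : ℂ)) g) +
      (Λ g * centralChar (fun _ : G => (1 : ℂ)) g - _)
    ring
  · rintro ⟨-, -, h3⟩
    refine ⟨isPBlock_blockOf _, Blocks.PrincipalSection.isPBlock_principalBlock,
      fun η hη χ hχ g => ?_⟩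
    -- `η = conj Λ ξ'`
    have h4 : SameBlock M (ξ : H → ℂ) (h.tw.tw η : H → ℂ) := by
      have h5 : SameBlock M (h.tw.tw (h.tw.conj.tw ξ) : H → ℂ) (h.tw.tw η : H → ℂ) :=
        h.tw.sameBlock hη
      rwa [h.tw.conj_tw] at h5
    have h5 := h3 (h.tw.tw η) h4 χ₀ hχ₀ g
    rw [e1, h.tw.tw_conj] at h5
    have h6 := memLocalIdeal_mul_left (h.conj_ring (M := M) g)
      (memLocalIdeal_sub h5 (hχ₀ g))
    have h7 : MemLocalIdeal M (centralChar (fun _ : G => (1 : ℂ)) g -
        centralChar (χ : G → ℂ) g) := hχ g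
    have h8 := memLocalIdeal_add h6 h7
    convert h8 using 1
    linear_combination (-(inducedCentralChar H (η : H → ℂ) g) +
      centralChar (fun _ : G => (1 : ℂ)) g) * h.mul_conj g

/-- **The twisted principal part on a section.** -/
theorem section_twist (h : Sec p Λ a H) (hM : IsPModular p M) (y : H) (hy : ¬ p ∣ orderOf y)
    (ζ : IrrCharacter G) [Decidable (InL M Λ (ζ : G → ℂ))] :
    blockPart (principalBlock M H) (fun c : H => conj (Λ c) * (ζ : G → ℂ) (a * (c : G))) y =
      if InL M Λ (ζ : G → ℂ) then conj (Λ y) * (ζ : G → ℂ) (a * (y : G)) else 0 := by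
  classical
  have hMp := isPrime_of_isPModular hM
  have := Fintype.ofFinite G
  have := Fintype.ofFinite H
  have : Finite (IrrCharacter G) := Core.finite_irr
  have := Fintype.ofFinite (IrrCharacter G)
  have : Finite (IrrCharacter H) := Core.finite_irr
  have := Fintype.ofFinite (IrrCharacter H)
  obtain ⟨χ₀, hχ₀⟩ := h.exists_inL hM
  have hB : IsPBlock M {ψ : IrrCharacter G | InL M Λ (ψ : G → ℂ)} := ⟨χ₀, hχ₀.block⟩
  have h1 := Blocks.CentralizerSum.sum_components hM a h.pel h.eq hB
    (A := {ξ : IrrCharacter H | h.tw.conj.tw ξ ∈ principalBlock M H})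
    (fun ξ => h.mem_iff hM ξ) y hy ζ
  have e1 : blockPart (principalBlock M H)
      (fun c : H => conj (Λ c) * (ζ : G → ℂ) (a * (c : G))) y =
      conj (Λ y) * ∑ ξ with ξ ∈ {ξ : IrrCharacter H | h.tw.conj.tw ξ ∈ principalBlock M H},
        classInner (fun c : H => (ζ : G → ℂ) (a * (c : G))) (ξ : H → ℂ) * (ξ : H → ℂ) y := by
    rw [blockPart_sum, Finset.mul_sum]
    refine Finset.sum_bij' (fun η _ => h.tw.tw η) (fun ξ _ => h.tw.conj.tw ξ) ?_ ?_ ?_ ?_ ?_
    · intro η hη
      refine Finset.mem_filter.2 ⟨Finset.mem_univ _, ?_⟩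
      show h.tw.conj.tw (h.tw.tw η) ∈ principalBlock M H
      rw [h.tw.tw_conj]
      exact (Finset.mem_filter.1 hη).2
    · intro ξ hξ
      exact Finset.mem_filter.2 ⟨Finset.mem_univ _, (Finset.mem_filter.1 hξ).2⟩
    · intro η _
      exact h.tw.tw_conj η
    · intro ξ _
      exact h.tw.conj_tw ξ
    · intro η _
      have h2 := h.tw.classInner (fun c : H => (ζ : G → ℂ) (a * (c : G))) (η : H → ℂ)
      rw [← h2]
      show _ = conj (Λ y) * (classInner _ (fun g : H => Λ g * (η : H → ℂ) g) *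
        (Λ y * (η : H → ℂ) y))
      linear_combination (-(classInner (fun c : H => (ζ : G → ℂ) (a * (c : G)))
        (fun g : H => Λ g * (η : H → ℂ) g) * (η : H → ℂ) y)) * h.mul_conj y
  rw [e1, h1]
  by_cases h3 : InL M Λ (ζ : G → ℂ)
  · rw [if_pos (show ζ ∈ {ψ : IrrCharacter G | InL M Λ (ψ : G → ℂ)} from h3), if_pos h3]
  · rw [if_neg (show ζ ∉ {ψ : IrrCharacter G | InL M Λ (ψ : G → ℂ)} from h3), if_neg h3, mul_zero]

end Section

section Main

variable {G : Type w} [Group G] [Fintype G] {C : Type v} [Group C] [Fintype C] {t : G} {z : C}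
  {N S : Subgroup (Subgroup.centralizer ({t} : Set G))} {π : N →* C} {M : Ideal AlgInt}
  [N.Normal] {l : Subgroup.centralizer ({t} : Set G) ⧸ N →* ℂ} {Λ : G → ℂ}

/-- `Λ` is a class function on `G` with roots of unity as values which is `l` on `C(t)`. -/
structure LHyp (l : Subgroup.centralizer ({t} : Set G) ⧸ N →* ℂ) (Λ : G → ℂ) : Prop where
  cl : IsClassFunction G Λ
  root : ∃ m : ℕ, 0 < m ∧ ∀ x, Λ x ^ m = 1
  eq : ∀ x : Subgroup.centralizer ({t} : Set G), Λ x = lamFun N l x

theorem exists_lhyp (hf : ∀ x y : Subgroup.centralizer ({t} : Set G), IsConj (x : G) (y : G) →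
    lamFun N l x = lamFun N l y) : ∃ Λ : G → ℂ, LHyp l Λ := by
  classical
  let Λ : G → ℂ := fun g =>
    if h : ∃ x : Subgroup.centralizer ({t} : Set G), IsConj g (x : G) then lamFun N l h.choose
    else 1
  have e1 : ∀ (g : G) (x : Subgroup.centralizer ({t} : Set G)), IsConj g (x : G) →
      Λ g = lamFun N l x := by
    intro g x hx
    have h : ∃ x : Subgroup.centralizer ({t} : Set G), IsConj g (x : G) := ⟨x, hx⟩
    show (if h : ∃ x : Subgroup.centralizer ({t} : Set G), IsConj g (x : G) then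
      lamFun N l h.choose else 1) = _
    rw [dif_pos h]
    exact hf _ _ (h.choose_spec.symm.trans hx)
  have e2 : ∀ g : G, (¬ ∃ x : Subgroup.centralizer ({t} : Set G), IsConj g (x : G)) → Λ g = 1 :=
    fun g h => dif_neg h
  refine ⟨Λ, ?_, ⟨N.index, Nat.pos_of_ne_zero Subgroup.index_ne_zero_of_finite, ?_⟩,
    fun x => e1 x x (IsConj.refl _)⟩
  · intro g k
    have hgk : IsConj (k * g * k⁻¹) g := (isConj_iff.2 ⟨k, rfl⟩ : IsConj g (k * g * k⁻¹)).symm
    by_cases h : ∃ x : Subgroup.centralizer ({t} : Set G), IsConj g (x : G)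
    · obtain ⟨x, hx⟩ := h
      rw [e1 g x hx, e1 (k * g * k⁻¹) x (hgk.trans hx)]
    · rw [e2 g h, e2 (k * g * k⁻¹) fun ⟨x, hx⟩ => h ⟨x, hgk.symm.trans hx⟩]
  · intro g
    by_cases h : ∃ x : Subgroup.centralizer ({t} : Set G), IsConj g (x : G)
    · obtain ⟨x, hx⟩ := h
      rw [e1 g x hx, lamFun_pow]
    · rw [e2 g h, one_pow]

theorem lamFun_two {Γ : Type*} [Group Γ] [Finite Γ] {N : Subgroup Γ} [N.Normal]
    (hN : Odd N.index) (l : Γ ⧸ N →* ℂ) {a : Γ} (ha : ∃ k : ℕ, orderOf a = 2 ^ k) :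
    lamFun N l a = 1 := by
  obtain ⟨k, hk⟩ := ha
  have h1 : lamFun N l a ^ (2 ^ k) = 1 := by
    unfold lamFun
    rw [← map_pow, ← QuotientGroup.mk_pow, ← hk, pow_orderOf_eq_one, QuotientGroup.mk_one, map_one]
  have h2 := lamFun_pow l a
  have h3 : Nat.gcd (2 ^ k) N.index = 1 :=
    Nat.Coprime.pow_left _ (Nat.coprime_two_left.2 hN)
  have h4 := orderOf_dvd_of_pow_eq_one h1
  have h5 := orderOf_dvd_of_pow_eq_one h2
  have h6 := Nat.dvd_gcd h4 h5
  rw [h3] at h6
  exact orderOf_eq_one_iff.1 (Nat.dvd_one.1 h6)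

theorem tw_lamFun {Γ : Type*} [Group Γ] [Finite Γ] {N : Subgroup Γ} [N.Normal]
    (l : Γ ⧸ N →* ℂ) : Tw (lamFun N l) where
  mul := lamFun_mul l
  root := ⟨N.index, Nat.pos_of_ne_zero Subgroup.index_ne_zero_of_finite, lamFun_pow l⟩

/-- **The twisted principal part on `C(t)`.** -/
theorem principal_part_twist (H : FHyp t z N S π) (hM : IsPModular 2 M) (hL : LHyp l Λ)
    (X : IrrCharacter G) [Decidable (InL M Λ (X : G → ℂ))]
    (x : Subgroup.centralizer ({t} : Set G)) (hx : t ∈ Subgroup.zpowers (x : G)) :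
    blockPart (principalBlock M (Subgroup.centralizer ({t} : Set G)))
      (fun y : Subgroup.centralizer ({t} : Set G) => conj (lamFun N l y) * (X : G → ℂ) y) x =
      if InL M Λ (X : G → ℂ) then conj (lamFun N l x) * (X : G → ℂ) x else 0 := by
  have : Fact (Nat.Prime 2) := ⟨Nat.prime_two⟩
  have hXc : IsClassFunction G (X : G → ℂ) := Core.isIrr_isClassFunction X.2
  obtain ⟨a, hpp⟩ := Blocks.SecondMain.exists_isPPart Nat.prime_two x
  obtain ⟨y, rfl, hc, hord, hy⟩ := hpp
  -- in `G`
  have hordG : ∃ k : ℕ, orderOf (a : G) = 2 ^ k := by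
    obtain ⟨k, hk⟩ := hord
    exact ⟨k, by rw [Subgroup.orderOf_coe, hk]⟩
  have hcG : Commute (a : G) (y : G) := congrArg Subtype.val hc.eq
  have hyG : ¬ 2 ∣ orderOf (y : G) := by rwa [Subgroup.orderOf_coe]
  have hta : t ∈ Subgroup.zpowers (a : G) :=
    (mem_zpowers_iff_of_isPPart (u := ((a * y : Subgroup.centralizer ({t} : Set G)) : G)) H.t_mul_t
      ⟨(y : G), by rw [Subgroup.coe_mul], hcG, hordG, hyG⟩).1 hx
  have hle : Subgroup.centralizer ({(a : G)} : Set G) ≤ Subgroup.centralizer ({t} : Set G) :=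
    InvCent.centralizer_le hta
  have hyC : y ∈ Subgroup.centralizer ({a} : Set (Subgroup.centralizer ({t} : Set G))) := by
    rw [Subgroup.mem_centralizer_singleton_iff]
    exact hc.eq.symm
  have hla : lamFun N l a = 1 := lamFun_two H.ad.odd_index_N l hord
  -- the isomorphism
  let e : Subgroup.centralizer ({a} : Set (Subgroup.centralizer ({t} : Set G))) ≃*
      Subgroup.centralizer ({(a : G)} : Set G) :=
    { toFun := fun c => ⟨((c : Subgroup.centralizer ({t} : Set G)) : G), by
        rw [Subgroup.mem_centralizer_singleton_iff]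
        exact congrArg Subtype.val (Subgroup.mem_centralizer_singleton_iff.1 c.2)⟩
      invFun := fun c => ⟨⟨(c : G), hle c.2⟩, by
        rw [Subgroup.mem_centralizer_singleton_iff]
        exact Subtype.ext (Subgroup.mem_centralizer_singleton_iff.1 c.2)⟩
      left_inv := fun c => rfl
      right_inv := fun c => rfl
      map_mul' := fun c d => rfl }
  have hS : Sec 2 Λ (a : G) (Subgroup.centralizer ({(a : G)} : Set G)) :=
    { cl := hL.cl
      root := hL.root
      pel := hordG
      eq := rfl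
      mul := fun u hu v hv => by
        have h1 := hL.eq ⟨u, hle hu⟩
        have h2 := hL.eq ⟨v, hle hv⟩
        have h3 := hL.eq (⟨u, hle hu⟩ * ⟨v, hle hv⟩)
        rw [lamFun_mul, ← h1, ← h2] at h3
        exact h3 }
  have hcl : IsClassFunction (Subgroup.centralizer ({t} : Set G))
      (fun y : Subgroup.centralizer ({t} : Set G) =>
        conj (lamFun N l y) * (X : G → ℂ) y) := fun g k => by
    show conj (lamFun N l (k * g * k⁻¹)) * (X : G → ℂ) ((k : G) * (g : G) * (k : G)⁻¹) =
      conj (lamFun N l g) * (X : G → ℂ) g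
    rw [lamFun_isClassFunction l g k, hXc (g : G) (k : G)]
  have h1 := section_part hM a hord rfl hcl ⟨y, hyC⟩ (by rwa [Subgroup.orderOf_mk])
  have h2 := blockPart_equiv (M := M) e
    (fun c : Subgroup.centralizer ({(a : G)} : Set G) =>
      conj (Λ c) * (X : G → ℂ) ((a : G) * (c : G))) ⟨y, hyC⟩
  have h3 := section_twist hS hM (e ⟨y, hyC⟩) (by
    rw [MulEquiv.orderOf_eq, Subgroup.orderOf_mk]; exact hy) X
  have h4 : (fun c : Subgroup.centralizer ({a} : Set (Subgroup.centralizer ({t} : Set G))) =>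
      (fun y : Subgroup.centralizer ({t} : Set G) =>
        conj (lamFun N l y) * (X : G → ℂ) y) (a * (c : Subgroup.centralizer ({t} : Set G)))) =
      fun x => (fun c : Subgroup.centralizer ({(a : G)} : Set G) =>
      conj (Λ c) * (X : G → ℂ) ((a : G) * (c : G))) (e x) := by
    funext c
    show conj (lamFun N l (a * (c : Subgroup.centralizer ({t} : Set G)))) * _ =
      conj (Λ ((c : Subgroup.centralizer ({t} : Set G)) : G)) * _
    rw [lamFun_mul, hla, one_mul, hL.eq]
    rfl
  rw [h4] at h1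
  rw [h1, h2, h3]
  have h5 : conj (Λ ((e ⟨y, hyC⟩ : Subgroup.centralizer ({(a : G)} : Set G)) : G)) =
      conj (lamFun N l (a * y)) := by
    rw [lamFun_mul, hla, one_mul, ← hL.eq]
    rfl
  rw [h5]
  rfl

theorem classInner_FIndL (f : C → ℂ) {X : G → ℂ} (hX : IsClassFunction G X)
    [Fintype (Subgroup.centralizer ({t} : Set G))] :
    classInner (FIndL M l π f) X = classInner (hat M N (fun x => f (π x)))
      (blockPart (principalBlock M (Subgroup.centralizer ({t} : Set G)))
      (fun y : Subgroup.centralizer ({t} : Set G) => conj (lamFun N l y) * X y)) := by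
  have e0 : (inferInstance : Fintype (Subgroup.centralizer ({t} : Set G))) = Fintype.ofFinite _ :=
    Subsingleton.elim _ _
  unfold FIndL
  rw [← e0, classInner_indFun_left _ _ hX, ← classInner_blockPart, blockPart_hat,
    Core.classInner_def, Core.classInner_def]
  congr 1
  refine Finset.sum_congr rfl fun x _ => ?_
  rw [map_mul, Complex.conj_conj]
  ring

/-- Characters which are not in the twisted block. -/
theorem FIndL_eq_zero (H : FHyp t z N S π) (hM : IsPModular 2 M) (hL : LHyp l Λ)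
    (X : IrrCharacter G) (hX : ¬ InL M Λ (X : G → ℂ)) {f : C → ℂ}
    (hf0 : ∀ c, f c ≠ 0 → z ∈ Subgroup.zpowers c) :
    classInner (FIndL M l π f) (X : G → ℂ) = 0 := by
  classical
  let _ : Fintype (Subgroup.centralizer ({t} : Set G)) := Fintype.ofFinite _
  rw [classInner_FIndL f (Core.isIrr_isClassFunction X.2), Core.classInner_def,
    Finset.sum_eq_zero, mul_zero]
  intro x _
  by_cases h0 : hat M N (fun x => f (π x)) x = 0
  · rw [h0, zero_mul]
  · rw [principal_part_twist H hM hL X x (supp_hat H hM hf0 x h0), if_neg hX,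
      map_zero, mul_zero]

/-- **The values of a character of the twisted block.** -/
theorem exists_FL_irr (H : FHyp t z N S π) (hM : IsPModular 2 M) (hL : LHyp l Λ)
    (X : IrrCharacter G) (hX : InL M Λ (X : G → ℂ)) :
    ∃ F : C → ℂ, Prin M F ∧
      (∀ n : N, z ∈ Subgroup.zpowers (π n) →
        (X : G → ℂ) ((n : Subgroup.centralizer ({t} : Set G)) : G) = F (π n)) ∧
      ∀ f : C → ℂ, (∀ c, f c ≠ 0 → z ∈ Subgroup.zpowers c) →
        classInner (FIndL M l π f) (X : G → ℂ) = classInner f F := by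
  classical
  let _ : Fintype (Subgroup.centralizer ({t} : Set G)) := Fintype.ofFinite _
  have := Fintype.ofFinite N
  obtain ⟨F, hF1, hF2⟩ := exists_of_blockPart hM H.surj H.odd_ker
    (H.ad.prin_res hM (prin_blockPart (M := M)
      (fun y : Subgroup.centralizer ({t} : Set G) => conj (lamFun N l y) * (X : G → ℂ) y)))
  refine ⟨F, hF1, fun n hn => ?_, fun f hf0 => ?_⟩
  · rw [← hF2 n, principal_part_twist H hM hL X _ (H.mem_zpowers_map.2 hn), if_pos hX,
      lamFun_of_mem l n.2, map_one, one_mul]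
  · rw [classInner_FIndL f (Core.isIrr_isClassFunction X.2), classInner_hat, blockPart_idem,
      ← classInner_comp π H.surj f F]
    congr 1
    funext n
    exact hF2 n

/-- The same for the constituents of the twisted lifts, up to sign. -/
theorem exists_FL (H : FHyp t z N S π) (hM : IsPModular 2 M) (hL : LHyp l Λ) {X : G → ℂ}
    (hX : SignedIrr X) {f₀ : C → ℂ} (hf₀ : ∀ c, f₀ c ≠ 0 → z ∈ Subgroup.zpowers c)
    (h0 : classInner (FIndL M l π f₀) X ≠ 0) :
    ∃ F : C → ℂ, Prin M F ∧
      (∀ n : N, z ∈ Subgroup.zpowers (π n) →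
        X ((n : Subgroup.centralizer ({t} : Set G)) : G) = F (π n)) ∧
      ∀ f : C → ℂ, (∀ c, f c ≠ 0 → z ∈ Subgroup.zpowers c) →
        classInner (FIndL M l π f) X = classInner f F := by
  rcases hX with hX | hX
  · have h1 : InL M Λ X := by
      by_contra hcon
      exact h0 (FIndL_eq_zero H hM hL ⟨X, hX⟩ hcon hf₀)
    exact exists_FL_irr H hM hL ⟨X, hX⟩ h1
  · have h1 : InL M Λ (-X) := by
      by_contra hcon
      apply h0
      have h2 := FIndL_eq_zero H hM hL ⟨-X, hX⟩ hcon hf₀
      have h3 : classInner (FIndL M l π f₀) (-X) = - classInner (FIndL M l π f₀) X :=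
        Core.classInner_neg_right _ _
      change classInner (FIndL M l π f₀) (-X) = 0 at h2
      rw [h3, neg_eq_zero] at h2
      exact h2
    obtain ⟨F, hF1, hF2, hF3⟩ := exists_FL_irr H hM hL ⟨-X, hX⟩ h1
    refine ⟨-F, ?_, fun n hn => ?_, fun f hf0 => ?_⟩
    · have h2 : (-F) = (-1 : ℂ) • F := by rw [neg_one_smul]
      rw [h2]
      exact Prin.smul _ hF1
    · have h2 : (-X) ((n : Subgroup.centralizer ({t} : Set G)) : G) = F (π n) := hF2 n hn
      rw [Pi.neg_apply] at h2 ⊢
      rw [← h2, neg_neg]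
    · have h2 : classInner (FIndL M l π f) (-X) = classInner f F := hF3 f hf0
      have h3 : classInner (FIndL M l π f) (-X) = - classInner (FIndL M l π f) X :=
        Core.classInner_neg_right _ _
      have h4 : classInner f (-F) = - classInner f F := Core.classInner_neg_right _ _
      rw [h4, ← h2, h3, neg_neg]

end Main

end Cfsg.Agent.Classification.QDW.Fld
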