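import Mathlib
import Cfsg.Agent.Classification.QDW.FldSD

/-!
# Values of functions of the span of the principal block from their inner products

`C` is a group as in `CHyp` with the data of the semidihedral case (`Gen`, `Chi`).  A function `F`
in the span of the principal block of `C` is determined on the elements having `t` as a power by its
inner products with `phi j` (`j` not divisible by `2 ^ (n - 1)`; all equal), `phi (2 ^ (n - 1))` and
`psi`.

* `Nums`: the inner products;
* `Nums.section_t`: the values on the `2`-section of `t`;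
* `Nums.on_T'`: the values on `T'`;
* `Nums.eval_one`, `Nums.eval_b`: all values, if the numbers for `phi j` are all equal, or are zero
  for `j` not divisible by `2 ^ (n - 1)`.
-/

set_option autoImplicit false
set_option linter.unusedSectionVars false

open Cfsg
open scoped ComplexConjugate

namespace Cfsg.Agent.Classification.QDW.Fld

open Cfsg.Agent.Characters Cfsg.Agent.Blocks.Local Cfsg.Agent.Blocks.Basic
  Cfsg.Agent.Classification.BGBlockB0 Cfsg.Agent.Classification.InvCent
  Cfsg.Agent.Classification.BGIsometry Cfsg.Agent.Classification.BGOrder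
  Cfsg.Agent.Classification.BGSplit Cfsg.Agent.Classification.InvCent.SDGram

universe v

section

variable {C : Type v} [Group C] [Fintype C] {t : C} {q : ℕ} {ε : ℤ} {Z T T' U : Subgroup C}
  {s s' u : C} {h : CHyp t q ε Z T T' U s s' u} {b : C →* ℂˣ} {θ : T' →* ℂˣ} {n : ℕ} {μ : U →* ℂˣ}
  {χ : T →* ℂˣ} {M : Ideal AlgInt}

/-- The inner products of `F` with the functions `phi j` and `psi`. -/
structure Nums (g : Gen h b θ n) (μ : U →* ℂˣ) (χ : T →* ℂˣ) (F : C → ℂ) (xθ xs xp : ℤ) :
    Prop where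
  fam : ∀ f ∈ g.Fam μ, classInner f F = xθ
  half : classInner (phi h μ θ (2 ^ (n - 1))) F = xs
  psi : classInner (psi h μ θ n χ) F = xp

/-- The inner products only depend on the values on the elements with `t` as a power. -/
theorem classInner_congr_supp {f F F' : C → ℂ} (hf : ∀ x, f x ≠ 0 → t ∈ Subgroup.zpowers x)
    (hF : ∀ x, t ∈ Subgroup.zpowers x → F x = F' x) : classInner f F = classInner f F' := by
  rw [Core.classInner_def, Core.classInner_def]
  congr 1
  refine Finset.sum_congr rfl fun x _ => ?_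
  by_cases h0 : f x = 0
  · rw [h0, zero_mul, zero_mul]
  · rw [hF x (hf x h0)]

theorem Nums.congr (g : Gen h b θ n) (c : Chi h b χ) (hD : DetHyp q ε T T' U s s' u 2 b)
    (hμ : ∃ v : U, μ v ≠ 1) {F F' : C → ℂ} {xθ xs xp : ℤ} (K : Nums g μ χ F xθ xs xp)
    (hF : ∀ x, t ∈ Subgroup.zpowers x → F x = F' x) : Nums g μ χ F' xθ xs xp := by
  refine ⟨fun f hf => ?_, ?_, ?_⟩
  · rw [← K.fam f hf]
    refine (classInner_congr_supp ?_ hF).symm
    obtain ⟨j, hj, rfl⟩ := hf
    exact fun x hx => g.phi_supp hμ j hx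
  · rw [← K.half]
    exact (classInner_congr_supp (fun x hx => g.phi_supp hμ _ hx) hF).symm
  · rw [← K.psi]
    exact (classInner_congr_supp (fun x hx => psi_supp g c hD hμ hx) hF).symm

theorem Nums.add {g : Gen h b θ n} {F F' : C → ℂ} {xθ xs xp yθ ys yp : ℤ}
    (K : Nums g μ χ F xθ xs xp) (K' : Nums g μ χ F' yθ ys yp) :
    Nums g μ χ (F + F') (xθ + yθ) (xs + ys) (xp + yp) := by
  refine ⟨fun f hf => ?_, ?_, ?_⟩
  · rw [Core.classInner_add_right, K.fam f hf, K'.fam f hf]; push_cast; ring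
  · rw [Core.classInner_add_right, K.half, K'.half]; push_cast; ring
  · rw [Core.classInner_add_right, K.psi, K'.psi]; push_cast; ring

theorem Nums.neg {g : Gen h b θ n} {F : C → ℂ} {xθ xs xp : ℤ}
    (K : Nums g μ χ F xθ xs xp) : Nums g μ χ (-F) (-xθ) (-xs) (-xp) := by
  refine ⟨fun f hf => ?_, ?_, ?_⟩
  · rw [Core.classInner_neg_right, K.fam f hf]; push_cast; ring
  · rw [Core.classInner_neg_right, K.half]; push_cast; ring
  · rw [Core.classInner_neg_right, K.psi]; push_cast; ring

/-- The sum over all `j` of `c j` times the inner product of `phi j`. -/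
theorem Nums.sum_phi {g : Gen h b θ n} {F : C → ℂ} {xθ xs xp : ℤ} (K : Nums g μ χ F xθ xs xp)
    (a : ℕ → ℂ) :
    classInner (fun x => ∑ j ∈ Finset.range (2 ^ n), a j * phi h μ θ j x) F =
      xθ * ∑ j ∈ Finset.range (2 ^ n), a j - xθ * a 0 + (xs - xθ) * a (2 ^ (n - 1)) := by
  have e2 : (fun x => ∑ j ∈ Finset.range (2 ^ n), a j * phi h μ θ j x) =
      ∑ j ∈ Finset.range (2 ^ n), a j • phi h μ θ j := by
    funext x
    simp only [Finset.sum_apply, Pi.smul_apply, smul_eq_mul]
  rw [e2, Core.classInner_sum_left]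
  have hhalf : 2 ^ (n - 1) < 2 ^ n := by
    have := g.three_le
    exact Nat.pow_lt_pow_right (by norm_num) (by omega)
  have h0 : (0 : ℕ) ≠ 2 ^ (n - 1) := (by positivity : (0 : ℕ) < 2 ^ (n - 1)).ne
  have hval : ∀ j ∈ Finset.range (2 ^ n), classInner (phi h μ θ j) F =
      xθ + (if j = 0 then -(xθ : ℂ) else 0) + (if j = 2 ^ (n - 1) then (xs : ℂ) - xθ else 0) := by
    intro j hj
    rw [Finset.mem_range] at hj
    by_cases hj0 : j = 0
    · subst hj0
      rw [g.phi_eq_zero ((g.pow_eq_one_iff 0).2 (dvd_zero _)), if_pos rfl, if_neg h0,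
        Core.classInner_zero_left]
      ring
    by_cases hj1 : j = 2 ^ (n - 1)
    · rw [hj1, if_neg h0.symm, if_pos rfl, K.half]
      ring
    rw [if_neg hj0, if_neg hj1, add_zero, add_zero]
    refine K.fam _ (g.phi_mem_Fam ?_)
    rintro ⟨c, hc⟩
    have h3 := g.half_add
    have h4 : (0 : ℕ) < 2 ^ (n - 1) := by positivity
    have h5 : c < 2 := by
      by_contra h6
      have : 2 ^ (n - 1) * 2 ≤ 2 ^ (n - 1) * c := Nat.mul_le_mul_left _ (by omega)
      omega
    interval_cases c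
    · exact hj0 (by rw [hc, mul_zero])
    · exact hj1 (by rw [hc, mul_one])
  have e4 : ∀ j ∈ Finset.range (2 ^ n), classInner (a j • phi h μ θ j) F =
      xθ * a j + (if j = 0 then -(xθ * a 0 : ℂ) else 0) +
        (if j = 2 ^ (n - 1) then ((xs : ℂ) - xθ) * a (2 ^ (n - 1)) else 0) := by
    intro j hj
    rw [Core.classInner_smul_left, hval j hj]
    by_cases hj0 : j = 0
    · subst hj0
      rw [if_pos rfl, if_pos rfl, if_neg h0, if_neg h0]
      ring
    by_cases hj1 : j = 2 ^ (n - 1)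
    · rw [if_neg hj0, if_neg hj0, if_pos hj1, if_pos hj1, hj1]
      ring
    rw [if_neg hj0, if_neg hj0, if_neg hj1, if_neg hj1]
    ring
  rw [Finset.sum_congr rfl e4, Finset.sum_add_distrib, Finset.sum_add_distrib, ← Finset.mul_sum,
    Finset.sum_ite_eq', Finset.sum_ite_eq',
    if_pos (Finset.mem_range.2 (by positivity)), if_pos (Finset.mem_range.2 hhalf)]
  ring

/-- The inner product with a function supported on the `2`-section of `t`. -/
theorem classInner_of_section (hμ : ∃ v : U, μ v ≠ 1) {F : C → ℂ} {a₀ b₀ : ℂ}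
    (hV : ∀ y, Odd (orderOf y) → F (t * y) = (a₀ * Torus.R T h.base μ (fun _ => 1) y +
      b₀ * Torus.R T' h.base μ (fun _ => 1) y) / 2) {f : C → ℂ}
    (hf : ∀ x, f x ≠ 0 → Odd (orderOf (t * x))) :
    classInner f F = classInner f (fun x => (a₀ * Torus.R T h.base μ (fun _ => 1) x +
      b₀ * Torus.R T' h.base μ (fun _ => 1) x) / 2) := by
  rw [Core.classInner_def, Core.classInner_def]
  congr 1
  refine Finset.sum_congr rfl fun x _ => ?_
  by_cases h0 : f x = 0
  · rw [h0, zero_mul, zero_mul]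
  · have h1 := hV (t * x) (hf x h0)
    rw [← mul_assoc, h.tt, one_mul] at h1
    rw [h1, h.torus.R_one_mul h.torus' rfl h.base hμ h.exhaust h.t_mem,
      h.torus'.R_one_mul h.torus (by ring) h.base hμ h.exh' h.t_mem]

/-- **The values on the `2`-section of `t`.** -/
theorem Nums.section_t {g : Gen h b θ n} {F : C → ℂ} {xθ xs xp : ℤ}
    (K : Nums g μ χ F xθ xs xp) (c : Chi h b χ) (hD : DetHyp q ε T T' U s s' u 2 b)
    (hμ : ∃ v : U, μ v ≠ 1) (hM : IsPModular 2 M) (hF : Prin M F) {y : C}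
    (hy : Odd (orderOf y)) :
    F (t * y) = ((2 * xp - xs : ℤ) * Torus.R T h.base μ (fun _ => 1) y +
      (2 * xθ - xs : ℤ) * Torus.R T' h.base μ (fun _ => 1) y) / 2 := by
  obtain ⟨a₀, b₀, hab⟩ := Prin.eval h hM hμ hF h.t_mem
  -- the coefficient `b`
  have hb : b₀ = (2 * xθ - xs : ℤ) := by
    have e1 := classInner_of_section (h := h) hμ hab (f := Torus.R T' h.base μ (sec θ n))
      (fun x hx => h.support_T' hμ (P := fun x => Odd (orderOf (t * x))) h.odd_conj h.odd_ZU
        (fun _ hy hy1 => g.sec_odd hy hy1) hx)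
    rw [h.inner_T' hμ, g.ssum_sec, inv_mul_cancel₀ Core.card_ne_zero_complex, mul_one, g.R_sec,
      K.sum_phi, Finset.sum_neg_distrib, g.sum_neg_one, g.even_half.neg_one_pow] at e1
    have e5 := congrArg conj e1
    rw [Complex.conj_conj] at e5
    rw [← e5]
    push_cast
    simp only [map_sub, map_add, map_mul, map_neg, map_intCast, map_one, map_zero, pow_zero]
    ring
  -- the coefficient `a`
  have ha : a₀ = (2 * xp - xs : ℤ) := by
    have e1 := classInner_of_section (h := h) hμ hab (f := Torus.R T h.base μ (gT s χ))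
      (fun x hx => RT_supp g c hD hμ hx)
    rw [h.inner_T hμ, c.ssum_gT hD, inv_mul_cancel₀ Core.card_ne_zero_complex, mul_one] at e1
    have e2 := K.psi
    have e3 : InvCent.psi h μ θ n χ = (1 / 2 : ℂ) • (Torus.R T h.base μ (gT s χ) +
        phi h μ θ (2 ^ (n - 1))) := rfl
    rw [e3, Core.classInner_smul_left, Core.classInner_add_left, e1, K.half] at e2
    have e4 : conj a₀ = 2 * xp - xs := by linear_combination 2 * e2
    have e5 := congrArg conj e4
    rw [Complex.conj_conj] at e5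
    rw [e5, map_sub, map_mul, map_ofNat, map_intCast, map_intCast]
    push_cast
    ring
  rw [hab y hy, ha, hb]
  rfl

/-- **The values on `T'`.** -/
theorem Nums.on_T' {g : Gen h b θ n} {F : C → ℂ} {xθ xs xp : ℤ}
    (K : Nums g μ χ F xθ xs xp) (hμ : ∃ v : U, μ v ≠ 1) (hM : IsPModular 2 M) (hF : Prin M F)
    {x : C} (hx : x ∈ T') (hx1 : lin θ x ≠ 1) (hx2 : lin θ x ≠ -1) :
    F x = xθ - lin θ x ^ 2 ^ (n - 1) * (xs - xθ) := by
  have e1 : classInner (Torus.R T' h.base μ (secl θ n (lin θ x))) F =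
      classInner (Torus.R T' h.base μ (secl θ n (lin θ x))) (F x • (1 : C → ℂ)) := by
    rw [Core.classInner_def, Core.classInner_def]
    congr 1
    refine Finset.sum_congr rfl fun y _ => ?_
    by_cases h0 : Torus.R T' h.base μ (secl θ n (lin θ x)) y = 0
    · rw [h0, zero_mul, zero_mul]
    · obtain ⟨c, hc1, hc2⟩ := g.secl_supp hμ hx hx1 hx2 h0
      rw [Pi.smul_apply, Pi.one_apply, smul_eq_mul, mul_one, ← hF.isClass y c]
      rw [hF.eq_of_lin g hM hc1 hx hc2 (by rw [hc2]; exact hx1) (by rw [hc2]; exact hx2)]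
  rw [Core.classInner_smul_right, h.inner_T'_one hμ, g.ssum_secl hx hx1,
    inv_mul_cancel₀ Core.card_ne_zero_complex, mul_one, g.R_secl, K.sum_phi,
    Finset.sum_neg_distrib, g.sum_inv hx hx1] at e1
  have h3 : lin θ x ^ 2 ^ (n - 1) * lin θ x ^ 2 ^ (n - 1) = 1 := by
    rw [← pow_add, g.half_add, g.lin_pow hx]
  have hlh : ((lin θ x)⁻¹) ^ 2 ^ (n - 1) = lin θ x ^ 2 ^ (n - 1) := by
    rw [inv_pow]
    exact inv_eq_of_mul_eq_one_left h3
  have hlr : conj (lin θ x ^ 2 ^ (n - 1)) = lin θ x ^ 2 ^ (n - 1) := by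
    rcases mul_self_eq_one_iff.1 h3 with h4 | h4 <;> rw [h4] <;> simp
  rw [hlh] at e1
  have e5 := congrArg conj e1
  rw [Complex.conj_conj] at e5
  rw [← e5]
  simp only [map_sub, map_add, map_mul, map_neg, map_intCast, map_one, map_zero, pow_zero, hlr]
  ring

/-- All values, if the inner products with all `phi j` are equal. -/
theorem Nums.eval_one {g : Gen h b θ n} {F : C → ℂ} {xθ xp : ℤ}
    (K : Nums g μ χ F xθ xθ xp) (c : Chi h b χ) (hD : DetHyp q ε T T' U s s' u 2 b)
    (hμ : ∃ v : U, μ v ≠ 1) (hM : IsPModular 2 M) (hF : Prin M F) {x : C}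
    (hx : t ∈ Subgroup.zpowers x) :
    F x = ((2 * xp - xθ : ℤ) * Torus.R T h.base μ (fun _ => 1) x +
      (xθ : ℤ) * Torus.R T' h.base μ (fun _ => 1) x) / 2 := by
  have h1 := eval_all g c hμ hF.isClass (β := fun _ => 1) (fun _ _ => rfl) (fun _ _ => rfl)
    (a₀ := (2 * xp - xθ : ℤ)) (b₀ := (2 * xθ - xθ : ℤ))
    (fun y hy => K.section_t c hD hμ hM hF hy)
    (fun y hy h1 h2 => by rw [K.on_T' hμ hM hF hy h1 h2]; push_cast; ring) hx
  rw [h1, one_mul]
  push_cast
  ring

/-- The values of the sign character on the `2`-section of `t`. -/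
theorem b_section (h : CHyp t q ε Z T T' U s s' u) (hD : DetHyp q ε T T' U s s' u 2 b) {y : C}
    (hy : Odd (orderOf (t * y))) : ((b y : ℂˣ) : ℂ) = 1 := by
  have hbz : b t = 1 := by
    refine hD.b_T₀ t (h.Z_le_T h.t_mem) ?_
    rw [h.Z_central t h.t_mem s, mul_inv_cancel_right, h.tt]
  have h1 : b (t * y) = b y := by rw [map_mul, hbz, one_mul]
  have h2 : orderOf (b (t * y)) ∣ orderOf (t * y) := orderOf_map_dvd b _
  have h3 : orderOf (b (t * y)) ∣ 2 := orderOf_dvd_of_pow_eq_one (hD.pow_eq_one _)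
  have h4 : orderOf (b (t * y)) = 1 :=
    Nat.eq_one_of_dvd_coprimes (Nat.coprime_two_left.2 hy) h3 h2
  rw [orderOf_eq_one_iff, h1] at h4
  rw [h4, Units.val_one]

/-- All values, if the inner products with the `phi j`, `j` not divisible by `2 ^ (n - 1)`, are
zero. -/
theorem Nums.eval_b {g : Gen h b θ n} {F : C → ℂ} {xs xp : ℤ}
    (K : Nums g μ χ F 0 xs xp) (c : Chi h b χ) (hD : DetHyp q ε T T' U s s' u 2 b)
    (hμ : ∃ v : U, μ v ≠ 1) (hM : IsPModular 2 M) (hF : Prin M F) {x : C}
    (hx : t ∈ Subgroup.zpowers x) :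
    F x = ((b x : ℂˣ) : ℂ) * (((2 * xp - xs : ℤ) * Torus.R T h.base μ (fun _ => 1) x -
      (xs : ℤ) * Torus.R T' h.base μ (fun _ => 1) x) / 2) := by
  have cb : IsClassFunction C (fun y => ((b y : ℂˣ) : ℂ)) := by
    intro y w
    show ((b (w * y * w⁻¹) : ℂˣ) : ℂ) = ((b y : ℂˣ) : ℂ)
    rw [map_mul, map_mul, map_inv, mul_inv_cancel_comm]
  have h1 := eval_all g c hμ hF.isClass cb (fun y hy => b_section h hD hy)
    (a₀ := (2 * xp - xs : ℤ)) (b₀ := (2 * 0 - xs : ℤ))
    (fun y hy => K.section_t c hD hμ hM hF hy)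
    (fun y hy h1 h2 => by
      rw [K.on_T' hμ hM hF hy h1 h2, ← lin_pow_hom _ _ hy, g.lin_half hy]; push_cast; ring) hx
  rw [h1]
  push_cast
  ring

end

end Cfsg.Agent.Classification.QDW.Fld
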