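import Mathlib

/-!
# The Gram matrix argument without the trivial character, integer vectors

Integer vectors `Φ i` (at least three) of norm `3` with mutual inner products `2`, `S` of norm `4`,
`P` of norm `3`, `(Φ i, S) = 2`, `(P, Φ i) = 1`, `(P, S) = 2`, all orthogonal to a vector `d` without
zero entries.  Then `Φ i = a + b + L i`, `S = a + b + r₁ + r₂`, `P = a + r₁ + g` with signed unit
vectors.
-/

set_option autoImplicit false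
set_option linter.unusedSectionVars false
set_option linter.unusedSimpArgs false

namespace Cfsg.Agent.Classification.QDW.GramInt

open Matrix

variable {ι : Type*} [Fintype ι] [DecidableEq ι]

/-- Signed unit vectors. -/
def U (v : ι → ℤ) : Prop := ∃ i, v = Pi.single i 1 ∨ v = Pi.single i (-1)

theorem dot_self_nonneg (v : ι → ℤ) : 0 ≤ v ⬝ᵥ v :=
  Finset.sum_nonneg fun i _ => mul_self_nonneg (v i)

theorem eq_zero_of_dot {v : ι → ℤ} (h : v ⬝ᵥ v = 0) : v = 0 := by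
  funext i
  have h1 := (Finset.sum_eq_zero_iff_of_nonneg (fun i _ => mul_self_nonneg (v i))).1 h i
    (Finset.mem_univ i)
  simpa using mul_self_eq_zero.1 h1

theorem U.norm {v : ι → ℤ} (h : U v) : v ⬝ᵥ v = 1 := by
  obtain ⟨i, rfl | rfl⟩ := h <;> simp

theorem U.neg {v : ι → ℤ} (h : U v) : U (-v) := by
  obtain ⟨i, rfl | rfl⟩ := h
  · exact ⟨i, Or.inr (by rw [← Pi.single_neg])⟩
  · exact ⟨i, Or.inl (by rw [← Pi.single_neg, neg_neg])⟩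

theorem U.dot_ne {v d : ι → ℤ} (h : U v) (hd : ∀ i, d i ≠ 0) : v ⬝ᵥ d ≠ 0 := by
  obtain ⟨i, rfl | rfl⟩ := h <;> simp [hd i]

/-- A vector of norm between one and three has a signed unit vector. -/
theorem peel {v : ι → ℤ} (h0 : 0 < v ⬝ᵥ v) (h4 : v ⬝ᵥ v < 4) : ∃ r, U r ∧ v ⬝ᵥ r = 1 := by
  obtain ⟨i, hi⟩ : ∃ i, v i ≠ 0 := by
    by_contra hcon
    push Not at hcon
    rw [show v = 0 from funext hcon] at h0
    simp at h0
  have h1 : v i * v i ≤ v ⬝ᵥ v :=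
    Finset.single_le_sum (f := fun i => v i * v i) (fun i _ => mul_self_nonneg (v i))
      (Finset.mem_univ i)
  have h2 : v i = 1 ∨ v i = -1 := by
    have h3 : v i < 2 := by nlinarith
    have h4 : -2 < v i := by nlinarith
    omega
  rcases h2 with h2 | h2
  · exact ⟨Pi.single i 1, ⟨i, Or.inl rfl⟩, by simp [h2]⟩
  · exact ⟨Pi.single i (-1), ⟨i, Or.inr rfl⟩, by simp [h2]⟩

theorem sub_norm {v r : ι → ℤ} (hr : U r) (h : v ⬝ᵥ r = 1) :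
    (v - r) ⬝ᵥ (v - r) = v ⬝ᵥ v - 1 := by
  rw [sub_dotProduct, dotProduct_sub, dotProduct_sub, dotProduct_comm r v, h, hr.norm]
  ring

theorem U_of_norm {v : ι → ℤ} (h : v ⬝ᵥ v = 1) : U v := by
  obtain ⟨r, hr, h1⟩ := peel (v := v) (by omega) (by omega)
  have h2 := eq_zero_of_dot (v := v - r) (by rw [sub_norm hr h1]; omega)
  rw [sub_eq_zero.1 h2]
  exact hr

/-- Two signed unit vectors, one contained in `f`, the other orthogonal to `f`, are orthogonal. -/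
theorem U.dot {v w : ι → ℤ} (hv : U v) (hw : U w) : v ⬝ᵥ w = 0 ∨ v = w ∨ v = -w := by
  obtain ⟨i, hv⟩ := hv
  obtain ⟨j, hw⟩ := hw
  by_cases hij : i = j
  · subst hij
    right
    rcases hv with rfl | rfl <;> rcases hw with rfl | rfl <;> simp [← Pi.single_neg]
  · left
    rcases hv with rfl | rfl <;> rcases hw with rfl | rfl <;> simp [hij, Ne.symm hij]

theorem U.ortho {f v w : ι → ℤ} (hv : U v) (hw : U w) (h1 : f ⬝ᵥ v = 1) (h0 : f ⬝ᵥ w = 0) :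
    v ⬝ᵥ w = 0 := by
  rcases hv.dot hw with h | h | h
  · exact h
  · rw [h, h0] at h1; omega
  · rw [h, dotProduct_neg, h0] at h1; omega

theorem U.eq_of {v w : ι → ℤ} (hv : U v) (hw : U w) (h : v ⬝ᵥ w = 1) : v = w := by
  rcases hv.dot hw with h1 | h1 | h1
  · omega
  · exact h1
  · rw [h1, neg_dotProduct, hw.norm] at h; omega

/-- Norm two. -/
theorem split_two {v : ι → ℤ} (h : v ⬝ᵥ v = 2) :
    ∃ a b, U a ∧ U b ∧ v = a + b ∧ a ⬝ᵥ b = 0 := by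
  obtain ⟨a, ha, h1⟩ := peel (v := v) (by omega) (by omega)
  refine ⟨a, v - a, ha, U_of_norm (by rw [sub_norm ha h1]; omega), by abel, ?_⟩
  rw [dotProduct_sub, dotProduct_comm, h1, ha.norm, sub_self]

/-- The Gram data. -/
structure Hyp {Θ : Type*} [DecidableEq Θ] (d : ι → ℤ) (Φ : Θ → ι → ℤ) (S P : ι → ℤ) : Prop where
  ne : ∀ i, d i ≠ 0
  oneΦ : ∀ i, Φ i ⬝ᵥ d = 0
  oneS : S ⬝ᵥ d = 0
  oneP : P ⬝ᵥ d = 0
  ΦΦ : ∀ i j, Φ i ⬝ᵥ Φ j = if i = j then 3 else 2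
  ΦS : ∀ i, Φ i ⬝ᵥ S = 2
  SS : S ⬝ᵥ S = 4
  PP : P ⬝ᵥ P = 3
  PΦ : ∀ i, P ⬝ᵥ Φ i = 1
  PS : P ⬝ᵥ S = 2

variable {Θ : Type*} [DecidableEq Θ] {d : ι → ℤ} {Φ : Θ → ι → ℤ} {S P : ι → ℤ}

theorem Hyp.ΦΦ_self (h : Hyp d Φ S P) (i : Θ) : Φ i ⬝ᵥ Φ i = 3 := by rw [h.ΦΦ, if_pos rfl]

theorem Hyp.ΦΦ_ne (h : Hyp d Φ S P) {i j : Θ} (hij : i ≠ j) : Φ i ⬝ᵥ Φ j = 2 := by
  rw [h.ΦΦ, if_neg hij]

/-- First step: four orthogonal signed unit vectors. -/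
theorem Hyp.exists_four (h : Hyp d Φ S P) {i j : Θ} (hij : i ≠ j) :
    ∃ a b c e : ι → ℤ, U a ∧ U b ∧ U c ∧ U e ∧ a ⬝ᵥ b = 0 ∧ a ⬝ᵥ c = 0 ∧ a ⬝ᵥ e = 0 ∧
      b ⬝ᵥ c = 0 ∧ b ⬝ᵥ e = 0 ∧ c ⬝ᵥ e = 0 ∧ Φ i = a + b + c ∧ Φ j = a + b + e := by
  have hii := h.ΦΦ_self i
  have hjj := h.ΦΦ_self j
  have hi := h.ΦΦ_ne hij
  have hj := h.ΦΦ_ne hij.symm
  -- the difference
  have key : ∃ c e : ι → ℤ, U c ∧ U e ∧ c ⬝ᵥ e = 0 ∧ Φ i - Φ j = c - e ∧ Φ i ⬝ᵥ c = 1 ∧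
      Φ i ⬝ᵥ e = 0 := by
    obtain ⟨c, e, hc, he, hce, hce0⟩ := split_two (v := Φ i - Φ j) (by
      rw [sub_dotProduct, dotProduct_sub, dotProduct_sub, hii, hjj, hi, hj]; norm_num)
    have h1 : Φ i ⬝ᵥ c + Φ i ⬝ᵥ e = 1 := by
      rw [← dotProduct_add, ← hce, dotProduct_sub, hii, hi]; norm_num
    have h2 : (Φ i - (Φ i ⬝ᵥ c) • c - (Φ i ⬝ᵥ e) • e) ⬝ᵥ (Φ i - (Φ i ⬝ᵥ c) • c - (Φ i ⬝ᵥ e) • e) =
        3 - (Φ i ⬝ᵥ c) ^ 2 - (Φ i ⬝ᵥ e) ^ 2 := by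
      simp only [sub_dotProduct, dotProduct_sub, smul_dotProduct, dotProduct_smul, hii, hc.norm,
        he.norm, hce0, dotProduct_comm e c, dotProduct_comm c (Φ i), dotProduct_comm e (Φ i),
        smul_eq_mul]
      ring
    have h3 := dot_self_nonneg (Φ i - (Φ i ⬝ᵥ c) • c - (Φ i ⬝ᵥ e) • e)
    rw [h2] at h3
    have h4 : (Φ i ⬝ᵥ c = 1 ∧ Φ i ⬝ᵥ e = 0) ∨ (Φ i ⬝ᵥ c = 0 ∧ Φ i ⬝ᵥ e = 1) := by
      generalize Φ i ⬝ᵥ c = x at *
      generalize Φ i ⬝ᵥ e = y at *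
      have h5 : y = 1 - x := by omega
      subst h5
      have h6 : -1 < x := by nlinarith
      have h7 : x < 2 := by nlinarith
      have : x = 0 ∨ x = 1 := by omega
      rcases this with rfl | rfl
      · right; omega
      · left; omega
    rcases h4 with ⟨h4, h5⟩ | ⟨h4, h5⟩
    · exact ⟨c, -e, hc, he.neg, by rw [dotProduct_neg, hce0, neg_zero], by rw [hce]; abel, h4,
        by rw [dotProduct_neg, h5, neg_zero]⟩
    · exact ⟨e, -c, he, hc.neg, by rw [dotProduct_neg, dotProduct_comm, hce0, neg_zero],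
        by rw [hce]; abel, h5, by rw [dotProduct_neg, h4, neg_zero]⟩
  obtain ⟨c, e, hc, he, hce, hsub, h1, h0⟩ := key
  obtain ⟨a, b, ha, hb, hab, hab0⟩ := split_two (v := Φ i - c) (by rw [sub_norm hc h1, hii]; rfl)
  have fa : (Φ i - c) ⬝ᵥ a = 1 := by
    rw [hab, add_dotProduct, ha.norm, dotProduct_comm b a, hab0]; rfl
  have fb : (Φ i - c) ⬝ᵥ b = 1 := by
    rw [hab, add_dotProduct, hb.norm, hab0]; rfl
  have fc : (Φ i - c) ⬝ᵥ c = 0 := by rw [sub_dotProduct, h1, hc.norm, sub_self]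
  have fe : (Φ i - c) ⬝ᵥ e = 0 := by rw [sub_dotProduct, h0, hce, sub_self]
  refine ⟨a, b, c, e, ha, hb, hc, he, hab0, ha.ortho hc fa fc, ha.ortho he fa fe,
    hb.ortho hc fb fc, hb.ortho he fb fe, hce, ?_, ?_⟩
  · rw [← hab]; abel
  · rw [← hab, show Φ j = Φ i - (Φ i - Φ j) by abel, hsub]; abel

/-- Bessel for four vectors. -/
theorem bessel_four {a b c e v : ι → ℤ} (ha : U a) (hb : U b) (hc : U c) (he : U e)
    (hab : a ⬝ᵥ b = 0) (hac : a ⬝ᵥ c = 0) (hae : a ⬝ᵥ e = 0) (hbc : b ⬝ᵥ c = 0)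
    (hbe : b ⬝ᵥ e = 0) (hce : c ⬝ᵥ e = 0) :
    (v - (v ⬝ᵥ a) • a - (v ⬝ᵥ b) • b - (v ⬝ᵥ c) • c - (v ⬝ᵥ e) • e) ⬝ᵥ
      (v - (v ⬝ᵥ a) • a - (v ⬝ᵥ b) • b - (v ⬝ᵥ c) • c - (v ⬝ᵥ e) • e) =
      v ⬝ᵥ v - (v ⬝ᵥ a) ^ 2 - (v ⬝ᵥ b) ^ 2 - (v ⬝ᵥ c) ^ 2 - (v ⬝ᵥ e) ^ 2 := by
  simp only [sub_dotProduct, dotProduct_sub, smul_dotProduct, dotProduct_smul, ha.norm, hb.norm,
    hc.norm, he.norm, hab, hac, hae, hbc, hbe, hce, dotProduct_comm b a, dotProduct_comm c a,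
    dotProduct_comm e a, dotProduct_comm c b, dotProduct_comm e b, dotProduct_comm e c,
    dotProduct_comm a v, dotProduct_comm b v, dotProduct_comm c v, dotProduct_comm e v,
    smul_eq_mul]
  ring

/-- No vector of the family is `a + c + e`. -/
theorem Hyp.not_mixed (h : Hyp d Φ S P) {i j k : Θ} {a b c e : ι → ℤ} (ha : U a) (hb : U b)
    (hc : U c) (he : U e) (hab : a ⬝ᵥ b = 0) (hac : a ⬝ᵥ c = 0) (hae : a ⬝ᵥ e = 0)
    (hbc : b ⬝ᵥ c = 0) (hbe : b ⬝ᵥ e = 0) (hce : c ⬝ᵥ e = 0) (hi : Φ i = a + b + c)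
    (hj : Φ j = a + b + e) (hk : Φ k = a + c + e) : False := by
  -- `P`
  have p1 : P ⬝ᵥ a + P ⬝ᵥ b + P ⬝ᵥ c = 1 := by
    rw [← dotProduct_add, ← dotProduct_add, ← hi, h.PΦ]
  have p2 : P ⬝ᵥ a + P ⬝ᵥ b + P ⬝ᵥ e = 1 := by
    rw [← dotProduct_add, ← dotProduct_add, ← hj, h.PΦ]
  have p3 : P ⬝ᵥ a + P ⬝ᵥ c + P ⬝ᵥ e = 1 := by
    rw [← dotProduct_add, ← dotProduct_add, ← hk, h.PΦ]
  have pb := bessel_four (v := P) ha hb hc he hab hac hae hbc hbe hce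
  rw [h.PP] at pb
  have pn := dot_self_nonneg (P - (P ⬝ᵥ a) • a - (P ⬝ᵥ b) • b - (P ⬝ᵥ c) • c - (P ⬝ᵥ e) • e)
  rw [pb] at pn
  have pv : P ⬝ᵥ a = 1 ∧ P ⬝ᵥ b = 0 ∧ P ⬝ᵥ c = 0 ∧ P ⬝ᵥ e = 0 := by
    generalize P ⬝ᵥ a = x at *
    generalize P ⬝ᵥ b = y at *
    generalize P ⬝ᵥ c = z at *
    generalize P ⬝ᵥ e = w at *
    have e1 : z = y := by omega
    have e2 : w = y := by omega
    have e3 : x = 1 - 2 * y := by omega
    subst e1 e2 e3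
    have h1 : -1 < w := by nlinarith
    have h2 : w < 1 := by nlinarith
    have : w = 0 := by omega
    subst this
    omega
  obtain ⟨pa, pb', pc, pe⟩ := pv
  -- `S`
  have s1 : S ⬝ᵥ a + S ⬝ᵥ b + S ⬝ᵥ c = 2 := by
    rw [← dotProduct_add, ← dotProduct_add, ← hi, dotProduct_comm, h.ΦS]
  have s2 : S ⬝ᵥ a + S ⬝ᵥ b + S ⬝ᵥ e = 2 := by
    rw [← dotProduct_add, ← dotProduct_add, ← hj, dotProduct_comm, h.ΦS]
  have s3 : S ⬝ᵥ a + S ⬝ᵥ c + S ⬝ᵥ e = 2 := by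
    rw [← dotProduct_add, ← dotProduct_add, ← hk, dotProduct_comm, h.ΦS]
  have sb := bessel_four (v := S) ha hb hc he hab hac hae hbc hbe hce
  rw [h.SS] at sb
  have sn := dot_self_nonneg (S - (S ⬝ᵥ a) • a - (S ⬝ᵥ b) • b - (S ⬝ᵥ c) • c - (S ⬝ᵥ e) • e)
  rw [sb] at sn
  have sv : (S ⬝ᵥ a = 2 ∧ S ⬝ᵥ b = 0 ∧ S ⬝ᵥ c = 0 ∧ S ⬝ᵥ e = 0) ∨
      (S ⬝ᵥ a = 0 ∧ S ⬝ᵥ b = 1 ∧ S ⬝ᵥ c = 1 ∧ S ⬝ᵥ e = 1) := by
    generalize S ⬝ᵥ a = x at *
    generalize S ⬝ᵥ b = y at *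
    generalize S ⬝ᵥ c = z at *
    generalize S ⬝ᵥ e = w at *
    have e1 : z = y := by omega
    have e2 : w = y := by omega
    have e3 : x = 2 - 2 * y := by omega
    subst e1 e2 e3
    have h1 : -1 < w := by nlinarith
    have h2 : w < 3 := by nlinarith
    have h3 : w ≠ 2 := by rintro rfl; norm_num at sn
    have : w = 0 ∨ w = 1 := by omega
    rcases this with rfl | rfl
    · left; omega
    · right; omega
  rcases sv with ⟨sa, sb', sc, se⟩ | ⟨sa, sb', sc, se⟩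
  · rw [sa, sb', sc, se] at sb
    have h0 := eq_zero_of_dot (sb.trans (by norm_num))
    have h1 : S ⬝ᵥ d = 2 * (a ⬝ᵥ d) := by
      have : S = (2 : ℤ) • a := by
        have := sub_eq_zero.1 (show S - (2 : ℤ) • a = 0 by simpa using h0)
        exact this
      rw [this, smul_dotProduct, smul_eq_mul]
    rw [h.oneS] at h1
    exact ha.dot_ne h.ne (by omega)
  · rw [sa, sb', sc, se] at sb
    set r := S - (0 : ℤ) • a - (1 : ℤ) • b - (1 : ℤ) • c - (1 : ℤ) • e with hr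
    have hrr : r ⬝ᵥ r = 1 := by rw [sb]; norm_num
    have hPr : P ⬝ᵥ r = 2 := by
      rw [hr]
      simp only [dotProduct_sub, dotProduct_smul, h.PS, pa, pb', pc, pe, smul_eq_mul]
      norm_num
    have har : a ⬝ᵥ r = 0 := by
      rw [hr]
      simp only [dotProduct_sub, dotProduct_smul, dotProduct_comm a S, sa, ha.norm, hab, hac, hae,
        smul_eq_mul]
      norm_num
    have := dot_self_nonneg (P - a - (2 : ℤ) • r)
    have h2 : (P - a - (2 : ℤ) • r) ⬝ᵥ (P - a - (2 : ℤ) • r) = -2 := by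
      simp only [sub_dotProduct, dotProduct_sub, smul_dotProduct, dotProduct_smul, h.PP,
        dotProduct_comm a P, dotProduct_comm r P, dotProduct_comm r a, pa, hPr, har, hrr, ha.norm,
        smul_eq_mul]
      norm_num
    omega

/-- The decomposition. -/
structure Split (Φ : Θ → ι → ℤ) (S P X₁ X₂ X₃ X₄ X₅ : ι → ℤ) (L : Θ → ι → ℤ) : Prop where
  s₁ : U X₁
  s₂ : U X₂
  s₃ : U X₃
  s₄ : U X₄
  s₅ : U X₅
  sL : ∀ i, U (L i)
  x₁₂ : X₁ ⬝ᵥ X₂ = 0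
  x₁₃ : X₁ ⬝ᵥ X₃ = 0
  x₁₄ : X₁ ⬝ᵥ X₄ = 0
  x₁₅ : X₁ ⬝ᵥ X₅ = 0
  x₂₃ : X₂ ⬝ᵥ X₃ = 0
  x₂₄ : X₂ ⬝ᵥ X₄ = 0
  x₂₅ : X₂ ⬝ᵥ X₅ = 0
  x₃₄ : X₃ ⬝ᵥ X₄ = 0
  x₃₅ : X₃ ⬝ᵥ X₅ = 0
  x₄₅ : X₄ ⬝ᵥ X₅ = 0
  L₁ : ∀ i, L i ⬝ᵥ X₁ = 0
  L₂ : ∀ i, L i ⬝ᵥ X₂ = 0
  L₃ : ∀ i, L i ⬝ᵥ X₃ = 0
  L₄ : ∀ i, L i ⬝ᵥ X₄ = 0
  L₅ : ∀ i, L i ⬝ᵥ X₅ = 0
  LL : ∀ i j, i ≠ j → L i ⬝ᵥ L j = 0
  eqΦ : ∀ i, Φ i = X₁ - X₂ + L i
  eqS : S = X₁ - X₂ + X₄ - X₅
  eqP : P = X₁ + X₃ + X₄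

/-- The last step, once the common part is known. -/
theorem Hyp.final (h : Hyp d Φ S P) {a b : ι → ℤ} (ha : U a) (hb : U b) (hab : a ⬝ᵥ b = 0)
    (hΦa : ∀ i, Φ i ⬝ᵥ a = 1) (hΦb : ∀ i, Φ i ⬝ᵥ b = 1) (hPa : P ⬝ᵥ a = 1) (hPb : P ⬝ᵥ b = 0)
    (hSa : S ⬝ᵥ a = 1) (hSb : S ⬝ᵥ b = 1) :
    ∃ (X₁ X₂ X₃ X₄ X₅ : ι → ℤ) (L : Θ → ι → ℤ), Split Φ S P X₁ X₂ X₃ X₄ X₅ L := by
  have hba : b ⬝ᵥ a = 0 := by rw [dotProduct_comm, hab]
  -- `L`
  have hLu : ∀ i, U (Φ i - a - b) := by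
    intro i
    apply U_of_norm
    simp only [sub_dotProduct, dotProduct_sub, h.ΦΦ_self, hΦa, hΦb, dotProduct_comm a (Φ i),
      dotProduct_comm b (Φ i), ha.norm, hb.norm, hab, hba]
    norm_num
  have hLa : ∀ i, (Φ i - a - b) ⬝ᵥ a = 0 := by
    intro i
    simp only [sub_dotProduct, hΦa, ha.norm, hba]
    norm_num
  have hLb : ∀ i, (Φ i - a - b) ⬝ᵥ b = 0 := by
    intro i
    simp only [sub_dotProduct, hΦb, hb.norm, hab]
    norm_num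
  have hLL : ∀ i j, i ≠ j → (Φ i - a - b) ⬝ᵥ (Φ j - a - b) = 0 := by
    intro i j hij
    simp only [sub_dotProduct, dotProduct_sub, h.ΦΦ_ne hij, hΦa, hΦb, dotProduct_comm a (Φ j),
      dotProduct_comm b (Φ j), ha.norm, hb.norm, hab, hba]
    norm_num
  have hSL : ∀ i, (S - a - b) ⬝ᵥ (Φ i - a - b) = 0 := by
    intro i
    simp only [sub_dotProduct, dotProduct_sub, dotProduct_comm S (Φ i), h.ΦS, hΦa, hΦb, hSa, hSb,
      dotProduct_comm a (Φ i), dotProduct_comm b (Φ i), ha.norm, hb.norm, hab, hba]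
    norm_num
  have hPL : ∀ i, (P - a) ⬝ᵥ (Φ i - a - b) = 0 := by
    intro i
    simp only [sub_dotProduct, dotProduct_sub, h.PΦ, hΦa, hPa, hPb,
      dotProduct_comm a (Φ i), ha.norm, hab]
    norm_num
  have hSS : (S - a - b) ⬝ᵥ (S - a - b) = 2 := by
    simp only [sub_dotProduct, dotProduct_sub, h.SS, hSa, hSb,
      dotProduct_comm a S, dotProduct_comm b S, ha.norm, hb.norm, hab, hba]
    norm_num
  have hPP : (P - a) ⬝ᵥ (P - a) = 2 := by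
    simp only [sub_dotProduct, dotProduct_sub, h.PP, hPa, dotProduct_comm a P, ha.norm]
    norm_num
  have hPS : (P - a) ⬝ᵥ (S - a - b) = 1 := by
    simp only [sub_dotProduct, dotProduct_sub, h.PS, hPa, hPb, dotProduct_comm a S, hSa, ha.norm,
      hab]
    norm_num
  have hRa : (S - a - b) ⬝ᵥ a = 0 := by
    simp only [sub_dotProduct, hSa, ha.norm, hba]; norm_num
  have hRb : (S - a - b) ⬝ᵥ b = 0 := by
    simp only [sub_dotProduct, hSb, hb.norm, hab]; norm_num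
  have hQa : (P - a) ⬝ᵥ a = 0 := by
    simp only [sub_dotProduct, hPa, ha.norm]; norm_num
  have hQb : (P - a) ⬝ᵥ b = 0 := by
    simp only [sub_dotProduct, hPb, hab]; norm_num
  set R := S - a - b with hR
  set Q := P - a with hQ
  obtain ⟨x, y, hx, hy, hxy, hxy0⟩ := split_two hPP
  -- the final step for `X₄ = x`, `X₃ = y`
  have fin : ∀ x y : ι → ℤ, U x → U y → x ⬝ᵥ y = 0 → Q = x + y → R ⬝ᵥ x = 1 → R ⬝ᵥ y = 0 →
      ∃ (X₁ X₂ X₃ X₄ X₅ : ι → ℤ) (L : Θ → ι → ℤ), Split Φ S P X₁ X₂ X₃ X₄ X₅ L := by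
    intro x y hx hy hxy hQxy hRx hRy
    have hyx : y ⬝ᵥ x = 0 := by rw [dotProduct_comm, hxy]
    have hQx : Q ⬝ᵥ x = 1 := by rw [hQxy, add_dotProduct, hx.norm, hyx]; rfl
    have hQy : Q ⬝ᵥ y = 1 := by rw [hQxy, add_dotProduct, hy.norm, hxy]; rfl
    have hw : U (R - x) := U_of_norm (by rw [sub_norm hx hRx, hSS]; rfl)
    have hRw : R ⬝ᵥ (R - x) = 1 := by rw [dotProduct_sub, hSS, hRx]; rfl
    refine ⟨a, -b, y, x, -(R - x), fun i => Φ i - a - b, ?_⟩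
    exact
      { s₁ := ha
        s₂ := hb.neg
        s₃ := hy
        s₄ := hx
        s₅ := hw.neg
        sL := hLu
        x₁₂ := by rw [dotProduct_neg, hab, neg_zero]
        x₁₃ := by rw [dotProduct_comm]; exact hy.ortho ha hQy hQa
        x₁₄ := by rw [dotProduct_comm]; exact hx.ortho ha hQx hQa
        x₁₅ := by rw [dotProduct_neg, dotProduct_comm, hw.ortho ha hRw hRa, neg_zero]
        x₂₃ := by rw [neg_dotProduct, dotProduct_comm, hy.ortho hb hQy hQb, neg_zero]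
        x₂₄ := by rw [neg_dotProduct, dotProduct_comm, hx.ortho hb hQx hQb, neg_zero]
        x₂₅ := by rw [neg_dotProduct, dotProduct_neg, dotProduct_comm, hw.ortho hb hRw hRb, neg_zero,
          neg_zero]
        x₃₄ := hyx
        x₃₅ := by rw [dotProduct_neg, dotProduct_sub, dotProduct_comm y R, hRy, hyx, sub_zero,
          neg_zero]
        x₄₅ := by rw [dotProduct_neg, dotProduct_sub, dotProduct_comm x R, hRx, hx.norm, sub_self,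
          neg_zero]
        L₁ := hLa
        L₂ := fun i => by rw [dotProduct_neg, hLb, neg_zero]
        L₃ := fun i => by rw [dotProduct_comm]; exact hy.ortho (hLu i) hQy (hPL i)
        L₄ := fun i => by rw [dotProduct_comm]; exact hx.ortho (hLu i) hQx (hPL i)
        L₅ := fun i => by
          rw [dotProduct_neg, dotProduct_comm, hw.ortho (hLu i) hRw (hSL i), neg_zero]
        LL := hLL
        eqΦ := fun i => by abel
        eqS := by rw [hR]; abel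
        eqP := by
          have : P = Q + a := by rw [hQ]; abel
          rw [this, hQxy]; abel }
  have h1 : R ⬝ᵥ x + R ⬝ᵥ y = 1 := by rw [← dotProduct_add, ← hxy, dotProduct_comm, hPS]
  have h2 : (R - (R ⬝ᵥ x) • x - (R ⬝ᵥ y) • y) ⬝ᵥ (R - (R ⬝ᵥ x) • x - (R ⬝ᵥ y) • y) =
      2 - (R ⬝ᵥ x) ^ 2 - (R ⬝ᵥ y) ^ 2 := by
    simp only [sub_dotProduct, dotProduct_sub, smul_dotProduct, dotProduct_smul, hSS, hx.norm,
      hy.norm, hxy0, dotProduct_comm y x, dotProduct_comm x R, dotProduct_comm y R, smul_eq_mul]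
    ring
  have h3 := dot_self_nonneg (R - (R ⬝ᵥ x) • x - (R ⬝ᵥ y) • y)
  rw [h2] at h3
  have h4 : (R ⬝ᵥ x = 1 ∧ R ⬝ᵥ y = 0) ∨ (R ⬝ᵥ x = 0 ∧ R ⬝ᵥ y = 1) := by
    generalize R ⬝ᵥ x = m at *
    generalize R ⬝ᵥ y = k at *
    have h5 : k = 1 - m := by omega
    subst h5
    have h6 : -1 < m := by nlinarith
    have h7 : m < 2 := by nlinarith
    have : m = 0 ∨ m = 1 := by omega
    rcases this with rfl | rfl
    · right; omega
    · left; omega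
  rcases h4 with ⟨h4, h5⟩ | ⟨h4, h5⟩
  · exact fin x y hx hy hxy0 hxy h4 h5
  · exact fin y x hy hx (by rw [dotProduct_comm, hxy0]) (by rw [hxy, add_comm]) h5 h4

set_option maxHeartbeats 2000000 in
/-- **The decomposition without the trivial character.** -/
theorem Hyp.exists_split [Fintype Θ] (hΘ : 3 ≤ Fintype.card Θ) (h : Hyp d Φ S P) :
    ∃ (X₁ X₂ X₃ X₄ X₅ : ι → ℤ) (L : Θ → ι → ℤ), Split Φ S P X₁ X₂ X₃ X₄ X₅ L := by
  obtain ⟨t₀, t₁, t₂, h01, h02, h12⟩ := (Fintype.two_lt_card_iff (α := Θ)).1 (by omega)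
  obtain ⟨a, b, c, e, ha, hb, hc, he, hab, hac, hae, hbc, hbe, hce, hi, hj⟩ := h.exists_four h01
  -- every member contains `a` and `b`
  have hba : b ⬝ᵥ a = 0 := by rw [dotProduct_comm, hab]
  have hmem : ∀ k, Φ k ⬝ᵥ a = 1 ∧ Φ k ⬝ᵥ b = 1 := by
    intro k
    by_cases hk0 : k = t₀
    · subst hk0
      rw [hi]
      simp only [add_dotProduct, ha.norm, hb.norm, hab, hba, dotProduct_comm c a, hac,
        dotProduct_comm c b, hbc]
      norm_num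
    by_cases hk1 : k = t₁
    · subst hk1
      rw [hj]
      simp only [add_dotProduct, ha.norm, hb.norm, hab, hba, dotProduct_comm e a, hae,
        dotProduct_comm e b, hbe]
      norm_num
    have k1 : Φ k ⬝ᵥ a + Φ k ⬝ᵥ b + Φ k ⬝ᵥ c = 2 := by
      rw [← dotProduct_add, ← dotProduct_add, ← hi, h.ΦΦ_ne hk0]
    have k2 : Φ k ⬝ᵥ a + Φ k ⬝ᵥ b + Φ k ⬝ᵥ e = 2 := by
      rw [← dotProduct_add, ← dotProduct_add, ← hj, h.ΦΦ_ne hk1]
    have kb := bessel_four (v := Φ k) ha hb hc he hab hac hae hbc hbe hce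
    rw [h.ΦΦ_self] at kb
    have kn := dot_self_nonneg
      (Φ k - (Φ k ⬝ᵥ a) • a - (Φ k ⬝ᵥ b) • b - (Φ k ⬝ᵥ c) • c - (Φ k ⬝ᵥ e) • e)
    rw [kb] at kn
    have kv : (Φ k ⬝ᵥ a = 1 ∧ Φ k ⬝ᵥ b = 1) ∨
        (Φ k ⬝ᵥ a = 1 ∧ Φ k ⬝ᵥ b = 0 ∧ Φ k ⬝ᵥ c = 1 ∧ Φ k ⬝ᵥ e = 1) ∨
        (Φ k ⬝ᵥ a = 0 ∧ Φ k ⬝ᵥ b = 1 ∧ Φ k ⬝ᵥ c = 1 ∧ Φ k ⬝ᵥ e = 1) := by
      generalize Φ k ⬝ᵥ a = x at *
      generalize Φ k ⬝ᵥ b = y at *
      generalize Φ k ⬝ᵥ c = z at *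
      generalize Φ k ⬝ᵥ e = w at *
      have e1 : w = z := by omega
      have e2 : y = 2 - x - z := by omega
      subst e1 e2
      have h1 : -2 < w := by nlinarith
      have h2 : w < 2 := by nlinarith
      have h3 : w = -1 ∨ w = 0 ∨ w = 1 := by omega
      rcases h3 with rfl | rfl | rfl
      · exfalso; nlinarith [sq_nonneg (2 * x - 3)]
      · have h4 : 0 < x := by nlinarith
        have h5 : x < 2 := by nlinarith
        left; omega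
      · have h4 : -1 < x := by nlinarith
        have h5 : x < 2 := by nlinarith
        right; omega
    rcases kv with kv | ⟨v1, v2, v3, v4⟩ | ⟨v1, v2, v3, v4⟩
    · exact kv
    · exfalso
      rw [v1, v2, v3, v4] at kb
      have h0 := eq_zero_of_dot (kb.trans (by norm_num))
      refine h.not_mixed ha hb hc he hab hac hae hbc hbe hce hi hj (k := k) ?_
      have : Φ k - (a + c + e) = 0 := by
        rw [← h0]; simp only [one_smul, zero_smul]; abel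
      exact sub_eq_zero.1 this
    · exfalso
      rw [v1, v2, v3, v4] at kb
      have h0 := eq_zero_of_dot (kb.trans (by norm_num))
      refine h.not_mixed hb ha hc he hba hbc hbe hac hae hce (by rw [hi]; abel) (by rw [hj]; abel)
        (k := k) ?_
      have : Φ k - (b + c + e) = 0 := by
        rw [← h0]; simp only [one_smul, zero_smul]; abel
      exact sub_eq_zero.1 this
  -- the third members
  have hLu : ∀ i, U (Φ i - a - b) := by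
    intro i
    apply U_of_norm
    simp only [sub_dotProduct, dotProduct_sub, h.ΦΦ_self, (hmem i).1, (hmem i).2,
      dotProduct_comm a (Φ i), dotProduct_comm b (Φ i), ha.norm, hb.norm, hab, hba]
    norm_num
  have hLa : ∀ i, (Φ i - a - b) ⬝ᵥ a = 0 := by
    intro i
    simp only [sub_dotProduct, (hmem i).1, ha.norm, hba]
    norm_num
  have hLb : ∀ i, (Φ i - a - b) ⬝ᵥ b = 0 := by
    intro i
    simp only [sub_dotProduct, (hmem i).2, hb.norm, hab]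
    norm_num
  have hLL : ∀ i j, i ≠ j → (Φ i - a - b) ⬝ᵥ (Φ j - a - b) = 0 := by
    intro i j hij
    simp only [sub_dotProduct, dotProduct_sub, h.ΦΦ_ne hij, (hmem i).1, (hmem i).2, (hmem j).1,
      (hmem j).2, dotProduct_comm a (Φ j), dotProduct_comm b (Φ j), ha.norm, hb.norm, hab, hba]
    norm_num
  have hLd : ∀ i, (Φ i - a - b) ⬝ᵥ d = - (a ⬝ᵥ d) - b ⬝ᵥ d := by
    intro i
    simp only [sub_dotProduct, h.oneΦ]
    ring
  -- five orthogonal vectors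
  have bes : ∀ v : ι → ℤ, (v - (v ⬝ᵥ a) • a - (v ⬝ᵥ b) • b - (v ⬝ᵥ (Φ t₀ - a - b)) • (Φ t₀ - a - b)
      - (v ⬝ᵥ (Φ t₁ - a - b)) • (Φ t₁ - a - b) - (v ⬝ᵥ (Φ t₂ - a - b)) • (Φ t₂ - a - b)) ⬝ᵥ
      (v - (v ⬝ᵥ a) • a - (v ⬝ᵥ b) • b - (v ⬝ᵥ (Φ t₀ - a - b)) • (Φ t₀ - a - b)
      - (v ⬝ᵥ (Φ t₁ - a - b)) • (Φ t₁ - a - b) - (v ⬝ᵥ (Φ t₂ - a - b)) • (Φ t₂ - a - b)) =
      v ⬝ᵥ v - (v ⬝ᵥ a) ^ 2 - (v ⬝ᵥ b) ^ 2 - (v ⬝ᵥ (Φ t₀ - a - b)) ^ 2
        - (v ⬝ᵥ (Φ t₁ - a - b)) ^ 2 - (v ⬝ᵥ (Φ t₂ - a - b)) ^ 2 := by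
    intro v
    have n0 := (hLu t₀).norm
    have n1 := (hLu t₁).norm
    have n2 := (hLu t₂).norm
    have a0 := hLa t₀
    have a1 := hLa t₁
    have a2 := hLa t₂
    have b0 := hLb t₀
    have b1 := hLb t₁
    have b2 := hLb t₂
    have l01 := hLL _ _ h01
    have l02 := hLL _ _ h02
    have l12 := hLL _ _ h12
    generalize Φ t₀ - a - b = x at *
    generalize Φ t₁ - a - b = y at *
    generalize Φ t₂ - a - b = w at *
    simp only [sub_dotProduct, dotProduct_sub, smul_dotProduct, dotProduct_smul, ha.norm, hb.norm,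
      n0, n1, n2, hab, hba, a0, a1, a2, b0, b1, b2, l01, l02, l12, dotProduct_comm a x,
      dotProduct_comm a y, dotProduct_comm a w, dotProduct_comm b x, dotProduct_comm b y,
      dotProduct_comm b w, dotProduct_comm y x, dotProduct_comm w x, dotProduct_comm w y,
      dotProduct_comm a v, dotProduct_comm b v, dotProduct_comm x v, dotProduct_comm y v,
      dotProduct_comm w v, smul_eq_mul]
    ring
  -- coefficients of `P`
  have hP : ∀ i, P ⬝ᵥ (Φ i - a - b) = 1 - P ⬝ᵥ a - P ⬝ᵥ b := by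
    intro i; rw [dotProduct_sub, dotProduct_sub, h.PΦ]
  have pb := bes P
  have pn := dot_self_nonneg (P - (P ⬝ᵥ a) • a - (P ⬝ᵥ b) • b -
    (P ⬝ᵥ (Φ t₀ - a - b)) • (Φ t₀ - a - b) - (P ⬝ᵥ (Φ t₁ - a - b)) • (Φ t₁ - a - b) -
    (P ⬝ᵥ (Φ t₂ - a - b)) • (Φ t₂ - a - b))
  rw [pb, h.PP, hP, hP, hP] at pn
  have pv : (P ⬝ᵥ a = 1 ∧ P ⬝ᵥ b = 0) ∨ (P ⬝ᵥ a = 0 ∧ P ⬝ᵥ b = 1) ∨
      (P ⬝ᵥ a = 0 ∧ P ⬝ᵥ b = 0) := by
    generalize P ⬝ᵥ a = x at *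
    generalize P ⬝ᵥ b = y at *
    obtain ⟨z, hz⟩ : ∃ z, z = 1 - x - y := ⟨_, rfl⟩
    rw [← hz] at pn
    have hy : y = 1 - x - z := by omega
    subst hy
    have h1 : -2 < z := by nlinarith [sq_nonneg x, sq_nonneg (1 - x - z)]
    have h2 : z < 2 := by nlinarith [sq_nonneg x, sq_nonneg (1 - x - z)]
    have h3 : z = -1 ∨ z = 0 ∨ z = 1 := by omega
    rcases h3 with rfl | rfl | rfl
    · exfalso; nlinarith [sq_nonneg (x - 1)]
    · have h4 : -1 < x := by nlinarith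
      have h5 : x < 2 := by nlinarith
      omega
    · have h4 : x = 0 := by nlinarith [sq_nonneg x]
      omega
  have pv' : (P ⬝ᵥ a = 1 ∧ P ⬝ᵥ b = 0) ∨ (P ⬝ᵥ a = 0 ∧ P ⬝ᵥ b = 1) := by
    rcases pv with pv | pv | ⟨pa, pb'⟩
    · exact Or.inl pv
    · exact Or.inr pv
    · exfalso
      have hP1 : ∀ i, P ⬝ᵥ (Φ i - a - b) = 1 := by intro i; rw [hP, pa, pb']; norm_num
      rw [hP1, hP1, hP1, pa, pb', h.PP] at pb
      have h0 := eq_zero_of_dot (pb.trans (by norm_num))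
      have h1 : P = (Φ t₀ - a - b) + (Φ t₁ - a - b) + (Φ t₂ - a - b) := by
        rw [← sub_eq_zero, ← h0]; simp only [one_smul, zero_smul]; abel
      have h2 := h.oneP
      rw [h1, add_dotProduct, add_dotProduct, hLd, hLd, hLd] at h2
      have h3 := (hLu t₀).dot_ne h.ne
      rw [hLd] at h3
      omega
  -- coefficients of `S`
  have hS : ∀ i, S ⬝ᵥ (Φ i - a - b) = 2 - S ⬝ᵥ a - S ⬝ᵥ b := by
    intro i; rw [dotProduct_sub, dotProduct_sub, dotProduct_comm, h.ΦS]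
  have sb := bes S
  have sn := dot_self_nonneg (S - (S ⬝ᵥ a) • a - (S ⬝ᵥ b) • b -
    (S ⬝ᵥ (Φ t₀ - a - b)) • (Φ t₀ - a - b) - (S ⬝ᵥ (Φ t₁ - a - b)) • (Φ t₁ - a - b) -
    (S ⬝ᵥ (Φ t₂ - a - b)) • (Φ t₂ - a - b))
  rw [sb, h.SS, hS, hS, hS] at sn
  have sv : (S ⬝ᵥ a = 1 ∧ S ⬝ᵥ b = 1) ∨ (S ⬝ᵥ a = 2 ∧ S ⬝ᵥ b = 0) ∨ (S ⬝ᵥ a = 0 ∧ S ⬝ᵥ b = 2) ∨
      (S ⬝ᵥ a = 1 ∧ S ⬝ᵥ b = 0) ∨ (S ⬝ᵥ a = 0 ∧ S ⬝ᵥ b = 1) := by
    generalize S ⬝ᵥ a = x at *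
    generalize S ⬝ᵥ b = y at *
    obtain ⟨z, hz⟩ : ∃ z, z = 2 - x - y := ⟨_, rfl⟩
    rw [← hz] at sn
    have hy : y = 2 - x - z := by omega
    subst hy
    have h1 : -2 < z := by nlinarith [sq_nonneg x, sq_nonneg (2 - x - z)]
    have h2 : z < 2 := by nlinarith [sq_nonneg x, sq_nonneg (2 - x - z)]
    have h3 : z = -1 ∨ z = 0 ∨ z = 1 := by omega
    rcases h3 with rfl | rfl | rfl
    · exfalso; nlinarith [sq_nonneg (2 * x - 3)]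
    · have h4 : -1 < x := by nlinarith
      have h5 : x < 3 := by nlinarith
      omega
    · have h4 : -1 < x := by nlinarith
      have h5 : x < 2 := by nlinarith
      omega
  have hSa2 : ¬ (S ⬝ᵥ a = 2 ∧ S ⬝ᵥ b = 0) := by
    rintro ⟨sa, sb'⟩
    have hS0 : ∀ i, S ⬝ᵥ (Φ i - a - b) = 0 := by intro i; rw [hS, sa, sb']; norm_num
    rw [hS0, hS0, hS0, sa, sb', h.SS] at sb
    have h0 := eq_zero_of_dot (sb.trans (by norm_num))
    have h1 : S = (2 : ℤ) • a := by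
      rw [← sub_eq_zero, ← h0]; simp only [zero_smul]; abel
    have h2 := h.oneS
    rw [h1, smul_dotProduct, smul_eq_mul] at h2
    exact ha.dot_ne h.ne (by omega)
  have hSb2 : ¬ (S ⬝ᵥ a = 0 ∧ S ⬝ᵥ b = 2) := by
    rintro ⟨sa, sb'⟩
    have hS0 : ∀ i, S ⬝ᵥ (Φ i - a - b) = 0 := by intro i; rw [hS, sa, sb']; norm_num
    rw [hS0, hS0, hS0, sa, sb', h.SS] at sb
    have h0 := eq_zero_of_dot (sb.trans (by norm_num))
    have h1 : S = (2 : ℤ) • b := by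
      rw [← sub_eq_zero, ← h0]; simp only [zero_smul]; abel
    have h2 := h.oneS
    rw [h1, smul_dotProduct, smul_eq_mul] at h2
    exact hb.dot_ne h.ne (by omega)
  have hPL0 : ∀ i, P ⬝ᵥ (Φ i - a - b) = 0 := by
    intro i; rw [hP]; rcases pv' with ⟨pa, pb'⟩ | ⟨pa, pb'⟩ <;> rw [pa, pb'] <;> norm_num
  have h10 : ¬ (S ⬝ᵥ a = 1 ∧ S ⬝ᵥ b = 0) := by
    rintro ⟨sa, sb'⟩
    have hS0 : ∀ i, S ⬝ᵥ (Φ i - a - b) = 1 := by intro i; rw [hS, sa, sb']; norm_num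
    rw [hS0, hS0, hS0, sa, sb', h.SS] at sb
    have h0 := eq_zero_of_dot (sb.trans (by norm_num))
    have h1 : S = a + (Φ t₀ - a - b) + (Φ t₁ - a - b) + (Φ t₂ - a - b) := by
      rw [← sub_eq_zero, ← h0]; simp only [one_smul, zero_smul]; abel
    have h2 := h.PS
    rw [h1, dotProduct_add, dotProduct_add, dotProduct_add, hPL0, hPL0, hPL0] at h2
    rcases pv' with ⟨pa, _⟩ | ⟨pa, _⟩ <;> omega
  have h01' : ¬ (S ⬝ᵥ a = 0 ∧ S ⬝ᵥ b = 1) := by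
    rintro ⟨sa, sb'⟩
    have hS0 : ∀ i, S ⬝ᵥ (Φ i - a - b) = 1 := by intro i; rw [hS, sa, sb']; norm_num
    rw [hS0, hS0, hS0, sa, sb', h.SS] at sb
    have h0 := eq_zero_of_dot (sb.trans (by norm_num))
    have h1 : S = b + (Φ t₀ - a - b) + (Φ t₁ - a - b) + (Φ t₂ - a - b) := by
      rw [← sub_eq_zero, ← h0]; simp only [one_smul, zero_smul]; abel
    have h2 := h.PS
    rw [h1, dotProduct_add, dotProduct_add, dotProduct_add, hPL0, hPL0, hPL0] at h2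
    rcases pv' with ⟨_, pa⟩ | ⟨_, pa⟩ <;> omega
  obtain ⟨sa, sb'⟩ : S ⬝ᵥ a = 1 ∧ S ⬝ᵥ b = 1 := by tauto
  rcases pv' with ⟨pa, pb'⟩ | ⟨pa, pb'⟩
  · exact h.final ha hb hab (fun i => (hmem i).1) (fun i => (hmem i).2) pa pb' sa sb'
  · exact h.final hb ha hba (fun i => (hmem i).2) (fun i => (hmem i).1) pb' pa sb' sa

end Cfsg.Agent.Classification.QDW.GramInt
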