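import Mathlib
import Cfsg.Agent.Classification.QDW.GramInt
import Cfsg.Agent.Classification.InvCent.WreathedGram

/-!
# The Gram matrix argument without the trivial character

`Φ i` (at least three) generalized characters of norm `3` with mutual inner products `2`, `S` of
norm `4`, `P` of norm `3`, `(Φ i, S) = 2`, `(P, Φ i) = 1`, `(P, S) = 2`, all vanishing at `1`.  Then
`Φ i = X₁ - X₂ + L i`, `S = X₁ - X₂ + X₄ - X₅`, `P = X₁ + X₃ + X₄` with orthogonal signed
irreducible characters (the same shape as `SDGram.exists_sdSplit`, where `X₁ = 1`).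
-/

set_option autoImplicit false
set_option linter.unusedSectionVars false

open Cfsg
open scoped ComplexConjugate Matrix

namespace Cfsg.Agent.Classification.QDW.GramFour

open Cfsg.Agent.Classification.BGOrder Cfsg.Agent.Characters.Core
  Cfsg.Agent.Classification.BGSplit Cfsg.Agent.Classification.InvCent.WreathedGram

universe u

variable {G : Type u} [Group G] [Fintype G] [Fintype (IrrCharacter G)]

/-- The generalized character with given coefficients. -/
noncomputable def toFun (v : IrrCharacter G → ℤ) : G → ℂ := ∑ χ, v χ • (χ : G → ℂ)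

theorem toFun_add (v w : IrrCharacter G → ℤ) : toFun (v + w) = toFun v + toFun w := by
  simp [toFun, add_smul, Finset.sum_add_distrib]

theorem toFun_neg (v : IrrCharacter G → ℤ) : toFun (-v) = -toFun v := by
  simp [toFun]

theorem toFun_sub (v w : IrrCharacter G → ℤ) : toFun (v - w) = toFun v - toFun w := by
  rw [sub_eq_add_neg, toFun_add, toFun_neg, sub_eq_add_neg]

theorem classInner_toFun (v w : IrrCharacter G → ℤ) :
    classInner (toFun v) (toFun w) = ((v ⬝ᵥ w : ℤ) : ℂ) := by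
  have gv : IsGeneralizedCharacter G (toFun v) := isGeneralizedCharacter_iff.2 ⟨v, rfl⟩
  have gw : IsGeneralizedCharacter G (toFun w) := isGeneralizedCharacter_iff.2 ⟨w, rfl⟩
  rw [classInner_eq_sum (isClass_of_generalized gv) (isClass_of_generalized gw)]
  unfold toFun
  simp only [classInner_sum_zsmul_irr]
  rw [dotProduct]
  push_cast
  refine Finset.sum_congr rfl fun χ _ => ?_
  simp

/-- The degrees. -/
noncomputable def deg (χ : IrrCharacter G) : ℤ := (isIrr_apply_one χ.2).choose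

theorem coe_deg (χ : IrrCharacter G) : ((deg χ : ℤ) : ℂ) = (χ : G → ℂ) 1 := by
  rw [(isIrr_apply_one χ.2).choose_spec.2]
  unfold deg
  push_cast
  rfl

theorem deg_ne (χ : IrrCharacter G) : deg χ ≠ 0 := by
  have := (isIrr_apply_one χ.2).choose_spec.1
  unfold deg
  exact_mod_cast this.ne'

theorem toFun_one (v : IrrCharacter G → ℤ) : toFun v 1 = ((v ⬝ᵥ deg : ℤ) : ℂ) := by
  unfold toFun
  rw [Finset.sum_apply, dotProduct]
  push_cast
  refine Finset.sum_congr rfl fun χ _ => ?_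
  rw [Pi.smul_apply, zsmul_eq_mul, coe_deg]

theorem signedIrr_toFun [DecidableEq (IrrCharacter G)] {v : IrrCharacter G → ℤ}
    (h : GramInt.U v) : SignedIrr (toFun v) := by
  obtain ⟨χ, rfl | rfl⟩ := h
  · left
    have : toFun (Pi.single χ 1) = (χ : G → ℂ) := by
      unfold toFun
      rw [Finset.sum_eq_single χ]
      · simp
      · intro ψ _ h; simp [Pi.single_eq_of_ne h]
      · intro h; exact absurd (Finset.mem_univ _) h
    rw [this]; exact χ.2
  · right
    have : -toFun (Pi.single χ (-1)) = (χ : G → ℂ) := by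
      unfold toFun
      rw [Finset.sum_eq_single χ]
      · simp
      · intro ψ _ h; simp [Pi.single_eq_of_ne h]
      · intro h; exact absurd (Finset.mem_univ _) h
    rw [this]; exact χ.2

theorem exists_toFun {f : G → ℂ} (hf : IsGeneralizedCharacter G f) :
    ∃ v : IrrCharacter G → ℤ, f = toFun v := isGeneralizedCharacter_iff.1 hf

end Cfsg.Agent.Classification.QDW.GramFour

namespace Cfsg.Agent.Classification.QDW.GramFour

open Cfsg.Agent.Classification.BGOrder Cfsg.Agent.Characters.Core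
  Cfsg.Agent.Classification.BGSplit Cfsg.Agent.Classification.InvCent.WreathedGram

universe u

variable {G : Type u} [Group G] [Fintype G]

/-- The Gram data of the semidihedral case, without the trivial character. -/
structure THyp {Θ : Type*} [DecidableEq Θ] (Φ : Θ → G → ℂ) (S P : G → ℂ) : Prop where
  gΦ : ∀ i, IsGeneralizedCharacter G (Φ i)
  gS : IsGeneralizedCharacter G S
  gP : IsGeneralizedCharacter G P
  oneΦ : ∀ i, Φ i 1 = 0
  oneS : S 1 = 0
  oneP : P 1 = 0
  ΦΦ : ∀ i j, classInner (Φ i) (Φ j) = if i = j then 3 else 2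
  ΦS : ∀ i, classInner (Φ i) S = 2
  SS : classInner S S = 4
  PP : classInner P P = 3
  PΦ : ∀ i, classInner P (Φ i) = 1
  PS : classInner P S = 2

/-- The decomposition. -/
structure TSplit {Θ : Type*} (Φ : Θ → G → ℂ) (S P X₁ X₂ X₃ X₄ X₅ : G → ℂ) (L : Θ → G → ℂ) :
    Prop where
  s₁ : SignedIrr X₁
  s₂ : SignedIrr X₂
  s₃ : SignedIrr X₃
  s₄ : SignedIrr X₄
  s₅ : SignedIrr X₅
  sL : ∀ i, SignedIrr (L i)
  x₁₂ : classInner X₁ X₂ = 0
  x₁₃ : classInner X₁ X₃ = 0
  x₁₄ : classInner X₁ X₄ = 0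
  x₁₅ : classInner X₁ X₅ = 0
  x₂₃ : classInner X₂ X₃ = 0
  x₂₄ : classInner X₂ X₄ = 0
  x₂₅ : classInner X₂ X₅ = 0
  x₃₄ : classInner X₃ X₄ = 0
  x₃₅ : classInner X₃ X₅ = 0
  x₄₅ : classInner X₄ X₅ = 0
  L₁ : ∀ i, classInner (L i) X₁ = 0
  L₂ : ∀ i, classInner (L i) X₂ = 0
  L₃ : ∀ i, classInner (L i) X₃ = 0
  L₄ : ∀ i, classInner (L i) X₄ = 0
  L₅ : ∀ i, classInner (L i) X₅ = 0
  LL : ∀ i j, i ≠ j → classInner (L i) (L j) = 0
  eqΦ : ∀ i, Φ i = X₁ - X₂ + L i
  eqS : S = X₁ - X₂ + X₄ - X₅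
  eqP : P = X₁ + X₃ + X₄

/-- **The decomposition without the trivial character.** -/
theorem THyp.exists_split {Θ : Type*} [DecidableEq Θ] [Fintype Θ] {Φ : Θ → G → ℂ} {S P : G → ℂ}
    (hΘ : 3 ≤ Fintype.card Θ) (h : THyp Φ S P) :
    ∃ (X₁ X₂ X₃ X₄ X₅ : G → ℂ) (L : Θ → G → ℂ), TSplit Φ S P X₁ X₂ X₃ X₄ X₅ L := by
  classical
  have := finite_irr (G := G)
  let _ : Fintype (IrrCharacter G) := Fintype.ofFinite _
  choose φ hφ using fun i => exists_toFun (h.gΦ i)
  obtain ⟨s, hs⟩ := exists_toFun h.gS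
  obtain ⟨p, hp⟩ := exists_toFun h.gP
  have tr : ∀ {v w : IrrCharacter G → ℤ} {n : ℤ}, classInner (toFun v) (toFun w) = (n : ℂ) →
      v ⬝ᵥ w = n := by
    intro v w n h1
    rw [classInner_toFun] at h1
    exact_mod_cast h1
  have tr0 : ∀ {v : IrrCharacter G → ℤ}, toFun v 1 = 0 → v ⬝ᵥ deg = 0 := by
    intro v h1
    rw [toFun_one] at h1
    exact_mod_cast h1
  have H : GramInt.Hyp deg φ s p :=
    { ne := deg_ne
      oneΦ := fun i => tr0 (by rw [← hφ]; exact h.oneΦ i)
      oneS := tr0 (by rw [← hs]; exact h.oneS)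
      oneP := tr0 (by rw [← hp]; exact h.oneP)
      ΦΦ := fun i j => tr (by rw [← hφ, ← hφ, h.ΦΦ]; split_ifs <;> norm_num)
      ΦS := fun i => tr (by rw [← hφ, ← hs, h.ΦS]; norm_num)
      SS := tr (by rw [← hs, h.SS]; norm_num)
      PP := tr (by rw [← hp, h.PP]; norm_num)
      PΦ := fun i => tr (by rw [← hφ, ← hp, h.PΦ]; norm_num)
      PS := tr (by rw [← hp, ← hs, h.PS]; norm_num) }
  obtain ⟨x₁, x₂, x₃, x₄, x₅, l, K⟩ := H.exists_split hΘ
  have z : ∀ {v w : IrrCharacter G → ℤ}, v ⬝ᵥ w = 0 → classInner (toFun v) (toFun w) = 0 := by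
    intro v w h1
    rw [classInner_toFun, h1, Int.cast_zero]
  exact ⟨toFun x₁, toFun x₂, toFun x₃, toFun x₄, toFun x₅, fun i => toFun (l i),
    { s₁ := signedIrr_toFun K.s₁
      s₂ := signedIrr_toFun K.s₂
      s₃ := signedIrr_toFun K.s₃
      s₄ := signedIrr_toFun K.s₄
      s₅ := signedIrr_toFun K.s₅
      sL := fun i => signedIrr_toFun (K.sL i)
      x₁₂ := z K.x₁₂
      x₁₃ := z K.x₁₃
      x₁₄ := z K.x₁₄
      x₁₅ := z K.x₁₅
      x₂₃ := z K.x₂₃
      x₂₄ := z K.x₂₄
      x₂₅ := z K.x₂₅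
      x₃₄ := z K.x₃₄
      x₃₅ := z K.x₃₅
      x₄₅ := z K.x₄₅
      L₁ := fun i => z (K.L₁ i)
      L₂ := fun i => z (K.L₂ i)
      L₃ := fun i => z (K.L₃ i)
      L₄ := fun i => z (K.L₄ i)
      L₅ := fun i => z (K.L₅ i)
      LL := fun i j hij => z (K.LL i j hij)
      eqΦ := fun i => by rw [hφ, K.eqΦ, toFun_add, toFun_sub]
      eqS := by rw [hs, K.eqS, toFun_sub, toFun_add, toFun_sub]
      eqP := by rw [hp, K.eqP, toFun_add, toFun_add] }⟩

end Cfsg.Agent.Classification.QDW.GramFour
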