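import Mathlib
import Cfsg.Agent.Classification.InvCent.SDMain
import Cfsg.Agent.Classification.RTwo.SDChar
import Cfsg.Agent.Characters.SchurBound
import Cfsg.Agent.TwoFusion.DihedralFusion
import Cfsg.Agent.Classification.QDW.NumBridge

/-!
# The numbers of the quasi-dihedral case: from `SDRes` to `Num`
-/

set_option autoImplicit false
set_option linter.unusedSectionVars false

open Cfsg

namespace Cfsg.Agent.Classification.QDW.NumBridgeG

open Cfsg.Agent.Characters Cfsg.Agent.Classification.BGOrder Cfsg.Agent.Classification.BGSplit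
  Cfsg.Agent.Classification.BGIsometry Cfsg.Agent.Classification.BGBlockB0
  Cfsg.Agent.Classification.InvCent Cfsg.Agent.Classification.InvCent.GPair
  Cfsg.Agent.TwoFusion.DihedralFusion
  Cfsg.Agent.Classification.QDW.NumBridge

universe w v

/-- The sum of a generalized character over a four-group. -/
theorem exists_sum_four {G : Type w} [Group G] [Fintype G] {θ : G → ℂ}
    (hθ : IsGeneralizedCharacter G θ) {a b : G} (ha : a * a = 1) (hb : b * b = 1)
    (hab : a * b = b * a) (ha1 : a ≠ 1) (hb1 : b ≠ 1) (hne : a ≠ b) :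
    ∃ z : ℤ, θ 1 + θ a + θ b + θ (a * b) = 4 * z := by
  classical
  have hV := isKleinFour_fourGroup ha hb hab ha1 hb1 hne
  set V := fourGroup a b ha hb hab with hVdef
  have := Fintype.ofFinite V
  obtain ⟨z, hz⟩ := SchurBound.exists_int_sum (G := V) (GL23Assembly.isGen_comp V.subtype hθ)
  refine ⟨z, ?_⟩
  rw [hV.card_four] at hz
  have hab1 : a * b ≠ 1 := by
    intro h1
    apply hne
    have h2 := eq_inv_of_mul_eq_one_left h1
    have h3 : b⁻¹ = b := inv_eq_of_mul_eq_one_left hb
    rw [h2, h3]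
  have m1 : (1 : G) ∈ V := Or.inl rfl
  have ma : a ∈ V := Or.inr (Or.inl rfl)
  have mb : b ∈ V := Or.inr (Or.inr (Or.inl rfl))
  have mab : a * b ∈ V := Or.inr (Or.inr (Or.inr rfl))
  have hu : (Finset.univ : Finset V) = {(⟨1, m1⟩ : V), ⟨a, ma⟩, ⟨b, mb⟩, ⟨a * b, mab⟩} := by
    ext x
    simp only [Finset.mem_univ, Finset.mem_insert, Finset.mem_singleton, true_iff]
    rcases x.2 with h | h | h | h
    · left; exact Subtype.ext h
    · right; left; exact Subtype.ext h
    · right; right; left; exact Subtype.ext h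
    · right; right; right; exact Subtype.ext h
  have n1 : (⟨b, mb⟩ : V) ≠ ⟨a * b, mab⟩ := fun h1 =>
    ha1 (mul_eq_right.1 (congrArg Subtype.val h1).symm)
  have n2 : (⟨a, ma⟩ : V) ≠ ⟨b, mb⟩ := fun h1 => hne (congrArg Subtype.val h1)
  have n3 : (⟨a, ma⟩ : V) ≠ ⟨a * b, mab⟩ := fun h1 =>
    hb1 (mul_eq_left.1 (congrArg Subtype.val h1).symm)
  have n4 : (⟨1, m1⟩ : V) ≠ ⟨a, ma⟩ := fun h1 => ha1 (congrArg Subtype.val h1).symm
  have n5 : (⟨1, m1⟩ : V) ≠ ⟨b, mb⟩ := fun h1 => hb1 (congrArg Subtype.val h1).symm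
  have n6 : (⟨1, m1⟩ : V) ≠ ⟨a * b, mab⟩ := fun h1 => hab1 (congrArg Subtype.val h1).symm
  rw [hu, Finset.sum_insert, Finset.sum_insert, Finset.sum_insert, Finset.sum_singleton] at hz
  · simp only [Function.comp_apply, Subgroup.subtype_apply] at hz
    push_cast at hz
    rw [← hz]
    ring
  · rw [Finset.mem_singleton]; exact n1
  · rw [Finset.mem_insert, Finset.mem_singleton]
    rintro (h1 | h1)
    · exact n2 h1
    · exact n3 h1
  · rw [Finset.mem_insert, Finset.mem_insert, Finset.mem_singleton]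
    rintro (h1 | h1 | h1)
    · exact n4 h1
    · exact n5 h1
    · exact n6 h1

section

variable {G : Type w} [Group G] [Fintype G] {C : Type v} [Group C] [Fintype C] {t : G} {z : C}
  {π : (Subgroup.centralizer ({t} : Set G)) →* C}
  {q : ℕ} {ε : ℤ} {Z T T' U : Subgroup C} {s s' u : C}
  {b : C →* ℂˣ}

/-- An involution over `u`, a four-group with all involutions conjugate. -/
theorem exists_over (H : RTwo.General.Hyp t z π) (h : CHyp z q ε Z T T' U s s' u) :
    ∃ x : Subgroup.centralizer ({t} : Set G), orderOf x = 2 ∧ π x = u := by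
  have h1 := (kap_odd H h).pos
  have h2 : Nonempty {x : Subgroup.centralizer ({t} : Set G) // orderOf x = 2 ∧ π x = u} :=
    (Nat.card_pos_iff.1 h1).1
  obtain ⟨x, hx⟩ := h2
  exact ⟨x, hx⟩

/-- `X(1) + 3 X(t) ≡ 0 mod 4`. -/
theorem exists_mod_four (H : RTwo.General.Hyp t z π) (h : CHyp z q ε Z T T' U s s' u)
    {X : G → ℂ} (hX : SignedIrr X) : ∃ k : ℤ, X 1 + 3 * X t = 4 * k := by
  obtain ⟨x, hx, hxu⟩ := exists_over H h
  have hcl := isClassFunction_signed hX
  have hx2 : orderOf (x : G) = 2 := by rw [Subgroup.orderOf_coe]; exact hx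
  have ha := RTwo.General.t_mul_t H
  have hb : (x : G) * x = 1 := by
    have h1 := pow_orderOf_eq_one (x : G)
    rwa [hx2, _root_.sq] at h1
  have hab : t * (x : G) = x * t := (Subgroup.mem_centralizer_singleton_iff.1 x.2).symm
  have ha1 : t ≠ 1 := RTwo.General.t_ne_one H
  have hb1 : (x : G) ≠ 1 := by
    intro h1
    rw [h1, orderOf_one] at hx2
    exact absurd hx2 (by norm_num)
  have hne : t ≠ (x : G) := by
    intro h1
    apply h.u_ne
    rw [← hxu, ← RTwo.General.map_tt H]
    congr 1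
    exact Subtype.ext h1.symm
  obtain ⟨k, hk⟩ := exists_sum_four (generalized_signed hX) ha hb hab ha1 hb1 hne
  refine ⟨k, ?_⟩
  rw [← hk]
  have e1 : X x = X t := by
    obtain ⟨c, hc⟩ := isConj_iff.1 (H.one_class _ hx2)
    rw [← hc]
    exact hcl t c
  have e2 : X (t * x) = X t := by
    have h1 : orderOf (t * (x : G)) = 2 := by
      refine orderOf_eq_prime ?_ ?_
      · rw [_root_.sq]
        calc t * (x : G) * (t * x) = t * ((x : G) * t) * x := by group
          _ = (t * t) * (x * x) := by rw [← hab]; group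
          _ = 1 := by rw [ha, hb, one_mul]
      · intro h2
        apply hne
        exact (eq_inv_of_mul_eq_one_left h2).trans (inv_eq_of_mul_eq_one_left hb)
    obtain ⟨c, hc⟩ := isConj_iff.1 (H.one_class _ h1)
    rw [← hc]
    exact hcl t c
  rw [e1, e2]
  ring

/-- **The numbers.** -/
theorem num {M : Ideal AlgInt} {μ : U →* ℂˣ} {X₂ X₃ X₄ X₅ L : G → ℂ} {f x : ℤ}
    (H : RTwo.General.Hyp t z π) {h : CHyp z q ε Z T T' U s s' u} (h4 : ¬ (4 : ℤ) ∣ q - ε)
    (R : SDRes M h μ π X₂ X₃ X₄ X₅ L f x) :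
    Num q ε ((Subgroup.centralizer ({t} : Set G)).index) (kap π u) f x where
  q_ge := by
    have h1 := h.one_lt_q
    obtain ⟨k, hk⟩ := h.odd_q
    omega
  eps := h.eps
  mod_q := by
    obtain ⟨k, hk⟩ := h.odd_q
    rcases h.eps with h1 | h1 <;> rw [h1] at h4 ⊢ <;> omega
  odd_n := by exact_mod_cast RTwo.SDChar.odd_index H.orderOf_t H.one_class
  odd_κ := by exact_mod_cast kap_odd H h
  eqA := by rw [R.eqA]
  eqB := by rw [R.eqB]
  f_ne_zero := R.f_ne_zero
  f_ne_one := R.f_ne_one
  x_ne_zero := R.x_ne_zero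
  x_ne := R.x_ne
  mod_f := by
    obtain ⟨k, hk⟩ := exists_mod_four H h R.in₂.signedIrr
    rw [R.one₂, R.t₂] at hk
    have hk' : f + 3 * (ε * q) = 4 * k := by exact_mod_cast hk
    exact ⟨k - ε * q, by linear_combination hk'⟩

end

end Cfsg.Agent.Classification.QDW.NumBridgeG
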