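import Mathlib
import Cfsg.Agent.Classification.QDW.FldVal
import Cfsg.Agent.Classification.QDW.FldSep
import Cfsg.Agent.Classification.QDW.FldSDFull
import Cfsg.Agent.Classification.QDW.GramFour
import Cfsg.Agent.Classification.QDW.FieldNum
import Cfsg.Agent.Classification.QDW.NumBridgeG

/-!
# The `L1`-lemma, semidihedral case

`l` is a linear character of `Γ / N`, `Γ = C_G(t)`, which is the restriction of a class function `Λ`
of `G` (`LHyp l Λ`).

* `pow_dvd_sub`: congruences of the degrees;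
* `tHyp`: the Gram data of the twisted lifts;
* `SDTw`, `exists_sdTw`: the characters, their values on `N`, their degrees;
* `numN`, `exists_sdFull_num`: the numbers of the principal block;
* `false_of_twist`: if `l ≠ 1` this contradicts `2 (q - 1) ≤ |f - Q|`.
-/

set_option autoImplicit false
set_option linter.unusedSectionVars false

open Cfsg
open scoped ComplexConjugate

namespace Cfsg.Agent.Classification.QDW.Fld

open Cfsg.Agent.Characters Cfsg.Agent.Blocks.Local Cfsg.Agent.Blocks.Basic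
  Cfsg.Agent.Classification.BGBlockB0 Cfsg.Agent.Classification.InvCent
  Cfsg.Agent.Classification.BGIsometry Cfsg.Agent.Classification.BGOrder
  Cfsg.Agent.Classification.BGSplit Cfsg.Agent.Classification.InvCent.SDGram

universe w v

section Congr

variable {G : Type w} [Group G] {C : Type v} [Group C] {t : G} {z : C}
  {N S : Subgroup (Subgroup.centralizer ({t} : Set G))} {π : N →* C}

/-- The elements of 2-power order of `Γ` lie in `N`. -/
theorem mem_of_pow_two [Finite G] (h : FHyp t z N S π) {x : Subgroup.centralizer ({t} : Set G)}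
    {k : ℕ} (hx : x ^ 2 ^ k = 1) : x ∈ N := by
  have := h.ad.normal
  have h1 : (QuotientGroup.mk' N x) ^ N.index = 1 := by
    rw [Subgroup.index_eq_card]
    exact pow_card_eq_one'
  have h2 : (QuotientGroup.mk' N x) ^ 2 ^ k = 1 := by
    rw [← map_pow, hx, map_one]
  have h3 : orderOf (QuotientGroup.mk' N x) = 1 :=
    Nat.eq_one_of_dvd_coprimes (Nat.Coprime.pow_left k (Nat.coprime_two_left.2 h.ad.odd_index_N))
      (orderOf_dvd_of_pow_eq_one h2) (orderOf_dvd_of_pow_eq_one h1)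
  rw [orderOf_eq_one_iff] at h3
  exact (QuotientGroup.eq_one_iff x).1 h3

/-- A nonidentity element of 2-power order is conjugate to an element of `N` having `t` as a
power. -/
theorem exists_conj_N [Finite G] (H : FHyp t z N S π) {x : G} {k : ℕ} (hx : x ^ 2 ^ k = 1)
    (hx1 : x ≠ 1) : ∃ (g : G) (n : N),
      g * x * g⁻¹ = ((n : Subgroup.centralizer ({t} : Set G)) : G) ∧
        z ∈ Subgroup.zpowers (π n) := by
  obtain ⟨m, -, hm⟩ := (Nat.dvd_prime_pow Nat.prime_two).1 (orderOf_dvd_of_pow_eq_one hx)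
  have hm0 : m ≠ 0 := by
    rintro rfl
    rw [pow_zero, orderOf_eq_one_iff] at hm
    exact hx1 hm
  obtain ⟨j, rfl⟩ := Nat.exists_eq_succ_of_ne_zero hm0
  have h2 : orderOf (x ^ 2 ^ j) = 2 := by
    rw [orderOf_pow, hm, Nat.succ_eq_add_one, pow_succ]
    rw [Nat.gcd_eq_right (Dvd.intro _ rfl)]
    exact Nat.mul_div_cancel_left 2 (by positivity)
  obtain ⟨g, hg⟩ := isConj_iff.1 (H.one_class _ h2).symm
  have hg' : (g * x * g⁻¹) ^ 2 ^ j = t := by rw [conj_pow, hg]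
  have hcen : g * x * g⁻¹ ∈ Subgroup.centralizer ({t} : Set G) := by
    rw [Subgroup.mem_centralizer_singleton_iff, ← hg', ← pow_succ, ← pow_succ']
  have hN : (⟨g * x * g⁻¹, hcen⟩ : Subgroup.centralizer ({t} : Set G)) ∈ N := by
    refine mem_of_pow_two H (k := k) (Subtype.ext ?_)
    show (g * x * g⁻¹) ^ 2 ^ k = 1
    rw [conj_pow, hx, mul_one, mul_inv_cancel]
  refine ⟨g, ⟨_, hN⟩, rfl, ?_⟩
  rw [← H.mem_zpowers_map]
  have h5 := Subgroup.npow_mem_zpowers (g * x * g⁻¹) (2 ^ j)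
  rwa [hg'] at h5

theorem gen_sub [Fintype G] {X Y : G → ℂ} (hX : IsGeneralizedCharacter G X)
    (hY : IsGeneralizedCharacter G Y) : IsGeneralizedCharacter G (X - Y) := by
  obtain ⟨a, b, ha, hb, rfl⟩ := hX
  obtain ⟨c, d, hc, hd, rfl⟩ := hY
  refine ⟨a + d, b + c, Core.isCharacter_add ha hd, Core.isCharacter_add hb hc, ?_⟩
  abel

/-- **Congruence of the degrees** of generalized characters with the same values on `N`. -/
theorem pow_dvd_sub [Fintype G] (H : FHyp t z N S π) {X Y : G → ℂ}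
    (hX : IsGeneralizedCharacter G X) (hY : IsGeneralizedCharacter G Y)
    (hXY : ∀ n : N, z ∈ Subgroup.zpowers (π n) →
      X ((n : Subgroup.centralizer ({t} : Set G)) : G) =
        Y ((n : Subgroup.centralizer ({t} : Set G)) : G))
    {m : ℕ} (hm : 2 ^ m ∣ Nat.card C) {x y : ℤ} (hx : X 1 = x) (hy : Y 1 = y) :
    (2 : ℤ) ^ m ∣ x - y := by
  classical
  have := Fact.mk Nat.prime_two
  have h1 : 2 ^ m ∣ Nat.card G :=
    hm.trans ((Subgroup.card_dvd_of_surjective π H.surj).trans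
      ((Subgroup.card_subgroup_dvd_card N).trans (Subgroup.card_subgroup_dvd_card _)))
  obtain ⟨P, hP⟩ := Sylow.exists_subgroup_card_pow_prime 2 h1
  have := Fintype.ofFinite P
  obtain ⟨k, hk⟩ := SchurBound.exists_int_sum (G := P)
    (GL23Assembly.isGen_comp P.subtype (gen_sub hX hY))
  have h3 : ∑ w : P, ((X - Y) ∘ P.subtype) w = ((X - Y) ∘ P.subtype) 1 := by
    refine Finset.sum_eq_single (1 : P) (fun w _ hw => ?_) (fun h => absurd (Finset.mem_univ _) h)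
    have hw1 : (w : G) ≠ 1 := fun h => hw (Subtype.ext h)
    have hw2 : (w : G) ^ 2 ^ m = 1 := by
      have : w ^ Nat.card P = 1 := pow_card_eq_one'
      rw [hP] at this
      exact_mod_cast congrArg Subtype.val this
    obtain ⟨g, n, hg, hn⟩ := exists_conj_N H hw2 hw1
    have e1 := isClass_of_generalized hX (w : G) g
    have e2 := isClass_of_generalized hY (w : G) g
    show X w - Y w = 0
    rw [← e1, ← e2, hg, hXY n hn, sub_self]
  rw [h3, hP] at hk
  have h4 : ((X - Y) ∘ P.subtype) 1 = ((x - y : ℤ) : ℂ) := by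
    show X ((1 : P) : G) - Y ((1 : P) : G) = _
    rw [OneMemClass.coe_one, hx, hy]
    push_cast
    ring
  rw [h4] at hk
  exact ⟨k, by exact_mod_cast hk⟩

end Congr

section

variable {G : Type w} [Group G] [Fintype G] {C : Type v} [Group C] [Fintype C] {t : G} {z : C}
  {N S : Subgroup (Subgroup.centralizer ({t} : Set G))} {π : N →* C} {M : Ideal AlgInt}
  {q : ℕ} {ε : ℤ} {Z T T' U : Subgroup C} {s s' u : C}
  {h : CHyp z q ε Z T T' U s s' u} {b : C →* ℂˣ} {θ : T' →* ℂˣ} {n : ℕ} {μ : U →* ℂˣ}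
  {χ : T →* ℂˣ} [N.Normal] {l : Subgroup.centralizer ({t} : Set G) ⧸ N →* ℂ}

open Classical in
/-- The Gram data. -/
theorem tHyp (H : FHyp t z N S π) (l : Subgroup.centralizer ({t} : Set G) ⧸ N →* ℂ)
    (g : Gen h b θ n) (c : Chi h b χ)
    (hD : DetHyp q ε T T' U s s' u 2 b) (hμ : ∃ v : U, μ v ≠ 1) (hM : IsPModular 2 M) :
    GramFour.THyp (fun f : g.Fam μ => FIndL M l π f.1) (FIndL M l π (phi h μ θ (2 ^ (n - 1))))
      (FIndL M l π (psi h μ θ n χ)) := by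
  have pF : ∀ f ∈ g.Fam μ, Prin M f := by
    rintro f ⟨j, hj, rfl⟩; exact prin_phi g hM hμ j
  have sF : ∀ f ∈ g.Fam μ, ∀ x, f x ≠ 0 → z ∈ Subgroup.zpowers x := by
    rintro f ⟨j, hj, rfl⟩ x hx; exact g.phi_supp hμ j hx
  have gF : ∀ f ∈ g.Fam μ, IsGeneralizedCharacter C f := by
    rintro f ⟨j, hj, rfl⟩; exact g.phi_gen j
  have ps : Prin M (phi h μ θ (2 ^ (n - 1))) := prin_phi g hM hμ _
  have ss : ∀ x, phi h μ θ (2 ^ (n - 1)) x ≠ 0 → z ∈ Subgroup.zpowers x :=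
    fun x hx => g.phi_supp hμ _ hx
  have gp := psi_gen g c hD hμ
  have pp : Prin M (psi h μ θ n χ) := prin_psi g c hM hμ
  have sp : ∀ x, psi h μ θ n χ x ≠ 0 → z ∈ Subgroup.zpowers x :=
    fun x hx => psi_supp g c hD hμ hx
  refine
    { gΦ := fun f => isGeneralized_FIndL (gF f.1 f.2)
      gS := isGeneralized_FIndL (g.phi_gen _)
      gP := isGeneralized_FIndL gp
      oneΦ := fun f => FIndL_at_one H hM (sF f.1 f.2)
      oneS := FIndL_at_one H hM ss
      oneP := FIndL_at_one H hM sp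
      ΦΦ := fun f f' => ?_
      ΦS := fun f => ?_
      SS := ?_
      PP := ?_
      PΦ := fun f => ?_
      PS := ?_ }
  · rw [FIndL_inner H hM (pF f'.1 f'.2) (sF f.1 f.2) (sF f'.1 f'.2)]
    by_cases hff : f = f'
    · rw [if_pos hff, hff]; exact g.Fam_self hμ f'.2
    · rw [if_neg hff]; exact g.Fam_ne hμ f.2 f'.2 (fun h1 => hff (Subtype.ext h1))
  · exact (FIndL_inner H hM ps (sF f.1 f.2) ss).trans (g.Fam_phis hμ f.2)
  · exact (FIndL_inner H hM ps ss ss).trans (g.phis_self hμ)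
  · exact (FIndL_inner H hM pp sp sp).trans (psi_self g c hD hμ)
  · exact (FIndL_inner H hM (pF f.1 f.2) sp (sF f.1 f.2)).trans (psi_Fam g c hD hμ f.2)
  · exact (FIndL_inner H hM ps sp ss).trans (psi_phis g c hD hμ)

/-- Class formula for three constituents. -/
theorem cfL_three (H : FHyp t z N S π) (hM : IsPModular 2 M) (hC : CHyp z q ε Z T T' U s s' u)
    {f : C → ℂ} (hfp : Prin M f)
    (hf : ∀ x, f x ≠ 0 → z ∈ Subgroup.zpowers x) {A B D : G → ℂ} (hA : SignedIrr A)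
    (hB : SignedIrr B) (hD : SignedIrr D) (hE : FIndL M l π f = A + B + D) :
    ((Subgroup.centralizer ({t} : Set G)).index : ℂ) *
      (A t ^ 2 / A 1 + B t ^ 2 / B 1 + D t ^ 2 / D 1) = (kapN π u : ℂ) ^ 2 * pairSum z f := by
  have h1 := classFormulaL H hM hC hfp hf (Finset.univ : Finset (Fin 3)) (fun _ => 1)
    ![A, B, D] (by
      intro j _
      fin_cases j
      · exact hA
      · exact hB
      · exact hD) (by
      rw [hE]
      funext x
      simp [Fin.sum_univ_three])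
  rw [← h1]
  congr 1
  simp [Fin.sum_univ_three]

/-- Class formula for four constituents. -/
theorem cfL_four (H : FHyp t z N S π) (hM : IsPModular 2 M) (hC : CHyp z q ε Z T T' U s s' u)
    {f : C → ℂ} (hfp : Prin M f)
    (hf : ∀ x, f x ≠ 0 → z ∈ Subgroup.zpowers x) {A B D E : G → ℂ} (hA : SignedIrr A)
    (hB : SignedIrr B) (hD : SignedIrr D) (hE' : SignedIrr E)
    (hE : FIndL M l π f = A + B + D + E) :
    ((Subgroup.centralizer ({t} : Set G)).index : ℂ) *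
      (A t ^ 2 / A 1 + B t ^ 2 / B 1 + D t ^ 2 / D 1 + E t ^ 2 / E 1) =
      (kapN π u : ℂ) ^ 2 * pairSum z f := by
  have h1 := classFormulaL H hM hC hfp hf (Finset.univ : Finset (Fin 4)) (fun _ => 1)
    ![A, B, D, E] (by
      intro j _
      fin_cases j
      · exact hA
      · exact hB
      · exact hD
      · exact hE') (by
      rw [hE]
      funext x
      simp [Fin.sum_univ_four])
  rw [← h1]
  congr 1
  simp [Fin.sum_univ_four]

/-- The characters of `G` in the semidihedral case, twisted by `l`. -/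
structure SDTw (M : Ideal AlgInt) (h : CHyp z q ε Z T T' U s s' u) (b : C →* ℂˣ)
    (θ : T' →* ℂˣ) (n : ℕ) (χ : T →* ℂˣ) (μ : U →* ℂˣ)
    (l : Subgroup.centralizer ({t} : Set G) ⧸ N →* ℂ)
    (π : N →* C) (X₁ X₂ X₃ X₄ X₅ L : G → ℂ) (y₁ y₂ y₄ : ℤ) : Prop where
  s₁ : SignedIrr X₁
  s₂ : SignedIrr X₂
  s₃ : SignedIrr X₃
  s₄ : SignedIrr X₄
  s₅ : SignedIrr X₅
  sL : SignedIrr L
  /-- the relations -/
  eqΦ : FIndL M l π (phi h μ θ 1) = X₁ - X₂ + L
  eqS : FIndL M l π (phi h μ θ (2 ^ (n - 1))) = X₁ - X₂ + X₄ - X₅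
  eqP : FIndL M l π (psi h μ θ n χ) = X₁ + X₃ + X₄
  /-- the values -/
  valD₁ : ∀ y : N, z ∈ Subgroup.zpowers (π y) →
    X₁ ((y : Subgroup.centralizer ({t} : Set G)) : G) = 1
  valD₂ : ∀ y : N, z ∈ Subgroup.zpowers (π y) →
    X₂ ((y : Subgroup.centralizer ({t} : Set G)) : G) =
      (Torus.R T h.base μ (fun _ => 1) (π y) - Torus.R T' h.base μ (fun _ => 1) (π y)) / 2
  valD₃ : ∀ y : N, z ∈ Subgroup.zpowers (π y) →
    X₃ ((y : Subgroup.centralizer ({t} : Set G)) : G) = Torus.R T h.base μ (fun _ => 1) (π y)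
  valD₄ : ∀ y : N, z ∈ Subgroup.zpowers (π y) →
    X₄ ((y : Subgroup.centralizer ({t} : Set G)) : G) = ((b (π y) : ℂˣ) : ℂ) *
      ((Torus.R T h.base μ (fun _ => 1) (π y) - Torus.R T' h.base μ (fun _ => 1) (π y)) / 2)
  valD₅ : ∀ y : N, z ∈ Subgroup.zpowers (π y) →
    X₅ ((y : Subgroup.centralizer ({t} : Set G)) : G) = ((b (π y) : ℂˣ) : ℂ)
  /-- the first character is orthogonal to the principal block -/
  ne_one : l ≠ 1 → X₁ ≠ 1
  /-- the degrees -/
  one₁ : X₁ 1 = y₁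
  one₂ : X₂ 1 = y₂
  one₃ : X₃ 1 = -y₁ - y₄
  one₄ : X₄ 1 = y₄
  one₅ : X₅ 1 = y₁ - y₂ + y₄
  oneL : L 1 = y₂ - y₁

/-- The numbers of a constituent of the twisted lifts. -/
theorem exists_nums (H : FHyp t z N S π) {Λ : G → ℂ} (hL : LHyp l Λ) (g : Gen h b θ n)
    (c : Chi h b χ) (hD : DetHyp q ε T T' U s s' u 2 b) (hμ : ∃ v : U, μ v ≠ 1)
    (hM : IsPModular 2 M) {X : G → ℂ} (hX : SignedIrr X) {xθ xs xp : ℤ}
    (hF : ∀ f ∈ g.Fam μ, classInner (FIndL M l π f) X = xθ)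
    (hS : classInner (FIndL M l π (phi h μ θ (2 ^ (n - 1)))) X = xs)
    (hP : classInner (FIndL M l π (psi h μ θ n χ)) X = xp) (hne : xs ≠ 0 ∨ xp ≠ 0) :
    ∃ F : C → ℂ, Prin M F ∧ (∀ n : N, z ∈ Subgroup.zpowers (π n) →
        X ((n : Subgroup.centralizer ({t} : Set G)) : G) = F (π n)) ∧
      Nums g μ χ F xθ xs xp := by
  have ss : ∀ x, phi h μ θ (2 ^ (n - 1)) x ≠ 0 → z ∈ Subgroup.zpowers x :=
    fun x hx => g.phi_supp hμ _ hx
  have sp : ∀ x, psi h μ θ n χ x ≠ 0 → z ∈ Subgroup.zpowers x :=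
    fun x hx => psi_supp g c hD hμ hx
  have key : ∃ F : C → ℂ, Prin M F ∧
      (∀ n : N, z ∈ Subgroup.zpowers (π n) →
        X ((n : Subgroup.centralizer ({t} : Set G)) : G) = F (π n)) ∧
      ∀ f : C → ℂ, (∀ c, f c ≠ 0 → z ∈ Subgroup.zpowers c) →
        classInner (FIndL M l π f) X = classInner f F := by
    rcases hne with h1 | h1
    · exact exists_FL H hM hL hX ss (by rw [hS]; exact_mod_cast h1)
    · exact exists_FL H hM hL hX sp (by rw [hP]; exact_mod_cast h1)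
  obtain ⟨F, hF1, hF2, hF3⟩ := key
  refine ⟨F, hF1, hF2, fun f hf => ?_, ?_, ?_⟩
  · rw [← hF f hf]
    refine (hF3 f ?_).symm
    obtain ⟨j, hj, rfl⟩ := hf
    exact fun x hx => g.phi_supp hμ j hx
  · rw [← hS]
    exact (hF3 _ ss).symm
  · rw [← hP]
    exact (hF3 _ sp).symm

theorem exists_sdTw (H : FHyp t z N S π) {Λ : G → ℂ} (hL : LHyp l Λ) (g : Gen h b θ n)
    (c : Chi h b χ) (hD : DetHyp q ε T T' U s s' u 2 b) (hμ : ∃ v : U, μ v ≠ 1)
    (hM : IsPModular 2 M) :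
    ∃ (X₁ X₂ X₃ X₄ X₅ L : G → ℂ) (y₁ y₂ y₄ : ℤ),
      SDTw M h b θ n χ μ l π X₁ X₂ X₃ X₄ X₅ L y₁ y₂ y₄ := by
  classical
  let _ : Fintype (g.Fam μ) := g.Fam_finite.fintype
  have hcard : 3 ≤ Fintype.card (g.Fam μ) := by
    obtain ⟨f₁, h1, f₂, h2, f₃, h3, h12, h13, h23⟩ := g.exists_three hμ
    have : 2 < Fintype.card (g.Fam μ) := Fintype.two_lt_card_iff.2
      ⟨⟨f₁, h1⟩, ⟨f₂, h2⟩, ⟨f₃, h3⟩, fun e => h12 (congrArg Subtype.val e),
        fun e => h13 (congrArg Subtype.val e), fun e => h23 (congrArg Subtype.val e)⟩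
    omega
  obtain ⟨X₁, X₂, X₃, X₄, X₅, L, S⟩ := (tHyp H l g c hD hμ hM).exists_split hcard
  -- supports
  have hj1 : ¬ 2 ^ (n - 1) ∣ 1 := by
    intro h1
    have h2 := Nat.le_of_dvd one_pos h1
    have h3 : 1 < 2 ^ (n - 1) := Nat.one_lt_two_pow (by have := g.three_le; omega)
    omega
  let i₁ : g.Fam μ := ⟨phi h μ θ 1, g.phi_mem_Fam hj1⟩
  have s1 : ∀ x, phi h μ θ 1 x ≠ 0 → z ∈ Subgroup.zpowers x := fun x hx => g.phi_supp hμ _ hx
  have ss : ∀ x, phi h μ θ (2 ^ (n - 1)) x ≠ 0 → z ∈ Subgroup.zpowers x :=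
    fun x hx => g.phi_supp hμ _ hx
  have sp : ∀ x, psi h μ θ n χ x ≠ 0 → z ∈ Subgroup.zpowers x :=
    fun x hx => psi_supp g c hD hμ hx
  -- inner products
  have e11 := signed_self S.s₁
  have e22 := signed_self S.s₂
  have e33 := signed_self S.s₃
  have e44 := signed_self S.s₄
  have e55 := signed_self S.s₅
  have y21 := inner_symm_zero S.x₁₂
  have y31 := inner_symm_zero S.x₁₃
  have y41 := inner_symm_zero S.x₁₄
  have y51 := inner_symm_zero S.x₁₅
  have y32 := inner_symm_zero S.x₂₃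
  have y42 := inner_symm_zero S.x₂₄
  have y52 := inner_symm_zero S.x₂₅
  have y43 := inner_symm_zero S.x₃₄
  have y53 := inner_symm_zero S.x₃₅
  have y54 := inner_symm_zero S.x₄₅
  have F1 : ∀ f ∈ g.Fam μ, classInner (FIndL M l π f) X₁ = ((1 : ℤ) : ℂ) := by
    intro f hf
    have h1 := S.eqΦ ⟨f, hf⟩
    simp only at h1
    rw [h1, Core.classInner_add_left, Core.classInner_sub_left, e11, y21, S.L₁]
    norm_num
  have F2 : ∀ f ∈ g.Fam μ, classInner (FIndL M l π f) X₂ = ((-1 : ℤ) : ℂ) := by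
    intro f hf
    have h1 := S.eqΦ ⟨f, hf⟩
    simp only at h1
    rw [h1, Core.classInner_add_left, Core.classInner_sub_left, S.x₁₂, e22, S.L₂]
    norm_num
  have F3 : ∀ f ∈ g.Fam μ, classInner (FIndL M l π f) X₃ = ((0 : ℤ) : ℂ) := by
    intro f hf
    have h1 := S.eqΦ ⟨f, hf⟩
    simp only at h1
    rw [h1, Core.classInner_add_left, Core.classInner_sub_left, S.x₁₃, S.x₂₃, S.L₃]
    norm_num
  have F4 : ∀ f ∈ g.Fam μ, classInner (FIndL M l π f) X₄ = ((0 : ℤ) : ℂ) := by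
    intro f hf
    have h1 := S.eqΦ ⟨f, hf⟩
    simp only at h1
    rw [h1, Core.classInner_add_left, Core.classInner_sub_left, S.x₁₄, S.x₂₄, S.L₄]
    norm_num
  have F5 : ∀ f ∈ g.Fam μ, classInner (FIndL M l π f) X₅ = ((0 : ℤ) : ℂ) := by
    intro f hf
    have h1 := S.eqΦ ⟨f, hf⟩
    simp only at h1
    rw [h1, Core.classInner_add_left, Core.classInner_sub_left, S.x₁₅, S.x₂₅, S.L₅]
    norm_num
  have S1 : classInner (FIndL M l π (phi h μ θ (2 ^ (n - 1)))) X₁ = ((1 : ℤ) : ℂ) := by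
    rw [S.eqS, Core.classInner_sub_left, Core.classInner_add_left, Core.classInner_sub_left,
      e11, y21, y41, y51]
    norm_num
  have S2 : classInner (FIndL M l π (phi h μ θ (2 ^ (n - 1)))) X₂ = ((-1 : ℤ) : ℂ) := by
    rw [S.eqS, Core.classInner_sub_left, Core.classInner_add_left, Core.classInner_sub_left,
      S.x₁₂, e22, y42, y52]
    norm_num
  have S3 : classInner (FIndL M l π (phi h μ θ (2 ^ (n - 1)))) X₃ = ((0 : ℤ) : ℂ) := by
    rw [S.eqS, Core.classInner_sub_left, Core.classInner_add_left, Core.classInner_sub_left,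
      S.x₁₃, S.x₂₃, y43, y53]
    norm_num
  have S4 : classInner (FIndL M l π (phi h μ θ (2 ^ (n - 1)))) X₄ = ((1 : ℤ) : ℂ) := by
    rw [S.eqS, Core.classInner_sub_left, Core.classInner_add_left, Core.classInner_sub_left,
      S.x₁₄, S.x₂₄, e44, y54]
    norm_num
  have S5 : classInner (FIndL M l π (phi h μ θ (2 ^ (n - 1)))) X₅ = ((-1 : ℤ) : ℂ) := by
    rw [S.eqS, Core.classInner_sub_left, Core.classInner_add_left, Core.classInner_sub_left,
      S.x₁₅, S.x₂₅, S.x₄₅, e55]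
    norm_num
  have P1 : classInner (FIndL M l π (psi h μ θ n χ)) X₁ = ((1 : ℤ) : ℂ) := by
    rw [S.eqP, Core.classInner_add_left, Core.classInner_add_left, e11, y31, y41]
    norm_num
  have P2 : classInner (FIndL M l π (psi h μ θ n χ)) X₂ = ((0 : ℤ) : ℂ) := by
    rw [S.eqP, Core.classInner_add_left, Core.classInner_add_left, S.x₁₂, y32, y42]
    norm_num
  have P3 : classInner (FIndL M l π (psi h μ θ n χ)) X₃ = ((1 : ℤ) : ℂ) := by
    rw [S.eqP, Core.classInner_add_left, Core.classInner_add_left, S.x₁₃, e33, y43]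
    norm_num
  have P4 : classInner (FIndL M l π (psi h μ θ n χ)) X₄ = ((1 : ℤ) : ℂ) := by
    rw [S.eqP, Core.classInner_add_left, Core.classInner_add_left, S.x₁₄, S.x₃₄, e44]
    norm_num
  have P5 : classInner (FIndL M l π (psi h μ θ n χ)) X₅ = ((0 : ℤ) : ℂ) := by
    rw [S.eqP, Core.classInner_add_left, Core.classInner_add_left, S.x₁₅, S.x₃₅, S.x₄₅]
    norm_num
  -- degrees
  obtain ⟨y₁, -, hy₁⟩ := InvCent.WreathedGram.signed_degree S.s₁
  obtain ⟨y₂, -, hy₂⟩ := InvCent.WreathedGram.signed_degree S.s₂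
  obtain ⟨y₄, -, hy₄⟩ := InvCent.WreathedGram.signed_degree S.s₄
  have o1 := congrFun (S.eqΦ i₁) 1
  rw [FIndL_at_one H hM s1] at o1
  have o2 := congrFun S.eqS 1
  rw [FIndL_at_one H hM ss] at o2
  have o3 := congrFun S.eqP 1
  rw [FIndL_at_one H hM sp] at o3
  simp only [Pi.add_apply, Pi.sub_apply] at o1 o2 o3
  rw [hy₁, hy₂] at o1
  rw [hy₁, hy₂, hy₄] at o2
  rw [hy₁, hy₄] at o3
  refine ⟨X₁, X₂, X₃, X₄, X₅, L i₁, y₁, y₂, y₄,
    { s₁ := S.s₁, s₂ := S.s₂, s₃ := S.s₃, s₄ := S.s₄, s₅ := S.s₅, sL := S.sL i₁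
      eqΦ := S.eqΦ i₁, eqS := S.eqS, eqP := S.eqP
      valD₁ := ?_, valD₂ := ?_, valD₃ := ?_, valD₄ := ?_, valD₅ := ?_
      ne_one := ?_
      one₁ := hy₁, one₂ := hy₂, one₄ := hy₄
      one₃ := by linear_combination -o3
      one₅ := by linear_combination o2
      oneL := by linear_combination -o1 }⟩
  · obtain ⟨F, hF1, hF2, hF3⟩ := exists_nums H hL g c hD hμ hM S.s₁ F1 S1 P1 (Or.inr (by norm_num))
    intro y hy
    have h2 := h.two_one hμ (π y)
    rw [hF2 y hy, hF3.eval_one c hD hμ hM hF1 hy]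
    push_cast
    linear_combination -h2
  · obtain ⟨F, hF1, hF2, hF3⟩ := exists_nums H hL g c hD hμ hM S.s₂ F2 S2 P2 (Or.inl (by norm_num))
    intro y hy
    rw [hF2 y hy, hF3.eval_one c hD hμ hM hF1 hy]
    push_cast
    ring
  · obtain ⟨F, hF1, hF2, hF3⟩ := exists_nums H hL g c hD hμ hM S.s₃ F3 S3 P3 (Or.inr (by norm_num))
    intro y hy
    rw [hF2 y hy, hF3.eval_one c hD hμ hM hF1 hy]
    push_cast
    ring
  · obtain ⟨F, hF1, hF2, hF3⟩ := exists_nums H hL g c hD hμ hM S.s₄ F4 S4 P4 (Or.inr (by norm_num))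
    intro y hy
    rw [hF2 y hy, hF3.eval_b c hD hμ hM hF1 hy]
    push_cast
    ring
  · obtain ⟨F, hF1, hF2, hF3⟩ := exists_nums H hL g c hD hμ hM S.s₅ F5 S5 P5 (Or.inl (by norm_num))
    intro y hy
    have h2 := h.two_one hμ (π y)
    rw [hF2 y hy, hF3.eval_b c hD hμ hM hF1 hy]
    push_cast
    linear_combination (-((b (π y) : ℂˣ) : ℂ)) * h2
  · intro hl h1
    have h2 := FIndL_one H hM hl ss
    rw [← h1, S1] at h2
    norm_num at h2

/-- An involution of `N` over `u`. -/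
theorem exists_overN (H : FHyp t z N S π) (h : CHyp z q ε Z T T' U s s' u) :
    ∃ x : N, orderOf x = 2 ∧ π x = u := by
  have h1 := (kapN_odd H h).pos
  have h2 : Nonempty {x : N // orderOf x = 2 ∧ π x = u} := (Nat.card_pos_iff.1 h1).1
  obtain ⟨x, hx⟩ := h2
  exact ⟨x, hx⟩

/-- `X(1) + 3 X(t) ≡ 0 mod 4`. -/
theorem exists_mod_fourN (H : FHyp t z N S π) (h : CHyp z q ε Z T T' U s s' u)
    {X : G → ℂ} (hX : SignedIrr X) : ∃ k : ℤ, X 1 + 3 * X t = 4 * k := by
  obtain ⟨x, hx, hxu⟩ := exists_overN H h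
  have hcl := isClassFunction_signed hX
  set y : G := ((x : Subgroup.centralizer ({t} : Set G)) : G) with hy
  have hx2 : orderOf y = 2 := by rw [hy, Subgroup.orderOf_coe, Subgroup.orderOf_coe]; exact hx
  have ha := H.t_mul_t
  have hb : y * y = 1 := by
    have h1 := pow_orderOf_eq_one y
    rwa [hx2, _root_.sq] at h1
  have hab : t * y = y * t := (Subgroup.mem_centralizer_singleton_iff.1 x.1.2).symm
  have ha1 : t ≠ 1 := by
    intro h1
    have h2 := H.orderOf_t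
    rw [h1, orderOf_one] at h2
    exact absurd h2 (by norm_num)
  have hb1 : y ≠ 1 := by
    intro h1
    rw [h1, orderOf_one] at hx2
    exact absurd hx2 (by norm_num)
  have hne : t ≠ y := by
    intro h1
    apply h.u_ne
    rw [← hxu, ← H.map_tN]
    congr 1
    exact Subtype.ext (Subtype.ext h1.symm)
  obtain ⟨k, hk⟩ := NumBridgeG.exists_sum_four (generalized_signed hX) ha hb hab ha1 hb1 hne
  refine ⟨k, ?_⟩
  rw [← hk]
  have e1 : X y = X t := by
    obtain ⟨c, hc⟩ := isConj_iff.1 (H.one_class _ hx2)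
    rw [← hc]
    exact hcl t c
  have e2 : X (t * y) = X t := by
    have h1 : orderOf (t * y) = 2 := by
      refine orderOf_eq_prime ?_ ?_
      · rw [_root_.sq]
        calc t * y * (t * y) = t * (y * t) * y := by group
          _ = (t * t) * (y * y) := by rw [← hab]; group
          _ = 1 := by rw [ha, hb, one_mul]
      · intro h2
        apply hne
        exact (eq_inv_of_mul_eq_one_left h2).trans (inv_eq_of_mul_eq_one_left hb)
    obtain ⟨c, hc⟩ := isConj_iff.1 (H.one_class _ h1)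
    rw [← hc]
    exact hcl t c
  rw [e1, e2]
  ring

/-- **The numbers of the principal block.** -/
theorem numN {X₂ X₃ X₄ X₅ L : G → ℂ} {f x : ℤ} (H : FHyp t z N S π) (h4 : ¬ (4 : ℤ) ∣ q - ε)
    (R : SDResN M h μ π X₂ X₃ X₄ X₅ L f x) :
    NumBridge.Num q ε ((Subgroup.centralizer ({t} : Set G)).index) (kapN π u) f x where
  q_ge := by
    have h1 := h.one_lt_q
    obtain ⟨k, hk⟩ := h.odd_q
    omega
  eps := h.eps
  mod_q := by
    obtain ⟨k, hk⟩ := h.odd_q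
    rcases h.eps with h1 | h1 <;> rw [h1] at h4 ⊢ <;> omega
  odd_n := by exact_mod_cast RTwo.SDChar.odd_index H.orderOf_t H.one_class
  odd_κ := by exact_mod_cast kapN_odd H h
  eqA := by rw [R.eqA]
  eqB := by rw [R.eqB]
  f_ne_zero := R.f_ne_zero
  f_ne_one := R.f_ne_one
  x_ne_zero := R.x_ne_zero
  x_ne := R.x_ne
  mod_f := by
    obtain ⟨k, hk⟩ := exists_mod_fourN H h R.in₂.signedIrr
    rw [R.one₂, R.t₂] at hk
    have hk' : f + 3 * (ε * q) = 4 * k := by exact_mod_cast hk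
    exact ⟨k - ε * q, by linear_combination hk'⟩

/-- The characters of the principal block, with their numbers. -/
theorem exists_sdFull_num (H : FHyp t z N S π) (h : CHyp z q ε Z T T' U s s' u)
    (hD : DetHyp q ε T T' U s s' u 2 b) (hM : IsPModular 2 M)
    (hlin : ∀ X : G → ℂ, SignedIrr X → X 1 = 1 → X = 1) (h4 : ¬ (4 : ℤ) ∣ q - ε) :
    ∃ (μ : U →* ℂˣ) (_ : ∃ v : U, μ v ≠ 1) (θ : T' →* ℂˣ) (n : ℕ) (_ : Gen h b θ n)
      (χ : T →* ℂˣ) (_ : Chi h b χ) (X₂ X₃ X₄ X₅ : G → ℂ) (L : ℕ → G → ℂ) (f x : ℤ),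
      SDFullN M h b θ n χ μ π X₂ X₃ X₄ X₅ L f x ∧
        NumBridge.Num q ε ((Subgroup.centralizer ({t} : Set G)).index) (kapN π u) f x := by
  obtain ⟨μ, hμ, θ, n, g, χ, c, X₂, X₃, X₄, X₅, L, f, x, hR⟩ := exists_sdFullN' H h hD hM hlin
  exact ⟨μ, hμ, θ, n, g, χ, c, X₂, X₃, X₄, X₅, L, f, x, hR, numN H h4 hR.toSDResN⟩

/-- `2 ^ (a + 2)` divides the order of `C` if `2 ^ a` divides `ε q + 1`. -/
theorem pow_dvd_card (h : CHyp z q ε Z T T' U s s' u) {a : ℕ} (ha : (2 : ℤ) ^ a ∣ ε * q + 1) :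
    2 ^ (a + 2) ∣ Nat.card C := by
  have hε : ε * ε = 1 := by rcases h.eps with h1 | h1 <;> rw [h1] <;> norm_num
  have h1 : 2 ∣ Nat.card Z := by
    have h2 : orderOf (⟨z, h.t_mem⟩ : Z) = 2 := by rw [Subgroup.orderOf_mk]; exact h.orderOf_t
    rw [← h2]
    exact orderOf_dvd_natCard _
  have h2 : (2 : ℤ) ∣ ε * q - 1 := by
    obtain ⟨k, hk⟩ := h.odd_q
    rcases h.eps with h3 | h3 <;> rw [h3] <;> omega
  have h3 : (2 : ℤ) ^ (a + 1) ∣ (q : ℤ) ^ 2 - 1 := by
    have h4 : (q : ℤ) ^ 2 - 1 = (ε * q + 1) * (ε * q - 1) := by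
      linear_combination (-(q : ℤ) ^ 2) * hε
    rw [h4, pow_succ]
    exact mul_dvd_mul ha h2
  have h4 : (2 : ℤ) ^ (a + 2) ∣ (Nat.card C : ℤ) := by
    have h5 : (Nat.card C : ℤ) = Nat.card Z * (q * ((q : ℤ) ^ 2 - 1)) := by
      have h6 := h.card_C
      have h7 : 1 ≤ q ^ 2 := Nat.one_le_pow _ _ (by have := h.one_lt_q; omega)
      rw [h6]
      push_cast [Nat.cast_sub h7]
      ring
    rw [h5, show a + 2 = 1 + (a + 1) by ring, pow_add, pow_one]
    refine mul_dvd_mul (by exact_mod_cast h1) (h3.mul_left _)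
  exact_mod_cast h4

/-- **The `L1`-lemma.** -/
theorem false_of_twist (H : FHyp t z N S π) {Λ : G → ℂ} (hL : LHyp l Λ) (hl : l ≠ 1)
    (g : Gen h b θ n) (c : Chi h b χ) (hD : DetHyp q ε T T' U s s' u 2 b)
    (hμ : ∃ v : U, μ v ≠ 1) (hM : IsPModular 2 M)
    (hlin : ∀ X : G → ℂ, SignedIrr X → X 1 = 1 → X = 1) (h4 : ¬ (4 : ℤ) ∣ q - ε)
    {Y₂ Y₃ Y₄ Y₅ : G → ℂ} {L' : ℕ → G → ℂ} {f x : ℤ}
    (R : SDFullN M h b θ n χ μ π Y₂ Y₃ Y₄ Y₅ L' f x)
    (hb : 2 * ((q : ℤ) - 1) ≤ |f - ε * q|) (hq : 27 ≤ q) (hq' : ε = -1 → 125 ≤ q) : False := by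
  have hNum := numN H h4 R.toSDResN
  obtain ⟨X₁, X₂, X₃, X₄, X₅, L, y₁, y₂, y₄, K⟩ := exists_sdTw H hL g c hD hμ hM
  have hj1 : ¬ 2 ^ (n - 1) ∣ 1 := by
    intro h1
    have h2 := Nat.le_of_dvd one_pos h1
    have h3 : 1 < 2 ^ (n - 1) := Nat.one_lt_two_pow (by have := g.three_le; omega)
    omega
  have s1 : ∀ x, phi h μ θ 1 x ≠ 0 → z ∈ Subgroup.zpowers x := fun x hx => g.phi_supp hμ _ hx
  have ss : ∀ x, phi h μ θ (2 ^ (n - 1)) x ≠ 0 → z ∈ Subgroup.zpowers x :=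
    fun x hx => g.phi_supp hμ _ hx
  -- the exponent
  obtain ⟨a, ha, ha'⟩ : ∃ a : ℕ, (2 : ℤ) ^ a ∣ ε * q + 1 ∧ ¬ (2 : ℤ) ^ (a + 1) ∣ ε * q + 1 := by
    have hne : ε * q + 1 ≠ 0 := by
      have := h.one_lt_q
      rcases h.eps with h1 | h1 <;> rw [h1] <;> omega
    have hfin : FiniteMultiplicity (2 : ℤ) (ε * q + 1) :=
      Int.finiteMultiplicity_iff.2 ⟨by norm_num, hne⟩
    obtain ⟨a, ha⟩ := hfin
    induction a with
    | zero => exact ⟨0, by simp, ha⟩
    | succ k ih =>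
      by_cases h1 : (2 : ℤ) ^ (k + 1) ∣ ε * q + 1
      · exact ⟨k + 1, h1, ha⟩
      · exact ih h1
  have ha2 : 2 ≤ a := by
    by_contra hcon
    apply ha'
    have h1 : (2 : ℤ) ^ (a + 1) ∣ 4 := by
      have h2 : a = 0 ∨ a = 1 := by omega
      rcases h2 with rfl | rfl <;> norm_num
    exact h1.trans hNum.mod_q
  have hcard := pow_dvd_card h ha
  -- values at `t`
  have hz : z ∈ Subgroup.zpowers (π (tN H)) := by
    rw [H.map_tN]
    exact Subgroup.mem_zpowers z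
  have tt : t = ((tN H : Subgroup.centralizer ({t} : Set G)) : G) := rfl
  have rT : Torus.R T h.base μ (fun _ => 1) z = 1 + ε * q := by
    have h1 := h.torus.R_Z h.base (μ := μ) (fun _ => 1) h.t_mem
    rw [h1]
    push_cast
    ring
  have rT' : Torus.R T' h.base μ (fun _ => 1) z = 1 - ε * q := by
    have h1 := h.torus'.R_Z h.base (μ := μ) (fun _ => 1) h.t_mem
    rw [h1]
    push_cast
    ring
  have t1 : X₁ t = 1 := by
    rw [tt]
    exact K.valD₁ _ hz
  have t2 : X₂ t = ε * q := by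
    have h1 := K.valD₂ _ hz
    rw [H.map_tN, rT, rT'] at h1
    have h2 : X₂ t = X₂ ((tN H : Subgroup.centralizer ({t} : Set G)) : G) := rfl
    rw [h2, h1]
    ring
  have t5 : X₅ t = 1 := by
    have h1 := K.valD₅ _ hz
    have h2 : ((b z : ℂˣ) : ℂ) = 1 := b_section h hD (by
      rw [h.tt, orderOf_one]; exact odd_one)
    rw [H.map_tN, h2] at h1
    exact h1
  have t4 : X₄ t = ε * q := by
    have h1 := K.valD₄ _ hz
    have h2 : ((b z : ℂˣ) : ℂ) = 1 := b_section h hD (by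
      rw [h.tt, orderOf_one]; exact odd_one)
    rw [H.map_tN, rT, rT', h2] at h1
    have h3 : X₄ t = X₄ ((tN H : Subgroup.centralizer ({t} : Set G)) : G) := rfl
    rw [h3, h1]
    ring
  have tL : L t = 1 - ε * q := by
    have h1 := FIndL_apply (l := l) H hM (prin_phi g hM hμ 1) s1 hz
    have h2 := congrFun K.eqΦ ((tN H : Subgroup.centralizer ({t} : Set G)) : G)
    have h3 := g.phi_section hμ 1 (y := 1) (by rw [orderOf_one]; exact odd_one)
    have h5 : Torus.R T' h.base μ (fun _ => 1) 1 = 1 - ε * q := by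
      rw [h.torus'.R_Z h.base (μ := μ) (fun _ => 1) (one_mem Z)]
      push_cast
      ring
    rw [mul_one] at h3
    rw [h1, H.map_tN] at h2
    simp only [Pi.add_apply, Pi.sub_apply] at h2
    rw [← tt, t1, t2, h3, h5] at h2
    linear_combination -h2
  -- the degrees are not zero
  have c1 : (y₁ : ℂ) ≠ 0 := by rw [← K.one₁]; exact K.s₁.apply_one_ne_zero
  have c2 : (y₂ : ℂ) ≠ 0 := by rw [← K.one₂]; exact K.s₂.apply_one_ne_zero
  have c4 : (y₄ : ℂ) ≠ 0 := by rw [← K.one₄]; exact K.s₄.apply_one_ne_zero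
  have c5 : (y₁ : ℂ) - y₂ + y₄ ≠ 0 := by rw [← K.one₅]; exact K.s₅.apply_one_ne_zero
  have cL : (y₂ : ℂ) - y₁ ≠ 0 := by rw [← K.oneL]; exact K.sL.apply_one_ne_zero
  have hε : (ε : ℂ) * ε = 1 := by exact_mod_cast h.torus.sq_sign
  have hn0 : ((Subgroup.centralizer ({t} : Set G)).index : ℂ) ≠ 0 := by
    have : (Subgroup.centralizer ({t} : Set G)).index ≠ 0 := Subgroup.index_ne_zero_of_finite
    exact_mod_cast this
  have hA : ((Subgroup.centralizer ({t} : Set G)).index : ℤ) * (y₂ - ε * q * y₁) ^ 2 =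
      (kapN π u : ℤ) ^ 2 * ((ε * q) * (ε * q - 1) * (ε * q + 1) ^ 2 * y₁ * y₂ * (y₂ - y₁)) := by
    have h1 : FIndL M l π (phi h μ θ 1) = X₁ + -X₂ + L := by
      rw [← sub_eq_add_neg]
      exact K.eqΦ
    have h2 := cfL_three H hM h (prin_phi g hM hμ 1) s1 K.s₁ (signed_neg K.s₂) K.sL h1
    rw [g.pairSum_phi hμ hj1, Pi.neg_apply, Pi.neg_apply, t1, t2, tL, K.one₁, K.one₂,
      K.oneL] at h2
    have h3 : (((Subgroup.centralizer ({t} : Set G)).index : ℤ) * (y₂ - ε * q * y₁) ^ 2 : ℤ) =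
      (((kapN π u : ℤ) ^ 2 * ((ε * q) * (ε * q - 1) * (ε * q + 1) ^ 2 * y₁ * y₂ *
        (y₂ - y₁)) : ℤ) : ℂ) := by
      push_cast
      field_simp at h2
      linear_combination h2 - (kapN π u : ℂ) ^ 2 * y₁ * y₂ * (y₂ - y₁) *
        (((ε : ℂ) ^ 2 + 1) * q ^ 4 + ε * q ^ 3 - q ^ 2) * hε
    exact_mod_cast h3
  have hS : (y₄ - y₂) * (y₂ * y₄ - (ε * q) ^ 2 * y₁ * (y₁ - y₂ + y₄)) = 0 := by
    have h1 : FIndL M l π (phi h μ θ (2 ^ (n - 1))) = X₁ + -X₂ + X₄ + -X₅ := by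
      rw [← sub_eq_add_neg, ← sub_eq_add_neg]
      exact K.eqS
    have h2 := cfL_four H hM h (prin_phi g hM hμ _) ss K.s₁ (signed_neg K.s₂) K.s₄
      (signed_neg K.s₅) h1
    rw [g.pairSum_phis hD hμ, mul_zero] at h2
    have h3 := (mul_eq_zero.1 h2).resolve_left hn0
    simp only [Pi.neg_apply] at h3
    rw [t1, t2, t4, t5, K.one₁, K.one₂, K.one₄, K.one₅] at h3
    have h4 : ((y₄ : ℂ) - y₂) * (y₂ * y₄ - (ε * q) ^ 2 * y₁ * (y₁ - y₂ + y₄)) = 0 := by
      field_simp at h3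
      linear_combination h3
    exact_mod_cast h4
  have hy1 : y₁ ≠ 1 := by
    rintro rfl
    exact K.ne_one hl (hlin X₁ K.s₁ (by rw [K.one₁]; norm_num))
  have d1 : (2 : ℤ) ^ (a + 2) ∣ y₁ - 1 := by
    refine pow_dvd_sub H (generalized_signed K.s₁) (generalized_signed signedIrr_one)
      (fun y hy => ?_) hcard K.one₁ (by norm_num)
    rw [K.valD₁ y hy, Pi.one_apply]
  have d5 : (2 : ℤ) ^ (a + 2) ∣ (y₁ - y₂ + y₄) - (1 - f + x) := by
    refine pow_dvd_sub H (generalized_signed K.s₅) (generalized_signed R.in₅.signedIrr)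
      (fun y hy => ?_) hcard (by rw [K.one₅]; push_cast; ring) (by rw [R.one₅]; push_cast; ring)
    rw [K.valD₅ y hy, R.valD₅ y hy]
  exact FieldNum.main hNum ha2 ha ha' hA hS (by exact_mod_cast c1) hy1 (by exact_mod_cast c2)
    (by exact_mod_cast c4) (fun h1 => cL (by rw [h1]; ring)) (by exact_mod_cast c5) d1 d5 hb
    (by exact_mod_cast Nat.pos_of_ne_zero (Subgroup.index_ne_zero_of_finite))
    (by have := (kapN_odd H h).pos; omega) hq hq'

end

end Cfsg.Agent.Classification.QDW.Fld
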