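import Mathlib
import Cfsg.Agent.Classification.QDW.FuDichG
import Cfsg.Agent.Classification.QDW.FldSep

/-!
# Case `S`: the characters of the field part are fusion invariant
-/

set_option autoImplicit false
set_option linter.unusedSectionVars false

namespace Cfsg.Agent.Classification.QDW.FuHst

open Subgroup Cfsg.Agent.Classification.QDW.StructQ Cfsg.Agent.Classification.QDW.FuDichG
  Cfsg.Agent.Classification.QDW.Fld

/-- The odd part of an element as a power. -/
theorem exists_odd_pow {Γ : Type*} [Group Γ] [Finite Γ] (x : Γ) :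
    ∃ m : ℕ, Odd (orderOf (x ^ m)) ∧ ∃ k : ℕ, (x * (x ^ m)⁻¹) ^ 2 ^ k = 1 := by
  obtain ⟨a, b, hb, hab⟩ := Nat.exists_eq_two_pow_mul_odd (orderOf_pos x).ne'
  have hcop : Nat.Coprime (2 ^ a) b := Nat.Coprime.pow_left _ (Nat.coprime_two_left.2 hb)
  obtain ⟨m, hm1, hm2⟩ := Nat.chineseRemainder hcop 0 1
  refine ⟨m, ?_, a, ?_⟩
  · have h1 : 2 ^ a ∣ m := (Nat.modEq_zero_iff_dvd).1 hm1
    obtain ⟨c, hc⟩ := h1
    have h2 : (x ^ m) ^ b = 1 := by
      rw [← pow_mul, hc, show 2 ^ a * c * b = (2 ^ a * b) * c by ring, ← hab, pow_mul,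
        pow_orderOf_eq_one, one_pow]
    exact Odd.of_dvd_nat hb (orderOf_dvd_of_pow_eq_one h2)
  · have hc : Commute x (x ^ m)⁻¹ := ((Commute.refl x).pow_right m).inv_right
    rw [hc.mul_pow, inv_pow, ← pow_mul, mul_inv_eq_one, pow_eq_pow_iff_modEq, hab]
    have h3 : 2 ^ a * 1 ≡ 2 ^ a * m [MOD 2 ^ a * b] := Nat.ModEq.mul_left' _ hm2.symm
    rw [mul_one] at h3
    rw [mul_comm m]
    exact h3

variable {H : Type*} [Group H] [Finite H] {L : Subgroup H} [hLn : L.Normal] {F : Type*} [Field F]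
  [Finite F] {e : L ≃* Matrix.SpecialLinearGroup (Fin 2) F} {S : Sylow 2 H}
  {G : Type*} [Group G] [Finite G] {t w s h : G} {π : centralizer ({t} : Set G) →* H}
  {wM : w ∈ centralizer ({t} : Set G)} {g : Matrix.GeneralLinearGroup (Fin 2) F} {ε : ℤ}
  {W : Subgroup G}

/-- **`hst`** of `Fld.total_fusion` in case `S`. -/
theorem hst (hS : Setup t w s h (centralizer ({t} : Set G)) S L e π wM g ε W) (hSS : hS.CaseS)
    (hN : Odd (StructF.N π L e).index)
    (l : centralizer ({t} : Set G) ⧸ StructF.N π L e →* ℂ) :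
    ∀ x y : centralizer ({t} : Set G), Commute w (x : G) → (y : G) = h * x * h⁻¹ →
      lamFun (StructF.N π L e) l y = lamFun (StructF.N π L e) l x := by
  intro x y hwx hy
  obtain ⟨m, hm, k, hk⟩ := exists_odd_pow x
  -- the odd parts
  have hxm : ((x ^ m : centralizer ({t} : Set G)) : G) = (x : G) ^ m := rfl
  have hym : ((y ^ m : centralizer ({t} : Set G)) : G) = h * (x : G) ^ m * h⁻¹ := by
    change (y : G) ^ m = _
    rw [hy, conj_pow]
  have key : ∀ v : centralizer ({t} : Set G), (v * (v ^ m)⁻¹) ^ 2 ^ k = 1 →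
      lamFun (StructF.N π L e) l v = lamFun (StructF.N π L e) l (v ^ m) := by
    intro v hv
    have h1 : v = (v * (v ^ m)⁻¹) * v ^ m := by group
    have h2 : lamFun (StructF.N π L e) l (v * (v ^ m)⁻¹) = 1 := by
      apply lamFun_two hN
      obtain ⟨j, -, hj⟩ := (Nat.dvd_prime_pow Nat.prime_two).1 (orderOf_dvd_of_pow_eq_one hv)
      exact ⟨j, hj⟩
    conv_lhs => rw [h1]
    rw [lamFun_mul, h2, one_mul]
  have hky : (y * (y ^ m)⁻¹) ^ 2 ^ k = 1 := by
    apply Subtype.ext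
    have h1 := congrArg Subtype.val hk
    change ((x : G) * ((x : G) ^ m)⁻¹) ^ 2 ^ k = 1 at h1
    change ((y : G) * ((y : G) ^ m)⁻¹) ^ 2 ^ k = 1
    rw [hy, conj_pow]
    have h2 : h * (x : G) * h⁻¹ * (h * (x : G) ^ m * h⁻¹)⁻¹ =
        h * ((x : G) * ((x : G) ^ m)⁻¹) * h⁻¹ := by group
    rw [h2, conj_pow, h1]
    group
  rw [key x hk, key y hky]
  -- `x ^ m ∈ W`
  have hxW : (x : G) ^ m ∈ W := by
    rw [hS.mem_W]
    refine ⟨?_, ?_, ?_⟩
    · have h1 := (x ^ m).2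
      rw [mem_centralizer_singleton_iff] at h1
      exact h1
    · exact ((hwx.pow_right m).eq).symm
    · rw [← hxm, Subgroup.orderOf_coe]; exact hm
  obtain ⟨h1, h2, h3⟩ := Setup.CaseS.conj_mem hS hSS (c := h) hS.h_mem
    (by
      right; right
      calc h⁻¹ * t * h = h⁻¹ * (h * (t * w) * h⁻¹) * h := by rw [hS.htu]
        _ = t * w := by group) hxW
  have e1 : y ^ m = ((⟨h * (x : G) ^ m * h⁻¹, h1⟩ : centralizer ({t} : Set G)) *
      (⟨(x : G) ^ m, h2⟩ : centralizer ({t} : Set G))⁻¹) * x ^ m := by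
    apply Subtype.ext
    rw [hym]
    change h * (x : G) ^ m * h⁻¹ = h * (x : G) ^ m * h⁻¹ * ((x : G) ^ m)⁻¹ * (x : G) ^ m
    group
  rw [e1, lamFun_mul, lamFun_of_mem l h3, one_mul]

end Cfsg.Agent.Classification.QDW.FuHst
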