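import Mathlib
import Cfsg.Agent.Classification.QDW.FuHst
import Cfsg.Agent.Classification.QDW.FldL1
import Cfsg.Agent.Classification.QDW.FldConj
import Cfsg.Agent.Blocks.ExistsModular
import Cfsg.Agent.Classification.InvCent.SDEnd

/-!
# Case `S`, quasi-dihedral: there are no field automorphisms

`Γ = C(t)`, `N = StructF.N π L e`. In case `S` a linear character `l` of `Γ / N` is fusion invariant
(`hst`, `FHyp.total_fusion`), hence the restriction of a class function of `G`; the `L1`-lemma gives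
`l = 1`.

* `setup_*`: the involution `w` of the setup;
* `exists_lhyp_of_caseS`;
* `false_of_caseS`.
-/

set_option autoImplicit false
set_option linter.unusedSectionVars false

open Cfsg
open scoped ComplexConjugate

namespace Cfsg.Agent.Classification.QDW.FldCaseS

open Cfsg.Agent.Characters Cfsg.Agent.Blocks.Local Cfsg.Agent.Blocks.Basic
  Cfsg.Agent.Classification.BGBlockB0 Cfsg.Agent.Classification.InvCent
  Cfsg.Agent.Classification.BGIsometry Cfsg.Agent.Classification.BGOrder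
  Cfsg.Agent.Classification.QDW.Fld Cfsg.Agent.Classification.QDW.FuDichG
  Cfsg.Agent.Classification.QDW.StructQ

universe w v

variable {G : Type w} [Group G] [Fintype G] {t u s h : G}
  {H : Type*} [Group H] [Finite H] {S : Sylow 2 H} {L : Subgroup H} [hLn : L.Normal]
  {F : Type*} [Field F] [Finite F] {e : L ≃* Matrix.SpecialLinearGroup (Fin 2) F}
  {π : Subgroup.centralizer ({t} : Set G) →* H}
  {uM : u ∈ Subgroup.centralizer ({t} : Set G)} {g : Matrix.GeneralLinearGroup (Fin 2) F} {δ : ℤ}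
  {W : Subgroup G}

section Setup

variable (hS : Setup t u s h (Subgroup.centralizer ({t} : Set G)) S L e π uM g δ W)

include hS

theorem setup_comm : Commute t u := hS.ut.symm

theorem setup_ne_one (ht : t ≠ 1) : u ≠ 1 := by
  intro h1
  apply ht
  have h2 := hS.ht
  rw [h1] at h2
  have h3 : t = h⁻¹ * (h * t * h⁻¹) * h := by group
  rw [h3, h2]
  group

theorem setup_orderOf (ht : t ≠ 1) : orderOf u = 2 :=
  orderOf_eq_prime (by rw [sq]; exact hS.uu) (setup_ne_one hS ht)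

theorem setup_ne (ht : t ≠ 1) : u ≠ t := by
  intro h1
  apply setup_ne_one hS ht
  have h2 := hS.hu
  have h3 := hS.ht
  rw [h1] at h2 h3
  rw [h3] at h2
  rw [h1, h2, hS.tt]

end Setup

variable {C : Type v} [Group C] [Fintype C] {z : C} {S₁ : Subgroup (Subgroup.centralizer ({t} : Set G))}
  {π₁ : StructF.N π L e →* C} {q : ℕ} {ε : ℤ} {Z T T' U : Subgroup C} {s₀ s₀' u₀ : C}
  {b : C →* ℂˣ}

/-- In case `S` the linear characters of `Γ / N` are fusion invariant. -/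
theorem fusion_of_caseS
    (hS : Setup t u s h (Subgroup.centralizer ({t} : Set G)) S L e π uM g δ W) (hSS : hS.CaseS)
    (h₁ : FHyp t z (StructF.N π L e) S₁ π₁) (hC : CHyp z q ε Z T T' U s₀ s₀' u₀)
    (l : Subgroup.centralizer ({t} : Set G) ⧸ StructF.N π L e →* ℂ) :
    ∀ x y : Subgroup.centralizer ({t} : Set G), IsConj (x : G) (y : G) →
      lamFun (StructF.N π L e) l x = lamFun (StructF.N π L e) l y :=
  h₁.total_fusion hC (setup_orderOf hS h₁.t_ne_one) (setup_comm hS) (setup_ne hS h₁.t_ne_one)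
    hS.ht hS.hu (FuHst.hst hS hSS h₁.ad.odd_index_N l)

/-- The difference bound for the second character. -/
theorem bound_of_min {M : Ideal AlgInt} {N : Subgroup (Subgroup.centralizer ({t} : Set G))}
    {π₁ : N →* C} {hC : CHyp z q ε Z T T' U s₀ s₀' u₀} {μ : U →* ℂˣ} {X₂ X₃ X₄ X₅ L' : G → ℂ}
    {f x : ℤ}
    (hmin : ∀ X : G → ℂ, SignedIrr X → X ≠ 1 → X ≠ -1 → ∀ a c : ℤ, X 1 = a → X t = c →
      2 * ((q : ℤ) - 1) ≤ |a - c|)
    (R : SDResN M hC μ π₁ X₂ X₃ X₄ X₅ L' f x) : 2 * ((q : ℤ) - 1) ≤ |f - ε * q| := by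
  have hq := hC.one_lt_q
  refine hmin X₂ R.in₂.signedIrr ?_ ?_ f (ε * q) R.one₂ (by rw [R.t₂]; push_cast; ring)
  · intro h1
    apply R.f_ne_one
    have h2 := R.one₂
    rw [h1, Pi.one_apply] at h2
    exact_mod_cast h2.symm
  · intro h1
    have h2 := R.t₂
    rw [h1, Pi.neg_apply, Pi.one_apply] at h2
    have h3 : (-1 : ℤ) = ε * q := by exact_mod_cast h2
    rcases hC.eps with h4 | h4 <;> rw [h4] at h3 <;> omega

/-- **Case `S`, quasi-dihedral.** -/
theorem false_of_caseS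
    (hS : Setup t u s h (Subgroup.centralizer ({t} : Set G)) S L e π uM g δ W) (hSS : hS.CaseS)
    (h₁ : FHyp t z (StructF.N π L e) S₁ π₁) (hC : CHyp z q ε Z T T' U s₀ s₀' u₀)
    (hD : DetHyp q ε T T' U s₀ s₀' u₀ 2 b) (h4 : ¬ (4 : ℤ) ∣ q - ε)
    (hlin : ∀ X : G → ℂ, SignedIrr X → X 1 = 1 → X = 1)
    (hmin : ∀ X : G → ℂ, SignedIrr X → X ≠ 1 → X ≠ -1 → ∀ a c : ℤ, X 1 = a → X t = c →
      2 * ((q : ℤ) - 1) ≤ |a - c|)
    (hq : 27 ≤ q) (hq' : ε = -1 → 125 ≤ q)
    {l : Subgroup.centralizer ({t} : Set G) ⧸ StructF.N π L e →* ℂ} (hl : l ≠ 1) : False := by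
  obtain ⟨M, hM⟩ := Blocks.ExistsModular.exists_isPModular Nat.prime_two
  obtain ⟨Λ, hΛ⟩ := exists_lhyp (fusion_of_caseS hS hSS h₁ hC l)
  obtain ⟨μ, hμ, θ, n, g', χ, c, X₂, X₃, X₄, X₅, L', f, x, R⟩ := exists_sdFullN' h₁ hC hD hM hlin
  exact false_of_twist h₁ hΛ hl g' c hD hμ hM hlin h4 R (bound_of_min hmin R.toSDResN) hq hq'

/-- `G` is not commutative. -/
theorem not_comm {N : Subgroup (Subgroup.centralizer ({t} : Set G))} {π₁ : N →* C}
    (h₁ : FHyp t z N S₁ π₁) (hC : CHyp z q ε Z T T' U s₀ s₀' u₀) : ∃ a b : G, a * b ≠ b * a := by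
  obtain ⟨a, ha⟩ := h₁.surj s₀
  obtain ⟨c, hc⟩ := h₁.surj u₀
  refine ⟨((a : Subgroup.centralizer ({t} : Set G)) : G),
    ((c : Subgroup.centralizer ({t} : Set G)) : G), fun h2 => ?_⟩
  have h3 : a * c = c * a := Subtype.ext (Subtype.ext h2)
  have h4 : s₀ * u₀ = u₀ * s₀ := by rw [← ha, ← hc, ← map_mul, h3, map_mul]
  have h5 := hC.s_u
  rw [h4, mul_inv_cancel_right] at h5
  exact h₁.z_ne_one (mul_eq_right.1 h5.symm)

/-- **Case `S`, quasi-dihedral**, `G` simple: `Γ = N`. -/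
theorem eq_one_of_caseS [IsSimpleGroup G]
    (hS : Setup t u s h (Subgroup.centralizer ({t} : Set G)) S L e π uM g δ W) (hSS : hS.CaseS)
    (h₁ : FHyp t z (StructF.N π L e) S₁ π₁) (hC : CHyp z q ε Z T T' U s₀ s₀' u₀)
    (hD : DetHyp q ε T T' U s₀ s₀' u₀ 2 b) (h4 : ¬ (4 : ℤ) ∣ q - ε)
    (hmin : ∀ X : G → ℂ, SignedIrr X → X ≠ 1 → X ≠ -1 → ∀ a c : ℤ, X 1 = a → X t = c →
      2 * ((q : ℤ) - 1) ≤ |a - c|)
    (hq : 27 ≤ q) (hq' : ε = -1 → 125 ≤ q)
    (l : Subgroup.centralizer ({t} : Set G) ⧸ StructF.N π L e →* ℂ) : l = 1 := by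
  by_contra hl
  exact false_of_caseS hS hSS h₁ hC hD h4
    (fun X hX h1 => InvCent.SDEnd.eq_one_of_degree (not_comm h₁ hC) hX h1) hmin hq hq' hl

end Cfsg.Agent.Classification.QDW.FldCaseS
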