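import Mathlib
import Cfsg.Prelude.Def_Characters
import Cfsg.Agent.Characters.Core
import Cfsg.Agent.Characters.Clifford
import Cfsg.Agent.CharactersDeep.AbelianQuotient
import Cfsg.Agent.Classification.QDW.NormBound
import Cfsg.Agent.Classification.QDW.DegBound

/-!
# The lower bound

Hypotheses `LBHyp` on the centralizer `C` of the involution `t`; `Y` is a character of `C` with
`Y (u y) = σ (c + 1 + 2 ε m 1_{A₁}(y))`, `Y (t u y) = σ (c + 1 + 2 ε m 1_{A₂}(y))` for `y` in `W`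
and `Y t = σ (c + ε q)`.

* `plus_le`: the `t = 1` part of `Y` has degree at least
  `(q + ε) (m - 1) + ∑_{φ ∈ Sp} ⟨Y, φ⟩ φ(1)`, where the characters in `Sp` have `t` in the kernel
  and nonzero coefficient at the trivial character of `W`;
* `plus_eq`: the case of equality;
* `bound`, `bound_eq`: with the relations between the multiplicities, `Y(1) - Y(t) ≥ q² - 1`, and the
  case of equality.
-/

set_option autoImplicit false
set_option linter.unusedSectionVars false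

namespace Cfsg.Agent.Classification.QDW.LowerBound

open Cfsg Cfsg.Agent.Characters Cfsg.Agent.Classification.QDW.Coef
open Cfsg.Agent.Classification.QDW.Inertia Cfsg.Agent.Classification.QDW.GlauberTwo
open Cfsg.Agent.Classification.QDW.NormBound Cfsg.Agent.Classification.QDW.BigDeg
open Cfsg.Agent.Classification.QDW.DegBound
open scoped ComplexConjugate

universe u v

section LinearPart

variable {W : Type v} [Group W] [Fintype W]

open scoped Classical in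
/-- The inner product of a multiple of the indicator function of a normal subgroup `A` with
commutative quotient of order `m` with a linear character. -/
theorem classInner_indicator (A : Subgroup W) [A.Normal] {m : ℕ} (hm : A.index = m)
    (l : W →* ℂˣ) :
    classInner (fun y : W => if y ∈ A then (m : ℂ) else 0) (fun y => (l y : ℂ)) =
      if ∀ y ∈ A, l y = 1 then 1 else 0 := by
  let _ : Fintype A := Fintype.ofFinite _
  have h1 : ∑ y : W, (if y ∈ A then (m : ℂ) else 0) * conj (l y : ℂ) =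
      m * ∑ a : A, conj (l a : ℂ) := by
    rw [← sum_ite_mem A (fun y => conj (l y : ℂ)), Finset.mul_sum]
    refine Finset.sum_congr rfl fun y _ => ?_
    split_ifs <;> simp
  have hW0 : (Nat.card W : ℂ) = Nat.card A * m := by
    rw [← hm, ← Nat.cast_mul, A.card_mul_index]
  have hA0 : (Nat.card A : ℂ) ≠ 0 := Core.card_ne_zero_complex
  have hm0 : (m : ℂ) ≠ 0 := by
    rw [← hm]
    exact Nat.cast_ne_zero.2 Subgroup.index_ne_zero_of_finite
  rw [Core.classInner_def, h1, hW0]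
  by_cases hl : ∀ y ∈ A, l y = 1
  · rw [if_pos hl]
    have h2 : ∀ a : A, conj (l a : ℂ) = 1 := by
      intro a
      rw [hl a a.2]
      simp
    rw [Finset.sum_congr rfl fun a _ => h2 a, Finset.sum_const, Finset.card_univ, nsmul_eq_mul,
      mul_one, ← Nat.card_eq_fintype_card]
    field_simp
  · rw [if_neg hl]
    have h2 : ∑ a : A, conj (l a : ℂ) = 0 := by
      have h3 : (fun a : A => ((1 : A →* ℂˣ) a : ℂ)) ≠ fun a : A => ((l.comp A.subtype) a : ℂ) := by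
        intro h4
        refine hl fun y hy => ?_
        have h5 := congrFun h4 ⟨y, hy⟩
        simp only [MonoidHom.one_apply, Units.val_one, MonoidHom.comp_apply,
          Subgroup.coe_subtype] at h5
        exact Units.ext (by rw [Units.val_one]; exact h5.symm)
      have h4 := Core.classInner_irr_ne (Linear.isIrrCharacter_hom (1 : A →* ℂˣ))
        (Linear.isIrrCharacter_hom (l.comp A.subtype)) h3
      rw [Core.classInner_def] at h4
      rcases mul_eq_zero.1 h4 with h5 | h5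
      · exact absurd (inv_eq_zero.1 h5) hA0
      · rw [← h5]
        refine Finset.sum_congr rfl fun a _ => ?_
        simp
    rw [h2, mul_zero, mul_zero]

end LinearPart

section Main

variable {C : Type u} [Group C] [Finite C] {W : Type v} [Group W] [Fintype W]
  {q : ℕ} {ε : ℤ} {K L B : Subgroup C} {K₁ X T : Subgroup B} {e : W →* C} {α : W ≃* W}
  {t u w : C}

/-- The values of `Y` on the two cosets. -/
structure Vals (q : ℕ) (ε : ℤ) (e : W →* C) (α : W ≃* W) (t u : C) (Y : C → ℂ) (σ c : ℤ) (m : ℕ)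
    (A₁ A₂ : Subgroup W) : Prop where
  char : IsCharacter C Y
  sig : σ = 1 ∨ σ = -1
  two_m : 2 * (m : ℤ) = q - ε
  normal₁ : A₁.Normal
  normal₂ : A₂.Normal
  comm₁ : ∀ x y : W, x * y * x⁻¹ * y⁻¹ ∈ A₁
  comm₂ : ∀ x y : W, x * y * x⁻¹ * y⁻¹ ∈ A₂
  index₁ : A₁.index = m
  index₂ : A₂.index = m
  reg₁ : ∀ l : W →* ℂˣ, (∀ y ∈ A₁, l y = 1) → l ≠ 1 → conjL α l ≠ l
  reg₂ : ∀ l : W →* ℂˣ, (∀ y ∈ A₂, l y = 1) → l ≠ 1 → conjL α l ≠ l
  val₁ : ∀ y ∈ A₁, Y (u * e y) = σ * (c + 1 + 2 * ε * m)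
  val₁' : ∀ y ∉ A₁, Y (u * e y) = σ * (c + 1)
  val₂ : ∀ y ∈ A₂, Y (t * (u * e y)) = σ * (c + 1 + 2 * ε * m)
  val₂' : ∀ y ∉ A₂, Y (t * (u * e y)) = σ * (c + 1)
  val_t : Y t = σ * (c + ε * q)

/-- The characters with `t` in the kernel and nonzero coefficient at the trivial character. -/
def Special (e : W →* C) (t u : C) (φ : C → ℂ) : Prop :=
  φ t = φ 1 ∧ coef (fun y : W => u * e y) (fun _ => (1 : ℂ)) φ ≠ 0

theorem conjL_ne_one {l : W →* ℂˣ} (h : l ≠ 1) : conjL α l ≠ 1 := by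
  intro h1
  refine h ?_
  ext y
  have h2 := congrArg (fun f : W →* ℂˣ => ((f (α y) : ℂˣ) : ℂ)) h1
  have h3 : conjL α l (α y) = l y := by
    show l (α.symm (α y)) = l y
    rw [MulEquiv.symm_apply_apply]
  simp only [h3, MonoidHom.one_apply] at h2
  exact h2

open scoped Classical in
/-- The main estimate, with the case of equality. -/
theorem plus_le' [hN : K.Normal] (h : LBHyp q ε K L B K₁ X T e α t u w) {Y : C → ℂ} {σ c : ℤ}
    {m : ℕ} {A₁ A₂ : Subgroup W} (hY : Vals q ε e α t u Y σ c m A₁ A₂)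
    [Fintype (IrrCharacter C)] (n d : IrrCharacter C → ℕ)
    (hn : Y = ∑ ψ : IrrCharacter C, n ψ • (ψ : C → ℂ))
    (hd : ∀ ψ : IrrCharacter C, (ψ : C → ℂ) 1 = d ψ)
    (Sp : Finset (IrrCharacter C)) (hSp : ∀ φ ∈ Sp, Special e t u φ) :
    ((q : ℤ) + ε) * (m - 1) + ∑ φ ∈ Sp, (n φ : ℤ) * d φ ≤
        ∑ ψ ∈ Finset.univ.filter (fun ψ : IrrCharacter C => (ψ : C → ℂ) t = (ψ : C → ℂ) 1),
          (n ψ : ℤ) * d ψ ∧
      (((q : ℤ) + ε) * (m - 1) + ∑ φ ∈ Sp, (n φ : ℤ) * d φ =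
        ∑ ψ ∈ Finset.univ.filter (fun ψ : IrrCharacter C => (ψ : C → ℂ) t = (ψ : C → ℂ) 1),
          (n ψ : ℤ) * d ψ → ∀ ψ : IrrCharacter C, n ψ ≠ 0 → (ψ : C → ℂ) t = (ψ : C → ℂ) 1 →
            ψ ∉ Sp → (d ψ : ℤ) = q + ε ∧ ∃ lam χ : K → ℂ, IsIrrCharacter K lam ∧
      IsCharacter K χ ∧ (∀ k : K, (ψ : C → ℂ) k = lam k + χ k) ∧ lam 1 = 1 ∧
      (stab K lam = ⊤ ∨ (ε = 1 ∧ (stab K lam).index = q + 1 ∧ u ∈ stab K lam ∧
        ∀ y, e y ∈ stab K lam))) := by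
  have hA₁ := hY.normal₁
  have hA₂ := hY.normal₂
  have hq := h.big.frob.q_ge
  have hpos : (0 : ℤ) < q + ε := by
    have hq' : (5 : ℤ) ≤ q := by exact_mod_cast hq
    rcases h.eps with h5 | h5 <;> rw [h5] <;> linarith
  -- the integer coefficients
  choose a ha ha2 using fun ψ : IrrCharacter C => exists_int_coef h.cent ψ.2
  -- the sign of `t`
  choose τ hτ hτ' using fun ψ : IrrCharacter C => central_sign h.big.tt h.big.t_comm ψ.2
  have hτt : ∀ ψ : IrrCharacter C, (ψ : C → ℂ) t = τ ψ * (ψ : C → ℂ) 1 := by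
    intro ψ
    have := hτ' ψ 1
    rwa [mul_one] at this
  have hτ1 : ∀ ψ : IrrCharacter C, (ψ : C → ℂ) t = (ψ : C → ℂ) 1 ↔ τ ψ = 1 := by
    intro ψ
    rw [hτt]
    constructor
    · intro h1
      exact (mul_eq_right₀ (Core.isIrr_apply_one_ne_zero ψ.2)).1 h1
    · intro h1
      rw [h1, one_mul]
  -- the two sets of linear characters
  obtain ⟨Λ₁, hΛ₁, hΛ₁c, -, -⟩ := CharactersDeep.AbelianQuotient.exists_linear_dual A₁ hY.comm₁
  obtain ⟨Λ₂, hΛ₂, hΛ₂c, -, -⟩ := CharactersDeep.AbelianQuotient.exists_linear_dual A₂ hY.comm₂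
  set Λ : Finset (W →* ℂˣ) := (Λ₁ ∪ Λ₂).erase 1 with hΛ
  have hreg : ∀ l ∈ Λ, l ≠ 1 ∧ conjL α l ≠ l := by
    intro l hl
    rw [hΛ, Finset.mem_erase, Finset.mem_union] at hl
    obtain ⟨h1, h2 | h2⟩ := hl
    · exact ⟨h1, hY.reg₁ l ((hΛ₁ l).1 h2) h1⟩
    · exact ⟨h1, hY.reg₂ l ((hΛ₂ l).1 h2) h1⟩
  -- the sums of squares
  set S : IrrCharacter C → ℤ := fun ψ => ∑ l ∈ Λ, (a ψ l) ^ 2 with hS
  have hS2 : ∀ ψ, S ψ ≤ 2 := fun ψ => ha2 ψ Λ
  have hS0 : ∀ ψ, 0 ≤ S ψ := fun ψ => Finset.sum_nonneg fun _ _ => sq_nonneg _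
  have hSne : ∀ ψ, S ψ ≠ 0 → ∃ l ∈ Λ, a ψ l ≠ 0 := by
    intro ψ h1
    by_contra hcon
    push Not at hcon
    refine h1 (Finset.sum_eq_zero fun l hl => ?_)
    rw [hcon l hl]
    norm_num
  have hcoef : ∀ ψ : IrrCharacter C, ∀ l : W →* ℂˣ, a ψ l ≠ 0 →
      coef (fun y : W => u * e y) (fun y => (l y : ℂ)) (ψ : C → ℂ) ≠ 0 := by
    intro ψ l h1
    rw [ha]
    exact_mod_cast h1
  have hSd : ∀ ψ, ((q : ℤ) + ε) * S ψ ≤ 2 * d ψ := by
    intro ψ
    by_cases h1 : S ψ = 0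
    · rw [h1, mul_zero]
      positivity
    · obtain ⟨l, hl, hal⟩ := hSne ψ h1
      obtain ⟨h2, -⟩ := degree_le h ψ.2 l (hreg l hl).2 (hcoef ψ l hal) (hd ψ)
      nlinarith [hS2 ψ]
  have hSsp : ∀ ψ ∈ Sp, S ψ = 0 := by
    intro ψ hψ
    by_contra h1
    obtain ⟨l, hl, hal⟩ := hSne ψ h1
    obtain ⟨hl1, hl2⟩ := hreg l hl
    have h2 : a ψ 1 ≠ 0 := by
      intro h3
      refine (hSp ψ hψ).2 ?_
      have h4 := ha ψ 1
      rw [h3, Int.cast_zero] at h4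
      rw [← h4]
      congr 2
    have h3 : a ψ (conjL α l) ≠ 0 := by
      intro h4
      have h5 := ha ψ (conjL α l)
      rw [coef_conj h (Core.isIrr_isClassFunction ψ.2) (hτ ψ) (hτ' ψ), h4, Int.cast_zero] at h5
      rcases mul_eq_zero.1 h5 with h6 | h6
      · rcases hτ ψ with h7 | h7 <;> rw [h7] at h6 <;> norm_num at h6
      · exact hcoef ψ l hal h6
    have h4 := ha2 ψ {1, l, conjL α l}
    rw [Finset.sum_insert, Finset.sum_insert, Finset.sum_singleton] at h4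
    · have e1 : 1 ≤ (a ψ 1) ^ 2 := by
        have := sq_pos_of_ne_zero h2
        omega
      have e2 : 1 ≤ (a ψ l) ^ 2 := by
        have := sq_pos_of_ne_zero hal
        omega
      have e3 : 1 ≤ (a ψ (conjL α l)) ^ 2 := by
        have := sq_pos_of_ne_zero h3
        omega
      omega
    · rw [Finset.mem_singleton]
      exact Ne.symm hl2
    · rw [Finset.mem_insert, Finset.mem_singleton, not_or]
      exact ⟨Ne.symm hl1, Ne.symm (conjL_ne_one hl1)⟩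
  -- the coefficients of the `t = 1` part
  set P : Finset (IrrCharacter C) :=
    Finset.univ.filter (fun ψ : IrrCharacter C => (ψ : C → ℂ) t = (ψ : C → ℂ) 1) with hP
  have hplus : ∀ l ∈ Λ, ∑ ψ ∈ P, (n ψ : ℤ) * a ψ l =
      σ * ε * ((if l ∈ Λ₁ then 1 else 0) + (if l ∈ Λ₂ then 1 else 0)) := by
    intro l hl
    have hl1 := (hreg l hl).1
    -- `Y` at `u y` and `t u y`
    have h1 : coef (fun y : W => u * e y) (fun y => (l y : ℂ)) Y =
        ∑ ψ : IrrCharacter C, (n ψ : ℂ) * a ψ l := by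
      rw [hn, map_sum]
      refine Finset.sum_congr rfl fun ψ _ => ?_
      rw [map_nsmul, ha, nsmul_eq_mul]
    have h2 : coef (fun y : W => t * (u * e y)) (fun y => (l y : ℂ)) Y =
        ∑ ψ : IrrCharacter C, τ ψ * ((n ψ : ℂ) * a ψ l) := by
      rw [hn, map_sum]
      refine Finset.sum_congr rfl fun ψ _ => ?_
      rw [map_nsmul, nsmul_eq_mul]
      have h3 : coef (fun y : W => t * (u * e y)) (fun y => (l y : ℂ)) (ψ : C → ℂ) =
          τ ψ * coef (fun y : W => u * e y) (fun y => (l y : ℂ)) (ψ : C → ℂ) := by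
        rw [coef_apply, coef_apply, ← Core.classInner_smul_left]
        congr 1
        funext y
        rw [hτ']
        rfl
      rw [h3, ha]
      ring
    have h3 : ∀ (A : Subgroup W) (hAN : A.Normal) (Λ' : Finset (W →* ℂˣ))
        (_ : ∀ l, l ∈ Λ' ↔ ∀ y ∈ A, l y = 1) (_ : A.index = m) (f : W → C)
        (_ : ∀ y ∈ A, Y (f y) = σ * (c + 1 + 2 * ε * m)) (_ : ∀ y ∉ A, Y (f y) = σ * (c + 1)),
        coef f (fun y => (l y : ℂ)) Y = ((σ * (2 * ε) * (if l ∈ Λ' then 1 else 0) : ℤ) : ℂ) := by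
      intro A hAN Λ' hΛ' hAm f hf hf'
      have h4 : (fun y => Y (f y)) = ((σ : ℂ) * (c + 1)) • (fun y : W => (((1 : W →* ℂˣ) y : ℂˣ) : ℂ)) +
          ((σ : ℂ) * (2 * ε)) • (fun y : W => if y ∈ A then (m : ℂ) else 0) := by
        funext y
        by_cases hy : y ∈ A
        · rw [hf y hy, Pi.add_apply, Pi.smul_apply, Pi.smul_apply, if_pos hy]
          simp only [MonoidHom.one_apply, Units.val_one, smul_eq_mul]
          ring
        · rw [hf' y hy, Pi.add_apply, Pi.smul_apply, Pi.smul_apply, if_neg hy]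
          simp only [MonoidHom.one_apply, Units.val_one, smul_eq_mul]
          ring
      have h5 : (fun y : W => (((1 : W →* ℂˣ) y : ℂˣ) : ℂ)) ≠ fun y => (l y : ℂ) := by
        intro h6
        refine hl1 ?_
        ext y
        exact (congrFun h6 y).symm
      rw [coef_apply, h4, Core.classInner_add_left, Core.classInner_smul_left,
        Core.classInner_smul_left, Core.classInner_irr_ne (Linear.isIrrCharacter_hom _)
          (Linear.isIrrCharacter_hom l) h5, classInner_indicator A hAm l, mul_zero, zero_add]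
      by_cases h6 : l ∈ Λ'
      · rw [if_pos ((hΛ' l).1 h6), if_pos h6]
        push_cast
        ring
      · rw [if_neg (fun h7 => h6 ((hΛ' l).2 h7)), if_neg h6]
        push_cast
        ring
    have h4 := h3 A₁ hA₁ Λ₁ hΛ₁ hY.index₁ (fun y => u * e y) hY.val₁ hY.val₁'
    have h5 := h3 A₂ hA₂ Λ₂ hΛ₂ hY.index₂ (fun y => t * (u * e y)) hY.val₂ hY.val₂'
    rw [h4] at h1
    rw [h5] at h2
    have h6 : ((2 * ∑ ψ ∈ P, (n ψ : ℤ) * a ψ l : ℤ) : ℂ) =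
        ∑ ψ : IrrCharacter C, (n ψ : ℂ) * a ψ l +
          ∑ ψ : IrrCharacter C, τ ψ * ((n ψ : ℂ) * a ψ l) := by
      rw [← Finset.sum_add_distrib, hP, Finset.sum_filter]
      push_cast
      rw [Finset.mul_sum]
      refine Finset.sum_congr rfl fun ψ _ => ?_
      by_cases h7 : (ψ : C → ℂ) t = (ψ : C → ℂ) 1
      · rw [if_pos h7, (hτ1 ψ).1 h7]
        ring
      · rw [if_neg h7]
        have h8 : τ ψ = -1 := (hτ ψ).resolve_left (fun h9 => h7 ((hτ1 ψ).2 h9))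
        rw [h8]
        ring
    rw [← h1, ← h2] at h6
    have h7 : 2 * ∑ ψ ∈ P, (n ψ : ℤ) * a ψ l = σ * (2 * ε) * (if l ∈ Λ₁ then 1 else 0) +
        σ * (2 * ε) * (if l ∈ Λ₂ then 1 else 0) := by
      exact_mod_cast h6
    linarith
  -- the total
  have htot : 2 * ((m : ℤ) - 1) ≤ ∑ ψ ∈ P, (n ψ : ℤ) * S ψ := by
    have h1 : ∑ l ∈ Λ, (((if l ∈ Λ₁ then 1 else 0) + (if l ∈ Λ₂ then 1 else 0) : ℤ)) =
        2 * ((m : ℤ) - 1) := by
      have h2 : ∀ Λ' : Finset (W →* ℂˣ), Λ' ⊆ Λ₁ ∪ Λ₂ → (1 : W →* ℂˣ) ∈ Λ' → Λ'.card = m →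
          ∑ l ∈ Λ, (if l ∈ Λ' then (1 : ℤ) else 0) = m - 1 := by
        intro Λ' hsub h1' hcard
        rw [← Finset.sum_filter, Finset.sum_const, nsmul_eq_mul, mul_one]
        have h3 : Λ.filter (fun l => l ∈ Λ') = Λ'.erase 1 := by
          ext l
          rw [Finset.mem_filter, Finset.mem_erase, Finset.mem_erase]
          constructor
          · rintro ⟨⟨h4, -⟩, h5⟩
            exact ⟨h4, h5⟩
          · rintro ⟨h4, h5⟩
            exact ⟨⟨h4, hsub h5⟩, h5⟩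
        rw [h3, Finset.card_erase_of_mem h1', hcard, Nat.cast_sub, Nat.cast_one]
        rw [← hcard]
        exact Finset.card_pos.2 ⟨_, h1'⟩
      rw [Finset.sum_add_distrib, h2 Λ₁ Finset.subset_union_left ((hΛ₁ 1).2 fun _ _ => rfl)
        (by rw [hΛ₁c, hY.index₁]), h2 Λ₂ Finset.subset_union_right ((hΛ₂ 1).2 fun _ _ => rfl)
        (by rw [hΛ₂c, hY.index₂])]
      ring
    rw [← h1]
    have h2 : ∑ ψ ∈ P, (n ψ : ℤ) * S ψ = ∑ l ∈ Λ, ∑ ψ ∈ P, (n ψ : ℤ) * (a ψ l) ^ 2 := by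
      rw [Finset.sum_comm]
      refine Finset.sum_congr rfl fun ψ _ => ?_
      rw [hS, Finset.mul_sum]
    rw [h2]
    refine Finset.sum_le_sum fun l hl => ?_
    have h3 := hplus l hl
    have h4 : |∑ ψ ∈ P, (n ψ : ℤ) * a ψ l| =
        (if l ∈ Λ₁ then 1 else 0) + (if l ∈ Λ₂ then 1 else 0) := by
      rw [h3]
      have h5 : |σ * ε| = 1 := by
        rcases hY.sig with h6 | h6 <;> rcases h.eps with h7 | h7 <;> rw [h6, h7] <;> norm_num
      rw [abs_mul, h5, one_mul, abs_of_nonneg]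
      split_ifs <;> norm_num
    rw [← h4]
    refine (Finset.abs_sum_le_sum_abs _ _).trans (Finset.sum_le_sum fun ψ _ => ?_)
    rw [abs_mul, Nat.abs_cast]
    refine mul_le_mul_of_nonneg_left ?_ (by positivity)
    rw [← sq_abs]
    rcases eq_or_ne (a ψ l) 0 with h5 | h5
    · rw [h5]
      norm_num
    · have h6 : 1 ≤ |a ψ l| := Int.one_le_abs h5
      nlinarith
  have hSpP : Sp ⊆ P := by
    intro φ hφ
    rw [hP, Finset.mem_filter]
    exact ⟨Finset.mem_univ _, (hSp φ hφ).1⟩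
  -- splitting off the special characters
  have hsplit : ∑ ψ ∈ P, (n ψ : ℤ) * d ψ = ∑ ψ ∈ P \ Sp, (n ψ : ℤ) * d ψ +
      ∑ ψ ∈ Sp, (n ψ : ℤ) * d ψ := (Finset.sum_sdiff hSpP).symm
  have hsplitS : ∑ ψ ∈ P, (n ψ : ℤ) * S ψ = ∑ ψ ∈ P \ Sp, (n ψ : ℤ) * S ψ := by
    rw [← Finset.sum_sdiff hSpP, Finset.sum_eq_zero (s := Sp), add_zero]
    intro ψ hψ
    rw [hSsp ψ hψ, mul_zero]
  rw [hsplitS] at htot
  have hle : ∀ ψ ∈ P \ Sp, ((q : ℤ) + ε) * ((n ψ : ℤ) * S ψ) ≤ 2 * ((n ψ : ℤ) * d ψ) := by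
    intro ψ _
    have h1 := mul_le_mul_of_nonneg_left (hSd ψ) (by positivity : (0 : ℤ) ≤ n ψ)
    calc ((q : ℤ) + ε) * ((n ψ : ℤ) * S ψ) = n ψ * ((q + ε) * S ψ) := by ring
      _ ≤ n ψ * (2 * d ψ) := h1
      _ = 2 * ((n ψ : ℤ) * d ψ) := by ring
  have hsum := Finset.sum_le_sum hle
  rw [← Finset.mul_sum, ← Finset.mul_sum] at hsum
  have htot' := mul_le_mul_of_nonneg_left htot hpos.le
  constructor
  · rw [hsplit]
    nlinarith
  · intro heq ψ hn0 hψt hψSp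
    rw [hsplit] at heq
    have h1 : ((q : ℤ) + ε) * ∑ ψ ∈ P \ Sp, (n ψ : ℤ) * S ψ = 2 * ∑ ψ ∈ P \ Sp, (n ψ : ℤ) * d ψ := by
      refine le_antisymm hsum ?_
      linarith
    rw [Finset.mul_sum, Finset.mul_sum] at h1
    have hψP : ψ ∈ P \ Sp := by
      rw [Finset.mem_sdiff, hP, Finset.mem_filter]
      exact ⟨⟨Finset.mem_univ _, hψt⟩, hψSp⟩
    have h2 := (Finset.sum_eq_sum_iff_of_le hle).1 h1 ψ hψP
    have hn0' : (n ψ : ℤ) ≠ 0 := by exact_mod_cast hn0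
    have h3 : ((q : ℤ) + ε) * S ψ = 2 * d ψ := by
      have h4 : (n ψ : ℤ) * (((q : ℤ) + ε) * S ψ) = n ψ * (2 * d ψ) := by linarith
      exact mul_left_cancel₀ hn0' h4
    have hd0 : (0 : ℤ) < d ψ := by
      obtain ⟨b, hb0, hb⟩ := Core.isIrr_apply_one ψ.2
      rw [hd ψ] at hb
      have h5 : d ψ = b := by exact_mod_cast hb
      rw [h5]
      exact_mod_cast hb0
    have h4 : S ψ ≠ 0 := by
      intro h5
      rw [h5, mul_zero] at h3
      linarith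
    obtain ⟨l, hl, hal⟩ := hSne ψ h4
    obtain ⟨h5, h6⟩ := degree_le' h ψ.2 l (hreg l hl).2 (hcoef ψ l hal) (hd ψ)
    have h7 : (d ψ : ℤ) = q + ε := by
      refine le_antisymm ?_ h5
      nlinarith [hS2 ψ]
    exact ⟨h7, h6 h7.symm⟩

open scoped Classical in
/-- The main estimate, with the case of equality. -/
theorem plus_le [hN : K.Normal] (h : LBHyp q ε K L B K₁ X T e α t u w) {Y : C → ℂ} {σ c : ℤ}
    {m : ℕ} {A₁ A₂ : Subgroup W} (hY : Vals q ε e α t u Y σ c m A₁ A₂)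
    [Fintype (IrrCharacter C)] (n d : IrrCharacter C → ℕ)
    (hn : Y = ∑ ψ : IrrCharacter C, n ψ • (ψ : C → ℂ))
    (hd : ∀ ψ : IrrCharacter C, (ψ : C → ℂ) 1 = d ψ)
    (Sp : Finset (IrrCharacter C)) (hSp : ∀ φ ∈ Sp, Special e t u φ) :
    ((q : ℤ) + ε) * (m - 1) + ∑ φ ∈ Sp, (n φ : ℤ) * d φ ≤
        ∑ ψ ∈ Finset.univ.filter (fun ψ : IrrCharacter C => (ψ : C → ℂ) t = (ψ : C → ℂ) 1),
          (n ψ : ℤ) * d ψ ∧
      (((q : ℤ) + ε) * (m - 1) + ∑ φ ∈ Sp, (n φ : ℤ) * d φ =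
        ∑ ψ ∈ Finset.univ.filter (fun ψ : IrrCharacter C => (ψ : C → ℂ) t = (ψ : C → ℂ) 1),
          (n ψ : ℤ) * d ψ → ∀ ψ : IrrCharacter C, n ψ ≠ 0 → (ψ : C → ℂ) t = (ψ : C → ℂ) 1 →
            ψ ∉ Sp → (d ψ : ℤ) = q + ε ∧ ∃ lam χ : K → ℂ, IsIrrCharacter K lam ∧
      IsCharacter K χ ∧ (∀ k : K, (ψ : C → ℂ) k = lam k + χ k) ∧ lam 1 = 1 ∧
      (stab K lam = ⊤ ∨ (ε = 1 ∧ (stab K lam).index = q + 1))) := by
  obtain ⟨h1, h2⟩ := plus_le' h hY n d hn hd Sp hSp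
  refine ⟨h1, fun h3 ψ hψ hψt hψS => ?_⟩
  obtain ⟨h4, lam, χ, k1, k2, k3, k4, k5⟩ := h2 h3 ψ hψ hψt hψS
  exact ⟨h4, lam, χ, k1, k2, k3, k4, k5.imp id fun k6 => ⟨k6.1, k6.2.1⟩⟩

/-- The arithmetic of the relations between the multiplicities. -/
theorem arith {q : ℕ} (hq : 3 ≤ q) {ε σ c : ℤ} (hε : ε = 1 ∨ ε = -1) (hσ : σ = 1 ∨ σ = -1)
    (hc : c = 0 ∨ c = 1) {n1 ns nSt nsSt nρ nρ' : ℕ}
    (R1 : σ * ((n1 : ℤ) + ε * nSt - ε * nρ) = c + 1 + ε)
    (R2 : σ * ((ns : ℤ) + ε * nsSt - ε * nρ) = -ε)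
    (R3 : σ * ((n1 : ℤ) - ε * nSt + ε * nρ') = c - 1) :
    (q : ℤ) + ε ≤ n1 + ns + q * (nSt + nsSt) - σ * (c + ε * q) := by
  have hq' : (3 : ℤ) ≤ q := by exact_mod_cast hq
  have p1 : (0 : ℤ) ≤ n1 := by positivity
  have p2 : (0 : ℤ) ≤ ns := by positivity
  have p3 : (0 : ℤ) ≤ nSt := by positivity
  have p4 : (0 : ℤ) ≤ nsSt := by positivity
  have p5 : (0 : ℤ) ≤ nρ := by positivity
  have p6 : (0 : ℤ) ≤ nρ' := by positivity
  rcases hσ with rfl | rfl <;> rcases hε with rfl | rfl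
  · -- `σ = 1`, `ε = 1`
    have h1 : (2 : ℤ) ≤ nSt := by linarith
    have h2 : c + 3 ≤ (n1 : ℤ) + nSt := by linarith
    nlinarith [mul_nonneg (by linarith : (0 : ℤ) ≤ q - 1) (by linarith : (0 : ℤ) ≤ (nSt : ℤ) - 2),
      mul_nonneg (by linarith : (0 : ℤ) ≤ q) p4]
  · -- `σ = 1`, `ε = -1`
    have h1 : c - 1 ≤ (n1 : ℤ) + nSt := by linarith
    nlinarith [mul_nonneg (by linarith : (0 : ℤ) ≤ q - 1) p3,
      mul_nonneg (by linarith : (0 : ℤ) ≤ q) p4]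
  · -- `σ = -1`, `ε = 1`
    have h1 : c + 3 ≤ (ns : ℤ) + nsSt := by linarith
    rcases hc with rfl | rfl <;>
    nlinarith [mul_nonneg (by linarith : (0 : ℤ) ≤ q - 1) p4,
      mul_nonneg (by linarith : (0 : ℤ) ≤ q) p3]
  · -- `σ = -1`, `ε = -1`
    have h1 : c + n1 + nρ = (nSt : ℤ) := by linarith
    have h2 : 1 + ns + nρ = (nsSt : ℤ) := by linarith
    have h3 : c - 1 = -(n1 : ℤ) - nSt + nρ' := by linarith
    have h4 : (1 : ℤ) ≤ nSt := by
      rcases hc with rfl | rfl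
      · by_contra h5
        push Not at h5
        have h6 : (nSt : ℤ) = 0 := by linarith
        linarith
      · linarith
    have h5 : (1 : ℤ) ≤ nsSt := by linarith
    rcases hc with rfl | rfl <;>
    nlinarith [mul_nonneg (by linarith : (0 : ℤ) ≤ q) (by linarith : (0 : ℤ) ≤ (nSt : ℤ) - 1),
      mul_nonneg (by linarith : (0 : ℤ) ≤ q) (by linarith : (0 : ℤ) ≤ (nsSt : ℤ) - 1)]

/-- **The lower bound**, with the case of equality. -/
theorem bound' [Fintype C] [hN : K.Normal] (h : LBHyp q ε K L B K₁ X T e α t u w) {Y : C → ℂ}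
    {σ c : ℤ} {m : ℕ} {A₁ A₂ : Subgroup W} (hY : Vals q ε e α t u Y σ c m A₁ A₂)
    (hc : c = 0 ∨ c = 1) {φ₁ φs φSt φsSt : C → ℂ} (i1 : IsIrrCharacter C φ₁)
    (is : IsIrrCharacter C φs) (iSt : IsIrrCharacter C φSt) (isSt : IsIrrCharacter C φsSt)
    (hne1 : φs ≠ φ₁) (hne2 : φsSt ≠ φSt)
    (s1 : Special e t u φ₁) (ss : Special e t u φs) (sSt : Special e t u φSt)
    (ssSt : Special e t u φsSt) (d1 : φ₁ 1 = 1) (ds : φs 1 = 1) (dSt : φSt 1 = q)
    (dsSt : φsSt 1 = q) {n1 ns nSt nsSt nρ nρ' : ℕ} (e1 : classInner Y φ₁ = n1)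
    (es : classInner Y φs = ns) (eSt : classInner Y φSt = nSt) (esSt : classInner Y φsSt = nsSt)
    (R1 : σ * ((n1 : ℤ) + ε * nSt - ε * nρ) = c + 1 + ε)
    (R2 : σ * ((ns : ℤ) + ε * nsSt - ε * nρ) = -ε)
    (R3 : σ * ((n1 : ℤ) - ε * nSt + ε * nρ') = c - 1) {N : ℕ} (hN1 : Y 1 = N) :
    (q : ℤ) ^ 2 - 1 ≤ N - σ * (c + ε * q) ∧
      ((N : ℤ) - σ * (c + ε * q) = (q : ℤ) ^ 2 - 1 → ∀ ψ : C → ℂ, IsIrrCharacter C ψ →
        classInner Y ψ ≠ 0 → ψ t = ψ 1 → ψ ≠ φ₁ → ψ ≠ φs → ψ ≠ φSt → ψ ≠ φsSt →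
          ψ 1 = (((q : ℤ) + ε : ℤ) : ℂ) ∧ ∃ lam χ : K → ℂ, IsIrrCharacter K lam ∧
      IsCharacter K χ ∧ (∀ k : K, ψ k = lam k + χ k) ∧ lam 1 = 1 ∧
      (stab K lam = ⊤ ∨ (ε = 1 ∧ (stab K lam).index = q + 1 ∧ u ∈ stab K lam ∧
        ∀ y, e y ∈ stab K lam))) := by
  classical
  have := Core.finite_irr (G := C)
  let _ : Fintype (IrrCharacter C) := Fintype.ofFinite _
  have hq := h.big.frob.q_ge
  obtain ⟨n, hn⟩ := Core.exists_nat_comb hY.char
  choose d hd0 hd using fun ψ : IrrCharacter C => Core.isIrr_apply_one ψ.2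
  have hq1 : (q : ℂ) ≠ 1 := by
    intro h1
    have h2 : q = 1 := by exact_mod_cast h1
    omega
  have hne3 : φ₁ ≠ φSt := fun h1 => hq1 (by rw [← dSt, ← h1, d1])
  have hne4 : φ₁ ≠ φsSt := fun h1 => hq1 (by rw [← dsSt, ← h1, d1])
  have hne5 : φs ≠ φSt := fun h1 => hq1 (by rw [← dSt, ← h1, ds])
  have hne6 : φs ≠ φsSt := fun h1 => hq1 (by rw [← dsSt, ← h1, ds])
  -- the special characters
  set Sp : Finset (IrrCharacter C) := {⟨φ₁, i1⟩, ⟨φs, is⟩, ⟨φSt, iSt⟩, ⟨φsSt, isSt⟩} with hSpdef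
  have hmem : ∀ ψ : IrrCharacter C, ψ ∈ Sp ↔ ((ψ : C → ℂ) = φ₁ ∨ (ψ : C → ℂ) = φs ∨
      (ψ : C → ℂ) = φSt ∨ (ψ : C → ℂ) = φsSt) := by
    intro ψ
    rw [hSpdef]
    simp only [Finset.mem_insert, Finset.mem_singleton, Subtype.ext_iff]
  have hSp : ∀ φ ∈ Sp, Special e t u φ := by
    intro φ hφ
    rcases (hmem φ).1 hφ with h1 | h1 | h1 | h1 <;> rw [h1] <;> assumption
  have hcoefn : ∀ ψ : IrrCharacter C, classInner Y (ψ : C → ℂ) = n ψ := by
    intro ψ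
    rw [hn, Core.classInner_sum_nsmul_irr]
  have hSpsum : ∑ φ ∈ Sp, (n φ : ℤ) * d φ = n1 + ns + q * (nSt + nsSt) := by
    rw [hSpdef, Finset.sum_insert, Finset.sum_insert, Finset.sum_insert, Finset.sum_singleton]
    · have a1 : n ⟨φ₁, i1⟩ = n1 := by
        have := hcoefn ⟨φ₁, i1⟩
        rw [e1] at this
        exact_mod_cast this.symm
      have a2 : n ⟨φs, is⟩ = ns := by
        have := hcoefn ⟨φs, is⟩
        rw [es] at this
        exact_mod_cast this.symm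
      have a3 : n ⟨φSt, iSt⟩ = nSt := by
        have := hcoefn ⟨φSt, iSt⟩
        rw [eSt] at this
        exact_mod_cast this.symm
      have a4 : n ⟨φsSt, isSt⟩ = nsSt := by
        have := hcoefn ⟨φsSt, isSt⟩
        rw [esSt] at this
        exact_mod_cast this.symm
      have b1 : d ⟨φ₁, i1⟩ = 1 := by
        have : φ₁ 1 = d ⟨φ₁, i1⟩ := hd ⟨φ₁, i1⟩
        rw [d1] at this
        exact_mod_cast this.symm
      have b2 : d ⟨φs, is⟩ = 1 := by
        have : φs 1 = d ⟨φs, is⟩ := hd ⟨φs, is⟩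
        rw [ds] at this
        exact_mod_cast this.symm
      have b3 : d ⟨φSt, iSt⟩ = q := by
        have : φSt 1 = d ⟨φSt, iSt⟩ := hd ⟨φSt, iSt⟩
        rw [dSt] at this
        exact_mod_cast this.symm
      have b4 : d ⟨φsSt, isSt⟩ = q := by
        have : φsSt 1 = d ⟨φsSt, isSt⟩ := hd ⟨φsSt, isSt⟩
        rw [dsSt] at this
        exact_mod_cast this.symm
      rw [a1, a2, a3, a4, b1, b2, b3, b4]
      push_cast
      ring
    · simp only [Finset.mem_singleton, Subtype.ext_iff]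
      exact Ne.symm hne2
    · simp only [Finset.mem_insert, Finset.mem_singleton, Subtype.ext_iff, not_or]
      exact ⟨hne5, hne6⟩
    · simp only [Finset.mem_insert, Finset.mem_singleton, Subtype.ext_iff, not_or]
      exact ⟨Ne.symm hne1, hne3, hne4⟩
  obtain ⟨hle, heq⟩ := plus_le' h hY n d hn hd Sp hSp
  set P : ℤ := ∑ ψ ∈ Finset.univ.filter
    (fun ψ : IrrCharacter C => (ψ : C → ℂ) t = (ψ : C → ℂ) 1), (n ψ : ℤ) * d ψ with hP
  -- `Y(1) + Y(t) = 2 P`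
  have hYt : (N : ℤ) + σ * (c + ε * q) = 2 * P := by
    have h1 : (((N : ℤ) + σ * (c + ε * q) : ℤ) : ℂ) = ((2 * P : ℤ) : ℂ) := by
      have h2 : (((N : ℤ) + σ * (c + ε * q) : ℤ) : ℂ) = Y 1 + Y t := by
        rw [hN1, hY.val_t]
        push_cast
        ring
      rw [h2, hn, Finset.sum_apply, Finset.sum_apply, ← Finset.sum_add_distrib, hP,
        Finset.sum_filter]
      push_cast
      rw [Finset.mul_sum]
      refine Finset.sum_congr rfl fun ψ _ => ?_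
      rw [Pi.smul_apply, Pi.smul_apply, nsmul_eq_mul, nsmul_eq_mul]
      obtain ⟨τ, hτ, hτ'⟩ := central_sign h.big.tt h.big.t_comm ψ.2
      have h3 : (ψ : C → ℂ) t = τ * (ψ : C → ℂ) 1 := by
        have := hτ' 1
        rwa [mul_one] at this
      by_cases h4 : (ψ : C → ℂ) t = (ψ : C → ℂ) 1
      · rw [if_pos h4, h4, hd]
        ring
      · rw [if_neg h4]
        have h5 : τ = -1 := by
          refine hτ.resolve_left fun h6 => h4 ?_
          rw [h3, h6, one_mul]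
        rw [h3, h5]
        ring
    exact_mod_cast h1
  have har := arith (q := q) (by omega) h.eps hY.sig hc R1 R2 R3
  rw [hSpsum] at hle heq
  have hm := hY.two_m
  have hmq : 2 * (((q : ℤ) + ε) * m) = (q : ℤ) ^ 2 - 1 := by
    have h1 : ε ^ 2 = 1 := by rcases h.eps with h2 | h2 <;> rw [h2] <;> norm_num
    calc 2 * (((q : ℤ) + ε) * m) = (q + ε) * (2 * m) := by ring
      _ = (q + ε) * (q - ε) := by rw [hm]
      _ = (q : ℤ) ^ 2 - ε ^ 2 := by ring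
      _ = _ := by rw [h1]
  refine ⟨by nlinarith, fun htight ψ hψ hYψ hψt p1 p2 p3 p4 => ?_⟩
  have htight' : ((q : ℤ) + ε) * (m - 1) + (n1 + ns + q * (nSt + nsSt)) = P := by
    refine le_antisymm hle ?_
    nlinarith
  have hnψ : n ⟨ψ, hψ⟩ ≠ 0 := by
    intro h1
    have h2 := hcoefn ⟨ψ, hψ⟩
    rw [h1, Nat.cast_zero] at h2
    exact hYψ h2
  have hψSp : (⟨ψ, hψ⟩ : IrrCharacter C) ∉ Sp := by
    rw [hmem]
    simp only [not_or]
    exact ⟨p1, p2, p3, p4⟩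
  obtain ⟨h1, h2⟩ := heq htight' ⟨ψ, hψ⟩ hnψ hψt hψSp
  refine ⟨?_, h2⟩
  have h3 := hd ⟨ψ, hψ⟩
  rw [← h1]
  exact h3

/-- **The lower bound**, with the case of equality. -/
theorem bound [Fintype C] [hN : K.Normal] (h : LBHyp q ε K L B K₁ X T e α t u w) {Y : C → ℂ}
    {σ c : ℤ} {m : ℕ} {A₁ A₂ : Subgroup W} (hY : Vals q ε e α t u Y σ c m A₁ A₂)
    (hc : c = 0 ∨ c = 1) {φ₁ φs φSt φsSt : C → ℂ} (i1 : IsIrrCharacter C φ₁)
    (is : IsIrrCharacter C φs) (iSt : IsIrrCharacter C φSt) (isSt : IsIrrCharacter C φsSt)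
    (hne1 : φs ≠ φ₁) (hne2 : φsSt ≠ φSt)
    (s1 : Special e t u φ₁) (ss : Special e t u φs) (sSt : Special e t u φSt)
    (ssSt : Special e t u φsSt) (d1 : φ₁ 1 = 1) (ds : φs 1 = 1) (dSt : φSt 1 = q)
    (dsSt : φsSt 1 = q) {n1 ns nSt nsSt nρ nρ' : ℕ} (e1 : classInner Y φ₁ = n1)
    (es : classInner Y φs = ns) (eSt : classInner Y φSt = nSt) (esSt : classInner Y φsSt = nsSt)
    (R1 : σ * ((n1 : ℤ) + ε * nSt - ε * nρ) = c + 1 + ε)
    (R2 : σ * ((ns : ℤ) + ε * nsSt - ε * nρ) = -ε)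
    (R3 : σ * ((n1 : ℤ) - ε * nSt + ε * nρ') = c - 1) {N : ℕ} (hN1 : Y 1 = N) :
    (q : ℤ) ^ 2 - 1 ≤ N - σ * (c + ε * q) ∧
      ((N : ℤ) - σ * (c + ε * q) = (q : ℤ) ^ 2 - 1 → ∀ ψ : C → ℂ, IsIrrCharacter C ψ →
        classInner Y ψ ≠ 0 → ψ t = ψ 1 → ψ ≠ φ₁ → ψ ≠ φs → ψ ≠ φSt → ψ ≠ φsSt →
          ψ 1 = (((q : ℤ) + ε : ℤ) : ℂ) ∧ ∃ lam χ : K → ℂ, IsIrrCharacter K lam ∧
      IsCharacter K χ ∧ (∀ k : K, ψ k = lam k + χ k) ∧ lam 1 = 1 ∧
      (stab K lam = ⊤ ∨ (ε = 1 ∧ (stab K lam).index = q + 1))) := by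
  obtain ⟨h1, h2⟩ := bound' h hY hc i1 is iSt isSt hne1 hne2 s1 ss sSt ssSt d1 ds dSt dsSt e1 es
    eSt esSt R1 R2 R3 hN1
  refine ⟨h1, fun h3 ψ hψ hYψ hψt p1 p2 p3 p4 => ?_⟩
  obtain ⟨h4, lam, χ, k1, k2, k3, k4, k5⟩ := h2 h3 ψ hψ hYψ hψt p1 p2 p3 p4
  exact ⟨h4, lam, χ, k1, k2, k3, k4, k5.imp id fun k6 => ⟨k6.1, k6.2.1⟩⟩

/-- The bound in the case `q - ε = 2`: no hypotheses on the structure of `C` are needed. -/
theorem bound_one [Fintype C] (htt : t * t = 1) (htc : ∀ x, Commute t x) {Y : C → ℂ}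
    (hY : IsCharacter C Y) {σ c : ℤ} (hε : ε = 1 ∨ ε = -1) (hσ : σ = 1 ∨ σ = -1) (hq3 : 3 ≤ q)
    (hqε : (q : ℤ) - ε = 2) (hYt : Y t = σ * (c + ε * q))
    (hc : c = 0 ∨ c = 1) {φ₁ φs φSt φsSt : C → ℂ} (i1 : IsIrrCharacter C φ₁)
    (is : IsIrrCharacter C φs) (iSt : IsIrrCharacter C φSt) (isSt : IsIrrCharacter C φsSt)
    (hne1 : φs ≠ φ₁) (hne2 : φsSt ≠ φSt)
    (s1 : φ₁ t = φ₁ 1) (ss : φs t = φs 1) (sSt : φSt t = φSt 1) (ssSt : φsSt t = φsSt 1)
    (d1 : φ₁ 1 = 1) (ds : φs 1 = 1) (dSt : φSt 1 = q)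
    (dsSt : φsSt 1 = q) {n1 ns nSt nsSt nρ nρ' : ℕ} (e1 : classInner Y φ₁ = n1)
    (es : classInner Y φs = ns) (eSt : classInner Y φSt = nSt) (esSt : classInner Y φsSt = nsSt)
    (R1 : σ * ((n1 : ℤ) + ε * nSt - ε * nρ) = c + 1 + ε)
    (R2 : σ * ((ns : ℤ) + ε * nsSt - ε * nρ) = -ε)
    (R3 : σ * ((n1 : ℤ) - ε * nSt + ε * nρ') = c - 1) {N : ℕ} (hN1 : Y 1 = N) :
    (q : ℤ) ^ 2 - 1 ≤ N - σ * (c + ε * q) ∧
      ((N : ℤ) - σ * (c + ε * q) = (q : ℤ) ^ 2 - 1 → ∀ ψ : C → ℂ, IsIrrCharacter C ψ →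
        classInner Y ψ ≠ 0 → ψ t = ψ 1 → ψ = φ₁ ∨ ψ = φs ∨ ψ = φSt ∨ ψ = φsSt) := by
  classical
  have := Core.finite_irr (G := C)
  let _ : Fintype (IrrCharacter C) := Fintype.ofFinite _
  obtain ⟨n, hn⟩ := Core.exists_nat_comb hY
  choose d hd0 hd using fun ψ : IrrCharacter C => Core.isIrr_apply_one ψ.2
  have hq1 : (q : ℂ) ≠ 1 := by
    intro h1
    have h2 : q = 1 := by exact_mod_cast h1
    omega
  have hne3 : φ₁ ≠ φSt := fun h1 => hq1 (by rw [← dSt, ← h1, d1])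
  have hne4 : φ₁ ≠ φsSt := fun h1 => hq1 (by rw [← dsSt, ← h1, d1])
  have hne5 : φs ≠ φSt := fun h1 => hq1 (by rw [← dSt, ← h1, ds])
  have hne6 : φs ≠ φsSt := fun h1 => hq1 (by rw [← dsSt, ← h1, ds])
  set Sp : Finset (IrrCharacter C) := {⟨φ₁, i1⟩, ⟨φs, is⟩, ⟨φSt, iSt⟩, ⟨φsSt, isSt⟩} with hSpdef
  have hmem : ∀ ψ : IrrCharacter C, ψ ∈ Sp ↔ ((ψ : C → ℂ) = φ₁ ∨ (ψ : C → ℂ) = φs ∨
      (ψ : C → ℂ) = φSt ∨ (ψ : C → ℂ) = φsSt) := by
    intro ψ
    rw [hSpdef]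
    simp only [Finset.mem_insert, Finset.mem_singleton, Subtype.ext_iff]
  have hcoefn : ∀ ψ : IrrCharacter C, classInner Y (ψ : C → ℂ) = n ψ := by
    intro ψ
    rw [hn, Core.classInner_sum_nsmul_irr]
  have hSpsum : ∑ φ ∈ Sp, (n φ : ℤ) * d φ = n1 + ns + q * (nSt + nsSt) := by
    rw [hSpdef, Finset.sum_insert, Finset.sum_insert, Finset.sum_insert, Finset.sum_singleton]
    · have a1 : n ⟨φ₁, i1⟩ = n1 := by
        have := hcoefn ⟨φ₁, i1⟩
        rw [e1] at this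
        exact_mod_cast this.symm
      have a2 : n ⟨φs, is⟩ = ns := by
        have := hcoefn ⟨φs, is⟩
        rw [es] at this
        exact_mod_cast this.symm
      have a3 : n ⟨φSt, iSt⟩ = nSt := by
        have := hcoefn ⟨φSt, iSt⟩
        rw [eSt] at this
        exact_mod_cast this.symm
      have a4 : n ⟨φsSt, isSt⟩ = nsSt := by
        have := hcoefn ⟨φsSt, isSt⟩
        rw [esSt] at this
        exact_mod_cast this.symm
      have b1 : d ⟨φ₁, i1⟩ = 1 := by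
        have : φ₁ 1 = d ⟨φ₁, i1⟩ := hd ⟨φ₁, i1⟩
        rw [d1] at this
        exact_mod_cast this.symm
      have b2 : d ⟨φs, is⟩ = 1 := by
        have : φs 1 = d ⟨φs, is⟩ := hd ⟨φs, is⟩
        rw [ds] at this
        exact_mod_cast this.symm
      have b3 : d ⟨φSt, iSt⟩ = q := by
        have : φSt 1 = d ⟨φSt, iSt⟩ := hd ⟨φSt, iSt⟩
        rw [dSt] at this
        exact_mod_cast this.symm
      have b4 : d ⟨φsSt, isSt⟩ = q := by
        have : φsSt 1 = d ⟨φsSt, isSt⟩ := hd ⟨φsSt, isSt⟩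
        rw [dsSt] at this
        exact_mod_cast this.symm
      rw [a1, a2, a3, a4, b1, b2, b3, b4]
      push_cast
      ring
    · simp only [Finset.mem_singleton, Subtype.ext_iff]
      exact Ne.symm hne2
    · simp only [Finset.mem_insert, Finset.mem_singleton, Subtype.ext_iff, not_or]
      exact ⟨hne5, hne6⟩
    · simp only [Finset.mem_insert, Finset.mem_singleton, Subtype.ext_iff, not_or]
      exact ⟨Ne.symm hne1, hne3, hne4⟩
  set P : Finset (IrrCharacter C) := Finset.univ.filter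
    (fun ψ : IrrCharacter C => (ψ : C → ℂ) t = (ψ : C → ℂ) 1) with hP
  have hSpP : Sp ⊆ P := by
    intro φ hφ
    rw [hP, Finset.mem_filter]
    refine ⟨Finset.mem_univ _, ?_⟩
    rcases (hmem φ).1 hφ with h1 | h1 | h1 | h1 <;> rw [h1] <;> assumption
  have hsplit : ∑ ψ ∈ P, (n ψ : ℤ) * d ψ = ∑ ψ ∈ P \ Sp, (n ψ : ℤ) * d ψ +
      ∑ ψ ∈ Sp, (n ψ : ℤ) * d ψ := (Finset.sum_sdiff hSpP).symm
  have hYt' : (N : ℤ) + σ * (c + ε * q) = 2 * ∑ ψ ∈ P, (n ψ : ℤ) * d ψ := by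
    have h1 : (((N : ℤ) + σ * (c + ε * q) : ℤ) : ℂ) =
        ((2 * ∑ ψ ∈ P, (n ψ : ℤ) * d ψ : ℤ) : ℂ) := by
      have h2 : (((N : ℤ) + σ * (c + ε * q) : ℤ) : ℂ) = Y 1 + Y t := by
        rw [hN1, hYt]
        push_cast
        ring
      rw [h2, hn, Finset.sum_apply, Finset.sum_apply, ← Finset.sum_add_distrib, hP,
        Finset.sum_filter]
      push_cast
      rw [Finset.mul_sum]
      refine Finset.sum_congr rfl fun ψ _ => ?_
      rw [Pi.smul_apply, Pi.smul_apply, nsmul_eq_mul, nsmul_eq_mul]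
      obtain ⟨τ, hτ, hτ'⟩ := central_sign htt htc ψ.2
      have h3 : (ψ : C → ℂ) t = τ * (ψ : C → ℂ) 1 := by
        have := hτ' 1
        rwa [mul_one] at this
      by_cases h4 : (ψ : C → ℂ) t = (ψ : C → ℂ) 1
      · rw [if_pos h4, h4, hd]
        ring
      · rw [if_neg h4]
        have h5 : τ = -1 := by
          refine hτ.resolve_left fun h6 => h4 ?_
          rw [h3, h6, one_mul]
        rw [h3, h5]
        ring
    exact_mod_cast h1
  have har := arith hq3 hε hσ hc R1 R2 R3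
  rw [hsplit, hSpsum] at hYt'
  have hnn : 0 ≤ ∑ ψ ∈ P \ Sp, (n ψ : ℤ) * d ψ := Finset.sum_nonneg fun ψ _ => by positivity
  have hmq : 2 * ((q : ℤ) + ε) = (q : ℤ) ^ 2 - 1 := by
    have h1 : ε ^ 2 = 1 := by rcases hε with h2 | h2 <;> rw [h2] <;> norm_num
    calc 2 * ((q : ℤ) + ε) = (q - ε) * (q + ε) := by rw [hqε]
      _ = (q : ℤ) ^ 2 - ε ^ 2 := by ring
      _ = _ := by rw [h1]
  refine ⟨by linarith, fun htight ψ hψ hYψ hψt => ?_⟩
  by_contra hcon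
  have hψSp : (⟨ψ, hψ⟩ : IrrCharacter C) ∉ Sp := by
    rw [hmem]
    exact hcon
  have hψP : (⟨ψ, hψ⟩ : IrrCharacter C) ∈ P \ Sp := by
    rw [Finset.mem_sdiff, hP, Finset.mem_filter]
    exact ⟨⟨Finset.mem_univ _, hψt⟩, hψSp⟩
  have h0 : ∑ ψ ∈ P \ Sp, (n ψ : ℤ) * d ψ = 0 := by linarith
  have h1 := (Finset.sum_eq_zero_iff_of_nonneg (fun ψ _ => by positivity)).1 h0 ⟨ψ, hψ⟩ hψP
  rcases mul_eq_zero.1 h1 with h2 | h2
  · refine hYψ ?_
    have h3 := hcoefn ⟨ψ, hψ⟩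
    have h4 : n ⟨ψ, hψ⟩ = 0 := by exact_mod_cast h2
    rw [h4, Nat.cast_zero] at h3
    exact h3
  · have h3 : d ⟨ψ, hψ⟩ = 0 := by exact_mod_cast h2
    exact (hd0 ⟨ψ, hψ⟩).ne' h3

/-- A nontrivial irreducible character of `K` under `Y` lies under a constituent of the `t = 1`
part of `Y`. -/
theorem exists_plus_over [Fintype C] {K : Subgroup C} [Fintype K] {t : C} (htt : t * t = 1)
    (htc : ∀ x, Commute t x) {Y : C → ℂ} (hY : IsCharacter C Y) (hYt : ∀ k ∈ K, Y (t * k) = Y t)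
    {lam : K → ℂ} (hlam : IsIrrCharacter K lam) (hne : lam ≠ 1)
    (h : classInner (fun k : K => Y k) lam ≠ 0) :
    ∃ ψ : C → ℂ, IsIrrCharacter C ψ ∧ classInner Y ψ ≠ 0 ∧ ψ t = ψ 1 ∧
      classInner (fun k : K => ψ k) lam ≠ 0 := by
  classical
  obtain ⟨Y₀, Y₁, h0, h1, hadd, hfix, hmov⟩ := exists_sign_split htt htc hY
  have h2 : classInner (fun k : K => Y (t * k)) lam = 0 := by
    have h3 : (fun k : K => Y (t * k)) = (Y t) • (1 : K → ℂ) := by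
      funext k
      rw [hYt k k.2, Pi.smul_apply, Pi.one_apply, smul_eq_mul, mul_one]
    rw [h3, Core.classInner_smul_left, Core.classInner_irr_ne Core.isIrr_one hlam (Ne.symm hne),
      mul_zero]
  have h3 : classInner (fun k : K => Y₀ k) lam ≠ 0 := by
    intro h4
    have h5 : (fun k : K => Y (t * k)) = (fun k : K => Y₀ k) - fun k : K => Y₁ k := by
      funext k
      rw [hadd, Pi.add_apply, hfix, hmov, Pi.sub_apply]
      ring
    have h6 : (fun k : K => Y k) = (fun k : K => Y₀ k) + fun k : K => Y₁ k := by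
      funext k
      rw [hadd]
      rfl
    rw [h5, Core.classInner_sub_left, h4] at h2
    rw [h6, Core.classInner_add_left, h4] at h
    exact h (by linear_combination -h2)
  obtain ⟨ψ, χ, hψ, hχ, hadd', hne'⟩ := exists_constituent
    (coef (fun k : K => (k : C)) lam) h0 h3
  refine ⟨ψ, hψ, inner_ne_zero_of_add hψ (Core.isCharacter_add hχ h1) ?_, ?_, hne'⟩
  · rw [hadd, hadd', add_assoc]
  · obtain ⟨τ, hτ, hτ'⟩ := central_sign htt htc hψ
    have h4 : (1 : ℂ) = τ := by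
      refine sign_eq_of_mul (Or.inl rfl) hτ ?_
      have h5 := classInner_shift t (f := Y₀) (g := ψ) (τ := 1) (ω := τ)
        (fun x => by rw [hfix, one_mul]) hτ'
      have h6 := inner_ne_zero_of_add hψ hχ hadd'
      exact (mul_eq_right₀ h6).1 h5.symm
    have h5 := hτ' 1
    rw [mul_one, ← h4, one_mul] at h5
    exact h5

end Main

end Cfsg.Agent.Classification.QDW.LowerBound
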