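import Mathlib
import Cfsg.Agent.Classification.InvCent.SDPsi
import Cfsg.Agent.Classification.BGIsometry
import Cfsg.Agent.Classification.QDW.GlauberTwo

/-!
# Semidihedral case with a core: three relations

`H` is a finite group (the centralizer of the involution), `π : H →* C` surjective, `C` of type
`CHyp` with `DetHyp _ _ _ _ _ _ _ _ 2 b`. `X` is a class function on `H` with
`X y = (c - 1) + R_T(1) (π y)` whenever `t ∈ zpowers (π y)`. The inner products of `X` with the
inflations of `R_T(1) - R_T(χ)`, `R_T(b) - R_T(χ)`, `R_{T'}(1) - R_{T'}(θ)` are computed, the first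
two in terms of the average `a` of `X` over the elements above `u T_odd`.
-/

set_option autoImplicit false
set_option linter.unusedSectionVars false

open Cfsg
open scoped ComplexConjugate

namespace Cfsg.Agent.Classification.QDW.RelH

open Cfsg.Agent.Characters Cfsg.Agent.Classification.InvCent

section Avg

variable {H Q : Type*} [Group H] [Group Q] [Fintype H]

open Classical in
/-- The average of `ψ` over the fibre of `x`. -/
noncomputable def pavg (π : H →* Q) (ψ : H → ℂ) (x : Q) : ℂ :=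
  (Nat.card π.ker : ℂ)⁻¹ * ∑ y : H, if π y = x then ψ y else 0

variable {π : H →* Q}

theorem pavg_isClassFunction (hπ : Function.Surjective π) {ψ : H → ℂ}
    (hψ : IsClassFunction H ψ) : IsClassFunction Q (pavg π ψ) := by
  classical
  intro x c
  obtain ⟨d, rfl⟩ := hπ c
  unfold pavg
  congr 1
  refine (Fintype.sum_equiv (MulAut.conj d).toEquiv _ _ fun y => ?_).symm
  show (if π y = x then ψ y else 0) = if π (d * y * d⁻¹) = π d * x * (π d)⁻¹ then
    ψ (d * y * d⁻¹) else 0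
  rw [hψ y d, map_mul, map_mul, map_inv]
  by_cases h1 : π y = x
  · rw [if_pos h1, if_pos (by rw [h1])]
  · rw [if_neg h1, if_neg]
    intro h2
    exact h1 (mul_left_cancel (mul_right_cancel h2))

variable [Fintype Q]

theorem pavg_of_const (hπ : Function.Surjective π) {ψ : H → ℂ} {x : Q} {a : ℂ}
    (h : ∀ y, π y = x → ψ y = a) : pavg π ψ x = a := by
  classical
  unfold pavg
  have h1 : ∑ y : H, (if π y = x then ψ y else 0) =
      ∑ y : H, (fun z : Q => if z = x then a else 0) (π y) := by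
    refine Finset.sum_congr rfl fun y _ => ?_
    by_cases h1 : π y = x
    · simp only [if_pos h1, h y h1]
    · simp only [if_neg h1]
  rw [h1, BGIsometry.sum_comp π hπ (fun z : Q => if z = x then a else 0),
    Finset.sum_ite_eq' Finset.univ x, if_pos (Finset.mem_univ _)]
  have h2 : (Nat.card π.ker : ℂ) ≠ 0 := Core.card_ne_zero_complex
  field_simp

theorem sum_mul_pavg (f : Q → ℂ) (ψ : H → ℂ) :
    ∑ y : H, f (π y) * ψ y = (Nat.card π.ker : ℂ) * ∑ x : Q, f x * pavg π ψ x := by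
  classical
  have h2 : (Nat.card π.ker : ℂ) ≠ 0 := Core.card_ne_zero_complex
  have h1 : ∀ x : Q, (Nat.card π.ker : ℂ) * (f x * pavg π ψ x) =
      ∑ y : H, if π y = x then f x * ψ y else 0 := by
    intro x
    unfold pavg
    rw [show (Nat.card π.ker : ℂ) * (f x * ((Nat.card π.ker : ℂ)⁻¹ *
      ∑ y : H, if π y = x then ψ y else 0)) = f x * ∑ y : H, if π y = x then ψ y else 0 by
        field_simp, Finset.mul_sum]
    refine Finset.sum_congr rfl fun y _ => ?_
    split_ifs <;> simp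
  rw [Finset.mul_sum, Finset.sum_congr rfl (fun x _ => h1 x), Finset.sum_comm]
  refine Finset.sum_congr rfl fun y _ => ?_
  rw [Finset.sum_ite_eq Finset.univ (π y) (fun x => f x * ψ y), if_pos (Finset.mem_univ _)]

theorem conj_pavg (ψ : H → ℂ) (x : Q) : conj (pavg π ψ x) = pavg π (fun y => conj (ψ y)) x := by
  classical
  unfold pavg
  rw [map_mul, map_inv₀, Complex.conj_natCast, map_sum]
  congr 1
  refine Finset.sum_congr rfl fun y _ => ?_
  split_ifs <;> simp

theorem classInner_pavg (hπ : Function.Surjective π) (f : Q → ℂ) (ψ : H → ℂ) :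
    classInner (fun y => f (π y)) ψ = classInner f (pavg π ψ) := by
  have h2 : (Nat.card π.ker : ℂ) ≠ 0 := Core.card_ne_zero_complex
  have h3 : Nat.card H = Nat.card π.ker * Nat.card Q := by
    rw [← π.ker.card_mul_index, Subgroup.index_ker, MonoidHom.range_eq_top.mpr hπ,
      Subgroup.card_top]
  rw [Core.classInner_def, Core.classInner_def, sum_mul_pavg f (fun y => conj (ψ y)), h3]
  simp only [conj_pavg]
  push_cast
  rw [mul_inv]
  field_simp

end Avg

section Rel

variable {C : Type*} [Group C] [Fintype C] {t : C} {q : ℕ} {ε : ℤ} {Z T T' U : Subgroup C}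
  {s s' u : C} {h : CHyp t q ε Z T T' U s s' u} {b : C →* ℂˣ} {θ : T' →* ℂˣ} {n : ℕ} {μ : U →* ℂˣ}
  {χ : T →* ℂˣ}

/-- `4` times the indicator function of `u T_odd`. -/
noncomputable def gU (s : C) (χ : T →* ℂˣ) : C → ℂ :=
  fun x => (1 + lin χ x) * (1 - lin χ (s * x * s⁻¹))

/-- The average of `Y` over `u T_odd`. -/
noncomputable def avgU (s : C) (χ : T →* ℂˣ) (Y : C → ℂ) : ℂ :=
  (Nat.card T : ℂ)⁻¹ * ssum T (fun x => gU s χ x * Y x)

/-- `Y` is a class function on `C` with the values `(c - 1) + R_T(1)` on the elements having `t` as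
a power. -/
structure Val (h : CHyp t q ε Z T T' U s s' u) (μ : U →* ℂˣ) (c : ℤ) (Y : C → ℂ) : Prop where
  cls : IsClassFunction C Y
  val : ∀ x, t ∈ Subgroup.zpowers x → Y x = (c - 1) + Torus.R T h.base μ (fun _ => 1) x

namespace Val

variable {c : ℤ} {Y : C → ℂ}

theorem on_T (v : Val h μ c Y) {x : C} (hx : x ∈ T) (hxZ : x ∉ Z) (ht : t ∈ Subgroup.zpowers x) :
    Y x = c + 1 := by
  rw [v.val x ht, h.torus.R_T h.base _ hx hxZ]
  ring

theorem on_Z (v : Val h μ c Y) {x : C} (hx : x ∈ Z) (ht : t ∈ Subgroup.zpowers x) :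
    Y x = c + ε * q := by
  rw [v.val x ht, h.torus.R_Z h.base _ hx]
  ring

theorem on_ZU (v : Val h μ c Y) (hμ : ∃ v : U, μ v ≠ 1) {x y : C} (hx : x ∈ Z)
    (ht : t ∈ Subgroup.zpowers x) (hy : y ∈ U) (hy1 : y ≠ 1) : Y (x * y) = c := by
  rw [v.val _ (h.zpowers_ZU x hx y hy ht), h.torus.R_ZU h.base hμ _ hx hy hy1]
  ring

theorem on_T' (v : Val h μ c Y) {x : C} (hx : x ∈ T') (hxZ : x ∉ Z)
    (ht : t ∈ Subgroup.zpowers x) : Y x = c - 1 := by
  have hne : -ε ≠ ε := by
    rcases h.eps with h1 | h1 <;> omega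
  rw [v.val x ht, h.torus.R_T' h.torus' hne h.base _ hx hxZ]
  ring

end Val

theorem chi_Z (_ : Chi h b χ) {z : C} (hz : z ∈ Z) : lin χ (s * z * s⁻¹) = lin χ z := by
  have : s * z * s⁻¹ = z := by rw [h.Z_central z hz s]; group
  rw [this]

theorem t_of_chi_Z (c : Chi h b χ) {z : C} (hz : z ∈ Z) (h1 : lin χ z ≠ 1) :
    t ∈ Subgroup.zpowers z := by
  have h2 : lin χ z = -1 := (c.lin_cases (h.Z_le_T hz)).resolve_left h1
  exact h.zpowers_of_odd (c.odd z (h.Z_le_T hz) h2 (by rw [chi_Z c hz]; exact h2))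

/-- The term on the centre. -/
theorem term_Z (c : Chi h b χ) (hμ : ∃ v : U, μ v ≠ 1) {k : ℤ} {Y : C → ℂ} (v : Val h μ k Y)
    {v₀ : C} (hv₀ : v₀ ∈ U) (hv₀1 : v₀ ≠ 1) {f : C → ℂ} (hf : ∀ z ∈ Z, f z = 1 - lin χ z) :
    (Nat.card Z * q : ℂ)⁻¹ * ssum Z (fun z => f z * conj (Y z - Y (z * v₀))) = ε := by
  have h1 : ssum Z (fun z => f z * conj (Y z - Y (z * v₀))) =
      (ε * q) * ssum Z (fun z => 1 - lin χ z) := by
    rw [← ssum_mul]
    refine ssum_congr fun z hz => ?_
    rw [hf z hz]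
    by_cases h2 : lin χ z = 1
    · rw [h2]
      ring
    · have h3 := t_of_chi_Z c hz h2
      rw [v.on_Z hz h3, v.on_ZU hμ hz h3 hv₀ hv₀1]
      simp only [map_sub, map_add, map_mul, map_intCast, map_natCast]
      ring
  have h2 : ssum Z (lin χ) = 0 := ssum_lin_sub h.Z_le_T h.t_mem (by rw [c.lin_t]; norm_num)
  rw [h1, ssum_sub, h2, ssum_const]
  have := h.base.card_Z_ne
  have := h.base.q_ne
  field_simp
  ring

/-- The term on `t T_odd`. -/
theorem term_T (c : Chi h b χ) (hD : DetHyp q ε T T' U s s' u 2 b)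
    {k : ℤ} {Y : C → ℂ} (v : Val h μ k Y) :
    (Nat.card T : ℂ)⁻¹ * ssum T (fun x => gT s χ x * conj (Y x)) = k + 1 + 2 * ε := by
  have h1 : ssum T (fun x => gT s χ x * conj (Y x) - (k + 1) * gT s χ x) =
      ssum Z (fun x => gT s χ x * conj (Y x) - (k + 1) * gT s χ x) := by
    refine ssum_of_support h.Z_le_T fun x hx hxZ => ?_
    by_cases h2 : gT s χ x = 0
    · rw [h2]; ring
    · rw [v.on_T hx hxZ (h.zpowers_of_odd (c.gT_odd hx h2))]
      simp only [map_add, map_intCast, map_one]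
      ring
  have h3 : ssum Z (fun x => gT s χ x * conj (Y x) - (k + 1) * gT s χ x) =
      (ε * q - 1) * (2 * ssum Z (fun z => 1 - lin χ z)) := by
    rw [← ssum_mul, ← ssum_mul]
    refine ssum_congr fun z hz => ?_
    have h4 : gT s χ z = 2 * (1 - lin χ z) := by
      unfold gT
      rw [chi_Z c hz]
      linear_combination c.lin_sq (h.Z_le_T hz)
    rw [h4]
    by_cases h2 : lin χ z = 1
    · rw [h2]
      ring
    · rw [v.on_Z hz (t_of_chi_Z c hz h2)]
      simp only [map_add, map_intCast, map_mul, map_natCast]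
      ring
  have h5 : ssum Z (lin χ) = 0 := ssum_lin_sub h.Z_le_T h.t_mem (by rw [c.lin_t]; norm_num)
  rw [h3, ssum_sub, ssum_mul, c.ssum_gT hD, ssum_sub, h5, ssum_const, sub_eq_iff_eq_add] at h1
  rw [h1, h.torus.card_cast]
  have := h.base.card_Z_ne
  have h6 := h.torus.sub_ne_zero h.one_lt_q
  have h7 : (ε : ℂ) * ε = 1 := by exact_mod_cast h.torus.sq_sign
  field_simp
  linear_combination (2 * Nat.card Z : ℂ) * h7

/-- The term on `t u T_odd`. -/
theorem term_TU (c : Chi h b χ) {k : ℤ} {Y : C → ℂ} (v : Val h μ k Y) :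
    (Nat.card T : ℂ)⁻¹ * ssum T (fun x => (1 - lin χ x) * (1 + lin χ (s * x * s⁻¹)) * conj (Y x)) =
      conj (avgU s χ Y) := by
  unfold avgU
  rw [map_mul, map_inv₀, Complex.conj_natCast, conj_ssum]
  congr 1
  rw [← ssum_equiv (MulAut.conj s).toEquiv (H := T)]
  · refine ssum_congr fun x hx => ?_
    show (1 - lin χ (s * x * s⁻¹)) * (1 + lin χ (s * (s * x * s⁻¹) * s⁻¹)) *
      conj (Y (s * x * s⁻¹)) = conj (gU s χ x * Y x)
    unfold gU
    rw [h.torus.s_conj_conj, v.cls x s, map_mul]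
    congr 1
    rcases c.lin_cases hx with h1 | h1 <;> rcases c.lin_cases (h.torus.s_conj x hx) with h2 | h2 <;>
      rw [h1, h2] <;> simp
  · intro x
    refine ⟨fun h1 => ?_, h.torus.s_conj x⟩
    have h2 := h.torus.s_conj _ h1
    have h3 : s * (MulAut.conj s).toEquiv x * s⁻¹ = x := h.torus.s_conj_conj x
    rwa [h3] at h2

theorem term_U (c : Chi h b χ) (Y : C → ℂ) :
    (Nat.card T : ℂ)⁻¹ * ssum T (fun x => (1 + lin χ x) * (1 - lin χ (s * x * s⁻¹)) * conj (Y x)) =
      conj (avgU s χ Y) := by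
  unfold avgU
  rw [map_mul, map_inv₀, Complex.conj_natCast, conj_ssum]
  congr 1
  refine ssum_congr fun x hx => ?_
  unfold gU
  rw [map_mul]
  congr 1
  rcases c.lin_cases hx with h1 | h1 <;> rcases c.lin_cases (h.torus.s_conj x hx) with h2 | h2 <;>
    rw [h1, h2] <;> simp

/-- (R1) -/
theorem rel_one (c : Chi h b χ) (hD : DetHyp q ε T T' U s s' u 2 b) (hμ : ∃ v : U, μ v ≠ 1)
    {k : ℤ} {Y : C → ℂ} (v : Val h μ k Y) :
    classInner (Torus.R T h.base μ (fun x => 1 - lin χ x)) Y =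
      (k + 1 + conj (avgU s χ Y)) / 2 := by
  obtain ⟨v₀, hv₀, hv₀1⟩ := h.base.exists_ne_one
  rw [Torus.classInner_R h.base hμ _ v.cls hv₀ hv₀1, term_Z c hμ v hv₀ hv₀1 (fun _ _ => rfl)]
  have h1 : ssum T (fun x => (1 - lin χ x) * conj (Y x)) =
      (1 / 2) * ssum T (fun x => gT s χ x * conj (Y x)) +
      (1 / 2) * ssum T (fun x => (1 - lin χ x) * (1 + lin χ (s * x * s⁻¹)) * conj (Y x)) := by
    rw [← ssum_mul, ← ssum_mul, ← ssum_add]
    refine ssum_congr fun x hx => ?_
    unfold gT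
    ring
  rw [h1]
  linear_combination (1 / 2) * term_T c hD v + (1 / 2) * term_TU c v

/-- (R2) -/
theorem rel_two (c : Chi h b χ) (hD : DetHyp q ε T T' U s s' u 2 b) (hμ : ∃ v : U, μ v ≠ 1)
    {k : ℤ} {Y : C → ℂ} (v : Val h μ k Y) :
    classInner (Torus.R T h.base μ (fun x => bF b x - lin χ x)) Y =
      (k + 1 - conj (avgU s χ Y)) / 2 := by
  obtain ⟨v₀, hv₀, hv₀1⟩ := h.base.exists_ne_one
  have hbZ : ∀ z ∈ Z, bF b z - lin χ z = 1 - lin χ z := by
    intro z hz
    unfold bF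
    rw [← c.lin_b (h.Z_le_T hz), chi_Z c hz, c.lin_sq (h.Z_le_T hz)]
  rw [Torus.classInner_R h.base hμ _ v.cls hv₀ hv₀1, term_Z c hμ v hv₀ hv₀1 hbZ]
  have h1 : ssum T (fun x => (bF b x - lin χ x) * conj (Y x)) =
      (1 / 2) * ssum T (fun x => gT s χ x * conj (Y x)) +
      (-1 / 2) * ssum T (fun x => (1 + lin χ x) * (1 - lin χ (s * x * s⁻¹)) * conj (Y x)) := by
    rw [← ssum_mul, ← ssum_mul, ← ssum_add]
    refine ssum_congr fun x hx => ?_
    unfold gT bF
    rw [← c.lin_b hx]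
    ring
  rw [h1]
  linear_combination (1 / 2) * term_T c hD v + (-1 / 2) * term_U c Y

/-- (R3) -/
theorem rel_three (g : Gen h b θ n) (hμ : ∃ v : U, μ v ≠ 1)
    {k : ℤ} {Y : C → ℂ} (v : Val h μ k Y) :
    classInner (Torus.R T' h.base μ (fun x => 1 - lin θ x)) Y = k - 1 := by
  obtain ⟨v₀, hv₀, hv₀1⟩ := h.base.exists_ne_one
  rw [Torus.classInner_R h.base hμ _ v.cls hv₀ hv₀1]
  have ht : ∀ x ∈ T', lin θ x ≠ 1 → t ∈ Subgroup.zpowers x := fun x hx h1 =>
    h.zpowers_T' hx fun h2 => h1 (g.lin_odd hx h2)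
  have hθt : lin θ t ≠ 1 := by rw [g.lin_t]; norm_num
  have hZ0 : ssum Z (lin θ) = 0 := ssum_lin_sub h.Z_le_T' h.t_mem hθt
  have hT0 : ssum T' (lin θ) = 0 := ssum_lin_sub le_rfl (h.Z_le_T' h.t_mem) hθt
  have h1 : ssum T' (fun x => (1 - lin θ x) * conj (Y x) - (k - 1) * (1 - lin θ x)) =
      ssum Z (fun x => (1 - lin θ x) * conj (Y x) - (k - 1) * (1 - lin θ x)) := by
    refine ssum_of_support h.Z_le_T' fun x hx hxZ => ?_
    by_cases h2 : lin θ x = 1
    · rw [h2]; ring
    · rw [v.on_T' hx hxZ (ht x hx h2)]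
      simp only [map_sub, map_intCast, map_one]
      ring
  have h3 : ssum Z (fun x => (1 - lin θ x) * conj (Y x) - (k - 1) * (1 - lin θ x)) =
      (1 + ε * q) * ssum Z (fun x => 1 - lin θ x) := by
    rw [← ssum_mul]
    refine ssum_congr fun z hz => ?_
    by_cases h2 : lin θ z = 1
    · rw [h2]; ring
    · rw [v.on_Z hz (ht z (h.Z_le_T' hz) h2)]
      simp only [map_add, map_intCast, map_mul, map_natCast]
      ring
  have h4 : ssum Z (fun z => (1 - lin θ z) * conj (Y z - Y (z * v₀))) =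
      (ε * q) * ssum Z (fun x => 1 - lin θ x) := by
    rw [← ssum_mul]
    refine ssum_congr fun z hz => ?_
    by_cases h2 : lin θ z = 1
    · rw [h2]; ring
    · have h5 := ht z (h.Z_le_T' hz) h2
      rw [v.on_Z hz h5, v.on_ZU hμ hz h5 hv₀ hv₀1]
      simp only [map_sub, map_add, map_mul, map_intCast, map_natCast]
      ring
  rw [h3, ssum_sub, ssum_mul, ssum_sub (H := T'), ssum_sub (H := Z), hZ0, hT0, ssum_const,
    ssum_const, sub_eq_iff_eq_add] at h1
  rw [h1, h4, ssum_sub, hZ0, ssum_const, h.torus'.card_cast]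
  have := h.base.card_Z_ne
  have := h.base.q_ne
  have h6 := h.torus'.sub_ne_zero h.one_lt_q
  have h7 : (ε : ℂ) * ε = 1 := by exact_mod_cast h.torus.sq_sign
  push_cast at h6 ⊢
  rw [sub_neg_eq_add] at h6 ⊢
  field_simp
  linear_combination (-Nat.card Z : ℂ) * h7

theorem chi_odd_iff (c : Chi h b χ) {x : C} (hx : x ∈ T) :
    Odd (orderOf x) ↔ lin χ x = 1 ∧ lin χ (s * x * s⁻¹) = 1 := by
  constructor
  · intro ho
    have key : ∀ y ∈ T, Odd (orderOf y) → lin χ y = 1 := by
      intro y hy h1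
      rcases c.lin_cases hy with h2 | h2
      · exact h2
      · exfalso
        have h3 : lin χ y ^ orderOf y = 1 := by
          rw [lin_apply χ hy, ← Units.val_pow_eq_pow_val, ← map_pow]
          have : (⟨y, hy⟩ : T) ^ orderOf y = 1 := by
            ext
            rw [Subgroup.coe_pow, Subgroup.coe_one, pow_orderOf_eq_one]
          rw [this, map_one, Units.val_one]
        rw [h2, h1.neg_one_pow] at h3
        norm_num at h3
    refine ⟨key x hx ho, key _ (h.s_conj x hx) ?_⟩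
    rwa [← (SemiconjBy.orderOf_eq s (x := x) (y := s * x * s⁻¹) (by simp [SemiconjBy]))]
  · rintro ⟨h1, h2⟩
    have htT := h.Z_le_T h.t_mem
    have h3 : s * (t * x) * s⁻¹ = t * (s * x * s⁻¹) := by
      calc s * (t * x) * s⁻¹ = (s * t) * x * s⁻¹ := by group
        _ = t * (s * x * s⁻¹) := by rw [h.t_comm s]; group
    have h4 := c.odd (t * x) (mul_mem htT hx) (by rw [lin_mul _ htT hx, c.lin_t, h1, mul_one])
      (by rw [h3, lin_mul _ htT (h.s_conj x hx), c.lin_t, h2, mul_one])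
    rwa [← mul_assoc, h.tt, one_mul] at h4

end Rel

section Average

variable {C : Type*} [Group C] [Fintype C] {t : C} {q : ℕ} {ε : ℤ} {Z T T' U : Subgroup C}
  {s s' u : C} {h : CHyp t q ε Z T T' U s s' u} {b : C →* ℂˣ} {χ : T →* ℂˣ}
  {H : Type*} [Group H] [Fintype H] {π : H →* C}

/-- The elements above `T_odd ∪ u T_odd`. -/
def Ga (π : H →* C) (χ : T →* ℂˣ) : Subgroup H := (χ.ker.map T.subtype).comap π

theorem mem_Ga {y : H} : y ∈ Ga π χ ↔ π y ∈ T ∧ lin χ (π y) = 1 := by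
  unfold Ga
  rw [Subgroup.mem_comap, Subgroup.mem_map]
  constructor
  · rintro ⟨x, hx, h1⟩
    rw [← h1]
    refine ⟨x.2, ?_⟩
    rw [Subgroup.coe_subtype, lin_coe]
    rw [MonoidHom.mem_ker] at hx
    rw [hx, Units.val_one]
  · rintro ⟨h1, h2⟩
    refine ⟨⟨π y, h1⟩, ?_, rfl⟩
    rw [MonoidHom.mem_ker]
    rw [lin_apply _ h1] at h2
    exact Units.ext h2

/-- The elements above `T_odd`, as a subgroup of `Ga`. -/
def Ya (h : CHyp t q ε Z T T' U s s' u) (π : H →* C) (χ : T →* ℂˣ) : Subgroup (Ga π χ) where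
  carrier := {y | lin χ (s * π (y : H) * s⁻¹) = 1}
  one_mem' := by
    show lin χ (s * π ((1 : Ga π χ) : H) * s⁻¹) = 1
    rw [Subgroup.coe_one, map_one, mul_one, mul_inv_cancel, lin_one]
  mul_mem' := by
    intro x y hx hy
    show lin χ (s * π ((x * y : Ga π χ) : H) * s⁻¹) = 1
    have e1 : s * π ((x * y : Ga π χ) : H) * s⁻¹ = (s * π x * s⁻¹) * (s * π y * s⁻¹) := by
      rw [Subgroup.coe_mul, map_mul]; group
    rw [e1, lin_mul _ (h.s_conj _ (mem_Ga.1 x.2).1) (h.s_conj _ (mem_Ga.1 y.2).1)]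
    rw [show lin χ (s * π (x : H) * s⁻¹) = 1 from hx, show lin χ (s * π (y : H) * s⁻¹) = 1 from hy,
      mul_one]
  inv_mem' := by
    intro x hx
    show lin χ (s * π ((x⁻¹ : Ga π χ) : H) * s⁻¹) = 1
    have hxT := h.s_conj _ (mem_Ga.1 x.2).1
    have e1 : s * π ((x⁻¹ : Ga π χ) : H) * s⁻¹ = (s * π x * s⁻¹)⁻¹ := by
      rw [Subgroup.coe_inv, map_inv]; group
    have e2 : lin χ ((s * π x * s⁻¹)⁻¹) * lin χ (s * π x * s⁻¹) = 1 := by
      rw [← lin_mul _ (inv_mem hxT) hxT, inv_mul_cancel, lin_one]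
    rw [e1]
    rwa [show lin χ (s * π (x : H) * s⁻¹) = 1 from hx, mul_one] at e2

theorem mem_Ya {y : Ga π χ} : y ∈ Ya h π χ ↔ lin χ (s * π (y : H) * s⁻¹) = 1 := Iff.rfl

theorem lin_u_mul (c : Chi h b χ) {x : C} (hx : x ∈ T) :
    lin χ (u * x) = lin χ x ∧ lin χ (s * (u * x) * s⁻¹) = - lin χ (s * x * s⁻¹) := by
  have htT := h.Z_le_T h.t_mem
  constructor
  · rw [lin_mul _ h.u_mem hx, c.lin_u, one_mul]
  · have e1 : s * (u * x) * s⁻¹ = (s * u * s⁻¹) * (s * x * s⁻¹) := by group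
    rw [e1, h.s_u, lin_mul _ (mul_mem htT h.u_mem) (h.s_conj x hx), lin_mul _ htT h.u_mem,
      c.lin_t, c.lin_u]
    ring

theorem setup (c : Chi h b χ) (hker : Odd (Nat.card π.ker)) {σ : H} (hσ : σ * σ = 1)
    (hσu : π σ = u) :
    ∃ hm : σ ∈ Ga π χ, GlauberTwo.Setup (Ya h π χ) (⟨σ, hm⟩ : Ga π χ) := by
  have hm : σ ∈ Ga π χ := mem_Ga.2 (by rw [hσu]; exact ⟨h.u_mem, c.lin_u⟩)
  refine ⟨hm, ?_, ?_, Subtype.ext hσ, ?_, ?_⟩
  · constructor
    intro x hx g
    rw [mem_Ya] at hx ⊢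
    have e1 : π ((g * x * g⁻¹ : Ga π χ) : H) = π x := by
      rw [Subgroup.coe_mul, Subgroup.coe_mul, Subgroup.coe_inv, map_mul, map_mul, map_inv,
        h.T_comm _ (mem_Ga.1 g.2).1 _ (mem_Ga.1 x.2).1, mul_inv_cancel_right]
    rw [e1]
    exact hx
  · by_contra hev
    rw [Nat.not_odd_iff_even, even_iff_two_dvd] at hev
    obtain ⟨x, hx⟩ := exists_prime_orderOf_dvd_card' 2 hev
    have hx2 : ((x : Ga π χ) : H) * ((x : Ga π χ) : H) = 1 := by
      have h1 := pow_orderOf_eq_one x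
      rw [hx, sq] at h1
      exact congrArg (fun y : Ya h π χ => ((y : Ga π χ) : H)) h1
    have hxT := (mem_Ga.1 (x : Ga π χ).2).1
    have h1 := (mem_Ga.1 (x : Ga π χ).2).2
    have h2 := mem_Ya.1 x.2
    have h3 := (chi_odd_iff c hxT).2 ⟨h1, h2⟩
    have h4 : π ((x : Ga π χ) : H) * π ((x : Ga π χ) : H) = 1 := by rw [← map_mul, hx2, map_one]
    have h5 : orderOf (π ((x : Ga π χ) : H)) ∣ 2 := orderOf_dvd_of_pow_eq_one (by rw [sq]; exact h4)
    have h6 : orderOf (π ((x : Ga π χ) : H)) = 1 := by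
      rcases (Nat.dvd_prime Nat.prime_two).1 h5 with h7 | h7
      · exact h7
      · rw [h7] at h3
        norm_num at h3
    have h7 : ((x : Ga π χ) : H) ∈ π.ker := by
      rw [MonoidHom.mem_ker]
      exact orderOf_eq_one_iff.1 h6
    have h8 : orderOf (⟨_, h7⟩ : π.ker) = 2 := by
      rw [← hx, Subgroup.orderOf_mk, Subgroup.orderOf_coe, Subgroup.orderOf_coe]
    have h9 := orderOf_dvd_natCard (⟨_, h7⟩ : π.ker)
    rw [h8] at h9
    exact (Nat.not_even_iff_odd.2 hker) (even_iff_two_dvd.2 h9)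
  · rw [mem_Ya]
    show lin χ (s * π σ * s⁻¹) ≠ 1
    have h1 := (lin_u_mul c (x := 1) (one_mem T)).2
    rw [mul_one, mul_one, mul_inv_cancel, lin_one] at h1
    rw [hσu, h1]
    norm_num
  · intro x hx
    rw [mem_Ya] at hx ⊢
    have hxT := (mem_Ga.1 x.2).1
    show lin χ (s * π (σ * x) * s⁻¹) = 1
    rw [map_mul, hσu, (lin_u_mul c hxT).2]
    rcases c.lin_cases (h.s_conj _ hxT) with h1 | h1
    · exact absurd h1 hx
    · rw [h1, neg_neg]

open scoped Classical in
/-- The sum over the elements above `T_odd`. -/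
theorem sum_Ya (c : Chi h b χ) [Fintype (Ya h π χ)] (F : H → ℂ) :
    (4 : ℂ) * ∑ y : Ya h π χ, F ((y : Ga π χ) : H) =
      ∑ y : H, (if π y ∈ T then (1 + lin χ (π y)) * (1 + lin χ (s * π y * s⁻¹)) else 0) * F y := by
  classical
  have _ : Fintype (Ga π χ) := Fintype.ofFinite _
  have h1 : ∑ y : Ya h π χ, F ((y : Ga π χ) : H) =
      ∑ x : Ga π χ, if lin χ (s * π (x : H) * s⁻¹) = 1 then F x else 0 := by
    have h2 := GlauberTwo.sum_ite_mem (Ya h π χ) (fun x : Ga π χ => F x)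
    rw [← h2]
    refine Finset.sum_congr rfl fun x _ => ?_
    simp only [mem_Ya]
  have h3 : ∑ x : Ga π χ, (if lin χ (s * π (x : H) * s⁻¹) = 1 then F x else 0) =
      ∑ x : H, if x ∈ Ga π χ then (if lin χ (s * π x * s⁻¹) = 1 then F x else 0) else 0 :=
    (GlauberTwo.sum_ite_mem (Ga π χ)
      (fun x : H => if lin χ (s * π x * s⁻¹) = 1 then F x else 0)).symm
  rw [h1, h3, Finset.mul_sum]
  refine Finset.sum_congr rfl fun y _ => ?_
  by_cases hT : π y ∈ T
  · rw [if_pos hT]
    rcases c.lin_cases hT with h4 | h4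
    · rw [if_pos (mem_Ga.2 ⟨hT, h4⟩), h4]
      rcases c.lin_cases (h.s_conj _ hT) with h5 | h5
      · rw [if_pos h5, h5]; ring
      · rw [h5, if_neg (by norm_num)]; ring
    · rw [if_neg, h4]
      · ring
      · intro h5
        have := (mem_Ga.1 h5).2
        rw [h4] at this
        norm_num at this
  · rw [if_neg hT, if_neg fun h5 => hT (mem_Ga.1 h5).1]
    ring

/-- The average over `u T_odd` is the average over `σ W`, `W` the elements above `T_odd` commuting
with `σ`. -/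
theorem avgU_eq (c : Chi h b χ) (hD : DetHyp q ε T T' U s s' u 2 b)
    (hπ : Function.Surjective π) (hker : Odd (Nat.card π.ker))
    {X : H → ℂ} (hX : IsClassFunction H X) {σ : H} (hσ : σ * σ = 1) (hσu : π σ = u)
    (W : Subgroup H) [Fintype W]
    (hW : ∀ w, w ∈ W ↔ π w ∈ T ∧ Odd (orderOf (π w)) ∧ Commute σ w) :
    avgU s χ (pavg π X) = (Nat.card W : ℂ)⁻¹ * ∑ w : W, X (σ * w) := by
  classical
  obtain ⟨hm, st⟩ := setup c hker hσ hσu
  have _ : Fintype (Ga π χ) := Fintype.ofFinite _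
  have _ : Fintype (Ya h π χ) := Fintype.ofFinite _
  have _ : Fintype (GlauberTwo.Fix (Ya h π χ) (⟨σ, hm⟩ : Ga π χ)) := Fintype.ofFinite _
  have hXG : IsClassFunction (Ga π χ) (fun x => X x) := fun x g => hX x g
  have h1 := GlauberTwo.avg_coset st hXG
  -- the right hand side
  let e : GlauberTwo.Fix (Ya h π χ) (⟨σ, hm⟩ : Ga π χ) ≃ W :=
    { toFun := fun x => ⟨((x : Ga π χ) : H), by
        obtain ⟨h2, h3⟩ := GlauberTwo.mem_fix.1 x.2
        have h4 := mem_Ga.1 (x : Ga π χ).2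
        exact (hW _).2 ⟨h4.1, (chi_odd_iff c h4.1).2 ⟨h4.2, mem_Ya.1 h2⟩,
          congrArg Subtype.val h3⟩⟩
      invFun := fun w => ⟨⟨(w : H), by
        obtain ⟨h2, h3, h4⟩ := (hW _).1 w.2
        exact mem_Ga.2 ⟨h2, ((chi_odd_iff c h2).1 h3).1⟩⟩, by
        obtain ⟨h2, h3, h4⟩ := (hW _).1 w.2
        exact GlauberTwo.mem_fix.2 ⟨mem_Ya.2 ((chi_odd_iff c h2).1 h3).2, Subtype.ext h4⟩⟩
      left_inv := fun x => rfl
      right_inv := fun x => rfl }
  have h2 : Nat.card (GlauberTwo.Fix (Ya h π χ) (⟨σ, hm⟩ : Ga π χ)) = Nat.card W := Nat.card_congr e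
  have h3 : ∑ w : GlauberTwo.Fix (Ya h π χ) (⟨σ, hm⟩ : Ga π χ),
      X (((⟨σ, hm⟩ : Ga π χ) * (w : Ga π χ) : Ga π χ) : H) = ∑ w : W, X (σ * w) :=
    Fintype.sum_equiv e _ _ fun x => rfl
  rw [h3, h2] at h1
  rw [← h1]
  -- the left hand side
  have h4 : (4 : ℂ) * ∑ y : Ya h π χ, X (((⟨σ, hm⟩ : Ga π χ) * (y : Ga π χ) : Ga π χ) : H) =
      (Nat.card π.ker : ℂ) * ssum T (fun x => gU s χ x * pavg π X x) := by
    have h5 := sum_Ya (h := h) (π := π) c (fun y => X (σ * y))
    have h6 := sum_mul_pavg (π := π) (fun x => if x ∈ T then gU s χ x else 0) X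
    have h7 : ssum T (fun x => gU s χ x * pavg π X x) =
        ∑ x : C, (if x ∈ T then gU s χ x else 0) * pavg π X x := by
      unfold ssum
      refine Finset.sum_congr rfl fun x _ => ?_
      split_ifs <;> simp
    rw [h7, ← h6]
    refine h5.trans ?_
    refine Fintype.sum_equiv (Equiv.mulLeft σ) _ _ fun y => ?_
    rw [Equiv.coe_mulLeft, map_mul, hσu]
    congr 1
    by_cases hT : π y ∈ T
    · rw [if_pos hT, if_pos (mul_mem h.u_mem hT)]
      unfold gU
      rw [(lin_u_mul c hT).1, (lin_u_mul c hT).2, sub_neg_eq_add]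
    · rw [if_neg hT, if_neg fun h8 => hT ((T.mul_mem_cancel_left h.u_mem).1 h8)]
  have h5 : (4 : ℂ) * Nat.card (Ya h π χ) = (Nat.card π.ker : ℂ) * Nat.card T := by
    have h6 := sum_Ya (h := h) (π := π) c (fun _ => 1)
    rw [Finset.sum_const, Finset.card_univ, nsmul_eq_mul, mul_one, ← Nat.card_eq_fintype_card]
      at h6
    rw [h6]
    have h7 : ∑ y : H, (if π y ∈ T then (1 + lin χ (π y)) * (1 + lin χ (s * π y * s⁻¹)) else 0) *
        (1 : ℂ) = ∑ y : H, (fun x : C => if x ∈ T then (1 + lin χ x) *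
          (1 + lin χ (s * x * s⁻¹)) else 0) (π y) := by
      refine Finset.sum_congr rfl fun y _ => ?_
      simp only [mul_one]
    rw [h7, BGIsometry.sum_comp π hπ (fun x : C => if x ∈ T then (1 + lin χ x) *
          (1 + lin χ (s * x * s⁻¹)) else 0)]
    congr 1
    have h8 : ssum T (fun x => (1 + lin χ x) * (1 + lin χ (s * x * s⁻¹))) =
        ssum T (fun x => 1 + lin χ x + lin (h.torus.sc χ) x + lin (b.comp T.subtype) x) := by
      refine ssum_congr fun x hx => ?_
      rw [h.torus.lin_sc _ hx, lin_apply (b.comp T.subtype) hx]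
      have h9 := c.lin_b hx
      show _ = 1 + lin χ x + lin χ (s * x * s⁻¹) + ((b x : ℂˣ) : ℂ)
      rw [← h9]
      ring
    have h10 : ssum T (fun x => (1 + lin χ x) * (1 + lin χ (s * x * s⁻¹))) = Nat.card T := by
      rw [h8, ssum_add, ssum_add, ssum_add, ssum_lin c.ne_one,
        ssum_lin (h.torus.sc_ne_one c.ne_one), ssum_lin (c.b_ne_one hD), ssum_const]
      ring
    rw [← h10]
    rfl
  unfold avgU
  have n1 : (Nat.card (Ya h π χ) : ℂ) ≠ 0 := Core.card_ne_zero_complex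
  have n2 : (Nat.card T : ℂ) ≠ 0 := Core.card_ne_zero_complex
  have n3 : (Nat.card π.ker : ℂ) ≠ 0 := Core.card_ne_zero_complex
  have n4 : (4 : ℂ) ≠ 0 := by norm_num
  rw [inv_mul_eq_div, inv_mul_eq_div, div_eq_div_iff n2 n1]
  have h6 : (4 * Nat.card π.ker : ℂ) * (ssum T (fun x => gU s χ x * pavg π X x) * Nat.card (Ya h π χ)) =
      (4 * Nat.card π.ker : ℂ) *
        ((∑ y : Ya h π χ, X (((⟨σ, hm⟩ : Ga π χ) * (y : Ga π χ) : Ga π χ) : H)) * Nat.card T) := by
    linear_combination (-(4 : ℂ) * Nat.card (Ya h π χ)) * h4 +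
      ((4 : ℂ) * ∑ y : Ya h π χ, X (((⟨σ, hm⟩ : Ga π χ) * (y : Ga π χ) : Ga π χ) : H)) * h5
  exact mul_left_cancel₀ (mul_ne_zero n4 n3) h6

end Average

section Irr

variable {C : Type*} [Group C] [Fintype C] {t : C} {q : ℕ} {ε : ℤ} {Z T T' U : Subgroup C}
  {s s' u : C} {h : CHyp t q ε Z T T' U s s' u} {b : C →* ℂˣ} {θ : T' →* ℂˣ} {n : ℕ} {μ : U →* ℂˣ}
  {χ : T →* ℂˣ}

/-- A generalized character of norm one and positive degree is irreducible. -/
theorem isIrr_of_pos {φ : C → ℂ} (hg : IsGeneralizedCharacter C φ) (h1 : classInner φ φ = 1)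
    {d : ℤ} (hd : 0 < d) (h2 : φ 1 = d) : IsIrrCharacter C φ := by
  rcases Core.isIrr_of_generalized hg h1 with h3 | h3
  · exact h3
  · obtain ⟨n, hn, h4⟩ := Core.isIrr_apply_one h3
    exfalso
    rw [Pi.neg_apply, h2] at h4
    have h5 : -d = (n : ℤ) := by exact_mod_cast h4
    omega

theorem isGeneralized_smul_sign (hε : ε = 1 ∨ ε = -1) {φ : C → ℂ}
    (hg : IsGeneralizedCharacter C φ) : IsGeneralizedCharacter C (fun x => (ε : ℂ) * φ x) := by
  rcases hε with rfl | rfl
  · have : (fun x => (((1 : ℤ)) : ℂ) * φ x) = φ := by funext x; simp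
    rw [this]; exact hg
  · have : (fun x => (((-1 : ℤ)) : ℂ) * φ x) = -φ := by funext x; simp
    rw [this]; exact Brauer.isGeneralizedCharacter_neg hg

theorem classInner_sign (hε : (ε : ℂ) * ε = 1) (φ ψ : C → ℂ) :
    classInner (fun x => (ε : ℂ) * φ x) (fun x => (ε : ℂ) * ψ x) = classInner φ ψ := by
  have e1 : (fun x => (ε : ℂ) * φ x) = (ε : ℂ) • φ := rfl
  have e2 : (fun x => (ε : ℂ) * ψ x) = (ε : ℂ) • ψ := rfl
  rw [e1, e2, Core.classInner_smul_left, Core.classInner_smul_right, map_intCast]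
  linear_combination classInner φ ψ * hε

/-- The Steinberg character of `C`. -/
noncomputable def St (h : CHyp t q ε Z T T' U s s' u) (μ : U →* ℂˣ) : C → ℂ :=
  fun x => ε * (Torus.R T h.base μ (fun _ => 1) x - 1)

/-- The product of the Steinberg character and of `b`. -/
noncomputable def bSt (h : CHyp t q ε Z T T' U s s' u) (b : C →* ℂˣ) (μ : U →* ℂˣ) : C → ℂ :=
  fun x => bF b x * St h μ x

/-- The character `ε R_T(χ)`. -/
noncomputable def rho (h : CHyp t q ε Z T T' U s s' u) (μ : U →* ℂˣ) (χ : T →* ℂˣ) : C → ℂ :=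
  fun x => ε * Torus.R T h.base μ (lin χ) x

/-- The character `-ε R_{T'}(θ)`. -/
noncomputable def rho' (h : CHyp t q ε Z T T' U s s' u) (μ : U →* ℂˣ) (θ : T' →* ℂˣ) : C → ℂ :=
  fun x => ((-ε : ℤ) : ℂ) * Torus.R T' h.base μ (lin θ) x

theorem eps_sq (h : CHyp t q ε Z T T' U s s' u) : (ε : ℂ) * ε = 1 := by
  exact_mod_cast h.torus.sq_sign

theorem St_one (h : CHyp t q ε Z T T' U s s' u) (μ : U →* ℂˣ) : St h μ 1 = q := by
  unfold St
  rw [h.torus.R_Z h.base _ (one_mem Z)]
  linear_combination (q : ℂ) * eps_sq h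

theorem St_Z (h : CHyp t q ε Z T T' U s s' u) (μ : U →* ℂˣ) {z : C} (hz : z ∈ Z) :
    St h μ z = q := by
  unfold St
  rw [h.torus.R_Z h.base _ hz]
  linear_combination (q : ℂ) * eps_sq h

theorem b_Z (c : Chi h b χ) {z : C} (hz : z ∈ Z) :
    bF b z = 1 := by
  unfold bF
  rw [← c.lin_b (h.Z_le_T hz), chi_Z c hz, c.lin_sq (h.Z_le_T hz)]

theorem b_one : bF b 1 = 1 := by
  unfold bF
  rw [map_one, Units.val_one]

theorem bSt_one (h : CHyp t q ε Z T T' U s s' u) (b : C →* ℂˣ) (μ : U →* ℂˣ) :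
    bSt h b μ 1 = q := by
  unfold bSt
  rw [St_one, b_one, one_mul]

theorem rho_one (h : CHyp t q ε Z T T' U s s' u) (μ : U →* ℂˣ) (χ : T →* ℂˣ) :
    rho h μ χ 1 = q + ε := by
  unfold rho
  rw [h.torus.R_Z h.base _ (one_mem Z), lin_one]
  linear_combination (q : ℂ) * eps_sq h

theorem rho'_one (h : CHyp t q ε Z T T' U s s' u) (μ : U →* ℂˣ) (θ : T' →* ℂˣ) :
    rho' h μ θ 1 = q - ε := by
  unfold rho'
  rw [h.torus'.R_Z h.base _ (one_mem Z), lin_one]
  push_cast
  linear_combination (q : ℂ) * eps_sq h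

theorem rho_t (c : Chi h b χ) (μ : U →* ℂˣ) : rho h μ χ t = -(q + ε) := by
  unfold rho
  rw [h.torus.R_Z h.base _ h.t_mem, c.lin_t]
  linear_combination (-(q : ℂ)) * eps_sq h

theorem rho'_t (g : Gen h b θ n) (μ : U →* ℂˣ) : rho' h μ θ t = -(q - ε) := by
  unfold rho'
  rw [h.torus'.R_Z h.base _ h.t_mem, g.lin_t]
  push_cast
  linear_combination (-(q : ℂ)) * eps_sq h

theorem isGeneralized_one_fun (H : Subgroup C) :
    IsGeneralizedCharacter H (fun _ : H => (1 : ℂ)) :=
  Brauer.isGeneralizedCharacter_of_isCharacter Core.isCharacter_one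

theorem isGeneralized_St (h : CHyp t q ε Z T T' U s s' u) (μ : U →* ℂˣ) :
    IsGeneralizedCharacter C (St h μ) := by
  refine isGeneralized_smul_sign h.eps ?_
  exact Brauer.isGeneralizedCharacter_sub
    (h.torus.isGeneralized_R h.base (isGeneralized_one_fun T))
    (Brauer.isGeneralizedCharacter_of_isCharacter Core.isCharacter_one)

theorem St_self (h : CHyp t q ε Z T T' U s s' u) (hμ : ∃ v : U, μ v ≠ 1) :
    classInner (St h μ) (St h μ) = 1 := by
  unfold St
  rw [classInner_sign (eps_sq h)]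
  have e1 : (fun x => Torus.R T h.base μ (fun _ => 1) x - 1) =
      Torus.R T h.base μ (fun _ => 1) - 1 := rfl
  have h1 : classInner (Torus.R T h.base μ (fun _ => 1)) (Torus.R T h.base μ (fun _ => 1)) = 2 := by
    rw [h.torus.classInner_R_R h.base hμ]
    have e2 : ssum T (fun _ => (1 : ℂ) * conj ((1 : ℂ) + 1)) = ssum T (fun _ => (2 : ℂ)) := by
      refine ssum_congr fun x _ => ?_
      rw [map_add, map_one]
      ring
    rw [e2, ssum_const]
    have := Core.card_ne_zero_complex (G := T)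
    field_simp
  have h2 : classInner (Torus.R T h.base μ (fun _ => 1)) 1 = 1 := by
    rw [h.inner_T_one hμ, ssum_const, mul_one]
    exact inv_mul_cancel₀ Core.card_ne_zero_complex
  have h3 : classInner 1 (Torus.R T h.base μ (fun _ => 1)) = 1 := by
    rw [← Core.classInner_conj_symm, h2, map_one]
  rw [e1, Core.classInner_sub_left, Core.classInner_sub_right, Core.classInner_sub_right, h1, h2,
    h3, Core.classInner_irr_self Core.isIrr_one]
  norm_num

theorem isIrr_St (h : CHyp t q ε Z T T' U s s' u) (hμ : ∃ v : U, μ v ≠ 1) :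
    IsIrrCharacter C (St h μ) :=
  isIrr_of_pos (isGeneralized_St h μ) (St_self h hμ) (d := q)
    (by have := h.one_lt_q; exact_mod_cast (by omega : 0 < q)) (by rw [St_one]; simp)

theorem isIrr_bSt (h : CHyp t q ε Z T T' U s s' u) (b : C →* ℂˣ) (hμ : ∃ v : U, μ v ≠ 1) :
    IsIrrCharacter C (bSt h b μ) := by
  refine isIrr_of_pos (Brauer.isGeneralizedCharacter_mul
    (Brauer.isGeneralizedCharacter_of_isCharacter (Linear.isCharacter_hom b))
    (isGeneralized_St h μ)) ?_ (d := q)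
    (by have := h.one_lt_q; exact_mod_cast (by omega : 0 < q)) (by
      have := bSt_one h b μ
      rw [← Int.cast_natCast] at this
      exact this)
  rw [← St_self h hμ, Core.classInner_def, Core.classInner_def]
  congr 1
  refine Finset.sum_congr rfl fun x _ => ?_
  have h1 : ((b x : ℂˣ) : ℂ) * conj ((b x : ℂˣ) : ℂ) = 1 := by
    rw [Complex.mul_conj, Complex.normSq_eq_norm_sq, Linear.norm_hom_apply]
    norm_num
  show (((b x : ℂˣ) : ℂ) * St h μ x) * conj (((b x : ℂˣ) : ℂ) * St h μ x) =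
    St h μ x * conj (St h μ x)
  rw [map_mul]
  linear_combination (St h μ x * conj (St h μ x)) * h1

theorem rho_self (c : Chi h b χ) (hD : DetHyp q ε T T' U s s' u 2 b) (hμ : ∃ v : U, μ v ≠ 1) :
    classInner (rho h μ χ) (rho h μ χ) = 1 := by
  unfold rho
  rw [classInner_sign (eps_sq h), h.torus.classInner_R_R h.base hμ]
  have e1 : ssum T (fun x => lin χ x * conj (lin χ x + lin χ (s * x * s⁻¹))) =
      ssum T (fun x => 1 + lin (b.comp T.subtype) x) := by
    refine ssum_congr fun x hx => ?_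
    have h1 := c.lin_sq hx
    have h2 := c.lin_b hx
    have h3 : lin (b.comp T.subtype) x = ((b x : ℂˣ) : ℂ) := by
      rw [lin_apply (b.comp T.subtype) hx]; rfl
    rw [h3, ← h2]
    rcases c.lin_cases hx with h4 | h4 <;>
      rcases c.lin_cases (h.torus.s_conj x hx) with h5 | h5 <;> rw [h4, h5] <;>
      simp only [map_add, map_neg, map_one] <;> norm_num
  rw [e1, ssum_add, ssum_lin (c.b_ne_one hD), ssum_const, mul_one, add_zero]
  exact inv_mul_cancel₀ Core.card_ne_zero_complex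

theorem isIrr_rho (c : Chi h b χ) (hD : DetHyp q ε T T' U s s' u 2 b)
    (hμ : ∃ v : U, μ v ≠ 1) : IsIrrCharacter C (rho h μ χ) := by
  refine isIrr_of_pos (isGeneralized_smul_sign h.eps
    (h.torus.isGeneralized_R h.base (isGeneralized_lin χ))) (rho_self c hD hμ) (d := q + ε) ?_ ?_
  · have := h.one_lt_q
    rcases h.eps with h1 | h1 <;> omega
  · show rho h μ χ 1 = _
    rw [rho_one]
    push_cast
    ring

theorem rho'_self (g : Gen h b θ n) (hμ : ∃ v : U, μ v ≠ 1) :
    classInner (rho' h μ θ) (rho' h μ θ) = 1 := by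
  unfold rho'
  have e0 : (((-ε : ℤ)) : ℂ) * ((-ε : ℤ) : ℂ) = 1 := by
    push_cast
    linear_combination eps_sq h
  rw [classInner_sign e0, h.torus'.classInner_R_R h.base hμ]
  have hn := g.three_le
  have hsc : θ * (h.torus'.sc θ)⁻¹ ≠ 1 := by
    intro h1
    have h2 : θ = h.torus'.sc θ := by
      ext x
      have := DFunLike.congr_fun h1 x
      rw [MonoidHom.mul_apply, MonoidHom.inv_apply, MonoidHom.one_apply, mul_inv_eq_one] at this
      rw [this]
    have h3 := g.sc_ne (j := 1) (by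
      intro h4
      have := Nat.le_of_dvd one_pos h4
      have h5 : 2 ^ 1 ≤ 2 ^ (n - 1) := Nat.pow_le_pow_right (by norm_num) (by omega)
      omega)
    have h4 : θ ^ 1 = θ := by
      ext x
      rw [MonoidHom.pow_apply, pow_one]
    rw [h4] at h3
    exact h3 h2
  have e1 : ssum T' (fun x => lin θ x * conj (lin θ x + lin θ (s' * x * s'⁻¹))) =
      ssum T' (fun x => 1 + lin (θ * (h.torus'.sc θ)⁻¹) x) := by
    refine ssum_congr fun x hx => ?_
    have h1 : lin θ x * conj (lin θ x) = 1 := by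
      rw [conj_lin, lin_apply _ hx, lin_apply _ hx, ← Units.val_mul, MonoidHom.inv_apply,
        mul_inv_cancel, Units.val_one]
    rw [lin_mul_hom, map_add, ← h.torus'.lin_sc θ hx, conj_lin (h.torus'.sc θ), mul_add, h1]
  rw [e1, ssum_add, ssum_lin hsc, ssum_const, mul_one, add_zero]
  exact inv_mul_cancel₀ Core.card_ne_zero_complex

theorem isIrr_rho' (g : Gen h b θ n) (hμ : ∃ v : U, μ v ≠ 1) :
    IsIrrCharacter C (rho' h μ θ) := by
  have hε' : -ε = 1 ∨ -ε = -1 := by
    rcases h.eps with h1 | h1 <;> omega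
  refine isIrr_of_pos (isGeneralized_smul_sign hε'
    (h.torus'.isGeneralized_R h.base (isGeneralized_lin θ))) (rho'_self g hμ) (d := q - ε) ?_ ?_
  · have := h.one_lt_q
    rcases h.eps with h1 | h1 <;> omega
  · show rho' h μ θ 1 = _
    rw [rho'_one]
    push_cast
    ring

/-- `R_T(b) = b R_T(1)`. -/
theorem R_bF (hD : DetHyp q ε T T' U s s' u 2 b) (hμ : ∃ v : U, μ v ≠ 1) (x : C) :
    Torus.R T h.base μ (bF b) x = bF b x * Torus.R T h.base μ (fun _ => 1) x := by
  have hne : -ε ≠ ε := by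
    rcases h.eps with h1 | h1 <;> omega
  obtain ⟨g, hg⟩ := h.exhaust x
  rw [← Torus.R_isClassFunction h.base _ x g, ← Torus.R_isClassFunction h.base (fun _ => 1) x g,
    ← bF_class b x g]
  generalize g * x * g⁻¹ = y at hg
  have hZ : ∀ z ∈ Z, Torus.R T h.base μ (bF b) z = bF b z * Torus.R T h.base μ (fun _ => 1) z := by
    intro z hz
    rw [h.torus.R_Z h.base _ hz, h.torus.R_Z h.base _ hz]
    ring
  rcases hg with hy | hy | ⟨z, hz, v, hv, hy⟩
  · by_cases hyZ : y ∈ Z
    · exact hZ y hyZ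
    · rw [h.torus.R_T h.base _ hy hyZ, h.torus.R_T h.base _ hy hyZ, bF_class b y s]
      ring
  · by_cases hyZ : y ∈ Z
    · exact hZ y hyZ
    · rw [h.torus.R_T' h.torus' hne h.base _ hy hyZ, h.torus.R_T' h.torus' hne h.base _ hy hyZ,
        mul_zero]
  · subst hy
    by_cases hv1 : v = 1
    · rw [hv1, mul_one]
      exact hZ z hz
    · rw [h.torus.R_ZU h.base hμ _ hz hv hv1, h.torus.R_ZU h.base hμ _ hz hv hv1, mul_one]
      unfold bF
      rw [map_mul, hD.b_U v hv, mul_one]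

/-- `ε St = R_T(1) - 1`. -/
theorem eps_St (h : CHyp t q ε Z T T' U s s' u) (μ : U →* ℂˣ) (x : C) :
    (ε : ℂ) * St h μ x = Torus.R T h.base μ (fun _ => 1) x - 1 := by
  unfold St
  linear_combination (Torus.R T h.base μ (fun _ => 1) x - 1) * eps_sq h

theorem u_notMem_Z (c : Chi h b χ) : u ∉ Z := by
  intro h1
  have h2 := chi_Z c h1
  have h3 := (lin_u_mul c (x := 1) (one_mem T)).2
  rw [mul_one, mul_one, mul_inv_cancel, lin_one] at h3
  rw [h3, c.lin_u] at h2
  norm_num at h2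

theorem St_u (c : Chi h b χ) (μ : U →* ℂˣ) : St h μ u = ε := by
  unfold St
  rw [h.torus.R_T h.base _ h.u_mem (u_notMem_Z c)]
  ring

theorem bF_u (hD : DetHyp q ε T T' U s s' u 2 b) : bF b u = -1 := by
  unfold bF
  rw [hD.b_u, Units.val_neg, Units.val_one]

theorem bSt_u (c : Chi h b χ) (hD : DetHyp q ε T T' U s s' u 2 b) (μ : U →* ℂˣ) :
    bSt h b μ u = -ε := by
  unfold bSt
  rw [bF_u hD, St_u c μ]
  ring

theorem bF_ne_one (hD : DetHyp q ε T T' U s s' u 2 b) : bF b ≠ 1 := by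
  intro h1
  have h2 := congrFun h1 u
  rw [bF_u hD, Pi.one_apply] at h2
  norm_num at h2

theorem St_ne_bSt (c : Chi h b χ) (hD : DetHyp q ε T T' U s s' u 2 b) (μ : U →* ℂˣ) :
    St h μ ≠ bSt h b μ := by
  intro h1
  have h2 := congrFun h1 u
  rw [St_u c, bSt_u c hD] at h2
  have h3 := eps_sq h
  have h4 : (ε : ℂ) = 0 := by linear_combination h2 / 2
  rw [h4] at h3
  norm_num at h3

end Irr

section Final

variable {C : Type*} [Group C] [Fintype C] {t : C} {q : ℕ} {ε : ℤ} {Z T T' U : Subgroup C}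
  {s s' u : C} {h : CHyp t q ε Z T T' U s s' u} {b : C →* ℂˣ} {θ : T' →* ℂˣ} {n : ℕ} {μ : U →* ℂˣ}
  {χ : T →* ℂˣ} {H : Type*} [Group H] [Fintype H] {π : H →* C}

/-- The values of the class function `X` of `H` on the elements having `t` as a power come from
`C`. -/
theorem val_pavg (hπ : Function.Surjective π) {X : H → ℂ} (hX : IsClassFunction H X) {k : ℤ}
    (hv : ∀ y : H, t ∈ Subgroup.zpowers (π y) →
      X y = (k - 1) + Torus.R T h.base μ (fun _ => 1) (π y)) : Val h μ k (pavg π X) where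
  cls := pavg_isClassFunction hπ hX
  val x hx := pavg_of_const hπ fun y hy => by rw [hv y (by rwa [hy]), hy]

theorem classInner_comb {f g : C → ℂ} {a : ℂ} (X : H → ℂ) :
    classInner (fun y => (f (π y) + a * g (π y))) X =
      classInner (fun y => f (π y)) X + a * classInner (fun y => g (π y)) X := by
  have e1 : (fun y : H => (f (π y) + a * g (π y))) =
      (fun y => f (π y)) + a • (fun y => g (π y)) := rfl
  rw [e1, Core.classInner_add_left, Core.classInner_smul_left]

/-- The relations (R1), (R2), (R3). `a` is the average of `X` over the elements above `u T_odd`. -/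
theorem relations (c : Chi h b χ) (g : Gen h b θ n) (hD : DetHyp q ε T T' U s s' u 2 b)
    (hμ : ∃ v : U, μ v ≠ 1) (hπ : Function.Surjective π) {X : H → ℂ}
    (hX : IsClassFunction H X) {k : ℤ}
    (hv : ∀ y : H, t ∈ Subgroup.zpowers (π y) →
      X y = (k - 1) + Torus.R T h.base μ (fun _ => 1) (π y)) {a : ℝ}
    (ha : avgU s χ (pavg π X) = a) :
    (classInner (fun _ => 1) X + ε * classInner (fun y => St h μ (π y)) X -
      ε * classInner (fun y => rho h μ χ (π y)) X = (k + 1 + a) / 2) ∧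
    (classInner (fun y => bF b (π y)) X + ε * classInner (fun y => bSt h b μ (π y)) X -
      ε * classInner (fun y => rho h μ χ (π y)) X = (k + 1 - a) / 2) ∧
    (classInner (fun _ => 1) X - ε * classInner (fun y => St h μ (π y)) X +
      ε * classInner (fun y => rho' h μ θ (π y)) X = k - 1) := by
  have hval := val_pavg (h := h) (μ := μ) hπ hX hv
  have hε := eps_sq h
  refine ⟨?_, ?_, ?_⟩
  · have h1 := rel_one c hD hμ hval
    rw [ha, Complex.conj_ofReal, ← classInner_pavg hπ] at h1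
    rw [← h1]
    have e1 : (fun y => Torus.R T h.base μ (fun x => 1 - lin χ x) (π y)) =
        fun y => ((fun _ => 1) (π y) + (ε : ℂ) * (fun x => St h μ x - rho h μ χ x) (π y)) := by
      funext y
      rw [Torus.R_sub]
      unfold St rho
      linear_combination (-(Torus.R T h.base μ (fun _ => 1) (π y)) + 1 +
        Torus.R T h.base μ (lin χ) (π y)) * hε
    rw [e1, classInner_comb (π := π) (f := fun _ => 1) (g := fun x => St h μ x - rho h μ χ x)]
    have e2 : (fun y => (fun x => St h μ x - rho h μ χ x) (π y)) =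
      (fun y => St h μ (π y)) - (fun y => rho h μ χ (π y)) := rfl
    rw [e2, Core.classInner_sub_left]
    ring
  · have h1 := rel_two c hD hμ hval
    rw [ha, Complex.conj_ofReal, ← classInner_pavg hπ] at h1
    rw [← h1]
    have e1 : (fun y => Torus.R T h.base μ (fun x => bF b x - lin χ x) (π y)) =
        fun y => (bF b (π y) + (ε : ℂ) * (fun x => bSt h b μ x - rho h μ χ x) (π y)) := by
      funext y
      rw [Torus.R_sub]
      have h2 := R_bF (h := h) hD hμ (π y)
      unfold bSt St rho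
      linear_combination (-(bF b (π y)) * (Torus.R T h.base μ (fun _ => 1) (π y) - 1) +
        Torus.R T h.base μ (lin χ) (π y)) * hε + h2
    rw [e1, classInner_comb (π := π) (f := bF b) (g := fun x => bSt h b μ x - rho h μ χ x)]
    have e2 : (fun y => (fun x => bSt h b μ x - rho h μ χ x) (π y)) =
      (fun y => bSt h b μ (π y)) - (fun y => rho h μ χ (π y)) := rfl
    rw [e2, Core.classInner_sub_left]
    ring
  · have h1 := rel_three g hμ hval
    rw [← classInner_pavg hπ] at h1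
    rw [← h1]
    have e1 : (fun y => Torus.R T' h.base μ (fun x => 1 - lin θ x) (π y)) =
        fun y => ((fun _ => 1) (π y) + (ε : ℂ) * (fun x => rho' h μ θ x - St h μ x) (π y)) := by
      funext y
      rw [Torus.R_sub]
      have h2 := h.two_one hμ (π y)
      unfold St rho'
      push_cast
      linear_combination (Torus.R T h.base μ (fun _ => 1) (π y) - 1 +
        Torus.R T' h.base μ (lin θ) (π y)) * hε - 2 * h2
    rw [e1, classInner_comb (π := π) (f := fun _ => 1) (g := fun x => rho' h μ θ x - St h μ x)]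
    have e2 : (fun y => (fun x => rho' h μ θ x - St h μ x) (π y)) =
      (fun y => rho' h μ θ (π y)) - (fun y => St h μ (π y)) := rfl
    rw [e2, Core.classInner_sub_left]
    ring

/-- The relations, the values of `X` being given in the form `k + ε St`, the average over
`σ W` being `k + 1 + 2 ε`. `W` is the subgroup of the elements above `T_odd` commuting with the
involution `σ` above `u`. -/
theorem relations_W (c : Chi h b χ) (g : Gen h b θ n) (hD : DetHyp q ε T T' U s s' u 2 b)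
    (hμ : ∃ v : U, μ v ≠ 1) (hπ : Function.Surjective π) (hker : Odd (Nat.card π.ker))
    {X : H → ℂ} (hX : IsClassFunction H X) {k : ℤ}
    (hv : ∀ y : H, t ∈ Subgroup.zpowers (π y) → X y = k + ε * St h μ (π y))
    {σ : H} (hσ : σ * σ = 1) (hσu : π σ = u) (W : Subgroup H) [Fintype W]
    (hW : ∀ w, w ∈ W ↔ π w ∈ T ∧ Odd (orderOf (π w)) ∧ Commute σ w)
    (ha : (Nat.card W : ℂ)⁻¹ * ∑ w : W, X (σ * w) = k + 1 + 2 * ε) :
    (classInner (fun _ => 1) X + ε * classInner (fun y => St h μ (π y)) X -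
      ε * classInner (fun y => rho h μ χ (π y)) X = k + 1 + ε) ∧
    (classInner (fun y => bF b (π y)) X + ε * classInner (fun y => bSt h b μ (π y)) X -
      ε * classInner (fun y => rho h μ χ (π y)) X = -ε) ∧
    (classInner (fun _ => 1) X - ε * classInner (fun y => St h μ (π y)) X +
      ε * classInner (fun y => rho' h μ θ (π y)) X = k - 1) := by
  have h1 : avgU s χ (pavg π X) = ((k + 1 + 2 * ε : ℝ) : ℂ) := by
    rw [avgU_eq c hD hπ hker hX hσ hσu W hW, ha]
    push_cast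
    ring
  obtain ⟨h2, h3, h4⟩ := relations c g hD hμ hπ hX
    (fun y hy => by rw [hv y hy, eps_St]; ring) h1
  refine ⟨?_, ?_, h4⟩
  · rw [h2]
    push_cast
    ring
  · rw [h3]
    push_cast
    ring

/-- Existence of the characters. -/
theorem exists_data (h : CHyp t q ε Z T T' U s s' u) (hD : DetHyp q ε T T' U s s' u 2 b) :
    ∃ (μ : U →* ℂˣ) (χ : T →* ℂˣ) (θ : T' →* ℂˣ) (n : ℕ), (∃ v : U, μ v ≠ 1) ∧ Chi h b χ ∧
      Gen h b θ n := by
  obtain ⟨μ, hμ⟩ := h.base.exists_mu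
  obtain ⟨χ, hχ⟩ := exists_chi h hD
  obtain ⟨θ, n, hg⟩ := exists_gen h hD
  exact ⟨μ, χ, θ, n, hμ, hχ, hg⟩

end Final

end Cfsg.Agent.Classification.QDW.RelH
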