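import Mathlib
import Cfsg.Agent.Classification.QDW.InstGamma
import Cfsg.Agent.Classification.QDW.LowerBound
import Cfsg.Agent.Classification.QDW.RelH

/-!
# The lower bound for a character with the given values

`Γ` with `GHyp`. `Inputs`: the hypotheses of `LowerBound.bound` on the four special characters and
the relations (R1), (R2), (R3). `exists_inputs`: they hold if `Y = σ (c + ε St)` on the elements
having `t` as a power and the average over `u W` is `σ (c + 1 + 2 ε)`. `bound`: the lower bound.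
-/

set_option autoImplicit false
set_option linter.unusedSectionVars false

namespace Cfsg.Agent.Classification.QDW.InstLB

open Cfsg Cfsg.Agent.Characters Cfsg.Agent.Classification.InvCent
open Cfsg.Agent.Classification.QDW.InstC Cfsg.Agent.Classification.QDW.InstGamma
open Cfsg.Agent.Classification.QDW.RelH Cfsg.Agent.Classification.QDW.DegBound
open Cfsg.Agent.Classification.QDW.LowerBound Cfsg.Agent.Classification.QDW.Coef
open Cfsg.Agent.Classification.QDW.Inertia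
open scoped ComplexConjugate

universe u v

/-- The hypotheses of `LowerBound.bound` on the special characters and the multiplicities. -/
structure Inputs {Γ : Type u} [Group Γ] [Fintype Γ] {W : Type v} [Group W] [Fintype W] (q : ℕ)
    (ε : ℤ) (e : W →* Γ) (t u : Γ) (Y : Γ → ℂ) (σ c : ℤ) (φ₁ φs φSt φsSt : Γ → ℂ)
    (n1 ns nSt nsSt nρ nρ' : ℕ) : Prop where
  i1 : IsIrrCharacter Γ φ₁
  is : IsIrrCharacter Γ φs
  iSt : IsIrrCharacter Γ φSt
  isSt : IsIrrCharacter Γ φsSt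
  hne1 : φs ≠ φ₁
  hne2 : φsSt ≠ φSt
  s1 : Special e t u φ₁
  ss : Special e t u φs
  sSt : Special e t u φSt
  ssSt : Special e t u φsSt
  d1 : φ₁ 1 = 1
  ds : φs 1 = 1
  dSt : φSt 1 = q
  dsSt : φsSt 1 = q
  e1 : classInner Y φ₁ = n1
  es : classInner Y φs = ns
  eSt : classInner Y φSt = nSt
  esSt : classInner Y φsSt = nsSt
  R1 : σ * ((n1 : ℤ) + ε * nSt - ε * nρ) = c + 1 + ε
  R2 : σ * ((ns : ℤ) + ε * nsSt - ε * nρ) = -ε
  R3 : σ * ((n1 : ℤ) - ε * nSt + ε * nρ') = c - 1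

section General

variable {Γ : Type*} [Group Γ] [Fintype Γ]

theorem exists_nat_inner {Y φ : Γ → ℂ} (hY : IsCharacter Γ Y) (hφ : IsCharacter Γ φ) :
    ∃ n : ℕ, classInner Y φ = n ∧ classInner φ Y = n := by
  obtain ⟨n, hn⟩ := Core.classInner_isNat hY hφ
  refine ⟨n, hn, ?_⟩
  rw [← Core.classInner_conj_symm, hn, Complex.conj_natCast]

theorem inner_smul_int (φ Y : Γ → ℂ) (σ : ℤ) :
    classInner φ ((σ : ℂ) • Y) = σ * classInner φ Y := by
  rw [Core.classInner_smul_right, map_intCast]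

end General

section Main

variable {C : Type*} [Group C] [Fintype C] {z : C} {q : ℕ} {ε : ℤ} {Z T T' U : Subgroup C}
  {s s' u₀ : C} {b : C →* ℂˣ} {μ : U →* ℂˣ} {Γ : Type u} [Group Γ] [Fintype Γ] {π : Γ →* C}
  {t u w : Γ}

theorem not_mem_Z (hD : CData z q ε Z T T' U s s' u₀ b) (hG : GHyp π z u₀ s t u w)
    (y : Wg hD.chyp π u) : π (u * y) ∈ T ∧ π (u * y) ∉ Z := by
  have h := hD.chyp
  rw [map_mul, hG.map_u]
  refine ⟨mul_mem h.u_mem y.2.1, fun h1 => ?_⟩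
  have h2 : (u₀ * π (y : Γ)) ^ orderOf (π (y : Γ)) ∈ Z := pow_mem h1 _
  have h3 : Commute u₀ (π (y : Γ)) := h.T_comm _ h.u_mem _ y.2.1
  have hu2 : u₀ * u₀ = 1 := by rw [← hG.map_u, ← map_mul, hG.uu, map_one]
  rw [h3.mul_pow, pow_orderOf_eq_one, mul_one, pow_odd_of_sq hu2 y.2.2.1] at h2
  rcases hD.mem_Z.1 h2 with h4 | h4
  · have := h.orderOf_u
    rw [h4, orderOf_one] at this
    omega
  · exact h.u_ne h4

theorem bF_val (hD : CData z q ε Z T T' U s s' u₀ b) (hG : GHyp π z u₀ s t u w)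
    (y : Wg hD.chyp π u) : bF b (π (u * y)) = -1 := by
  unfold bF
  have h1 : b (π (y : Γ)) = 1 := by
    have h2 : b (π (y : Γ)) ^ orderOf (π (y : Γ)) = 1 := by
      rw [← map_pow, pow_orderOf_eq_one, map_one]
    have h3 := hD.b_sq (π (y : Γ))
    obtain ⟨k, hk⟩ := y.2.2.1
    rwa [hk, pow_succ, pow_mul, sq, h3, one_pow, one_mul] at h2
  rw [map_mul, hG.map_u, map_mul, h1, mul_one, hD.det.b_u, Units.val_neg, Units.val_one]

theorem St_val (hD : CData z q ε Z T T' U s s' u₀ b) (hG : GHyp π z u₀ s t u w)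
    (y : Wg hD.chyp π u) : St hD.chyp μ (π (u * y)) = ε := by
  obtain ⟨h1, h2⟩ := not_mem_Z hD hG y
  unfold St
  rw [hD.chyp.torus.R_T hD.chyp.base _ h1 h2]
  ring

theorem coef_const {W : Type*} [Group W] [Fintype W] {e : W → Γ} {φ : Γ → ℂ} {a : ℂ}
    (h : ∀ y, φ (e y) = a) : coef e (fun _ => (1 : ℂ)) φ = a := by
  have h1 : (fun y => φ (e y)) = a • (1 : W → ℂ) := by
    funext y
    rw [h, Pi.smul_apply, Pi.one_apply, smul_eq_mul, mul_one]
  have h2 : (fun _ : W => (1 : ℂ)) = 1 := rfl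
  rw [coef_apply, h1, h2, Core.classInner_smul_left, Core.classInner_irr_self Core.isIrr_one,
    mul_one]

/-- **The inputs of the lower bound.** -/
theorem exists_inputs (hD : CData z q ε Z T T' U s s' u₀ b) (hG : GHyp π z u₀ s t u w)
    (hμ : ∃ v : U, μ v ≠ 1) {Y : Γ → ℂ} (hY : IsCharacter Γ Y) {σ c : ℤ}
    (hσ : σ = 1 ∨ σ = -1)
    (hv : ∀ y, z ∈ Subgroup.zpowers (π y) → Y y = σ * (c + ε * St hD.chyp μ (π y)))
    [Fintype (Wg hD.chyp π u)]
    (ha : (Nat.card (Wg hD.chyp π u) : ℂ)⁻¹ * ∑ y : Wg hD.chyp π u, Y (u * y) =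
      σ * (c + 1 + 2 * ε)) :
    ∃ n1 ns nSt nsSt nρ nρ' : ℕ, Inputs q ε (Wg hD.chyp π u).subtype t u Y σ c (fun _ => 1)
      (fun y => bF b (π y)) (fun y => St hD.chyp μ (π y)) (fun y => bSt hD.chyp b μ (π y))
      n1 ns nSt nsSt nρ nρ' := by
  classical
  have h := hD.chyp
  obtain ⟨χ, cχ⟩ := exists_chi h hD.det
  obtain ⟨θ, n, g⟩ := exists_gen h hD.det
  have hσσ : (σ : ℂ) * σ = 1 := by
    rcases hσ with h1 | h1 <;> rw [h1] <;> norm_num
  have hX : IsClassFunction Γ ((σ : ℂ) • Y) := fun x y => by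
    rw [Pi.smul_apply, Pi.smul_apply, Core.isCharacter_isClassFunction hY x y]
  obtain ⟨r1, r2, r3⟩ := relations_W (X := (σ : ℂ) • Y) (k := c) cχ g hD.det hμ hG.surj hG.oddK hX
    (fun y hy => by
      rw [Pi.smul_apply, hv y hy, smul_eq_mul]
      linear_combination (c + ε * St hD.chyp μ (π y)) * hσσ) hG.uu hG.map_u (Wg h π u)
    (fun _ => Iff.rfl)
    (by
      have h1 : ∀ y : Wg h π u, ((σ : ℂ) • Y) (u * y) = σ * Y (u * y) := fun _ => rfl
      rw [Finset.sum_congr rfl fun y _ => h1 y, ← Finset.mul_sum]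
      linear_combination (σ : ℂ) * ha + (c + 1 + 2 * ε) * hσσ)
  -- the characters
  have i1 : IsIrrCharacter Γ (fun _ : Γ => (1 : ℂ)) := Core.isIrr_one
  have is : IsIrrCharacter Γ (fun y => bF b (π y)) :=
    Core.isIrr_comp π hG.surj (Linear.isIrrCharacter_hom b)
  have iSt : IsIrrCharacter Γ (fun y => St h μ (π y)) := Core.isIrr_comp π hG.surj (isIrr_St h hμ)
  have isSt : IsIrrCharacter Γ (fun y => bSt h b μ (π y)) :=
    Core.isIrr_comp π hG.surj (isIrr_bSt h b hμ)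
  have iρ : IsIrrCharacter Γ (fun y => rho h μ χ (π y)) :=
    Core.isIrr_comp π hG.surj (isIrr_rho cχ hD.det hμ)
  have iρ' : IsIrrCharacter Γ (fun y => rho' h μ θ (π y)) :=
    Core.isIrr_comp π hG.surj (isIrr_rho' g hμ)
  obtain ⟨n1, e1, e1'⟩ := exists_nat_inner hY (Core.isIrr_isCharacter i1)
  obtain ⟨ns, es, es'⟩ := exists_nat_inner hY (Core.isIrr_isCharacter is)
  obtain ⟨nSt, eSt, eSt'⟩ := exists_nat_inner hY (Core.isIrr_isCharacter iSt)
  obtain ⟨nsSt, esSt, esSt'⟩ := exists_nat_inner hY (Core.isIrr_isCharacter isSt)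
  obtain ⟨nρ, eρ, eρ'⟩ := exists_nat_inner hY (Core.isIrr_isCharacter iρ)
  obtain ⟨nρ', eρ2, eρ2'⟩ := exists_nat_inner hY (Core.isIrr_isCharacter iρ')
  rw [inner_smul_int, inner_smul_int, inner_smul_int] at r1 r2 r3
  rw [e1', eSt', eρ'] at r1
  rw [es', esSt', eρ'] at r2
  rw [e1', eSt', eρ2'] at r3
  have hε0 : (ε : ℂ) ≠ 0 := by
    intro h1
    have h2 := eps_sq h
    rw [h1] at h2
    norm_num at h2
  have hzt : ∀ f : C → ℂ, f z = f 1 → f (π t) = f (π 1) := by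
    intro f hf
    rw [hG.map_t, map_one, hf]
  refine ⟨n1, ns, nSt, nsSt, nρ, nρ', i1, is, iSt, isSt, ?_, ?_, ⟨rfl, ?_⟩, ⟨hzt _ ?_, ?_⟩,
    ⟨hzt _ ?_, ?_⟩, ⟨hzt _ ?_, ?_⟩, rfl, ?_, ?_, ?_, e1, es, eSt, esSt, ?_, ?_, ?_⟩
  · intro h1
    have h2 := congrFun h1 u
    have h3 := bF_u hD.det
    rw [← hG.map_u] at h3
    change bF b (π u) = 1 at h2
    rw [h3] at h2
    norm_num at h2
  · intro h1
    have h2 := congrFun h1 u
    change bSt h b μ (π u) = St h μ (π u) at h2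
    rw [hG.map_u, bSt_u cχ hD.det, St_u cχ] at h2
    exact hε0 (by linear_combination -h2 / 2)
  · have h1 : coef (fun y : Wg h π u => u * (Wg h π u).subtype y) (fun _ => (1 : ℂ))
        (fun _ : Γ => (1 : ℂ)) = 1 := coef_const fun _ => rfl
    rw [h1]
    exact one_ne_zero
  · unfold bF
    rw [hD.b_z, map_one]
  · have h1 : coef (fun y : Wg h π u => u * (Wg h π u).subtype y) (fun _ => (1 : ℂ))
        (fun y => bF b (π y)) = -1 := coef_const fun y => bF_val hD hG y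
    rw [h1]
    norm_num
  · rw [St_Z h μ h.t_mem, St_one]
  · have h1 : coef (fun y : Wg h π u => u * (Wg h π u).subtype y) (fun _ => (1 : ℂ))
        (fun y => St h μ (π y)) = ε := coef_const fun y => St_val hD hG y
    rw [h1]
    exact hε0
  · unfold bSt bF
    rw [hD.b_z, map_one, St_Z h μ h.t_mem, St_one]
  · have h1 : coef (fun y : Wg h π u => u * (Wg h π u).subtype y) (fun _ => (1 : ℂ))
        (fun y => bSt h b μ (π y)) = -ε := coef_const fun y => by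
      show bF b (π (u * y)) * St h μ (π (u * y)) = _
      rw [bF_val hD hG y, St_val hD hG y]
      ring
    rw [h1]
    exact neg_ne_zero.2 hε0
  · show bF b (π 1) = 1
    rw [map_one, b_one]
  · show St h μ (π 1) = q
    rw [map_one, St_one]
  · show bSt h b μ (π 1) = q
    rw [map_one, bSt_one]
  · have h1 : ((σ * ((n1 : ℤ) + ε * nSt - ε * nρ) : ℤ) : ℂ) = ((c + 1 + ε : ℤ) : ℂ) := by
      push_cast
      linear_combination r1
    exact_mod_cast h1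
  · have h1 : ((σ * ((ns : ℤ) + ε * nsSt - ε * nρ) : ℤ) : ℂ) = ((-ε : ℤ) : ℂ) := by
      push_cast
      linear_combination r2
    exact_mod_cast h1
  · have h1 : ((σ * ((n1 : ℤ) - ε * nSt + ε * nρ') : ℤ) : ℂ) = ((c - 1 : ℤ) : ℂ) := by
      push_cast
      linear_combination r3
    exact_mod_cast h1

open scoped Classical in
/-- The average over `u W`. -/
theorem average {W : Type*} [Group W] [Fintype W] {f : W → ℂ} {A : Subgroup W} {m : ℕ} {σ c : ℤ}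
    (hA : A.index = m) (h1 : ∀ y ∈ A, f y = σ * (c + 1 + 2 * ε * m))
    (h2 : ∀ y ∉ A, f y = σ * (c + 1)) :
    (Nat.card W : ℂ)⁻¹ * ∑ y, f y = σ * (c + 1 + 2 * ε) := by
  have h3 : ∀ y, f y = σ * (c + 1) + (if y ∈ A then (σ : ℂ) * (2 * ε * m) else 0) := by
    intro y
    by_cases hy : y ∈ A
    · rw [h1 y hy, if_pos hy]
      ring
    · rw [h2 y hy, if_neg hy, add_zero]
  rw [Finset.sum_congr rfl fun y _ => h3 y, Finset.sum_add_distrib, Finset.sum_const,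
    ← Finset.sum_filter, Finset.sum_const, nsmul_eq_mul, nsmul_eq_mul, Finset.card_univ,
    ← Nat.card_eq_fintype_card]
  have h4 : ((Finset.univ.filter fun y => y ∈ A).card : ℂ) * m = Nat.card W := by
    have h5 : (Finset.univ.filter fun y => y ∈ A).card = Nat.card A := by
      rw [Nat.card_eq_fintype_card, Fintype.card_subtype]
    rw [h5, ← hA, ← Nat.cast_mul, A.card_mul_index]
  have h5 : (Nat.card W : ℂ) ≠ 0 := Core.card_ne_zero_complex
  field_simp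
  linear_combination (σ : ℂ) * (2 * ε) * h4

/-- **The lower bound**, with the case of equality. -/
theorem bound (hD : CData z q ε Z T T' U s s' u₀ b) (hG : GHyp π z u₀ s t u w) (hq : 5 ≤ q)
    (hμ : ∃ v : U, μ v ≠ 1) {Y : Γ → ℂ} {σ c : ℤ} {m : ℕ} [Fintype (Wg hD.chyp π u)]
    {A₁ A₂ : Subgroup (Wg hD.chyp π u)}
    (hY : Vals q ε (Wg hD.chyp π u).subtype (aW hG hD.chyp) t u Y σ c m A₁ A₂)
    (hv : ∀ y, z ∈ Subgroup.zpowers (π y) → Y y = σ * (c + ε * St hD.chyp μ (π y)))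
    (hc : c = 0 ∨ c = 1) {N : ℕ} (hN : Y 1 = N) :
    (q : ℤ) ^ 2 - 1 ≤ N - σ * (c + ε * q) ∧
      ((N : ℤ) - σ * (c + ε * q) = (q : ℤ) ^ 2 - 1 → ∀ ψ : Γ → ℂ, IsIrrCharacter Γ ψ →
        classInner Y ψ ≠ 0 → ψ t = ψ 1 → (ψ ≠ fun _ => 1) → (ψ ≠ fun y => bF b (π y)) →
          (ψ ≠ fun y => St hD.chyp μ (π y)) → (ψ ≠ fun y => bSt hD.chyp b μ (π y)) →
          ψ 1 = (((q : ℤ) + ε : ℤ) : ℂ) ∧ ∃ lam χ : π.ker → ℂ, IsIrrCharacter π.ker lam ∧
      IsCharacter π.ker χ ∧ (∀ k : π.ker, ψ k = lam k + χ k) ∧ lam 1 = 1 ∧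
      (stab π.ker lam = ⊤ ∨ (ε = 1 ∧ (stab π.ker lam).index = q + 1))) := by
  obtain ⟨B, K₁, X, T₁, hLB⟩ := lbHyp hD hG hq
  obtain ⟨n1, ns, nSt, nsSt, nρ, nρ', I⟩ := exists_inputs hD hG hμ hY.char hY.sig hv
    (average (f := fun y : Wg hD.chyp π u => Y (u * y)) hY.index₁ hY.val₁ hY.val₁')
  exact LowerBound.bound hLB hY hc I.i1 I.is I.iSt I.isSt I.hne1 I.hne2 I.s1 I.ss I.sSt I.ssSt
    I.d1 I.ds I.dSt I.dsSt I.e1 I.es I.eSt I.esSt I.R1 I.R2 I.R3 hN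

/-- **The lower bound**, with the case of equality and the stabilizer. -/
theorem bound' (hD : CData z q ε Z T T' U s s' u₀ b) (hG : GHyp π z u₀ s t u w) (hq : 5 ≤ q)
    (hμ : ∃ v : U, μ v ≠ 1) {Y : Γ → ℂ} {σ c : ℤ} {m : ℕ} [Fintype (Wg hD.chyp π u)]
    {A₁ A₂ : Subgroup (Wg hD.chyp π u)}
    (hY : Vals q ε (Wg hD.chyp π u).subtype (aW hG hD.chyp) t u Y σ c m A₁ A₂)
    (hv : ∀ y, z ∈ Subgroup.zpowers (π y) → Y y = σ * (c + ε * St hD.chyp μ (π y)))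
    (hc : c = 0 ∨ c = 1) {N : ℕ} (hN : Y 1 = N) :
    (q : ℤ) ^ 2 - 1 ≤ N - σ * (c + ε * q) ∧
      ((N : ℤ) - σ * (c + ε * q) = (q : ℤ) ^ 2 - 1 → ∀ ψ : Γ → ℂ, IsIrrCharacter Γ ψ →
        classInner Y ψ ≠ 0 → ψ t = ψ 1 → (ψ ≠ fun _ => 1) → (ψ ≠ fun y => bF b (π y)) →
          (ψ ≠ fun y => St hD.chyp μ (π y)) → (ψ ≠ fun y => bSt hD.chyp b μ (π y)) →
          ψ 1 = (((q : ℤ) + ε : ℤ) : ℂ) ∧ ∃ lam χ : π.ker → ℂ, IsIrrCharacter π.ker lam ∧
      IsCharacter π.ker χ ∧ (∀ k : π.ker, ψ k = lam k + χ k) ∧ lam 1 = 1 ∧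
      (stab π.ker lam = ⊤ ∨ (ε = 1 ∧ (stab π.ker lam).index = q + 1 ∧ u ∈ stab π.ker lam ∧
        ∀ y : Wg hD.chyp π u, (y : Γ) ∈ stab π.ker lam))) := by
  obtain ⟨B, K₁, X, T₁, hLB⟩ := lbHyp hD hG hq
  obtain ⟨n1, ns, nSt, nsSt, nρ, nρ', I⟩ := exists_inputs hD hG hμ hY.char hY.sig hv
    (average (f := fun y : Wg hD.chyp π u => Y (u * y)) hY.index₁ hY.val₁ hY.val₁')
  exact LowerBound.bound' hLB hY hc I.i1 I.is I.iSt I.isSt I.hne1 I.hne2 I.s1 I.ss I.sSt I.ssSt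
    I.d1 I.ds I.dSt I.dsSt I.e1 I.es I.eSt I.esSt I.R1 I.R2 I.R3 hN

end Main

end Cfsg.Agent.Classification.QDW.InstLB
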