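import Mathlib
import Cfsg.Agent.Classification.QDW.InstLB
import Cfsg.Agent.Classification.RTwo.General

/-!
# The values on the cosets `u W`, `t u W`

`G` finite with one class of involutions, `C(t) → C` onto with kernel of odd order. `exists_ghyp`:
the elements `u, w` of `C(t)`; `exists_swap`: an element of `G` interchanging `t` and `u`. `KK π x` is
the conjugate of the kernel belonging to the involution `x`. `vals`: the hypothesis `Vals` of the
lower bound, for a class function of `G` with values `σ (c + ε St)` on the elements of `C(t)` having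
`t` as a power.
-/

set_option autoImplicit false
set_option linter.unusedSectionVars false

namespace Cfsg.Agent.Classification.QDW.InstG

open Cfsg Cfsg.Agent.Characters Cfsg.Agent.Classification.InvCent
open Cfsg.Agent.Classification.QDW.InstC Cfsg.Agent.Classification.QDW.InstGamma
open Cfsg.Agent.Classification.QDW.InstLB
open Cfsg.Agent.Classification.QDW.RelH Cfsg.Agent.Classification.QDW.DegBound
open Cfsg.Agent.Classification.QDW.LowerBound
open Cfsg.Agent.Classification.RTwo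

universe u v

section Lift

variable {C : Type*} [Group C] {z : C} {q : ℕ} {ε : ℤ} {Z T T' U : Subgroup C}
  {s s' u₀ : C} {Γ : Type*} [Group Γ] {π : Γ →* C} {t u w : Γ}

/-- An involution is the image of an involution. -/
theorem exists_lift (hπ : Function.Surjective π) (hodd : Odd (Nat.card π.ker)) {x : C}
    (hx : x * x = 1) : ∃ y : Γ, π y = x ∧ y * y = 1 := by
  obtain ⟨g, rfl⟩ := hπ x
  have h1 : g * g ∈ π.ker := by rw [MonoidHom.mem_ker, map_mul, hx]
  have h2 : (g * g) ^ Nat.card π.ker = 1 :=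
    congrArg Subtype.val (pow_card_eq_one' (x := (⟨g * g, h1⟩ : π.ker)))
  refine ⟨g ^ Nat.card π.ker, ?_, ?_⟩
  · rw [map_pow, InstGamma.pow_odd_of_sq hx hodd]
  · rw [← (Commute.refl g).mul_pow, h2]

theorem exists_uw (h : CHyp z q ε Z T T' U s s' u₀) (hπ : Function.Surjective π)
    (hodd : Odd (Nat.card π.ker)) (htt : t * t = 1) (hc : ∀ x, Commute t x) (ht : π t = z) :
    ∃ u w : Γ, GHyp π z u₀ s t u w := by
  have hu2 : u₀ * u₀ = 1 := by
    have := pow_orderOf_eq_one u₀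
    rwa [h.orderOf_u, sq] at this
  obtain ⟨u, hu, huu⟩ := exists_lift hπ hodd hu2
  obtain ⟨w₀, hw₀⟩ := hπ s
  have htu : t * u * (t * u) = 1 := by
    calc t * u * (t * u) = t * (u * t) * u := by group
      _ = (t * t) * (u * u) := by rw [(hc u).symm.eq]; group
      _ = 1 := by rw [htt, huu, one_mul]
  obtain ⟨k, hk, hku⟩ := exists_conj_of_map hodd (x := w₀ * u * w₀⁻¹) (y := t * u)
    (by
      calc w₀ * u * w₀⁻¹ * (w₀ * u * w₀⁻¹) = w₀ * (u * u) * w₀⁻¹ := by group
        _ = 1 := by rw [huu]; group) htu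
    (by rw [map_mul, map_mul, map_inv, map_mul, hw₀, hu, ht, h.s_u])
  refine ⟨u, k * w₀, hπ, hodd, htt, hc, ht, huu, hu, ?_, ?_⟩
  · rw [← hku]; group
  · rw [map_mul, MonoidHom.mem_ker.1 hk, one_mul, hw₀]

end Lift

section Id

variable {C : Type*} [Group C] [Finite C] {z : C} {q : ℕ} {ε : ℤ} {Z T T' U : Subgroup C}
  {s s' u₀ : C} {b : C →* ℂˣ}

theorem ghyp_id (h : CHyp z q ε Z T T' U s s' u₀) : GHyp (MonoidHom.id C) z u₀ s z u₀ s where
  surj := Function.surjective_id
  oddK := by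
    have h1 : (MonoidHom.id C).ker = ⊥ := by
      rw [MonoidHom.ker_eq_bot_iff]
      exact fun _ _ h => h
    rw [h1, Subgroup.card_bot]
    exact odd_one
  tt := by
    have := pow_orderOf_eq_one z
    rwa [h.orderOf_t, sq] at this
  t_comm := fun x => (h.Z_central z h.t_mem x).symm
  map_t := rfl
  uu := by
    have := pow_orderOf_eq_one u₀
    rwa [h.orderOf_u, sq] at this
  map_u := rfl
  wu := h.s_u
  map_w := rfl

/-- The odd part of `T` has order `m = (q - ε) / 2`. -/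
theorem card_Todd (hD : CData z q ε Z T T' U s s' u₀ b) {m : ℕ} (hm : 2 * (m : ℤ) = q - ε) :
    Nat.card (Wg hD.chyp (MonoidHom.id C) u₀) = m := by
  have h := hD.chyp
  have h1 := (ghyp_id h).card_cent hD
  have h2 : Subgroup.centralizer ({u₀} : Set C) = T := by
    ext x
    rw [Subgroup.mem_centralizer_singleton_iff]
    constructor
    · intro hx
      refine h.cent_T u₀ h.u_mem (fun h2 => ?_) x hx
      rcases hD.mem_Z.1 h2 with h3 | h3
      · have := h.orderOf_u
        rw [h3, orderOf_one] at this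
        omega
      · exact h.u_ne h3
    · intro hx
      exact h.T_comm _ hx _ h.u_mem
  rw [h2] at h1
  have h3 := h.card_T
  rw [hD.card_Z, ← hm, h1] at h3
  push_cast at h3
  have h4 : ((Nat.card (Wg hD.chyp (MonoidHom.id C) u₀) : ℕ) : ℤ) = m := by linarith
  exact_mod_cast h4

end Id

section Gamma

variable {C : Type*} [Group C] [Fintype C] {z : C} {q : ℕ} {ε : ℤ} {Z T T' U : Subgroup C}
  {s s' u₀ : C} {b : C →* ℂˣ} {Γ : Type*} [Group Γ] [Finite Γ] {π : Γ →* C} {t u w : Γ}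

theorem mem_T_of_comm (hD : CData z q ε Z T T' U s s' u₀ b) (hG : GHyp π z u₀ s t u w) {x : Γ}
    (hx : Commute u x) : π x ∈ T := by
  have h := hD.chyp
  refine h.cent_T u₀ h.u_mem (fun h2 => ?_) _ ?_
  · rcases hD.mem_Z.1 h2 with h3 | h3
    · have := h.orderOf_u
      rw [h3, orderOf_one] at this
      omega
    · exact h.u_ne h3
  · rw [← hG.map_u, ← map_mul, ← map_mul, hx.eq]

theorem mem_Wg_iff (hD : CData z q ε Z T T' U s s' u₀ b) (hG : GHyp π z u₀ s t u w) {x : Γ} :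
    x ∈ Wg hD.chyp π u ↔ Commute u x ∧ Odd (orderOf x) := by
  constructor
  · intro hx
    refine ⟨hx.2.2, ?_⟩
    have h1 : orderOf (⟨x, hx⟩ : Wg hD.chyp π u) ∣ Nat.card (Wg hD.chyp π u) :=
      orderOf_dvd_natCard _
    rw [Subgroup.orderOf_mk] at h1
    exact (hG.odd_W hD.chyp).of_dvd_nat h1
  · rintro ⟨h1, h2⟩
    exact ⟨mem_T_of_comm hD hG h1, h2.of_dvd_nat (orderOf_map_dvd π x), h1⟩

/-- Every element of odd order of `T` is the image of an element of `W`. -/
theorem exists_W (hD : CData z q ε Z T T' U s s' u₀ b) (hG : GHyp π z u₀ s t u w) {y : C}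
    (hy : y ∈ Wg hD.chyp (MonoidHom.id C) u₀) : ∃ x ∈ Wg hD.chyp π u, π x = y := by
  obtain ⟨g, rfl⟩ := hG.surj y
  have hcu : π g * u₀ = u₀ * π g := hD.chyp.T_comm _ hy.1 _ hD.chyp.u_mem
  obtain ⟨k, hk, hku⟩ := exists_conj_of_map hG.oddK (x := g * u * g⁻¹) (y := u)
    (by
      calc g * u * g⁻¹ * (g * u * g⁻¹) = g * (u * u) * g⁻¹ := by group
        _ = 1 := by rw [hG.uu]; group) hG.uu
    (by rw [map_mul, map_mul, map_inv, hG.map_u, hcu]; group)
  have h3 : π (k * g) = π g := by rw [map_mul, MonoidHom.mem_ker.1 hk, one_mul]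
  refine ⟨k * g, ⟨by rw [h3]; exact hy.1, by rw [h3]; exact hy.2.1, ?_⟩, h3⟩
  show u * (k * g) = k * g * u
  calc u * (k * g) = (k * (g * u * g⁻¹) * k⁻¹) * (k * g) := by rw [hku]
    _ = k * g * u := by group

/-- The kernel of `π ∘ δ`. -/
def Aker (hD : CData z q ε Z T T' U s s' u₀ b) (π : Γ →* C) (u : Γ)
    (δ : Wg hD.chyp π u ≃* Wg hD.chyp π u) : Subgroup (Wg hD.chyp π u) :=
  ((π.comp (Wg hD.chyp π u).subtype).comp δ.toMonoidHom).ker

theorem mem_Aker {hD : CData z q ε Z T T' U s s' u₀ b}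
    {δ : Wg hD.chyp π u ≃* Wg hD.chyp π u} {x : Wg hD.chyp π u} :
    x ∈ Aker hD π u δ ↔ π (δ x : Wg hD.chyp π u) = 1 := Iff.rfl

theorem Aker_comm (hD : CData z q ε Z T T' U s s' u₀ b)
    (δ : Wg hD.chyp π u ≃* Wg hD.chyp π u) (x y : Wg hD.chyp π u) :
    x * y * x⁻¹ * y⁻¹ ∈ Aker hD π u δ := by
  rw [mem_Aker, map_mul, map_mul, map_mul, map_inv, map_inv, Subgroup.coe_mul, Subgroup.coe_mul,
    Subgroup.coe_mul, Subgroup.coe_inv, Subgroup.coe_inv, map_mul, map_mul, map_mul, map_inv,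
    map_inv, hD.chyp.T_comm _ (δ x).2.1 _ (δ y).2.1]
  group

theorem Aker_index (hD : CData z q ε Z T T' U s s' u₀ b) (hG : GHyp π z u₀ s t u w)
    (δ : Wg hD.chyp π u ≃* Wg hD.chyp π u) {m : ℕ} (hm : 2 * (m : ℤ) = q - ε) :
    (Aker hD π u δ).index = m := by
  rw [← card_Todd hD hm]
  unfold Aker
  rw [Subgroup.index_ker]
  have h1 : ((π.comp (Wg hD.chyp π u).subtype).comp δ.toMonoidHom).range =
      Wg hD.chyp (MonoidHom.id C) u₀ := by
    ext x
    constructor
    · rintro ⟨y, rfl⟩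
      refine ⟨(δ y).2.1, (δ y).2.2.1, ?_⟩
      exact hD.chyp.T_comm _ hD.chyp.u_mem _ (δ y).2.1
    · intro hx
      obtain ⟨y, hy, rfl⟩ := exists_W hD hG hx
      refine ⟨δ.symm ⟨y, hy⟩, ?_⟩
      show π (δ (δ.symm ⟨y, hy⟩) : Wg hD.chyp π u) = π y
      rw [MulEquiv.apply_symm_apply]
  rw [h1]

/-- `w` inverts `W / (W ∩ K)`. -/
theorem inv_mod (hD : CData z q ε Z T T' U s s' u₀ b) (hG : GHyp π z u₀ s t u w)
    (x : Wg hD.chyp π u) : π (aW hG hD.chyp x * x : Wg hD.chyp π u) = 1 := by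
  have h := hD.chyp
  have h1 : π (aW hG hD.chyp x * x : Wg hD.chyp π u) = π x * (s * π x * s⁻¹) := by
    rw [Subgroup.coe_mul, map_mul, aW_apply, map_mul, map_mul, map_inv, hG.map_w,
      h.T_comm _ (h.s_conj _ x.2.1) _ x.2.1]
  have h2 := h.s_norm _ x.2.1
  have h3 := (aW hG hD.chyp x * x : Wg hD.chyp π u).2.2.1
  rw [h1] at h3 ⊢
  rcases hD.mem_Z.1 h2 with h4 | h4
  · exact h4
  · exfalso
    rw [h4, h.orderOf_t] at h3
    norm_num at h3

/-- The value of the Steinberg character at `z x`, `x` of odd order. -/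
theorem St_zmul (hD : CData z q ε Z T T' U s s' u₀ b) {μ : U →* ℂˣ} (hG : GHyp π z u₀ s t u w)
    (y : Wg hD.chyp π u) : z ∈ Subgroup.zpowers (π (t * y)) ∧
      (π y = 1 → St hD.chyp μ (π (t * y)) = q) ∧ (π y ≠ 1 → St hD.chyp μ (π (t * y)) = ε) := by
  have h := hD.chyp
  have hzz : z * z = 1 := (ghyp_id h).tt
  have hc : Commute z (π (y : Γ)) := (h.Z_central z h.t_mem _).symm
  rw [map_mul, hG.map_t]
  refine ⟨?_, fun h1 => ?_, fun h1 => ?_⟩
  · have h1 : (z * π (y : Γ)) ^ orderOf (π (y : Γ)) = z := by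
      rw [hc.mul_pow, pow_orderOf_eq_one, mul_one, InstGamma.pow_odd_of_sq hzz y.2.2.1]
    have h2 := pow_mem (Subgroup.mem_zpowers (z * π (y : Γ))) (orderOf (π (y : Γ)))
    rwa [h1] at h2
  · rw [h1, mul_one, St_Z h μ h.t_mem]
  · have h2 : z * π (y : Γ) ∉ Z := by
      intro h3
      have h4 : π (y : Γ) ∈ Z := by
        have := mul_mem h.t_mem h3
        rwa [← mul_assoc, hzz, one_mul] at this
      rcases hD.mem_Z.1 h4 with h5 | h5
      · exact h1 h5
      · have h6 := y.2.2.1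
        rw [h5, h.orderOf_t] at h6
        norm_num at h6
    have h3 : z * π (y : Γ) ∈ T := mul_mem (h.Z_le_T h.t_mem) y.2.1
    unfold St
    rw [h.torus.R_T h.base _ h3 h2]
    ring

end Gamma

section Group

variable {G : Type u} [Group G] [Finite G] {C : Type v} [Group C] [Fintype C] {z : C} {q : ℕ}
  {ε : ℤ} {Z T T' U : Subgroup C} {s s' u₀ : C} {b : C →* ℂˣ} {t : G}
  {π : (Subgroup.centralizer ({t} : Set G)) →* C} {u w : Subgroup.centralizer ({t} : Set G)}
  {g : G}

theorem exists_ghyp (H : General.Hyp t z π) (h : CHyp z q ε Z T T' U s s' u₀) :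
    ∃ u w, GHyp π z u₀ s (General.tt t) u w :=
  exists_uw h H.surj H.odd_ker (General.tt_mul_tt H) General.tt_comm (General.map_tt H)

/-- `g` interchanges `t` and `u`. -/
structure Swap (t : G) (u : Subgroup.centralizer ({t} : Set G)) (g : G) : Prop where
  g_u : g * u * g⁻¹ = t
  g_t : g * t * g⁻¹ = u

theorem exists_swap (H : General.Hyp t z π) (hD : CData z q ε Z T T' U s s' u₀ b)
    (hG : GHyp π z u₀ s (General.tt t) u w) : ∃ g : G, Swap t u g := by
  have h := hD.chyp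
  have hu1 : (u : G) ≠ 1 := by
    intro h1
    have h2 : u = 1 := Subtype.ext h1
    have := h.orderOf_u
    rw [← hG.map_u, h2, map_one, orderOf_one] at this
    omega
  have huu : (u : G) * u = 1 := congrArg Subtype.val hG.uu
  have hou : orderOf (u : G) = 2 := orderOf_eq_prime (by rw [sq, huu]) hu1
  obtain ⟨g₀, hg₀⟩ := isConj_iff.1 (H.one_class u hou)
  -- `g₀ t g₀⁻¹ = u`; consider `x = g₀⁻¹ t g₀`
  have hct : (u : G) * t = t * u := Subgroup.mem_centralizer_singleton_iff.1 u.2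
  have hgt : g₀⁻¹ * u * g₀ = t := by rw [← hg₀]; group
  have hx : g₀⁻¹ * t * g₀ ∈ Subgroup.centralizer ({t} : Set G) := by
    rw [Subgroup.mem_centralizer_singleton_iff]
    calc g₀⁻¹ * t * g₀ * t = g₀⁻¹ * (t * (g₀ * t * g₀⁻¹)) * g₀ := by group
      _ = g₀⁻¹ * ((g₀ * t * g₀⁻¹) * t) * g₀ := by rw [hg₀, hct]
      _ = t * (g₀⁻¹ * t * g₀) := by group
  set x : Subgroup.centralizer ({t} : Set G) := ⟨g₀⁻¹ * t * g₀, hx⟩ with hxdef
  have htt : t * t = 1 := General.t_mul_t H
  have hxx : x * x = 1 := by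
    apply Subtype.ext
    show g₀⁻¹ * t * g₀ * (g₀⁻¹ * t * g₀) = 1
    calc g₀⁻¹ * t * g₀ * (g₀⁻¹ * t * g₀) = g₀⁻¹ * (t * t) * g₀ := by group
      _ = 1 := by rw [htt]; group
  have hxt : x ≠ General.tt t := by
    intro h1
    have h2 : g₀⁻¹ * t * g₀ = t := congrArg Subtype.val h1
    have h3 : (u : G) = t := by
      rw [← hg₀]
      conv_lhs => rw [← h2]
      group
    have h4 : u = General.tt t := Subtype.ext h3
    refine h.u_ne ?_
    rw [← hG.map_u, h4, hG.map_t]
  have hπxx : π x * π x = 1 := by rw [← map_mul, hxx, map_one]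
  have hx1 : x ≠ 1 := by
    intro h1
    have h2 : g₀⁻¹ * t * g₀ = 1 := congrArg Subtype.val h1
    have h3 : t = 1 := by
      calc t = g₀ * (g₀⁻¹ * t * g₀) * g₀⁻¹ := by group
        _ = 1 := by rw [h2]; group
    exact General.t_ne_one H h3
  have hπx1 : π x ≠ 1 := by
    intro h1
    exact hx1 (General.eq_one_of_ker H h1 (m := 1) (by rw [pow_one, sq, hxx]))
  have hπxz : π x ≠ z := by
    intro h1
    have h2 : π (x * General.tt t) = 1 := by
      rw [map_mul, h1, hG.map_t, ← hG.map_t, ← map_mul, hG.tt, map_one]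
    have h3 : x * General.tt t = 1 := by
      refine General.eq_one_of_ker H h2 (m := 1) ?_
      rw [pow_one, (General.tt_comm x).symm.mul_pow, sq, sq, hxx, hG.tt, one_mul]
    apply hxt
    rw [eq_inv_of_mul_eq_one_left h3]
    exact inv_eq_of_mul_eq_one_left hG.tt
  have hox : orderOf (π x) = 2 := orderOf_eq_prime (by rw [sq, hπxx]) hπx1
  rcases FusionCore.eq_or_conj h hox with h1 | ⟨c, hc⟩
  · exact absurd h1 hπxz
  · obtain ⟨c', rfl⟩ := hG.surj c
    obtain ⟨k, hk, hku⟩ := exists_conj_of_map hG.oddK (x := c' * x * c'⁻¹) (y := u)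
      (by
        calc c' * x * c'⁻¹ * (c' * x * c'⁻¹) = c' * (x * x) * c'⁻¹ := by group
          _ = 1 := by rw [hxx]; group) hG.uu
      (by rw [map_mul, map_mul, map_inv, hc, hG.map_u])
    have hkt : (k : G) * t = t * k := Subgroup.mem_centralizer_singleton_iff.1 k.2
    have hct' : (c' : G) * t = t * c' := Subgroup.mem_centralizer_singleton_iff.1 c'.2
    refine ⟨k * c' * g₀⁻¹, ?_, ?_⟩
    · calc (k : G) * c' * g₀⁻¹ * u * (k * c' * g₀⁻¹)⁻¹ =
          k * (c' * (g₀⁻¹ * u * g₀) * (c' : G)⁻¹) * (k : G)⁻¹ := by group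
        _ = k * (c' * t * (c' : G)⁻¹) * (k : G)⁻¹ := by rw [hgt]
        _ = k * t * (k : G)⁻¹ := by rw [hct']; group
        _ = t := by rw [hkt]; group
    · have h5 : (k : G) * (c' * (g₀⁻¹ * t * g₀) * (c' : G)⁻¹) * (k : G)⁻¹ = u :=
        congrArg Subtype.val hku
      rw [← h5]; group

/-- Conjugation by `n` on `W`. -/
theorem conj_mem_W (hD : CData z q ε Z T T' U s s' u₀ b) (hG : GHyp π z u₀ s (General.tt t) u w)
    {n : G} (hn : ∀ y : G, y * t = t * y → y * u = u * y →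
      n * y * n⁻¹ * t = t * (n * y * n⁻¹) ∧ n * y * n⁻¹ * u = u * (n * y * n⁻¹))
    (y : Wg hD.chyp π u) : ∃ y' : Wg hD.chyp π u, ((y' : Subgroup.centralizer ({t} : Set G)) : G) =
      n * ((y : Subgroup.centralizer ({t} : Set G)) : G) * n⁻¹ := by
  obtain ⟨h1, h2⟩ := (mem_Wg_iff hD hG).1 y.2
  obtain ⟨h3, h4⟩ := hn y (Subgroup.mem_centralizer_singleton_iff.1 (y : Subgroup.centralizer ({t} :
    Set G)).2) (congrArg Subtype.val h1.eq).symm
  refine ⟨⟨⟨n * y * n⁻¹, Subgroup.mem_centralizer_singleton_iff.2 h3⟩,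
    (mem_Wg_iff hD hG).2 ⟨Subtype.ext h4.symm, ?_⟩⟩, rfl⟩
  rw [Subgroup.orderOf_mk, FusionCore.orderOf_conj, Subgroup.orderOf_coe]
  exact h2

theorem Swap.conj (hs : Swap t u g) {y : G} (h1 : y * t = t * y) (h2 : y * u = u * y) :
    g * y * g⁻¹ * t = t * (g * y * g⁻¹) ∧ g * y * g⁻¹ * u = u * (g * y * g⁻¹) := by
  constructor
  · rw [← hs.g_u]
    calc g * y * g⁻¹ * (g * u * g⁻¹) = g * (y * u) * g⁻¹ := by group
      _ = g * u * g⁻¹ * (g * y * g⁻¹) := by rw [h2]; group
  · rw [← hs.g_t]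
    calc g * y * g⁻¹ * (g * t * g⁻¹) = g * (y * t) * g⁻¹ := by group
      _ = g * t * g⁻¹ * (g * y * g⁻¹) := by rw [h1]; group

theorem Swap.inv (hs : Swap t u g) : Swap t u g⁻¹ := by
  constructor
  · rw [← hs.g_t]; group
  · calc g⁻¹ * t * g⁻¹⁻¹ = g⁻¹ * (g * u * g⁻¹) * g := by rw [hs.g_u]; group
      _ = u := by group

/-- The automorphism of `W` induced by `g`. -/
noncomputable def bW (hD : CData z q ε Z T T' U s s' u₀ b)
    (hG : GHyp π z u₀ s (General.tt t) u w) (hs : Swap t u g) :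
    Wg hD.chyp π u ≃* Wg hD.chyp π u where
  toFun y := (conj_mem_W hD hG (fun _ h1 h2 => hs.conj h1 h2) y).choose
  invFun y := (conj_mem_W hD hG (fun _ h1 h2 => hs.inv.conj h1 h2) y).choose
  left_inv y := by
    apply Subtype.ext
    apply Subtype.ext
    rw [(conj_mem_W hD hG (fun _ h1 h2 => hs.inv.conj h1 h2) _).choose_spec,
      (conj_mem_W hD hG (fun _ h1 h2 => hs.conj h1 h2) _).choose_spec]
    group
  right_inv y := by
    apply Subtype.ext
    apply Subtype.ext
    rw [(conj_mem_W hD hG (fun _ h1 h2 => hs.conj h1 h2) _).choose_spec,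
      (conj_mem_W hD hG (fun _ h1 h2 => hs.inv.conj h1 h2) _).choose_spec]
    group
  map_mul' x y := by
    apply Subtype.ext
    apply Subtype.ext
    rw [(conj_mem_W hD hG (fun _ h1 h2 => hs.conj h1 h2) _).choose_spec,
      Subgroup.coe_mul, Subgroup.coe_mul, Subgroup.coe_mul, Subgroup.coe_mul,
      (conj_mem_W hD hG (fun _ h1 h2 => hs.conj h1 h2) _).choose_spec,
      (conj_mem_W hD hG (fun _ h1 h2 => hs.conj h1 h2) _).choose_spec]
    group

theorem bW_apply (hD : CData z q ε Z T T' U s s' u₀ b)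
    (hG : GHyp π z u₀ s (General.tt t) u w) (hs : Swap t u g) (y : Wg hD.chyp π u) :
    (((bW hD hG hs y : Wg hD.chyp π u) : Subgroup.centralizer ({t} : Set G)) : G) =
      g * ((y : Subgroup.centralizer ({t} : Set G)) : G) * g⁻¹ :=
  (conj_mem_W hD hG (fun _ h1 h2 => hs.conj h1 h2) y).choose_spec

theorem bW_symm_apply (hD : CData z q ε Z T T' U s s' u₀ b)
    (hG : GHyp π z u₀ s (General.tt t) u w) (hs : Swap t u g) (y : Wg hD.chyp π u) :
    ((((bW hD hG hs).symm y : Wg hD.chyp π u) : Subgroup.centralizer ({t} : Set G)) : G) =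
      g⁻¹ * ((y : Subgroup.centralizer ({t} : Set G)) : G) * g := by
  have h1 := bW_apply hD hG hs ((bW hD hG hs).symm y)
  rw [MulEquiv.apply_symm_apply] at h1
  rw [h1]; group

/-- Elements commuting with `t` and `u` act trivially on the linear characters of `W`. -/
theorem lin_conj (hD : CData z q ε Z T T' U s s' u₀ b)
    (hG : GHyp π z u₀ s (General.tt t) u w) (l : Wg hD.chyp π u →* ℂˣ) {n : G}
    (h1 : n * t = t * n) (h2 : n * u = u * n) {x y : Wg hD.chyp π u}
    (hxy : (x : G) = n * y * n⁻¹) : l x = l y := by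
  set n' : Subgroup.centralizer ({t} : Set G) :=
    ⟨n, Subgroup.mem_centralizer_singleton_iff.2 h1⟩ with hn'
  obtain ⟨v, m, hv, hm, he⟩ := hG.exists_decomp hD (x := n') (Subtype.ext h2.symm)
  have hvy : Commute v ((m * y * m⁻¹ : Subgroup.centralizer ({t} : Set G))) := by
    have h3 : Commute u (m * y * m⁻¹) := (hm.2.2.mul_right y.2.2.2).mul_right hm.2.2.inv_right
    rcases hv with rfl | rfl | rfl | rfl
    · exact Commute.one_left _
    · exact General.tt_comm _
    · exact h3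
    · exact (General.tt_comm _).mul_left h3
  have h3 : x = ⟨m, hm⟩ * y * ⟨m, hm⟩⁻¹ := by
    apply Subtype.ext
    apply Subtype.ext
    rw [hxy]
    have h4 : n = v * m := congrArg Subtype.val he
    have h5 : (v : G) * (m * y * (m : G)⁻¹) = m * y * (m : G)⁻¹ * v := congrArg Subtype.val hvy.eq
    rw [h4]
    show (v : G) * m * y * ((v : G) * m)⁻¹ = m * y * (m : G)⁻¹
    calc (v : G) * m * y * ((v : G) * m)⁻¹ = (v * (m * y * (m : G)⁻¹)) * (v : G)⁻¹ := by group
      _ = m * y * (m : G)⁻¹ := by rw [h5]; group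
  rw [h3, map_mul, map_mul, map_inv, mul_comm (l ⟨m, hm⟩), mul_assoc, mul_inv_cancel, mul_one]

/-- The subgroup `W ∩ K_u`. -/
noncomputable def A1 (hD : CData z q ε Z T T' U s s' u₀ b)
    (hG : GHyp π z u₀ s (General.tt t) u w) (hs : Swap t u g) : Subgroup (Wg hD.chyp π u) :=
  Aker hD π u (bW hD hG hs)

/-- The subgroup `W ∩ K_{tu}`. -/
noncomputable def A2 (hD : CData z q ε Z T T' U s s' u₀ b)
    (hG : GHyp π z u₀ s (General.tt t) u w) (hs : Swap t u g) : Subgroup (Wg hD.chyp π u) :=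
  Aker hD π u ((aW hG hD.chyp).symm.trans (bW hD hG hs))

theorem mem_A2 (hD : CData z q ε Z T T' U s s' u₀ b)
    (hG : GHyp π z u₀ s (General.tt t) u w) (hs : Swap t u g) {x : Wg hD.chyp π u} :
    x ∈ A2 hD hG hs ↔ (aW hG hD.chyp).symm x ∈ A1 hD hG hs := Iff.rfl

theorem Swap.tu (hs : Swap t u g) :
    g * (t * u) * g⁻¹ = t * u := by
  have h1 : (u : G) * t = t * u := Subgroup.mem_centralizer_singleton_iff.1 u.2
  calc g * (t * u) * g⁻¹ = (g * t * g⁻¹) * (g * u * g⁻¹) := by group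
    _ = t * u := by rw [hs.g_t, hs.g_u, h1]

/-- A linear character of `W` trivial on `W ∩ K_u` and fixed by `w` is trivial. -/
theorem lin_eq_one (hD : CData z q ε Z T T' U s s' u₀ b)
    (hG : GHyp π z u₀ s (General.tt t) u w) (hs : Swap t u g) (l : Wg hD.chyp π u →* ℂˣ)
    (hl : ∀ y ∈ A1 hD hG hs, l y = 1) (hw : ∀ y, l (aW hG hD.chyp y) = l y) : l = 1 := by
  set α := aW hG hD.chyp with hα
  set β := bW hD hG hs with hβ
  set γ : Wg hD.chyp π u ≃* Wg hD.chyp π u := (β.trans α).trans β.symm with hγ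
  have hγa : ∀ y, γ y = β.symm (α (β y)) := fun _ => rfl
  -- `γ` inverts `l`
  have h1 : ∀ y, l (γ y) = (l y)⁻¹ := by
    intro y
    have h2 : γ y * y ∈ A1 hD hG hs := by
      show π (β (γ y * y) : Wg hD.chyp π u) = 1
      have h3 : β (γ y * y) = α (β y) * β y := by
        rw [map_mul, hγa, MulEquiv.apply_symm_apply]
      rw [h3]
      exact inv_mod hD hG (β y)
    have h3 := hl _ h2
    rw [map_mul] at h3
    exact eq_inv_of_mul_eq_one_left h3
  have huu : (u : G) * u = 1 := congrArg Subtype.val hG.uu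
  have htt : t * t = 1 := congrArg Subtype.val hG.tt
  have hut : (u : G) * t = t * u := Subgroup.mem_centralizer_singleton_iff.1 u.2
  have hwt : (w : G) * t = t * w := Subgroup.mem_centralizer_singleton_iff.1 w.2
  have wt : (w : G) * t * (w : G)⁻¹ = t := by rw [hwt]; group
  have wu : (w : G) * u * (w : G)⁻¹ = t * u := congrArg Subtype.val hG.wu
  have wtu : (w : G) * (t * u) * (w : G)⁻¹ = u := by
    calc (w : G) * (t * u) * (w : G)⁻¹ = (w * t * (w : G)⁻¹) * (w * u * (w : G)⁻¹) := by group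
      _ = t * (t * u) := by rw [wt, wu]
      _ = u := by rw [← mul_assoc, htt, one_mul]
  have gtu := hs.tu
  -- the element `w' = g⁻¹ w g`
  set w' : G := g⁻¹ * w * g with hw'
  have w't : w' * t * w'⁻¹ = t * u := by
    calc w' * t * w'⁻¹ = g⁻¹ * (w * (g * t * g⁻¹) * (w : G)⁻¹) * g := by rw [hw']; group
      _ = g⁻¹ * (t * u) * g := by rw [hs.g_t, wu]
      _ = g⁻¹ * (g * (t * u) * g⁻¹) * g := by rw [gtu]
      _ = t * u := by group
  have w'u : w' * u * w'⁻¹ = u := by
    calc w' * u * w'⁻¹ = g⁻¹ * (w * (g * u * g⁻¹) * (w : G)⁻¹) * g := by rw [hw']; group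
      _ = g⁻¹ * t * g := by rw [hs.g_u, wt]
      _ = g⁻¹ * (g * u * g⁻¹) * g := by rw [hs.g_u]
      _ = u := by group
  have w'tu : w' * (t * u) * w'⁻¹ = t := by
    calc w' * (t * u) * w'⁻¹ = (w' * t * w'⁻¹) * (w' * u * w'⁻¹) := by group
      _ = t * (u * u) := by rw [w't, w'u]; group
      _ = t := by rw [huu, mul_one]
  have hγe : ∀ y, ((γ y : Wg hD.chyp π u) : G) = w' * ((y : Wg hD.chyp π u) : G) * w'⁻¹ := by
    intro y
    rw [hγa, hβ, bW_symm_apply, hα, aW_apply]
    show g⁻¹ * (w * (((bW hD hG hs y : Wg hD.chyp π u) :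
      Subgroup.centralizer ({t} : Set G)) : G) * (w : G)⁻¹) * g = _
    rw [bW_apply, hw']
    group
  have hαe : ∀ y, ((α y : Wg hD.chyp π u) : G) = w * ((y : Wg hD.chyp π u) : G) * (w : G)⁻¹ :=
    fun y => rfl
  -- `n = (w' w w') (w w' w)⁻¹` commutes with `t` and `u`
  set n : G := (w' * w * w') * (w * w' * w)⁻¹ with hn
  have c1 : (w * w' * w) * t * (w * w' * w : G)⁻¹ = u := by
    calc (w * w' * w) * t * (w * w' * w : G)⁻¹ =
        w * (w' * (w * t * (w : G)⁻¹) * w'⁻¹) * (w : G)⁻¹ := by group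
      _ = u := by rw [wt, w't, wtu]
  have c2 : (w * w' * w) * u * (w * w' * w : G)⁻¹ = t := by
    calc (w * w' * w) * u * (w * w' * w : G)⁻¹ =
        w * (w' * (w * u * (w : G)⁻¹) * w'⁻¹) * (w : G)⁻¹ := by group
      _ = t := by rw [wu, w'tu, wt]
  have c3 : (w' * w * w') * t * (w' * w * w' : G)⁻¹ = u := by
    calc (w' * w * w') * t * (w' * w * w' : G)⁻¹ =
        w' * (w * (w' * t * w'⁻¹) * (w : G)⁻¹) * w'⁻¹ := by group
      _ = u := by rw [w't, wtu, w'u]
  have c4 : (w' * w * w') * u * (w' * w * w' : G)⁻¹ = t := by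
    calc (w' * w * w') * u * (w' * w * w' : G)⁻¹ =
        w' * (w * (w' * u * w'⁻¹) * (w : G)⁻¹) * w'⁻¹ := by group
      _ = t := by rw [w'u, wu, w'tu]
  have hnt : n * t = t * n := by
    have h2 : (w * w' * w : G)⁻¹ * t * (w * w' * w) = u := by
      have h3 := congrArg (fun a => (w * w' * w : G)⁻¹ * a * (w * w' * w)) c2
      have h4 : (w * w' * w : G)⁻¹ * ((w * w' * w) * u * (w * w' * w : G)⁻¹) * (w * w' * w) = u := by
        group
      exact h3.symm.trans h4
    calc n * t = (w' * w * w') * ((w * w' * w : G)⁻¹ * t * (w * w' * w)) * (w * w' * w : G)⁻¹ := by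
          rw [hn]; group
      _ = ((w' * w * w') * u * (w' * w * w' : G)⁻¹) * ((w' * w * w') * (w * w' * w : G)⁻¹) := by
          rw [h2]; group
      _ = t * n := by rw [c4, hn]
  have hnu : n * u = u * n := by
    have h2 : (w * w' * w : G)⁻¹ * u * (w * w' * w) = t := by
      have h3 := congrArg (fun a => (w * w' * w : G)⁻¹ * a * (w * w' * w)) c1
      have h4 : (w * w' * w : G)⁻¹ * ((w * w' * w) * t * (w * w' * w : G)⁻¹) * (w * w' * w) = t := by
        group
      exact h3.symm.trans h4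
    calc n * u = (w' * w * w') * ((w * w' * w : G)⁻¹ * u * (w * w' * w)) * (w * w' * w : G)⁻¹ := by
          rw [hn]; group
      _ = ((w' * w * w') * t * (w' * w * w' : G)⁻¹) * ((w' * w * w') * (w * w' * w : G)⁻¹) := by
          rw [h2]; group
      _ = u * n := by rw [c3, hn]
  have h2 : ∀ y, l (γ (α (γ y))) = l (α (γ (α y))) := by
    intro y
    refine lin_conj hD hG l hnt hnu ?_
    rw [hγe, hαe, hγe, hαe, hγe, hαe, hn]
    group
  have h3 : ∀ y, l y * l y = 1 := by
    intro y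
    have h4 := h2 y
    rw [h1, hw, h1, hw, h1, hw, inv_inv] at h4
    have h5 : l y * l y = l y * (l y)⁻¹ := congrArg (fun a => l y * a) h4
    rw [h5, mul_inv_cancel]
  ext y
  obtain ⟨k, hk⟩ := hG.odd_W hD.chyp
  have h4 : l y ^ Nat.card (Wg hD.chyp π u) = 1 := by
    rw [← map_pow, pow_card_eq_one', map_one]
  rw [hk, pow_succ, pow_mul, sq, h3, one_pow, one_mul] at h4
  rw [h4]
  rfl

/-- Class functions of `G` with values `σ (c + ε St)` on the elements of `C(t)` having `t` as a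
power. -/
structure DVal (h : CHyp z q ε Z T T' U s s' u₀) (μ : U →* ℂˣ)
    (π : (Subgroup.centralizer ({t} : Set G)) →* C) (X : G → ℂ) (σ c : ℤ) : Prop where
  cls : IsClassFunction G X
  val : ∀ y, z ∈ Subgroup.zpowers (π y) → X y = σ * (c + ε * St h μ (π y))

theorem DVal.at_t {h : CHyp z q ε Z T T' U s s' u₀} {μ : U →* ℂˣ} {X : G → ℂ} {σ c : ℤ}
    (hX : DVal h μ π X σ c) (H : General.Hyp t z π) : X t = σ * (c + ε * q) := by
  have h1 := hX.val (General.tt t) (by
    rw [General.map_tt H]; exact Subgroup.mem_zpowers z)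
  rw [General.map_tt H, St_Z h μ h.t_mem] at h1
  exact h1

theorem DVal.at_tW (hD : CData z q ε Z T T' U s s' u₀ b) {μ : U →* ℂˣ}
    (hG : GHyp π z u₀ s (General.tt t) u w) {X : G → ℂ} {σ c : ℤ} (hX : DVal hD.chyp μ π X σ c)
    (y : Wg hD.chyp π u) :
    (π y = 1 → X (t * y) = σ * (c + ε * q)) ∧ (π y ≠ 1 → X (t * y) = σ * (c + 1)) := by
  obtain ⟨h1, h2, h3⟩ := St_zmul (μ := μ) hD hG y
  have h4 : X (t * y) = σ * (c + ε * St hD.chyp μ (π (General.tt t * y))) := hX.val _ h1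
  refine ⟨fun h5 => by rw [h4, h2 h5], fun h5 => by
    rw [h4, h3 h5]
    linear_combination (σ : ℂ) * eps_sq hD.chyp⟩

/-- **The hypothesis `Vals`.** -/
theorem vals (H : General.Hyp t z π) (hD : CData z q ε Z T T' U s s' u₀ b) {μ : U →* ℂˣ}
    (hG : GHyp π z u₀ s (General.tt t) u w) (hs : Swap t u g) {X : G → ℂ} {σ c : ℤ}
    (hX : DVal hD.chyp μ π X σ c) (hσ : σ = 1 ∨ σ = -1)
    (hXc : IsCharacter (Subgroup.centralizer ({t} : Set G)) (fun y => X y)) {m : ℕ}
    (hm : 2 * (m : ℤ) = q - ε) [Fintype (Wg hD.chyp π u)] :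
    Vals q ε (Wg hD.chyp π u).subtype (aW hG hD.chyp) (General.tt t) u
      (fun y : Subgroup.centralizer ({t} : Set G) => X y) σ c m (A1 hD hG hs) (A2 hD hG hs) := by
  have hm' : (2 : ℂ) * m = q - ε := by exact_mod_cast hm
  have hval : ∀ y : Wg hD.chyp π u, X (u * y) = X (t * bW hD hG hs y) := by
    intro y
    rw [bW_apply, ← hX.cls ((u : G) * y) g]
    congr 1
    calc g * ((u : G) * y) * g⁻¹ = (g * u * g⁻¹) * (g * y * g⁻¹) := by group
      _ = t * (g * y * g⁻¹) := by rw [hs.g_u]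
  have hval2 : ∀ y : Wg hD.chyp π u, X (t * (u * y)) = X (u * (aW hG hD.chyp).symm y) := by
    intro y
    have h1 : (((aW hG hD.chyp).symm y : Wg hD.chyp π u) : G) = (w : G)⁻¹ * y * w := rfl
    rw [h1, ← hX.cls ((t : G) * (u * y)) (w : G)⁻¹]
    congr 1
    have h2 : (w : G) * u * (w : G)⁻¹ = t * u := congrArg Subtype.val hG.wu
    calc (w : G)⁻¹ * (t * (u * y)) * (w : G)⁻¹⁻¹ = (w : G)⁻¹ * (t * u) * y * w := by group
      _ = u * ((w : G)⁻¹ * y * w) := by rw [← h2]; group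
  have k1 : (σ : ℂ) * (c + ε * q) = σ * (c + 1 + 2 * ε * m) := by
    linear_combination (-(σ : ℂ) * ε) * hm' + (σ : ℂ) * eps_sq hD.chyp
  have hu1 : ∀ y : Wg hD.chyp π u, y ∈ A1 hD hG hs → X (u * y) = σ * (c + 1 + 2 * ε * m) := by
    intro y hy
    rw [hval, (hX.at_tW hD hG (bW hD hG hs y)).1 hy, k1]
  have hu2 : ∀ y : Wg hD.chyp π u, y ∉ A1 hD hG hs → X (u * y) = σ * (c + 1) := by
    intro y hy
    rw [hval, (hX.at_tW hD hG (bW hD hG hs y)).2 hy]
  have hreg : ∀ l : Wg hD.chyp π u →* ℂˣ, conjL (aW hG hD.chyp) l = l →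
      ∀ y, l (aW hG hD.chyp y) = l y := by
    intro l hl y
    have h1 : conjL (aW hG hD.chyp) l (aW hG hD.chyp y) = l y := by
      show l ((aW hG hD.chyp).symm (aW hG hD.chyp y)) = l y
      rw [MulEquiv.symm_apply_apply]
    rw [← h1, hl]
  exact
    { char := hXc
      sig := hσ
      two_m := hm
      normal₁ := MonoidHom.normal_ker _
      normal₂ := MonoidHom.normal_ker _
      comm₁ := fun x y => Aker_comm hD _ x y
      comm₂ := fun x y => Aker_comm hD _ x y
      index₁ := Aker_index hD hG _ hm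
      index₂ := Aker_index hD hG _ hm
      reg₁ := fun l hl hl1 he => hl1 (lin_eq_one hD hG hs l hl (hreg l he))
      reg₂ := by
        intro l hl hl1 he
        refine hl1 (lin_eq_one hD hG hs l (fun y hy => ?_) (hreg l he))
        rw [← hreg l he y]
        refine hl _ ((mem_A2 hD hG hs).2 ?_)
        rw [MulEquiv.symm_apply_apply]
        exact hy
      val₁ := hu1
      val₁' := hu2
      val₂ := fun y hy => by
        show X (t * (u * y)) = _
        rw [hval2]
        exact hu1 _ hy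
      val₂' := fun y hy => by
        show X (t * (u * y)) = _
        rw [hval2]
        exact hu2 _ hy
      val_t := hX.at_t H }

end Group

end Cfsg.Agent.Classification.QDW.InstG
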