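import Mathlib
import Cfsg.Prelude.Def_Characters
import Cfsg.Agent.Characters.Core
import Cfsg.Agent.Characters.Clifford
import Cfsg.Agent.PermutationGroups.PermChar
import Cfsg.Agent.Classification.QDW.FrobLift
import Cfsg.Agent.Classification.QDW.Inertia

/-!
# Frobenius groups of order `q r` extended by a normal subgroup

The version of `FrobLift` for a complement of order `r`: `norm_identity`, the degree inequality
`q r (d - 1) ≤ (q - 1) d ^ 2` (`degree_ineq`), and `le_of_index_lt`: a subgroup of index less than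
`r = q - 1` containing `K` contains `X`.
-/

set_option autoImplicit false
set_option linter.unusedSectionVars false

namespace Cfsg.Agent.Classification.QDW.FrobGen

open Cfsg Cfsg.Agent.Characters
open Cfsg.Agent.Classification.QDW.FrobLift (sum_ite_mem isClassFunction_mul_conj
  norm_eq_sum_normSq le_norm)
open scoped ComplexConjugate

universe u v

section Frobenius

variable {B : Type u} [Group B]

/-- `B / K` is a Frobenius group with kernel `X / K` of order `q` and cyclic complement `T / K` of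
order `r`. -/
structure FrobG (q r : ℕ) (K X T : Subgroup B) : Prop where
  normal : K.Normal
  normal_X : X.Normal
  K_le_X : K ≤ X
  K_le_T : K ≤ T
  inf : ∀ x ∈ X, x ∈ T → x ∈ K
  card_X : Nat.card X = q * Nat.card K
  card_T : Nat.card T = r * Nat.card K
  card_B : Nat.card B = q * r * Nat.card K
  tI : ∀ x ∈ X, ∀ g ∈ T, x * g * x⁻¹ ∈ T → x ∈ K ∨ g ∈ K
  cyc : ∀ (_ : (K.subgroupOf T).Normal), IsCyclic (T ⧸ K.subgroupOf T)
  r_ge : 2 ≤ r
  q_ge : 2 ≤ q

theorem FrobG.of_frob {q : ℕ} {K X T : Subgroup B} (h : FrobLift.Frob q K X T) :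
    FrobG q (q - 1) K X T where
  normal := h.normal
  normal_X := h.normal_X
  K_le_X := h.K_le_X
  K_le_T := h.K_le_T
  inf := h.inf
  card_X := h.card_X
  card_T := h.card_T
  card_B := h.card_B
  tI := h.tI
  cyc := h.cyc
  r_ge := by
    have := h.q_ge
    omega
  q_ge := by
    have := h.q_ge
    omega

variable {q r : ℕ} {K X T : Subgroup B}

open scoped Classical in
/-- The number of elements `x` of `X` conjugating `b` into `T - K`. -/
noncomputable def cnt [Fintype B] (K X T : Subgroup B) (b : B) : ℕ :=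
  (Finset.univ.filter fun x : B => x ∈ X ∧ x⁻¹ * b * x ∈ T ∧ x⁻¹ * b * x ∉ K).card

open scoped Classical in
theorem cnt_le [Fintype B] (h : FrobG q r K X T) (b : B) : cnt K X T b ≤ Nat.card K := by
  unfold cnt
  by_cases h0 : (Finset.univ.filter fun x : B => x ∈ X ∧ x⁻¹ * b * x ∈ T ∧ x⁻¹ * b * x ∉ K) = ∅
  · rw [h0, Finset.card_empty]
    exact Nat.zero_le _
  obtain ⟨y, hy⟩ := Finset.nonempty_iff_ne_empty.2 h0
  rw [Finset.mem_filter] at hy
  obtain ⟨-, hyX, hyT, hyK⟩ := hy
  let _ : Fintype K := Fintype.ofFinite _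
  have h1 : (Finset.univ.filter fun x : B => x ∈ X ∧ x⁻¹ * b * x ∈ T ∧ x⁻¹ * b * x ∉ K) ⊆
      (Finset.univ : Finset K).image (fun k : K => y * (k : B)) := by
    intro x hx
    rw [Finset.mem_filter] at hx
    obtain ⟨-, hxX, hxT, hxK⟩ := hx
    rw [Finset.mem_image]
    have h2 : y⁻¹ * x * (x⁻¹ * b * x) * (y⁻¹ * x)⁻¹ = y⁻¹ * b * y := by group
    rcases h.tI (y⁻¹ * x) (X.mul_mem (X.inv_mem hyX) hxX) (x⁻¹ * b * x) hxT
      (by rw [h2]; exact hyT) with h3 | h3
    · exact ⟨⟨y⁻¹ * x, h3⟩, Finset.mem_univ _, by show y * (y⁻¹ * x) = x; group⟩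
    · exact absurd h3 hxK
  refine (Finset.card_le_card h1).trans (Finset.card_image_le.trans ?_)
  rw [Finset.card_univ, Nat.card_eq_fintype_card]

open scoped Classical in
theorem cnt_of_mem [Fintype B] (h : FrobG q r K X T) {b : B} (hb : b ∈ X) : cnt K X T b = 0 := by
  unfold cnt
  rw [Finset.card_eq_zero, Finset.filter_eq_empty_iff]
  rintro x - ⟨hxX, hxT, hxK⟩
  exact hxK (h.inf _ (X.mul_mem (X.mul_mem (X.inv_mem hxX) hb) hxX) hxT)

open scoped Classical in
/-- Counting with a class function. -/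
theorem sum_cnt [Fintype B] [Fintype T] [Fintype K] (h : FrobG q r K X T) {f : B → ℂ}
    (hf : IsClassFunction B f) :
    ∑ b : B, (cnt K X T b : ℂ) * f b = Nat.card X * (∑ g : T, f g - ∑ k : K, f k) := by
  have h1 : ∀ b : B, (cnt K X T b : ℂ) * f b = ∑ x : B,
      if x ∈ X then (if x⁻¹ * b * x ∈ T ∧ x⁻¹ * b * x ∉ K then f (x⁻¹ * b * x) else 0) else 0 := by
    intro b
    unfold cnt
    rw [Finset.card_filter]
    push_cast
    rw [Finset.sum_mul]
    refine Finset.sum_congr rfl fun x _ => ?_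
    have h2 : f (x⁻¹ * b * x) = f b := by
      have := hf b x⁻¹
      rwa [inv_inv] at this
    by_cases hx : x ∈ X
    · by_cases hx2 : x⁻¹ * b * x ∈ T ∧ x⁻¹ * b * x ∉ K
      · rw [if_pos ⟨hx, hx2⟩, if_pos hx, if_pos hx2, one_mul, h2]
      · rw [if_neg (fun h3 => hx2 h3.2), if_pos hx, if_neg hx2, zero_mul]
    · rw [if_neg (fun h3 => hx h3.1), if_neg hx, zero_mul]
  rw [Finset.sum_congr rfl fun b _ => h1 b, Finset.sum_comm]
  have h2 : ∀ x : B, ∑ b : B, (if x ∈ X then
      (if x⁻¹ * b * x ∈ T ∧ x⁻¹ * b * x ∉ K then f (x⁻¹ * b * x) else 0) else 0) =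
      if x ∈ X then (∑ g : T, f g - ∑ k : K, f k) else 0 := by
    intro x
    by_cases hx : x ∈ X
    · simp only [if_pos hx]
      have h3 : ∑ b : B, (if x⁻¹ * b * x ∈ T ∧ x⁻¹ * b * x ∉ K then f (x⁻¹ * b * x) else 0) =
          ∑ b : B, (if b ∈ T ∧ b ∉ K then f b else 0) := by
        refine Fintype.sum_equiv (MulAut.conj x⁻¹).toEquiv _ _ fun b => ?_
        have h4 : (MulAut.conj x⁻¹).toEquiv b = x⁻¹ * b * x := by
          show x⁻¹ * b * x⁻¹⁻¹ = _
          rw [inv_inv]
        rw [h4]
      rw [h3, ← sum_ite_mem T, ← sum_ite_mem K, ← Finset.sum_sub_distrib]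
      refine Finset.sum_congr rfl fun b _ => ?_
      by_cases hbK : b ∈ K
      · rw [if_neg (fun h5 => h5.2 hbK), if_pos (h.K_le_T hbK), if_pos hbK, sub_self]
      · by_cases hbT : b ∈ T
        · rw [if_pos ⟨hbT, hbK⟩, if_pos hbT, if_neg hbK, sub_zero]
        · rw [if_neg (fun h5 => hbT h5.1), if_neg hbT, if_neg hbK, sub_zero]
    · simp only [if_neg hx, Finset.sum_const_zero]
  rw [Finset.sum_congr rfl fun x _ => h2 x]
  let _ : Fintype X := Fintype.ofFinite _
  rw [← Finset.sum_filter, Finset.sum_const, nsmul_eq_mul]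
  congr 2
  rw [Nat.card_eq_fintype_card, Fintype.card_subtype]

open scoped Classical in
theorem cnt_of_notMem [Fintype B] (h : FrobG q r K X T) {b : B} (hb : b ∉ X) :
    cnt K X T b = Nat.card K := by
  let _ : Fintype X := Fintype.ofFinite _
  let _ : Fintype T := Fintype.ofFinite _
  let _ : Fintype K := Fintype.ofFinite _
  have hr := h.r_ge
  -- the total number
  have h1 : ∑ b : B, cnt K X T b = Nat.card X * (Nat.card T - Nat.card K) := by
    have h2 := sum_cnt h (f := fun _ => (1 : ℂ)) (fun _ _ => rfl)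
    simp only [mul_one, Finset.sum_const, Finset.card_univ, nsmul_eq_mul] at h2
    have hle : Nat.card K ≤ Nat.card T := Nat.card_le_card_of_injective
      (Subgroup.inclusion h.K_le_T) (Subgroup.inclusion_injective _)
    have h3 : ((∑ b : B, cnt K X T b : ℕ) : ℂ) =
        ((Nat.card X * (Nat.card T - Nat.card K) : ℕ) : ℂ) := by
      push_cast [Nat.cast_sub hle]
      rw [h2, Nat.card_eq_fintype_card (α := T), Nat.card_eq_fintype_card (α := K)]
    exact_mod_cast h3
  have hXB : (Finset.univ.filter fun b : B => b ∉ X).card = Nat.card B - Nat.card X := by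
    have h3 := Finset.card_filter_add_card_filter_not (s := (Finset.univ : Finset B)) (fun b => b ∈ X)
    have h4 : (Finset.univ.filter fun b : B => b ∈ X).card = Nat.card X := by
      rw [Nat.card_eq_fintype_card, Fintype.card_subtype]
    rw [h4, Finset.card_univ, ← Nat.card_eq_fintype_card] at h3
    omega
  have h2 : ∑ b ∈ Finset.univ.filter (fun b : B => b ∉ X), cnt K X T b =
      ∑ b ∈ Finset.univ.filter (fun b : B => b ∉ X), Nat.card K := by
    have h3 : ∑ b ∈ Finset.univ.filter (fun b : B => b ∉ X), cnt K X T b = ∑ b : B, cnt K X T b := by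
      refine Finset.sum_subset (Finset.filter_subset _ _) fun b _ hb => ?_
      rw [Finset.mem_filter, not_and, not_not] at hb
      exact cnt_of_mem h (hb (Finset.mem_univ _))
    rw [h3, h1, Finset.sum_const, hXB, smul_eq_mul, h.card_X, h.card_T, h.card_B]
    obtain ⟨s, hs⟩ : ∃ s, r = s + 1 := ⟨r - 1, by omega⟩
    rw [hs]
    have e2 : (s + 1) * Nat.card K - Nat.card K = s * Nat.card K := by
      have : (s + 1) * Nat.card K = s * Nat.card K + Nat.card K := by ring
      omega
    have e3 : q * (s + 1) * Nat.card K - q * Nat.card K = q * s * Nat.card K := by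
      have : q * (s + 1) * Nat.card K = q * s * Nat.card K + q * Nat.card K := by ring
      omega
    rw [e2, e3]
    ring
  have h3 := (Finset.sum_eq_sum_iff_of_le (fun b _ => cnt_le h b)).1 h2 b
  exact h3 (Finset.mem_filter.2 ⟨Finset.mem_univ _, hb⟩)

open scoped Classical in
/-- The decomposition of a sum over `B`. -/
theorem sum_identity [Fintype B] [Fintype X] [Fintype T] [Fintype K] (h : FrobG q r K X T) {f : B → ℂ}
    (hf : IsClassFunction B f) :
    ∑ b : B, f b = ∑ x : X, f x + q * (∑ g : T, f g - ∑ k : K, f k) := by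
  have hK0 : (Nat.card K : ℂ) ≠ 0 := Core.card_ne_zero_complex
  have h1 := sum_cnt h hf
  have h2 : ∑ b : B, (cnt K X T b : ℂ) * f b =
      Nat.card K * (∑ b : B, f b - ∑ x : X, f x) := by
    rw [← sum_ite_mem X, ← Finset.sum_sub_distrib, Finset.mul_sum]
    refine Finset.sum_congr rfl fun b _ => ?_
    by_cases hb : b ∈ X
    · rw [cnt_of_mem h hb, if_pos hb, sub_self, mul_zero, Nat.cast_zero, zero_mul]
    · rw [cnt_of_notMem h hb, if_neg hb, sub_zero]
  rw [h2, h.card_X] at h1
  have h3 : (Nat.card K : ℂ) * (∑ b : B, f b - ∑ x : X, f x) =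
      Nat.card K * (q * (∑ g : T, f g - ∑ k : K, f k)) := by
    rw [h1]
    push_cast
    ring
  have h4 := mul_left_cancel₀ hK0 h3
  linear_combination h4

/-- The norm identity. -/
theorem norm_identity [Fintype B] [Fintype X] [Fintype T] [Fintype K] (h : FrobG q r K X T)
    {f g : B → ℂ} (hf : IsClassFunction B f) (hg : IsClassFunction B g) :
    (r : ℂ) * classInner f g = classInner (fun x : X => f x) (fun x : X => g x) +
      (r : ℂ) * classInner (fun x : T => f x) (fun x : T => g x) -
      classInner (fun x : K => f x) (fun x : K => g x) := by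
  have h1 := sum_identity h (isClassFunction_mul_conj hf hg)
  have hK0 : (Nat.card K : ℂ) ≠ 0 := Core.card_ne_zero_complex
  have hq := h.q_ge
  have hr := h.r_ge
  have hq0 : (q : ℂ) ≠ 0 := by
    have : q ≠ 0 := by omega
    exact_mod_cast this
  have hr0 : (r : ℂ) ≠ 0 := by
    have : r ≠ 0 := by omega
    exact_mod_cast this
  simp only [Core.classInner_def]
  rw [h1, h.card_B, h.card_X, h.card_T]
  push_cast
  field_simp
  ring

/-- The degree inequality. -/
theorem degree_ineq [Finite B] (h : FrobG q r K X T) {θ : K → ℂ} (hθ : IsIrrCharacter K θ)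
    (hinv : ∀ (g : B) (n : K), θ ⟨g * n * g⁻¹, h.normal.conj_mem n n.2 g⟩ = θ n)
    {η : B → ℂ} (hη : IsIrrCharacter B η) {d : ℕ} (hd : ∀ k : K, η k = d * θ k) :
    (q : ℤ) * r * (d - 1) ≤ ((q : ℤ) - 1) * (d : ℤ) ^ 2 := by
  classical
  let _ : Fintype B := Fintype.ofFinite _
  let _ : Fintype X := Fintype.ofFinite _
  let _ : Fintype T := Fintype.ofFinite _
  let _ : Fintype K := Fintype.ofFinite _
  have hq := h.q_ge
  have hr := h.r_ge
  have hKn := h.normal
  have hcl := Core.isIrr_isClassFunction hη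
  -- the norm on `K`
  have hKnorm : classInner (fun x : K => η x) (fun x : K => η x) = (d : ℂ) ^ 2 := by
    have h1 : (fun x : K => η x) = (d : ℂ) • θ := by
      funext k
      rw [hd k]
      simp
    rw [h1, Core.classInner_smul_left, Core.classInner_smul_right, Core.classInner_irr_self hθ,
      map_natCast]
    ring
  -- the norm on `T`
  have hKT : (K.subgroupOf T).Normal := inferInstance
  let e : K.subgroupOf T ≃* K := Subgroup.subgroupOfEquivOfLe h.K_le_T
  obtain ⟨S, hS, hdS⟩ := le_norm (K.subgroupOf T) (h.cyc hKT)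
    (θ := fun k => θ (e k)) (Core.isIrr_comp e.toMonoidHom e.surjective hθ)
    (fun g n => hinv (g : B) (e n))
    (Ψ := fun x : T => η x)
    (Core.isCharacter_comp T.subtype (Core.isIrr_isCharacter hη)) (d := d)
    (fun k => hd (e k))
  -- the norm on `X`
  obtain ⟨N, hN⟩ := Core.classInner_isNat
    (Core.isCharacter_comp X.subtype (Core.isIrr_isCharacter hη))
    (Core.isCharacter_comp X.subtype (Core.isIrr_isCharacter hη))
  have hNX : classInner (fun x : X => η x) (fun x : X => η x) = N := hN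
  have hid := norm_identity h hcl hcl
  rw [Core.classInner_irr_self hη, hNX, hS, hKnorm] at hid
  -- `N_X ≥ d² / q`
  have hNge : d ^ 2 ≤ q * N := by
    have h1 := norm_eq_sum_normSq (fun x : X => η x)
    have h2 := norm_eq_sum_normSq (fun x : K => η x)
    rw [hNX] at h1
    rw [hKnorm] at h2
    have h1' : (N : ℝ) = (Nat.card X : ℝ)⁻¹ * ∑ x : X, ‖η x‖ ^ 2 := by exact_mod_cast h1
    have h2' : (d : ℝ) ^ 2 = (Nat.card K : ℝ)⁻¹ * ∑ x : K, ‖η x‖ ^ 2 := by exact_mod_cast h2
    have h3 : ∑ x : K, ‖η x‖ ^ 2 ≤ ∑ x : X, ‖η x‖ ^ 2 := by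
      have h4 : ∑ x : K, ‖η x‖ ^ 2 =
          ∑ x ∈ Finset.univ.map ⟨Subgroup.inclusion h.K_le_X,
            Subgroup.inclusion_injective h.K_le_X⟩, ‖η (x : X)‖ ^ 2 := by
        rw [Finset.sum_map]
        rfl
      rw [h4]
      exact Finset.sum_le_sum_of_subset_of_nonneg (Finset.subset_univ _)
        fun _ _ _ => by positivity
    have hK0 : (0 : ℝ) < Nat.card K := by exact_mod_cast Nat.card_pos
    have hX0 : (Nat.card X : ℝ) = q * Nat.card K := by rw [h.card_X]; push_cast; rfl
    have hq0 : (0 : ℝ) < q := by exact_mod_cast (by omega : 0 < q)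
    have h5 : (d : ℝ) ^ 2 ≤ q * N := by
      rw [h2', h1', hX0]
      have h6 : (q : ℝ) * ((q * Nat.card K : ℝ)⁻¹ * ∑ x : X, ‖η x‖ ^ 2) =
          (Nat.card K : ℝ)⁻¹ * ∑ x : X, ‖η x‖ ^ 2 := by
        field_simp
      rw [h6]
      exact mul_le_mul_of_nonneg_left h3 (by positivity)
    exact_mod_cast h5
  have hidZ : (r : ℤ) = N + (r : ℤ) * S - d ^ 2 := by
    have : ((r : ℤ) : ℂ) = ((N + (r : ℤ) * S - d ^ 2 : ℤ) : ℂ) := by
      push_cast
      linear_combination hid
    exact_mod_cast this
  have hdS' : (d : ℤ) ≤ S := by exact_mod_cast hdS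
  have hNge' : (d : ℤ) ^ 2 ≤ q * N := by exact_mod_cast hNge
  have hq' : (0 : ℤ) ≤ q := by positivity
  have hr' : (0 : ℤ) ≤ r := by positivity
  have h1 : (N : ℤ) = r - r * S + d ^ 2 := by linarith
  rw [h1] at hNge'
  have h2 : (q : ℤ) * r * (d - 1) ≤ q * r * (S - 1) :=
    mul_le_mul_of_nonneg_left (by linarith) (mul_nonneg hq' hr')
  nlinarith

/-- A character of degree less than `r` whose kernel contains `K` has `X` in its kernel. -/
theorem ker_of_lt [Finite B] (h : FrobG q r K X T) {f : B → ℂ} (hf : IsCharacter B f)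
    (hK : ∀ k ∈ K, f k = f 1) {n : ℕ} (hn : f 1 = n) (hnr : n < r) : ∀ x ∈ X, f x = f 1 := by
  classical
  let _ : Fintype B := Fintype.ofFinite _
  let _ : Fintype X := Fintype.ofFinite _
  let _ : Fintype T := Fintype.ofFinite _
  let _ : Fintype K := Fintype.ofFinite _
  have hid := norm_identity h (Core.isCharacter_isClassFunction hf)
    (Core.isCharacter_isClassFunction (Core.isCharacter_one (G := B)))
  obtain ⟨a, ha⟩ := Core.classInner_isNat hf (Core.isCharacter_one (G := B))
  obtain ⟨b, hb⟩ := Core.classInner_isNat (Clifford.isCharacter_restrict T hf)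
    (Clifford.isCharacter_restrict T (Core.isCharacter_one (G := B)))
  obtain ⟨c, hc⟩ := Core.classInner_isNat (Clifford.isCharacter_restrict X hf)
    (Clifford.isCharacter_restrict X (Core.isCharacter_one (G := B)))
  have hKn : classInner (fun x : K => f x) (fun x : K => (1 : B → ℂ) x) = n := by
    rw [Core.classInner_def]
    have h1 : ∀ k : K, f k * conj ((1 : B → ℂ) k) = n := by
      intro k
      rw [hK k k.2, hn, Pi.one_apply, map_one, mul_one]
    rw [Finset.sum_congr rfl fun k _ => h1 k, Finset.sum_const, Finset.card_univ, nsmul_eq_mul,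
      ← Nat.card_eq_fintype_card, ← mul_assoc, inv_mul_cancel₀ Core.card_ne_zero_complex, one_mul]
  rw [ha, hb, hc, hKn] at hid
  have hX0 : (Nat.card X : ℂ) ≠ 0 := Core.card_ne_zero_complex
  have hsum : ∑ x : X, f x = Nat.card X * (c : ℂ) := by
    rw [← hc, Core.classInner_def, ← mul_assoc, mul_inv_cancel₀ hX0, one_mul]
    refine Finset.sum_congr rfl fun x _ => ?_
    rw [Pi.one_apply, map_one, mul_one]
  have hcn : c ≤ n := by
    have h1 : ‖∑ x : X, f x‖ ≤ ∑ _x : X, (n : ℝ) := by
      refine (norm_sum_le _ _).trans (Finset.sum_le_sum fun x _ => ?_)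
      obtain ⟨m, ρ, rfl⟩ := hf
      have h2 := Values.norm_character_le ρ (x : B)
      rw [Representation.char_one] at hn
      have h3 : (Module.finrank ℂ (Fin m → ℂ) : ℝ) = n := by exact_mod_cast hn
      rwa [h3] at h2
    rw [hsum, norm_mul, Complex.norm_natCast, Complex.norm_natCast, Finset.sum_const,
      Finset.card_univ, nsmul_eq_mul, ← Nat.card_eq_fintype_card] at h1
    have h2 : (0 : ℝ) < Nat.card X := by exact_mod_cast Nat.card_pos
    have h3 := le_of_mul_le_mul_left h1 h2
    exact_mod_cast h3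
  have hidZ : (r : ℤ) * a = c + (r : ℤ) * b - n := by
    have : (((r : ℤ) * a : ℤ) : ℂ) = ((c + (r : ℤ) * b - n : ℤ) : ℂ) := by
      push_cast
      linear_combination hid
    exact_mod_cast this
  have hceq : c = n := by
    have h1 : (r : ℤ) * (b - a) = n - c := by linarith
    have h2 : (0 : ℤ) ≤ n - c := by
      have : (c : ℤ) ≤ n := by exact_mod_cast hcn
      linarith
    have h3 : (n : ℤ) - c < r := by
      have : (n : ℤ) < r := by exact_mod_cast hnr
      have : (0 : ℤ) ≤ c := by positivity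
      linarith
    have h4 : (b : ℤ) - a = 0 := by
      have hr0 : (0 : ℤ) < r := by
        have := h.r_ge
        omega
      rw [← h1] at h2 h3
      have h5 : 0 ≤ (b : ℤ) - a := nonneg_of_mul_nonneg_right h2 hr0
      have h6 : (b : ℤ) - a < 1 := by
        by_contra h7
        push Not at h7
        nlinarith
      omega
    rw [h4, mul_zero] at h1
    have h5 : (n : ℤ) = c := by linarith
    exact_mod_cast h5.symm
  intro x hx
  refine Inertia.eq_of_avg hf (fun x : X => (x : B)) ?_ ⟨x, hx⟩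
  rw [hsum, hceq, hn, Nat.card_eq_fintype_card]

/-- A subgroup of index less than `r` containing `K` contains `X`. -/
theorem le_of_index_lt [Finite B] (h : FrobG q r K X T) {B₀ : Subgroup B} (hK : K ≤ B₀)
    (hi : B₀.index < r) : X ≤ B₀ := by
  classical
  let _ : Fintype B := Fintype.ofFinite _
  let _ : Fintype (B ⧸ B₀) := Fintype.ofFinite _
  have hf : IsCharacter B (Cfsg.permRep ℂ B (B ⧸ B₀)).character :=
    PermutationGroups.PermChar.isCharacter_of_rep _
  have hval : ∀ b : B, (∀ x : B ⧸ B₀, b • x = x) →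
      (Cfsg.permRep ℂ B (B ⧸ B₀)).character b = (B₀.index : ℂ) := by
    intro b hb
    rw [PermutationGroups.PermChar.permRep_character]
    congr 1
    show Nat.card (MulAction.fixedBy (B ⧸ B₀) b) = Nat.card (B ⧸ B₀)
    have h1 : MulAction.fixedBy (B ⧸ B₀) b = Set.univ := Set.eq_univ_of_forall fun x => hb x
    rw [h1, Nat.card_congr (Equiv.Set.univ _)]
  have h1 : (Cfsg.permRep ℂ B (B ⧸ B₀)).character 1 = (B₀.index : ℂ) :=
    hval 1 fun x => one_smul _ x
  have h2 : ∀ k ∈ K, (Cfsg.permRep ℂ B (B ⧸ B₀)).character k =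
      (Cfsg.permRep ℂ B (B ⧸ B₀)).character 1 := by
    intro k hk
    rw [h1]
    refine hval k fun x => ?_
    induction x using QuotientGroup.induction_on with
    | H g =>
      show ((k * g : B) : B ⧸ B₀) = (g : B ⧸ B₀)
      rw [eq_comm, QuotientGroup.eq]
      have h3 := h.normal.conj_mem k hk g⁻¹
      refine hK ?_
      have h4 : g⁻¹ * k * g⁻¹⁻¹ = g⁻¹ * (k * g) := by group
      rwa [h4] at h3
  intro x hx
  have h3 := ker_of_lt h hf h2 h1 hi x hx
  rw [PermutationGroups.PermChar.permRep_character, h1] at h3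
  have h4 : Nat.card (MulAction.fixedBy (B ⧸ B₀) x) = Nat.card (B ⧸ B₀) := by
    have : B₀.index = Nat.card (B ⧸ B₀) := rfl
    rw [← this]
    exact_mod_cast h3
  have h5 : MulAction.fixedBy (B ⧸ B₀) x = Set.univ := by
    refine Set.eq_of_subset_of_ncard_le (Set.subset_univ _) ?_ (Set.toFinite _)
    rw [Set.ncard_univ, ← h4]
    exact le_of_eq rfl
  have h6 : x • ((1 : B) : B ⧸ B₀) = ((1 : B) : B ⧸ B₀) := by
    have : ((1 : B) : B ⧸ B₀) ∈ MulAction.fixedBy (B ⧸ B₀) x := by
      rw [h5]
      exact Set.mem_univ _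
    exact this
  have h7 : ((x * 1 : B) : B ⧸ B₀) = ((1 : B) : B ⧸ B₀) := h6
  rw [eq_comm, QuotientGroup.eq] at h7
  simpa using h7

end Frobenius

end Cfsg.Agent.Classification.QDW.FrobGen
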