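import Mathlib
import Cfsg.Prelude.Def_Characters
import Cfsg.Agent.Characters.Core
import Cfsg.Agent.Characters.Clifford
import Cfsg.Agent.Characters.DegreeBounds
import Cfsg.Agent.Classification.QDW.CoreConst
import Cfsg.Agent.Classification.QDW.GlauberTwo
import Cfsg.Agent.Classification.QDW.FrobGen
import Cfsg.Agent.Classification.QDW.BigDeg

/-!
# The minimal degree of a character with `t = -1`

* `BigG`: a group `Λ` with a normal subgroup `K` of odd order, a central involution `t` and a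
  Frobenius group `B / K ⟨t⟩` of order `q r`;
* `exists_two`: if `ψ` is irreducible and `ψ = d lam` on `K` with `d ≥ 2`, then there is
  `2 ≤ m ≤ d` with `q r (m - 1) ≤ (q - 1) m ^ 2`;
* `not_neg_of_odd`: a character of odd degree does not take the value `-ψ(1)` at a commutator;
* `min_degree`: in the situation of `Big` with `q` odd, `q ≠ 7`, an irreducible character `ψ` with
  `ψ(t) = -ψ(1)` has degree at least `q - 1`;
* `L_le_of_index_lt`: a subgroup of index less than `q - 1` containing `K` and `t` contains `L`;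
* `index_mul_le_mult`: the degree of a character containing `lam` with a given multiplicity.
-/

set_option autoImplicit false
set_option linter.unusedSectionVars false

namespace Cfsg.Agent.Classification.QDW.MinDeg

open Cfsg Cfsg.Agent.Characters Cfsg.Agent.Classification.QDW.Coef
open Cfsg.Agent.Classification.QDW.Inertia Cfsg.Agent.Classification.QDW.GlauberTwo
open Cfsg.Agent.Classification.QDW.BigDeg Cfsg.Agent.Classification.QDW.FrobGen
open scoped ComplexConjugate

universe u v

section General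

variable {Λ : Type u} [Group Λ] {B : Type v} [Group B]

/-- The general form of the hypotheses. -/
structure BigG (q r : ℕ) (f : B →* Λ) (K : Subgroup Λ) (K₁ X T : Subgroup B) (t : Λ) : Prop where
  normal : K.Normal
  oddK : Odd (Nat.card K)
  tt : t * t = 1
  t_ne : t ≠ 1
  t_comm : ∀ x, Commute t x
  inj : Function.Injective f
  KB : K ≤ f.range
  tB : t ∈ f.range
  mem : ∀ b : B, b ∈ K₁ ↔ (f b ∈ K ∨ t * f b ∈ K)
  frob : FrobG q r K₁ X T
  gen : ∀ N : Subgroup Λ, N.Normal → (∀ x ∈ X, f x ∈ N) → N.index ≤ 2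

variable {q r : ℕ} {f : B →* Λ} {K : Subgroup Λ} {K₁ X T : Subgroup B} {t : Λ}

/-- The embedding of `K` in `B`. -/
noncomputable def embB (h : BigG q r f K K₁ X T t) : K →* B :=
  (MonoidHom.ofInjective h.inj).symm.toMonoidHom.comp (Subgroup.inclusion h.KB)

theorem f_embB (h : BigG q r f K K₁ X T t) (k : K) : f (embB h k) = k := by
  have h1 := (MonoidHom.ofInjective h.inj).apply_symm_apply (Subgroup.inclusion h.KB k)
  exact congrArg Subtype.val h1

theorem embB_mem (h : BigG q r f K K₁ X T t) (k : K) : embB h k ∈ K₁ := by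
  rw [h.mem, f_embB]
  exact Or.inl k.2

/-- The embedding of `K` in `K₁`. -/
noncomputable def embG (h : BigG q r f K K₁ X T t) : K →* K₁ :=
  (embB h).codRestrict K₁ (embB_mem h)

theorem f_embG (h : BigG q r f K K₁ X T t) (k : K) : f (embG h k : K₁) = k := f_embB h k

theorem embG_injective (h : BigG q r f K K₁ X T t) : Function.Injective (embG h) := by
  intro a b hab
  apply Subtype.ext
  rw [← f_embG h a, ← f_embG h b, hab]

theorem mem_range_embG (h : BigG q r f K K₁ X T t) {x : K₁} :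
    x ∈ (embG h).range ↔ f (x : B) ∈ K := by
  constructor
  · rintro ⟨k, rfl⟩
    rw [f_embG]
    exact k.2
  · intro hx
    refine ⟨⟨_, hx⟩, Subtype.ext (h.inj ?_)⟩
    rw [f_embG]

/-- The involution in `K₁`. -/
noncomputable def tG (h : BigG q r f K K₁ X T t) : K₁ :=
  ⟨h.tB.choose, (h.mem _).2 (Or.inr (by
    rw [h.tB.choose_spec, h.tt]
    exact K.one_mem))⟩

theorem f_tG (h : BigG q r f K K₁ X T t) : f (tG h : K₁) = t := h.tB.choose_spec

theorem t_not_mem' (h : BigG q r f K K₁ X T t) : t ∉ K := by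
  intro ht
  obtain ⟨k, hk⟩ := h.oddK
  have h1 : t ^ Nat.card K = 1 := congrArg Subtype.val (pow_card_eq_one' (x := (⟨t, ht⟩ : K)))
  rw [hk, pow_succ, pow_mul, sq, h.tt, one_pow, one_mul] at h1
  exact h.t_ne h1

theorem setupG (h : BigG q r f K K₁ X T t) : Setup (embG h).range (tG h) where
  normal := by
    constructor
    intro n hn g
    rw [mem_range_embG] at hn ⊢
    have := h.normal.conj_mem _ hn (f (g : B))
    rwa [← map_inv, ← map_mul, ← map_mul] at this
  odd := by
    rw [← Nat.card_congr (MonoidHom.ofInjective (embG_injective h)).toEquiv]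
    exact h.oddK
  sq := by
    apply Subtype.ext
    apply h.inj
    show f ((tG h : B) * (tG h : B)) = f 1
    rw [map_mul, f_tG, h.tt, map_one]
  not_mem := fun h1 => t_not_mem' h (by
    have h2 := (mem_range_embG h).1 h1
    rwa [f_tG] at h2)
  cover := by
    intro x hx
    rw [mem_range_embG] at hx ⊢
    have h1 := ((h.mem x).1 x.2).resolve_left hx
    show f ((tG h : B) * (x : B)) ∈ K
    rwa [map_mul, f_tG]

theorem tG_comm (h : BigG q r f K K₁ X T t) (x : K₁) : Commute (tG h) x := by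
  apply Subtype.ext
  apply h.inj
  show f ((tG h : B) * (x : B)) = f ((x : B) * (tG h : B))
  rw [map_mul, map_mul, f_tG, (h.t_comm _).eq]

variable [Finite Λ] [Finite B]

/-- An irreducible character of `K₁` is irreducible on `K`. -/
theorem irr_embG (h : BigG q r f K K₁ X T t) {μ : K₁ → ℂ} (hμ : IsIrrCharacter K₁ μ) :
    IsIrrCharacter K (fun k => μ (embG h k)) := by
  classical
  let _ : Fintype K₁ := Fintype.ofFinite _
  let _ : Fintype (embG h).range := Fintype.ofFinite _
  obtain ⟨ω, hω, hω'⟩ := central_sign (setupG h).sq (tG_comm h) hμ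
  have hne : μ ≠ μ * sgn (embG h).range := by
    intro h1
    have h2 := congrFun h1 (tG h)
    rw [Pi.mul_apply, sgn_of_not_mem (setupG h).not_mem] at h2
    have h3 : μ (tG h) = 0 := by linear_combination h2 / 2
    have h4 := hω' 1
    rw [mul_one, h3] at h4
    rcases hω with h5 | h5 <;> rw [h5] at h4
    · exact Core.isIrr_apply_one_ne_zero hμ (by linear_combination -h4)
    · exact Core.isIrr_apply_one_ne_zero hμ (by linear_combination h4)
  have hcl := Core.isIrr_isClassFunction hμ
  have hY : IsIrrCharacter (embG h).range (fun y => μ y) := by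
    refine Core.isIrr_of_classInner_self (Core.isCharacter_comp (embG h).range.subtype
      (Core.isIrr_isCharacter hμ)) ?_
    rw [← classInner_add_sgn (setupG h) hcl hcl, Core.classInner_irr_self hμ,
      Core.classInner_irr_ne hμ (isIrr_mul_sgn (setupG h) hμ) hne, add_zero]
  exact Core.isIrr_comp (embG h).rangeRestrict (embG h).rangeRestrict_surjective hY

/-- The character of `K₁`. -/
theorem exists_muG (h : BigG q r f K K₁ X T t) {lam : K → ℂ} (hlam : IsIrrCharacter K lam)
    {ψ : Λ → ℂ} (hψ : IsIrrCharacter Λ ψ) {d : ℕ} (hd : ∀ k : K, ψ k = d * lam k) :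
    ∃ μ : K₁ → ℂ, IsIrrCharacter K₁ μ ∧ (∀ x : K₁, ψ (f (x : B)) = d * μ x) ∧
      ∀ k, μ (embG h k) = lam k := by
  classical
  let _ : Fintype K₁ := Fintype.ofFinite _
  obtain ⟨τ, hτ, hτ'⟩ := central_sign h.tt h.t_comm hψ
  have hψ₁ : IsCharacter K₁ (fun x : K₁ => ψ (f (x : B))) :=
    Core.isCharacter_comp (f.comp K₁.subtype) (Core.isIrr_isCharacter hψ)
  obtain ⟨μ, χ, hμ, hχ, hadd, -⟩ := exists_constituent (LinearMap.proj (1 : K₁)) hψ₁ (by
    show ψ (f ((1 : K₁) : B)) ≠ 0
    have : f ((1 : K₁) : B) = 1 := map_one f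
    rw [this]
    exact Core.isIrr_apply_one_ne_zero hψ)
  obtain ⟨ω, hω, hω'⟩ := central_sign (setupG h).sq (tG_comm h) hμ
  have hψt : ∀ x : K₁, ψ (f ((tG h * x : K₁) : B)) = τ * ψ (f (x : B)) := by
    intro x
    have h1 : f ((tG h * x : K₁) : B) = t * f (x : B) := by
      show f ((tG h : B) * (x : B)) = _
      rw [map_mul, f_tG]
    rw [h1, hτ']
  have hτω : τ = ω := by
    refine sign_eq_of_mul hτ hω ?_
    have h1 := classInner_shift (tG h) (f := fun x : K₁ => ψ (f (x : B))) (g := μ) (τ := τ)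
      (ω := ω) hψt hω'
    have h2 := inner_ne_zero_of_add hμ hχ hadd
    exact (mul_eq_right₀ h2).1 h1.symm
  have hK := irr_embG h hμ
  obtain ⟨m, hm⟩ := exists_mult_of_add hlam (Core.isIrr_isCharacter hK)
    (Core.isCharacter_comp (embG h) hχ) (d := d) (fun k => by
      rw [← hd k]
      have h1 := (congrFun hadd (embG h k)).symm
      rw [f_embG] at h1
      exact h1)
  have hKlam := eq_of_mult hlam hK hm
  refine ⟨μ, hμ, ?_, fun k => congrFun hKlam k⟩
  have h1 : ∀ x : K₁, f (x : B) ∈ K → ψ (f (x : B)) = d * μ x := by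
    intro x hx
    have h2 := hd ⟨_, hx⟩
    rw [← congrFun hKlam ⟨_, hx⟩] at h2
    have h3 : embG h ⟨f (x : B), hx⟩ = x := by
      apply Subtype.ext
      apply h.inj
      rw [f_embG]
    rw [h3] at h2
    exact h2
  intro x
  rcases (h.mem x).1 x.2 with hx | hx
  · exact h1 x hx
  · have h2 := h1 (tG h * x) (by
      show f ((tG h : B) * (x : B)) ∈ K
      rwa [map_mul, f_tG])
    rw [hω' x, hψt, hτω] at h2
    rcases hω with h5 | h5 <;> rw [h5] at h2
    · linear_combination h2
    · linear_combination -h2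

/-- **Nontrivial constituents.** -/
theorem exists_two (h : BigG q r f K K₁ X T t) {lam : K → ℂ} (hlam : IsIrrCharacter K lam)
    {ψ : Λ → ℂ} (hψ : IsIrrCharacter Λ ψ) {d : ℕ} (hd2 : 2 ≤ d)
    (hdK : ∀ k : K, ψ k = d * lam k) :
    ∃ m : ℕ, 2 ≤ m ∧ m ≤ d ∧ (q : ℤ) * r * (m - 1) ≤ ((q : ℤ) - 1) * (m : ℤ) ^ 2 := by
  classical
  by_contra hcon
  push Not at hcon
  let _ : Fintype Λ := Fintype.ofFinite _
  let _ : Fintype B := Fintype.ofFinite _
  let _ : Fintype K₁ := Fintype.ofFinite _
  let _ : Fintype X := Fintype.ofFinite _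
  let _ : Fintype T := Fintype.ofFinite _
  let _ : Fintype K := Fintype.ofFinite _
  have := Core.finite_irr (G := B)
  let _ : Fintype (IrrCharacter B) := Fintype.ofFinite _
  have hr := h.frob.r_ge
  obtain ⟨μ, hμ, hd, hμlam⟩ := exists_muG h hlam hψ hdK
  have hd0 : d ≠ 0 := by omega
  have hμ1 : μ 1 ≠ 0 := Core.isIrr_apply_one_ne_zero hμ
  have hψB : IsCharacter B (fun b : B => ψ (f b)) :=
    Core.isCharacter_comp f (Core.isIrr_isCharacter hψ)
  -- all the constituents are extensions of `μ`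
  have h1 : ∀ η χ : B → ℂ, IsIrrCharacter B η → IsCharacter B χ →
      (∀ b : B, ψ (f b) = η b + χ b) → ∀ x : K₁, η x = μ x := by
    intro η χ hη hχ hadd
    obtain ⟨m, hm⟩ := exists_mult_of_add hμ (Clifford.isCharacter_restrict K₁
      (Core.isIrr_isCharacter hη)) (Clifford.isCharacter_restrict K₁ hχ) (d := d)
      (fun x => by rw [← hd x, hadd])
    have hinv : ∀ (g : B) (n : K₁), μ ⟨g * n * g⁻¹, h.frob.normal.conj_mem n n.2 g⟩ = μ n := by
      intro g n
      have e1 : ψ (f (g * n * g⁻¹)) = ψ (f (n : B)) := by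
        rw [map_mul, map_mul, map_inv]
        exact Core.isIrr_isClassFunction hψ (f (n : B)) (f g)
      have e2 := hd ⟨g * n * g⁻¹, h.frob.normal.conj_mem n n.2 g⟩
      rw [show ((⟨g * n * g⁻¹, h.frob.normal.conj_mem n n.2 g⟩ : K₁) : B) = g * n * g⁻¹ from rfl,
        e1, hd n] at e2
      exact (mul_left_cancel₀ (Nat.cast_ne_zero.2 hd0) e2).symm
    have hm0 : m ≠ 0 := by
      rintro rfl
      have e1 := hm 1
      rw [Nat.cast_zero, zero_mul] at e1
      exact Core.isIrr_apply_one_ne_zero hη e1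
    have hmd : m ≤ d := by
      obtain ⟨c, hc⟩ := Core.isCharacter_apply_one hχ
      obtain ⟨a, ha0, ha⟩ := Core.isIrr_apply_one hμ
      have e1 := hadd 1
      have e2 := hd 1
      have e3 := hm 1
      have e4 : ψ (f ((1 : K₁) : B)) = ψ (f 1) := rfl
      have e5 : η ((1 : K₁) : B) = η 1 := rfl
      rw [e4, e1] at e2
      rw [e5] at e3
      rw [e3, hc, ha] at e2
      have e6 : m * a + c = d * a := by exact_mod_cast e2
      by_contra e7
      push Not at e7
      have e8 : d * a < m * a := Nat.mul_lt_mul_of_pos_right e7 ha0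
      omega
    have hineq := degree_ineq h.frob hμ hinv hη hm
    have hm1 : m = 1 := by
      by_contra e1
      have e2 := hcon m (by omega) hmd
      linarith
    intro x
    rw [hm, hm1, Nat.cast_one, one_mul]
  obtain ⟨n, hn⟩ := Core.exists_nat_comb hψB
  have h2 : ∀ η : IrrCharacter B, n η ≠ 0 → ∀ x : K₁, (η : B → ℂ) x = μ x := by
    intro η hη
    have h3 : classInner (fun b : B => ψ (f b)) (η : B → ℂ) ≠ 0 := by
      rw [hn, Core.classInner_sum_nsmul_irr]
      exact Nat.cast_ne_zero.2 hη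
    obtain ⟨χ, hχ, hadd⟩ := exists_add_of_classInner hψB η.2 h3
    exact h1 η χ η.2 hχ fun b => congrFun hadd b
  have hXirr : ∀ η : B → ℂ, IsIrrCharacter B η → (∀ x : K₁, η x = μ x) →
      IsIrrCharacter X (fun x : X => η x) := by
    intro η hη hημ
    refine irr_of_comp_irr (Subgroup.inclusion h.frob.K_le_X)
      (Clifford.isCharacter_restrict X (Core.isIrr_isCharacter hη)) ?_
    have h3 : (fun x : K₁ => (fun x : X => η x) (Subgroup.inclusion h.frob.K_le_X x)) = μ :=
      funext fun x => hημ x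
    rw [h3]
    exact hμ
  have h3 : ∀ η η' : B → ℂ, IsIrrCharacter B η → IsIrrCharacter B η' → (∀ x : K₁, η x = μ x) →
      (∀ x : K₁, η' x = μ x) → ∀ x : X, η x = η' x := by
    intro η η' hη hη' hμη hμη' x
    by_contra hne
    have h4 := Core.classInner_irr_ne (hXirr η hη hμη) (hXirr η' hη' hμη')
      (fun h5 => hne (congrFun h5 x))
    have h5 := norm_identity h.frob (Core.isIrr_isClassFunction hη)
      (Core.isIrr_isClassFunction hη')
    obtain ⟨a, ha⟩ := Core.classInner_isNat (Core.isIrr_isCharacter hη)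
      (Core.isIrr_isCharacter hη')
    obtain ⟨b, hb⟩ := Core.classInner_isNat
      (Clifford.isCharacter_restrict T (Core.isIrr_isCharacter hη))
      (Clifford.isCharacter_restrict T (Core.isIrr_isCharacter hη'))
    have h6 : classInner (fun x : K₁ => η x) (fun x : K₁ => η' x) = 1 := by
      rw [funext hμη, funext hμη', Core.classInner_irr_self hμ]
    rw [h4, ha, hb, h6] at h5
    have h7 : (r : ℤ) * (b - a) = 1 := by
      have h8 : (((r : ℤ) * (b - a) : ℤ) : ℂ) = ((1 : ℤ) : ℂ) := by
        push_cast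
        linear_combination -h5
      exact_mod_cast h8
    have h8 : (r : ℤ) ∣ 1 := ⟨_, h7.symm⟩
    have h9 := Int.le_of_dvd one_pos h8
    omega
  -- `ψ` is a multiple of an irreducible character on `X`
  obtain ⟨η₀, χ₀, hη₀, hχ₀, hadd₀, -⟩ := exists_constituent (LinearMap.proj (1 : B)) hψB (by
    show ψ (f 1) ≠ 0
    rw [map_one]
    exact Core.isIrr_apply_one_ne_zero hψ)
  have hη₀μ := h1 η₀ χ₀ hη₀ hχ₀ fun b => congrFun hadd₀ b
  have h4 : ∀ x : X, ψ (f (x : B)) = (∑ η : IrrCharacter B, (n η : ℂ)) * η₀ x := by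
    intro x
    have h5 := congrFun hn (x : B)
    refine h5.trans ?_
    rw [Finset.sum_apply, Finset.sum_mul]
    refine Finset.sum_congr rfl fun η _ => ?_
    rw [Pi.smul_apply, nsmul_eq_mul]
    by_cases h6 : n η = 0
    · rw [h6, Nat.cast_zero, zero_mul, zero_mul]
    · rw [h3 η η₀ η.2 hη₀ (h2 η h6) hη₀μ x]
  have hDd : (∑ η : IrrCharacter B, (n η : ℂ)) = d := by
    have h5 := h4 1
    have h6 := hd 1
    have h8 : ψ (f ((1 : X) : B)) = ψ (f ((1 : K₁) : B)) := rfl
    rw [h8, h6] at h5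
    have h9 : η₀ ((1 : X) : B) = μ 1 := hη₀μ 1
    rw [h9] at h5
    exact (mul_right_cancel₀ hμ1 h5).symm
  have hX : classInner (fun x : X => ψ (f (x : B))) (fun x : X => ψ (f (x : B))) =
      (d : ℂ) ^ 2 := by
    have h5 : (fun x : X => ψ (f (x : B))) = (d : ℂ) • fun x : X => η₀ x := by
      funext x
      rw [h4, hDd]
      rfl
    rw [h5, Core.classInner_smul_left, Core.classInner_smul_right,
      Core.classInner_irr_self (hXirr η₀ hη₀ hη₀μ), map_natCast]
    ring
  -- the average of `|ψ|²` over the cosets of `K`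
  have hKN := h.normal
  have hΞ : IsCharacter Λ (fun x => ψ x * conj (ψ x)) :=
    Core.isCharacter_mul (Core.isIrr_isCharacter hψ)
      (Core.isCharacter_conj (Core.isIrr_isCharacter hψ))
  obtain ⟨Ξ, Ξ', hΞ0, -, -, havg, hfix, -⟩ := CoreConst.exists_fixed_moved K hΞ
  have hK0 : (Nat.card K : ℂ) ≠ 0 := Core.card_ne_zero_complex
  have hX0 : (Nat.card X : ℂ) ≠ 0 := Core.card_ne_zero_complex
  have hΞ1 : Ξ 1 = (d : ℂ) ^ 2 := by
    rw [havg]
    have hKirr : classInner (fun k : K => ψ k) (fun k : K => ψ k) = (d : ℂ) ^ 2 := by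
      have h5 : (fun k : K => ψ k) = (d : ℂ) • lam := by
        funext k
        rw [hdK]
        rfl
      rw [h5, Core.classInner_smul_left, Core.classInner_smul_right,
        Core.classInner_irr_self hlam, map_natCast]
      ring
    rw [← hKirr, Core.classInner_def]
    simp only [one_mul]
  -- the average over `X`
  have hsumX : ∑ x : X, Ξ (f (x : B)) = (Fintype.card X : ℂ) * Ξ 1 := by
    have h5 : ∑ x : X, Ξ (f (x : B)) =
        (Nat.card K : ℂ)⁻¹ * ∑ k : K, ∑ x : X, ψ (f (x : B) * k) * conj (ψ (f (x : B) * k)) := by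
      simp only [havg]
      rw [← Finset.mul_sum, Finset.sum_comm]
    have h6 : ∀ k : K, ∑ x : X, ψ (f (x : B) * k) * conj (ψ (f (x : B) * k)) =
        ∑ x : X, ψ (f (x : B)) * conj (ψ (f (x : B))) := by
      intro k
      have hkX : embB h k ∈ X := h.frob.K_le_X (embB_mem h k)
      refine Fintype.sum_equiv (Equiv.mulRight (⟨_, hkX⟩ : X)) _ _ fun x => ?_
      have e1 : f (((Equiv.mulRight (⟨_, hkX⟩ : X)) x : X) : B) = f (x : B) * k := by
        show f ((x : B) * embB h k) = _
        rw [map_mul, f_embB]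
      rw [e1]
    rw [h5, Finset.sum_congr rfl fun k _ => h6 k, Finset.sum_const, Finset.card_univ,
      nsmul_eq_mul, ← Nat.card_eq_fintype_card, ← Nat.card_eq_fintype_card, ← mul_assoc,
      inv_mul_cancel₀ hK0, one_mul, hΞ1, ← hX, Core.classInner_def, ← mul_assoc,
      mul_inv_cancel₀ hX0, one_mul]
  have hXker : ∀ x ∈ X, f x ∈ kerSub hΞ0 := fun x hx =>
    eq_of_avg hΞ0 (fun x : X => f (x : B)) hsumX ⟨x, hx⟩
  have hNi := h.gen _ (kerSub_normal hΞ0) hXker
  set N := kerSub hΞ0 with hN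
  let _ : Fintype N := Fintype.ofFinite _
  have hKN' : ∀ k : K, (k : Λ) ∈ N := by
    intro k
    rw [hN, mem_kerSub]
    have := hfix 1 k k.2
    rwa [one_mul] at this
  have hsumN : (Nat.card N : ℂ) * (d : ℂ) ^ 2 = ∑ x : N, ψ x * conj (ψ x) := by
    have h5 : ∑ x : N, Ξ (x : Λ) =
        (Nat.card K : ℂ)⁻¹ * ∑ k : K, ∑ x : N, ψ ((x : Λ) * k) * conj (ψ ((x : Λ) * k)) := by
      simp only [havg]
      rw [← Finset.mul_sum, Finset.sum_comm]
    have h6 : ∀ k : K, ∑ x : N, ψ ((x : Λ) * k) * conj (ψ ((x : Λ) * k)) =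
        ∑ x : N, ψ (x : Λ) * conj (ψ (x : Λ)) := by
      intro k
      exact Fintype.sum_equiv (Equiv.mulRight (⟨_, hKN' k⟩ : N)) _ _ fun x => rfl
    have h7 : ∑ x : N, Ξ (x : Λ) = Nat.card N * (d : ℂ) ^ 2 := by
      rw [Finset.sum_congr rfl fun x _ => mem_kerSub.1 x.2, Finset.sum_const,
        Finset.card_univ, nsmul_eq_mul, hΞ1, ← Nat.card_eq_fintype_card]
    rw [← h7, h5, Finset.sum_congr rfl fun k _ => h6 k, Finset.sum_const, Finset.card_univ,
      nsmul_eq_mul, ← Nat.card_eq_fintype_card, ← mul_assoc, inv_mul_cancel₀ hK0, one_mul]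
  have h5 : (Nat.card N : ℝ) * (d : ℝ) ^ 2 = ∑ x : N, ‖ψ x‖ ^ 2 := by
    have h6 : (((Nat.card N : ℝ) * (d : ℝ) ^ 2 : ℝ) : ℂ) = ((∑ x : N, ‖ψ x‖ ^ 2 : ℝ) : ℂ) := by
      push_cast
      rw [hsumN]
      refine Finset.sum_congr rfl fun x _ => ?_
      rw [Complex.mul_conj, Complex.normSq_eq_norm_sq]
      push_cast
      rfl
    exact_mod_cast h6
  have h6 : ∑ x : Λ, ‖ψ x‖ ^ 2 = Nat.card Λ := by
    have h7 := Core.classInner_irr_self hψ
    rw [FrobLift.norm_eq_sum_normSq] at h7
    have h8 : (Nat.card Λ : ℝ)⁻¹ * ∑ x : Λ, ‖ψ x‖ ^ 2 = 1 := by exact_mod_cast h7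
    have hC1 : (Nat.card Λ : ℝ) ≠ 0 := by exact_mod_cast Nat.card_pos.ne'
    field_simp at h8
    exact h8
  have h7 : ∑ x : N, ‖ψ x‖ ^ 2 ≤ ∑ x : Λ, ‖ψ x‖ ^ 2 := by
    have h8 : ∑ x : N, ‖ψ x‖ ^ 2 =
        ∑ x ∈ Finset.univ.map ⟨N.subtype, N.subtype_injective⟩, ‖ψ x‖ ^ 2 := by
      rw [Finset.sum_map]
      rfl
    rw [h8]
    exact Finset.sum_le_sum_of_subset_of_nonneg (Finset.subset_univ _)
      fun _ _ _ => by positivity
  have h8 : (Nat.card Λ : ℝ) ≤ 2 * Nat.card N := by
    have h9 := N.index_mul_card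
    have h10 : Nat.card Λ ≤ 2 * Nat.card N := by
      rw [← h9]
      exact Nat.mul_le_mul_right _ hNi
    exact_mod_cast h10
  have hL1 : (0 : ℝ) < Nat.card N := by exact_mod_cast Nat.card_pos
  rw [← h5, h6] at h7
  have h9 : (d : ℝ) ^ 2 ≤ 2 := by
    have h10 : (Nat.card N : ℝ) * (d : ℝ) ^ 2 ≤ Nat.card N * 2 := by linarith
    exact le_of_mul_le_mul_left h10 hL1
  have h10 : (2 : ℝ) ≤ d := by exact_mod_cast hd2
  nlinarith

end General

section Odd

/-- A character of odd degree does not take the value `-ψ(1)` at a power of a commutator. -/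
theorem not_neg_of_odd {Γ : Type u} [Group Γ] [Finite Γ] {ψ : Γ → ℂ} (hψ : IsCharacter Γ ψ)
    {n : ℕ} (hn : ψ 1 = n) (hodd : Odd n) {a b t : Γ}
    (ht : ∃ k : ℕ, (a * b * a⁻¹ * b⁻¹) ^ k = t) :
    ψ t ≠ -ψ 1 := by
  intro h
  obtain ⟨m, ρ, rfl⟩ := hψ
  rw [Representation.char_one] at hn h
  have hmn : Module.finrank ℂ (Fin m → ℂ) = n := by exact_mod_cast hn
  have h1 : ‖ρ.character t‖ = (Module.finrank ℂ (Fin m → ℂ) : ℝ) := by
    rw [h, norm_neg, Complex.norm_natCast]
  obtain ⟨w, hw⟩ := (Values.norm_character_eq_iff ρ t).1 h1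
  have h2 : ρ.character t = w * Module.finrank ℂ (Fin m → ℂ) := by
    rw [Representation.character, hw, map_smul]
    simp
  have hn0 : (n : ℂ) ≠ 0 := by
    obtain ⟨k, hk⟩ := hodd
    exact Nat.cast_ne_zero.2 (by omega)
  have hw1 : w = -1 := by
    rw [h, hmn] at h2
    have h3 : (-1 : ℂ) * n = w * n := by rw [← h2]; ring
    exact (mul_right_cancel₀ hn0 h3).symm
  have hdet : LinearMap.det (ρ t) = 1 := by
    obtain ⟨k, hk⟩ := ht
    rw [← hk]
    have h3 : ∀ g : Γ, LinearMap.det (ρ g) * LinearMap.det (ρ g⁻¹) = 1 := by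
      intro g
      rw [← map_mul, ← map_mul, mul_inv_cancel, map_one, map_one]
    have h4 : LinearMap.det (ρ (a * b * a⁻¹ * b⁻¹)) = 1 := by
      rw [map_mul, map_mul, map_mul, map_mul, map_mul, map_mul]
      calc LinearMap.det (ρ a) * LinearMap.det (ρ b) * LinearMap.det (ρ a⁻¹) *
            LinearMap.det (ρ b⁻¹)
          = (LinearMap.det (ρ a) * LinearMap.det (ρ a⁻¹)) *
            (LinearMap.det (ρ b) * LinearMap.det (ρ b⁻¹)) := by ring
        _ = 1 := by rw [h3, h3, one_mul]
    rw [map_pow, map_pow, h4, one_pow]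
  rw [hw, hw1, LinearMap.det_smul, LinearMap.det_id, mul_one, hmn, hodd.neg_one_pow] at hdet
  norm_num at hdet

/-- The degree of an irreducible character of a group of odd order is odd. -/
theorem odd_degree {Γ : Type u} [Group Γ] [Finite Γ] (hΓ : Odd (Nat.card Γ)) {ψ : Γ → ℂ}
    (hψ : IsIrrCharacter Γ ψ) {n : ℕ} (hn : ψ 1 = n) : Odd n := by
  obtain ⟨m, ρ, hρ, rfl⟩ := hψ
  have := hρ
  have h2 := Cfsg.Agent.Characters.DegreeBounds.finrank_dvd_card ρ
  rw [Representation.char_one] at hn
  have h3 : Module.finrank ℂ (Fin m → ℂ) = n := by exact_mod_cast hn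
  rw [h3] at h2
  exact Odd.of_dvd_nat hΓ h2

end Odd

section IndexTwo

variable {B : Type u} [Group B]

/-- The Frobenius data of a subgroup of index two. -/
theorem frobG_index_two [Finite B] {q r : ℕ} {K X T : Subgroup B} (h : FrobG q (2 * r) K X T)
    (hq : Odd q) (hr : 2 ≤ r) {M : Subgroup B} (hM : M.index = 2) (hK : K ≤ M) :
    X ≤ M ∧ FrobG q r (K.subgroupOf M) (X.subgroupOf M) (T.subgroupOf M) := by
  classical
  have hMn : M.Normal := Subgroup.normal_of_index_eq_two hM
  have hKn := h.normal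
  have hXn := h.normal_X
  have hXM : X ≤ M := by
    intro x hx
    by_contra hxM
    obtain ⟨k, hk⟩ := hq
    -- `x ^ q ∈ K`
    have h1 : x ^ q ∈ K := by
      have h2 : (K.subgroupOf X).index = q := by
        have h3 := (K.subgroupOf X).index_mul_card
        rw [Nat.card_congr (Subgroup.subgroupOfEquivOfLe h.K_le_X).toEquiv, h.card_X] at h3
        exact Nat.eq_of_mul_eq_mul_right Nat.card_pos h3
      have h4 := Subgroup.pow_index_mem (K.subgroupOf X) (⟨x, hx⟩ : X)
      rw [h2] at h4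
      exact h4
    have h2 : x ^ (2 * k) ∈ M := by
      rw [pow_mul]
      exact M.pow_mem (by
        rw [sq]
        exact (Subgroup.mul_mem_iff_of_index_two hM).2 Iff.rfl) _
    have h3 : x ^ q ∈ M := hK h1
    rw [hk, pow_succ] at h3
    exact hxM ((M.mul_mem_cancel_left h2).1 h3)
  have hTM : ¬ T ≤ M := by
    intro hTM
    obtain ⟨b, hb⟩ : ∃ b, b ∉ M := by
      by_contra hcon
      push Not at hcon
      have : M = ⊤ := eq_top_iff.2 fun x _ => hcon x
      rw [this, Subgroup.index_top] at hM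
      omega
    let _ : Fintype B := Fintype.ofFinite _
    have h1 := cnt_of_notMem h (b := b) (fun h2 => hb (hXM h2))
    have h2 : (Finset.univ.filter fun x : B => x ∈ X ∧ x⁻¹ * b * x ∈ T ∧ x⁻¹ * b * x ∉ K).card ≠ 0 := by
      intro h3
      unfold cnt at h1
      have h4 : Nat.card K ≠ 0 := Nat.card_pos.ne'
      apply h4
      rw [← h1]
      convert h3
    obtain ⟨x, hx⟩ := Finset.card_pos.1 (Nat.pos_of_ne_zero h2)
    rw [Finset.mem_filter] at hx
    obtain ⟨-, hxX, hxT, -⟩ := hx
    have h3 := hMn.conj_mem _ (hTM hxT) x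
    have h4 : x * (x⁻¹ * b * x) * x⁻¹ = b := by group
    rw [h4] at h3
    exact hb h3
  have hcK : Nat.card (K.subgroupOf M) = Nat.card K :=
    Nat.card_congr (Subgroup.subgroupOfEquivOfLe hK).toEquiv
  have hcX : Nat.card (X.subgroupOf M) = Nat.card X :=
    Nat.card_congr (Subgroup.subgroupOfEquivOfLe hXM).toEquiv
  have hcT : 2 * Nat.card (T.subgroupOf M) = Nat.card T := by
    have h1 : (M.subgroupOf T).index = 2 := by
      have h2 : M.relIndex T ∣ M.index := Subgroup.relIndex_dvd_index_of_normal M T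
      rw [hM] at h2
      rcases (Nat.dvd_prime Nat.prime_two).1 h2 with h3 | h3
      · exact absurd (Subgroup.relIndex_eq_one.1 h3) hTM
      · exact h3
    have h2 := (M.subgroupOf T).index_mul_card
    rw [h1] at h2
    rw [← h2]
    congr 1
    refine Nat.card_congr ⟨fun x => ⟨⟨x.1.1, x.2⟩, x.1.2⟩, fun x => ⟨⟨x.1.1, x.2⟩, x.1.2⟩,
      fun x => rfl, fun x => rfl⟩
  refine ⟨hXM, ?_⟩
  refine
    { normal := inferInstance
      normal_X := inferInstance
      K_le_X := fun x hx => h.K_le_X hx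
      K_le_T := fun x hx => h.K_le_T hx
      inf := fun x hx hx' => h.inf _ hx hx'
      card_X := by rw [hcX, hcK, h.card_X]
      card_T := by
        rw [hcK]
        have h1 := h.card_T
        rw [← hcT] at h1
        have h2 : 2 * Nat.card (T.subgroupOf M) = 2 * (r * Nat.card K) := by rw [h1]; ring
        exact Nat.eq_of_mul_eq_mul_left two_pos h2
      card_B := by
        rw [hcK]
        have h1 := M.index_mul_card
        rw [hM, h.card_B] at h1
        have h2 : 2 * Nat.card M = 2 * (q * r * Nat.card K) := by rw [h1]; ring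
        exact Nat.eq_of_mul_eq_mul_left two_pos h2
      tI := fun x hx g hg hxg => h.tI _ hx _ hg hxg
      cyc := ?_
      r_ge := hr
      q_ge := h.q_ge }
  intro hn
  have hn' : (K.subgroupOf T).Normal := inferInstance
  have hcyc := h.cyc hn'
  -- the embedding of the quotients
  let g : T.subgroupOf M →* T :=
    { toFun := fun x => ⟨x.1.1, x.2⟩
      map_one' := rfl
      map_mul' := fun _ _ => rfl }
  let F : T.subgroupOf M →* T ⧸ K.subgroupOf T := (QuotientGroup.mk' (K.subgroupOf T)).comp g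
  have hF : F.ker = (K.subgroupOf M).subgroupOf (T.subgroupOf M) := by
    ext x
    rw [MonoidHom.mem_ker]
    show (QuotientGroup.mk (g x) : T ⧸ K.subgroupOf T) = 1 ↔ _
    rw [QuotientGroup.eq_one_iff]
    rfl
  have e := QuotientGroup.quotientKerEquivRange F
  have h1 : IsCyclic F.range := inferInstance
  have h2 : IsCyclic (T.subgroupOf M ⧸ F.ker) := isCyclic_of_injective e.toMonoidHom e.injective
  have e' := QuotientGroup.quotientMulEquivOfEq hF
  exact isCyclic_of_surjective e'.toMonoidHom e'.surjective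

end IndexTwo

section Mult

variable {C : Type u} [Group C] [Finite C]

/-- The degree of a character containing `lam` with multiplicity `e`. -/
theorem index_mul_le_mult {K : Subgroup C} [hN : K.Normal] {lam χ : K → ℂ}
    (hlam : IsIrrCharacter K lam) {ψ : C → ℂ} (hψ : IsCharacter C ψ)
    (hχ : IsCharacter K χ) {e : ℕ} (h : ∀ k : K, ψ k = e * lam k + χ k) {a b : ℕ}
    (ha : lam 1 = a) (hb : ψ 1 = b) : (stab K lam).index * (e * a) ≤ b := by
  classical
  let _ : Fintype C := Fintype.ofFinite _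
  let _ : Fintype K := Fintype.ofFinite _
  have := Core.finite_irr (G := K)
  let _ : Fintype (IrrCharacter K) := Fintype.ofFinite _
  have hres : (fun k : K => ψ k) = (e : ℂ) • lam + χ := funext h
  obtain ⟨n, hn⟩ := Core.classInner_isNat hχ (Core.isIrr_isCharacter hlam)
  have hcl : classInner (fun k : K => ψ k) lam = ((e + n : ℕ) : ℂ) := by
    rw [hres, Core.classInner_add_left, Core.classInner_smul_left, Core.classInner_irr_self hlam,
      hn, mul_one]
    push_cast
    rfl
  obtain ⟨m, hm⟩ := Core.exists_nat_comb (Clifford.isCharacter_restrict K hψ)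
  -- the conjugates
  let q : C ⧸ stab K lam → IrrCharacter K := Quotient.lift
    (fun g : C => (⟨lam ∘ (MulAut.conjNormal g⁻¹ : MulAut K),
      Clifford.isIrr_conjNormal hlam g⁻¹⟩ : IrrCharacter K)) (by
        intro g g' hgg
        have h1 : g⁻¹ * g' ∈ stab K lam := QuotientGroup.leftRel_apply.1 hgg
        apply Subtype.ext
        funext k
        show lam (MulAut.conjNormal g⁻¹ k) = lam (MulAut.conjNormal g'⁻¹ k)
        rw [← mem_stab.1 h1 (MulAut.conjNormal g'⁻¹ k)]
        congr 1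
        apply Subtype.ext
        simp only [MulAut.conjNormal_apply]
        group)
  have hqinj : Function.Injective q := by
    intro x y hxy
    induction x using QuotientGroup.induction_on with
    | H g =>
      induction y using QuotientGroup.induction_on with
      | H g' =>
        rw [QuotientGroup.eq]
        intro k
        have h1 : ∀ k : K, lam (MulAut.conjNormal g⁻¹ k) = lam (MulAut.conjNormal g'⁻¹ k) :=
          fun k => congrFun (congrArg Subtype.val hxy) k
        have h2 := h1 (MulAut.conjNormal g' k)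
        have h3 : MulAut.conjNormal g'⁻¹ (MulAut.conjNormal g' k) = k := by
          apply Subtype.ext
          simp only [MulAut.conjNormal_apply]
          group
        rw [h3] at h2
        rw [← h2]
        congr 1
        apply Subtype.ext
        simp only [MulAut.conjNormal_apply]
        group
  have hq1 : ∀ x, (q x : K → ℂ) 1 = a := by
    intro x
    induction x using QuotientGroup.induction_on with
    | H g =>
      show lam (MulAut.conjNormal g⁻¹ 1) = a
      rw [map_one, ha]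
  have hqm : ∀ x, e ≤ m (q x) := by
    intro x
    induction x using QuotientGroup.induction_on with
    | H g =>
      have h1 : classInner (fun k : K => ψ k) (q (g : C ⧸ stab K lam) : K → ℂ) =
          ((e + n : ℕ) : ℂ) := by
        show classInner (fun k : K => ψ k) (lam ∘ (MulAut.conjNormal g⁻¹ : MulAut K)) = _
        rw [Clifford.classInner_restrict_conjNormal (Core.isCharacter_isClassFunction hψ)]
        exact hcl
      rw [hm, Core.classInner_sum_nsmul_irr] at h1
      have h2 : m (q (g : C ⧸ stab K lam)) = e + n := by exact_mod_cast h1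
      omega
  choose dg hdg using fun β : IrrCharacter K => Core.isCharacter_apply_one (Core.isIrr_isCharacter β.2)
  have hb' : b = ∑ β : IrrCharacter K, m β * dg β := by
    have h1 := congrFun hm 1
    have h2 : ψ ((1 : K) : C) = b := hb
    rw [h2, Finset.sum_apply] at h1
    have h3 : ((∑ β : IrrCharacter K, m β * dg β : ℕ) : ℂ) = b := by
      rw [h1]
      push_cast
      refine Finset.sum_congr rfl fun β _ => ?_
      rw [Pi.smul_apply, nsmul_eq_mul, hdg]
    exact_mod_cast h3.symm
  have hqd : ∀ x, dg (q x) = a := by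
    intro x
    have h1 := hq1 x
    rw [hdg] at h1
    exact_mod_cast h1
  let _ : Fintype (C ⧸ stab K lam) := Fintype.ofFinite _
  calc (stab K lam).index * (e * a) = ∑ _x : C ⧸ stab K lam, e * a := by
        rw [Finset.sum_const, Finset.card_univ, smul_eq_mul, ← Nat.card_eq_fintype_card]
        rfl
    _ ≤ ∑ x : C ⧸ stab K lam, m (q x) * dg (q x) := by
        refine Finset.sum_le_sum fun x _ => ?_
        rw [hqd]
        exact Nat.mul_le_mul_right _ (hqm x)
    _ = ∑ β ∈ Finset.univ.image q, m β * dg β := by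
        rw [Finset.sum_image fun x _ y _ hxy => hqinj hxy]
    _ ≤ ∑ β : IrrCharacter K, m β * dg β :=
        Finset.sum_le_sum_of_subset (Finset.subset_univ _)
    _ = b := hb'.symm

end Mult

section Main

variable {C : Type u} [Group C]

variable {q : ℕ} {K L B : Subgroup C} {K₁ X T : Subgroup B} {t : C}

/-- The general form for `C`. -/
theorem bigG_of_big [Finite C] (h : Big q K L B K₁ X T t) :
    BigG q (q - 1) B.subtype K K₁ X T t where
  normal := h.normal
  oddK := h.oddK
  tt := h.tt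
  t_ne := h.t_ne
  t_comm := h.t_comm
  inj := B.subtype_injective
  KB := by
    rw [Subgroup.range_subtype]
    exact h.KB
  tB := ⟨⟨t, h.tB⟩, rfl⟩
  mem := h.mem
  frob := FrobG.of_frob h.frob
  gen := by
    intro N hN hX
    rw [← h.index]
    exact Subgroup.index_antitone (h.gen N hN hX)

theorem K₁_le_L (h : Big q K L B K₁ X T t) (tL : t ∈ L) : K₁ ≤ L.subgroupOf B := by
  intro b hb
  rcases (h.mem b).1 hb with h1 | h1
  · exact h.KL h1
  · exact (L.mul_mem_cancel_left tL).1 (h.KL h1)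

theorem index_L_B (h : Big q K L B K₁ X T t) (hBL : ∃ b ∈ B, b ∉ L) :
    (L.subgroupOf B).index = 2 := by
  have hLn : L.Normal := Subgroup.normal_of_index_eq_two h.index
  have h2 : L.relIndex B ∣ L.index := Subgroup.relIndex_dvd_index_of_normal L B
  rw [h.index] at h2
  rcases (Nat.dvd_prime Nat.prime_two).1 h2 with h3 | h3
  · obtain ⟨b, hb, hbL⟩ := hBL
    exact absurd (Subgroup.relIndex_eq_one.1 h3 hb) hbL
  · exact h3

/-- The embedding of `B ∩ L` in `L`. -/
def embL (B L : Subgroup C) : L.subgroupOf B →* L where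
  toFun b := ⟨b.1.1, b.2⟩
  map_one' := rfl
  map_mul' _ _ := rfl

theorem embL_injective (B L : Subgroup C) : Function.Injective (embL B L) := by
  intro a b hab
  apply Subtype.ext
  apply Subtype.ext
  have h1 : ((embL B L a : L) : C) = ((embL B L b : L) : C) := congrArg Subtype.val hab
  exact h1

/-- The general form for `L`. -/
theorem bigG_L [Finite C] (h : Big q K L B K₁ X T t) {r : ℕ} (hr : q = 2 * r + 1) (hr2 : 2 ≤ r)
    (hBL : ∃ b ∈ B, b ∉ L) (tL : t ∈ L) :
    BigG q r (embL B L) (K.subgroupOf L) (K₁.subgroupOf (L.subgroupOf B))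
      (X.subgroupOf (L.subgroupOf B)) (T.subgroupOf (L.subgroupOf B)) (⟨t, tL⟩ : L) := by
  have hKn := h.normal
  have hLn : L.Normal := Subgroup.normal_of_index_eq_two h.index
  have hfrob := FrobG.of_frob h.frob
  rw [show q - 1 = 2 * r by omega] at hfrob
  obtain ⟨hXM, hfr⟩ := frobG_index_two hfrob ⟨r, hr⟩ hr2 (index_L_B h hBL) (K₁_le_L h tL)
  refine
    { normal := inferInstance
      oddK := by
        rw [Nat.card_congr (Subgroup.subgroupOfEquivOfLe h.KL).toEquiv]
        exact h.oddK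
      tt := Subtype.ext h.tt
      t_ne := fun h1 => h.t_ne (congrArg Subtype.val h1)
      t_comm := fun x => Subtype.ext (h.t_comm x).eq
      inj := embL_injective B L
      KB := fun x hx => ⟨⟨⟨x, h.KB hx⟩, x.2⟩, rfl⟩
      tB := ⟨⟨⟨t, h.tB⟩, tL⟩, rfl⟩
      mem := fun b => h.mem b.1
      frob := hfr
      gen := ?_ }
  intro N hN hX
  obtain ⟨b₀, hb₀, hb₀L⟩ := hBL
  have hXn := h.frob.normal_X
  have key : ∀ x ∈ X, (x : C) ∈ (N.map L.subtype).normalCore := by
    intro x hx g
    have hl : ∀ l ∈ L, ∀ y ∈ X, l * (y : C) * l⁻¹ ∈ N.map L.subtype := by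
      intro l hl y hy
      have h1 := hN.conj_mem _ (hX ⟨y, hXM hy⟩ hy) ⟨l, hl⟩
      exact ⟨_, h1, rfl⟩
    by_cases hg : g ∈ L
    · exact hl g hg x hx
    · have h1 : g * b₀⁻¹ ∈ L := (Subgroup.mul_mem_iff_of_index_two h.index).2
        (iff_of_false hg (fun h2 => hb₀L (inv_mem_iff.1 h2)))
      have h2 := hl _ h1 (⟨b₀, hb₀⟩ * x * ⟨b₀, hb₀⟩⁻¹) (hXn.conj_mem _ hx _)
      have h3 : g * b₀⁻¹ * ((⟨b₀, hb₀⟩ * x * ⟨b₀, hb₀⟩⁻¹ : B) : C) * (g * b₀⁻¹)⁻¹ =
          g * (x : C) * g⁻¹ := by
        show g * b₀⁻¹ * (b₀ * (x : C) * b₀⁻¹) * (g * b₀⁻¹)⁻¹ = _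
        group
      rwa [h3] at h2
  have h1 := (h.gen _ inferInstance key).trans (Subgroup.normalCore_le _)
  have h2 : N = ⊤ := by
    rw [eq_top_iff]
    intro x _
    obtain ⟨y, hy, hyx⟩ := h1 x.2
    have h3 : y = x := Subtype.ext hyx
    rwa [← h3]
  rw [h2, Subgroup.index_top]
  omega

variable [Finite C]

/-- A stabilizer of small index contains `L`. -/
theorem L_le_of_index_lt (h : Big q K L B K₁ X T t) {H : Subgroup C} (hK : K ≤ H) (ht : t ∈ H)
    (hi : H.index < q - 1) : L ≤ H := by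
  have hKn := h.normal
  have key : ∀ x ∈ X, (x : C) ∈ H.normalCore := by
    intro x hx g
    have h1 : (H.comap ((MulAut.conj g).toMonoidHom.comp B.subtype)).index < q - 1 := by
      refine lt_of_le_of_lt ?_ hi
      rw [Subgroup.index_comap]
      rw [← Subgroup.relIndex_top_right H]
      refine Subgroup.relIndex_le_of_le_right le_top ?_
      rw [Subgroup.relIndex_top_right]
      exact Subgroup.index_ne_zero_of_finite
    have h2 : K₁ ≤ H.comap ((MulAut.conj g).toMonoidHom.comp B.subtype) := by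
      intro b hb
      show g * (b : C) * g⁻¹ ∈ H
      rcases (h.mem b).1 hb with h3 | h3
      · exact hK (hKn.conj_mem _ h3 g)
      · have h4 := hKn.conj_mem _ h3 g
        have h5 : g * (t * (b : C)) * g⁻¹ = t * (g * (b : C) * g⁻¹) := by
          rw [← mul_assoc g t, ← (h.t_comm g).eq]
          group
        rw [h5] at h4
        exact (H.mul_mem_cancel_left ht).1 (hK h4)
    exact le_of_index_lt (FrobG.of_frob h.frob) h2 h1 hx
  exact (h.gen _ inferInstance key).trans (Subgroup.normalCore_le _)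

/-- **The minimal degree.** -/
theorem min_degree (h : Big q K L B K₁ X T t) (hq : Odd q) (hq7 : q ≠ 7)
    (hBL : ∃ b ∈ B, b ∉ L) {a b : C} (ha : a ∈ L) (hb : b ∈ L)
    (hab : ∃ k : ℕ, (a * b * a⁻¹ * b⁻¹) ^ k = t)
    {ψ : C → ℂ} (hψ : IsIrrCharacter C ψ) (hψt : ψ t = -ψ 1) {n : ℕ} (hn : ψ 1 = n) :
    q - 1 ≤ n := by
  classical
  by_contra hcon
  push Not at hcon
  have hKn := h.normal
  have hLn : L.Normal := Subgroup.normal_of_index_eq_two h.index
  have tL : t ∈ L := by
    obtain ⟨k, hk⟩ := hab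
    rw [← hk]
    exact L.pow_mem (L.mul_mem (L.mul_mem (L.mul_mem ha hb) (L.inv_mem ha)) (L.inv_mem hb)) k
  have hq5 := h.frob.q_ge
  let _ : Fintype C := Fintype.ofFinite _
  let _ : Fintype K := Fintype.ofFinite _
  obtain ⟨lam, χ, hlam, hχ, hadd, -⟩ := exists_constituent (LinearMap.proj (1 : K))
    (Clifford.isCharacter_restrict K (Core.isIrr_isCharacter hψ)) (by
      show ψ ((1 : K) : C) ≠ 0
      exact Core.isIrr_apply_one_ne_zero hψ)
  have hadd' : ∀ k : K, ψ k = lam k + χ k := fun k => congrFun hadd k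
  obtain ⟨c, hc0, hc⟩ := Core.isIrr_apply_one hlam
  have hcodd := odd_degree h.oddK hlam hc
  have hi := index_mul_le hlam (Core.isIrr_isCharacter hψ) hχ hadd' hc hn
  have hi' : (stab K lam).index < q - 1 :=
    lt_of_le_of_lt ((Nat.le_mul_of_pos_right _ hc0).trans hi) hcon
  have hLH := L_le_of_index_lt h (le_stab (Core.isIrr_isClassFunction hlam))
    (center_le_stab h.t_comm) hi'
  by_cases hst : stab K lam = ⊤
  · -- `lam` is invariant
    obtain ⟨d, hd1, hd⟩ := exists_mult hlam hst hψ hχ hadd'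
    have hnd : n = d * c := by
      have h1 := hd 1
      have h2 : ψ ((1 : K) : C) = n := hn
      rw [h2, hc] at h1
      exact_mod_cast h1
    rcases Nat.lt_or_ge 1 d with hd2 | hd2
    · obtain ⟨m, hm2, hmd, hm⟩ := exists_two (bigG_of_big h) hlam hψ hd2 hd
      have h1 : ((q - 1 : ℕ) : ℤ) = (q : ℤ) - 1 := by
        rw [Nat.cast_sub (by omega)]
        norm_num
      rw [h1] at hm
      have h2 : (0 : ℤ) < (q : ℤ) - 1 := by omega
      have h3 : (q : ℤ) * (m - 1) ≤ (m : ℤ) ^ 2 := by
        have h4 : ((q : ℤ) - 1) * (q * (m - 1)) ≤ ((q : ℤ) - 1) * (m : ℤ) ^ 2 := by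
          calc ((q : ℤ) - 1) * (q * (m - 1)) = q * (q - 1) * (m - 1) := by ring
            _ ≤ _ := hm
        exact le_of_mul_le_mul_left h4 h2
      have h4 : m ≤ n := by
        rw [hnd]
        exact hmd.trans (Nat.le_mul_of_pos_right _ hc0)
      have h5 : (m : ℤ) ≤ q - 2 := by omega
      have h6 : (2 : ℤ) ≤ m := by exact_mod_cast hm2
      have h7 : (5 : ℤ) ≤ q := by exact_mod_cast hq5
      nlinarith [mul_nonneg (by linarith : (0 : ℤ) ≤ (m : ℤ) - 2)
        (by linarith : (0 : ℤ) ≤ (q : ℤ) - 2 - m)]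
    · have h1 : d = 1 := by omega
      rw [h1, one_mul] at hnd
      rw [← hnd] at hcodd
      exact not_neg_of_odd (Core.isIrr_isCharacter hψ) hn hcodd hab hψt
  · -- the stabilizer is `L`
    have hSL : stab K lam = L := by
      have h1 := Subgroup.relIndex_mul_index hLH
      rw [h.index] at h1
      have h2 : (stab K lam).index ≠ 1 := fun h3 => hst (Subgroup.index_eq_one.1 h3)
      have h3 : (stab K lam).index ∣ 2 := ⟨_, by rw [mul_comm] at h1; exact h1.symm⟩
      have h4 : (stab K lam).index = 2 := ((Nat.dvd_prime Nat.prime_two).1 h3).resolve_left h2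
      rw [h4] at h1
      have h5 : L.relIndex (stab K lam) = 1 := by omega
      exact le_antisymm (Subgroup.relIndex_eq_one.1 h5) hLH
    let _ : Fintype L := Fintype.ofFinite _
    let _ : Fintype (K.subgroupOf L) := Fintype.ofFinite _
    set e := Subgroup.subgroupOfEquivOfLe h.KL with he
    have hlam' : IsIrrCharacter (K.subgroupOf L) (fun k => lam (e k)) :=
      Core.isIrr_comp e.toMonoidHom e.surjective hlam
    -- a constituent on `L`
    have hψL : IsCharacter L (fun x : L => ψ x) :=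
      Clifford.isCharacter_restrict L (Core.isIrr_isCharacter hψ)
    have hne : coef (fun k : K.subgroupOf L => (k : L)) (fun k => lam (e k))
        (fun x : L => ψ x) ≠ 0 := by
      rw [coef_apply]
      have h1 : (fun k : K.subgroupOf L => ψ ((k : L) : C)) =
          (fun k => lam (e k)) + fun k => χ (e k) := by
        funext k
        exact hadd' (e k)
      rw [h1]
      refine inner_ne_zero_of_add hlam' (Core.isCharacter_comp e.toMonoidHom hχ) rfl
    obtain ⟨ψ₁, χ₁, hψ₁, hχ₁, hadd₁, hne₁⟩ := exists_constituent _ hψL hne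
    rw [coef_apply] at hne₁
    have hψ₁K : IsCharacter (K.subgroupOf L) (fun k : K.subgroupOf L => ψ₁ k) :=
      Clifford.isCharacter_restrict _ (Core.isIrr_isCharacter hψ₁)
    obtain ⟨χ₂, hχ₂, hadd₂⟩ := exists_add_of_classInner hψ₁K hlam' hne₁
    have hstL : stab (K.subgroupOf L) (fun k => lam (e k)) = ⊤ := by
      rw [eq_top_iff]
      intro x _ k
      have h1 : (x : C) ∈ stab K lam := hLH x.2
      exact h1 (e k)
    obtain ⟨d, hd1, hd⟩ := exists_mult hlam' hstL hψ₁ hχ₂ (fun k => congrFun hadd₂ k)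
    -- the sign of `t`
    obtain ⟨τ, hτ, hτ'⟩ := central_sign h.tt h.t_comm hψ
    have hτ1 : τ = -1 := by
      have h1 := hτ' 1
      rw [mul_one, hψt] at h1
      have h2 := Core.isIrr_apply_one_ne_zero hψ
      exact (mul_right_cancel₀ h2 (by rw [← h1]; ring)).symm
    have htL : ∀ x : L, Commute (⟨t, tL⟩ : L) x := fun x => Subtype.ext (h.t_comm x).eq
    have httL : (⟨t, tL⟩ : L) * ⟨t, tL⟩ = 1 := Subtype.ext h.tt
    obtain ⟨ω, hω, hω'⟩ := central_sign httL htL hψ₁
    have hτω : τ = ω := by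
      refine sign_eq_of_mul hτ hω ?_
      have h1 := classInner_shift (⟨t, tL⟩ : L) (f := fun x : L => ψ x) (g := ψ₁) (τ := τ)
        (ω := ω) (fun x => hτ' x) hω'
      have h2 := inner_ne_zero_of_add hψ₁ hχ₁ hadd₁
      exact (mul_eq_right₀ h2).1 h1.symm
    have hψ₁t : ψ₁ ⟨t, tL⟩ = -ψ₁ 1 := by
      have h1 := hω' 1
      rw [mul_one, ← hτω, hτ1] at h1
      rw [h1]
      ring
    -- the degree
    have hψ₁1 : ψ₁ 1 = ((d * c : ℕ) : ℂ) := by
      have h1 := hd 1
      have h2 : ψ₁ ((1 : K.subgroupOf L) : L) = ψ₁ 1 := rfl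
      rw [h2, map_one, hc] at h1
      rw [h1]
      push_cast
      rfl
    have hdeven : Even d := by
      rw [← Nat.not_odd_iff_even]
      intro hodd
      exact not_neg_of_odd (Core.isIrr_isCharacter hψ₁) hψ₁1 (hodd.mul hcodd)
        (a := ⟨a, ha⟩) (b := ⟨b, hb⟩) (hab.imp fun _ hk => Subtype.ext hk) hψ₁t
    have hdc : 2 * (d * c) ≤ n := by
      have h1 : (stab K lam).index = 2 := by rw [hSL, h.index]
      rw [← h1]
      refine index_mul_le_mult hlam (Core.isIrr_isCharacter hψ)
        (χ := fun k : K => χ₁ ⟨k, h.KL k.2⟩) ?_ (fun k => ?_) hc hn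
      · exact Core.isCharacter_comp (Subgroup.inclusion h.KL) hχ₁
      · have h2 := congrFun hadd₁ ⟨k, h.KL k.2⟩
        have h3 := hd (e.symm k)
        rw [MulEquiv.apply_symm_apply] at h3
        have h4 : ψ (k : C) = ψ₁ ⟨k, h.KL k.2⟩ + χ₁ ⟨k, h.KL k.2⟩ := h2
        rw [h4]
        congr 1
    obtain ⟨d', hd'⟩ := hdeven
    obtain ⟨r, hr⟩ := hq
    have hr2 : 2 ≤ r := by omega
    obtain ⟨m, hm2, hmd, hm⟩ := exists_two (bigG_L h hr hr2 hBL tL) hlam' hψ₁ (by omega) hd
    have h1 : ((q : ℤ) - 1) = 2 * r := by rw [hr]; push_cast; ring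
    have h2 : (q : ℤ) * (m - 1) ≤ 2 * (m : ℤ) ^ 2 := by
      rw [h1] at hm
      have h3 : (0 : ℤ) < r := by omega
      have h4 : (r : ℤ) * (q * (m - 1)) ≤ r * (2 * (m : ℤ) ^ 2) := by
        calc (r : ℤ) * (q * (m - 1)) = q * r * (m - 1) := by ring
          _ ≤ 2 * r * (m : ℤ) ^ 2 := hm
          _ = _ := by ring
      exact le_of_mul_le_mul_left h4 h3
    have h3 : d ≤ d * c := Nat.le_mul_of_pos_right _ hc0
    have h4 : d < r := by omega
    have h5 : (m : ℤ) ≤ r - 1 := by omega
    have h6 : (2 : ℤ) ≤ m := by exact_mod_cast hm2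
    have h7 : (q : ℤ) = 2 * r + 1 := by rw [hr]; push_cast; ring
    rw [h7] at h2
    have h8 : 2 * (r : ℤ) - 5 ≤ m := by
      nlinarith [mul_nonneg (by linarith : (0 : ℤ) ≤ (m : ℤ) - 2)
        (by linarith : (0 : ℤ) ≤ (r : ℤ) - 1 - m)]
    have h9 : r ≤ 4 := by omega
    have h10 : r ≠ 3 := by omega
    interval_cases r
    · omega
    · omega
    · omega

end Main

end Cfsg.Agent.Classification.QDW.MinDeg
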