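import Mathlib
import Cfsg.Agent.Classification.QDW.MinDeg
import Cfsg.Agent.Classification.QDW.InstG
import Cfsg.Agent.Classification.QDW.FldSDFull
import Cfsg.Agent.Classification.InvCent.WrChar

/-!
# The minimal degree over the centralizer of an involution

`FHyp`, `CData`, `q ≥ 9`, `G` simple: an irreducible character `X ≠ 1` of `G` satisfies
`2 (q - 1) ≤ X(1) - X(t)` (`diff_ge`, `diff_ge_signed`, `f_sub_ge`).
-/

set_option autoImplicit false
set_option linter.unusedSectionVars false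

open Cfsg
open scoped ComplexConjugate

namespace Cfsg.Agent.Classification.QDW.MinApp

open Cfsg.Agent.Characters Cfsg.Agent.Blocks.Local Cfsg.Agent.Blocks.Basic
  Cfsg.Agent.Classification.BGBlockB0 Cfsg.Agent.Classification.BGOrder
  Cfsg.Agent.Classification.InvCent
  Cfsg.Agent.Classification.QDW.InstC Cfsg.Agent.Classification.QDW.InstGamma
  Cfsg.Agent.Classification.QDW.LineC Cfsg.Agent.Classification.QDW.Fld
  Cfsg.Agent.Classification.QDW.Coef Cfsg.Agent.Classification.QDW.GlauberTwo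

universe w v

section C

variable {C : Type v} [Group C] [Finite C] {z : C} {q : ℕ} {ε : ℤ} {Z T T' U : Subgroup C}
  {s s' u₀ : C} {b : C →* ℂˣ}

/-- The four group part: an element of order `4` of `T'₀`. -/
theorem exists_four (hD : CData z q ε Z T T' U s s' u₀ b) :
    ∃ x ∈ T', x * (s' * x * s'⁻¹) = 1 ∧ x * x = z := by
  have h := hD.chyp
  have hcyc := h.T'_cyclic
  have hc : IsCyclic h.torus'.T₀ :=
    isCyclic_of_injective (Subgroup.inclusion h.torus'.T₀_le) (Subgroup.inclusion_injective _)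
  obtain ⟨g, hg⟩ := IsCyclic.exists_ofOrder_eq_natCard (α := h.torus'.T₀)
  have h4 : 4 ∣ Nat.card h.torus'.T₀ := by
    obtain ⟨k, ⟨l, hl⟩, hk⟩ := hD.det.r_dvd
    have h1 : (Nat.card h.torus'.T₀ : ℤ) = q - (-ε) := h.torus'.card_T₀
    have h2 : (4 : ℤ) ∣ (Nat.card h.torus'.T₀ : ℤ) := by
      rw [h1]
      push_cast at hk
      rcases h.eps with h3 | h3 <;> rw [h3] at hk ⊢ <;> omega
    exact_mod_cast h2
  obtain ⟨n, hn⟩ := h4
  have hn0 : n ≠ 0 := by
    rintro rfl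
    rw [mul_zero] at hn
    exact Nat.card_pos.ne' hn
  have hord : orderOf (g ^ n) = 4 := by
    rw [orderOf_pow_of_dvd hn0 (by rw [hg, hn]; exact dvd_mul_left n 4), hg, hn,
      Nat.mul_div_cancel _ (Nat.pos_of_ne_zero hn0)]
  set x : h.torus'.T₀ := g ^ n with hx
  have hxC : orderOf (x : C) = 4 := by rw [Subgroup.orderOf_coe, hord]
  have hxT : (x : C) ∈ T' := x.2.1
  refine ⟨x, hxT, x.2.2, ?_⟩
  refine WrChar.eq_z_of_sq h (mul_mem hxT hxT) ?_ ?_
  · have h1 := pow_orderOf_eq_one (x : C)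
    rw [hxC] at h1
    rw [← sq, ← sq, ← pow_mul]
    exact h1
  · intro h1
    have h2 : orderOf (x : C) ∣ 2 := orderOf_dvd_of_pow_eq_one (by rw [sq]; exact h1)
    rw [hxC] at h2
    exact absurd (Nat.le_of_dvd (by norm_num) h2) (by norm_num)

/-- `z` is a commutator of `ker b`. -/
theorem exists_comm (hD : CData z q ε Z T T' U s s' u₀ b) :
    ∃ a x : C, b a = 1 ∧ b x = 1 ∧ a * x * a⁻¹ * x⁻¹ = z := by
  have h := hD.chyp
  obtain ⟨x, hxT, hx, hxz⟩ := exists_four hD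
  have hbx : b x = 1 := hD.det.b_T'₀ x hxT hx
  have hinv : s' * x * s'⁻¹ = x⁻¹ := eq_inv_of_mul_eq_one_right hx
  have hzz : z * z = 1 := WrChar.z_mul_z h
  have hfin : x⁻¹ * x⁻¹ = z := by
    rw [← mul_inv_rev, hxz]
    exact inv_eq_of_mul_eq_one_left hzz
  rcases hD.b_cases s' with h1 | h1
  · exact ⟨s', x, h1, hbx, by rw [hinv, hfin]⟩
  · obtain ⟨g, hgT, hg⟩ := hD.det.exists_T'
    have hbg : b g = -1 := by
      rcases hD.b_cases g with h2 | h2
      · rw [h2, orderOf_one] at hg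
        exact absurd hg (by norm_num)
      · exact h2
    refine ⟨s' * g, x, by rw [map_mul, h1, hbg, neg_mul_neg, one_mul], hbx, ?_⟩
    have h3 : s' * g * x * (s' * g)⁻¹ = s' * x * s'⁻¹ := by
      calc s' * g * x * (s' * g)⁻¹ = s' * (g * x) * g⁻¹ * s'⁻¹ := by group
        _ = s' * (x * g) * g⁻¹ * s'⁻¹ := by rw [h.T'_comm g hgT x hxT]
        _ = s' * x * s'⁻¹ := by group
    rw [h3, hinv, hfin]

/-- `N(U)` is not contained in `ker b`. -/
theorem exists_N (hD : CData z q ε Z T T' U s s' u₀ b) : ∃ g ∈ N U, b g ≠ 1 := by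
  have h := hD.chyp
  have key : ∀ {T₁ : Subgroup C}, (∀ τ ∈ T₁, ∀ v ∈ U, τ * v * τ⁻¹ ∈ U) → T₁ ≤ N U := by
    intro T₁ hT g hg
    rw [mem_N]
    intro v
    refine ⟨hT g hg v, fun h1 => ?_⟩
    have h2 := hT g⁻¹ (inv_mem hg) _ h1
    have h3 : g⁻¹ * (g * v * g⁻¹) * g⁻¹⁻¹ = v := by group
    rwa [h3] at h2
  rcases h.eps with h1 | h1
  · exact ⟨u₀, key (hD.norm₁ h1) h.u_mem, hD.b_u_ne⟩
  · obtain ⟨g, hgT, hg⟩ := hD.det.exists_T'
    refine ⟨g, key (hD.norm₂ h1) hgT, fun h2 => ?_⟩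
    rw [h2, orderOf_one] at hg
    exact absurd hg (by norm_num)

variable {Γ : Type w} [Group Γ] [Finite Γ] {π : Γ →* C} {t u w : Γ}

/-- **The minimal degree of a character with `t = -1`.** -/
theorem deg_ge (hD : CData z q ε Z T T' U s s' u₀ b) (hG : GHyp π z u₀ s t u w) (hq : 9 ≤ q)
    {ψ : Γ → ℂ} (hψ : IsIrrCharacter Γ ψ) (hψt : ψ t = -ψ 1) {n : ℕ} (hn : ψ 1 = n) :
    q - 1 ≤ n := by
  obtain ⟨T₁, s₁, hs, -⟩ := hD.exists_split
  obtain ⟨a, x, ha, hx, hax⟩ := exists_comm hD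
  obtain ⟨a', rfl⟩ := hG.surj a
  obtain ⟨x', rfl⟩ := hG.surj x
  refine MinDeg.min_degree (big hD hG hs (by omega)) hD.chyp.odd_q (by omega) ?_
    (a := a') (b := x') ha hx ?_ hψ hψt hn
  · obtain ⟨g, hgN, hg⟩ := exists_N hD
    obtain ⟨g', rfl⟩ := hG.surj g
    exact ⟨g', hgN, hg⟩
  · -- `[a', x'] = t k` with `k` of odd order
    have h1 : π (t * (a' * x' * a'⁻¹ * x'⁻¹)) = 1 := by
      rw [map_mul, map_mul, map_mul, map_mul, map_inv, map_inv, hax, ← hG.map_t, ← map_mul,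
        hG.tt, map_one]
    set y := a' * x' * a'⁻¹ * x'⁻¹ with hy
    have h2 : (t * y) ^ Nat.card π.ker = 1 :=
      congrArg Subtype.val (pow_card_eq_one' (x := (⟨t * y, h1⟩ : π.ker)))
    have h3 : t ^ Nat.card π.ker = t := pow_odd_of_sq hG.tt hG.oddK
    refine ⟨Nat.card π.ker, ?_⟩
    rw [(hG.t_comm y).mul_pow, h3] at h2
    have h4 : y ^ Nat.card π.ker = t⁻¹ := eq_inv_of_mul_eq_one_right h2
    rw [h4]
    exact inv_eq_of_mul_eq_one_left hG.tt

end C

section G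

variable {G : Type w} [Group G] [Finite G] {C : Type v} [Group C] [Finite C] {t : G} {z : C}
  {N S : Subgroup (Subgroup.centralizer ({t} : Set G))} {π : N →* C}
  {q : ℕ} {ε : ℤ} {Z T T' U : Subgroup C} {s s' u₀ : C} {b : C →* ℂˣ}

/-- The inclusion of `N` in `G`. -/
def inc (N : Subgroup (Subgroup.centralizer ({t} : Set G))) : N →* G :=
  (Subgroup.centralizer ({t} : Set G)).subtype.comp N.subtype

theorem inc_tN (H : FHyp t z N S π) : inc N (tN H) = t := rfl

/-- The real part of a character is at most the degree. -/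
theorem re_le {Γ : Type*} [Group Γ] [Finite Γ] {χ : Γ → ℂ} (hχ : IsCharacter Γ χ) (g : Γ) :
    (χ g).re ≤ (χ 1).re := by
  obtain ⟨m, ρ, rfl⟩ := hχ
  rw [Representation.char_one]
  exact (Complex.re_le_norm _).trans ((Values.norm_character_le ρ g).trans (by simp))

theorem diff_ge_of_ne (H : FHyp t z N S π) (hD : CData z q ε Z T T' U s s' u₀ b) (hq : 9 ≤ q)
    {X : G → ℂ} (hX : IsCharacter G X) (hXt : X t ≠ X 1) :
    2 * ((q : ℝ) - 1) ≤ (X 1 - X t).re := by
  obtain ⟨u, w, hG⟩ := InstG.exists_uw hD.chyp H.surj H.odd_ker H.tN_mul_tN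
    (fun x => H.tN_comm x) H.map_tN
  have hXN : IsCharacter N (fun x : N => X (inc N x)) := Core.isCharacter_comp (inc N) hX
  let Φ : (N → ℂ) →ₗ[ℂ] ℂ := LinearMap.proj (R := ℂ) (φ := fun _ : N => ℂ) (1 : N) -
    LinearMap.proj (R := ℂ) (φ := fun _ : N => ℂ) (tN H)
  have hΦ : ∀ f : N → ℂ, Φ f = f 1 - f (tN H) := fun f => rfl
  obtain ⟨ψ, χ, hψ, hχ, hadd, hne⟩ := exists_constituent Φ hXN (by
    rw [hΦ]
    show X (inc N 1) - X (inc N (tN H)) ≠ 0
    rw [inc_tN, map_one, sub_ne_zero]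
    exact hXt.symm)
  rw [hΦ] at hne
  obtain ⟨τ, hτ, hτ'⟩ := central_sign H.tN_mul_tN (fun x => H.tN_comm x) hψ
  have h1 := hτ' 1
  rw [mul_one] at h1
  have hψt : ψ (tN H) = -ψ 1 := by
    rcases hτ with h2 | h2
    · rw [h2, one_mul] at h1
      rw [h1, sub_self] at hne
      exact absurd rfl hne
    · rw [h2] at h1
      rw [h1]
      ring
  obtain ⟨n, -, hn⟩ := Core.isIrr_apply_one hψ
  have h3 := deg_ge hD hG hq hψ hψt hn
  have h4 : X 1 - X t = (ψ 1 - ψ (tN H)) + (χ 1 - χ (tN H)) := by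
    have e1 : X 1 = ψ 1 + χ 1 := congrFun hadd 1
    have e2 : X t = ψ (tN H) + χ (tN H) := congrFun hadd (tN H)
    rw [e1, e2]
    ring
  have h5 := re_le hχ (tN H)
  have h6 : ((q : ℝ) - 1) ≤ n := by
    have : ((q - 1 : ℕ) : ℝ) ≤ n := by exact_mod_cast h3
    rwa [Nat.cast_sub (by omega), Nat.cast_one] at this
  rw [h4, hψt, hn]
  simp only [Complex.add_re, Complex.sub_re, Complex.neg_re, Complex.natCast_re]
  linarith

/-- A nontrivial irreducible character of a simple group is faithful. -/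
theorem eq_one_of_apply_eq [IsSimpleGroup G] {X : G → ℂ} (hX : IsIrrCharacter G X) {t : G}
    (ht : t ≠ 1) (h : X t = X 1) : X = 1 := by
  classical
  obtain ⟨m, ρ, hρ, rfl⟩ := hX
  have hk : t ∈ MonoidHom.ker (ρ : G →* _) := by
    rw [MonoidHom.mem_ker]
    refine (Values.character_eq_finrank_iff ρ t).1 ?_
    rw [h, Representation.char_one]
  rcases (MonoidHom.normal_ker (ρ : G →* _)).eq_bot_or_eq_top with h2 | h2
  · rw [h2, Subgroup.mem_bot] at hk
    exact absurd hk ht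
  · have h3 : ∀ g, ρ.character g = ρ.character 1 := by
      intro g
      have : g ∈ MonoidHom.ker (ρ : G →* _) := by rw [h2]; trivial
      rw [MonoidHom.mem_ker] at this
      change LinearMap.trace ℂ _ (ρ g) = LinearMap.trace ℂ _ (ρ 1)
      rw [map_one]
      exact congrArg _ this
    have hirr : IsIrrCharacter G ρ.character := ⟨m, ρ, hρ, rfl⟩
    let _ : Fintype G := Fintype.ofFinite _
    by_contra hne
    have h4 := Core.classInner_irr_ne hirr Core.isIrr_one hne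
    rw [Core.classInner_def] at h4
    simp only [h3, Pi.one_apply, map_one, mul_one, Finset.sum_const, Finset.card_univ,
      nsmul_eq_mul] at h4
    have h5 : (Nat.card G : ℂ) ≠ 0 := Core.card_ne_zero_complex
    rw [← Nat.card_eq_fintype_card, ← mul_assoc, inv_mul_cancel₀ h5, one_mul] at h4
    exact Core.isIrr_apply_one_ne_zero hirr h4

/-- **`2 (q - 1) ≤ X(1) - X(t)`.** -/
theorem diff_ge [IsSimpleGroup G] (H : FHyp t z N S π) (hD : CData z q ε Z T T' U s s' u₀ b)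
    (hq : 9 ≤ q) {X : G → ℂ} (hX : IsIrrCharacter G X) (hX1 : X ≠ 1) :
    2 * ((q : ℝ) - 1) ≤ (X 1 - X t).re :=
  diff_ge_of_ne H hD hq (Core.isIrr_isCharacter hX)
    fun h => hX1 (eq_one_of_apply_eq hX H.t_ne_one h)

/-- **Signed form.** -/
theorem diff_ge_signed [IsSimpleGroup G] (H : FHyp t z N S π)
    (hD : CData z q ε Z T T' U s s' u₀ b) (hq : 9 ≤ q) {X : G → ℂ} (hX : SignedIrr X)
    (h1 : X ≠ 1) (h2 : X ≠ -1) : 2 * ((q : ℝ) - 1) ≤ ‖X 1 - X t‖ := by
  rcases hX with hX | hX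
  · exact (diff_ge H hD hq hX h1).trans (Complex.re_le_norm _)
  · have h3 := diff_ge H hD hq hX fun h => h2 (by rw [← h, neg_neg])
    have h4 : (-X) 1 - (-X) t = -(X 1 - X t) := by
      rw [Pi.neg_apply, Pi.neg_apply]
      ring
    rw [h4] at h3
    exact h3.trans ((Complex.re_le_norm _).trans (by rw [norm_neg]))

/-- Integral form (`hmin` of `FldCaseS.eq_one_of_caseS`). -/
theorem hmin [IsSimpleGroup G] (H : FHyp t z N S π)
    (hD : CData z q ε Z T T' U s s' u₀ b) (hq : 9 ≤ q) : ∀ X : G → ℂ, SignedIrr X → X ≠ 1 →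
    X ≠ -1 → ∀ a c : ℤ, X 1 = a → X t = c → 2 * ((q : ℤ) - 1) ≤ |a - c| := by
  intro X hX h1 h2 a c ha hc
  have h3 := diff_ge_signed H hD hq hX h1 h2
  rw [ha, hc, ← Int.cast_sub, Complex.norm_intCast] at h3
  exact_mod_cast h3

/-- Integral form. -/
theorem diff_ge_int [IsSimpleGroup G] (H : FHyp t z N S π)
    (hD : CData z q ε Z T T' U s s' u₀ b) (hq : 9 ≤ q) {X : G → ℂ} (hX : SignedIrr X)
    {f c : ℤ} (hf : X 1 = f) (hc : X t = c) (hc1 : c ≠ 1) (hc2 : c ≠ -1) :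
    2 * ((q : ℤ) - 1) ≤ |f - c| := by
  have h1 : X ≠ 1 := by
    rintro rfl
    apply hc1
    rw [Pi.one_apply] at hc
    exact_mod_cast hc.symm
  have h2 : X ≠ -1 := by
    rintro rfl
    apply hc2
    rw [Pi.neg_apply, Pi.one_apply] at hc
    exact_mod_cast hc.symm
  have h3 := diff_ge_signed H hD hq hX h1 h2
  rw [hf, hc, ← Int.cast_sub, Complex.norm_intCast] at h3
  exact_mod_cast h3

end G

section Res

variable {G : Type w} [Group G] [Fintype G] {C : Type v} [Group C] [Fintype C] {t : G} {z : C}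
  {N S : Subgroup (Subgroup.centralizer ({t} : Set G))} {π : N →* C}
  {q : ℕ} {ε : ℤ} {Z T T' U : Subgroup C} {s s' u₀ : C} {b : C →* ℂˣ}

/-- The character `X₂`: `2 (q - 1) ≤ |f - ε q|`. -/
theorem f_sub_ge [IsSimpleGroup G] (H : FHyp t z N S π)
    (hD : CData z q ε Z T T' U s s' u₀ b) (hq : 9 ≤ q) {M : Ideal AlgInt} {h : CHyp z q ε Z T T' U s s' u₀}
    {μ : U →* ℂˣ} {X₂ X₃ X₄ X₅ L : G → ℂ} {f x : ℤ} (hR : SDResN M h μ π X₂ X₃ X₄ X₅ L f x) :
    2 * ((q : ℤ) - 1) ≤ |f - ε * q| := by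
  refine diff_ge_int H hD hq hR.in₂.signedIrr hR.one₂ (by rw [hR.t₂]; push_cast; rfl) ?_ ?_
  · rcases hD.chyp.eps with h1 | h1 <;> rw [h1] <;> omega
  · rcases hD.chyp.eps with h1 | h1 <;> rw [h1] <;> omega

end Res

end Cfsg.Agent.Classification.QDW.MinApp
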