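import Mathlib
import Cfsg.Agent.Classification.QDW.FieldSetup
import Cfsg.Agent.Classification.QDW.FieldData
import Cfsg.Agent.Classification.QDW.FldCaseS
import Cfsg.Agent.Classification.QDW.MinApp

/-!
# Case `S` in the quasi-dihedral case
-/

set_option autoImplicit false
set_option linter.unusedSectionVars false

open Cfsg

namespace Cfsg.Agent.Classification.QDW.FieldS

open Cfsg.Agent.Classification.InvCent Cfsg.Agent.Classification.QDW.InstC
  Cfsg.Agent.Classification.QDW.StructQ Cfsg.Agent.Classification.QDW.StructMain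
  Cfsg.Agent.Classification.QDW.Fld Cfsg.Agent.Classification.QDW.FuDichG
  Cfsg.Agent.Classification.QDW.FieldSetup

universe u v

variable {G : Type u} [Group G] [Finite G] {t u s h : G}
  {H : Type v} [Group H] [Finite H] {S : Sylow 2 H} {L : Subgroup H} [hLn : L.Normal]
  {F : Type*} [Field F] [Fintype F] {e : L ≃* Matrix.SpecialLinearGroup (Fin 2) F}
  {π : Subgroup.centralizer ({t} : Set G) →* H}
  {uM : u ∈ Subgroup.centralizer ({t} : Set G)} {g : Matrix.GeneralLinearGroup (Fin 2) F} {δ : ℤ}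
  {W : Subgroup G} {R : Subgroup (Subgroup.centralizer ({t} : Set G))}
  {z u₀ s₀ s₀' : H1 L e} {ε : ℤ} {Z T T' U : Subgroup (H1 L e)} {b : H1 L e →* ℂˣ}

/-- **Case `S`, quasi-dihedral.** -/
theorem qd_caseS [IsSimpleGroup G] (hf : FHyp t z (StructF.N π L e) R (StructF.piN π L e))
    (hD : CData z (Fintype.card F) ε Z T T' U s₀ s₀' u₀ b)
    (hε : ε = 1 ∧ Fintype.card F % 4 = 3 ∨ ε = -1 ∧ Fintype.card F % 4 = 1)
    (hodd : Odd (H1 L e).index) (h2 : (2 : F) ≠ 0) (hne : H1 L e ≠ ⊤)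
    (hS : Setup t u s h (Subgroup.centralizer ({t} : Set G)) S L e π uM g δ W) (hSS : hS.CaseS)
    (l : Subgroup.centralizer ({t} : Set G) ⧸ StructF.N π L e →* ℂ) : l = 1 := by
  let _ : Fintype G := Fintype.ofFinite G
  let _ : Fintype (H1 L e) := Fintype.ofFinite _
  obtain ⟨p, n, r, hz, -⟩ := exists_zs (ε := ε) hodd h2 hne hD.chyp.eps
  have hq : 27 ≤ Fintype.card F := by
    rw [← Nat.card_eq_fintype_card]; exact card_ge hz
  refine FldCaseS.eq_one_of_caseS hS hSS hf hD.chyp hD.det ?_ (MinApp.hmin hf hD (by omega)) hq ?_ l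
  · rintro ⟨m, hm⟩
    rcases hε with ⟨h1, h3⟩ | ⟨h1, h3⟩ <;> rw [h1] at hm <;> omega
  · intro h1
    rcases hε with ⟨h3, h4⟩ | ⟨h3, h4⟩
    · rw [h1] at h3
      norm_num at h3
    · rw [← Nat.card_eq_fintype_card] at h4 ⊢
      exact card_ge' hodd h2 hne h4

end Cfsg.Agent.Classification.QDW.FieldS
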