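import Mathlib
import Cfsg.Agent.Classification.QDW.StructF
import Cfsg.Agent.Classification.QDW.StructMainW
import Cfsg.Agent.Classification.QDW.InstModel
import Cfsg.Agent.Classification.QDW.FldTau

/-!
# The instance of `FHyp` for the centralizer of an involution of a simple group

`G` is simple with quasi-dihedral or wreathed Sylow 2-subgroups, `t` is an involution,
`pt t : Ct t →* Qt t = C(t) / O(C(t))`, `L ≅ SL₂(F)` is normal in `Qt t`; `N = StructF.N (pt t) L e` is
the preimage of `H1 L e`.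

* `one_class`;
* `sylow_qd`, `sylow_wr`: the Sylow 2-subgroups of `C(t)`;
* `fhyp`, `exists_fhyp`: `FHyp t z₁ N R (piN (pt t) L e)`;
* `pt_tt_qd`, `pt_tt_wr`: the image of `t` is `z0 e`;
* `exists_lam`: a nontrivial linear character of `C(t) / N` if `H1 L e ≠ ⊤`.
-/

set_option autoImplicit false
set_option linter.unusedSectionVars false

open Matrix

namespace Cfsg.Agent.Classification.QDW.FldInst

open Cfsg Cfsg.Agent.Classification.QDW.StructQ Cfsg.Agent.Classification.QDW.StructW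
  Cfsg.Agent.Classification.QDW.InstModel Cfsg.Agent.Classification.RTwo
  Cfsg.Agent.Classification.QDW.Fld

universe u v

variable {G : Type u} [Group G] [Finite G]

/-- One class of involutions. -/
theorem one_class [IsSimpleGroup G] (S₀ : Sylow 2 G)
    (hS : Cfsg.IsQuasiDihedral (S₀ : Subgroup G) ∨ Cfsg.IsWreathed (S₀ : Subgroup G)) {t : G}
    (ht : orderOf t = 2) : ∀ x : G, orderOf x = 2 → IsConj t x :=
  fun x hx => Structure.isConj_of_index S₀ hS (Structure.index_ne_two S₀ hS) t x ht hx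

/-- The Sylow 2-subgroups of `C(t)` are isomorphic to the ones of `G`. -/
theorem nonempty_equiv [IsSimpleGroup G] (S₀ : Sylow 2 G)
    (hS : Cfsg.IsQuasiDihedral (S₀ : Subgroup G) ∨ Cfsg.IsWreathed (S₀ : Subgroup G)) {t : G}
    (ht : orderOf t = 2) (R : Sylow 2 (Ct t)) :
    Nonempty ((S₀ : Subgroup G) ≃* (R : Subgroup (Ct t))) := by
  have : Fact (Nat.Prime 2) := ⟨Nat.prime_two⟩
  obtain ⟨R', hRcard, -, -⟩ := Cfsg.Agent.S1213.result S₀ hS (Structure.index_ne_two S₀ hS) t ht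
  obtain ⟨T, hT⟩ := (R'.2.map (Ct t).subtype).exists_le_sylow
  have e1 : (S₀ : Subgroup G) ≃* (T : Subgroup G) := Sylow.equiv S₀ T
  have e2 : (R' : Subgroup (Ct t)) ≃* ((R' : Subgroup (Ct t)).map (Ct t).subtype) :=
    Subgroup.equivMapOfInjective _ _ (Subgroup.subtype_injective _)
  have h3 : ((R' : Subgroup (Ct t)).map (Ct t).subtype) = T := by
    apply Subgroup.eq_of_le_of_card_ge hT
    rw [← Nat.card_congr e1.toEquiv, ← Nat.card_congr e2.toEquiv]
    exact hRcard.ge
  rw [h3] at e2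
  exact ⟨(e1.trans e2.symm).trans (Sylow.equiv R' R)⟩

theorem sylow_qd [IsSimpleGroup G] (S₀ : Sylow 2 G) (hS : Cfsg.IsQuasiDihedral (S₀ : Subgroup G))
    {t : G} (ht : orderOf t = 2) (R : Sylow 2 (Ct t)) :
    Cfsg.IsQuasiDihedral (R : Subgroup (Ct t)) := by
  obtain ⟨e⟩ := nonempty_equiv S₀ (Or.inl hS) ht R
  exact Cfsg.Agent.TwoFusion.SylowTypeTransfer.isQuasiDihedral_of_mulEquiv e hS

theorem sylow_wr [IsSimpleGroup G] (S₀ : Sylow 2 G) (hS : Cfsg.IsWreathed (S₀ : Subgroup G))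
    {t : G} (ht : orderOf t = 2) (R : Sylow 2 (Ct t)) :
    Cfsg.IsWreathed (R : Subgroup (Ct t)) := by
  obtain ⟨e⟩ := nonempty_equiv S₀ (Or.inr hS) ht R
  exact Cfsg.Agent.TwoFusion.SylowTypeTransfer.isWreathed_of_mulEquiv e hS

section

variable {t : G} {L : Subgroup (Qt t)} [hL : L.Normal] {F : Type v} [Field F] [Finite F]
  {e : L ≃* SpecialLinearGroup (Fin 2) F}

theorem pt_surjective (t : G) : Function.Surjective (pt t) := QuotientGroup.mk'_surjective _

/-- The commutators lie in `N`. -/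
theorem comm_mem (x y : Ct t) : x * y * x⁻¹ * y⁻¹ ∈ StructF.N (pt t) L e := by
  have := StructF.isCyclic_quotient (π := pt t) (L := L) (e := e)
  let _ := IsCyclic.commGroup (α := Ct t ⧸ StructF.N (pt t) L e)
  rw [← QuotientGroup.eq_one_iff]
  have h1 : (QuotientGroup.mk (x * y * x⁻¹ * y⁻¹) : Ct t ⧸ StructF.N (pt t) L e) =
      QuotientGroup.mk x * QuotientGroup.mk y * (QuotientGroup.mk x)⁻¹ *
        (QuotientGroup.mk y)⁻¹ := rfl
  rw [h1, mul_comm (QuotientGroup.mk x : Ct t ⧸ StructF.N (pt t) L e), mul_inv_cancel_right,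
    mul_inv_cancel]

/-- `AD`. -/
theorem ad (hodd : Odd (H1 L e).index) (R : Sylow 2 (Ct t))
    (hR : Cfsg.IsQuasiDihedral (R : Subgroup (Ct t)) ∨ Cfsg.IsWreathed (R : Subgroup (Ct t))) :
    AD (StructF.N (pt t) L e) (R : Subgroup (Ct t)) where
  normal := StructF.N_normal
  comm := comm_mem
  odd_index := by
    have : Fact (Nat.Prime 2) := ⟨Nat.prime_two⟩
    have h1 := R.not_dvd_index
    rw [← Nat.not_even_iff_odd, even_iff_two_dvd]
    exact h1
  le := StructF.sylow_le_N (pt_surjective t) hodd R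
  cover := fun g => by
    obtain ⟨n, hn, c, hc, hg⟩ := StructF.exists_mul (pt_surjective t) hodd R hR g
    exact ⟨n, hn, c, hc, hg⟩

theorem tt_mem (hodd : Odd (H1 L e).index) (ht : orderOf t = 2) :
    General.tt t ∈ StructF.N (pt t) L e := by
  have : Fact (Nat.Prime 2) := ⟨Nat.prime_two⟩
  have h1 : IsPGroup 2 (Subgroup.zpowers (General.tt t)) := by
    refine IsPGroup.of_card (n := 1) ?_
    rw [Nat.card_zpowers, pow_one]
    rw [← ht, ← Subgroup.orderOf_coe]
    rfl
  obtain ⟨R, hR⟩ := h1.exists_le_sylow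
  exact StructF.sylow_le_N (pt_surjective t) hodd R (hR (Subgroup.mem_zpowers _))

/-- **The instance of `FHyp`.** -/
theorem fhyp (ht : orderOf t = 2) (hone : ∀ x : G, orderOf x = 2 → IsConj t x)
    (hodd : Odd (H1 L e).index) (R : Sylow 2 (Ct t))
    (hR : Cfsg.IsQuasiDihedral (R : Subgroup (Ct t)) ∨ Cfsg.IsWreathed (R : Subgroup (Ct t)))
    {z₁ : H1 L e} (hz : (z₁ : Qt t) = pt t (General.tt t)) :
    FHyp t z₁ (StructF.N (pt t) L e) (R : Subgroup (Ct t)) (StructF.piN (pt t) L e) where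
  orderOf_t := ht
  one_class := hone
  ad := ad hodd R hR
  surj := StructF.piN_surjective (pt_surjective t)
  odd_ker := by
    rw [StructF.card_ker_piN]
    exact odd_ker t
  t_mem := tt_mem hodd ht
  map_t := Subtype.ext hz.symm

/-- The image of `t` in `H1 L e`. -/
theorem pt_tt_mem (hodd : Odd (H1 L e).index) (ht : orderOf t = 2) :
    pt t (General.tt t) ∈ H1 L e := tt_mem hodd ht

theorem orderOf_pt_tt (ht : orderOf t = 2) : orderOf (pt t (General.tt t)) = 2 :=
  orderOf_pt ht _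

theorem pt_tt_central (k : Qt t) : pt t (General.tt t) * k = k * pt t (General.tt t) := by
  obtain ⟨c, rfl⟩ := QuotientGroup.mk'_surjective _ k
  rw [← map_mul, ← map_mul]
  congr 1
  exact Subtype.ext (Subgroup.mem_centralizer_singleton_iff.1 c.2).symm

/-- The image of `t`, quasi-dihedral case. -/
theorem pt_tt_qd {S : Sylow 2 (Qt t)} {y : Qt t} (h : QD S L e y) (ht : orderOf t = 2) :
    pt t (General.tt t) = z0 e := by
  have h1 := orderOf_pt_tt ht
  rcases (h.center _).1 pt_tt_central with h4 | h4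
  · rw [h4, orderOf_one] at h1
    omega
  · exact h4

/-- A central involution is `z0 e`, wreathed case. -/
theorem eq_z0 {H : Type*} [Group H] [Finite H] {S : Sylow 2 H} {L : Subgroup H} [L.Normal]
    {F : Type*} [Field F] [Finite F] {e : L ≃* SpecialLinearGroup (Fin 2) F} {n : ℕ}
    {u : ZMod (2 ^ n) → ZMod (2 ^ n) → (S : Subgroup H)} {s : (S : Subgroup H)}
    (h : WR S L e n u s) {z : H} (hz : orderOf z = 2) (hc : ∀ k, z * k = k * z) : z = z0 e := by
  have key : ∀ w : H, orderOf w = 2 → (∀ k, w * k = k * w) →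
      w = u (2 ^ (n - 1)) (2 ^ (n - 1)) := by
    intro w hw hwc
    obtain ⟨a, ha⟩ := (h.center w).1 hwc
    have h3 : 2 * a = 0 := by
      have h4 : u a a * u a a = u 0 0 := by
        apply Subtype.ext
        have h5 := pow_orderOf_eq_one w
        rw [hw, _root_.sq, ha] at h5
        rw [h.coord.u_zero]
        exact h5
      rw [h.coord.u_mul] at h4
      rw [two_mul]
      exact (h.coord.u_inj _ _ _ _ h4).1
    have h4 : a ≠ 0 := by
      rintro rfl
      rw [h.coord.u_zero] at ha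
      rw [ha] at hw
      simp at hw
    rcases (Cfsg.Agent.TwoFusion.QDBasic.two_mul_eq_zero_iff n
      (by have := h.coord.two_le; omega) a).1 h3 with h5 | h5
    · exact absurd h5 h4
    · rw [ha, h5]
  rw [key z hz hc, key (z0 e) (orderOf_z0 h.base.two_ne) (z0_central h.base)]

/-- The image of `t`, wreathed case. -/
theorem pt_tt_wr {S : Sylow 2 (Qt t)} {n : ℕ} {u : ZMod (2 ^ n) → ZMod (2 ^ n) → (S : Subgroup (Qt t))}
    {s : (S : Subgroup (Qt t))} (h : WR S L e n u s) (ht : orderOf t = 2) :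
    pt t (General.tt t) = z0 e := eq_z0 h (orderOf_pt_tt ht) pt_tt_central

/-- A nontrivial linear character of `C(t) / N`. -/
theorem exists_lam (hH : H1 L e ≠ ⊤) :
    ∃ l : Ct t ⧸ StructF.N (pt t) L e →* ℂ, l ≠ 1 := by
  have hcyc := StructF.isCyclic_quotient (π := pt t) (L := L) (e := e)
  let _ := IsCyclic.commGroup (α := Ct t ⧸ StructF.N (pt t) L e)
  have h1 : (StructF.N (pt t) L e).index ≠ 1 := by
    rw [StructF.index_N (pt_surjective t)]
    intro h2
    exact hH (Subgroup.index_eq_one.1 h2)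
  have h2 : Nontrivial (Ct t ⧸ StructF.N (pt t) L e) := by
    by_contra hcon
    rw [not_nontrivial_iff_subsingleton] at hcon
    apply h1
    rw [Subgroup.index]
    exact Nat.card_unique
  obtain ⟨x, hx⟩ := exists_ne (1 : Ct t ⧸ StructF.N (pt t) L e)
  obtain ⟨φ, hφ⟩ := CommGroup.exists_apply_ne_one_of_hasEnoughRootsOfUnity
    (Ct t ⧸ StructF.N (pt t) L e) ℂ hx
  refine ⟨(Units.coeHom ℂ).comp φ, fun h3 => hφ ?_⟩
  have h4 : ((φ x : ℂˣ) : ℂ) = 1 := DFunLike.congr_fun h3 x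
  exact Units.ext h4

/-- A value `≠ 1`. -/
theorem exists_lamFun_ne (hH : H1 L e ≠ ⊤) :
    ∃ (l : Ct t ⧸ StructF.N (pt t) L e →* ℂ) (x : Ct t), l ≠ 1 ∧
      lamFun (StructF.N (pt t) L e) l x ≠ 1 := by
  obtain ⟨l, hl⟩ := exists_lam (t := t) (e := e) hH
  by_contra hcon
  push Not at hcon
  apply hl
  refine MonoidHom.ext fun x => ?_
  obtain ⟨g, rfl⟩ := QuotientGroup.mk_surjective x
  exact hcon l g hl

end

section

variable {t : G} {L : Subgroup (Qt t)} [hL : L.Normal] {F : Type v} [Field F] [Finite F]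
  {e : L ≃* SpecialLinearGroup (Fin 2) F}

/-- **Quasi-dihedral case.** -/
theorem exists_fhyp_qd [IsSimpleGroup G] (S₀ : Sylow 2 G)
    (hS : Cfsg.IsQuasiDihedral (S₀ : Subgroup G)) (ht : orderOf t = 2) {S : Sylow 2 (Qt t)}
    {y : Qt t} (h : QD S L e y) :
    ∃ R : Sylow 2 (Ct t), Cfsg.IsQuasiDihedral (R : Subgroup (Ct t)) ∧
      ∀ z₁ : H1 L e, (z₁ : Qt t) = z0 e →
        FHyp t z₁ (StructF.N (pt t) L e) (R : Subgroup (Ct t)) (StructF.piN (pt t) L e) := by
  obtain ⟨R⟩ : Nonempty (Sylow 2 (Ct t)) := inferInstance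
  have hR := sylow_qd S₀ hS ht R
  exact ⟨R, hR, fun z₁ hz => fhyp ht (one_class S₀ (Or.inl hS) ht) (StructMain.odd_index h) R
    (Or.inl hR) (by rw [hz, pt_tt_qd h ht])⟩

/-- **Wreathed case.** -/
theorem exists_fhyp_wr [IsSimpleGroup G] (S₀ : Sylow 2 G)
    (hS : Cfsg.IsWreathed (S₀ : Subgroup G)) (ht : orderOf t = 2) {S : Sylow 2 (Qt t)} {n : ℕ}
    {u : ZMod (2 ^ n) → ZMod (2 ^ n) → (S : Subgroup (Qt t))} {s : (S : Subgroup (Qt t))}
    (h : WR S L e n u s) :
    ∃ R : Sylow 2 (Ct t), Cfsg.IsWreathed (R : Subgroup (Ct t)) ∧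
      ∀ z₁ : H1 L e, (z₁ : Qt t) = z0 e →
        FHyp t z₁ (StructF.N (pt t) L e) (R : Subgroup (Ct t)) (StructF.piN (pt t) L e) := by
  obtain ⟨R⟩ : Nonempty (Sylow 2 (Ct t)) := inferInstance
  have hR := sylow_wr S₀ hS ht R
  exact ⟨R, hR, fun z₁ hz => fhyp ht (one_class S₀ (Or.inr hS) ht) (StructMainW.odd_index h) R
    (Or.inr hR) (by rw [hz, pt_tt_wr h ht])⟩

end

end Cfsg.Agent.Classification.QDW.FldInst
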