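import Mathlib
import Cfsg.Agent.Classification.QDW.FieldS
import Cfsg.Agent.Classification.QDW.FldInst

/-!
# There are no field automorphisms

The context of the quasi-dihedral and of the wreathed case with field automorphisms.
-/

set_option autoImplicit false
set_option linter.unusedSectionVars false

open Cfsg

namespace Cfsg.Agent.Classification.QDW.FieldFinal

open Cfsg.Agent.Classification.InvCent Cfsg.Agent.Classification.QDW.InstC
  Cfsg.Agent.Classification.QDW.StructQ Cfsg.Agent.Classification.QDW.StructMain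
  Cfsg.Agent.Classification.QDW.Fld Cfsg.Agent.Classification.QDW.FuDichG
  Cfsg.Agent.Classification.QDW.FieldSetup Cfsg.Agent.Classification.QDW.InstModel
  Cfsg.Agent.Classification.QDW.InstModelW Cfsg.Agent.Classification.QDW.GeoTorus

universe u v

variable {G : Type u} [Group G] [Finite G] {t : G} {S : Sylow 2 (Qt t)} {L : Subgroup (Qt t)}
  [hLn : L.Normal] {F : Type v} [Field F] [Fintype F]
  {e : L ≃* Matrix.SpecialLinearGroup (Fin 2) F}

/-- The quasi-dihedral case with field automorphisms. -/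
theorem exists_ctx_qd [IsSimpleGroup G] (S₀ : Sylow 2 G)
    (hS₀ : Cfsg.IsQuasiDihedral (S₀ : Subgroup G)) (ht : orderOf t = 2) {y : Qt t}
    (h : QD S L e y) (hne : H1 L e ≠ ⊤) :
    ∃ (R : Sylow 2 (Ct t)) (ε : ℤ) (Z T T' U : Subgroup (H1 L e)) (z s₀ u₀ : H1 L e)
      (b : H1 L e →* ℂˣ) (u s k : G) (uM : u ∈ Subgroup.centralizer ({t} : Set G))
      (g : Matrix.GeneralLinearGroup (Fin 2) F) (W : Subgroup G) (p n r : ℕ)
      (hS : Setup t u s k (Subgroup.centralizer ({t} : Set G)) S L e (pt t) uM g ε W),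
      FHyp t z (StructF.N (pt t) L e) (R : Subgroup (Ct t)) (StructF.piN (pt t) L e) ∧
      CData z (Fintype.card F) ε Z T T' U s₀ u₀ u₀ b ∧
      (ε = 1 ∧ Fintype.card F % 4 = 3 ∨ ε = -1 ∧ Fintype.card F % 4 = 1) ∧
      pt t ⟨u, uM⟩ = (u₀ : Qt t) ∧ Zs F ε p n r ∧ Setup.Zsig hS p n r ∧
      n < r ∧ (ε = -1 → 2 * n < r) ∧ ¬ r ∣ (H1 L e).index ∧ ¬ hS.CaseS := by
  obtain ⟨R, -, hf'⟩ := FldInst.exists_fhyp_qd S₀ hS₀ ht h
  have hf := hf' (z0 (e1 L e)) FieldRes.z0_res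
  obtain ⟨ε, Z, T, T', U, s₀, b, hD, hε⟩ := FieldData.exists_cdata h
  have hodd := StructMain.odd_index h
  obtain ⟨p, n, r, hz, hnr, h2nr, hri⟩ := exists_zs (ε := ε) hodd h.base.two_ne hne hD.chyp.eps
  have hq := card_ge hz
  rw [Nat.card_eq_fintype_card] at hq
  obtain ⟨u, s, k, uM, g, W, hS, hπu, -⟩ := exists_setup (FldInst.pt_surjective t)
    (InstModel.odd_ker t) hf hD.chyp h.base h.sylow_le Nat.card_eq_fintype_card (by omega)
  refine ⟨R, ε, Z, T, T', U, z0 (e1 L e), s₀, _, b, u, s, k, uM, g, W, p, n, r, hS, hf, hD, hε,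
    hπu, hz, zsig_of_zs hS hz, hnr, h2nr, hri, fun hSS => ?_⟩
  obtain ⟨l, hl⟩ := FldInst.exists_lam (t := t) hne
  exact hl (FieldS.qd_caseS hf hD hε hodd h.base.two_ne hne hS hSS l)

/-- The wreathed case with field automorphisms. -/
theorem exists_ctx_wr [IsSimpleGroup G] (S₀ : Sylow 2 G)
    (hS₀ : Cfsg.IsWreathed (S₀ : Subgroup G)) (ht : orderOf t = 2) {m : ℕ}
    {v : ZMod (2 ^ m) → ZMod (2 ^ m) → (S : Subgroup (Qt t))} {w : (S : Subgroup (Qt t))}
    (h : StructW.WR S L e m v w) (hne : H1 L e ≠ ⊤) :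
    ∃ (R : Sylow 2 (Ct t)) (ε : ℤ) (Z T T' U : Subgroup (H1 L e)) (z s₀ s₀' u₀ : H1 L e)
      (b : H1 L e →* ℂˣ) (u s k : G) (uM : u ∈ Subgroup.centralizer ({t} : Set G))
      (g : Matrix.GeneralLinearGroup (Fin 2) F) (W : Subgroup G) (p n r : ℕ)
      (hS : Setup t u s k (Subgroup.centralizer ({t} : Set G)) S L e (pt t) uM g ε W),
      FHyp t z (StructF.N (pt t) L e) (R : Subgroup (Ct t)) (StructF.piN (pt t) L e) ∧
      WData z (Fintype.card F) ε Z T T' U s₀ s₀' u₀ (2 ^ m) b ∧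
      (ε = 1 ∧ Fintype.card F % 4 = 1 ∨ ε = -1 ∧ Fintype.card F % 4 = 3) ∧
      pt t ⟨u, uM⟩ = (u₀ : Qt t) ∧ Zs F ε p n r ∧ Setup.Zsig hS p n r ∧
      n < r ∧ (ε = -1 → 2 * n < r) ∧ ¬ r ∣ (H1 L e).index := by
  obtain ⟨R, -, hf'⟩ := FldInst.exists_fhyp_wr S₀ hS₀ ht h
  have hf := hf' (z0 (e1 L e)) FieldRes.z0_res
  have hodd := StructMainW.odd_index h
  have hz2 : orderOf (z0 (e1 L e)) = 2 := orderOf_z0 h.base.two_ne
  have hzc : ∀ c, c * z0 (e1 L e) = z0 (e1 L e) * c := fun c =>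
    (z0_central (FieldRes.base_res h.base h.sylow_le) c).symm
  obtain ⟨ε, Z, T, T', U, s₀, s₀', u₀, b, hW, hε⟩ := FieldData.exists_wdata h hz2 hzc
  obtain ⟨p, n, r, hz, hnr, h2nr, hri⟩ := exists_zs (ε := ε) hodd h.base.two_ne hne hW.chyp.eps
  have hq := card_ge hz
  rw [Nat.card_eq_fintype_card] at hq
  obtain ⟨u, s, k, uM, g, W, hS, hπu, -⟩ := exists_setup (FldInst.pt_surjective t)
    (InstModel.odd_ker t) hf hW.chyp h.base h.sylow_le Nat.card_eq_fintype_card (by omega)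
  exact ⟨R, ε, Z, T, T', U, z0 (e1 L e), s₀, s₀', u₀, b, u, s, k, uM, g, W, p, n, r, hS, hf, hW, hε,
    hπu, hz, zsig_of_zs hS hz, hnr, h2nr, hri⟩

end Cfsg.Agent.Classification.QDW.FieldFinal
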