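import Mathlib
import Cfsg.Agent.Classification.QDW.FldClass
import Cfsg.Agent.Classification.InvCent.WrVal
import Cfsg.Agent.Classification.InvCent.WrVec

/-!
# Wreathed case with field automorphisms: the values of `L θ` and `X` at `t`

The analogue of `InvCent.WrVal` for `FHyp` (`π : N →* C`, `N` normal in `C(t)`, `C(t) / N` abelian
of odd order); `FInd` replaces induction.

* `prin_Phi`, `prin_Psi`, `prin_Wf_sub`, `prin_uu`, `prin_vv`: the functions lie in the span of the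
  principal block;
* `exists_functions`: characters of the principal 2-block and the functions `R_T(f)`.
-/

set_option autoImplicit false
set_option linter.unusedSectionVars false

open Cfsg
open scoped ComplexConjugate

namespace Cfsg.Agent.Classification.QDW.FldWrVal

open Cfsg.Agent.Characters Cfsg.Agent.Classification.InvCent
  Cfsg.Agent.Classification.InvCent.LinChar Cfsg.Agent.Classification.InvCent.WrChar
  Cfsg.Agent.Classification.InvCent.WrFun Cfsg.Agent.Classification.InvCent.WreathedGram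
  Cfsg.Agent.Classification.InvCent.WrPsi Cfsg.Agent.Classification.InvCent.WrVec
  Cfsg.Agent.Classification.BGOrder
  Cfsg.Agent.Classification.BGBlockB0 Cfsg.Agent.Classification.BGIsometry
  Cfsg.Agent.Classification.BGSplit Cfsg.Agent.Classification.QDW.Fld
open Cfsg.Agent.Classification.InvCent.WrVal (isClassFunction_sub isClassFunction_Phi
  isClassFunction_Wf Phi_supp' inB_of_split two_le_half card_eq)

universe v w

section PrinFacts

variable {C : Type w} [Group C] [Fintype C] {z : C} {q : ℕ} {ε : ℤ} {Z T T' U : Subgroup C}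
  {s s' u : C} {r : ℕ} {b : C →* ℂˣ} {hC : CHyp z q ε Z T T' U s s' u} {μ : U →* ℂˣ}
  {ξ : T →* ℂˣ} {θ : T' →* ℂˣ} {M : Ideal AlgInt}

/-- A homomorphism with values of 2-power order is trivial on elements of odd order. -/
theorem hom_odd {A : Type*} [Group A] {χ : A →* ℂˣ} {y : A} {m : ℕ} (h : χ y ^ 2 ^ m = 1)
    (hy : Odd (orderOf y)) : χ y = 1 := by
  have h1 := orderOf_dvd_of_pow_eq_one h
  have h2 := orderOf_map_dvd χ y
  have h3 : Nat.Coprime (2 ^ m) (orderOf y) :=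
    Nat.Coprime.pow_left _ (Nat.coprime_two_left.2 hy)
  exact orderOf_eq_one_iff.1 (Nat.eq_one_of_dvd_coprimes h3 h1 h2)

theorem xi_odd (hD : DetHyp q ε T T' U s s' u r b) (hξ : XiHyp hC r b ξ) {y : T}
    (hy : Odd (orderOf y)) : ξ y = 1 := by
  obtain ⟨m, -, hm⟩ := hD.r_pow
  exact hom_odd (m := m) (by rw [← hm]; exact hξ.pow y) hy

theorem theta_odd (hD : DetHyp q ε T T' U s s' u r b) (hθ : ThetaHyp hC r b θ) {y : T'}
    (hy : Odd (orderOf y)) : θ y = 1 := by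
  obtain ⟨m, -, hm⟩ := hD.r_pow
  refine hom_odd (m := m + 1) ?_ hy
  rw [pow_succ', pow_mul, hθ.sq, ← hm]
  exact hD.pow_eq_one _

theorem lin_mul {T₁ : Subgroup C} (χ : T₁ →* ℂˣ) {x y : C} (hx : x ∈ T₁) (hy : y ∈ T₁) :
    lin T₁ χ (x * y) = lin T₁ χ x * lin T₁ χ y := by
  rw [lin_apply _ (mul_mem hx hy), lin_apply _ hx, lin_apply _ hy, ← Units.val_mul, ← map_mul]
  rfl

theorem lin_X_odd (hD : DetHyp q ε T T' U s s' u r b) (hξ : XiHyp hC r b ξ) (i j : ℕ) {x : C}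
    (hx : x ∈ T) {y : C} (hy : y ∈ T) (hyo : Odd (orderOf y)) :
    lin T (X hC ξ i j) (x * y) = lin T (X hC ξ i j) x := by
  have h1 : Odd (orderOf (⟨y, hy⟩ : T)) := by rwa [Subgroup.orderOf_mk]
  have h2 : Odd (orderOf (sg hC.torus ⟨y, hy⟩)) :=
    h1.of_dvd_nat (orderOf_map_dvd (sg hC.torus) _)
  rw [lin_mul _ hx hy, lin_X _ _ hy, xi_odd hD hξ h1, xi_odd hD hξ h2, Units.val_one, one_pow,
    one_pow, mul_one, mul_one]

theorem lin_theta_odd (hD : DetHyp q ε T T' U s s' u r b) (hθ : ThetaHyp hC r b θ) (n : ℕ) {x : C}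
    (hx : x ∈ T') {y : C} (hy : y ∈ T') (hyo : Odd (orderOf y)) :
    lin T' (θ ^ n) (x * y) = lin T' (θ ^ n) x := by
  have h1 : Odd (orderOf (⟨y, hy⟩ : T')) := by rwa [Subgroup.orderOf_mk]
  rw [lin_mul _ hx hy, lin_pow _ _ hy, lin_apply _ hy, theta_odd hD hθ h1, Units.val_one, one_pow,
    mul_one]

theorem prin_theta (hD : DetHyp q ε T T' U s s' u r b) (hθ : ThetaHyp hC r b θ)
    (hμ : ∃ v : U, μ v ≠ 1) (hM : IsPModular 2 M) (m n : ℕ) :
    Prin M (Rt' hC μ (θ ^ m) - Rt' hC μ (θ ^ n)) := by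
  have h1 : Rt' hC μ (θ ^ m) - Rt' hC μ (θ ^ n) =
      Torus.R T' hC.base μ (lin T' (θ ^ m) - lin T' (θ ^ n)) := by rw [R_sub]
  rw [h1]
  refine prin_R' hC hM hμ (lin_theta_ne hD hθ _ _) fun x hx _ y hy hyo => ?_
  rw [Pi.sub_apply, Pi.sub_apply, lin_theta_odd hD hθ _ hx hy hyo, lin_theta_odd hD hθ _ hx hy hyo]

theorem prin_Phi (hD : DetHyp q ε T T' U s s' u r b) (hθ : ThetaHyp hC r b θ)
    (hμ : ∃ v : U, μ v ≠ 1) (hM : IsPModular 2 M) (l i : ℕ) : Prin M (Phi hC μ θ l i) :=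
  prin_theta hD hθ hμ hM _ _

theorem prin_uu (hD : DetHyp q ε T T' U s s' u r b) (hr : 4 ∣ r) (hξ : XiHyp hC r b ξ)
    (hμ : ∃ v : U, μ v ≠ 1) (hM : IsPModular 2 M) (i j : ℕ) : Prin M (uu hC μ ξ r i j) := by
  refine prin_R hC hM hμ (F_supp hD hr hξ i j) fun x hx _ y hy hyo => ?_
  unfold F
  simp only [Pi.sub_apply, Pi.add_apply, lin_X_odd hD hξ _ _ hx hy hyo]

theorem prin_vv (hD : DetHyp q ε T T' U s s' u r b) (hr : 4 ∣ r) (hξ : XiHyp hC r b ξ)
    (hθ : ThetaHyp hC r b θ) (hμ : ∃ v : U, μ v ≠ 1) (hM : IsPModular 2 M) (i : ℕ) :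
    Prin M (vv hC μ ξ b r i) := by
  have h1 : vv hC μ ξ b r i = (1 / 2 : ℂ) • (uu hC μ ξ r i i +
      (Rt' hC μ (θ ^ (2 * i)) - Rt' hC μ (θ ^ (2 * (i + r / 2))))) := by
    rw [← two_vv hD hξ hθ hμ i, smul_smul]
    norm_num
  rw [h1]
  exact ((prin_uu hD hr hξ hμ hM i i).add (prin_theta hD hθ hμ hM _ _)).smul _

theorem prin_Psi (hD : DetHyp q ε T T' U s s' u r b) (hr : 4 ∣ r) (hξ : XiHyp hC r b ξ)
    (hθ : ThetaHyp hC r b θ) (hμ : ∃ v : U, μ v ≠ 1) (hM : IsPModular 2 M) :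
    Prin M (Psi hC μ ξ b r) := by
  have h1 : Psi hC μ ξ b r = (1 / 2 : ℂ) • (Torus.R T hC.base μ (FF hC ξ r) +
      Torus.R T' hC.base μ (FF' T' θ r)) := by
    rw [← two_Psi hD hξ hθ hμ, smul_smul]
    norm_num
  rw [h1]
  refine (Prin.add ?_ ?_).smul _
  · refine prin_R hC hM hμ (FF_supp hD hr hξ) fun x hx _ y hy hyo => ?_
    unfold FF
    simp only [Pi.sub_apply, Pi.add_apply, lin_X_odd hD hξ _ _ hx hy hyo]
  · refine prin_R' hC hM hμ (lin_theta_ne hD hθ _ _) fun x hx _ y hy hyo => ?_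
    unfold FF'
    rw [Pi.sub_apply, Pi.sub_apply, lin_theta_odd hD hθ _ hx hy hyo,
      lin_theta_odd hD hθ _ hx hy hyo]

theorem prin_Wf_sub (hD : DetHyp q ε T T' U s s' u r b) (hξ : XiHyp hC r b ξ)
    (hμ : ∃ v : U, μ v ≠ 1) (hM : IsPModular 2 M) (k l : ℕ) :
    Prin M (Wf hC μ ξ r k - Wf hC μ ξ r l) := by
  rw [Wf_eq, Wf_eq, ← R_sub]
  refine prin_R hC hM hμ (fun x hx hf => ff_supp hD hξ k l hx hf) fun x hx _ y hy hyo => ?_
  unfold ff
  rw [Pi.sub_apply, Pi.sub_apply, Finset.sum_apply, Finset.sum_apply, Finset.sum_apply,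
    Finset.sum_apply]
  simp only [lin_X_odd hD hξ _ _ hx hy hyo]

end PrinFacts

section Inner

variable {G : Type v} [Group G] [Fintype G] {C : Type w} [Group C] [Fintype C] {t : G} {z : C}
  {N S : Subgroup (Subgroup.centralizer ({t} : Set G))} {π : N →* C} {M : Ideal AlgInt}
  {q : ℕ} {ε : ℤ} {Z T T' U : Subgroup C} {s s' u : C}

/-- Inner products of `X` with the functions coming from `R_T(f)`. -/
theorem classInner_FInd_R (H : FHyp t z N S π) (hM : IsPModular 2 M)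
    (hC : CHyp z q ε Z T T' U s s' u) {X : G → ℂ} (hX : Prin M X) {F : C → ℂ}
    (hFc : IsClassFunction C F)
    (hF : ∀ n : N, z ∈ Subgroup.zpowers (π n) →
      X ((n : Subgroup.centralizer ({t} : Set G)) : G) = F (π n))
    {δ : ℤ} {T₁ : Subgroup C} {s₁ : C} (hT : Torus q δ Z T₁ s₁) {μ : U →* ℂˣ}
    (hμ : ∃ v : U, μ v ≠ 1) {v₀ : C} (hv₀ : v₀ ∈ U) (hv₀1 : v₀ ≠ 1) {f : C → ℂ}
    (hf : ∀ x ∈ T₁, f x ≠ 0 → z ∈ Subgroup.zpowers x) :
    classInner (FInd M π (Torus.R T₁ hC.base μ f)) X =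
        (Nat.card T₁ : ℂ)⁻¹ * ssum T₁ (fun x => f x * conj (Torus.GG q δ Z F v₀ x)) := by
  rw [FInd_values H hM hX (fun c hc => R_support hC hT μ hf hc)
    (fun n hn => hF n (R_support hC hT μ hf hn)), hT.classInner_R_GG hC.base hμ f hFc hv₀ hv₀1]

/-- **The characters of the principal 2-block and the functions `R_T(f)`.** -/
theorem exists_functions (H : FHyp t z N S π) (hM : IsPModular 2 M)
    (hC : CHyp z q ε Z T T' U s s' u) {X : G → ℂ} (hX : InB (principalBlock M G) X)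
    {μ : U →* ℂˣ} (hμ : ∃ v : U, μ v ≠ 1) :
    ∃ a a' : C → ℂ,
      (∀ x ∈ T, z ∈ Subgroup.zpowers x → ∀ y ∈ T, Odd (orderOf y) → a (x * y) = a x) ∧
      (∀ x ∈ T', z ∈ Subgroup.zpowers x → ∀ y ∈ T', Odd (orderOf y) → a' (x * y) = a' x) ∧
      (∀ f : C → ℂ, (∀ x ∈ T, f x ≠ 0 → z ∈ Subgroup.zpowers x) →
        classInner (FInd M π (Torus.R T hC.base μ f)) X =
            (Nat.card T : ℂ)⁻¹ * ssum T (fun x => f x * conj (a x))) ∧
      (∀ f : C → ℂ, (∀ x ∈ T', f x ≠ 0 → z ∈ Subgroup.zpowers x) →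
        classInner (FInd M π (Torus.R T' hC.base μ f)) X =
            (Nat.card T' : ℂ)⁻¹ * ssum T' (fun x => f x * conj (a' x))) ∧
      (∀ x ∈ T, x ∉ Z → z ∈ Subgroup.zpowers x →
        ∀ g : N, π g = x → X ((g : Subgroup.centralizer ({t} : Set G)) : G) = a x) ∧
      (∀ x ∈ T', x ∉ Z → z ∈ Subgroup.zpowers x →
        ∀ g : N, π g = x → X ((g : Subgroup.centralizer ({t} : Set G)) : G) = a' x) ∧
      (∀ ζ ∈ Z, z ∈ Subgroup.zpowers ζ → ∀ g : N, π g = ζ →
        X ((g : Subgroup.centralizer ({t} : Set G)) : G) =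
          ((1 + ε * q) * a ζ + (1 - ε * q) * a' ζ) / 2) ∧
      (∀ ζ ∈ Z, z ∈ Subgroup.zpowers ζ → ∀ v ∈ U, v ≠ 1 → ∀ g : N, π g = ζ * v →
        X ((g : Subgroup.centralizer ({t} : Set G)) : G) = (a ζ + a' ζ) / 2) ∧
      X t = ((1 + ε * q) * a z + (1 - ε * q) * a' z) / 2 := by
  obtain ⟨F, hFp, -, hF⟩ := exists_F H hM (show Prin M X from blockPart_of_inB hX)
  have hFc := hFp.isClass
  obtain ⟨v₀, hv₀, hv₀1⟩ := hC.base.exists_ne_one
  obtain ⟨h1, h2⟩ := Prin.GG_eq hC hM hFp hv₀ hv₀1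
  have hZv : ∀ ζ ∈ Z, z ∈ Subgroup.zpowers ζ → ∀ g : N, π g = ζ →
      X ((g : Subgroup.centralizer ({t} : Set G)) : G) = ((1 + ε * q) * Torus.GG q ε Z F v₀ ζ +
        (1 - ε * q) * Torus.GG q (-ε) Z F v₀ ζ) / 2 := by
    intro ζ hζ hzζ g hg
    rw [hF g (by rw [hg]; exact hzζ), hg]
    exact (hC.torus.eq_of_GG hC.base hζ).1
  refine ⟨Torus.GG q ε Z F v₀, Torus.GG q (-ε) Z F v₀, fun x hx _ => h1 x hx,
    fun x hx _ => h2 x hx,
    fun f hf => classInner_FInd_R H hM hC (blockPart_of_inB hX) hFc hF hC.torus hμ hv₀ hv₀1 hf,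
    fun f hf => classInner_FInd_R H hM hC (blockPart_of_inB hX) hFc hF hC.torus' hμ hv₀ hv₀1 hf,
    ?_, ?_, hZv, ?_, ?_⟩
  · intro x _ hxZ hzx g hg
    rw [hF g (by rw [hg]; exact hzx), hg, Torus.GG_notMem hxZ]
  · intro x _ hxZ hzx g hg
    rw [hF g (by rw [hg]; exact hzx), hg, Torus.GG_notMem hxZ]
  · intro ζ hζ hzζ v hv hv1 g hg
    rw [hF g (by
      rw [hg]
      exact mem_zpowers_mul hC.z_sq hzζ (hC.Z_central ζ hζ v).symm (hC.odd_orderOf_U hv)), hg,
      ← (hC.torus.eq_of_GG hC.base hζ (ψ := F) (v₀ := v₀)).2]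
    obtain ⟨c, hc⟩ := hC.fus_U v₀ hv₀ v hv hv₀1 hv1
    rw [← hFc (ζ * v₀) c]
    congr 1
    rw [← hc, ← mul_assoc c, hC.Z_central ζ hζ c]
    group
  · exact hZv z hC.t_mem (Subgroup.mem_zpowers z) (tN H) H.map_tN

end Inner

section Ind

variable {G : Type v} [Group G] [Fintype G] {C : Type w} [Group C] [Fintype C] {t : G} {z : C}
  {N S : Subgroup (Subgroup.centralizer ({t} : Set G))} {π : N →* C} {M : Ideal AlgInt}

theorem FI_apply (f : C → ℂ) : FI (t := t) M π f = FInd M π f := rfl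

theorem conj_FI (f : C → ℂ) (g : G) :
    conj (FI (t := t) M π f g) = FI M π (fun c => conj (f c)) g :=
  (congrFun (FInd_conj (M := M) (π := π) f) g).symm

theorem FI_t (H : FHyp t z N S π) (hM : IsPModular 2 M) {f : C → ℂ} (hf : Prin M f)
    (hf0 : ∀ c, f c ≠ 0 → z ∈ Subgroup.zpowers c) : FI M π f t = f z := FInd_t H hM hf hf0

/-- Inner product with a fixed function as a linear form. -/
noncomputable def nu (M : Ideal AlgInt) {N : Subgroup (Subgroup.centralizer ({t} : Set G))}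
    (π : N →* C) (X : G → ℂ) : (C → ℂ) →ₗ[ℂ] ℂ where
  toFun f := classInner (FI M π f) X
  map_add' f g := by rw [map_add, Core.classInner_add_left]
  map_smul' a f := by rw [map_smul, Core.classInner_smul_left]; rfl

theorem nu_apply (X : G → ℂ) (f : C → ℂ) : nu M π X f = classInner (FI M π f) X := rfl

theorem nu_int {X : G → ℂ} (hX : SignedIrr X) (f : C → ℂ) (hf : IsGeneralizedCharacter C f) :
    ∃ n : ℤ, nu M π X f = n :=
  inner_int (isGeneralized_FInd hf) hX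

end Ind

section Fam

variable {G : Type v} [Group G] [Fintype G] {C : Type w} [Group C] [Fintype C] {t : G} {z : C}
  {N S : Subgroup (Subgroup.centralizer ({t} : Set G))} {π : N →* C} {M : Ideal AlgInt} {q : ℕ} {ε : ℤ} {Z T T' U : Subgroup C}
  {s s' u : C} {r : ℕ} {b : C →* ℂˣ} {hC : CHyp z q ε Z T T' U s s' u} {μ : U →* ℂˣ}
  {ξ : T →* ℂˣ} {θ : T' →* ℂˣ}

/-- The family on `G`. -/
noncomputable def PhiG (M : Ideal AlgInt)
    {N : Subgroup (Subgroup.centralizer ({t} : Set G))} (π : N →* C) (hC : CHyp z q ε Z T T' U s s' u) (μ : U →* ℂˣ) (θ : T' →* ℂˣ) (r : ℕ) :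
    Fin r → Fin (r / 2) → G → ℂ := fun l i => FI M π (Phi hC μ θ l i)

theorem PhiG_apply (l : Fin r) (i : Fin (r / 2)) :
    PhiG M π hC μ θ r l i = FI M π (Phi hC μ θ l i) := rfl

theorem inner_PhiG (H : FHyp t z N S π) (hM : IsPModular 2 M)
    (hD : DetHyp q ε T T' U s s' u r b) (hr : 4 ∣ r)
    (hθ : ThetaHyp hC r b θ) (hμ : ∃ v : U, μ v ≠ 1) (l : Fin r) (i : Fin (r / 2))
    (l' : Fin r) (i' : Fin (r / 2)) :
    classInner (PhiG M π hC μ θ r l i) (PhiG M π hC μ θ r l' i') =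
      (if l = l' then 2 else 0) + (if i = i' then 1 else 0) := by
  rw [PhiG_apply, PhiG_apply, FI_apply, FI_apply, FInd_inner H hM (prin_Phi hD hθ hμ hM _ _)
      (fun c hc => Phi_supp' hD hθ hμ _ _ hc)
      (fun c hc => Phi_supp' hD hθ hμ _ _ hc), inner_Phi hD hr hθ hμ l.2 i.2 l'.2 i'.2]
  simp only [Fin.ext_iff]

theorem inner_PhiG_one (H : FHyp t z N S π) (hM : IsPModular 2 M)
    (hD : DetHyp q ε T T' U s s' u r b)
    (hθ : ThetaHyp hC r b θ) (hμ : ∃ v : U, μ v ≠ 1) (l : Fin r) (i : Fin (r / 2)) :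
    classInner (PhiG M π hC μ θ r l i) 1 = if l = ⟨0, two_r hD⟩ then 1 else 0 := by
  rw [PhiG_apply, FI_apply, FInd_one H hM (fun c hc => Phi_supp' hD hθ hμ _ _ hc),
    inner_Phi_one hD hθ hμ l.2]
  simp only [Fin.ext_iff]

theorem isGeneralized_PhiG (l : Fin r) (i : Fin (r / 2)) :
    IsGeneralizedCharacter G (PhiG M π hC μ θ r l i) := by
  rw [PhiG_apply, FI_apply]
  exact isGeneralized_FInd (isGeneralized_Phi _ _)

theorem PhiG_odd (H : FHyp t z N S π) (hM : IsPModular 2 M)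
    (hD : DetHyp q ε T T' U s s' u r b)
    (hθ : ThetaHyp hC r b θ) (hμ : ∃ v : U, μ v ≠ 1) (l : Fin r) (i : Fin (r / 2)) {g : G}
    (hg : Odd (orderOf g)) : PhiG M π hC μ θ r l i g = 0 := by
  rw [PhiG_apply, FI_apply]
  exact FInd_odd H hM (fun _ hc => Phi_supp' hD hθ hμ _ _ hc) hg

/-- **The family.** -/
theorem family (H : FHyp t z N S π) (hM : IsPModular 2 M)
    (hD : DetHyp q ε T T' U s s' u r b) (hr : 4 ∣ r)
    (hθ : ThetaHyp hC r b θ) (hμ : ∃ v : U, μ v ≠ 1) :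
    Family (⟨0, two_r hD⟩ : Fin r) (PhiG M π hC μ θ r) where
  gen l i := isGeneralized_PhiG l i
  at_one l i := PhiG_odd H hM hD hθ hμ l i (by rw [orderOf_one]; exact odd_one)
  gram l i l' i' := inner_PhiG H hM hD hr hθ hμ l i l' i'
  triv l i := inner_PhiG_one H hM hD hθ hμ l i

/-- `(L, Wf k - Wf 0) = 0`. -/
theorem inner_L_Wf (H : FHyp t z N S π) (hM : IsPModular 2 M)
    (hD : DetHyp q ε T T' U s s' u r b) (hr : 4 ∣ r)
    (hξ : XiHyp hC r b ξ) (hθ : ThetaHyp hC r b θ) (hμ : ∃ v : U, μ v ≠ 1)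
    {X : G → ℂ} {L : Fin (r / 2) → G → ℂ}
    (hs : Split (⟨0, two_r hD⟩ : Fin r) (PhiG M π hC μ θ r) X L) (i : Fin (r / 2)) (k : ℕ)
    (hk : k < r) : classInner (FI M π (Wf hC μ ξ r k - Wf hC μ ξ r 0)) (L i) = 0 := by
  have hfam := family (hC := hC) H hM hD hr hθ hμ
  have h0 := two_r hD
  have hΘ := two_le_half hD hr
  by_cases hk0 : k = 0
  · rw [hk0, sub_self, map_zero, Core.classInner_zero_left]
  set w : G → ℂ := FI M π (Wf hC μ ξ r k - Wf hC μ ξ r 0) with hw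
  have hsupp : ∀ c, (Wf hC μ ξ r k - Wf hC μ ξ r 0) c ≠ 0 → z ∈ Subgroup.zpowers c :=
    fun c hc => Wf_supp hD hξ hμ k 0 hc
  have hcl : IsClassFunction C (Wf hC μ ξ r k - Wf hC μ ξ r 0) :=
    isClassFunction_sub (isClassFunction_Wf k) (isClassFunction_Wf 0)
  have hw1 : w 1 = 0 := FInd_at_one H hM hsupp
  have hww : classInner w w = 4 * Fintype.card (Fin r) := by
    rw [hw, FI_apply, FInd_inner H hM (prin_Wf_sub hD hξ hμ hM _ _) hsupp hsupp, Core.classInner_sub_left,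
      Core.classInner_sub_right, Core.classInner_sub_right, inner_Wf hD hξ hμ hk hk,
      inner_Wf hD hξ hμ hk h0, inner_Wf hD hξ hμ h0 hk, inner_Wf hD hξ hμ h0 h0, if_pos rfl,
      if_neg hk0, if_neg (Ne.symm hk0), if_pos rfl, Fintype.card_fin]
    ring
  have hΦw : ∀ (l : Fin r) (i : Fin (r / 2)), classInner (PhiG M π hC μ θ r l i) w = 0 := by
    intro l i
    rw [hw, PhiG_apply, FI_apply, FI_apply, FInd_inner H hM (prin_Wf_sub hD hξ hμ hM _ _)
      (fun c hc => Phi_supp' hD hθ hμ _ _ hc) hsupp, Core.classInner_sub_right,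
      inner_Phi_Wf hμ, inner_Phi_Wf hμ, sub_zero]
  -- evenness
  have hK : ∀ l < r, nu M π (L i) (Rt' hC μ (θ ^ (2 * l))) =
      nu M π (L i) (Rt' hC μ (θ ^ (2 * 0))) := by
    intro l hl
    have h1 := hfam.phi_L hs (by rw [card_eq hr]; omega) hΘ ⟨l, hl⟩ i i
    have h2 := hfam.phi_L hs (by rw [card_eq hr]; omega) hΘ ⟨0, h0⟩ i i
    rw [if_pos rfl, PhiG_apply, ← nu_apply, Phi, map_sub] at h1 h2
    linear_combination h1 - h2
  obtain ⟨n, hn⟩ := even_Wf hD hr hξ hθ hμ (nu M π (L i)) (nu_int (hs.sL i)) hK k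
  obtain ⟨n', hn'⟩ := even_Wf hD hr hξ hθ hμ (nu M π (L i)) (nu_int (hs.sL i)) hK 0
  have hwL : classInner w (L i) = ((2 * (n - n') : ℤ) : ℂ) := by
    rw [hw, ← nu_apply, map_sub, hn, hn']
    push_cast
    ring
  have hLw := inner_conj_int hwL
  have h1 := hfam.inner_eq_zero hs hΘ (card_eq hr) hw1 hww hΦw i (b := n - n')
    (by rw [hLw]; push_cast; ring)
  exact inner_symm_zero h1

/-- **The values of `L i` and of `X` at `t`.** -/
theorem value_L (H : FHyp t z N S π) (hM : IsPModular 2 M)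
    (hD : DetHyp q ε T T' U s s' u r b) (hr : 4 ∣ r)
    (hξ : XiHyp hC r b ξ) (hθ : ThetaHyp hC r b θ) (hμ : ∃ v : U, μ v ≠ 1)
    {X : G → ℂ} {L : Fin (r / 2) → G → ℂ}
    (hs : Split (⟨0, two_r hD⟩ : Fin r) (PhiG M π hC μ θ r) X L) (i : Fin (r / 2)) :
    L i t = 1 - ε * q := by
  have hfam := family (hC := hC) H hM hD hr hθ hμ
  have h0 := two_r hD
  have hΘ := two_le_half hD hr
  have hodd : ∀ g, Odd (orderOf g) → PhiG M π hC μ θ r ⟨0, h0⟩ i g = 0 :=
    fun g hg => PhiG_odd H hM hD hθ hμ _ i hg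
  obtain ⟨-, hLB⟩ := inB_of_split hM hs.sX (hs.sL i) (hs.eq i) hodd
  obtain ⟨a, a', ha, ha', hT, hT', -, -, -, -, hval⟩ := exists_functions H hM hC hLB hμ
  have haz : a z = 0 := by
    refine eq_zero_of_ff hD hξ ha fun k hk => ?_
    rw [← hT (ff hC ξ r k - ff hC ξ r 0) (fun x hx hf => ff_supp hD hξ k 0 hx hf)]
    have h1 := inner_L_Wf H hM hD hr hξ hθ hμ hs i k hk
    rw [Wf_eq, Wf_eq, ← R_sub] at h1
    exact h1
  have haz' : a' z = 2 := by
    have h1 := hT' (ee T' θ r) (fun x hx hf => ee_supp hD hθ hx hf)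
    rw [inner_ee hD hθ ha', R_ee hr hθ hμ hD] at h1
    have h2 : classInner (FInd M π
        (∑ l ∈ Finset.range r, Phi hC μ θ l (l % (r / 2)))) (L i) = 2 := by
      have h3 : classInner (FInd M π
        (∑ l ∈ Finset.range r, Phi hC μ θ l (l % (r / 2)))) (L i) =
          nu M π (L i) (∑ l ∈ Finset.range r, Phi hC μ θ l (l % (r / 2))) := rfl
      rw [h3, map_sum]
      have h4 : ∀ l ∈ Finset.range r, nu M π (L i) (Phi hC μ θ l (l % (r / 2))) =
          if l % (r / 2) = (i : ℕ) then 1 else 0 := by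
        intro l hl
        have h5 := hfam.phi_L hs (by rw [card_eq hr]; omega) hΘ ⟨l, Finset.mem_range.1 hl⟩
          ⟨l % (r / 2), Nat.mod_lt _ (by
            rw [Fintype.card_fin] at hΘ; omega)⟩ i
        rw [PhiG_apply, ← nu_apply] at h5
        simp only [Fin.ext_iff] at h5
        exact h5
      rw [Finset.sum_congr rfl h4]
      -- exactly two indices
      have hi := i.2
      have h6 : ∀ l ∈ Finset.range r, (if l % (r / 2) = (i : ℕ) then (1 : ℂ) else 0) =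
          (if l = (i : ℕ) then 1 else 0) + (if l = (i : ℕ) + r / 2 then 1 else 0) := by
        intro l hl
        have hl' := Finset.mem_range.1 hl
        obtain ⟨c, hc⟩ := hr
        by_cases h7 : l < r / 2
        · rw [Nat.mod_eq_of_lt h7, if_neg (show ¬ l = (i : ℕ) + r / 2 by omega), add_zero]
        · rw [Nat.mod_eq_sub_mod (by omega), Nat.mod_eq_of_lt (by omega),
            if_neg (show ¬ l = (i : ℕ) by omega), zero_add]
          by_cases h8 : l = (i : ℕ) + r / 2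
          · rw [if_pos h8, if_pos (by omega)]
          · rw [if_neg h8, if_neg (by omega)]
      rw [Finset.sum_congr rfl h6, Finset.sum_add_distrib, Finset.sum_ite_eq' (Finset.range r),
        Finset.sum_ite_eq' (Finset.range r), if_pos (Finset.mem_range.2 (by omega)),
        if_pos (Finset.mem_range.2 (by omega))]
      norm_num
    rw [h2] at h1
    have h3 := congrArg conj h1
    rw [Complex.conj_conj] at h3
    rw [← h3]
    exact (map_ofNat _ 2)
  rw [hval, haz, haz']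
  ring

theorem value_X (H : FHyp t z N S π) (hM : IsPModular 2 M)
    (hD : DetHyp q ε T T' U s s' u r b) (hr : 4 ∣ r)
    (hξ : XiHyp hC r b ξ) (hθ : ThetaHyp hC r b θ) (hμ : ∃ v : U, μ v ≠ 1)
    {X : G → ℂ} {L : Fin (r / 2) → G → ℂ}
    (hs : Split (⟨0, two_r hD⟩ : Fin r) (PhiG M π hC μ θ r) X L) (i : Fin (r / 2))
    (hz : Phi hC μ θ 0 i z = 2 * (1 - ε * q)) : X t = ε * q := by
  have h1 := value_L H hM hD hr hξ hθ hμ hs i
  have h2 := congrFun (hs.eq i) t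
  simp only [Pi.add_apply, Pi.sub_apply, Pi.one_apply] at h2
  rw [PhiG_apply, FI_t H hM (prin_Phi hD hθ hμ hM _ _) (fun c hc => Phi_supp' hD hθ hμ _ _ hc), hz, h1] at h2
  linear_combination h2

end Fam

end Cfsg.Agent.Classification.QDW.FldWrVal
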