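import Mathlib
import Cfsg.Agent.Classification.QDW.FldWrChiQS
import Cfsg.Agent.Classification.InvCent.WrChiVal

/-!
# Wreathed case with field automorphisms: the values of `χ` of degree `q ^ 2 + ε q`

The analogue of `InvCent.WrChiVal` for `FHyp`.
-/

set_option autoImplicit false
set_option linter.unusedSectionVars false

open Cfsg
open scoped ComplexConjugate

namespace Cfsg.Agent.Classification.QDW.FldWrChi

open Cfsg.Agent.Characters Cfsg.Agent.Classification.InvCent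
  Cfsg.Agent.Classification.InvCent.LinChar Cfsg.Agent.Classification.InvCent.WrChar
  Cfsg.Agent.Classification.InvCent.WrFun Cfsg.Agent.Classification.InvCent.WreathedGram
  Cfsg.Agent.Classification.InvCent.WreathedGramTwo
  Cfsg.Agent.Classification.InvCent.WrPsi Cfsg.Agent.Classification.InvCent.WrVec
  Cfsg.Agent.Classification.InvCent.WrGramThree Cfsg.Agent.Classification.BGOrder
  Cfsg.Agent.Classification.BGBlockB0 Cfsg.Agent.Classification.BGIsometry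
  Cfsg.Agent.Classification.BGSplit Cfsg.Agent.Characters.GaloisBasic
  Cfsg.Agent.Classification.QDW.Fld Cfsg.Agent.Classification.QDW.FldWrVal
  Cfsg.Agent.Classification.QDW.FldWrChiQS
open Cfsg.Agent.Classification.InvCent.WrVal (isClassFunction_sub isClassFunction_Phi
  isClassFunction_Wf Phi_supp' inB_of_split two_le_half card_eq)
open Cfsg.Agent.Classification.InvCent.WrChiQS (half_lt isClassFunction_vv isClassFunction_uu
  Q_facts)
open Cfsg.Agent.Classification.InvCent.WrChiVal (ssum_finset ssum_F Lev lev_of_mem)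

universe v w

section Main

variable {G : Type v} [Group G] [Fintype G] {C : Type w} [Group C] [Fintype C] {t : G} {z : C}
  {N S : Subgroup (Subgroup.centralizer ({t} : Set G))} {π : N →* C} {M : Ideal AlgInt}
  {q : ℕ} {ε : ℤ} {Z T T' U : Subgroup C}
  {s s' u : C} {r : ℕ} {b : C →* ℂˣ} {hC : CHyp z q ε Z T T' U s s' u} {μ : U →* ℂˣ}
  {ξ : T →* ℂˣ} {θ : T' →* ℂˣ}

/-- `(R_T'(θ^m), χ)` does not depend on `m`. -/
theorem nu_theta (hD : DetHyp q ε T T' U s s' u r b) (hr : 4 ∣ r)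
    (hθ : ThetaHyp hC r b θ) (hμ : ∃ v : U, μ v ≠ 1) {χ : G → ℂ}
    (hΦ : ∀ (l : Fin r) (i : Fin (r / 2)), classInner (PhiG M π hC μ θ r l i) χ = 0) {m : ℕ}
    (hm : m < 2 * r) : nu M π χ (Rt' hC μ (θ ^ m)) = nu M π χ (Rt' hC μ (θ ^ 0)) := by
  have h0 := two_r hD
  have h4 := r_four hr
  have key : ∀ l < r, ∀ i < r / 2, nu M π χ (Rt' hC μ (θ ^ (2 * l))) =
      nu M π χ (Rt' hC μ (θ ^ (2 * i + 1))) := by
    intro l hl i hi
    have h1 := hΦ ⟨l, hl⟩ ⟨i, hi⟩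
    rw [PhiG_apply, ← nu_apply, Phi, map_sub] at h1
    exact sub_eq_zero.1 h1
  have hodd : ∀ l < r, nu M π χ (Rt' hC μ (θ ^ (2 * l + 1))) = nu M π χ (Rt' hC μ (θ ^ (2 * 0))) := by
    intro l hl
    rw [Rt'_odd hr hθ hμ hD hl]
    exact (key 0 h0 _ (Nat.mod_lt _ (by omega))).symm
  rcases Nat.even_or_odd' m with ⟨l, rfl | rfl⟩
  · rw [key l (by omega) 0 (by omega), hodd 0 h0]
  · exact hodd l (by omega)

/-- The values of the function `a'` attached to `χ`. -/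
theorem a'_zero (hD : DetHyp q ε T T' U s s' u r b) (hr : 4 ∣ r)
    (hθ : ThetaHyp hC r b θ) (hμ : ∃ v : U, μ v ≠ 1) {χ : G → ℂ}
    (hΦ : ∀ (l : Fin r) (i : Fin (r / 2)), classInner (PhiG M π hC μ θ r l i) χ = 0) {a' : C → ℂ}
    (ha' : ∀ x ∈ T', z ∈ Subgroup.zpowers x → ∀ y ∈ T', Odd (orderOf y) → a' (x * y) = a' x)
    (hT' : ∀ f : C → ℂ, (∀ x ∈ T', f x ≠ 0 → z ∈ Subgroup.zpowers x) →
        classInner (FInd M π (Torus.R T' hC.base μ f)) χ =
            (Nat.card T' : ℂ)⁻¹ * ssum T' (fun x => f x * conj (a' x)))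
    {x₀ : C} (hx₀ : x₀ ∈ T') (hz : z ∈ Subgroup.zpowers x₀) : a' x₀ = 0 := by
  classical
  have h0 := two_r hD
  have hθ1 : θ ⟨x₀, hx₀⟩ ≠ 1 := by
    intro h1
    obtain ⟨k, hk⟩ := Subgroup.mem_zpowers_iff.1 hz
    have h2 : (⟨x₀, hx₀⟩ : T') ^ k = ⟨z, z_mem' hC⟩ := Subtype.ext hk
    have h3 : θ ⟨z, z_mem' hC⟩ = 1 := by rw [← h2, map_zpow, h1, one_zpow]
    rw [hθ.at_z] at h3
    exact neg_one_ne h3
  have hpow : ∀ x : T', (θ x : ℂ) ^ (2 * r) = 1 := by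
    intro x
    rw [pow_mul, ← Units.val_pow_eq_pow_val, hθ.sq, ← Units.val_pow_eq_pow_val, hD.pow_eq_one,
      Units.val_one]
  set w₀ : ℂ := (θ ⟨x₀, hx₀⟩ : ℂ) with hw₀
  have hw0 : w₀ ≠ 0 := Units.ne_zero _
  have hw1 : w₀⁻¹ ≠ 1 := by
    intro h1
    apply hθ1
    apply Units.ext
    rw [Units.val_one]
    have h2 := inv_inv w₀
    rw [h1, inv_one] at h2
    exact h2.symm
  -- the function
  set f : C → ℂ := ∑ m ∈ Finset.range (2 * r), (w₀⁻¹ ^ m) • lin T' (θ ^ m) with hf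
  have hfx : ∀ x (hx : x ∈ T'), f x = if θ ⟨x, hx⟩ = θ ⟨x₀, hx₀⟩ then ((2 * r : ℕ) : ℂ) else 0 := by
    intro x hx
    rw [hf, Finset.sum_apply]
    have e1 : ∀ m ∈ Finset.range (2 * r), ((w₀⁻¹ ^ m) • lin T' (θ ^ m)) x =
        (w₀⁻¹ * (θ ⟨x, hx⟩ : ℂ)) ^ m := by
      intro m _
      rw [Pi.smul_apply, smul_eq_mul, lin_pow _ _ hx, lin_apply _ hx, mul_pow]
    rw [Finset.sum_congr rfl e1, geom (by rw [mul_pow, inv_pow, hw₀, hpow, hpow]; norm_num)]
    congr 1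
    rw [eq_iff_iff, inv_mul_eq_one₀ hw0, hw₀]
    constructor
    · intro h1; exact (Units.ext h1).symm
    · intro h1; rw [h1]
  have hsupp : ∀ x ∈ T', f x ≠ 0 → z ∈ Subgroup.zpowers x := by
    intro x hx hne
    rw [hfx x hx] at hne
    have h1 : θ ⟨x, hx⟩ = θ ⟨x₀, hx₀⟩ := by
      by_contra h2
      exact hne (if_neg h2)
    exact mem_zpowers_of_theta hD hθ (x := ⟨x, hx⟩) (by rw [h1]; exact hθ1)
  have hconst : ∀ x ∈ T', f x * conj (a' x) = conj (a' x₀) * f x := by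
    intro x hx
    rw [hfx x hx]
    split_ifs with h1
    · have h2 : Odd (orderOf (x₀⁻¹ * x)) := by
        refine odd_of_theta hθ (x := ⟨x₀, hx₀⟩⁻¹ * ⟨x, hx⟩) ?_
        rw [map_mul, map_inv, h1, inv_mul_cancel]
      have h3 := ha' x₀ hx₀ hz (x₀⁻¹ * x) (mul_mem (inv_mem hx₀) hx) h2
      rw [mul_inv_cancel_left] at h3
      rw [h3]; ring
    · ring
  have hsum : ssum T' f = Nat.card T' := by
    have e1 : ssum T' f = ∑ m ∈ Finset.range (2 * r), ssum T' ((w₀⁻¹ ^ m) • lin T' (θ ^ m)) := by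
      rw [← ssum_finset]
      exact ssum_congr fun x _ => by rw [hf, Finset.sum_apply]
    rw [e1]
    have e2 : ∀ m ∈ Finset.range (2 * r), ssum T' ((w₀⁻¹ ^ m) • lin T' (θ ^ m)) =
        if m = 0 then (Nat.card T' : ℂ) else 0 := by
      intro m hm
      have e3 : ssum T' ((w₀⁻¹ ^ m) • lin T' (θ ^ m)) = w₀⁻¹ ^ m * ssum T' (lin T' (θ ^ m)) := by
        rw [← ssum_mul]
        rfl
      rw [e3, ssum_lin]
      have e4 : θ ^ m = 1 ↔ m = 0 := by
        have e5 : θ ^ m = 1 ↔ 2 * r ∣ m := by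
          rw [← orderOf_theta hD hθ, orderOf_dvd_iff_pow_eq_one]
        rw [e5]
        constructor
        · intro h1
          by_contra hne
          have := Nat.le_of_dvd (by omega) h1
          have := Finset.mem_range.1 hm
          omega
        · rintro rfl; exact dvd_zero _
      by_cases hm0 : m = 0
      · rw [if_pos (e4.2 hm0), if_pos hm0, hm0, pow_zero, one_mul]
      · rw [if_neg (fun h1 => hm0 (e4.1 h1)), if_neg hm0, mul_zero]
    rw [Finset.sum_congr rfl e2, Finset.sum_ite_eq' (Finset.range (2 * r)),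
      if_pos (Finset.mem_range.2 (by omega))]
  have h1 := hT' f hsupp
  rw [ssum_congr hconst, ssum_mul, hsum] at h1
  have h2 : classInner (FInd M π (Torus.R T' hC.base μ f)) χ = nu M π χ (Torus.R T' hC.base μ f) := rfl
  have h3 : Torus.R T' hC.base μ f =
      ∑ m ∈ Finset.range (2 * r), (w₀⁻¹ ^ m) • Rt' hC μ (θ ^ m) := by
    rw [hf, LinChar.R_sum]
    exact Finset.sum_congr rfl fun m _ => LinChar.R_smul _ _ _ _ _
  rw [h2, h3, map_sum] at h1
  have h4 : ∀ m ∈ Finset.range (2 * r), nu M π χ ((w₀⁻¹ ^ m) • Rt' hC μ (θ ^ m)) =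
      w₀⁻¹ ^ m * nu M π χ (Rt' hC μ (θ ^ 0)) := by
    intro m hm
    rw [map_smul, nu_theta hD hr hθ hμ hΦ (Finset.mem_range.1 hm), smul_eq_mul]
  rw [Finset.sum_congr rfl h4, ← Finset.sum_mul, geom (by rw [inv_pow, hw₀, hpow, inv_one]),
    if_neg hw1, zero_mul, mul_comm (conj (a' x₀)), inv_mul_cancel_left₀
      Core.card_ne_zero_complex] at h1
  have h5 := congrArg conj h1
  rw [map_zero, Complex.conj_conj] at h5
  exact h5.symm

/-- `(uu i j, χ)` for `i, j < r/2`. -/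
theorem nu_uu (H : FHyp t z N S π) (hM : IsPModular 2 M)
    (hD : DetHyp q ε T T' U s s' u r b) (hr : 4 ∣ r)
    (hq : 3 ≤ q) (hξ : XiHyp hC r b ξ) (hθ : ThetaHyp hC r b θ) (hμ : ∃ v : U, μ v ≠ 1)
    {X : G → ℂ} {L : Fin (r / 2) → G → ℂ} {χ P V : G → ℂ}
    (hs : Split (⟨0, two_r hD⟩ : Fin r) (PhiG M π hC μ θ r) X L)
    (D : ChiData (⟨0, two_r hD⟩ : Fin r) ⟨r / 2, half_lt hD hr⟩ (PhiG M π hC μ θ r) X L
        (FI M π (vv hC μ ξ b r 0)) χ P V) (Nm : Nums π u q ε X χ) {i j : ℕ} (hi : i < r / 2)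
    (hj : j < r / 2) :
    nu M π χ (uu hC μ ξ r i j) = if i = 0 ∧ j = 0 then 2 else 0 := by
  have h0 := two_r hD
  by_cases hij : i = j
  · subst hij
    have h1 := congrArg (nu M π χ) (two_vv hD hξ hθ hμ i)
    rw [map_smul, map_add, map_sub, nu_theta hD hr hθ hμ D.Φχ (show 2 * i < 2 * r by omega),
      nu_theta hD hr hθ hμ D.Φχ (show 2 * (i + r / 2) < 2 * r by omega), sub_self, add_zero,
      nu_apply, inner_vvG_chi H hM hD hr hq hξ hθ hμ hs D Nm hi, smul_eq_mul] at h1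
    rw [← h1]
    by_cases hi0 : i = 0
    · rw [if_pos hi0, if_pos ⟨hi0, hi0⟩, mul_one]
    · rw [if_neg hi0, if_neg (fun h2 => hi0 h2.1), mul_zero]
  · rw [if_neg (fun h2 => hij (by rw [h2.1, h2.2])), nu_apply]
    exact inner_uuG_chi H hM hD hr hq hξ hθ hμ hs D Nm (by omega) fun h2 =>
      hij (Nat.ModEq.eq_of_lt_of_lt h2 hi hj)

/-- The values of the function `a` attached to `χ` at the elements of level `0`. -/
theorem a_two (H : FHyp t z N S π) (hM : IsPModular 2 M)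
    (hD : DetHyp q ε T T' U s s' u r b) (hr : 4 ∣ r)
    (hq : 3 ≤ q) (hξ : XiHyp hC r b ξ) (hθ : ThetaHyp hC r b θ) (hμ : ∃ v : U, μ v ≠ 1)
    {X : G → ℂ} {L : Fin (r / 2) → G → ℂ} {χ P V : G → ℂ}
    (hs : Split (⟨0, two_r hD⟩ : Fin r) (PhiG M π hC μ θ r) X L)
    (D : ChiData (⟨0, two_r hD⟩ : Fin r) ⟨r / 2, half_lt hD hr⟩ (PhiG M π hC μ θ r) X L
        (FI M π (vv hC μ ξ b r 0)) χ P V) (Nm : Nums π u q ε X χ) {a : C → ℂ}
    (ha : ∀ x ∈ T, z ∈ Subgroup.zpowers x → ∀ y ∈ T, Odd (orderOf y) → a (x * y) = a x)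
    (hT : ∀ f : C → ℂ, (∀ x ∈ T, f x ≠ 0 → z ∈ Subgroup.zpowers x) →
        classInner (FInd M π (Torus.R T hC.base μ f)) χ =
            (Nat.card T : ℂ)⁻¹ * ssum T (fun x => f x * conj (a x)))
    {x₀ : C} (hx₀ : x₀ ∈ T) (hlev : Lev hC ξ r ⟨x₀, hx₀⟩) : a x₀ = 2 := by
  classical
  have h0 := two_r hD
  have h4 := r_four hr
  have hz : z ∈ Subgroup.zpowers x₀ := mem_zpowers_of_xi_half hD hξ (x := ⟨x₀, hx₀⟩) hlev.1 hlev.2
  set α₀ : ℂ := (ξ ⟨x₀, hx₀⟩ : ℂ) with hα₀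
  set β₀ : ℂ := (ξ (sg hC.torus ⟨x₀, hx₀⟩) : ℂ) with hβ₀
  have hα0 : α₀ ≠ 0 := Units.ne_zero _
  have hβ0 : β₀ ≠ 0 := Units.ne_zero _
  have hαh : α₀ ^ (r / 2) = -1 := by
    have := congrArg Units.val hlev.1
    rw [Units.val_pow_eq_pow_val, Units.val_neg, Units.val_one] at this
    exact this
  have hβh : β₀ ^ (r / 2) = -1 := by
    have := congrArg Units.val hlev.2
    rw [Units.val_pow_eq_pow_val, Units.val_neg, Units.val_one] at this
    exact this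
  set Sf : Finset (ℕ × ℕ) := Finset.range (r / 2) ×ˢ Finset.range (r / 2) with hSf
  set f : C → ℂ := ∑ p ∈ Sf, (α₀⁻¹ ^ p.1 * β₀⁻¹ ^ p.2) • F hC ξ r p.1 p.2 with hf
  have hfx : ∀ x (hx : x ∈ T), Lev hC ξ r ⟨x, hx⟩ → f x =
      4 * ((if (ξ ⟨x, hx⟩ : ℂ) = α₀ then ((r / 2 : ℕ) : ℂ) else 0) *
        (if (ξ (sg hC.torus ⟨x, hx⟩) : ℂ) = β₀ then ((r / 2 : ℕ) : ℂ) else 0)) := by
    intro x hx hl
    rw [hf, Finset.sum_apply, hSf, Finset.sum_product]
    have e1 : ∀ i ∈ Finset.range (r / 2), ∀ j ∈ Finset.range (r / 2),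
        ((α₀⁻¹ ^ (i, j).1 * β₀⁻¹ ^ (i, j).2) • F hC ξ r (i, j).1 (i, j).2) x =
        4 * ((α₀⁻¹ * (ξ ⟨x, hx⟩ : ℂ)) ^ i * (β₀⁻¹ * (ξ (sg hC.torus ⟨x, hx⟩) : ℂ)) ^ j) := by
      intro i _ j _
      rw [Pi.smul_apply, smul_eq_mul, F_eq i j hx hl.1 hl.2, mul_pow, mul_pow]
      ring
    rw [Finset.sum_congr rfl fun i hi => Finset.sum_congr rfl fun j hj => e1 i hi j hj]
    simp only [← Finset.mul_sum]
    rw [← Finset.sum_mul]
    have k1 : (ξ ⟨x, hx⟩ : ℂ) ^ (r / 2) = -1 := by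
      have := congrArg Units.val hl.1
      rw [Units.val_pow_eq_pow_val, Units.val_neg, Units.val_one] at this
      exact this
    have k2 : (ξ (sg hC.torus ⟨x, hx⟩) : ℂ) ^ (r / 2) = -1 := by
      have := congrArg Units.val hl.2
      rw [Units.val_pow_eq_pow_val, Units.val_neg, Units.val_one] at this
      exact this
    rw [geom (by rw [mul_pow, inv_pow, hαh, k1]; norm_num),
      geom (by rw [mul_pow, inv_pow, hβh, k2]; norm_num)]
    have c1 : (α₀⁻¹ * (ξ ⟨x, hx⟩ : ℂ) = 1) ↔ ((ξ ⟨x, hx⟩ : ℂ) = α₀) := by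
      rw [inv_mul_eq_one₀ hα0]; exact eq_comm
    have c2 : (β₀⁻¹ * (ξ (sg hC.torus ⟨x, hx⟩) : ℂ) = 1) ↔
        ((ξ (sg hC.torus ⟨x, hx⟩) : ℂ) = β₀) := by
      rw [inv_mul_eq_one₀ hβ0]; exact eq_comm
    simp only [c1, c2]
  have hf0 : ∀ x (hx : x ∈ T), ¬ Lev hC ξ r ⟨x, hx⟩ → f x = 0 := by
    intro x hx hl
    rw [hf, Finset.sum_apply]
    refine Finset.sum_eq_zero fun p _ => ?_
    rw [Pi.smul_apply, F_eq_zero hr hξ _ _ hx hl, smul_zero]
  have hsupp : ∀ x ∈ T, f x ≠ 0 → z ∈ Subgroup.zpowers x := by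
    intro x hx hne
    by_contra hcon
    refine hne (hf0 x hx fun hl => hcon ?_)
    exact mem_zpowers_of_xi_half hD hξ (x := ⟨x, hx⟩) hl.1 hl.2
  have hconst : ∀ x ∈ T, f x * conj (a x) = conj (a x₀) * f x := by
    intro x hx
    by_cases hl : Lev hC ξ r ⟨x, hx⟩
    · by_cases c1 : (ξ ⟨x, hx⟩ : ℂ) = α₀
      · by_cases c2 : (ξ (sg hC.torus ⟨x, hx⟩) : ℂ) = β₀
        · have h2 : Odd (orderOf (x₀⁻¹ * x)) := by
            refine odd_of_xi hD hξ (x := ⟨x₀, hx₀⟩⁻¹ * ⟨x, hx⟩) ?_ ?_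
            · rw [map_mul, map_inv, Units.ext c1, inv_mul_cancel]
            · rw [map_mul, map_inv, map_mul, map_inv, Units.ext c2, inv_mul_cancel]
          have h3 := ha x₀ hx₀ hz (x₀⁻¹ * x) (mul_mem (inv_mem hx₀) hx) h2
          rw [mul_inv_cancel_left] at h3
          rw [h3]; ring
        · rw [hfx x hx hl, if_neg c2]; ring
      · rw [hfx x hx hl, if_neg c1]; ring
    · rw [hf0 x hx hl]; ring
  have hpick : ∀ (c : ℕ × ℕ → ℂ), ∑ p ∈ Sf, (α₀⁻¹ ^ p.1 * β₀⁻¹ ^ p.2) *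
      (if p.1 = 0 ∧ p.2 = 0 then c p else 0) = c (0, 0) := by
    intro c
    rw [Finset.sum_eq_single (0, 0)]
    · simp
    · rintro ⟨i, j⟩ _ hne
      rw [if_neg, mul_zero]
      rintro ⟨h1, h2⟩
      exact hne (Prod.ext h1 h2)
    · intro hn
      exact absurd (Finset.mem_product.2 ⟨Finset.mem_range.2 (by omega),
        Finset.mem_range.2 (by omega)⟩) hn
  have hsum : ssum T f = Nat.card T := by
    have e1 : ssum T f = ∑ p ∈ Sf, ssum T ((α₀⁻¹ ^ p.1 * β₀⁻¹ ^ p.2) • F hC ξ r p.1 p.2) := by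
      rw [← ssum_finset]
      exact ssum_congr fun x _ => by rw [hf, Finset.sum_apply]
    rw [e1]
    have e2 : ∀ p ∈ Sf, ssum T ((α₀⁻¹ ^ p.1 * β₀⁻¹ ^ p.2) • F hC ξ r p.1 p.2) =
        (α₀⁻¹ ^ p.1 * β₀⁻¹ ^ p.2) * (if p.1 = 0 ∧ p.2 = 0 then (Nat.card T : ℂ) else 0) := by
      intro p hp
      obtain ⟨hp1, hp2⟩ := Finset.mem_product.1 hp
      rw [← ssum_F hD hr hξ (Finset.mem_range.1 hp1) (Finset.mem_range.1 hp2), ← ssum_mul]
      rfl
    rw [Finset.sum_congr rfl e2, hpick (fun _ => (Nat.card T : ℂ))]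
  have h1 := hT f hsupp
  rw [ssum_congr hconst, ssum_mul, hsum] at h1
  have h2 : classInner (FInd M π (Torus.R T hC.base μ f)) χ = nu M π χ (Torus.R T hC.base μ f) := rfl
  have h3 : Torus.R T hC.base μ f =
      ∑ p ∈ Sf, (α₀⁻¹ ^ p.1 * β₀⁻¹ ^ p.2) • uu hC μ ξ r p.1 p.2 := by
    rw [hf, LinChar.R_sum]
    exact Finset.sum_congr rfl fun p _ => LinChar.R_smul _ _ _ _ _
  rw [h2, h3, map_sum] at h1
  have h5 : ∀ p ∈ Sf, nu M π χ ((α₀⁻¹ ^ p.1 * β₀⁻¹ ^ p.2) • uu hC μ ξ r p.1 p.2) =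
      (α₀⁻¹ ^ p.1 * β₀⁻¹ ^ p.2) * (if p.1 = 0 ∧ p.2 = 0 then 2 else 0) := by
    intro p hp
    obtain ⟨hp1, hp2⟩ := Finset.mem_product.1 hp
    rw [map_smul, nu_uu H hM hD hr hq hξ hθ hμ hs D Nm (Finset.mem_range.1 hp1)
      (Finset.mem_range.1 hp2), smul_eq_mul]
  rw [Finset.sum_congr rfl h5, hpick (fun _ => (2 : ℂ)), mul_comm (conj (a x₀)),
    inv_mul_cancel_left₀ Core.card_ne_zero_complex] at h1
  have h6 := congrArg conj h1
  rw [Complex.conj_conj] at h6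
  rw [← h6]
  exact map_ofNat _ 2

end Main

section Final

variable {G : Type v} [Group G] [Fintype G] {C : Type w} [Group C] [Fintype C] {t : G} {z : C}
  {N S : Subgroup (Subgroup.centralizer ({t} : Set G))} {π : N →* C} {M : Ideal AlgInt}
  {q : ℕ} {ε : ℤ} {Z T T' U : Subgroup C}
  {s s' u : C} {r : ℕ} {b : C →* ℂˣ} {hC : CHyp z q ε Z T T' U s s' u} {μ : U →* ℂˣ}
  {ξ : T →* ℂˣ} {θ : T' →* ℂˣ}

/-- The values on the section of `t`. -/
theorem blockEval (H : FHyp t z N S π) (hM : IsPModular 2 M) (hC : CHyp z q ε Z T T' U s s' u)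
    {X : G → ℂ} (hX : InB (principalBlock M G) X) (hμ : ∃ v : U, μ v ≠ 1) :
    ∃ A B : ℂ, ∀ (g : N) (y : C), π g = z * y → Odd (orderOf y) →
      X ((g : Subgroup.centralizer ({t} : Set G)) : G) =
        (A * Torus.R T hC.base μ (fun _ => 1) y + B * Torus.R T' hC.base μ (fun _ => 1) y) / 2 := by
  obtain ⟨F, hFp, -, hF⟩ := exists_F H hM (show Prin M X from blockPart_of_inB hX)
  obtain ⟨a, b, hab⟩ := Prin.eval hC hM hμ hFp hC.t_mem
  refine ⟨a, b, fun g y hg hy => ?_⟩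
  have h1 : z ∈ Subgroup.zpowers (π g) := by
    rw [hg]
    exact mem_zpowers_mul hC.z_sq (Subgroup.mem_zpowers z) (hC.Z_central z hC.t_mem y).symm hy
  rw [hF g h1, hg, hab y hy]
  rfl

/-- **The character of degree `q ^ 2 + ε q`, wreathed case.** -/
theorem exists_chi_QS (H : FHyp t z N S π) (hM : IsPModular 2 M)
    (hC : CHyp z q ε Z T T' U s s' u)
    (hD : DetHyp q ε T T' U s s' u r b) (hr : 4 ∣ r) (hq : 3 ≤ q)
    (hμ : ∃ v : U, μ v ≠ 1) :
    ∃ χ : IrrCharacter G, χ ∈ principalBlock M G ∧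
      (χ : G → ℂ) 1 = (q : ℂ) ^ 2 + ε * q ∧ (χ : G → ℂ) t = 1 + ε * q ∧
      (∀ (g : N) (y : C), π g = z * y → Odd (orderOf y) →
        (χ : G → ℂ) ((g : Subgroup.centralizer ({t} : Set G)) : G) =
          Torus.R T hC.base μ (fun _ => 1) y) ∧
      (∀ g : N, z ∈ Subgroup.zpowers ((π g) ^ (r / 2)) →
        (χ : G → ℂ) ((g : Subgroup.centralizer ({t} : Set G)) : G) =
          Torus.R T hC.base μ (fun _ => 1) (π g)) := by
  obtain ⟨ξ, hξ⟩ := exists_xiHyp hC hD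
  obtain ⟨θ, hθ⟩ := exists_thetaHyp hC hD hr
  obtain ⟨X, L, χ, P, V, hs, D, hXB, hLB, hχB, hPB, hX1, hXt, hχ1, hχt, hidx⟩ :=
    exists_data H hM hD hr hq hξ hθ hμ
  have Nm : Nums π u q ε X χ := ⟨hX1, hXt, hχ1, hχt, hidx⟩
  have h0 := two_r hD
  have hε : ε = 1 ∨ ε = -1 := hC.eps
  have hee : (ε : ℂ) * ε = 1 := by
    rcases hε with h1 | h1 <;> rw [h1] <;> norm_num
  have hQ : (1 + (ε : ℂ) * q) ≠ 0 := by
    have : 1 + ε * (q : ℤ) ≠ 0 := fun h1 => (Q_facts hC hq).2.2 (by linarith)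
    exact_mod_cast this
  have hQ0 : (ε : ℂ) * q ≠ 0 := by
    have := (Q_facts hC hq).1
    exact_mod_cast this
  obtain ⟨a, a', ha, ha', hT, hT', vT, vT', vZ, vU, vt⟩ := exists_functions H hM hC hχB hμ
  have ha'0 : ∀ {x : C}, x ∈ T' → z ∈ Subgroup.zpowers x → a' x = 0 := fun hx hz =>
    a'_zero hD hr hθ hμ D.Φχ ha' hT' hx hz
  have ha2 : ∀ {x : C} (hx : x ∈ T), Lev hC ξ r ⟨x, hx⟩ → a x = 2 := fun hx hl =>
    a_two H hM hD hr hq hξ hθ hμ hs D Nm ha hT hx hl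
  have haz' : a' z = 0 := ha'0 (z_mem' hC) (Subgroup.mem_zpowers z)
  have haz : a z = 2 := by
    rw [hχt, haz'] at vt
    have h1 : (1 + (ε : ℂ) * q) * a z = (1 + (ε : ℂ) * q) * 2 := by linear_combination -2 * vt
    exact mul_left_cancel₀ hQ h1
  -- `χ` is a character
  obtain ⟨ψ, hψ, hχψ⟩ := hχB
  have hχψ' : χ = (ψ : G → ℂ) := by
    rcases hχψ with h1 | h1
    · exact h1
    · exfalso
      obtain ⟨n, hn, hn1⟩ := Core.isIrr_apply_one ψ.2
      have h2 := congrFun h1 1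
      rw [Pi.neg_apply, hχ1] at h2
      have h3 : ((ψ : G → ℂ) 1) = n := hn1
      rw [h3] at h2
      have h4 : (ε * (q : ℤ)) ^ 2 + ε * q = -(n : ℤ) := by exact_mod_cast h2
      rcases hε with h5 | h5 <;> rw [h5] at h4 <;> nlinarith
  have hR1 : ∀ {x : C}, x ∈ Z → Torus.R T hC.base μ (fun _ => 1) x = 1 + ε * q := by
    intro x hx
    rw [hC.torus.R_Z hC.base _ hx, mul_one]
  refine ⟨ψ, hψ, ?_, ?_, ?_, ?_⟩
  · rw [← hχψ', hχ1]
    linear_combination (q : ℂ) ^ 2 * hee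
  · rw [← hχψ', hχt]; ring
  · -- the section of `t`
    obtain ⟨A, B, hAB⟩ := blockEval H hM hC ⟨ψ, hψ, hχψ⟩ hμ
    obtain ⟨v, hv, hv1⟩ := hC.base.exists_ne_one
    have h1 := hAB (tN H) 1 (by rw [H.map_tN, mul_one]) (by rw [orderOf_one]; exact odd_one)
    rw [hR1 (one_mem Z), hC.torus'.R_Z hC.base _ (one_mem Z), mul_one] at h1
    obtain ⟨x, hx⟩ := H.surj (z * v)
    have h2 := hAB x v hx (hC.odd_orderOf_U hv)
    have h3 := vU z hC.t_mem (Subgroup.mem_zpowers z) v hv hv1 x hx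
    rw [haz, haz'] at h3
    have e1 := hC.torus.R_ZU hC.base hμ (fun _ => (1 : ℂ)) (one_mem Z) hv hv1
    have e2 := hC.torus'.R_ZU hC.base hμ (fun _ => (1 : ℂ)) (one_mem Z) hv hv1
    rw [one_mul] at e1 e2
    rw [e1, e2, h3] at h2
    have h4 : χ ((tN H : Subgroup.centralizer ({t} : Set G)) : G) = χ t := rfl
    rw [h4, hχt] at h1
    push_cast at h1
    have h5 : A + B = 2 := by linear_combination -2 * h2
    have h6 : A - B = 2 := by
      have h7 : ((ε : ℂ) * q) * (A - B) = ((ε : ℂ) * q) * 2 := by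
        linear_combination -2 * h1 - h5
      exact mul_left_cancel₀ hQ0 h7
    have hA : A = 2 := by linear_combination (1 / 2 : ℂ) * h5 + (1 / 2 : ℂ) * h6
    have hB : B = 0 := by linear_combination (1 / 2 : ℂ) * h5 - (1 / 2 : ℂ) * h6
    intro g y hg hy
    rw [← hχψ', hAB g y hg hy, hA, hB]
    ring
  · -- level `0`
    intro g hg
    rw [← hχψ']
    have hcl : IsClassFunction G χ := isClassFunction_signed D.sχ
    have hRcl : IsClassFunction C (Torus.R T hC.base μ (fun _ => 1)) :=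
      Torus.R_isClassFunction hC.base _
    -- reduction to conjugates
    obtain ⟨k, hk⟩ := hC.exhaust (π g)
    obtain ⟨κ, hκ⟩ := H.surj k
    have e1 : χ (((κ * g * κ⁻¹ : N) : Subgroup.centralizer ({t} : Set G)) : G) =
        χ ((g : Subgroup.centralizer ({t} : Set G)) : G) := hcl _ _
    have e2 : π (κ * g * κ⁻¹) = k * π g * k⁻¹ := by rw [map_mul, map_mul, map_inv, hκ]
    have e3 : Torus.R T hC.base μ (fun _ => 1) (k * π g * k⁻¹) =
        Torus.R T hC.base μ (fun _ => 1) (π g) := hRcl _ _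
    rw [← e1, ← e3]
    have hg' : z ∈ Subgroup.zpowers ((k * π g * k⁻¹) ^ (r / 2)) := by
      obtain ⟨n, hn⟩ := Subgroup.mem_zpowers_iff.1 hg
      refine Subgroup.mem_zpowers_iff.2 ⟨n, ?_⟩
      rw [conj_pow, conj_zpow, hn, hC.Z_central z hC.t_mem k, mul_inv_cancel_right]
    generalize k * π g * k⁻¹ = c at hk e2 hg'
    generalize κ * g * κ⁻¹ = g' at e2
    have hzc : z ∈ Subgroup.zpowers c := mem_zpowers_of_pow hg'
    have hZcase : c ∈ Z → χ ((g' : Subgroup.centralizer ({t} : Set G)) : G) = Torus.R T hC.base μ (fun _ => 1) c := by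
      intro hcZ
      rw [vZ c hcZ hzc g' e2, ha2 (hC.Z_le_T hcZ) (lev_of_mem hr hξ _ hg'),
        ha'0 (hC.Z_le_T' hcZ) hzc, hR1 hcZ]
      ring
    by_cases hcZ : c ∈ Z
    · exact hZcase hcZ
    rcases hk with hk | hk | ⟨ζ, hζ, v, hv, hk⟩
    · rw [vT c hk hcZ hzc g' e2, ha2 hk (lev_of_mem hr hξ _ hg'),
        hC.torus.R_T hC.base _ hk hcZ]
      norm_num
    · rw [vT' c hk hcZ hzc g' e2, ha'0 hk hzc]
      have hne : -ε ≠ ε := by rcases hε with h1 | h1 <;> rw [h1] <;> norm_num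
      rw [hC.torus.R_T' hC.torus' hne hC.base _ hk hcZ]
    · have hv1 : v ≠ 1 := by
        rintro rfl
        exact hcZ (by rw [hk, mul_one]; exact hζ)
      -- `z` is a power of `ζ ^ (r/2)`
      have hzζ : z ∈ Subgroup.zpowers (ζ ^ (r / 2)) := by
        have hcom : Commute ζ v := (hC.Z_central ζ hζ v).symm
        have hmul : (ζ * v) ^ (r / 2) = ζ ^ (r / 2) * v ^ (r / 2) := hcom.mul_pow _
        rw [hk, hmul] at hg'
        obtain ⟨n, hn⟩ := Subgroup.mem_zpowers_iff.1 hg'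
        have hcom2 : Commute (ζ ^ (r / 2)) (v ^ (r / 2)) := hcom.pow_pow _ _
        -- raise to the odd power `q`
        have hvq : v ^ q = 1 := hC.base.pow_card_U hv
        refine Subgroup.mem_zpowers_iff.2 ⟨n * q, ?_⟩
        have h1 : (ζ ^ (r / 2) * v ^ (r / 2)) ^ (n * (q : ℤ)) = z ^ q := by
          rw [zpow_mul, hn, zpow_natCast]
        have h2 : z ^ q = z := zpow_odd (WrChar.z_mul_z hC) hC.odd_q
        rw [hcom2.mul_zpow, h2] at h1
        have h3 : (v ^ (r / 2)) ^ (n * (q : ℤ)) = 1 := by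
          rw [← zpow_natCast, ← zpow_mul]
          have h4 : ((r / 2 : ℕ) : ℤ) * (n * (q : ℤ)) = (q : ℤ) * (((r / 2 : ℕ) : ℤ) * n) := by ring
          rw [h4, zpow_mul, zpow_natCast, hvq, one_zpow]
        rw [h3, mul_one] at h1
        exact h1
      rw [hk] at e2 ⊢
      rw [vU ζ hζ (mem_zpowers_of_pow hzζ) v hv hv1 g' e2,
        ha2 (hC.Z_le_T hζ) (lev_of_mem hr hξ _ hzζ),
        ha'0 (hC.Z_le_T' hζ) (mem_zpowers_of_pow hzζ),
        hC.torus.R_ZU hC.base hμ _ hζ hv hv1]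
      norm_num

end Final

end Cfsg.Agent.Classification.QDW.FldWrChi
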