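import Mathlib
import Cfsg.Agent.Classification.QDW.FldWrChi

/-!
# Extending values from `N` to `C(t)`

`AD N S`: `N` normal in `Γ`, `Γ / N` abelian of odd order, `Γ = N C_Γ(S)`.

* `AD.eq_zero`: a function in the span of the principal 2-block of `Γ` vanishing on `N` is zero;
* `Prin.trunc`: truncation to a union of 2-sections;
* `AD.eq_on`: two functions in the span of the principal block agreeing on the elements of `N` in a
  union of 2-sections agree on all elements of `Γ` in these sections;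
* `AD.prin_of_real`: a real-valued irreducible character of `Γ` whose restriction to `N` is
  irreducible and in the principal block is in the principal block;
* `exists_chi`: the values of `χ` (wreathed case) on all elements of `C(t)` in the section of `t` and
  on the elements `g` with `t ∈ ⟨g ^ (r / 2)⟩`.
-/

set_option autoImplicit false
set_option linter.unusedSectionVars false

open Cfsg
open scoped ComplexConjugate

namespace Cfsg.Agent.Classification.QDW.FldExt

open Cfsg.Agent.Characters Cfsg.Agent.Blocks.Local Cfsg.Agent.Blocks.Basic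
  Cfsg.Agent.Classification.BGBlockB0 Cfsg.Agent.Classification.InvCent
  Cfsg.Agent.Classification.BGIsometry Cfsg.Agent.Classification.BGOrder
  Cfsg.Agent.Classification.QDW.Fld

universe v w

section General

variable {Γ : Type*} [Group Γ] [Finite Γ] {N S : Subgroup Γ} {M : Ideal AlgInt}

/-- A function in the span of the principal block of `Γ` vanishing on `N` is zero. -/
theorem AD.eq_zero (h : AD N S) (hM : IsPModular 2 M) {D : Γ → ℂ} (hD : Prin M D)
    (h0 : ∀ n : N, D n = 0) : D = 0 := by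
  classical
  have := Fintype.ofFinite Γ
  have := Fintype.ofFinite N
  have : Finite (IrrCharacter Γ) := Core.finite_irr
  have := Fintype.ofFinite (IrrCharacter Γ)
  have key : ∀ Y : IrrCharacter Γ, Y ∈ principalBlock M Γ → classInner D (Y : Γ → ℂ) = 0 := by
    intro Y hY
    have h1 : classInner (fun n : N => D n) (fun n : N => (Y : Γ → ℂ) n) = 0 := by
      rw [Core.classInner_def, Finset.sum_eq_zero, mul_zero]
      intro n _
      rw [h0 n, zero_mul]
    have h2 : (fun n : N => D n) = ∑ χ ∈ (Finset.univ.filter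
        (fun χ : IrrCharacter Γ => χ ∈ principalBlock M Γ)),
        classInner D (χ : Γ → ℂ) • (fun n : N => (χ : Γ → ℂ) n) := by
      funext n
      rw [Finset.sum_apply, hD.apply]
      rfl
    rw [h2, Core.classInner_sum_left] at h1
    have h3 : ∀ χ ∈ (Finset.univ.filter
        (fun χ : IrrCharacter Γ => χ ∈ principalBlock M Γ)),
        classInner (classInner D (χ : Γ → ℂ) • (fun n : N => (χ : Γ → ℂ) n))
          (fun n : N => (Y : Γ → ℂ) n) = if χ = Y then classInner D (Y : Γ → ℂ) else 0 := by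
      intro χ hχ
      rw [Core.classInner_smul_left, h.inner_res hM (Finset.mem_filter.1 hχ).2 hY]
      split_ifs with h4
      · rw [h4, Core.classInner_irr_self Y.2, mul_one]
      · rw [Core.classInner_irr_ne χ.2 Y.2 (fun h5 => h4 (Subtype.ext h5)), mul_zero]
    rw [Finset.sum_congr rfl h3, Finset.sum_ite_eq',
      if_pos (Finset.mem_filter.2 ⟨Finset.mem_univ _, hY⟩)] at h1
    exact h1
  funext x
  rw [hD.apply, Finset.sum_eq_zero]
  · rfl
  · intro χ hχ
    rw [key χ (Finset.mem_filter.1 hχ).2, zero_mul]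

/-- A predicate which depends only on the class of the 2-part. -/
structure Sec (Q : Γ → Prop) : Prop where
  inv : ∀ g c : Γ, Q g → Q (c * g * c⁻¹)
  part : ∀ a g : Γ, IsPPart 2 g a → (Q g ↔ Q a)

open Classical in
/-- Truncation to a union of 2-sections. -/
theorem Prin.trunc (hM : IsPModular 2 M) {D : Γ → ℂ} (hD : Prin M D) {Q : Γ → Prop} (hQ : Sec Q) :
    Prin M (fun x => if Q x then D x else 0) := by
  have : Fact (Nat.Prime 2) := ⟨Nat.prime_two⟩
  have hDc := hD.isClass
  have hQc : ∀ g c : Γ, Q (c * g * c⁻¹) ↔ Q g := by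
    intro g c
    constructor
    · intro h1
      have h2 := hQ.inv _ c⁻¹ h1
      have h3 : c⁻¹ * (c * g * c⁻¹) * c⁻¹⁻¹ = g := by group
      rwa [h3] at h2
    · exact hQ.inv g c
  have hcl : IsClassFunction Γ (fun x => if Q x then D x else 0) := by
    intro g c
    simp only [hQc, hDc g c]
  funext x
  obtain ⟨a, hpp⟩ := Blocks.SecondMain.exists_isPPart Nat.prime_two x
  have hax := hQ.part a x hpp
  obtain ⟨y, rfl, hc, hord, hy⟩ := hpp
  have hyC : y ∈ Subgroup.centralizer ({a} : Set Γ) := by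
    rw [Subgroup.mem_centralizer_singleton_iff]
    exact hc.eq.symm
  have hy' : ¬ 2 ∣ orderOf (⟨y, hyC⟩ : Subgroup.centralizer ({a} : Set Γ)) := by
    rwa [Subgroup.orderOf_mk]
  have hyo : Odd (orderOf (⟨y, hyC⟩ : Subgroup.centralizer ({a} : Set Γ))) :=
    Nat.not_even_iff_odd.1 fun h3 => hy' (even_iff_two_dvd.1 h3)
  have h3 := section_part hM a hord rfl hcl ⟨y, hyC⟩ hy'
  rw [h3]
  -- elements of odd order of `C(a)`
  have hodd : ∀ c : Subgroup.centralizer ({a} : Set Γ), Odd (orderOf c) → (Q (a * c) ↔ Q a) := by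
    intro c hc
    refine hQ.part a _ ⟨c, rfl, ?_, hord, ?_⟩
    · exact (Subgroup.mem_centralizer_singleton_iff.1 c.2).symm
    · rw [Subgroup.orderOf_coe]
      exact fun h4 => (Nat.not_even_iff_odd.2 hc) (even_iff_two_dvd.2 h4)
  have hcl2 : ∀ {E : Γ → ℂ}, IsClassFunction Γ E →
      IsClassFunction (Subgroup.centralizer ({a} : Set Γ))
        (fun c : Subgroup.centralizer ({a} : Set Γ) => E (a * (c : Γ))) := by
    intro E hE g k
    have h4 : k * a = a * k := Subgroup.mem_centralizer_singleton_iff.1 k.2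
    have h5 : a * ((k * g * k⁻¹ : Subgroup.centralizer ({a} : Set Γ)) : Γ) =
        (k : Γ) * (a * (g : Γ)) * (k : Γ)⁻¹ := by
      push_cast
      rw [← mul_assoc, ← mul_assoc, ← mul_assoc, h4]
    change E (a * ((k * g * k⁻¹ : Subgroup.centralizer ({a} : Set Γ)) : Γ)) = E (a * (g : Γ))
    rw [h5, hE]
  by_cases ha : Q a
  · rw [blockPart_of_odd hM (hcl2 hcl) (η := blockPart (principalBlock M
      (Subgroup.centralizer ({a} : Set Γ))) (fun c => D (a * (c : Γ))))
      (blockPart_idem _ _) (fun c hc => ?_) hyo]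
    · rw [← section_part hM a hord rfl hDc ⟨y, hyC⟩ hy', hD, if_pos (hax.2 ha)]
    · have hc2 : ¬ 2 ∣ orderOf c := fun h4 => (Nat.not_even_iff_odd.2 hc) (even_iff_two_dvd.2 h4)
      rw [if_pos ((hodd c hc).2 ha), ← section_part hM a hord rfl hDc c hc2, hD]
  · rw [blockPart_of_odd hM (hcl2 hcl) (η := 0) (blockPart_zero _) (fun c hc => ?_) hyo,
      if_neg (fun h4 => ha (hax.1 h4))]
    · rfl
    · rw [if_neg (fun h4 => ha ((hodd c hc).1 h4))]
      rfl

/-- Two functions in the span of the principal block agreeing on the elements of `N` in a union of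
2-sections agree on all elements of `Γ` in these sections. -/
theorem AD.eq_on (h : AD N S) (hM : IsPModular 2 M) {D E : Γ → ℂ} (hD : Prin M D) (hE : Prin M E)
    {Q : Γ → Prop} (hQ : Sec Q) (h0 : ∀ n : N, Q n → D n = E n) {x : Γ} (hx : Q x) : D x = E x := by
  classical
  have h1 := AD.eq_zero h hM (Prin.trunc hM (hD.sub hE) hQ) (fun n => by
    by_cases hn : Q n
    · rw [if_pos hn, Pi.sub_apply, h0 n hn, sub_self]
    · rw [if_neg hn])
  have h2 := congrFun h1 x
  simp only [if_pos hx, Pi.sub_apply, Pi.zero_apply] at h2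
  exact sub_eq_zero.1 h2

theorem sec_top : Sec (fun _ : Γ => True) := ⟨fun _ _ h => h, fun _ _ _ => Iff.rfl⟩

/-- Translation by a central element. -/
theorem Prin.translate {D : Γ → ℂ} (hD : Prin M D) {t : Γ} (ht : t ∈ Subgroup.center Γ) :
    Prin M (fun x => D (t * x)) := by
  classical
  have := Fintype.ofFinite Γ
  have : Finite (IrrCharacter Γ) := Core.finite_irr
  have := Fintype.ofFinite (IrrCharacter Γ)
  have h2 : (fun x => D (t * x)) = ∑ χ ∈ (Finset.univ.filter
      (fun χ : IrrCharacter Γ => χ ∈ principalBlock M Γ)),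
      classInner D (χ : Γ → ℂ) • (fun x => (χ : Γ → ℂ) (t * x)) := by
    funext n
    rw [Finset.sum_apply, hD.apply]
    rfl
  rw [h2]
  refine Prin.fsum _ _ fun χ hχ => Prin.smul _ ?_
  obtain ⟨c, -, hc⟩ := Blocks.CentralizerSum.exists_central_scalar χ.2 ht
  have h3 : (fun x => (χ : Γ → ℂ) (t * x)) = c • (χ : Γ → ℂ) := by
    funext x
    rw [hc]
    rfl
  rw [h3]
  exact Prin.smul _ ((blockPart_irr (principalBlock M Γ) χ).1 (Finset.mem_filter.1 hχ).2)

/-- A real-valued irreducible character of `Γ` whose restriction to `N` is an irreducible character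
of the principal block is in the principal block. -/
theorem AD.mem_of_real (h : AD N S) (hM : IsPModular 2 M) {X : IrrCharacter Γ}
    (hXr : ∀ x, conj ((X : Γ → ℂ) x) = (X : Γ → ℂ) x) {ψ : IrrCharacter N}
    (hψ : ψ ∈ principalBlock M N) (hres : ∀ n : N, (X : Γ → ℂ) n = (ψ : N → ℂ) n) :
    X ∈ principalBlock M Γ := by
  classical
  have := h.normal
  have := Fintype.ofFinite Γ
  have := Fintype.ofFinite N
  obtain ⟨Y, hY, hYψ⟩ := h.exists_res hM hψ
  have hYn : ∀ n : N, (Y : Γ → ℂ) n = (ψ : N → ℂ) n := fun n =>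
    congrFun (congrArg Subtype.val hYψ) n
  -- `Y = l X`
  obtain ⟨Λ, hΛ⟩ := h.exists_dual
  have h1 := h.classInner_eq hΛ (X : Γ → ℂ) (Y : Γ → ℂ)
  have h2 : (fun n : N => (X : Γ → ℂ) n) = fun n : N => (Y : Γ → ℂ) n := by
    funext n
    rw [hres, hYn]
  rw [h2, Core.classInner_irr_self (h.isIrr_res hM hY)] at h1
  obtain ⟨l, -, hl⟩ : ∃ l ∈ Λ, classInner (fun g => lamFun N l g * (X : Γ → ℂ) g) (Y : Γ → ℂ) ≠ 0 := by
    by_contra hcon
    push Not at hcon
    rw [Finset.sum_eq_zero hcon] at h1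
    exact one_ne_zero h1
  have hlX : (fun g => lamFun N l g * (X : Γ → ℂ) g) = (Y : Γ → ℂ) := by
    by_contra hne
    exact hl (Core.classInner_irr_ne (isIrr_lamFun_mul l X.2) Y.2 hne)
  -- `Y` is real
  let Y' : IrrCharacter Γ := ⟨fun x => conj ((Y : Γ → ℂ) x), Core.isIrr_conj Y.2⟩
  have hY' : Y' ∈ principalBlock M Γ := conj_mem_principalBlock hY (fun x => rfl)
  have hYY : Y = Y' := by
    refine h.res_inj hM hY hY' ?_
    funext n
    change (Y : Γ → ℂ) n = conj ((Y : Γ → ℂ) n)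
    rw [hYn, ← hres, hXr]
  have hYr : ∀ x, conj ((Y : Γ → ℂ) x) = (Y : Γ → ℂ) x := fun x =>
    (congrFun (congrArg Subtype.val hYY) x).symm
  -- `l` is trivial where `X` does not vanish
  have hone : ∀ x, lamFun N l x * (X : Γ → ℂ) x = (X : Γ → ℂ) x := by
    intro x
    by_cases h0 : (X : Γ → ℂ) x = 0
    · rw [h0, mul_zero]
    · have h3 := hYr x
      rw [← hlX] at h3
      simp only [map_mul, hXr] at h3
      have h4 : conj (lamFun N l x) = lamFun N l x := mul_right_cancel₀ h0 h3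
      have h5 := lamFun_mul_conj (l := l) x
      rw [h4] at h5
      obtain ⟨k, hk⟩ := h.odd_index_N
      have h6 := lamFun_pow (l := l) x
      rw [hk, pow_succ, pow_mul, sq, h5, one_pow, one_mul] at h6
      rw [h6, one_mul]
  have hXY : X = Y := by
    apply Subtype.ext
    rw [← hlX]
    funext x
    exact (hone x).symm
  rw [hXY]
  exact hY

end General

section Chi

variable {G : Type v} [Group G] [Fintype G] {C : Type w} [Group C] [Fintype C] {t : G} {z : C}
  {N S : Subgroup (Subgroup.centralizer ({t} : Set G))} {π : N →* C} {M : Ideal AlgInt}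
  {q : ℕ} {ε : ℤ} {Z T T' U : Subgroup C} {s s' u : C} {r : ℕ} {b : C →* ℂˣ}
  {hC : CHyp z q ε Z T T' U s s' u} {μ : U →* ℂˣ}

/-- `R_T(1)` is invariant under `Z`. -/
theorem R_one_mul (hC : CHyp z q ε Z T T' U s s' u) (hμ : ∃ v : U, μ v ≠ 1) {ζ : C} (hζ : ζ ∈ Z)
    (x : C) : Torus.R T hC.base μ (fun _ => 1) (ζ * x) = Torus.R T hC.base μ (fun _ => 1) x := by
  have hcl : IsClassFunction C (Torus.R T hC.base μ (fun _ => 1)) :=
    Torus.R_isClassFunction hC.base _
  obtain ⟨g, hg⟩ := hC.exhaust x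
  rw [← hcl x g, ← hcl (ζ * x) g]
  have h1 : g * (ζ * x) * g⁻¹ = ζ * (g * x * g⁻¹) := by
    rw [← mul_assoc g, hC.Z_central ζ hζ g]
    group
  rw [h1]
  generalize g * x * g⁻¹ = c at hg
  have hZ : c ∈ Z → Torus.R T hC.base μ (fun _ => 1) (ζ * c) =
      Torus.R T hC.base μ (fun _ => 1) c := by
    intro hc
    rw [hC.torus.R_Z hC.base _ hc, hC.torus.R_Z hC.base _ (mul_mem hζ hc)]
  by_cases hcZ : c ∈ Z
  · exact hZ hcZ
  have hζc : ζ * c ∉ Z := fun h2 => hcZ ((Z.mul_mem_cancel_left hζ).1 h2)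
  rcases hg with hc | hc | ⟨ζ', hζ', v, hv, rfl⟩
  · rw [hC.torus.R_T hC.base _ hc hcZ, hC.torus.R_T hC.base _ (mul_mem (hC.Z_le_T hζ) hc) hζc]
  · have hne : -ε ≠ ε := by rcases hC.eps with h1 | h1 <;> rw [h1] <;> norm_num
    rw [hC.torus.R_T' hC.torus' hne hC.base _ hc hcZ,
      hC.torus.R_T' hC.torus' hne hC.base _ (mul_mem (hC.Z_le_T' hζ) hc) hζc]
  · have hv1 : v ≠ 1 := by
      rintro rfl
      exact hcZ (by rw [mul_one]; exact hζ')
    rw [← mul_assoc, hC.torus.R_ZU hC.base hμ _ hζ' hv hv1,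
      hC.torus.R_ZU hC.base hμ _ (mul_mem hζ hζ') hv hv1]

theorem odd_of_not_two_dvd {n : ℕ} (h : ¬ 2 ∣ n) : Odd n :=
  Nat.not_even_iff_odd.1 fun h1 => h (even_iff_two_dvd.1 h1)

theorem tt_center (t : G) : RTwo.General.tt t ∈
    Subgroup.center (Subgroup.centralizer ({t} : Set G)) :=
  Subgroup.mem_center_iff.2 fun g => (RTwo.General.tt_comm g).symm.eq

theorem isPPart_tt (H : FHyp t z N S π) {y : Subgroup.centralizer ({t} : Set G)}
    (hy : Odd (orderOf y)) : IsPPart 2 (RTwo.General.tt t * y) (RTwo.General.tt t) := by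
  refine ⟨y, rfl, RTwo.General.tt_comm y, ⟨1, ?_⟩, fun h2 =>
    (Nat.not_even_iff_odd.2 hy) (even_iff_two_dvd.2 h2)⟩
  rw [pow_one]
  have : Fact (Nat.Prime 2) := ⟨Nat.prime_two⟩
  exact orderOf_eq_prime (by rw [sq, H.tt_mul_tt]) fun h2 => H.t_ne_one (congrArg Subtype.val h2)

theorem sec_tt (t : G) : Sec (fun g : Subgroup.centralizer ({t} : Set G) =>
    IsPPart 2 g (RTwo.General.tt t)) := by
  have : Fact (Nat.Prime 2) := ⟨Nat.prime_two⟩
  constructor
  · rintro g c ⟨y', rfl, hc, ho, hy'⟩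
    refine ⟨c * y' * c⁻¹, ?_, (RTwo.General.tt_comm _), ho, ?_⟩
    · rw [← mul_assoc, ← mul_assoc, ← mul_assoc, (RTwo.General.tt_comm c).eq]
    · rw [(MulAut.conj_apply c y').symm, MulEquiv.orderOf_eq]
      exact hy'
  · intro a g hag
    obtain ⟨y', hy1, hc, ho, hy'⟩ := hag
    have haa : IsPPart 2 a a := ⟨1, mul_one a, Commute.one_right a, ho, by
      rw [orderOf_one]; norm_num⟩
    constructor
    · intro h2
      have h3 := Blocks.PPart.isPPart_unique h2 ⟨y', hy1, hc, ho, hy'⟩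
      rw [h3]
      exact haa
    · intro h2
      have h3 := Blocks.PPart.isPPart_unique h2 haa
      rw [h3]
      exact ⟨y', hy1, hc, ho, hy'⟩

theorem sec_pow (H : FHyp t z N S π) (m : ℕ) :
    Sec (fun g : Subgroup.centralizer ({t} : Set G) =>
      RTwo.General.tt t ∈ Subgroup.zpowers (g ^ m)) := by
  constructor
  · intro g c h2
    obtain ⟨k, hk⟩ := Subgroup.mem_zpowers_iff.1 h2
    refine Subgroup.mem_zpowers_iff.2 ⟨k, ?_⟩
    rw [conj_pow, conj_zpow, hk]
    exact H.tt_conj c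
  · rintro a g ⟨y, rfl, hc, ⟨k, hk⟩, hy⟩
    have h2 : IsPPart 2 ((a * y) ^ m) (a ^ m) := by
      refine ⟨y ^ m, (hc.mul_pow _).symm, hc.pow_pow _ _, ?_, ?_⟩
      · obtain ⟨j, -, hj⟩ := (Nat.dvd_prime_pow Nat.prime_two).1
          (hk ▸ orderOf_pow_dvd (x := a) m)
        exact ⟨j, hj⟩
      · intro h3
        exact hy (h3.trans (orderOf_pow_dvd _))
    exact mem_zpowers_iff_of_isPPart H.tt_mul_tt h2

/-- The principal part of a character on `C(t)`. -/
theorem exists_E (H : FHyp t z N S π) (hM : IsPModular 2 M) {X : G → ℂ} (hX : Prin M X) :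
    ∃ E : Subgroup.centralizer ({t} : Set G) → ℂ, Prin M E ∧
      ∀ x : Subgroup.centralizer ({t} : Set G), RTwo.General.tt t ∈ Subgroup.zpowers x →
        X x = E x :=
  ⟨_, prin_blockPart _, fun x hx =>
    (principal_part_centralizer hM H.t_mul_t hX x (H.mem_zpowers_Γ.2 hx)).symm⟩

/-- The values on the section of `t`. -/
theorem value_sec (H : FHyp t z N S π) (hM : IsPModular 2 M)
    (hC : CHyp z q ε Z T T' U s s' u) (hμ : ∃ v : U, μ v ≠ 1)
    {P₁ : Subgroup.centralizer ({t} : Set G) → ℂ}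
    (hP : Prin M P₁) (hP₁ : ∀ n : N, P₁ n = Torus.R T hC.base μ (fun _ => 1) (π n))
    {X : G → ℂ} (hX : Prin M X)
    (hsec : ∀ (g : N) (y : C), π g = z * y → Odd (orderOf y) →
        X ((g : Subgroup.centralizer ({t} : Set G)) : G) = Torus.R T hC.base μ (fun _ => 1) y)
    {y : Subgroup.centralizer ({t} : Set G)} (hy : Odd (orderOf y)) :
    X ((RTwo.General.tt t * y : Subgroup.centralizer ({t} : Set G)) : G) = P₁ y := by
  obtain ⟨E, hE, hEx⟩ := exists_E H hM hX
  have hty := isPPart_tt H hy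
  have hmem : ∀ g : Subgroup.centralizer ({t} : Set G), IsPPart 2 g (RTwo.General.tt t) →
      RTwo.General.tt t ∈ Subgroup.zpowers g := fun g hg =>
    (mem_zpowers_iff_of_isPPart H.tt_mul_tt hg).2 (Subgroup.mem_zpowers _)
  have hon : ∀ n : N, IsPPart 2 (n : Subgroup.centralizer ({t} : Set G)) (RTwo.General.tt t) →
      E n = P₁ n := by
    intro n hn
    rw [← hEx _ (hmem _ hn), hP₁]
    obtain ⟨y', hy1, -, -, hy'⟩ := hn
    have hyN : y' ∈ N := by
      have h3 : y' = (RTwo.General.tt t)⁻¹ * n := by rw [← hy1]; group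
      rw [h3]
      exact mul_mem (inv_mem H.t_mem) n.2
    have h3 : n = tN H * ⟨y', hyN⟩ := Subtype.ext hy1.symm
    have h4 : π n = z * π ⟨y', hyN⟩ := by rw [h3, map_mul, H.map_tN]
    have h5 : Odd (orderOf (π ⟨y', hyN⟩)) := by
      refine Odd.of_dvd_nat ?_ (orderOf_map_dvd π _)
      rw [Subgroup.orderOf_mk]
      exact odd_of_not_two_dvd hy'
    rw [hsec n _ h4 h5, h4, R_one_mul hC hμ hC.t_mem]
  have h2 : E (RTwo.General.tt t * y) = P₁ (RTwo.General.tt t * y) :=
    AD.eq_on H.ad hM hE hP (sec_tt t) hon hty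
  have h3 : (fun x => P₁ (RTwo.General.tt t * x)) - P₁ = 0 := by
    refine AD.eq_zero H.ad hM ((Prin.translate hP (tt_center t)).sub hP) fun n => ?_
    rw [Pi.sub_apply]
    have h4 : RTwo.General.tt t * (n : Subgroup.centralizer ({t} : Set G)) =
        ((tN H * n : N) : Subgroup.centralizer ({t} : Set G)) := rfl
    rw [h4, hP₁, hP₁, map_mul, H.map_tN, R_one_mul hC hμ hC.t_mem, sub_self]
  have h4 := congrFun h3 y
  rw [Pi.sub_apply, Pi.zero_apply, sub_eq_zero] at h4
  rw [hEx _ (hmem _ hty), h2]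
  exact h4

/-- The values at level `0`. -/
theorem value_lev (H : FHyp t z N S π) (hM : IsPModular 2 M)
    (hC : CHyp z q ε Z T T' U s s' u)
    {P₁ : Subgroup.centralizer ({t} : Set G) → ℂ}
    (hP : Prin M P₁) (hP₁ : ∀ n : N, P₁ n = Torus.R T hC.base μ (fun _ => 1) (π n))
    {X : G → ℂ} (hX : Prin M X)
    (hlev : ∀ g : N, z ∈ Subgroup.zpowers ((π g) ^ (r / 2)) →
        X ((g : Subgroup.centralizer ({t} : Set G)) : G) =
          Torus.R T hC.base μ (fun _ => 1) (π g))
    {g : Subgroup.centralizer ({t} : Set G)}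
    (hg : RTwo.General.tt t ∈ Subgroup.zpowers (g ^ (r / 2))) : X g = P₁ g := by
  obtain ⟨E, hE, hEx⟩ := exists_E H hM hX
  have hmem : ∀ g : Subgroup.centralizer ({t} : Set G),
      RTwo.General.tt t ∈ Subgroup.zpowers (g ^ (r / 2)) →
      RTwo.General.tt t ∈ Subgroup.zpowers g := fun g hg =>
    Subgroup.zpowers_le.2 (pow_mem (Subgroup.mem_zpowers g) _) hg
  rw [hEx g (hmem g hg)]
  refine AD.eq_on H.ad hM hE hP (sec_pow H (r / 2)) (fun n hn => ?_) hg
  have h2 : tN H ∈ Subgroup.zpowers (n ^ (r / 2)) := by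
    obtain ⟨k, hk⟩ := Subgroup.mem_zpowers_iff.1 hn
    exact Subgroup.mem_zpowers_iff.2 ⟨k, Subtype.ext hk⟩
  have h3 : z ∈ Subgroup.zpowers ((π n) ^ (r / 2)) := by
    obtain ⟨k, hk⟩ := Subgroup.mem_zpowers_iff.1 h2
    refine Subgroup.mem_zpowers_iff.2 ⟨k, ?_⟩
    rw [← map_pow, ← map_zpow, hk, H.map_tN]
  rw [← hEx _ (hmem _ hn), hP₁, hlev n h3]

/-- **The character of degree `q ^ 2 + ε q`: the values on `C(t)`.** -/
theorem exists_chi (H : FHyp t z N S π) (hM : IsPModular 2 M)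
    (hC : CHyp z q ε Z T T' U s s' u) (hD : DetHyp q ε T T' U s s' u r b) (hr : 4 ∣ r)
    (hq : 3 ≤ q) (hμ : ∃ v : U, μ v ≠ 1) {P₁ : Subgroup.centralizer ({t} : Set G) → ℂ}
    (hP : Prin M P₁) (hP₁ : ∀ n : N, P₁ n = Torus.R T hC.base μ (fun _ => 1) (π n)) :
    ∃ χ : IrrCharacter G, χ ∈ principalBlock M G ∧
      (χ : G → ℂ) 1 = (q : ℂ) ^ 2 + ε * q ∧ (χ : G → ℂ) t = 1 + ε * q ∧
      (∀ y : Subgroup.centralizer ({t} : Set G), Odd (orderOf y) →
        (χ : G → ℂ) ((RTwo.General.tt t * y : Subgroup.centralizer ({t} : Set G)) : G) = P₁ y) ∧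
      (∀ g : Subgroup.centralizer ({t} : Set G),
        RTwo.General.tt t ∈ Subgroup.zpowers (g ^ (r / 2)) → (χ : G → ℂ) g = P₁ g) := by
  obtain ⟨χ, hχ, h1, ht, hsec, hlev⟩ := FldWrChi.exists_chi_QS H hM hC hD hr hq hμ
  have hX : Prin M (χ : G → ℂ) := (blockPart_irr (principalBlock M G) χ).1 hχ
  exact ⟨χ, hχ, h1, ht, fun y hy => value_sec H hM hC hμ hP hP₁ hX hsec hy,
    fun g hg => value_lev H hM hC hP hP₁ hX hlev hg⟩

end Chi

end Cfsg.Agent.Classification.QDW.FldExt
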