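import Mathlib
import Cfsg.Agent.Classification.QDW.FldExt
import Cfsg.Agent.Classification.QDW.FuDefs

/-!
# Wreathed case with field automorphisms: the values of `χ` on the sections of `t`, `u`, `tu`

* `isCharacter_minus`: the trace on the `(-1)`-eigenspace of a central involution;
* `mem_N`, `exists_conj_T`: elements of `C(t)` commuting with a second involution;
* `val_sec`: the values `χ (v y)`, `v` a conjugate of `t`;
* `wr_val`: the structure `CaseU.Val`.
-/

set_option autoImplicit false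
set_option linter.unusedSectionVars false

open Cfsg
open scoped ComplexConjugate

namespace Cfsg.Agent.Classification.QDW.FldWrValU

open Cfsg.Agent.Characters Cfsg.Agent.Classification.BGBlockB0
  Cfsg.Agent.Classification.InvCent Cfsg.Agent.Classification.QDW.Fld

universe v w

/-- The trace on the `(-1)`-eigenspace of a central involution. -/
theorem isCharacter_minus {N' : Type*} [Group N'] [Finite N'] {χ : N' → ℂ} (hχ : IsCharacter N' χ)
    {t : N'} (tt : t * t = 1) (hc : ∀ x, Commute t x) :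
    IsCharacter N' (fun x => (χ x - χ (t * x)) / 2) := by
  classical
  have : Finite (IrrCharacter N') := Core.finite_irr
  have := Fintype.ofFinite (IrrCharacter N')
  obtain ⟨m, rfl⟩ := Core.isCharacter_iff.1 hχ
  have key : ∀ ψ : IrrCharacter N', (∀ x, (ψ : N' → ℂ) (t * x) = (ψ : N' → ℂ) x) ∨
      (∀ x, (ψ : N' → ℂ) (t * x) = -(ψ : N' → ℂ) x) := by
    intro ψ
    obtain ⟨c, -, hcc⟩ := Blocks.CentralizerSum.exists_central_scalar ψ.2
      (Subgroup.mem_center_iff.2 fun g => (hc g).symm.eq)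
    have h1 : c * c = 1 := by
      obtain ⟨n, hn, hn1⟩ := Core.isIrr_apply_one ψ.2
      have h2 : (ψ : N' → ℂ) 1 = c * (c * (ψ : N' → ℂ) 1) := by
        rw [← hcc, ← hcc, ← mul_assoc, tt, one_mul]
      have h3 : (ψ : N' → ℂ) 1 ≠ 0 := by
        rw [hn1]
        exact_mod_cast hn.ne'
      have h4 : (c * c - 1) * (ψ : N' → ℂ) 1 = 0 := by linear_combination -h2
      rcases mul_eq_zero.1 h4 with h5 | h5
      · exact sub_eq_zero.1 h5
      · exact absurd h5 h3
    rcases mul_self_eq_one_iff.1 h1 with h2 | h2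
    · left; intro x; rw [hcc, h2, one_mul]
    · right; intro x; rw [hcc, h2, neg_one_mul]
  rw [Core.isCharacter_iff]
  refine ⟨fun ψ => if (∀ x, (ψ : N' → ℂ) (t * x) = -(ψ : N' → ℂ) x) ∧
    ¬ (∀ x, (ψ : N' → ℂ) (t * x) = (ψ : N' → ℂ) x) then m ψ else 0, ?_⟩
  funext x
  simp only [Finset.sum_apply, Pi.smul_apply]
  rw [← Finset.sum_sub_distrib, Finset.sum_div]
  refine Finset.sum_congr rfl fun ψ _ => ?_
  by_cases h1 : ∀ x, (ψ : N' → ℂ) (t * x) = (ψ : N' → ℂ) x
  · rw [if_neg (fun h2 => h2.2 h1), h1, sub_self, zero_div, zero_smul]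
  · have h2 := (key ψ).resolve_left h1
    rw [if_pos ⟨h2, h1⟩, h2, smul_neg, sub_neg_eq_add, ← two_mul, mul_div_assoc]
    rw [nsmul_eq_mul]
    ring

section Basic

variable {G : Type v} [Group G] [Finite G] {C : Type w} [Group C] [Finite C] {t : G} {z : C}
  {N S : Subgroup (Subgroup.centralizer ({t} : Set G))} {π : N →* C}
  {q : ℕ} {ε : ℤ} {Z T T' U : Subgroup C} {s s' u : C}

/-- Elements of order prime to the index of `N` are in `N`. -/
theorem mem_N (H : FHyp t z N S π) {x : Subgroup.centralizer ({t} : Set G)}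
    (hx : (orderOf x).Coprime N.index) : x ∈ N := by
  have := H.ad.normal
  obtain ⟨m, hm⟩ := exists_pow_eq_self_of_coprime hx.symm
  rw [← hm]
  exact pow_mem (Subgroup.pow_index_mem N x) m

/-- Involutions of `C(t)` are in `N`. -/
theorem mem_N_of_sq (H : FHyp t z N S π) {x : Subgroup.centralizer ({t} : Set G)}
    (hx : x * x = 1) : x ∈ N := by
  refine mem_N H (Nat.Coprime.coprime_dvd_left (orderOf_dvd_of_pow_eq_one
    (show x ^ 2 = 1 by rw [sq, hx])) ?_)
  rw [Nat.coprime_two_left]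
  exact H.ad.odd_index_N

/-- The image in `C` of an element of `N` commuting with an involution `≠ t` is conjugate into
`T`. -/
theorem exists_conj_T (H : FHyp t z N S π) (hC : CHyp z q ε Z T T' U s s' u)
    {x : Subgroup.centralizer ({t} : Set G)} (hx : x * x = 1) (hx1 : x ≠ 1)
    (hxt : x ≠ RTwo.General.tt t) {g : N} (hg : Commute x g) :
    ∃ c : C, c * π g * c⁻¹ ∈ T := by
  have : Fintype C := Fintype.ofFinite C
  have hxN := mem_N_of_sq H hx
  set y : N := ⟨x, hxN⟩ with hy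
  have hyy : y * y = 1 := Subtype.ext hx
  have hyg : Commute y g := Subtype.ext hg.eq
  have h1 : π y ≠ 1 := by
    intro h2
    have h3 := H.eq_one_of_ker (x := y) h2 (m := 1) (by rw [pow_one, sq]; exact hyy)
    exact hx1 (congrArg Subtype.val h3)
  have h2 : π y ≠ z := by
    intro h3
    have h4 : tN H * y = 1 := by
      refine H.eq_one_of_ker (x := tN H * y) (m := 1) ?_ ?_
      · rw [map_mul, h3, H.map_tN, H.z_mul_z]
      · rw [pow_one, (H.tN_comm y).mul_pow, sq, sq, H.tN_mul_tN, hyy, one_mul]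
    have h5 : y = tN H := by
      rw [eq_inv_of_mul_eq_one_right h4]
      exact inv_eq_of_mul_eq_one_left H.tN_mul_tN
    exact hxt (congrArg Subtype.val h5)
  have h3 : π y ∈ nInv z := by
    rw [mem_nInv]
    refine ⟨orderOf_eq_prime ?_ h1, h2⟩
    rw [sq, ← map_mul, hyy, map_one]
  obtain ⟨c, hc⟩ := hC.nInv_isConj h3
  refine ⟨c, ?_⟩
  refine hC.cent_T u hC.u_mem hC.u_notMem_Z _ ?_
  have h4 : π y * π g = π g * π y := by rw [← map_mul, ← map_mul, hyg.eq]
  rw [← hc] at h4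
  calc c * π g * c⁻¹ * u = c * (π g * (c⁻¹ * u * c)) * c⁻¹ := by group
    _ = c * ((c⁻¹ * u * c) * π g) * c⁻¹ := by rw [h4]
    _ = u * (c * π g * c⁻¹) := by group

/-- The values on the section of a conjugate `v` of `t`. -/
theorem val_sec (H : FHyp t z N S π) (hC : CHyp z q ε Z T T' U s s' u)
    (hZ : ∀ ζ ∈ Z, Odd (orderOf ζ) → ζ = 1) {μ : U →* ℂˣ} [Fintype C] {χ : G → ℂ}
    (hcl : IsClassFunction G χ)
    (hsec : ∀ (g : N) (y : C), π g = z * y → Odd (orderOf y) →
      χ ((g : Subgroup.centralizer ({t} : Set G)) : G) = Torus.R T hC.base μ (fun _ => 1) y)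
    {n v y : G} (hn : n * t * n⁻¹ = v) {g : N}
    (hg : ((g : Subgroup.centralizer ({t} : Set G)) : G) = n⁻¹ * y * n) (hy : Odd (orderOf y)) :
    (π g = 1 → χ (v * y) = 1 + ε * q) ∧
      (π g ≠ 1 → (∃ c : C, c * π g * c⁻¹ ∈ T) → χ (v * y) = 2) := by
  have ho : Odd (orderOf g) := by
    have h1 : orderOf g = orderOf y := by
      rw [← Subgroup.orderOf_coe g, ← Subgroup.orderOf_coe, hg]
      have h4 : n⁻¹ * y * n = MulAut.conj n⁻¹ y := by simp
      rw [h4]
      exact orderOf_injective (MulAut.conj n⁻¹).toMonoidHom (MulAut.conj n⁻¹).injective _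
    rwa [h1]
  have ho' : Odd (orderOf (π g)) := ho.of_dvd_nat (orderOf_map_dvd π g)
  have h1 := hsec (tN H * g) (π g) (by rw [map_mul, H.map_tN]) ho'
  have h2 : χ (((tN H * g : N) : Subgroup.centralizer ({t} : Set G)) : G) = χ (v * y) := by
    have h3 : (((tN H * g : N) : Subgroup.centralizer ({t} : Set G)) : G) =
        n⁻¹ * (v * y) * n⁻¹⁻¹ := by
      change t * ((g : Subgroup.centralizer ({t} : Set G)) : G) = _
      rw [hg, ← hn]
      group
    rw [h3, hcl]
  rw [h2] at h1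
  constructor
  · intro h3
    rw [h1, h3, hC.torus.R_Z hC.base _ (one_mem Z), mul_one]
  · rintro h3 ⟨c, hc⟩
    have h4 : c * π g * c⁻¹ ∉ Z := by
      intro h5
      apply h3
      have h6 : Odd (orderOf (c * π g * c⁻¹)) := by
        have h7 : orderOf (c * π g * c⁻¹) = orderOf (π g) :=
          orderOf_injective (MulAut.conj c).toMonoidHom (MulAut.conj c).injective _
        rwa [h7]
      have h7 := hZ _ h5 h6
      have h8 : π g = c⁻¹ * (c * π g * c⁻¹) * c := by group
      rw [h8, h7]; group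
    have h5 : Torus.R T hC.base μ (fun _ => 1) (c * π g * c⁻¹) =
        Torus.R T hC.base μ (fun _ => 1) (π g) := Torus.R_isClassFunction hC.base _ _ _
    rw [h1, ← h5, hC.torus.R_T hC.base _ hc h4]
    norm_num

/-- The values on the section of `t`. -/
theorem wr_lval (H : FHyp t z N S π) (hC : CHyp z q ε Z T T' U s s' u) {m : ℕ}
    (hm : (2 * m : ℤ) = q - ε) {μ : U →* ℂˣ} [Fintype C] {χ : G → ℂ}
    (hsec : ∀ (g : N) (y : C), π g = z * y → Odd (orderOf y) →
      χ ((g : Subgroup.centralizer ({t} : Set G)) : G) = Torus.R T hC.base μ (fun _ => 1) y)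
    (g : N) (hg : Odd (orderOf g)) (hT : π g ∈ T) :
    (π g ∈ Z → χ (t * ((g : Subgroup.centralizer ({t} : Set G)) : G)) =
      ((2 : ℤ) : ℂ) + 2 * (ε * m)) ∧
      (π g ∉ Z → χ (t * ((g : Subgroup.centralizer ({t} : Set G)) : G)) = ((2 : ℤ) : ℂ)) := by
  have hm' : (2 * m : ℂ) = q - ε := by exact_mod_cast hm
  have hee : (ε : ℂ) * ε = 1 := by
    rcases hC.eps with h1 | h1 <;> rw [h1] <;> norm_num
  have h1 : χ (t * ((g : Subgroup.centralizer ({t} : Set G)) : G)) =
      Torus.R T hC.base μ (fun _ => 1) (π g) :=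
    hsec (tN H * g) (π g) (by rw [map_mul, H.map_tN]) (hg.of_dvd_nat (orderOf_map_dvd π g))
  rw [h1]
  constructor
  · intro h2
    rw [hC.torus.R_Z hC.base _ h2, mul_one]
    push_cast
    linear_combination -(ε : ℂ) * hm' + hee
  · intro h2
    rw [hC.torus.R_T hC.base _ hT h2]
    norm_num

/-- **The structure `CaseU.Val`, wreathed case.** -/
theorem wr_val (H : FHyp t z N S π) (hC : CHyp z q ε Z T T' U s s' u)
    (hZ : ∀ ζ ∈ Z, Odd (orderOf ζ) → ζ = 1) {m : ℕ} (hm : (2 * m : ℤ) = q - ε) {μ : U →* ℂˣ}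
    [Fintype C] {χ : G → ℂ} (hχ : IsCharacter G χ)
    (hsec : ∀ (g : N) (y : C), π g = z * y → Odd (orderOf y) →
      χ ((g : Subgroup.centralizer ({t} : Set G)) : G) = Torus.R T hC.base μ (fun _ => 1) y)
    {N' : Type*} [Group N'] [Finite N'] (ι : N' →* G) {t' u' : N'} (hιt : ι t' = t)
    (tt : t' * t' = 1) (tc : ∀ x, Commute t' x) {n n' : G} (hn : n * t * n⁻¹ = ι u')
    (hn' : n' * t * n'⁻¹ = ι (t' * u')) {P Au Atu : Subgroup N'} (hPo : ∀ y ∈ P, Odd (orderOf y))
    (hAu : ∀ y ∈ P, ∃ g : N, ((g : Subgroup.centralizer ({t} : Set G)) : G) = n⁻¹ * ι y * n ∧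
      (y ∈ Au ↔ π g = 1))
    (hAtu : ∀ y ∈ P, ∃ g : N, ((g : Subgroup.centralizer ({t} : Set G)) : G) = n'⁻¹ * ι y * n' ∧
      (y ∈ Atu ↔ π g = 1)) :
    CaseU.Val t' u' Au Atu P q ε m (fun x => (χ (ι x) - χ (t * ι x)) / 2) := by
  have hcl := Core.isCharacter_isClassFunction hχ
  have hm' : (2 * m : ℂ) = q - ε := by exact_mod_cast hm
  have hee : (ε : ℂ) * ε = 1 := by
    rcases hC.eps with h1 | h1 <;> rw [h1] <;> norm_num
  have htt := H.t_mul_t
  have ht1 : t ≠ 1 := H.t_ne_one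
  -- the elements of `P` are mapped into conjugates of `T`
  have aux : ∀ {a : G} {v : N'}, a * t * a⁻¹ = ι v → ι v ≠ t → ∀ {y : N'} {g : N},
      ((g : Subgroup.centralizer ({t} : Set G)) : G) = a⁻¹ * ι y * a →
      ∃ c : C, c * π g * c⁻¹ ∈ T := by
    intro a v ha hvt y g hg
    have hvt' : ι v * t = t * ι v := by
      rw [← hιt, ← map_mul, ← map_mul, (tc v).eq]
    have h2 : t = a⁻¹ * ι v * a := by rw [← ha]; group
    have hx : a⁻¹ * t * a ∈ Subgroup.centralizer ({t} : Set G) := by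
      rw [Subgroup.mem_centralizer_singleton_iff]
      calc a⁻¹ * t * a * t = a⁻¹ * t * a * (a⁻¹ * ι v * a) := by rw [← h2]
        _ = a⁻¹ * (t * ι v) * a := by group
        _ = a⁻¹ * (ι v * t) * a := by rw [hvt']
        _ = (a⁻¹ * ι v * a) * (a⁻¹ * t * a) := by group
        _ = t * (a⁻¹ * t * a) := by rw [← h2]
    refine exists_conj_T H hC (x := ⟨a⁻¹ * t * a, hx⟩) ?_ ?_ ?_ ?_
    · refine Subtype.ext ?_
      change a⁻¹ * t * a * (a⁻¹ * t * a) = 1
      have h3 : a⁻¹ * t * a * (a⁻¹ * t * a) = a⁻¹ * (t * t) * a := by group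
      rw [h3, htt]; group
    · intro h3
      apply ht1
      have h4 : a⁻¹ * t * a = 1 := congrArg Subtype.val h3
      have h5 : t = a * (a⁻¹ * t * a) * a⁻¹ := by group
      rw [h5, h4]; group
    · intro h3
      apply hvt
      have h4 : a⁻¹ * t * a = t := congrArg Subtype.val h3
      rw [← ha]
      have h6 : a * t * a⁻¹ = a * (a⁻¹ * t * a) * a⁻¹ := by rw [h4]
      rw [h6]; group
    · refine Subtype.ext ?_
      change a⁻¹ * t * a * ((g : Subgroup.centralizer ({t} : Set G)) : G) =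
        ((g : Subgroup.centralizer ({t} : Set G)) : G) * (a⁻¹ * t * a)
      have h3 : t * ι y = ι y * t := by rw [← hιt, ← map_mul, ← map_mul, (tc y).eq]
      rw [hg]
      calc a⁻¹ * t * a * (a⁻¹ * ι y * a) = a⁻¹ * (t * ι y) * a := by group
        _ = a⁻¹ * (ι y * t) * a := by rw [h3]
        _ = a⁻¹ * ι y * a * (a⁻¹ * t * a) := by group
  have hut : ι u' ≠ t := by
    intro h1
    apply ht1
    have h2 : ι (t' * u') = 1 := by rw [map_mul, h1, hιt, htt]
    rw [h2] at hn'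
    have h3 : t = n'⁻¹ * (n' * t * n'⁻¹) * n' := by group
    rw [h3, hn']; group
  have htut : ι (t' * u') ≠ t := by
    intro h1
    apply ht1
    have h2 : ι u' = 1 := by
      rw [map_mul, hιt] at h1
      exact mul_eq_left.1 h1
    rw [h2] at hn
    have h3 : t = n⁻¹ * (n * t * n⁻¹) * n := by group
    rw [h3, hn]; group
  have hιo : ∀ y ∈ P, Odd (orderOf (ι y)) := fun y hy =>
    (hPo y hy).of_dvd_nat (orderOf_map_dvd ι y)
  have vu : ∀ y ∈ P, (y ∈ Au → χ (ι u' * ι y) = 1 + ε * q) ∧ (y ∉ Au → χ (ι u' * ι y) = 2) := by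
    intro y hy
    obtain ⟨g, hg, hg'⟩ := hAu y hy
    obtain ⟨h1, h2⟩ := val_sec H hC hZ hcl hsec hn hg (hιo y hy)
    exact ⟨fun h3 => h1 (hg'.1 h3), fun h3 => h2 (fun h4 => h3 (hg'.2 h4)) (aux hn hut hg)⟩
  have vtu : ∀ y ∈ P, (y ∈ Atu → χ (t * (ι u' * ι y)) = 1 + ε * q) ∧
      (y ∉ Atu → χ (t * (ι u' * ι y)) = 2) := by
    intro y hy
    obtain ⟨g, hg, hg'⟩ := hAtu y hy
    obtain ⟨h1, h2⟩ := val_sec H hC hZ hcl hsec hn' hg (hιo y hy)
    have h3 : t * (ι u' * ι y) = ι (t' * u') * ι y := by rw [map_mul, hιt, mul_assoc]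
    rw [h3]
    exact ⟨fun h4 => h1 (hg'.1 h4), fun h4 => h2 (fun h5 => h4 (hg'.2 h5)) (aux hn' htut hg)⟩
  refine ⟨?_, ?_, hm, ?_, ?_, ?_, ?_⟩
  · have h1 := isCharacter_minus (Core.isCharacter_comp ι hχ) tt tc
    have h2 : (fun x => (χ (ι x) - χ (t * ι x)) / 2) =
        fun x => (χ (ι x) - χ (ι (t' * x))) / 2 := by
      funext x
      rw [map_mul, hιt]
    rw [h2]
    exact h1
  · intro x
    simp only [map_mul, hιt]
    rw [← mul_assoc, htt, one_mul]
    ring
  · intro y hy h1 h2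
    simp only [map_mul]
    rw [(vu y hy).1 h1, (vtu y hy).1 h2]
    ring
  · intro y hy h1 h2
    simp only [map_mul]
    rw [(vu y hy).1 h1, (vtu y hy).2 h2]
    linear_combination (-1 / 2 : ℂ) * ε * hm' + (1 / 2 : ℂ) * hee
  · intro y hy h1 h2
    simp only [map_mul]
    rw [(vu y hy).2 h1, (vtu y hy).1 h2]
    linear_combination (1 / 2 : ℂ) * ε * hm' - (1 / 2 : ℂ) * hee
  · intro y hy h1 h2
    simp only [map_mul]
    rw [(vu y hy).2 h1, (vtu y hy).2 h2]
    ring

end Basic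

end Cfsg.Agent.Classification.QDW.FldWrValU
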