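import Mathlib
import Cfsg.Agent.Lib.PGroupCoprimeAction
import Cfsg.Agent.S1287

/-!
# Invariant Sylow subgroups (coprime action), in the form used in the case `F' ≠ 1`

`G` is finite, `D` a `2`-group normalising the group `X` of odd order, `r` a prime.

* `exists_ge`: every `D`-invariant `r`-subgroup of `X` lies in a `D`-invariant Sylow `r`-subgroup;
* `InvSyl.fixed`: the fixed points of `V` on a `V`-invariant Sylow subgroup of `X` are a Sylow
  subgroup of `C_X(V)`;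
* `InvSyl.conj`: `V`-invariant Sylow subgroups of `X` are conjugate under `C_X(V)`.
-/

set_option autoImplicit false
set_option linter.unusedSectionVars false

namespace Cfsg.Agent.Classification.QDW.FuSyl

open Cfsg.Agent Subgroup

variable {G : Type*} [Group G] {r : ℕ} {D V X R S P : Subgroup G}

/-- `R` is a `D`-invariant Sylow `r`-subgroup of `X`. -/
structure InvSyl (r : ℕ) (D X R : Subgroup G) : Prop where
  le : R ≤ X
  pg : IsPGroup r R
  index : ¬ r ∣ R.relIndex X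
  inv : ∀ b ∈ D, ∀ x ∈ R, b * x * b⁻¹ ∈ R

theorem InvSyl.mono (h : InvSyl r D X R) (hVD : V ≤ D) : InvSyl r V X R :=
  ⟨h.le, h.pg, h.index, fun b hb => h.inv b (hVD hb)⟩

variable [Finite G]

/-- The two forms of "Sylow subgroup of a subgroup". -/
theorem sylow_iff [Fact r.Prime] :
    (∃ T : Sylow r X, (T : Subgroup X).map X.subtype = R) ↔
      R ≤ X ∧ IsPGroup r R ∧ ¬ r ∣ R.relIndex X := by
  constructor
  · rintro ⟨T, rfl⟩
    refine ⟨map_subtype_le _, T.isPGroup'.map _, ?_⟩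
    have h1 : ((T : Subgroup X).map X.subtype).relIndex X = (T : Subgroup X).index := by
      rw [relIndex, subgroupOf, comap_map_eq_self_of_injective X.subtype_injective]
    rw [h1]
    exact T.not_dvd_index
  · rintro ⟨h1, h2, h3⟩
    have h4 : IsPGroup r (R.subgroupOf X) :=
      h2.of_injective (subgroupOfEquivOfLe h1).toMonoidHom (subgroupOfEquivOfLe h1).injective
    have h5 : ¬ r ∣ (R.subgroupOf X).index := h3
    refine ⟨h4.toSylow h5, ?_⟩
    have h6 : ((h4.toSylow h5 : Sylow r X) : Subgroup X) = R.subgroupOf X := rfl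
    rw [h6, subgroupOf, map_comap_eq, range_subtype, inf_eq_right.2 h1]

theorem not_dvd_of_odd (hX : Odd (Nat.card X)) : ¬ 2 ∣ Nat.card X :=
  fun h => (Nat.not_even_iff_odd.2 hX) (even_iff_two_dvd.2 h)

/-- Every `D`-invariant `r`-subgroup lies in a `D`-invariant Sylow `r`-subgroup. -/
theorem exists_ge (hr : r.Prime) (hD : IsPGroup 2 D) (hX : Odd (Nat.card X))
    (hDX : ∀ b ∈ D, ∀ x ∈ X, b * x * b⁻¹ ∈ X) (hPX : P ≤ X) (hP : IsPGroup r P)
    (hDP : ∀ b ∈ D, ∀ x ∈ P, b * x * b⁻¹ ∈ P) : ∃ R : Subgroup G, InvSyl r D X R ∧ P ≤ R := by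
  have : Fact r.Prime := ⟨hr⟩
  have : Fact (Nat.Prime 2) := ⟨Nat.prime_two⟩
  obtain ⟨R, h1, h2, h3⟩ := Lib.PGroupCoprimeAction.exists_invariant_sylow_ge hD
    (not_dvd_of_odd hX) hDX hPX hP hDP
  obtain ⟨h4, h5, h6⟩ := sylow_iff.1 h1
  exact ⟨R, ⟨h4, h5, h6, h2⟩, h3⟩

/-- A `D`-invariant Sylow `r`-subgroup exists. -/
theorem exists_inv (hr : r.Prime) (hD : IsPGroup 2 D) (hX : Odd (Nat.card X))
    (hDX : ∀ b ∈ D, ∀ x ∈ X, b * x * b⁻¹ ∈ X) : ∃ R : Subgroup G, InvSyl r D X R := by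
  obtain ⟨R, h1, -⟩ := exists_ge (P := ⊥) hr hD hX hDX bot_le IsPGroup.of_bot (by
    intro b _ x hx
    rw [mem_bot] at hx
    rw [hx, mul_one, mul_inv_cancel]
    exact one_mem _)
  exact ⟨R, h1⟩

/-- The fixed points of an invariant Sylow subgroup. -/
theorem InvSyl.fixed (hr : r.Prime) (h : InvSyl r V X R) (hV : IsPGroup 2 V)
    (hX : Odd (Nat.card X)) (hVX : ∀ b ∈ V, ∀ x ∈ X, b * x * b⁻¹ ∈ X) :
    IsPGroup r (R ⊓ centralizer (V : Set G) : Subgroup G) ∧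
      ¬ r ∣ (R ⊓ centralizer (V : Set G)).relIndex (X ⊓ centralizer (V : Set G)) := by
  have : Fact r.Prime := ⟨hr⟩
  have : Fact (Nat.Prime 2) := ⟨Nat.prime_two⟩
  have h1 := S1287.card_fixed_sylow hV (not_dvd_of_odd hX) hVX
    (sylow_iff.2 ⟨h.le, h.pg, h.index⟩) h.inv
  have h2 := Blocks.SylowIn.exists_sylow_map_eq_of_card (inf_le_inf_right _ h.le) h1
  obtain ⟨-, h3, h4⟩ := sylow_iff.1 h2
  exact ⟨h3, h4⟩

/-- `V`-invariant Sylow subgroups are conjugate under the centralizer of `V`. -/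
theorem InvSyl.conj (hr : r.Prime) (h : InvSyl r V X R) (h' : InvSyl r V X S) (hV : IsPGroup 2 V)
    (hX : Odd (Nat.card X)) (hVX : ∀ b ∈ V, ∀ x ∈ X, b * x * b⁻¹ ∈ X) :
    ∃ c ∈ X, (∀ b ∈ V, b * c = c * b) ∧ ∀ x, x ∈ R ↔ c * x * c⁻¹ ∈ S := by
  have : Fact r.Prime := ⟨hr⟩
  have : Fact (Nat.Prime 2) := ⟨Nat.prime_two⟩
  obtain ⟨c, hc, hcS⟩ := Lib.PGroupCoprimeAction.exists_centralizer_conj hV (not_dvd_of_odd hX) hVX
    (sylow_iff.2 ⟨h.le, h.pg, h.index⟩) (sylow_iff.2 ⟨h'.le, h'.pg, h'.index⟩) h.inv h'.inv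
  refine ⟨c, hc.1, fun b hb => mem_centralizer_iff.1 hc.2 b hb, fun x => ?_⟩
  rw [← hcS]
  constructor
  · intro hx
    exact ⟨x, hx, rfl⟩
  · rintro ⟨y, hy, hxy⟩
    have h1 : c * y * c⁻¹ = c * x * c⁻¹ := hxy
    have h2 : y = x := mul_left_cancel (mul_right_cancel h1)
    rw [← h2]
    exact hy

end Cfsg.Agent.Classification.QDW.FuSyl
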