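import Mathlib
import Cfsg.Prelude.Def_Local
import Cfsg.Agent.Lib.Cores
import Cfsg.Agent.Walter.SylowIn
import Cfsg.Agent.Walter.OddCoreIn
import Cfsg.Agent.Walter.Cover

/-!
# The set-up for killing the core in the intermediate case ([QDW], post 4737 of the board)

`Four t u`: commuting involutions; `Mem3 t u x`: `x` is one of `t, u, tu`;
`K x = O(C(x))`; `Small t u Y`: `Y` has odd order, is normalised by `t, u`, and `C_Y(x) ≤ K x` for
the three involutions; "full at `t`" is `Cov t (normalizer Y)`.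

`Pkg p t u M N`: the package attached to a proper subgroup `M` covering `C(t)/K t`.
`Img`: the two facts on odd order subgroups of `C(t)/K t`.
`Frame`: all hypotheses of the abstract theorem `K t = ⊥`.
-/

set_option autoImplicit false

namespace Cfsg.Agent.Classification.QDW.Theta

open Subgroup Cfsg
open Cfsg.Agent.Walter.SylowIn Cfsg.Agent.Walter.OddCoreIn Cfsg.Agent.Walter.Cover

variable {G : Type*} [Group G]

/-- The core of the centralizer. -/
abbrev K (x : G) : Subgroup G := centralizerPPrimeCore 2 x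

/-- Two distinct commuting involutions. -/
structure Four (t u : G) : Prop where
  tt : t * t = 1
  uu : u * u = 1
  comm : t * u = u * t
  t1 : t ≠ 1
  u1 : u ≠ 1
  ne : t ≠ u

/-- `x` is one of the three involutions of `⟨t, u⟩`. -/
def Mem3 (t u x : G) : Prop := x = t ∨ x = u ∨ x = t * u

/-- `θ`-small subgroups. -/
structure Small (t u : G) (Y : Subgroup G) : Prop where
  odd : ¬ 2 ∣ Nat.card Y
  norm_t : t ∈ normalizer (Y : Set G)
  norm_u : u ∈ normalizer (Y : Set G)
  le : ∀ x, Mem3 t u x → Y ⊓ C x ≤ K x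

/-- `E` is generated by its intersections with the three cores. -/
def Gen3 (t u : G) (E : Subgroup G) : Prop := E ≤ (E ⊓ K t) ⊔ (E ⊓ K u) ⊔ (E ⊓ K (t * u))

/-- The package of a proper subgroup `M` covering `C(t)/K t`:
`N` is a normal subgroup of `M` contained in `O(M)`. -/
structure Pkg (p : ℕ) (t u : G) (M N : Subgroup G) : Prop where
  le : N ≤ OO M
  normal : M ≤ normalizer (N : Set G)
  small : Small t u N
  gen : ∀ E : Subgroup G, E ≤ OO M → M ≤ normalizer (E : Set G) → Gen3 t u E → E ≤ N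
  quot : ∀ r : ℕ, r.Prime → r ≠ p → ∀ R : Subgroup G, R ≤ OO M → IsPGroup r R → R ≤ N
  claim : C t ≤ M → K t ≤ N → ∀ x, Mem3 t u x → K x ⊓ OO M ≤ N

section Rep

variable {X : Type*} [AddCommGroup X] [Module ℂ X]

/-- The vectors fixed by the subgroup `Y`. -/
def fixed (ρ : Representation ℂ G X) (Y : Subgroup G) : Submodule ℂ X where
  carrier := {v | ∀ y ∈ Y, ρ y v = v}
  add_mem' := by
    intro a b ha hb y hy
    rw [map_add, ha y hy, hb y hy]
  zero_mem' := by
    intro y _
    exact map_zero _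
  smul_mem' := by
    intro c v hv y hy
    rw [map_smul, hv y hy]

theorem mem_fixed {ρ : Representation ℂ G X} {Y : Subgroup G} {v : X} :
    v ∈ fixed ρ Y ↔ ∀ y ∈ Y, ρ y v = v := Iff.rfl

/-- The `(-1)`-eigenspace of `x`. -/
def negSp (ρ : Representation ℂ G X) (x : G) : Submodule ℂ X where
  carrier := {v | ρ x v = -v}
  add_mem' := by
    intro a b ha hb
    show ρ x (a + b) = -(a + b)
    rw [map_add, show ρ x a = -a from ha, show ρ x b = -b from hb, neg_add]
  zero_mem' := by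
    show ρ x 0 = -0
    rw [map_zero, neg_zero]
  smul_mem' := by
    intro c v hv
    show ρ x (c • v) = -(c • v)
    rw [map_smul, show ρ x v = -v from hv, smul_neg]

theorem mem_negSp {ρ : Representation ℂ G X} {x : G} {v : X} :
    v ∈ negSp ρ x ↔ ρ x v = -v := Iff.rfl

/-- All hypotheses of the abstract theorem. `X` is the module of the character `±X₂` or `±X₃`,
`c` its value at the involutions, `d = q² - 1`, `dim X = d + c + n'`. -/
structure Frame (ρ : Representation ℂ G X) (p d n' : ℕ) (c : ℤ) : Prop where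
  /-- `O(G) = 1` -/
  core_bot : ∀ N : Subgroup G, N.Normal → ¬ 2 ∣ Nat.card N → N = ⊥
  /-- Feit--Thompson -/
  solvable : ∀ Y : Subgroup G, ¬ 2 ∣ Nat.card Y → Group.IsSolvable Y
  swap : ∀ t u : G, Four t u → ∃ g, g * t * g⁻¹ = u ∧ g * u * g⁻¹ = t
  flip : ∀ t u : G, Four t u → ∃ w, w * t * w⁻¹ = t ∧ w * u * w⁻¹ = t * u
  self : ∀ t u : G, Four t u → ∀ z, z * z = 1 → z ≠ 1 → z * t = t * z → z * u = u * z → Mem3 t u z
  /-- type D -/
  balance : ∀ t u : G, Four t u → K t ⊓ C u ≤ K u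
  trace : ∀ t : G, t * t = 1 → t ≠ 1 → ∀ y ∈ K t, ρ.character (t * y) = c
  dim : (Module.finrank ℂ X : ℤ) = d + c + n'
  lt : n' < d
  /-- the lower bound -/
  lb : ∀ (t u : G) (Y : Subgroup G), Four t u → Small t u Y → Cov t (normalizer (Y : Set G)) →
    Module.finrank ℂ X ≤ Module.finrank ℂ (fixed ρ Y) + n'
  /-- (F1) -/
  factor : ∀ (t u : G) (M : Subgroup G), Four t u → u ∈ M → Cov t M → M ≠ ⊤ →
    ∀ x ∈ M, ∃ o ∈ OO M, ∃ n ∈ M ⊓ C t, x = o * n
  /-- (4), (5) and the claim of (10) -/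
  pkg : ∀ (t u : G) (M : Subgroup G), Four t u → u ∈ M → Cov t M → M ≠ ⊤ → ∃ N, Pkg p t u M N
  /-- (7), for `t` -/
  img : ∀ (t u : G) (D S : Subgroup G), Four t u → Small t u D → C t ≤ normalizer (D : Set G) →
    K t ≤ D → D ≤ S → ¬ 2 ∣ Nat.card S → t ∈ normalizer (S : Set G) → u ∈ normalizer (S : Set G) →
    C t ⊓ C u ≤ normalizer (S : Set G) →
    Module.finrank ℂ (fixed ρ D) ≤ Module.finrank ℂ (fixed ρ S) + n' →
    ∀ y ∈ S, y ∈ C t → ∃ k ∈ K t, ∃ z ∈ S, z ∈ C t ∧ z ∈ C u ∧ y = k * z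
  /-- (7), for `tu` (here the pair is `tu, t` in the application) -/
  img' : ∀ (t u w : G) (S : Subgroup G), Four t u → w * t * w⁻¹ = t → w * u * w⁻¹ = t * u →
    ¬ 2 ∣ Nat.card S → t ∈ normalizer (S : Set G) → u ∈ normalizer (S : Set G) →
    w ∈ normalizer (S : Set G) → C t ⊓ C u ≤ normalizer (S : Set G) →
    ∀ y ∈ S, y ∈ C t → ∃ k ∈ K t, ∃ z ∈ S, z ∈ C t ∧ z ∈ C u ∧ y = k * z

end Rep

end Cfsg.Agent.Classification.QDW.Theta
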