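import Mathlib
import Cfsg.Agent.Lib.CoprimeHyperplane
import Cfsg.Agent.Solvable.Glauberman
import Cfsg.Agent.StandardComponent.CentCore
import Cfsg.Agent.Classification.QDW.ThetaDefs

/-!
# Four-groups acting on groups of odd order

Elementary facts for `Classification.QDW.Theta`.
-/

set_option autoImplicit false

namespace Cfsg.Agent.Classification.QDW.Theta

open Subgroup Cfsg
open Cfsg.Agent.Walter.SylowIn Cfsg.Agent.Walter.OddCoreIn Cfsg.Agent.Walter.Cover

variable {G : Type*} [Group G]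

section Four

variable {t u : G}

theorem Four.symm (h : Four t u) : Four u t :=
  ⟨h.uu, h.tt, h.comm.symm, h.u1, h.t1, h.ne.symm⟩

theorem Four.tu1 (h : Four t u) : t * u ≠ 1 := by
  intro h1
  apply h.ne
  calc t = t * (u * u) := by rw [h.uu, mul_one]
    _ = u := by rw [← mul_assoc, h1, one_mul]

theorem Four.tutu (h : Four t u) : (t * u) * (t * u) = 1 := by
  calc (t * u) * (t * u) = t * (u * t) * u := by group
    _ = (t * t) * (u * u) := by rw [← h.comm]; group
    _ = 1 := by rw [h.tt, h.uu, one_mul]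

theorem Four.mulRight (h : Four t u) : Four t (t * u) := by
  refine ⟨h.tt, h.tutu, ?_, h.t1, h.tu1, ?_⟩
  · rw [mul_assoc, h.comm]
  · intro h1
    exact h.u1 (left_eq_mul.1 h1)

theorem Four.mulLeft (h : Four t u) : Four (t * u) t := h.mulRight.symm

theorem Four.mulRight' (h : Four t u) : Four u (t * u) := by
  have := h.symm.mulRight
  rwa [← h.comm] at this

theorem Four.t_mul_tu (h : Four t u) : t * (t * u) = u := by rw [← mul_assoc, h.tt, one_mul]

theorem Four.u_mul_tu (h : Four t u) : u * (t * u) = t := by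
  rw [h.comm, ← mul_assoc, h.uu, one_mul]

theorem Four.tu_mul_t (h : Four t u) : t * u * t = u := by rw [mul_assoc, ← h.comm, h.t_mul_tu]

theorem Four.inv_t (h : Four t u) : t⁻¹ = t := inv_eq_of_mul_eq_one_left h.tt

theorem Four.inv_u (h : Four t u) : u⁻¹ = u := inv_eq_of_mul_eq_one_left h.uu

theorem Four.conj (h : Four t u) (g : G) : Four (g * t * g⁻¹) (g * u * g⁻¹) := by
  refine ⟨?_, ?_, ?_, ?_, ?_, ?_⟩
  · rw [show g * t * g⁻¹ * (g * t * g⁻¹) = g * (t * t) * g⁻¹ by group, h.tt]; group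
  · rw [show g * u * g⁻¹ * (g * u * g⁻¹) = g * (u * u) * g⁻¹ by group, h.uu]; group
  · rw [show g * t * g⁻¹ * (g * u * g⁻¹) = g * (t * u) * g⁻¹ by group, h.comm]; group
  · intro h1
    exact h.t1 (by rw [mul_inv_eq_one] at h1; exact mul_eq_left.1 h1)
  · intro h1
    exact h.u1 (by rw [mul_inv_eq_one] at h1; exact mul_eq_left.1 h1)
  · intro h1
    exact h.ne (mul_left_cancel (mul_right_cancel h1))

theorem mem3_t : Mem3 t u t := Or.inl rfl
theorem mem3_u : Mem3 t u u := Or.inr (Or.inl rfl)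
theorem mem3_tu : Mem3 t u (t * u) := Or.inr (Or.inr rfl)

theorem Mem3.symm (h : Four t u) {x : G} (hx : Mem3 t u x) : Mem3 u t x := by
  rcases hx with rfl | rfl | rfl
  · exact mem3_u
  · exact mem3_t
  · rw [h.comm]; exact mem3_tu

theorem Mem3.right (h : Four t u) {x : G} (hx : Mem3 t u x) : Mem3 t (t * u) x := by
  rcases hx with rfl | rfl | rfl
  · exact mem3_t
  · right; right; exact h.t_mul_tu.symm
  · exact mem3_u

/-- one of the three involutions, as the first member of a pair -/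
theorem Mem3.exists_four (h : Four t u) {x : G} (hx : Mem3 t u x) :
    ∃ y, Mem3 t u y ∧ Four x y ∧ (∀ z, Mem3 t u z ↔ Mem3 x y z) := by
  rcases hx with rfl | rfl | rfl
  · exact ⟨u, mem3_u, h, fun z => Iff.rfl⟩
  · exact ⟨t, mem3_t, h.symm, fun z => ⟨Mem3.symm h, Mem3.symm h.symm⟩⟩
  · refine ⟨t, mem3_t, h.mulLeft, fun z => ⟨fun hz => (hz.right h).symm h.mulRight, fun hz => ?_⟩⟩
    have h1 := (hz.symm h.mulLeft).right h.mulRight
    rwa [h.t_mul_tu] at h1

theorem Mem3.sq (h : Four t u) {x : G} (hx : Mem3 t u x) : x * x = 1 := by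
  obtain ⟨y, -, h1, -⟩ := hx.exists_four h
  exact h1.tt

theorem Mem3.ne_one (h : Four t u) {x : G} (hx : Mem3 t u x) : x ≠ 1 := by
  obtain ⟨y, -, h1, -⟩ := hx.exists_four h
  exact h1.t1

theorem Mem3.inv (h : Four t u) {x : G} (hx : Mem3 t u x) : x⁻¹ = x :=
  inv_eq_of_mul_eq_one_left (hx.sq h)

theorem Mem3.comm (h : Four t u) {x y : G} (hx : Mem3 t u x) (hy : Mem3 t u y) :
    x * y = y * x := by
  obtain ⟨z, -, h1, h2⟩ := hx.exists_four h
  rcases (h2 y).1 hy with rfl | rfl | rfl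
  · rfl
  · exact h1.comm
  · rw [h1.t_mul_tu, h1.tu_mul_t]

theorem Mem3.mem (h : Four t u) {x : G} (hx : Mem3 t u x) {H : Subgroup G} (ht : t ∈ H)
    (hu : u ∈ H) : x ∈ H := by
  rcases hx with rfl | rfl | rfl
  · exact ht
  · exact hu
  · exact mul_mem ht hu

theorem Mem3.mem_C (h : Four t u) {x y : G} (hx : Mem3 t u x) (hy : Mem3 t u y) : x ∈ C y :=
  Cfsg.Agent.Walter.Cover.mem_C.2 (hx.comm h hy)

/-- The four-group. -/
def VV (h : Four t u) : Subgroup G where
  carrier := {x | x = 1 ∨ Mem3 t u x}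
  one_mem' := Or.inl rfl
  mul_mem' := by
    rintro a b (rfl | ha) hb
    · rwa [one_mul]
    rcases hb with rfl | hb
    · rw [mul_one]; exact Or.inr ha
    · obtain ⟨z, hz, h1, h2⟩ := ha.exists_four h
      rcases (h2 b).1 hb with rfl | rfl | rfl
      · exact Or.inl h1.tt
      · exact Or.inr ((h2 _).2 mem3_tu)
      · rw [h1.t_mul_tu]; exact Or.inr hz
  inv_mem' := by
    rintro a (rfl | ha)
    · exact Or.inl inv_one
    · right; rw [ha.inv h]; exact ha

theorem mem_VV (h : Four t u) {x : G} : x ∈ VV h ↔ x = 1 ∨ Mem3 t u x := Iff.rfl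

theorem VV_le (h : Four t u) {H : Subgroup G} (ht : t ∈ H) (hu : u ∈ H) : VV h ≤ H := by
  rintro x (rfl | hx)
  · exact one_mem _
  · exact hx.mem h ht hu

theorem VV_isPGroup (h : Four t u) : IsPGroup 2 (VV h) := by
  rintro ⟨x, hx⟩
  refine ⟨1, Subtype.ext ?_⟩
  show x ^ 2 ^ 1 = 1
  rw [pow_one, sq]
  rcases hx with rfl | hx
  · exact one_mul _
  · exact hx.sq h

theorem VV_elem (h : Four t u) : IsElementaryAbelian 2 (VV h) := by
  refine ⟨⟨⟨?_⟩⟩, ?_⟩
  · rintro ⟨a, ha⟩ ⟨b, hb⟩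
    refine Subtype.ext ?_
    show a * b = b * a
    rcases ha with rfl | ha
    · rw [one_mul, mul_one]
    rcases hb with rfl | hb
    · rw [one_mul, mul_one]
    exact ha.comm h hb
  · rintro x (rfl | hx)
    · exact one_pow _
    · rw [_root_.sq]; exact hx.sq h

theorem VV_card_dvd (h : Four t u) [Finite G] : ∃ n, Nat.card (VV h) = 2 ^ n :=
  IsPGroup.iff_card.1 (VV_isPGroup h)

end Four

section Odd

variable [Finite G]

omit [Finite G] in
theorem mem_norm_conj {x y : G} {Y : Subgroup G} (hx : x ∈ normalizer (Y : Set G)) (hy : y ∈ Y) :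
    x * y * x⁻¹ ∈ Y := (mem_normalizer_iff.1 hx y).1 hy

omit [Finite G] in
theorem mem_norm_conj' {x y : G} {Y : Subgroup G} (hx : x ∈ normalizer (Y : Set G)) (hy : y ∈ Y) :
    x⁻¹ * y * x ∈ Y := by
  have := mem_norm_conj (inv_mem hx) hy
  rwa [inv_inv] at this

omit [Finite G] in
theorem eq_one_of_inv_order {k : G} (h2 : k * k = 1) (ho : ¬ 2 ∣ orderOf k) : k = 1 := by
  have h1 : orderOf k ∣ 2 := orderOf_dvd_of_pow_eq_one (by rw [sq, h2])
  rcases (Nat.dvd_prime Nat.prime_two).1 h1 with h3 | h3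
  · exact orderOf_eq_one_iff.1 h3
  · exact absurd (h3 ▸ dvd_rfl) ho

omit [Finite G] in
theorem not_two_dvd_orderOf {Y : Subgroup G} (hY : ¬ 2 ∣ Nat.card Y) {y : G} (hy : y ∈ Y) :
    ¬ 2 ∣ orderOf y := by
  intro h
  apply hY
  have h1 := orderOf_dvd_natCard (⟨y, hy⟩ : Y)
  rw [Subgroup.orderOf_mk] at h1
  exact h.trans h1

omit [Finite G] in
/-- An element of odd order inverted by the involution `x` is `m * m` with `m` inverted by `x`. -/
theorem exists_sqrt {x k : G} (hk : ¬ 2 ∣ orderOf k) (hinv : x * k * x⁻¹ = k⁻¹) :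
    ∃ m ∈ zpowers k, m * m = k ∧ x * m * x⁻¹ = m⁻¹ := by
  have hodd : Odd (orderOf k) := by
    rw [← Nat.not_even_iff_odd, even_iff_two_dvd]; exact hk
  obtain ⟨j, hj⟩ := hodd
  refine ⟨k ^ (j + 1), Subgroup.npow_mem_zpowers _ _, ?_, ?_⟩
  · rw [← pow_add, show j + 1 + (j + 1) = orderOf k + 1 by omega, pow_succ, pow_orderOf_eq_one,
      one_mul]
  · rw [← conj_pow, hinv, inv_pow]

/-- Elements of the coset `x Y` of an involution `x` normalising the odd order group `Y` are
`Y`-conjugate to elements `x y'` with `y' ∈ C_Y(x)`. -/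
theorem exists_conj_coset {x : G} (hx : x * x = 1) {Y : Subgroup G} (hY : ¬ 2 ∣ Nat.card Y)
    (hn : x ∈ normalizer (Y : Set G)) {y : G} (hy : y ∈ Y) :
    ∃ g ∈ Y, ∃ y' ∈ Y ⊓ C x, g * (x * y) * g⁻¹ = x * y' := by
  have hxi : x⁻¹ = x := inv_eq_of_mul_eq_one_left hx
  have hodd : Odd (Nat.card Y) := by
    rw [← Nat.not_even_iff_odd, even_iff_two_dvd]; exact hY
  obtain ⟨j, hj⟩ := hodd
  -- powers of `x y`
  have hsq : (x * y) * (x * y) ∈ Y := by
    have h1 := mem_norm_conj hn hy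
    rw [hxi] at h1
    rw [show (x * y) * (x * y) = (x * y * x) * y by group]
    exact mul_mem h1 hy
  have hpow : ∀ n : ℕ, (x * y) ^ (2 * n) ∈ Y := by
    intro n
    rw [pow_mul, sq]
    exact pow_mem hsq n
  set s := (x * y) ^ (Nat.card Y) with hs
  have hxs : x * s ∈ Y := by
    rw [hs, hj, pow_succ']
    rw [show x * (x * y * (x * y) ^ (2 * j)) = (x * x) * y * (x * y) ^ (2 * j) by
      simp only [mul_assoc], hx, one_mul]
    exact mul_mem hy (hpow j)
  have hss : s * s = 1 := by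
    rw [hs, ← pow_two, ← pow_mul, mul_comm, pow_mul]
    have : ((⟨(x * y) ^ 2, by rw [sq]; exact hsq⟩ : Y)) ^ Nat.card Y = 1 := pow_card_eq_one'
    exact congrArg Subtype.val this
  have hsi : s⁻¹ = s := inv_eq_of_mul_eq_one_left hss
  have hinv : x * (x * s) * x⁻¹ = (x * s)⁻¹ := by
    rw [mul_inv_rev, hxi, hsi, ← mul_assoc, hx, one_mul]
  obtain ⟨m, hm, hmm, hxm⟩ := exists_sqrt (not_two_dvd_orderOf hY hxs) hinv
  have hmY : m ∈ Y := (zpowers_le.2 hxs) hm
  have hms : m * s * m⁻¹ = x := by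
    have h1 : s = x * (m * m) := by rw [hmm, ← mul_assoc, hx, one_mul]
    have h2 : x * m = m⁻¹ * x := by rw [← hxm, mul_assoc, mul_assoc, hxi, hx, mul_one]
    rw [h1, ← mul_assoc x, h2]
    rw [show m * (m⁻¹ * x * m) * m⁻¹ = x by group]
  refine ⟨m, hmY, x * (m * (x * y) * m⁻¹), ?_, by rw [← mul_assoc x x, hx, one_mul]⟩
  have hcomm : m * (x * y) * m⁻¹ * x = x * (m * (x * y) * m⁻¹) := by
    have h1 : (x * y) * s = s * (x * y) := by
      rw [hs]; exact ((Commute.refl (x * y)).pow_right _).eq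
    calc m * (x * y) * m⁻¹ * x = m * (x * y) * m⁻¹ * (m * s * m⁻¹) := by rw [hms]
      _ = m * ((x * y) * s) * m⁻¹ := by group
      _ = m * (s * (x * y)) * m⁻¹ := by rw [h1]
      _ = (m * s * m⁻¹) * (m * (x * y) * m⁻¹) := by group
      _ = _ := by rw [hms]
  refine mem_inf.2 ⟨?_, ?_⟩
  · have h1 : x * (m * (x * y) * m⁻¹) = (x * m * x⁻¹) * (y * m⁻¹) := by
      rw [hxi]; group
    rw [h1]
    exact mul_mem (mem_norm_conj hn hmY) (mul_mem hy (inv_mem hmY))
  · rw [mem_C]
    rw [mul_assoc, hcomm]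

/-- Decomposition `Y = C_Y(x) I`, `I` the elements inverted by `x`. -/
theorem exists_fixed_mul_inv {x : G} (hx : x * x = 1) {Y : Subgroup G} (hY : ¬ 2 ∣ Nat.card Y)
    (hn : x ∈ normalizer (Y : Set G)) {y : G} (hy : y ∈ Y) :
    ∃ c ∈ Y ⊓ C x, ∃ i ∈ Y, x * i * x⁻¹ = i⁻¹ ∧ y = c * i := by
  have hxi : x⁻¹ = x := inv_eq_of_mul_eq_one_left hx
  -- `k = y⁻¹ x y x`
  have hk : y⁻¹ * (x * y * x⁻¹) ∈ Y := mul_mem (inv_mem hy) (mem_norm_conj hn hy)
  set k := y⁻¹ * (x * y * x⁻¹) with hkd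
  have hinv : x * k * x⁻¹ = k⁻¹ := by
    rw [hkd, hxi]
    have : (y⁻¹ * (x * y * x))⁻¹ = x⁻¹ * y⁻¹ * x⁻¹ * y := by group
    rw [this, hxi]
    calc x * (y⁻¹ * (x * y * x)) * x = x * y⁻¹ * x * y * (x * x) := by group
      _ = _ := by rw [hx, mul_one]
  obtain ⟨m, hm, hmm, hxm⟩ := exists_sqrt (not_two_dvd_orderOf hY hk) hinv
  have hmY : m ∈ Y := (zpowers_le.2 hk) hm
  refine ⟨y * m, mem_inf.2 ⟨mul_mem hy hmY, ?_⟩, m⁻¹, inv_mem hmY, ?_, by group⟩
  · rw [mem_C]
    have h1 : x * y * x⁻¹ = y * k := by rw [hkd]; group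
    have h2 : x * (y * m) = y * m * x := by
      have h3 : x * (y * m) * x⁻¹ = (x * y * x⁻¹) * (x * m * x⁻¹) := by group
      have h4 : x * (y * m) * x⁻¹ = y * m := by
        rw [h3, h1, hxm, ← hmm]; group
      rw [mul_inv_eq_iff_eq_mul] at h4
      exact h4
    exact h2.symm
  · rw [inv_inv]
    have := congrArg (·⁻¹) hxm
    simp only [mul_inv_rev, inv_inv] at this
    rw [← mul_assoc] at this
    exact this

/-- Generation of an odd order group by the three centralizers. -/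
theorem le_sup_three {t u : G} (h : Four t u) {Y : Subgroup G} (hY : ¬ 2 ∣ Nat.card Y)
    (ht : t ∈ normalizer (Y : Set G)) (hu : u ∈ normalizer (Y : Set G)) :
    Y ≤ (Y ⊓ C t) ⊔ (Y ⊓ C u) ⊔ (Y ⊓ C (t * u)) := by
  have : Fact (Nat.Prime 2) := ⟨Nat.prime_two⟩
  have hVne : VV h ≠ ⊥ := by
    intro h1
    have h2 : t ∈ VV h := Or.inr mem3_t
    rw [h1, mem_bot] at h2
    exact h.t1 h2
  have hcop : (Nat.card Y).Coprime 2 := ((Nat.Prime.coprime_iff_not_dvd Nat.prime_two).2 hY).symm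
  have h1 := Lib.CoprimeHyperplane.le_iSup_hyperplane (VV h) Y (VV_elem h) hVne hcop (VV_le h ht hu)
  refine h1.le.trans (iSup_le fun B => ?_)
  obtain ⟨B, hB1, hB2⟩ := B
  -- `B` contains one of the three involutions
  have hcard : Nat.card (VV h) = 4 := by
    have : ((VV h : Subgroup G) : Set G) = {1, t, u, t * u} := by
      ext x
      show x = 1 ∨ Mem3 t u x ↔ _
      simp only [Mem3, Set.mem_insert_iff, Set.mem_singleton_iff]
    have h4 : Nat.card (VV h) = ({1, t, u, t * u} : Set G).ncard := by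
      rw [← this]; rfl
    rw [h4]
    rw [Set.ncard_insert_of_notMem, Set.ncard_insert_of_notMem, Set.ncard_pair]
    · exact h.symm.mulRight.ne.trans_eq (by rw [h.comm])
    · simp only [Set.mem_insert_iff, Set.mem_singleton_iff, not_or]
      exact ⟨h.ne, h.mulRight.ne⟩
    · simp only [Set.mem_insert_iff, Set.mem_singleton_iff, not_or]
      exact ⟨h.t1.symm, h.u1.symm, h.tu1.symm⟩
  have hBne : B ≠ ⊥ := by
    rintro rfl
    rw [Subgroup.relIndex_bot_left, hcard] at hB2
    omega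
  obtain ⟨b, hb1⟩ := (Subgroup.ne_bot_iff_exists_ne_one).1 hBne
  have hb' : (b : G) ∈ VV h := hB1 b.2
  rcases hb' with h5 | h5
  · exact absurd (Subtype.ext h5) hb1
  have h6 : Y ⊓ centralizer ((B : Subgroup G) : Set G) ≤ Y ⊓ C (b : G) := by
    refine inf_le_inf_left _ ?_
    exact centralizer_le (Set.singleton_subset_iff.2 b.2)
  refine h6.trans ?_
  rcases h5 with h5 | h5 | h5
  · rw [h5]; exact le_sup_left.trans le_sup_left
  · rw [h5]; exact le_sup_right.trans le_sup_left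
  · rw [h5]; exact le_sup_right

/-- If no involution of `⟨t, u⟩` lies in the invariant subgroup `E`, then `E` has odd order. -/
theorem odd_of_not_mem {t u : G} (h : Four t u)
    (hself : ∀ z, z * z = 1 → z ≠ 1 → z * t = t * z → z * u = u * z → Mem3 t u z)
    {E : Subgroup G} (ht : t ∈ normalizer (E : Set G)) (hu : u ∈ normalizer (E : Set G))
    (hE : ∀ x, Mem3 t u x → x ∉ E) : ¬ 2 ∣ Nat.card E := by
  classical
  intro hdvd
  have : Fact (Nat.Prime 2) := ⟨Nat.prime_two⟩
  have hVE : VV h ≤ normalizer (E : Set G) := VV_le h ht hu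
  -- involutions of `E`
  let T : Type _ := {z : G // z ∈ E ∧ z * z = 1 ∧ z ≠ 1}
  have hconj : ∀ (v : VV h) (z : T), (v : G) * z.1 * (v : G)⁻¹ ∈ E ∧
      (v : G) * z.1 * (v : G)⁻¹ * ((v : G) * z.1 * (v : G)⁻¹) = 1 ∧ (v : G) * z.1 * (v : G)⁻¹ ≠ 1 := by
    intro v z
    refine ⟨mem_norm_conj (hVE v.2) z.2.1, ?_, ?_⟩
    · rw [show (v : G) * z.1 * (v : G)⁻¹ * ((v : G) * z.1 * (v : G)⁻¹) = v * (z.1 * z.1) * (v : G)⁻¹ by
        group, z.2.2.1]
      group
    · intro h1
      exact z.2.2.2 (by rw [mul_inv_eq_one] at h1; exact mul_eq_left.1 h1)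
  let act : MulAction (VV h) T :=
    { smul := fun v z => ⟨(v : G) * z.1 * (v : G)⁻¹, hconj v z⟩
      one_smul := fun z => Subtype.ext (by
        show ((1 : VV h) : G) * z.1 * ((1 : VV h) : G)⁻¹ = z.1
        rw [coe_one]; group)
      mul_smul := fun v w z => Subtype.ext (by
        show ((v * w : VV h) : G) * z.1 * ((v * w : VV h) : G)⁻¹ =
          (v : G) * ((w : G) * z.1 * (w : G)⁻¹) * (v : G)⁻¹
        rw [coe_mul]; group) }
  have hT : ¬ 2 ∣ Nat.card T := by
    intro h2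
    -- the set of `z ∈ E` with `z * z = 1` has even cardinality
    let f : Function.End E := fun z => z⁻¹
    have : Fintype E := Fintype.ofFinite _
    have hfix := Equiv.Perm.card_fixedPoints_modEq (f := f) (p := 2) (n := 1) (by
      rw [pow_one, pow_two]
      funext z
      exact inv_inv z)
    have h3 : Fintype.card (Function.fixedPoints f) = Nat.card T + 1 := by
      have e1 : Option T ≃ Function.fixedPoints f :=
        { toFun := fun o => o.elim ⟨1, by show (1 : E)⁻¹ = 1; exact inv_one⟩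
            (fun z => ⟨⟨z.1, z.2.1⟩, Subtype.ext (inv_eq_of_mul_eq_one_left z.2.2.1)⟩)
          invFun := fun z => if hz : ((z : E) : G) = 1 then none else
            some ⟨((z : E) : G), (z : E).2, by
              have h4 : ((z : E) : G)⁻¹ = z := congrArg Subtype.val z.2
              calc ((z : E) : G) * z = ((z : E) : G)⁻¹ * z := by rw [h4]
                _ = 1 := inv_mul_cancel _, hz⟩
          left_inv := by
            rintro (_ | z)
            · simp
            · have : ¬ (z.1 = 1) := z.2.2.2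
              simp [this]
          right_inv := by
            rintro ⟨⟨z, hz⟩, hz'⟩
            by_cases hz1 : z = 1
            · subst hz1
              simp only [dif_pos, Option.elim]
              rfl
            · simp only [hz1, dif_neg, not_false_eq_true, Option.elim] }
      rw [← Nat.card_eq_fintype_card, ← Nat.card_congr e1, Finite.card_option]
    rw [h3, ← Nat.card_eq_fintype_card] at hfix
    have h4 : Nat.card E % 2 = 0 := Nat.mod_eq_zero_of_dvd hdvd
    have h5 : Nat.card T % 2 = 0 := Nat.mod_eq_zero_of_dvd h2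
    have h6 : Nat.card E % 2 = (Nat.card T + 1) % 2 := hfix
    omega
  obtain ⟨z, hz⟩ := (VV_isPGroup h).nonempty_fixed_point_of_prime_not_dvd_card T hT
  have hz' : ∀ v, Mem3 t u v → z.1 * v = v * z.1 := by
    intro v hv
    have h1 := congrArg Subtype.val (hz ⟨v, Or.inr hv⟩)
    have h2 : v * z.1 * v⁻¹ = z.1 := h1
    rw [mul_inv_eq_iff_eq_mul] at h2
    exact h2.symm
  exact hE z.1 (hself z.1 z.2.2.1 z.2.2.2 (hz' t mem3_t) (hz' u mem3_u)) z.2.1

end Odd

end Cfsg.Agent.Classification.QDW.Theta
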