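import Mathlib
import Cfsg.Agent.Characters.Core
import Cfsg.Agent.Classification.QDW.ThetaFour

/-!
# Fixed spaces of `θ`-small subgroups

* `two_mul_finrank`: `2 dim (C_X(Y) ∩ E_-(x)) = dim C_X(Y) - c`;
* `exists_vec`: two subgroups with large fixed spaces have a common fixed vector in `E_-(x)`;
* `Frame.odd_sup`: the odd order trick.
-/

set_option autoImplicit false

namespace Cfsg.Agent.Classification.QDW.Theta

open Subgroup Cfsg Module
open Cfsg.Agent.Walter.SylowIn Cfsg.Agent.Walter.OddCoreIn Cfsg.Agent.Walter.Cover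

variable {G : Type*} [Group G] {X : Type*} [AddCommGroup X] [Module ℂ X]

section Proj

variable [Finite G]

open scoped Classical in
/-- The projection on the fixed space. -/
noncomputable def proj (ρ : Representation ℂ G X) (Y : Subgroup G) : X →ₗ[ℂ] X :=
  (Nat.card Y : ℂ)⁻¹ • ∑ᶠ y : Y, ρ y

theorem card_ne (Y : Subgroup G) : (Nat.card Y : ℂ) ≠ 0 := Nat.cast_ne_zero.2 Nat.card_pos.ne'

theorem proj_apply (ρ : Representation ℂ G X) (Y : Subgroup G) [Fintype Y] (v : X) :
    proj ρ Y v = (Nat.card Y : ℂ)⁻¹ • ∑ y : Y, ρ y v := by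
  rw [proj, finsum_eq_sum_of_fintype, LinearMap.smul_apply, LinearMap.sum_apply]

theorem proj_isProj (ρ : Representation ℂ G X) (Y : Subgroup G) :
    LinearMap.IsProj (fixed ρ Y) (proj ρ Y) := by
  classical
  have : Fintype Y := Fintype.ofFinite _
  constructor
  · intro v y hy
    rw [proj_apply, map_smul, map_sum]
    congr 1
    refine Fintype.sum_equiv (Equiv.mulLeft (⟨y, hy⟩ : Y)) _ _ fun z => ?_
    rw [← Module.End.mul_apply, ← map_mul]
    rfl
  · intro v hv
    rw [proj_apply, Finset.sum_congr rfl (fun y _ => hv y.1 y.2), Finset.sum_const,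
      Finset.card_univ, ← Nat.cast_smul_eq_nsmul ℂ, smul_smul, ← Nat.card_eq_fintype_card,
      inv_mul_cancel₀ (card_ne Y), one_smul]

theorem trace_mul_proj [FiniteDimensional ℂ X] (ρ : Representation ℂ G X) (Y : Subgroup G) (x : G)
    [Fintype Y] :
    LinearMap.trace ℂ X (ρ x * proj ρ Y) = (Nat.card Y : ℂ)⁻¹ * ∑ y : Y, ρ.character (x * y) := by
  classical
  rw [proj, finsum_eq_sum_of_fintype, mul_smul_comm, map_smul, smul_eq_mul, Finset.mul_sum, map_sum]
  congr 1
  refine Finset.sum_congr rfl fun y _ => ?_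
  rw [← map_mul]
  rfl

theorem trace_proj [FiniteDimensional ℂ X] (ρ : Representation ℂ G X) (Y : Subgroup G) :
    LinearMap.trace ℂ X (proj ρ Y) = (finrank ℂ (fixed ρ Y) : ℂ) :=
  (proj_isProj ρ Y).trace

theorem map_fixed {ρ : Representation ℂ G X} {Y : Subgroup G} {x : G}
    (hn : x ∈ normalizer (Y : Set G)) {v : X} (hv : v ∈ fixed ρ Y) : ρ x v ∈ fixed ρ Y := by
  intro y hy
  have h1 := hv _ (mem_norm_conj' hn hy)
  calc ρ y (ρ x v) = ρ x (ρ (x⁻¹ * y * x) v) := by
        rw [← Module.End.mul_apply, ← Module.End.mul_apply, ← map_mul, ← map_mul]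
        congr 2
        group
    _ = ρ x v := by rw [h1]

/-- `2 dim (C_X(Y) ∩ E_-(x)) = dim C_X(Y) - c`. -/
theorem two_mul_finrank [FiniteDimensional ℂ X] (ρ : Representation ℂ G X) {Y : Subgroup G} {x : G}
    (hx : x * x = 1) (hn : x ∈ normalizer (Y : Set G)) {c : ℤ}
    (hc : ∀ y ∈ Y, ρ.character (x * y) = c) :
    (2 * finrank ℂ (fixed ρ Y ⊓ negSp ρ x : Submodule ℂ X) : ℤ) = finrank ℂ (fixed ρ Y) - c := by
  classical
  have : Fintype Y := Fintype.ofFinite _
  set E : X →ₗ[ℂ] X := (2 : ℂ)⁻¹ • (proj ρ Y - ρ x * proj ρ Y) with hE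
  have hxx : ∀ v, ρ x (ρ x v) = v := by
    intro v
    rw [← Module.End.mul_apply, ← map_mul, hx, map_one]
    rfl
  have hproj : LinearMap.IsProj (fixed ρ Y ⊓ negSp ρ x) E := by
    constructor
    · intro v
      have h1 : proj ρ Y v ∈ fixed ρ Y := (proj_isProj ρ Y).map_mem v
      have h2 : E v = (2 : ℂ)⁻¹ • (proj ρ Y v - ρ x (proj ρ Y v)) := rfl
      rw [h2]
      refine Submodule.smul_mem _ _ (Submodule.mem_inf.2 ⟨?_, ?_⟩)
      · exact Submodule.sub_mem _ h1 (map_fixed hn h1)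
      · rw [mem_negSp, map_sub, hxx, neg_sub]
    · intro v hv
      obtain ⟨h1, h2⟩ := Submodule.mem_inf.1 hv
      have h3 : E v = (2 : ℂ)⁻¹ • (proj ρ Y v - ρ x (proj ρ Y v)) := rfl
      rw [h3, (proj_isProj ρ Y).map_id v h1, mem_negSp.1 h2, sub_neg_eq_add, ← two_smul ℂ v,
        smul_smul, inv_mul_cancel₀ two_ne_zero, one_smul]
  have h1 := hproj.trace
  rw [hE, map_smul, map_sub, trace_proj, trace_mul_proj,
    Finset.sum_congr rfl (fun y _ => hc y.1 y.2), Finset.sum_const, Finset.card_univ,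
    nsmul_eq_mul, ← Nat.card_eq_fintype_card, ← mul_assoc, inv_mul_cancel₀ (card_ne Y), one_mul,
    smul_eq_mul] at h1
  have h2 : (2 * (finrank ℂ (fixed ρ Y ⊓ negSp ρ x : Submodule ℂ X) : ℤ) : ℂ) =
      ((finrank ℂ (fixed ρ Y) - c : ℤ) : ℂ) := by
    push_cast
    rw [← h1]
    ring
  exact_mod_cast h2

end Proj

section Odd

variable [Finite G]

/-- the trace formula for small subgroups -/
theorem Small.character {ρ : Representation ℂ G X} {t u : G} (h : Four t u) {Y : Subgroup G}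
    (hY : Small t u Y) {c : ℤ} (htr : ∀ t : G, t * t = 1 → t ≠ 1 → ∀ y ∈ K t, ρ.character (t * y) = c)
    {x : G} (hx : Mem3 t u x) {y : G} (hy : y ∈ Y) : ρ.character (x * y) = c := by
  have hxn : x ∈ normalizer (Y : Set G) := hx.mem h hY.norm_t hY.norm_u
  obtain ⟨g, -, y', hy', he⟩ := exists_conj_coset (hx.sq h) hY.odd hxn hy
  have h1 : ρ.character (x * y) = ρ.character (x * y') := by
    rw [← he, Representation.char_conj]
  rw [h1]
  exact htr x (hx.sq h) (hx.ne_one h) y' (hY.le x hx hy')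

omit [Finite G] in
theorem fixed_bot (ρ : Representation ℂ G X) : fixed ρ ⊥ = ⊤ := by
  rw [eq_top_iff]
  intro v _ y hy
  rw [mem_bot] at hy
  rw [hy, map_one]
  rfl

/-- A common fixed vector in `E_-(x)` for two small full subgroups. -/
theorem exists_vec [FiniteDimensional ℂ X] {ρ : Representation ℂ G X} {t u : G} (h : Four t u)
    {Y₁ Y₂ : Subgroup G} (h1 : Small t u Y₁) (h2 : Small t u Y₂) {c : ℤ} {d n' : ℕ}
    (htr : ∀ t : G, t * t = 1 → t ≠ 1 → ∀ y ∈ K t, ρ.character (t * y) = c)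
    (hdim : (finrank ℂ X : ℤ) = d + c + n') (hlt : n' < d)
    (hb1 : finrank ℂ X ≤ finrank ℂ (fixed ρ Y₁) + n')
    (hb2 : finrank ℂ X ≤ finrank ℂ (fixed ρ Y₂) + n') {x : G} (hx : Mem3 t u x) :
    ∃ v : X, v ≠ 0 ∧ v ∈ fixed ρ Y₁ ∧ v ∈ fixed ρ Y₂ ∧ ρ x v = -v := by
  have e1 := two_mul_finrank ρ (hx.sq h) (hx.mem h h1.norm_t h1.norm_u)
    (fun y hy => h1.character h htr hx hy)
  have e2 := two_mul_finrank ρ (hx.sq h) (hx.mem h h2.norm_t h2.norm_u)
    (fun y hy => h2.character h htr hx hy)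
  have e0 := two_mul_finrank ρ (Y := ⊥) (hx.sq h)
    (by
      rw [mem_normalizer_iff]
      intro y
      rw [mem_bot, mem_bot, mul_inv_eq_one]
      exact ⟨fun hy => by rw [hy, mul_one], fun hy => mul_eq_left.1 hy⟩) (c := c)
    (by
      intro y hy
      rw [mem_bot] at hy
      rw [hy]
      exact htr x (hx.sq h) (hx.ne_one h) 1 (one_mem _))
  rw [fixed_bot, top_inf_eq, finrank_top] at e0
  have h3 := Submodule.finrank_sup_add_finrank_inf_eq (fixed ρ Y₁ ⊓ negSp ρ x)
    (fixed ρ Y₂ ⊓ negSp ρ x)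
  have h4 : finrank ℂ ((fixed ρ Y₁ ⊓ negSp ρ x) ⊔ (fixed ρ Y₂ ⊓ negSp ρ x) : Submodule ℂ X) ≤
      finrank ℂ (negSp ρ x) := Submodule.finrank_mono (sup_le inf_le_right inf_le_right)
  have h5 : 0 < finrank ℂ ((fixed ρ Y₁ ⊓ negSp ρ x) ⊓ (fixed ρ Y₂ ⊓ negSp ρ x) : Submodule ℂ X) := by
    omega
  obtain ⟨v, hv⟩ := (Module.finrank_pos_iff_exists_ne_zero).1 h5
  obtain ⟨h6, h7⟩ := Submodule.mem_inf.1 v.2
  exact ⟨v, fun h8 => hv (Subtype.ext h8), (Submodule.mem_inf.1 h6).1, (Submodule.mem_inf.1 h7).1,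
    (Submodule.mem_inf.1 h6).2⟩

variable [FiniteDimensional ℂ X] {ρ : Representation ℂ G X} {p d n' : ℕ} {c : ℤ}

omit [Finite G] [FiniteDimensional ℂ X] in
theorem Small.symm {t u : G} (h : Four t u) {Y : Subgroup G} (hY : Small t u Y) : Small u t Y :=
  ⟨hY.odd, hY.norm_u, hY.norm_t, fun x hx => hY.le x (hx.symm h.symm)⟩

omit [Finite G] [FiniteDimensional ℂ X] in
theorem sup_mem_normalizer {A B : Subgroup G} {x : G} (hA : x ∈ normalizer (A : Set G))
    (hB : x ∈ normalizer (B : Set G)) : x ∈ normalizer ((A ⊔ B : Subgroup G) : Set G) := by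
  have key : ∀ x : G, x ∈ normalizer (A : Set G) → x ∈ normalizer (B : Set G) →
      ∀ y ∈ A ⊔ B, x * y * x⁻¹ ∈ A ⊔ B := by
    intro x hA hB y hy
    have h1 : A ⊔ B ≤ (A ⊔ B).comap (MulAut.conj x).toMonoidHom := by
      refine sup_le ?_ ?_
      · intro a ha
        exact mem_sup_left (mem_norm_conj hA ha)
      · intro a ha
        exact mem_sup_right (mem_norm_conj hB ha)
    exact h1 hy
  rw [mem_normalizer_iff]
  intro y
  refine ⟨key x hA hB y, fun hy => ?_⟩
  have := key x⁻¹ (inv_mem hA) (inv_mem hB) _ hy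
  simpa [mul_assoc] using this

/-- The odd order trick: two small subgroups, each full at `t` or `u`, generate a subgroup of odd
order. -/
theorem Frame.odd_sup (F : Frame ρ p d n' c) {t u : G} (h : Four t u) {Y₁ Y₂ : Subgroup G}
    (h1 : Small t u Y₁) (h2 : Small t u Y₂)
    (hb1 : Cov t (normalizer (Y₁ : Set G)) ∨ Cov u (normalizer (Y₁ : Set G)))
    (hb2 : Cov t (normalizer (Y₂ : Set G)) ∨ Cov u (normalizer (Y₂ : Set G))) :
    ¬ 2 ∣ Nat.card (Y₁ ⊔ Y₂ : Subgroup G) := by
  have key : ∀ Y : Subgroup G, Small t u Y →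
      Cov t (normalizer (Y : Set G)) ∨ Cov u (normalizer (Y : Set G)) →
      finrank ℂ X ≤ finrank ℂ (fixed ρ Y) + n' := by
    rintro Y hY (hc | hc)
    · exact F.lb t u Y h hY hc
    · exact F.lb u t Y h.symm (hY.symm h) hc
  refine odd_of_not_mem h (F.self t u h) (sup_mem_normalizer h1.norm_t h2.norm_t)
    (sup_mem_normalizer h1.norm_u h2.norm_u) ?_
  intro x hx hmem
  obtain ⟨v, hv0, hv1, hv2, hv3⟩ := exists_vec h h1 h2 F.trace F.dim F.lt (key Y₁ h1 hb1)
    (key Y₂ h2 hb2) hx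
  have h3 : Y₁ ⊔ Y₂ ≤ ({ carrier := {g | ρ g v = v}
                         one_mem' := by show ρ 1 v = v; rw [map_one]; rfl
                         mul_mem' := by
                           intro a b ha hb
                           show ρ (a * b) v = v
                           rw [map_mul, Module.End.mul_apply, show ρ b v = v from hb,
                             show ρ a v = v from ha]
                         inv_mem' := by
                           intro a ha
                           show ρ a⁻¹ v = v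
                           calc ρ a⁻¹ v = ρ a⁻¹ (ρ a v) := by rw [show ρ a v = v from ha]
                             _ = v := by
                               rw [← Module.End.mul_apply, ← map_mul, inv_mul_cancel, map_one]
                               rfl } : Subgroup G) :=
    sup_le (fun y hy => hv1 y hy) (fun y hy => hv2 y hy)
  have h4 : ρ x v = v := h3 hmem
  rw [h4] at hv3
  apply hv0
  have h5 : (2 : ℂ) • v = 0 := by
    rw [two_smul]
    nth_rewrite 1 [hv3]
    exact neg_add_cancel v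
  exact (smul_eq_zero.1 h5).resolve_left two_ne_zero

end Odd

end Cfsg.Agent.Classification.QDW.Theta
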