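import Mathlib
import Cfsg.Agent.Characters.Linear
import Cfsg.Agent.Classification.QDW.ThetaRep

/-!
# The final count of CASE U ((c) of post 7433 of the board)

`X` a character of the finite group `G`, `t` an involution centralising the subgroup `R`,
`A, B, D` subgroups of `R` permuted cyclically by an element `h` of `G`, with `X (t y) = c` for all
`y ∈ A ⊔ B ⊔ D`. If `Λ` is a set of linear characters of `R` trivial on `B` and `D`, nontrivial on
`A`, each of multiplicity at least `μ` in `E_-(t)`, then `3 |Λ| μ ≤ dim E_-(t)`: `count_char`.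
-/

set_option autoImplicit false
set_option linter.unusedSectionVars false

namespace Cfsg.Agent.Classification.QDW.FuCount

open Subgroup Cfsg Module Cfsg.Agent.Classification.QDW.Theta
open scoped ComplexConjugate

variable {G : Type*} [Group G] {X : Type*} [AddCommGroup X] [Module ℂ X]

section Fixed

theorem rho_mul (ρ : Representation ℂ G X) (a b : G) (v : X) : ρ (a * b) v = ρ a (ρ b v) := by
  rw [map_mul, Module.End.mul_apply]

theorem fixed_mono (ρ : Representation ℂ G X) {A B : Subgroup G} (h : A ≤ B) :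
    fixed ρ B ≤ fixed ρ A := fun _ hv y hy => hv y (h hy)

theorem fixed_sup (ρ : Representation ℂ G X) (A B : Subgroup G) :
    fixed ρ (A ⊔ B) = fixed ρ A ⊓ fixed ρ B := by
  apply le_antisymm
  · intro v hv
    exact ⟨fun y hy => hv y (mem_sup_left hy), fun y hy => hv y (mem_sup_right hy)⟩
  · rintro v ⟨h1, h2⟩
    let S : Subgroup G :=
      { carrier := {y | ρ y v = v}
        mul_mem' := by
          intro a b ha hb
          change ρ (a * b) v = v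
          rw [rho_mul, show ρ b v = v from hb, show ρ a v = v from ha]
        one_mem' := by
          change ρ 1 v = v
          rw [map_one]
          rfl
        inv_mem' := by
          intro a ha
          change ρ a⁻¹ v = v
          have h3 : ρ a v = v := ha
          conv_lhs => rw [← h3]
          rw [← rho_mul, inv_mul_cancel, map_one]
          rfl }
    have h3 : A ⊔ B ≤ S := sup_le (fun y hy => h1 y hy) (fun y hy => h2 y hy)
    intro y hy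
    exact h3 hy

theorem finrank_fixed_conj_le [FiniteDimensional ℂ X] (ρ : Representation ℂ G X) {A B : Subgroup G}
    (h : G) (hAB : ∀ y ∈ B, h⁻¹ * y * h ∈ A) :
    finrank ℂ (fixed ρ A) ≤ finrank ℂ (fixed ρ B) := by
  refine LinearMap.finrank_le_finrank_of_injective
    (f := (ρ h).restrict (p := fixed ρ A) (q := fixed ρ B) ?_) ?_
  · intro v hv y hy
    have h1 := hv _ (hAB y hy)
    have h3 : y * h = h * (h⁻¹ * y * h) := by group
    rw [← rho_mul, h3, rho_mul, h1]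
  · intro v w hvw
    have h1 : ρ h v = ρ h w := congrArg Subtype.val hvw
    have h2 := congrArg (ρ h⁻¹) h1
    rw [← rho_mul, ← rho_mul, inv_mul_cancel, map_one] at h2
    exact Subtype.ext h2

/-- `3 dim (C_E(B D)) ≤ dim E + 2 dim C_E(A B D)`. -/
theorem three_le [Finite G] [FiniteDimensional ℂ X] (ρ : Representation ℂ G X) {t : G} (ht : t * t = 1)
    {A B D : Subgroup G} (hn : ∀ y ∈ A ⊔ B ⊔ D, t * y = y * t) {c : ℤ}
    (hc : ∀ y ∈ A ⊔ B ⊔ D, ρ.character (t * y) = c) {h : G} (hAB : ∀ y ∈ B, h⁻¹ * y * h ∈ A)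
    (hBD : ∀ y ∈ D, h⁻¹ * y * h ∈ B) (hDA : ∀ y ∈ A, h⁻¹ * y * h ∈ D) :
    3 * finrank ℂ (fixed ρ (B ⊔ D) ⊓ negSp ρ t : Submodule ℂ X) ≤
      finrank ℂ (negSp ρ t) + 2 * finrank ℂ (fixed ρ (A ⊔ B ⊔ D) ⊓ negSp ρ t : Submodule ℂ X) := by
  -- the dimension in terms of fixed points
  have key : ∀ Q : Subgroup G, Q ≤ A ⊔ B ⊔ D →
      (2 * finrank ℂ (fixed ρ Q ⊓ negSp ρ t : Submodule ℂ X) : ℤ) = finrank ℂ (fixed ρ Q) - c := by
    intro Q hQ
    refine two_mul_finrank ρ ht ?_ (fun y hy => hc y (hQ hy))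
    rw [mem_normalizer_iff]
    intro y
    constructor
    · intro hy
      rw [hn y (hQ hy), mul_assoc, mul_inv_cancel, mul_one]
      exact hy
    · intro hy
      have h1 := hn _ (hQ hy)
      have h2 : t * y * t⁻¹ * t = y * t⁻¹ * t * t := by
        rw [← h1, ← mul_assoc, ← mul_assoc, ht, one_mul]
        have h3 : y * t⁻¹ * t * t = y * t := by group
        rw [h3]
        have h4 : t⁻¹ = t := inv_eq_of_mul_eq_one_right ht
        rw [h4]
      have h3 : t * y * t⁻¹ = y := by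
        have h4 : t * y * t⁻¹ * t = y * t := by rw [h2]; group
        exact mul_right_cancel h4
      rw [h3] at hy
      exact hy
  have hB' : (B ⊔ D) ≤ A ⊔ B ⊔ D := sup_le (le_sup_right.trans le_sup_left) le_sup_right
  have hD' : (D ⊔ A) ≤ A ⊔ B ⊔ D := sup_le le_sup_right (le_sup_left.trans le_sup_left)
  have hA' : (A ⊔ B) ≤ A ⊔ B ⊔ D := le_sup_left
  -- conjugation
  have hsup : ∀ {A B A' B' : Subgroup G}, (∀ y ∈ A', h⁻¹ * y * h ∈ A) →
      (∀ y ∈ B', h⁻¹ * y * h ∈ B) → ∀ y ∈ A' ⊔ B', h⁻¹ * y * h ∈ A ⊔ B := by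
    intro A B A' B' h1 h2
    have h3 : A' ⊔ B' ≤ (A ⊔ B).comap (MulAut.conj h⁻¹).toMonoidHom := by
      refine sup_le (fun y hy => ?_) (fun y hy => ?_)
      · rw [mem_comap]
        change h⁻¹ * y * h⁻¹⁻¹ ∈ _
        rw [inv_inv]
        exact mem_sup_left (h1 y hy)
      · rw [mem_comap]
        change h⁻¹ * y * h⁻¹⁻¹ ∈ _
        rw [inv_inv]
        exact mem_sup_right (h2 y hy)
    intro y hy
    have h4 := h3 hy
    rw [mem_comap] at h4
    change h⁻¹ * y * h⁻¹⁻¹ ∈ _ at h4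
    rwa [inv_inv] at h4
  -- `B ⊔ D → D ⊔ A → A ⊔ B`
  have d1 : finrank ℂ (fixed ρ (B ⊔ D)) ≤ finrank ℂ (fixed ρ (D ⊔ A)) :=
    finrank_fixed_conj_le ρ h (hsup hBD hDA)
  have d2 : finrank ℂ (fixed ρ (D ⊔ A)) ≤ finrank ℂ (fixed ρ (A ⊔ B)) :=
    finrank_fixed_conj_le ρ h (hsup hDA hAB)
  have k1 := key _ hB'
  have k2 := key _ hD'
  have k3 := key _ hA'
  set E := negSp ρ t
  set O := fixed ρ (A ⊔ B ⊔ D) ⊓ E
  set a := fixed ρ (B ⊔ D) ⊓ E
  set b := fixed ρ (D ⊔ A) ⊓ E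
  set d := fixed ρ (A ⊔ B) ⊓ E
  -- the three subspaces
  have i1 : b ⊓ d ≤ O := by
    rintro v ⟨⟨h1, h2⟩, h3, -⟩
    refine ⟨?_, h2⟩
    change v ∈ fixed ρ (A ⊔ B ⊔ D)
    rw [fixed_sup]
    exact ⟨h3, fixed_mono ρ le_sup_left h1⟩
  have i2 : a ⊓ (b ⊔ d) ≤ O := by
    rintro v ⟨⟨h1, h2⟩, h3⟩
    have h4 : b ⊔ d ≤ fixed ρ A :=
      sup_le (fun v hv => fixed_mono ρ le_sup_right hv.1) (fun v hv => fixed_mono ρ le_sup_left hv.1)
    refine ⟨?_, h2⟩
    change v ∈ fixed ρ (A ⊔ B ⊔ D)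
    rw [sup_assoc, fixed_sup]
    exact ⟨h4 h3, h1⟩
  have s1 := Submodule.finrank_sup_add_finrank_inf_eq b d
  have s2 := Submodule.finrank_sup_add_finrank_inf_eq a (b ⊔ d)
  have s3 := Submodule.finrank_mono i1
  have s4 := Submodule.finrank_mono i2
  have s5 : finrank ℂ (a ⊔ (b ⊔ d) : Submodule ℂ X) ≤ finrank ℂ E :=
    Submodule.finrank_mono (sup_le inf_le_right (sup_le inf_le_right inf_le_right))
  omega

end Fixed

section Isotypic

variable [Finite G]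

/-- The projection on the `λ`-isotypic component. -/
noncomputable def el (ρ : Representation ℂ G X) (R : Subgroup G) [Fintype R] (l : R →* ℂˣ) :
    X →ₗ[ℂ] X := (Nat.card R : ℂ)⁻¹ • ∑ y : R, ((l y⁻¹ : ℂˣ) : ℂ) • ρ y

theorem el_apply (ρ : Representation ℂ G X) (R : Subgroup G) [Fintype R] (l : R →* ℂˣ) (v : X) :
    el ρ R l v = (Nat.card R : ℂ)⁻¹ • ∑ y : R, ((l y⁻¹ : ℂˣ) : ℂ) • ρ y v := by
  rw [el, LinearMap.smul_apply, LinearMap.sum_apply]
  rfl

theorem rho_el (ρ : Representation ℂ G X) (R : Subgroup G) [Fintype R] (l : R →* ℂˣ) (y : R)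
    (v : X) : ρ y (el ρ R l v) = ((l y : ℂˣ) : ℂ) • el ρ R l v := by
  rw [el_apply, map_smul, map_sum, smul_comm]
  congr 1
  rw [Finset.smul_sum]
  refine Fintype.sum_equiv (Equiv.mulLeft y) _ _ fun z => ?_
  rw [map_smul, Equiv.coe_mulLeft, smul_smul, mul_inv_rev, map_mul, Units.val_mul,
    mul_comm ((l z⁻¹ : ℂˣ) : ℂ), ← mul_assoc, ← Units.val_mul, ← map_mul, mul_inv_cancel, map_one,
    Units.val_one, one_mul, ← rho_mul]
  rfl

theorem el_rho (ρ : Representation ℂ G X) (R : Subgroup G) [Fintype R] (l : R →* ℂˣ) (y : R)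
    (v : X) : el ρ R l (ρ y v) = ((l y : ℂˣ) : ℂ) • el ρ R l v := by
  rw [el_apply, el_apply, smul_comm]
  congr 1
  rw [Finset.smul_sum]
  refine Fintype.sum_equiv (Equiv.mulRight y) _ _ fun z => ?_
  rw [Equiv.coe_mulRight, smul_smul, mul_inv_rev, map_mul, Units.val_mul,
    ← mul_assoc, ← Units.val_mul, ← map_mul, mul_inv_cancel, map_one,
    Units.val_one, one_mul, ← rho_mul]
  rfl

theorem el_of_eigen (ρ : Representation ℂ G X) (R : Subgroup G) [Fintype R] (l : R →* ℂˣ) {v : X}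
    (hv : ∀ y : R, ρ y v = ((l y : ℂˣ) : ℂ) • v) : el ρ R l v = v := by
  rw [el_apply, Finset.sum_congr rfl (fun y _ => show ((l y⁻¹ : ℂˣ) : ℂ) • ρ y v = v by
    rw [hv, smul_smul, ← Units.val_mul, ← map_mul, inv_mul_cancel, map_one, Units.val_one,
      one_smul]), Finset.sum_const, Finset.card_univ, ← Nat.cast_smul_eq_nsmul ℂ, smul_smul,
    ← Nat.card_eq_fintype_card, inv_mul_cancel₀ (card_ne R), one_smul]

theorem el_el (ρ : Representation ℂ G X) (R : Subgroup G) [Fintype R] (l : R →* ℂˣ) (v : X) :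
    el ρ R l (el ρ R l v) = el ρ R l v :=
  el_of_eigen ρ R l (fun y => rho_el ρ R l y v)

theorem el_el_ne (ρ : Representation ℂ G X) (R : Subgroup G) [Fintype R] {l m : R →* ℂˣ}
    (hlm : l ≠ m) (v : X) : el ρ R l (el ρ R m v) = 0 := by
  obtain ⟨y, hy⟩ : ∃ y, l y ≠ m y := by
    by_contra h
    push Not at h
    exact hlm (MonoidHom.ext h)
  have h1 := el_rho ρ R l y (el ρ R m v)
  rw [rho_el, map_smul] at h1
  have h2 : (((m y : ℂˣ) : ℂ) - ((l y : ℂˣ) : ℂ)) • el ρ R l (el ρ R m v) = 0 := by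
    rw [sub_smul, h1, sub_self]
  rcases smul_eq_zero.1 h2 with h3 | h3
  · exact absurd (Units.ext (sub_eq_zero.1 h3)).symm hy
  · exact h3

theorem el_fixed (ρ : Representation ℂ G X) (R : Subgroup G) [Fintype R] (l : R →* ℂˣ) {y : R}
    (hy : l y ≠ 1) {v : X} (hv : ρ y v = v) : el ρ R l v = 0 := by
  have h1 := el_rho ρ R l y v
  rw [hv] at h1
  have h2 : (1 - ((l y : ℂˣ) : ℂ)) • el ρ R l v = 0 := by
    rw [sub_smul, one_smul, ← h1, sub_self]
  rcases smul_eq_zero.1 h2 with h3 | h3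
  · exfalso
    apply hy
    apply Units.ext
    rw [Units.val_one]
    linear_combination -h3
  · exact h3

theorem trace_mul_el [FiniteDimensional ℂ X] (ρ : Representation ℂ G X) (R : Subgroup G)
    [Fintype R] (l : R →* ℂˣ) (x : G) : LinearMap.trace ℂ X (ρ x * el ρ R l) =
      (Nat.card R : ℂ)⁻¹ * ∑ y : R, ρ.character (x * y) * conj ((l y : ℂˣ) : ℂ) := by
  rw [el, mul_smul_comm, map_smul, smul_eq_mul, Finset.mul_sum, map_sum]
  congr 1
  refine Finset.sum_congr rfl fun y _ => ?_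
  rw [mul_smul_comm, map_smul, smul_eq_mul, ← map_mul, mul_comm]
  have h1 : conj ((l y : ℂˣ) : ℂ) = ((l y⁻¹ : ℂˣ) : ℂ) := by
    rw [map_inv, Units.val_inv_eq_inv_val]
    have h2 := Cfsg.Agent.Characters.Linear.norm_hom_apply l y
    rw [Complex.inv_def, Complex.normSq_eq_norm_sq, h2]
    simp
  rw [h1]
  rfl

/-- The isotypic part of `E_-(t)`. -/
theorem exists_isotypic [FiniteDimensional ℂ X] (ρ : Representation ℂ G X) {t : G}
    (ht : t * t = 1) (R : Subgroup G) [Fintype R] (hn : ∀ y ∈ R, t * y = y * t)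
    (L : Finset (R →* ℂˣ)) :
    ∃ W : Submodule ℂ X, W ≤ negSp ρ t ∧
      (∀ P : Subgroup G, (hP : P ≤ R) → (∀ l ∈ L, ∀ y, (hy : y ∈ P) → l ⟨y, hP hy⟩ = 1) →
        W ≤ fixed ρ P) ∧
      (∀ P : Subgroup G, (hP : P ≤ R) → (∀ l ∈ L, ∃ y, ∃ hy : y ∈ P, l ⟨y, hP hy⟩ ≠ 1) →
        W ⊓ fixed ρ P = ⊥) ∧
      (finrank ℂ W : ℂ) = ∑ l ∈ L, classInner
        (fun y : R => (ρ.character (y : G) - ρ.character (t * (y : G))) / 2)
        (fun y => ((l y : ℂˣ) : ℂ)) := by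
  classical
  set F : X →ₗ[ℂ] X := (2 : ℂ)⁻¹ • (1 - ρ t) with hF
  have hFa : ∀ v, F v = (2 : ℂ)⁻¹ • (v - ρ t v) := fun v => rfl
  have htt : ∀ v, ρ t (ρ t v) = v := by
    intro v
    rw [← rho_mul, ht, map_one]
    rfl
  have hFF : ∀ v, F (F v) = F v := by
    intro v
    rw [hFa, hFa, map_smul, map_sub, htt, ← smul_sub, sub_sub_sub_comm]
    have h1 : v - ρ t v - (ρ t v - v) = (2 : ℂ) • (v - ρ t v) := by
      rw [two_smul]; abel
    have h2 : v - ρ t v - (ρ t v - v) = v - ρ t v - (ρ t v - v) := rfl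
    rw [show v - ρ t v - (ρ t v - v) = (2 : ℂ) • (v - ρ t v) from h1, smul_smul, smul_smul]
    norm_num
  have hFt : ∀ v, ρ t (F v) = -F v := by
    intro v
    rw [hFa, map_smul, map_sub, htt, ← smul_neg, neg_sub]
  have htl : ∀ (l : R →* ℂˣ) v, ρ t (el ρ R l v) = el ρ R l (ρ t v) := by
    intro l v
    rw [el_apply, el_apply, map_smul, map_sum]
    congr 1
    refine Finset.sum_congr rfl fun y _ => ?_
    rw [map_smul, ← rho_mul, ← rho_mul, hn y y.2]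
  have hFl : ∀ (l : R →* ℂˣ) v, F (el ρ R l v) = el ρ R l (F v) := by
    intro l v
    rw [hFa, hFa, htl, map_smul, map_sub]
  set e : X →ₗ[ℂ] X := ∑ l ∈ L, F * el ρ R l with he
  have hea : ∀ v, e v = ∑ l ∈ L, F (el ρ R l v) := by
    intro v
    rw [he, LinearMap.sum_apply]
    rfl
  have hele : ∀ l ∈ L, ∀ v, el ρ R l (e v) = F (el ρ R l v) := by
    intro l hl v
    rw [hea, map_sum, Finset.sum_eq_single_of_mem l hl]
    · rw [hFl, el_el]
    · intro m _ hml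
      rw [hFl, el_el_ne ρ R hml.symm]
  have hee : ∀ v, e (e v) = e v := by
    intro v
    rw [hea (e v)]
    conv_rhs => rw [hea v]
    refine Finset.sum_congr rfl fun l hl => ?_
    rw [hele l hl, hFF]
  have hproj : LinearMap.IsProj (LinearMap.range e) e := by
    constructor
    · intro v; exact ⟨v, rfl⟩
    · rintro _ ⟨v, rfl⟩; exact hee v
  refine ⟨LinearMap.range e, ?_, ?_, ?_, ?_⟩
  · rintro _ ⟨v, rfl⟩
    rw [mem_negSp, hea, map_sum, ← Finset.sum_neg_distrib]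
    exact Finset.sum_congr rfl fun l _ => hFt _
  · rintro P hP hl _ ⟨v, rfl⟩ y hy
    rw [hea, map_sum]
    refine Finset.sum_congr rfl fun l hlL => ?_
    rw [hFl, show ρ y (el ρ R l (F v)) = ρ ((⟨y, hP hy⟩ : R) : G) (el ρ R l (F v)) from rfl,
      rho_el, hl l hlL y hy, Units.val_one, one_smul]
  · intro P hP hl
    rw [eq_bot_iff]
    rintro _ ⟨⟨v, rfl⟩, h2⟩
    rw [Submodule.mem_bot, ← hee, hea]
    refine Finset.sum_eq_zero fun l hlL => ?_
    obtain ⟨y, hy, hly⟩ := hl l hlL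
    rw [el_fixed ρ R l hly (h2 y hy), map_zero]
  · rw [← hproj.trace, he, map_sum]
    refine Finset.sum_congr rfl fun l _ => ?_
    have h1 : F * el ρ R l = (2 : ℂ)⁻¹ • (ρ 1 * el ρ R l - ρ t * el ρ R l) := by
      rw [hF, map_one, smul_mul_assoc, sub_mul]
    rw [h1, map_smul, map_sub, trace_mul_el, trace_mul_el, classInner, smul_eq_mul, ← mul_sub,
      ← Finset.sum_sub_distrib, mul_left_comm, Finset.mul_sum]
    congr 1
    refine Finset.sum_congr rfl fun y _ => ?_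
    rw [one_mul]
    ring

end Isotypic

section Count

variable [Finite G]

/-- **The count**, for representations. -/
theorem count_rep [FiniteDimensional ℂ X] (ρ : Representation ℂ G X) {t : G} (ht : t * t = 1)
    (R : Subgroup G) [Fintype R] (hn : ∀ y ∈ R, t * y = y * t) {A B D : Subgroup G} (hA : A ≤ R)
    (hB : B ≤ R) (hD : D ≤ R) {c : ℤ} (hc : ∀ y ∈ A ⊔ B ⊔ D, ρ.character (t * y) = c) {h : G}
    (hAB : ∀ y ∈ B, h⁻¹ * y * h ∈ A) (hBD : ∀ y ∈ D, h⁻¹ * y * h ∈ B)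
    (hDA : ∀ y ∈ A, h⁻¹ * y * h ∈ D) (L : Finset (R →* ℂˣ))
    (hLB : ∀ l ∈ L, ∀ y, (hy : y ∈ B) → l ⟨y, hB hy⟩ = 1)
    (hLD : ∀ l ∈ L, ∀ y, (hy : y ∈ D) → l ⟨y, hD hy⟩ = 1)
    (hLA : ∀ l ∈ L, ∃ y, ∃ hy : y ∈ A, l ⟨y, hA hy⟩ ≠ 1) {μ : ℕ}
    (hμ : ∀ l ∈ L, (μ : ℝ) ≤ (classInner
        (fun y : R => (ρ.character (y : G) - ρ.character (t * (y : G))) / 2)
        (fun y => ((l y : ℂˣ) : ℂ))).re) :
    3 * (L.card * μ) ≤ finrank ℂ (negSp ρ t) := by
  obtain ⟨W, hW1, hW2, hW3, hW4⟩ := exists_isotypic ρ ht R hn L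
  have h1 := three_le ρ ht (fun y hy => hn y ((sup_le (sup_le hA hB) hD) hy)) hc hAB hBD hDA
  have h2 : L.card * μ ≤ finrank ℂ W := by
    have h3 := congrArg Complex.re hW4
    rw [Complex.natCast_re, Complex.re_sum] at h3
    have h4 : ((L.card * μ : ℕ) : ℝ) ≤ finrank ℂ W := by
      rw [h3]
      push_cast
      rw [← nsmul_eq_mul]
      exact Finset.card_nsmul_le_sum L _ _ hμ
    exact_mod_cast h4
  have h3 : W ≤ fixed ρ (B ⊔ D) ⊓ negSp ρ t := by
    refine le_inf ?_ hW1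
    rw [fixed_sup]
    exact le_inf (hW2 B hB hLB) (hW2 D hD hLD)
  have h4 : W ⊓ (fixed ρ (A ⊔ B ⊔ D) ⊓ negSp ρ t) = ⊥ := by
    rw [eq_bot_iff, ← hW3 A hA hLA]
    exact inf_le_inf_left _ (inf_le_left.trans (fixed_mono ρ (le_sup_left.trans le_sup_left)))
  have h5 : fixed ρ (A ⊔ B ⊔ D) ⊓ negSp ρ t ≤ fixed ρ (B ⊔ D) ⊓ negSp ρ t :=
    inf_le_inf_right _ (fixed_mono ρ (sup_le (le_sup_right.trans le_sup_left) le_sup_right))
  have h6 := Submodule.finrank_sup_add_finrank_inf_eq W (fixed ρ (A ⊔ B ⊔ D) ⊓ negSp ρ t)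
  rw [h4, finrank_bot] at h6
  have h7 := Submodule.finrank_mono (sup_le h3 h5)
  omega

/-- **The count**, for characters. -/
theorem count_char {Y : G → ℂ} (hY : IsCharacter G Y) {t : G} (ht : t * t = 1)
    (R : Subgroup G) [Fintype R] (hn : ∀ y ∈ R, t * y = y * t) {A B D : Subgroup G} (hA : A ≤ R)
    (hB : B ≤ R) (hD : D ≤ R) {c : ℤ} (hc : ∀ y ∈ A ⊔ B ⊔ D, Y (t * y) = c) {h : G}
    (hAB : ∀ y ∈ B, h⁻¹ * y * h ∈ A) (hBD : ∀ y ∈ D, h⁻¹ * y * h ∈ B)
    (hDA : ∀ y ∈ A, h⁻¹ * y * h ∈ D) (L : Finset (R →* ℂˣ))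
    (hLB : ∀ l ∈ L, ∀ y, (hy : y ∈ B) → l ⟨y, hB hy⟩ = 1)
    (hLD : ∀ l ∈ L, ∀ y, (hy : y ∈ D) → l ⟨y, hD hy⟩ = 1)
    (hLA : ∀ l ∈ L, ∃ y, ∃ hy : y ∈ A, l ⟨y, hA hy⟩ ≠ 1) {μ : ℕ}
    (hμ : ∀ l ∈ L, (μ : ℝ) ≤ (classInner (fun y : R => (Y (y : G) - Y (t * (y : G))) / 2)
        (fun y => ((l y : ℂˣ) : ℂ))).re) {N : ℤ} (hN : Y 1 = N) :
    6 * ((L.card : ℤ) * μ) ≤ N - c := by
  obtain ⟨n, ρ, rfl⟩ := hY
  have h1 := count_rep ρ ht R hn hA hB hD hc hAB hBD hDA L hLB hLD hLA hμ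
  have h2 := two_mul_finrank ρ (Y := ⊥) ht (by
    rw [mem_normalizer_iff]
    intro y
    rw [mem_bot, mem_bot]
    constructor
    · rintro rfl; group
    · intro h3
      have h4 : y = t⁻¹ * (t * y * t⁻¹) * t := by group
      rw [h4, h3]; group) (c := c) (by
    intro y hy
    rw [mem_bot.1 hy]
    exact hc 1 (one_mem _))
  have h3 : (finrank ℂ (fixed ρ ⊥) : ℤ) = N := by
    rw [fixed_bot, finrank_top]
    have h4 : ρ.character 1 = (finrank ℂ (Fin n → ℂ) : ℂ) := Representation.char_one ρ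
    rw [hN] at h4
    exact_mod_cast h4.symm
  have h4 : (fixed ρ ⊥ ⊓ negSp ρ t : Submodule ℂ (Fin n → ℂ)) = negSp ρ t := by
    rw [fixed_bot, top_inf_eq]
  rw [h3, h4] at h2
  have h5 : (3 * ((L.card : ℤ) * μ)) ≤ finrank ℂ (negSp ρ t) := by exact_mod_cast h1
  linarith

/-- The numbers: `|Λ| ≥ (q - 1) (m_r - 1)`, `μ m_r = m = (q - 1) / 2`, `dim E_-(t) ≤ q² - 1`. -/
theorem num {q mr μ L : ℕ} (hq : 9 ≤ q) (hmr : 7 ≤ mr) (hm : 2 * (μ * mr) = q - 1)
    (hL : (q - 1) * (mr - 1) ≤ L) {N c : ℤ} (hle : 6 * ((L : ℤ) * μ) ≤ N - c)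
    (hN : N - c ≤ 2 * ((q : ℤ) ^ 2 - 1)) : False := by
  obtain ⟨a, rfl⟩ : ∃ a, q = a + 1 := ⟨q - 1, by omega⟩
  obtain ⟨b, rfl⟩ : ∃ b, mr = b + 1 := ⟨mr - 1, by omega⟩
  rw [Nat.add_sub_cancel] at hm hL
  rw [Nat.add_sub_cancel] at hL
  have h1 : (a : ℤ) * b ≤ L := by exact_mod_cast hL
  have h2 : (2 : ℤ) * (μ * (b + 1)) = a := by exact_mod_cast hm
  have hμ : (0 : ℤ) < μ := by
    rcases Nat.eq_zero_or_pos μ with h3 | h3
    · exfalso
      subst h3
      omega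
    · exact_mod_cast h3
  have h3 : (a : ℤ) * b * μ ≤ L * μ := mul_le_mul_of_nonneg_right h1 hμ.le
  have h4 : 6 * ((a : ℤ) * b * μ) ≤ 2 * (((a + 1 : ℕ) : ℤ) ^ 2 - 1) := by linarith
  push_cast at h4
  -- `6 a b μ ≤ 2 a (a + 2)`, `a = 2 μ (b + 1)`
  have ha : (8 : ℤ) ≤ a := by omega
  have hb : (6 : ℤ) ≤ b := by omega
  have h5 : 6 * ((b : ℤ) * μ) ≤ 2 * (a + 2) := by
    have h6 : (a : ℤ) * (6 * (b * μ)) ≤ a * (2 * (a + 2)) := by linarith
    exact le_of_mul_le_mul_left h6 (by linarith)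
  -- `6 b μ ≤ 4 μ (b + 1) + 4`
  nlinarith

end Count

end Cfsg.Agent.Classification.QDW.FuCount
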