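import Mathlib
import Cfsg.Agent.Classification.QDW.FuDefs
import Cfsg.Agent.Classification.QDW.FuCount

/-!
# Case U: the count at the level of `G`
-/

set_option autoImplicit false

namespace Cfsg.Agent.Classification.QDW.CaseU

open Cfsg Module Cfsg.Agent.Classification.QDW.Theta

universe u

section

variable {G : Type*} [Group G] [Finite G] {V : Type*} [AddCommGroup V] [Module ℂ V]
  [FiniteDimensional ℂ V]

/-- The trace of an involution is an integer. -/
theorem exists_int (ρ : Representation ℂ G V) {t : G} (tt : t * t = 1) :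
    ∃ c : ℤ, ρ.character t = c := by
  set F : V →ₗ[ℂ] V := (2 : ℂ)⁻¹ • (1 - ρ t) with hF
  have hFa : ∀ v, F v = (2 : ℂ)⁻¹ • (v - ρ t v) := fun v => rfl
  have htt : ∀ v, ρ t (ρ t v) = v := by
    intro v
    rw [← Module.End.mul_apply, ← map_mul, tt, map_one]
    rfl
  have hproj : LinearMap.IsProj (negSp ρ t) F := by
    constructor
    · intro v
      rw [hFa]
      refine Submodule.smul_mem _ _ ?_
      rw [mem_negSp, map_sub, htt, neg_sub]
    · intro v hv
      rw [hFa, mem_negSp.1 hv, sub_neg_eq_add, ← two_smul ℂ v, smul_smul,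
        inv_mul_cancel₀ two_ne_zero, one_smul]
  have h1 := hproj.trace
  rw [hF, map_smul, map_sub, LinearMap.trace_one, smul_eq_mul] at h1
  refine ⟨finrank ℂ V - 2 * finrank ℂ (negSp ρ t), ?_⟩
  push_cast
  rw [← h1]
  change LinearMap.trace ℂ V (ρ t) = _
  ring

/-- The average of `E_-` over `Y` is the dimension of the fixed space. -/
theorem avg_eq (ρ : Representation ℂ G V) {t : G} (tt : t * t = 1) {Y : Subgroup G}
    (hY : ∀ y ∈ Y, Commute t y) (hv : ∀ y ∈ Y, ρ.character (t * y) = ρ.character t) :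
    avg Y (fun x => (ρ.character x - ρ.character (t * x)) / 2) =
      (finrank ℂ (fixed ρ Y ⊓ negSp ρ t : Submodule ℂ V) : ℂ) := by
  classical
  have : Fintype Y := Fintype.ofFinite _
  obtain ⟨c, hc⟩ := exists_int ρ tt
  have h1 := two_mul_finrank ρ (Y := Y) tt (c := c) (by
    rw [Subgroup.mem_normalizer_iff]
    intro y
    constructor
    · intro hy
      rw [(hY y hy).eq, mul_inv_cancel_right]
      exact hy
    · intro hy
      have h2 := (hY _ hy).eq
      have h3 : t * y * t⁻¹ = y := by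
        have h4 : t⁻¹ * (t * (t * y * t⁻¹)) * t = t⁻¹ * (t * y * t⁻¹ * t) * t := by rw [h2]
        have h5 : t⁻¹ * (t * (t * y * t⁻¹)) * t = t * y := by group
        have h6 : t⁻¹ * (t * y * t⁻¹ * t) * t = y * t := by group
        rw [h5, h6] at h4
        rw [h4, mul_inv_cancel_right]
      rwa [h3] at hy) (fun y hy => by rw [hv y hy, hc])
  have h2 := trace_mul_proj ρ Y 1
  rw [map_one, one_mul, trace_proj] at h2
  have h3 : (finrank ℂ (fixed ρ Y) : ℂ) = 2 * (finrank ℂ (fixed ρ Y ⊓ negSp ρ t :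
      Submodule ℂ V) : ℂ) + c := by
    have h4 : (finrank ℂ (fixed ρ Y) : ℤ) = 2 * (finrank ℂ (fixed ρ Y ⊓ negSp ρ t :
        Submodule ℂ V) : ℤ) + c := by rw [h1]; ring
    exact_mod_cast h4
  have h5 : (Nat.card Y : ℂ) ≠ 0 := card_ne Y
  rw [avg, finsum_eq_sum_of_fintype, Finset.sum_congr rfl (fun (y : Y) _ => show
    (ρ.character (y : G) - ρ.character (t * y)) / 2 = ρ.character (1 * (y : G)) * 2⁻¹ - c * 2⁻¹ by
      rw [hv y y.2, hc, one_mul]; ring), Finset.sum_sub_distrib, ← Finset.sum_mul, Finset.sum_const,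
    Finset.card_univ, nsmul_eq_mul, ← Nat.card_eq_fintype_card, mul_sub, ← mul_assoc, ← h2,
    ← mul_assoc, inv_mul_cancel₀ h5, one_mul, h3]
  ring

end

theorem final_c {G : Type u} [Group G] [Finite G] {X : G → ℂ} (hX : IsCharacter G X) {t h : G}
    (tt : t * t = 1) (P0 A B C : Subgroup G) (hA : A ≤ P0) (hB : B ≤ P0) (hC : C ≤ P0)
    (hAB : cj h A = B) (hBC : cj h B = C) (hCA : cj h C = A) (hct : ∀ x ∈ P0, Commute t x)
    (vt : ∀ x ∈ P0, X (t * x) = X t) :
    let Em : G → ℂ := fun x => (X x - X (t * x)) / 2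
    3 * (avg (B ⊔ C) Em - avg (A ⊔ (B ⊔ C)) Em).re ≤ (Em 1).re := by
  obtain ⟨n, ρ, rfl⟩ := hX
  intro Em
  obtain ⟨c, hc⟩ := exists_int ρ tt
  have hsup : A ⊔ (B ⊔ C) ≤ P0 := sup_le hA (sup_le hB hC)
  have e1 : avg (B ⊔ C) Em = _ := avg_eq ρ tt (Y := B ⊔ C)
    (fun y hy => hct y (sup_le hB hC hy)) (fun y hy => vt y (sup_le hB hC hy))
  have e2 : avg (A ⊔ (B ⊔ C)) Em = _ := avg_eq ρ tt (Y := A ⊔ (B ⊔ C))
    (fun y hy => hct y (hsup hy)) (fun y hy => vt y (hsup hy))
  have e3 : Em 1 = (finrank ℂ (negSp ρ t) : ℂ) := by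
    have h1 := avg_eq ρ tt (Y := ⊥) (fun y hy => by
      rw [Subgroup.mem_bot.1 hy]; exact Commute.one_right t) (fun y hy => by
      rw [Subgroup.mem_bot.1 hy, mul_one])
    rw [fixed_bot, top_inf_eq] at h1
    rw [← h1, avg, finsum_eq_single _ (1 : (⊥ : Subgroup G))]
    · simp [Em]
    · intro y hy
      exact absurd (Subsingleton.elim y 1) hy
  have h1 := FuCount.three_le ρ tt (A := A) (B := B) (D := C) (c := c) (h := h)
    (fun y hy => (hct y (hsup (by rwa [sup_assoc] at hy))).eq)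
    (fun y hy => by rw [vt y (hsup (by rwa [sup_assoc] at hy)), hc])
    (fun y hy => by rw [← hAB] at hy; exact mem_cj.1 hy)
    (fun y hy => by rw [← hBC] at hy; exact mem_cj.1 hy)
    (fun y hy => by rw [← hCA] at hy; exact mem_cj.1 hy)
  rw [sup_assoc] at h1
  rw [e1, e2, e3, Complex.sub_re, Complex.natCast_re, Complex.natCast_re, Complex.natCast_re]
  have h2 : (3 : ℝ) * finrank ℂ (fixed ρ (B ⊔ C) ⊓ negSp ρ t : Submodule ℂ (Fin n → ℂ)) ≤
      finrank ℂ (negSp ρ t) + 2 * finrank ℂ (fixed ρ (A ⊔ (B ⊔ C)) ⊓ negSp ρ t :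
        Submodule ℂ (Fin n → ℂ)) := by exact_mod_cast h1
  have h3 : (0 : ℝ) ≤ finrank ℂ (fixed ρ (A ⊔ (B ⊔ C)) ⊓ negSp ρ t :
        Submodule ℂ (Fin n → ℂ)) := Nat.cast_nonneg _
  linarith

end Cfsg.Agent.Classification.QDW.CaseU
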