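import Mathlib
import Cfsg.Agent.CharDeep.DegreeBound
import Cfsg.Agent.Classification.QDW.FuDefs
import Cfsg.Agent.Classification.QDW.FuCount
import Cfsg.Agent.Classification.QDW.FuFinalC

/-!
# Case U is impossible: the assembly at the level of `G`

`GVal`: the values of a character `Y` of `G` on `V × P`. `Cyc`: an element of `G` permuting
`P ∩ A_t`, `P ∩ A_u`, `P ∩ A_{tu}` cyclically.
-/

set_option autoImplicit false
set_option linter.unusedSectionVars false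

namespace Cfsg.Agent.Classification.QDW.CaseU

open Cfsg Cfsg.Agent.Classification.InvCent

universe u

section Minus

variable {N : Type*} [Group N]

/-- The trace on the `(-1)`-eigenspace of a central involution is a character. -/
theorem isCharacter_neg {Y : N → ℂ} (hY : IsCharacter N Y) {t : N} (tt : t * t = 1)
    (ct : ∀ x, Commute t x) : IsCharacter N (fun x => (Y x - Y (t * x)) / 2) := by
  obtain ⟨n, ρ, rfl⟩ := hY
  have h1 := Cfsg.Agent.CharDeep.DegreeBound.isCharacter_compl ρ ((2 : ℂ)⁻¹ • (1 + ρ t)) (by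
    rw [smul_mul_smul_comm, mul_add, mul_one, add_mul, one_mul, ← map_mul, tt, map_one]
    rw [show (1 + ρ t + (ρ t + 1) : Module.End ℂ (Fin n → ℂ)) = (2 : ℂ) • (1 + ρ t) by
      rw [two_smul]; abel, smul_smul]
    norm_num) (by
    intro x
    rw [smul_mul_assoc, mul_smul_comm, mul_add, add_mul, mul_one, one_mul, ← map_mul, ← map_mul,
      (ct x).eq])
  convert h1 using 1
  funext x
  rw [smul_mul_assoc, add_mul, one_mul, ← map_mul, map_smul, map_add, smul_eq_mul]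
  change (LinearMap.trace ℂ _ (ρ x) - LinearMap.trace ℂ _ (ρ (t * x))) / 2 = _
  ring

end Minus

section Main

variable {G : Type u} [Group G] [Finite G]

/-- The values of the character `Y` of `G` on `⟨t, u⟩ × P`. -/
structure GVal (Y : G → ℂ) {N : Subgroup G} (t u : N) (Au Atu P R : Subgroup N) (q : ℕ) (ε : ℤ)
    (m : ℕ) (c : ℤ) : Prop where
  char : IsCharacter G Y
  two_m : (2 * m : ℤ) = q - ε
  val_t₁ : ∀ y ∈ P, y ∈ R → Y (t * y) = c + 2 * (ε * m)
  val_u₁ : ∀ y ∈ P, y ∈ Au → Y (u * y) = c + 2 * (ε * m)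
  val_u₀ : ∀ y ∈ P, y ∉ Au → Y (u * y) = c
  val_tu₁ : ∀ y ∈ P, y ∈ Atu → Y (t * u * y) = c + 2 * (ε * m)
  val_tu₀ : ∀ y ∈ P, y ∉ Atu → Y (t * u * y) = c
  one_le : (Y 1).re - (Y t).re ≤ 4 * ((q : ℝ) ^ 2 - 1)
  one_le_pos : ε = 1 → (Y 1).re - (Y t).re ≤ 2 * ((q : ℝ) ^ 2 - 1)

/-- `h` permutes `P ∩ A_t`, `P ∩ A_u`, `P ∩ A_{tu}`. -/
structure Cyc {N : Subgroup G} (h : G) (Au Atu P R : Subgroup N) : Prop where
  mem : ∀ x ∈ P, ∃ y ∈ P, (y : G) = h * x * h⁻¹
  t : ∀ x ∈ P, x ∈ R → ∀ y : N, (y : G) = h * x * h⁻¹ → y ∈ Au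
  u : ∀ x ∈ P, x ∈ Au → ∀ y : N, (y : G) = h * x * h⁻¹ → y ∈ Atu
  tu : ∀ x ∈ P, x ∈ Atu → ∀ y : N, (y : G) = h * x * h⁻¹ → y ∈ R

variable {N : Subgroup G} {H : Type*} [Group H] {π : N →* H} {z u₀ s₀ s₀' : H}
  {Z T T' U L₀ Tr E : Subgroup H} {t u s : N} {Au Atu P R D : Subgroup N} {r mr q m : ℕ} {ε : ℤ}
  {Y : G → ℂ} {c : ℤ}

theorem GVal.val (gv : GVal Y t u Au Atu P R q ε m c) (tt : t * t = 1)
    (ct : ∀ x, Commute t x) :
    Val t u Au Atu P q ε m (fun x : N => (Y x - Y ((t : G) * x)) / 2) := by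
  have h1 : IsCharacter N (fun x : N => Y x) :=
    Cfsg.Agent.Characters.Core.isCharacter_comp N.subtype gv.char
  have h2 := isCharacter_neg h1 tt ct
  have ht : (t : G) * t = 1 := congrArg Subtype.val tt
  have h3 : ∀ y : N, (t : G) * ((u * y : N) : G) = t * u * y := by
    intro y
    rw [Subgroup.coe_mul, mul_assoc]
  refine ⟨h2, ?_, gv.two_m, ?_, ?_, ?_, ?_⟩
  · intro x
    change (Y ((t * x : N) : G) - Y ((t : G) * ((t * x : N) : G))) / 2 = _
    rw [Subgroup.coe_mul, ← mul_assoc, ht, one_mul]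
    ring
  · intro y hy hu htu
    change (Y ((u * y : N) : G) - Y ((t : G) * ((u * y : N) : G))) / 2 = _
    rw [h3, Subgroup.coe_mul, gv.val_u₁ y hy hu, gv.val_tu₁ y hy htu]
    ring
  · intro y hy hu htu
    change (Y ((u * y : N) : G) - Y ((t : G) * ((u * y : N) : G))) / 2 = _
    rw [h3, Subgroup.coe_mul, gv.val_u₁ y hy hu, gv.val_tu₀ y hy htu]
    ring
  · intro y hy hu htu
    change (Y ((u * y : N) : G) - Y ((t : G) * ((u * y : N) : G))) / 2 = _
    rw [h3, Subgroup.coe_mul, gv.val_u₀ y hy hu, gv.val_tu₁ y hy htu]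
    ring
  · intro y hy hu htu
    change (Y ((u * y : N) : G) - Y ((t : G) * ((u * y : N) : G))) / 2 = _
    rw [h3, Subgroup.coe_mul, gv.val_u₀ y hy hu, gv.val_tu₀ y hy htu]
    ring

/-- `P` normalises `P₀`. -/
theorem Fu.conj_P0 {N : Type*} [Group N] {π : N →* H} {t u s : N} {Au Atu P R D : Subgroup N}
    (fu : Fu π z u₀ s₀ Tr E t u s Au Atu P R D r mr) {g x : N} (hg : g ∈ P)
    (hx : x ∈ P0 Au Atu P R) : g * x * g⁻¹ ∈ P0 Au Atu P R := by
  obtain ⟨⟨⟨h1, h2⟩, h3⟩, h4⟩ := hx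
  have := fu.R_normal
  exact ⟨⟨⟨P.mul_mem (P.mul_mem hg h1) (P.inv_mem hg), this.conj_mem x h2 g⟩,
    fu.Au_conj g (fu.P_comm g hg) x h3⟩, fu.Atu_conj g (fu.P_comm g hg) x h4⟩

theorem Fu.comm_le {N : Type*} [Group N] {π : N →* H} {t u s : N} {Au Atu P R D : Subgroup N}
    (fu : Fu π z u₀ s₀ Tr E t u s Au Atu P R D r mr) {S : Subgroup N} (hS : S ≤ P) :
    ⁅P0 Au Atu P R, S⁆ ≤ P0 Au Atu P R := by
  rw [Subgroup.commutator_le]
  intro x hx g hg
  rw [commutatorElement_def]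
  have h1 := fu.conj_P0 (hS hg) ((P0 Au Atu P R).inv_mem hx)
  have h2 : x * g * x⁻¹ * g⁻¹ = x * (g * x⁻¹ * g⁻¹) := by group
  rw [h2]
  exact Subgroup.mul_mem _ hx h1

theorem Fu.P1t_le {N : Type*} [Group N] {π : N →* H} {t u s : N} {Au Atu P R D : Subgroup N}
    (fu : Fu π z u₀ s₀ Tr E t u s Au Atu P R D r mr) : P1t Au Atu P R ≤ P0 Au Atu P R :=
  fu.comm_le (inf_le_left.trans inf_le_left)

theorem Fu.P1u_le {N : Type*} [Group N] {π : N →* H} {t u s : N} {Au Atu P R D : Subgroup N}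
    (fu : Fu π z u₀ s₀ Tr E t u s Au Atu P R D r mr) : P1u Au Atu P R ≤ P0 Au Atu P R :=
  fu.comm_le (inf_le_left.trans inf_le_left)

theorem Fu.P1tu_le {N : Type*} [Group N] {π : N →* H} {t u s : N} {Au Atu P R D : Subgroup N}
    (fu : Fu π z u₀ s₀ Tr E t u s Au Atu P R D r mr) : P1tu Au Atu P R ≤ P0 Au Atu P R :=
  fu.comm_le (inf_le_left.trans inf_le_left)

/-- A linear character of `R` is trivial on commutators. -/
theorem lin_comm {N : Type*} [Group N] {R A B : Subgroup N} (hA : A ≤ R) (hB : B ≤ R)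
    (ν : R →* ℂˣ) (x : R) (hx : (x : N) ∈ ⁅A, B⁆) : ν x = 1 := by
  have h1 : ⁅A, B⁆ ≤ ν.ker.map R.subtype := by
    rw [Subgroup.commutator_le]
    intro a ha b hb
    set a' : R := ⟨a, hA ha⟩
    set b' : R := ⟨b, hB hb⟩
    refine ⟨a' * b' * a'⁻¹ * b'⁻¹, ?_, by rw [commutatorElement_def]; rfl⟩
    rw [SetLike.mem_coe, MonoidHom.mem_ker, map_mul, map_mul, map_mul, map_inv, map_inv,
      mul_right_comm (ν a'), mul_inv_cancel, one_mul, mul_inv_cancel]
  obtain ⟨y, hy, hyx⟩ := h1 hx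
  have h2 : y = x := Subtype.ext hyx
  rw [← h2]
  exact hy

/-- `|Tr| = m_r`. -/
theorem Fu.card_Tr {N : Type*} [Group N] [Finite N] {π : N →* H} {t u s : N}
    {Au Atu P R D : Subgroup N} (fu : Fu π z u₀ s₀ Tr E t u s Au Atu P R D r mr) :
    Nat.card Tr = mr := by
  have h1 : (π.comp P.subtype).range = Tr := by
    rw [← fu.map_P, MonoidHom.range_eq_map, ← Subgroup.map_map, ← MonoidHom.range_eq_map,
      Subgroup.range_subtype]
  have h2 : (P ⊓ R).subgroupOf P = (π.comp P.subtype).ker := by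
    ext x
    rw [Subgroup.mem_subgroupOf, MonoidHom.mem_ker, MonoidHom.comp_apply]
    constructor
    · intro h
      exact fu.R_le h.2
    · intro h
      exact ⟨x.2, fu.P_ker x x.2 h⟩
  rw [← h1, ← fu.idx_t, Subgroup.relIndex, h2, Subgroup.index_ker]

theorem comm_conj {h : G} {A B A' B' : Subgroup N} (hA : ∀ x ∈ A, h * x * h⁻¹ ∈ A'.map N.subtype)
    (hB : ∀ x ∈ B, h * x * h⁻¹ ∈ B'.map N.subtype) :
    ∀ y ∈ (⁅A, B⁆).map N.subtype, h * y * h⁻¹ ∈ (⁅A', B'⁆).map N.subtype := by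
  have h1 : ((⁅A, B⁆).map N.subtype).map (MulAut.conj h).toMonoidHom ≤ (⁅A', B'⁆).map N.subtype := by
    rw [Subgroup.map_commutator, Subgroup.map_commutator, Subgroup.map_commutator]
    refine Subgroup.commutator_mono ?_ ?_
    · rintro _ ⟨_, ⟨x, hx, rfl⟩, rfl⟩
      exact hA x hx
    · rintro _ ⟨_, ⟨x, hx, rfl⟩, rfl⟩
      exact hB x hx
  intro y hy
  exact h1 ⟨y, hy, rfl⟩

/-- **The end of case U, `ε = 1`**: there are too many linear characters of `R`. -/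
theorem false_of_lin [Fintype R] (geo : Geo z q ε Z T T' U s₀ s₀' u₀ L₀ Tr E r)
    (fu : Fu π z u₀ s₀ Tr E t u s Au Atu P R D r mr) (gv : GVal Y t u Au Atu P R q ε m c)
    (hε : ε = 1) {h : G} (cyc : Cyc h Au Atu P R) (S : Finset (R →* ℂˣ))
    (hS : (q - 1) * (mr - 1) ≤ S.card)
    (hSZ : ∀ ν ∈ S, (m : ℝ) ≤ mr * (classInner (fun y : R => (Y (y : N) - Y ((t : G) * (y : N))) / 2)
        (fun x => (ν x : ℂ))).re ∧ ∃ x : R, (x : N) ∈ P1t Au Atu P R ∧ ν x ≠ 1) : False := by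
  classical
  -- the numbers
  have hp := fu.prime
  obtain ⟨k, hk⟩ := fu.mr_eq
  have hmr : 7 ≤ mr := by
    rw [hk, pow_succ]
    exact fu.r7.trans (Nat.le_mul_of_pos_left _ (pow_pos hp.pos _))
  have hdvd : mr ∣ m := by
    have h1 : Nat.card Tr ∣ Nat.card T := Subgroup.card_dvd_of_le geo.Tr_le
    rw [fu.card_Tr] at h1
    have h2 := geo.chyp.card_T
    obtain ⟨a, ha⟩ := geo.Z_two
    have h3 := gv.two_m
    have h4 : (Nat.card T : ℤ) = ((Nat.card Z * (2 * m) : ℕ) : ℤ) := by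
      rw [h2]
      push_cast
      rw [h3]
    have h5 : Nat.card T = 2 ^ (a + 1) * m := by
      have h6 : Nat.card T = Nat.card Z * (2 * m) := by exact_mod_cast h4
      rw [h6, ha]
      ring
    rw [h5] at h1
    refine Nat.Coprime.dvd_of_dvd_mul_left ?_ h1
    rw [hk]
    refine Nat.Coprime.pow _ _ ?_
    rw [Nat.coprime_primes hp Nat.prime_two]
    have := fu.r7
    omega
  obtain ⟨μ, hμ⟩ := hdvd
  have hmq : 2 * (μ * mr) = q - 1 := by
    have h1 := gv.two_m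
    rw [hε, hμ] at h1
    have h2 : ((2 * (μ * mr) : ℕ) : ℤ) = q - 1 := by
      rw [← h1]
      push_cast
      ring
    have := geo.q_big
    omega
  -- the subgroups of `G`
  set RG : Subgroup G := R.map N.subtype with hRG
  let e : R ≃* RG := R.equivMapOfInjective N.subtype N.subtype_injective
  have he : ∀ x : R, ((e x : RG) : G) = (x : N) := fun x => rfl
  have he' : ∀ y : RG, (((e.symm y : R) : N) : G) = y := by
    intro y
    rw [← he, MulEquiv.apply_symm_apply]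
  let _ : Fintype RG := Fintype.ofEquiv R e.toEquiv
  have hP0R : P0 Au Atu P R ≤ R := inf_le_left.trans (inf_le_left.trans inf_le_right)
  have hmono : ∀ {A : Subgroup N}, A ≤ P0 Au Atu P R → A.map N.subtype ≤ RG :=
    fun hA => Subgroup.map_mono (hA.trans hP0R)
  have tG : (t : G) * t = 1 := congrArg Subtype.val fu.tt
  -- conjugation by `h`
  have cy0 : ∀ x ∈ P0 Au Atu P R, h * x * h⁻¹ ∈ (P0 Au Atu P R).map N.subtype := by
    rintro x ⟨⟨⟨h1, h2⟩, h3⟩, h4⟩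
    obtain ⟨y, hy, hyx⟩ := cyc.mem x h1
    exact ⟨y, ⟨⟨⟨hy, cyc.tu x h1 h4 y hyx⟩, cyc.t x h1 h2 y hyx⟩, cyc.u x h1 h3 y hyx⟩, hyx⟩
  have cy1 : ∀ y ∈ (P1t Au Atu P R).map N.subtype,
      h * y * h⁻¹ ∈ (P1u Au Atu P R).map N.subtype := by
    refine comm_conj cy0 ?_
    rintro x ⟨⟨h1, h3⟩, h4⟩
    obtain ⟨y, hy, hyx⟩ := cyc.mem x h1
    exact ⟨y, ⟨⟨hy, cyc.tu x h1 h4 y hyx⟩, cyc.u x h1 h3 y hyx⟩, hyx⟩
  have cy2 : ∀ y ∈ (P1u Au Atu P R).map N.subtype,
      h * y * h⁻¹ ∈ (P1tu Au Atu P R).map N.subtype := by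
    refine comm_conj cy0 ?_
    rintro x ⟨⟨h1, h2⟩, h4⟩
    obtain ⟨y, hy, hyx⟩ := cyc.mem x h1
    exact ⟨y, ⟨⟨hy, cyc.tu x h1 h4 y hyx⟩, cyc.t x h1 h2 y hyx⟩, hyx⟩
  have cy3 : ∀ y ∈ (P1tu Au Atu P R).map N.subtype,
      h * y * h⁻¹ ∈ (P1t Au Atu P R).map N.subtype := by
    refine comm_conj cy0 ?_
    rintro x ⟨⟨h1, h2⟩, h3⟩
    obtain ⟨y, hy, hyx⟩ := cyc.mem x h1
    exact ⟨y, ⟨⟨hy, cyc.t x h1 h2 y hyx⟩, cyc.u x h1 h3 y hyx⟩, hyx⟩
  -- the values of `Y` on `t P₀`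
  have hval : ∀ y ∈ (P0 Au Atu P R).map N.subtype, Y ((t : G) * y) = ((c + 2 * (ε * m) : ℤ) : ℂ) := by
    rintro _ ⟨y, hy, rfl⟩
    change Y ((t : G) * y) = _
    rw [gv.val_t₁ y hy.1.1.1 (hP0R hy)]
    push_cast
    ring
  have hsup : (P1t Au Atu P R).map N.subtype ⊔ (P1tu Au Atu P R).map N.subtype ⊔
      (P1u Au Atu P R).map N.subtype ≤ (P0 Au Atu P R).map N.subtype :=
    sup_le (sup_le (Subgroup.map_mono fu.P1t_le) (Subgroup.map_mono fu.P1tu_le))
      (Subgroup.map_mono fu.P1u_le)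
  -- the linear characters
  let f : (R →* ℂˣ) → (RG →* ℂˣ) := fun ν => ν.comp e.symm.toMonoidHom
  have hf : ∀ (ν : R →* ℂˣ) (y : RG), f ν y = ν (e.symm y) := fun ν y => rfl
  have hfinj : Function.Injective f := by
    intro ν ν' hνν
    ext x
    have h1 := congrArg (fun g : RG →* ℂˣ => ((g (e x) : ℂˣ) : ℂ)) hνν
    simp only [hf, MulEquiv.symm_apply_apply] at h1
    exact h1
  obtain ⟨n, hn⟩ := Cfsg.Agent.Characters.Core.isCharacter_apply_one gv.char
  have key := FuCount.count_char gv.char tG RG (by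
      rintro _ ⟨y, -, rfl⟩
      exact congrArg Subtype.val (fu.t_comm y).eq)
    (hmono fu.P1t_le) (hmono fu.P1tu_le) (hmono fu.P1u_le)
    (c := c + 2 * (ε * m)) (fun y hy => hval y (hsup hy)) (h := h⁻¹)
    (fun y hy => by rw [inv_inv]; exact cy3 y hy) (fun y hy => by rw [inv_inv]; exact cy2 y hy)
    (fun y hy => by rw [inv_inv]; exact cy1 y hy) (S.image f)
    (by
      intro l hl y hy
      obtain ⟨ν, hν, rfl⟩ := Finset.mem_image.1 hl
      rw [hf]
      refine lin_comm hP0R (inf_le_left.trans inf_le_right : P ⊓ R ⊓ Au ≤ R) ν _ ?_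
      obtain ⟨y', hy', hyy⟩ := hy
      have h1 : ((e.symm ⟨y, hmono fu.P1tu_le ⟨y', hy', hyy⟩⟩ : R) : N) = y' := by
        apply Subtype.ext
        rw [he']
        exact hyy.symm
      rw [h1]
      exact hy')
    (by
      intro l hl y hy
      obtain ⟨ν, hν, rfl⟩ := Finset.mem_image.1 hl
      rw [hf]
      refine lin_comm hP0R (inf_le_left.trans inf_le_right : P ⊓ R ⊓ Atu ≤ R) ν _ ?_
      obtain ⟨y', hy', hyy⟩ := hy
      have h1 : ((e.symm ⟨y, hmono fu.P1u_le ⟨y', hy', hyy⟩⟩ : R) : N) = y' := by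
        apply Subtype.ext
        rw [he']
        exact hyy.symm
      rw [h1]
      exact hy')
    (by
      intro l hl
      obtain ⟨ν, hν, rfl⟩ := Finset.mem_image.1 hl
      obtain ⟨x, hx, hνx⟩ := (hSZ ν hν).2
      refine ⟨(x : N), ⟨x, hx, rfl⟩, ?_⟩
      rw [hf]
      have h1 : e.symm ⟨((x : N) : G), hmono fu.P1t_le ⟨x, hx, rfl⟩⟩ = x := by
        rw [MulEquiv.symm_apply_eq]
        rfl
      rw [h1]
      exact hνx)
    (μ := μ) (by
      intro l hl
      obtain ⟨ν, hν, rfl⟩ := Finset.mem_image.1 hl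
      have h1 := (hSZ ν hν).1
      have h2 : classInner (fun y : RG => (Y (y : G) - Y ((t : G) * (y : G))) / 2)
          (fun y => ((f ν y : ℂˣ) : ℂ)) =
          classInner (fun y : R => (Y (y : N) - Y ((t : G) * (y : N))) / 2)
            (fun x => (ν x : ℂ)) := by
        rw [classInner, classInner, Nat.card_congr e.toEquiv]
        congr 1
        symm
        refine Fintype.sum_equiv e.toEquiv _ _ fun x => ?_
        change _ = (Y ((x : N) : G) - Y ((t : G) * ((x : N) : G))) / 2 *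
          (starRingEnd ℂ) ((ν (e.symm (e x)) : ℂˣ) : ℂ)
        rw [MulEquiv.symm_apply_apply]
      rw [h2]
      rw [hμ] at h1
      push_cast at h1
      have h3 : (0 : ℝ) < mr := by
        have : 0 < mr := by omega
        exact_mod_cast this
      exact le_of_mul_le_mul_left h1 h3)
    (N := n) (by rw [hn]; push_cast; rfl)
  have hY1 : (Y 1).re = n := by rw [hn, Complex.natCast_re]
  have hYt : (Y t).re = ((c + 2 * (ε * m) : ℤ) : ℝ) := by
    have h1 := hval 1 (one_mem _)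
    rw [mul_one] at h1
    rw [h1, Complex.intCast_re]
  have hle := gv.one_le_pos hε
  rw [hY1, hYt] at hle
  have hle' : (n : ℤ) - (c + 2 * (ε * m)) ≤ 2 * ((q : ℤ) ^ 2 - 1) := by
    have h1 : (((n : ℤ) - (c + 2 * (ε * m)) : ℤ) : ℝ) ≤ ((2 * ((q : ℤ) ^ 2 - 1) : ℤ) : ℝ) := by
      push_cast
      push_cast at hle
      exact hle
    exact_mod_cast h1
  refine FuCount.num (q := q) (mr := mr) (μ := μ) (L := (S.image f).card) ?_ hmr hmq ?_ key hle'
  · have := geo.q_big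
    omega
  · rw [Finset.card_image_of_injective _ hfinj]
    exact hS

/-- **Case U is impossible**, from the two theorems at the level of `N`. -/
theorem false_of_pieces (geo : Geo z q ε Z T T' U s₀ s₀' u₀ L₀ Tr E r)
    (fu : Fu π z u₀ s₀ Tr E t u s Au Atu P R D r mr) (gv : GVal Y t u Au Atu P R q ε m c)
    {h : G} (cyc : Cyc h Au Atu P R)
    (hneg : ∀ X : N → ℂ, Val t u Au Atu P q ε m X → ε = -1 →
      (X 1).re ≤ 2 * ((q : ℝ) ^ 2 - 1) → False)
    (hpos : ∀ [Fintype R] (X : N → ℂ), Val t u Au Atu P q ε m X → ε = 1 →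
      (X 1).re ≤ (q : ℝ) ^ 2 - 1 → ∃ S : Finset (R →* ℂˣ), S.card = (q - 1) * (mr - 1) ∧
        ∀ ν ∈ S, (m : ℝ) ≤ mr * (classInner (fun y : R => X y) (fun x => (ν x : ℂ))).re ∧
          ∃ x : R, (x : N) ∈ P1t Au Atu P R ∧ ν x ≠ 1) : False := by
  classical
  have v := gv.val fu.tt fu.t_comm
  have h3 : ((Y ((1 : N) : G) - Y ((t : G) * ((1 : N) : G))) / 2).re =
      ((Y 1).re - (Y t).re) / 2 := by
    rw [Subgroup.coe_one, mul_one, ← Complex.sub_re]
    exact Complex.div_ofNat_re _ _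
  rcases geo.chyp.eps with hε | hε
  · have : Fintype R := Fintype.ofFinite _
    obtain ⟨S, hS, hSZ⟩ := hpos _ v hε (by
      have := gv.one_le_pos hε
      change ((Y ((1 : N) : G) - Y ((t : G) * ((1 : N) : G))) / 2).re ≤ _
      rw [h3]
      linarith)
    exact false_of_lin geo fu gv hε cyc S hS.ge hSZ
  · refine hneg _ v hε ?_
    have := gv.one_le
    change ((Y ((1 : N) : G) - Y ((t : G) * ((1 : N) : G))) / 2).re ≤ _
    rw [h3]
    linarith

end Main

end Cfsg.Agent.Classification.QDW.CaseU
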