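import Mathlib
import Cfsg.Agent.Classification.QDW.FuCyc

/-!
# Case U: the fields of `Fu` and `Cyc` about `A_u`, `A_{tu}`, from `FuDichG.Setup`
-/

set_option autoImplicit false
set_option linter.unusedSectionVars false

namespace Cfsg.Agent.Classification.QDW.CaseU

open Subgroup Matrix Cfsg.Agent.Lib.SL2Mat Cfsg.Agent.Lib.AutSL2 Cfsg.Agent.TwoFusion
  Cfsg.Agent.TwoFusion.NormalSL2 Cfsg.Agent.Classification.QDW.TypeHom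
  Cfsg.Agent.Classification.QDW.StructQ Cfsg.Agent.Classification.QDW.TorusG
  Cfsg.Agent.Classification.QDW.TorusF Cfsg.Agent.Classification.QDW.TorusW
  Cfsg.Agent.Classification.QDW.FuDichG

variable {H : Type*} [Group H] [Finite H] {L : Subgroup H} [hLn : L.Normal] {F : Type*} [Field F]
  [Finite F] {e : L ≃* SpecialLinearGroup (Fin 2) F} {S : Sylow 2 H}
  {G : Type*} [Group G] [Finite G] {t u s h : G} {M : Subgroup G} {π : M →* H}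
  {uM : u ∈ M} {g : GL (Fin 2) F} {ε : ℤ} {W : Subgroup G}

/-- (G3a) `h` may be multiplied by an element of `W` -/
theorem Setup_mul (hS : Setup t u s h M S L e π uM g ε W) {w : G} (hw : w ∈ W) :
    ∃ hS' : Setup t u s (w * h) M S L e π uM g ε W, (hS'.CaseS → hS.CaseS) := by
  refine ⟨FuCyc.setup_mul hS hw, fun hc ρ hρ x => ?_⟩
  have h1 := hc ρ hρ x
  rw [← h1]
  have h2 : Setup.cj W (FuCyc.setup_mul hS hw).hN x =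
      Setup.cj W hS.hN (⟨w, hw⟩⁻¹ * x * ⟨w, hw⟩) := by
    apply Subtype.ext
    rw [Setup.coe_cj, Setup.coe_cj]
    change (w * h)⁻¹ * x * (w * h) = h⁻¹ * (w⁻¹ * x * w) * h
    group
  rw [h2, map_mul, map_mul, map_mul, map_mul, map_inv, map_inv, mul_right_comm,
    inv_mul_cancel, one_mul]

/-- (G3b) `s` may be changed. -/
theorem Setup_s (hS : Setup t u s h M S L e π uM g ε W) {s' : G} (h1 : s' * t = t * s')
    (h2 : s' * u * s'⁻¹ = t * u) :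
    ∃ hS' : Setup t u s' h M S L e π uM g ε W, (hS'.CaseS → hS.CaseS) :=
  ⟨⟨hS.mem_M, hS.mem_W, hS.whyp, h1, h2, hS.ht, hS.hu⟩, fun hc => hc⟩

/-- (G3c) all the fields of `Fu` about `Au`, `Atu`, and `Cyc`. `h` normalises `P`. -/
structure G3Out {G : Type*} [Group G] (t u s h : G) (N : Subgroup G) (D P R Ku Ktu : Subgroup G)
    (mr : ℕ) : Prop where
  D_P : ∀ d ∈ D, ∀ x ∈ P, d * x * d⁻¹ * x⁻¹ ∈ P ⊓ R ⊓ Ku ⊓ Ktu
  Au_conj : ∀ g ∈ N, Commute u g → ∀ x ∈ Ku, g * x * g⁻¹ ∈ Ku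
  Atu_conj : ∀ g ∈ N, Commute u g → ∀ x ∈ Ktu, g * x * g⁻¹ ∈ Ktu
  s_Au : ∀ x, x ∈ Ku ↔ s * x * s⁻¹ ∈ Ktu
  s_Atu : ∀ x, x ∈ Ktu ↔ s * x * s⁻¹ ∈ Ku
  cyc_u : ∃ g ∈ P, ∀ x ∈ P, ∃ k : ℕ, x * (g ^ k)⁻¹ ∈ Ku
  cyc_tu : ∃ g ∈ P, ∀ x ∈ P, ∃ k : ℕ, x * (g ^ k)⁻¹ ∈ Ktu
  cyc_t : ∃ g ∈ P, ∀ x ∈ P, ∃ k : ℕ, x * (g ^ k)⁻¹ ∈ R
  idx_u : (P ⊓ Ku).relIndex P = mr
  idx_tu : (P ⊓ Ktu).relIndex P = mr
  idx_t : (P ⊓ R).relIndex P = mr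
  idx_0 : (P ⊓ R ⊓ Ku ⊓ Ktu).relIndex P = mr ^ 3
  h_P : ∀ x ∈ P, h * x * h⁻¹ ∈ P
  h_t : ∀ x ∈ P, x ∈ R → h * x * h⁻¹ ∈ Ku
  h_u : ∀ x ∈ P, x ∈ Ku → h * x * h⁻¹ ∈ Ktu
  h_tu : ∀ x ∈ P, x ∈ Ktu → h * x * h⁻¹ ∈ R

theorem g3 (hS : Setup t u s h M S L e π uM g ε W) {p n r : ℕ} (hZ : hS.Zsig p n r)
    (hU : ¬ hS.CaseS) {N D P R : Subgroup G} (hN : N ≤ M)
    (hDM : D ≤ M) (hDu : ∀ d ∈ D, d * u = u * d) (hD2 : IsPGroup 2 D)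
    (hPW : P ≤ W) (hP : IsPGroup r P) (hPi : ¬ r ∣ P.relIndex W)
    (hDP : ∀ d ∈ D, ∀ x ∈ P, d * x * d⁻¹ ∈ P)
    (hPR : ∀ x ∈ P, x ∈ R ↔ x ∈ Setup.KG π) (hh : ∀ x ∈ P, h * x * h⁻¹ ∈ P)
    (hodd : Odd (H1 L e).index)
    (hab : ∀ a ∈ H1 L e, ∀ b ∈ H1 L e, a * π ⟨u, uM⟩ = π ⟨u, uM⟩ * a →
      b * π ⟨u, uM⟩ = π ⟨u, uM⟩ * b → a * b = b * a) :
    G3Out t u s h N D P R (cj h (Setup.KG π)) (cj (h ^ 2) (Setup.KG π)) (hS.mr r) := by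
  have hh2 : h ^ 2 * u * (h ^ 2)⁻¹ = t := by
    calc h ^ 2 * u * (h ^ 2)⁻¹ = h * (h * u * h⁻¹) * h⁻¹ := by rw [pow_two]; group
      _ = t := by rw [hS.hu, hS.htu]
  have hcyc : ∀ c ∈ normalizer (W : Set G), ∃ y ∈ P, ∀ x ∈ P, ∃ k : ℕ,
      x * (y ^ k)⁻¹ ∈ cj c (Setup.KG π) := by
    intro c hc
    obtain ⟨y, hy, h1⟩ := hS.exists_gen hZ P hPW hP hPi hc
    refine ⟨y, hy, fun x hx => ?_⟩
    obtain ⟨k, hk⟩ := h1 x hx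
    exact ⟨k, mem_cj.2 hk⟩
  have hidx : ∀ c ∈ normalizer (W : Set G), (P ⊓ cj c (Setup.KG π)).relIndex P = hS.mr r := by
    intro c hc
    apply hS.relIndex_one hZ P hPW hP hPi hc
    intro x hx
    rw [mem_inf, mem_cj]
    exact ⟨fun h1 => h1.2, fun h1 => ⟨hx, h1⟩⟩
  have hone : ∀ x, x ∈ cj 1 (Setup.KG π) ↔ x ∈ Setup.KG π := by
    intro x
    rw [mem_cj, inv_one, one_mul, mul_one]
  have hPR1 : P ⊓ R = P ⊓ cj 1 (Setup.KG π) := by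
    ext x
    rw [mem_inf, mem_inf, hone]
    exact and_congr_right fun hx => hPR x hx
  have hAv : ∀ c : G, ∀ y : G, Commute (c * t * c⁻¹) y → ∀ x ∈ cj c (Setup.KG π),
      y * x * y⁻¹ ∈ cj c (Setup.KG π) := by
    intro c y hy x hx
    rw [mem_cj] at hx ⊢
    have h1 : y * c * t * (y * c)⁻¹ = c * t * c⁻¹ := by
      calc y * c * t * (y * c)⁻¹ = y * (c * t * c⁻¹) * y⁻¹ := by group
        _ = c * t * c⁻¹ := by rw [← hy.eq, mul_inv_cancel_right]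
    refine (FuCyc.mem_iff_of_conj hS h1 (y * x * y⁻¹)).1 ?_
    have : (y * c)⁻¹ * (y * x * y⁻¹) * (y * c) = c⁻¹ * x * c := by group
    rw [this]; exact hx
  have hs : ∀ {a b : G}, s * (a * t * a⁻¹) * s⁻¹ = b * t * b⁻¹ → ∀ x,
      x ∈ cj a (Setup.KG π) ↔ s * x * s⁻¹ ∈ cj b (Setup.KG π) := by
    intro a b hab x
    rw [mem_cj, mem_cj]
    have h1 : s * a * t * (s * a)⁻¹ = b * t * b⁻¹ := by rw [← hab]; group
    have h2 := FuCyc.mem_iff_of_conj hS h1 (s * x * s⁻¹)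
    have h3 : (s * a)⁻¹ * (s * x * s⁻¹) * (s * a) = a⁻¹ * x * a := by group
    rw [h3] at h2
    exact h2
  refine ⟨?_, ?_, ?_, ?_, ?_, hcyc h hS.h_mem, hcyc _ (pow_mem hS.h_mem 2), ?_,
    hidx h hS.h_mem, hidx _ (pow_mem hS.h_mem 2), ?_, ?_, hh, ?_, ?_, ?_⟩
  · intro d hd x hx
    obtain ⟨k, hk⟩ := hD2 ⟨d, hd⟩
    obtain ⟨j, hj⟩ := hP ⟨x, hx⟩
    have hk' : d ^ 2 ^ k = 1 := congrArg Subtype.val hk
    have hj' : x ^ r ^ j = 1 := congrArg Subtype.val hj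
    have hdt : d * t = t * d := (hS.mem_M _).1 (hDM hd)
    have hcomm : d * x * d⁻¹ * x⁻¹ ∈ P := P.mul_mem (hDP d hd x hx) (P.inv_mem hx)
    refine ⟨⟨⟨hcomm, (hPR _ hcomm).2 ?_⟩, ?_⟩, ?_⟩
    · have h1 := FuCyc.comm_mem hS hodd hab hZ (c := 1) (Or.inl (by simp))
        (Or.inr (Or.inl (by simp))) hdt (hDu d hd) hk' (hPW hx) hj'
      simpa using h1
    · exact mem_cj.2 (FuCyc.comm_mem hS hodd hab hZ (c := h) (Or.inr (Or.inl hS.ht))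
        (Or.inr (Or.inr hS.hu)) hdt (hDu d hd) hk' (hPW hx) hj')
    · exact mem_cj.2 (FuCyc.comm_mem hS hodd hab hZ (c := h ^ 2)
        (Or.inr (Or.inr hS.conj_h_pow.1)) (Or.inl hh2) hdt (hDu d hd) hk' (hPW hx) hj')
  · intro y hy hyu
    exact hAv h y (by rw [hS.ht]; exact hyu)
  · intro y hy hyu
    apply hAv
    rw [hS.conj_h_pow.1]
    have h1 : Commute t y := ((hS.mem_M _).1 (hN hy)).symm
    exact h1.mul_left hyu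
  · exact hs (by rw [hS.ht, hS.conj_h_pow.1, hS.su])
  · apply hs
    rw [hS.ht, hS.conj_h_pow.1]
    calc s * (t * u) * s⁻¹ = (s * t * s⁻¹) * (s * u * s⁻¹) := by group
      _ = t * (t * u) := by rw [hS.st, mul_inv_cancel_right, hS.su]
      _ = u := by rw [← mul_assoc, hS.tt, one_mul]
  · obtain ⟨y, hy, h1⟩ := hcyc 1 (one_mem _)
    refine ⟨y, hy, fun x hx => ?_⟩
    obtain ⟨k, hk⟩ := h1 x hx
    exact ⟨k, (hPR _ (P.mul_mem hx (P.inv_mem (P.pow_mem hy k)))).2 ((hone _).1 hk)⟩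
  · rw [hPR1]; exact hidx 1 (one_mem _)
  · apply hS.relIndex_of_not_caseS hZ hU P hPW hP hPi
    intro x hx
    constructor
    · rintro ⟨⟨⟨-, h2⟩, h3⟩, h4⟩
      exact ⟨(hPR x hx).1 h2, mem_cj.1 h3, mem_cj.1 h4⟩
    · rintro ⟨h1, h2, h3⟩
      exact ⟨⟨⟨hx, (hPR x hx).2 h1⟩, mem_cj.2 h2⟩, mem_cj.2 h3⟩
  · intro x hx hxR
    rw [mem_cj]
    have : h⁻¹ * (h * x * h⁻¹) * h = x := by group
    rw [this]
    exact (hPR x hx).1 hxR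
  · intro x _ hx
    rw [mem_cj] at hx ⊢
    have : (h ^ 2)⁻¹ * (h * x * h⁻¹) * h ^ 2 = h⁻¹ * x * h := by rw [pow_two]; group
    rw [this]
    exact hx
  · intro x hxP hx
    rw [mem_cj] at hx
    rw [hPR _ (hh x hxP)]
    have h3 : h ^ 3 ∈ M := hS.mem_M_of_conj hS.conj_h_pow.2
    have h4 : h * x * h⁻¹ = h ^ 3 * ((h ^ 2)⁻¹ * x * h ^ 2) * (h ^ 3)⁻¹ := by
      rw [pow_succ' h 2]; group
    rw [h4]
    exact FuCyc.conj_KG h3 hx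

end Cfsg.Agent.Classification.QDW.CaseU
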