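import Mathlib
import Cfsg.Prelude.Def_Characters
import Cfsg.Agent.Characters.Core
import Cfsg.Agent.Characters.Clifford
import Cfsg.Agent.Classification.InvCent.CTorus
import Cfsg.Agent.Classification.QDW.Inertia

/-!
# Counting conjugates of characters of a normal subgroup

`ti_count`: `R` is normal in `N`, `E` is a character of `N`, `π i` are different irreducible
characters of `R` with multiplicities at least `μ i` in `E`, and an element of `N` which maps some
`π i` to some `π j` is in `H`. Then `|N : H| ∑ μ i (π i)(1) ≤ E(1)`.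
-/

set_option autoImplicit false

namespace Cfsg.Agent.Classification.QDW.FuTI

open Cfsg Cfsg.Agent.Characters
open Cfsg.Agent.Classification.QDW.Inertia (stab mem_stab)

universe u v w

section TI

variable {N : Type u} [Group N] [Finite N]

/-- **TI counting.** -/
theorem ti_count (R : Subgroup N) [hR : R.Normal] {E : N → ℂ} (hE : IsCharacter N E) {n : ℕ}
    (hn : E 1 = n) (H : Subgroup N) {ι : Type v} [Fintype ι] (π : ι → R → ℂ)
    (hirr : ∀ i, IsIrrCharacter R (π i)) (hinj : Function.Injective π)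
    (hTI : ∀ (g : N) (i j : ι),
      (∀ x : R, π i ⟨g * x * g⁻¹, hR.conj_mem x x.2 g⟩ = π j x) → g ∈ H)
    (μ d : ι → ℕ) (hd : ∀ i, π i 1 = d i)
    (hμ : ∀ [Fintype R] i, ∃ k : ℕ, μ i ≤ k ∧ classInner (fun x : R => E x) (π i) = k) :
    H.index * ∑ i, μ i * d i ≤ n := by
  classical
  let _ : Fintype N := Fintype.ofFinite _
  let _ : Fintype R := Fintype.ofFinite _
  have := Core.finite_irr (G := R)
  let _ : Fintype (IrrCharacter R) := Fintype.ofFinite _
  let _ : Fintype (N ⧸ H) := Fintype.ofFinite _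
  obtain ⟨m, hm⟩ := Core.exists_nat_comb (Clifford.isCharacter_restrict R hE)
  let F : (N ⧸ H) × ι → IrrCharacter R := fun p =>
    ⟨π p.2 ∘ (MulAut.conjNormal (p.1.out)⁻¹ : MulAut R),
      Clifford.isIrr_conjNormal (hirr p.2) _⟩
  have hF : Function.Injective F := by
    rintro ⟨c, i⟩ ⟨c', j⟩ hcc
    have h1 : ∀ x : R, π i (MulAut.conjNormal (c.out)⁻¹ x) = π j (MulAut.conjNormal (c'.out)⁻¹ x) :=
      fun x => congrFun (congrArg Subtype.val hcc) x
    have h2 : ∀ x : R, π i ⟨(c.out⁻¹ * c'.out) * x * (c.out⁻¹ * c'.out)⁻¹,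
        hR.conj_mem x x.2 _⟩ = π j x := by
      intro x
      have h3 := h1 (MulAut.conjNormal c'.out x)
      have h4 : MulAut.conjNormal (c'.out)⁻¹ (MulAut.conjNormal c'.out x) = x := by
        apply Subtype.ext
        simp only [MulAut.conjNormal_apply]
        group
      rw [h4] at h3
      rw [← h3]
      congr 1
      apply Subtype.ext
      simp only [MulAut.conjNormal_apply]
      group
    have h3 := hTI _ i j h2
    have h4 : c = c' := by
      have h5 := QuotientGroup.eq.2 h3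
      rwa [QuotientGroup.out_eq', QuotientGroup.out_eq'] at h5
    subst h4
    have h5 : π i = π j := by
      funext x
      rw [← h2 x]
      congr 1
      apply Subtype.ext
      show (x : N) = c.out⁻¹ * c.out * x * (c.out⁻¹ * c.out)⁻¹
      group
    rw [hinj h5]
  choose dg hdg using fun β : IrrCharacter R =>
    Core.isCharacter_apply_one (Core.isIrr_isCharacter β.2)
  have hFd : ∀ p, dg (F p) = d p.2 := by
    intro p
    have h1 := hdg (F p)
    have h2 : (F p : R → ℂ) 1 = π p.2 1 := by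
      show π p.2 (MulAut.conjNormal (p.1.out)⁻¹ 1) = _
      rw [map_one]
    rw [h2, hd] at h1
    exact_mod_cast h1.symm
  have hFm : ∀ p, μ p.2 ≤ m (F p) := by
    intro p
    obtain ⟨k, hk, hk'⟩ := hμ p.2
    have h1 : classInner (fun x : R => E x) (F p : R → ℂ) = k := by
      show classInner (fun x : R => E x) (π p.2 ∘ (MulAut.conjNormal (p.1.out)⁻¹ : MulAut R)) = _
      rw [Clifford.classInner_restrict_conjNormal (Core.isCharacter_isClassFunction hE)]
      exact hk'
    rw [hm, Core.classInner_sum_nsmul_irr] at h1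
    have h2 : m (F p) = k := by exact_mod_cast h1
    rw [h2]
    exact hk
  have hn' : n = ∑ β : IrrCharacter R, m β * dg β := by
    have h1 := congrFun hm 1
    have h2 : E ((1 : R) : N) = n := hn
    rw [h2, Finset.sum_apply] at h1
    have h3 : ((∑ β : IrrCharacter R, m β * dg β : ℕ) : ℂ) = n := by
      rw [h1]
      push_cast
      refine Finset.sum_congr rfl fun β _ => ?_
      rw [Pi.smul_apply, nsmul_eq_mul, hdg]
    exact_mod_cast h3.symm
  calc H.index * ∑ i, μ i * d i = ∑ _c : N ⧸ H, ∑ i, μ i * d i := by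
        rw [Finset.sum_const, Finset.card_univ, smul_eq_mul, ← Nat.card_eq_fintype_card]
        rfl
    _ = ∑ p : (N ⧸ H) × ι, μ p.2 * d p.2 := by
        rw [Fintype.sum_prod_type]
    _ ≤ ∑ p : (N ⧸ H) × ι, m (F p) * dg (F p) := by
        refine Finset.sum_le_sum fun p _ => ?_
        rw [hFd]
        exact Nat.mul_le_mul_right _ (hFm p)
    _ = ∑ β ∈ Finset.univ.image F, m β * dg β := by
        rw [Finset.sum_image fun x _ y _ hxy => hF hxy]
    _ ≤ ∑ β : IrrCharacter R, m β * dg β :=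
        Finset.sum_le_sum_of_subset (Finset.subset_univ _)
    _ = n := hn'.symm

end TI

section Stab

variable {N : Type u} [Group N] {R : Subgroup N} [hR : R.Normal]

/-- The stabilizer of a conjugate. -/
theorem stab_conj {a b : R → ℂ} {g : N}
    (h : ∀ x : R, a ⟨g * x * g⁻¹, hR.conj_mem x x.2 g⟩ = b x) {k : N} (hk : k ∈ stab R a) :
    g⁻¹ * k * g ∈ stab R b := by
  intro x
  rw [← h x, ← h]
  have h1 := hk ⟨g * x * g⁻¹, hR.conj_mem x x.2 g⟩
  rw [← h1]
  congr 1
  apply Subtype.ext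
  show g * (g⁻¹ * k * g * x * (g⁻¹ * k * g)⁻¹) * g⁻¹ = k * (g * x * g⁻¹) * k⁻¹
  group

theorem stab_conj' {a b : R → ℂ} {g : N}
    (h : ∀ x : R, a ⟨g * x * g⁻¹, hR.conj_mem x x.2 g⟩ = b x) {k : N} (hk : k ∈ stab R b) :
    g * k * g⁻¹ ∈ stab R a := by
  have h1 : ∀ x : R, b ⟨g⁻¹ * x * g⁻¹⁻¹, hR.conj_mem x x.2 g⁻¹⟩ = a x := by
    intro x
    rw [← h]
    congr 1
    apply Subtype.ext
    show g * (g⁻¹ * x * g⁻¹⁻¹) * g⁻¹ = x
    group
  have h2 := stab_conj h1 hk
  rwa [inv_inv] at h2

end Stab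

section Points

variable {N : Type u} [Group N] [Finite N] {C : Type v} [Group C] {Ω : Type*} [MulAction C Ω]

/-- The stabilizers have a unique fixed point. -/
theorem points (R : Subgroup N) [hR : R.Normal] {E : N → ℂ} (hE : IsCharacter N E) {n : ℕ}
    (hn : E 1 = n) (ρ : N →* C) {ι : Type w} [Fintype ι] (π : ι → R → ℂ)
    (hirr : ∀ i, IsIrrCharacter R (π i)) (hinj : Function.Injective π) (z : Ω)
    (hz : ∀ i, ∀ g ∈ stab R (π i), ρ g • z = z)
    (huniq : ∀ i y, (∀ g ∈ stab R (π i), ρ g • y = y) → y = z)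
    (μ d : ι → ℕ) (hd : ∀ i, π i 1 = d i)
    (hμ : ∀ [Fintype R] i, ∃ k : ℕ, μ i ≤ k ∧ classInner (fun x : R => E x) (π i) = k) :
    ((MulAction.stabilizer C z).comap ρ).index * ∑ i, μ i * d i ≤ n := by
  refine ti_count R hE hn _ π hirr hinj ?_ μ d hd hμ
  intro g i j h
  show ρ g ∈ MulAction.stabilizer C z
  rw [MulAction.mem_stabilizer_iff]
  refine huniq i _ fun k hk => ?_
  have h1 := hz j _ (stab_conj h hk)
  rw [map_mul, map_mul, map_inv, mul_smul, mul_smul, inv_smul_eq_iff] at h1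
  exact h1

end Points

section Tori

open Cfsg.Agent.Classification.InvCent

variable {C : Type v} [Group C] {q : ℕ} {δ : ℤ} {Z T : Subgroup C} {s : C}

theorem mem_normalizer_iff (h : Torus q δ Z T s) (hTZ : ¬ T ≤ Z) {g : C} :
    g ∈ Subgroup.normalizer (T : Set C) ↔ g ∈ T ∨ s * g ∈ T := by
  have hs : s⁻¹ = s := inv_eq_of_mul_eq_one_left h.s_sq
  have hsN : s ∈ Subgroup.normalizer (T : Set C) := by
    rw [Subgroup.mem_normalizer_iff]
    intro x
    constructor
    · exact fun hx => h.s_conj x hx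
    · intro hx
      have h1 := h.s_conj _ hx
      rw [hs] at h1
      have h2 : s * (s * x * s) * s = x := by
        calc s * (s * x * s) * s = (s * s) * x * (s * s) := by group
          _ = x := by rw [h.s_sq, one_mul, mul_one]
      rwa [h2] at h1
  constructor
  · intro hg
    obtain ⟨x, hx, hxZ⟩ := Set.not_subset.1 hTZ
    exact h.fus x hx hxZ g ((Subgroup.mem_normalizer_iff.1 hg x).1 hx)
  · rintro (hg | hg)
    · exact Subgroup.le_normalizer hg
    · have h1 := Subgroup.mul_mem _ (Subgroup.inv_mem _ hsN) (Subgroup.le_normalizer hg)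
      rwa [inv_mul_cancel_left] at h1

theorem mem_of_odd (h : Torus q δ Z T s) (hTZ : ¬ T ≤ Z) {g : C}
    (hg : g ∈ Subgroup.normalizer (T : Set C)) (ho : Odd (orderOf g)) : g ∈ T := by
  rcases (mem_normalizer_iff h hTZ).1 hg with h1 | h1
  · exact h1
  have hs : s⁻¹ = s := inv_eq_of_mul_eq_one_left h.s_sq
  -- `g ^ 2 ∈ T`
  have h2 : g * g ∈ T := by
    have h3 := h.s_conj _ h1
    have h4 := T.mul_mem h3 h1
    have h5 : s * (s * g) * s⁻¹ * (s * g) = g * g := by
      rw [hs]
      calc s * (s * g) * s * (s * g) = (s * s) * g * ((s * s) * g) := by group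
        _ = g * g := by rw [h.s_sq, one_mul]
    rwa [h5] at h4
  obtain ⟨k, hk⟩ := ho
  have h3 : g ^ (2 * (k + 1)) = g := by
    have h4 : 2 * (k + 1) = orderOf g + 1 := by omega
    rw [h4, pow_succ, pow_orderOf_eq_one, one_mul]
  rw [← h3, pow_mul, sq]
  exact T.pow_mem h2 _

/-- The index of the normalizer of the torus. -/
theorem card_normalizer [Finite C] (h : Torus q δ Z T s) (hTZ : ¬ T ≤ Z) :
    Nat.card (Subgroup.normalizer (T : Set C)) = 2 * Nat.card T := by
  classical
  set M := Subgroup.normalizer (T : Set C) with hM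
  have hTM : T ≤ M := Subgroup.le_normalizer
  have hsM : s ∈ M := by
    rw [hM, mem_normalizer_iff h hTZ]
    right
    rw [h.s_sq]
    exact T.one_mem
  have h1 : (T.subgroupOf M).index = 2 := by
    rw [Subgroup.index_eq_two_iff]
    refine ⟨⟨s, hsM⟩, fun b => ?_⟩
    have hb := (mem_normalizer_iff h hTZ).1 b.2
    have hs : s⁻¹ = s := inv_eq_of_mul_eq_one_left h.s_sq
    rw [Subgroup.mem_subgroupOf, Subgroup.mem_subgroupOf]
    show Xor ((b : C) * s ∈ T) ((b : C) ∈ T)
    have h2 : (b : C) * s ∈ T ↔ s * (b : C) ∈ T := by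
      constructor
      · intro h3
        have h4 := h.s_conj _ h3
        have h5 : s * ((b : C) * s) * s⁻¹ = s * b := by group
        rwa [h5] at h4
      · intro h3
        have h4 := h.s_conj _ h3
        have h5 : s * (s * (b : C)) * s⁻¹ = b * s := by
          rw [hs]
          calc s * (s * (b : C)) * s = (s * s) * b * s := by group
            _ = b * s := by rw [h.s_sq, one_mul]
        rwa [h5] at h4
    rw [h2]
    by_cases h3 : (b : C) ∈ T
    · right
      refine ⟨h3, fun h4 => h.s_notMem ?_⟩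
      exact (T.mul_mem_cancel_right h3).1 h4
    · left
      exact ⟨hb.resolve_left h3, h3⟩
  have h2 := (T.subgroupOf M).index_mul_card
  rw [h1, Nat.card_congr (Subgroup.subgroupOfEquivOfLe hTM).toEquiv] at h2
  exact h2.symm

theorem two_mul_index [Finite C] (h : Torus q δ Z T s) (hTZ : ¬ T ≤ Z)
    (hC : Nat.card C = Nat.card Z * (q * (q ^ 2 - 1))) (hq : 1 < q) :
    2 * ((Subgroup.normalizer (T : Set C)).index : ℤ) = q * (q + δ) := by
  have h1 := (Subgroup.normalizer (T : Set C)).index_mul_card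
  rw [card_normalizer h hTZ, hC] at h1
  have h2 : (1 : ℕ) ≤ q ^ 2 := Nat.one_le_pow _ _ (by omega)
  have h3 : ((Subgroup.normalizer (T : Set C)).index : ℤ) * (2 * (Nat.card Z * (q - δ))) =
      Nat.card Z * (q * (q ^ 2 - 1)) := by
    rw [← h.card]
    have h4 : (((Subgroup.normalizer (T : Set C)).index * (2 * Nat.card T) : ℕ) : ℤ) =
        ((Nat.card Z * (q * (q ^ 2 - 1)) : ℕ) : ℤ) := by rw [h1]
    push_cast [Nat.cast_sub h2] at h4
    exact h4
  have h4 : (0 : ℤ) < Nat.card Z := by exact_mod_cast Nat.card_pos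
  have hq' : (1 : ℤ) < q := by exact_mod_cast hq
  have h5 : (0 : ℤ) < q - δ := by rcases h.sign with h6 | h6 <;> rw [h6] <;> linarith
  have h6 : (Nat.card Z : ℤ) * (q - δ) ≠ 0 := (mul_pos h4 h5).ne'
  have h7 : δ ^ 2 = 1 := by rcases h.sign with h8 | h8 <;> rw [h8] <;> norm_num
  refine mul_right_cancel₀ h6 ?_
  linear_combination h3 + (Nat.card Z : ℤ) * q * h7

variable {N : Type u} [Group N] [Finite N]

/-- The stabilizers are in the normalizer of a torus. -/
theorem tori (h : Torus q δ Z T s) (hTZ : ¬ T ≤ Z) (R : Subgroup N) [hR : R.Normal] {E : N → ℂ}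
    (hE : IsCharacter N E) {n : ℕ} (hn : E 1 = n) (ρ : N →* C) {ι : Type w} [Fintype ι]
    (π : ι → R → ℂ) (hirr : ∀ i, IsIrrCharacter R (π i)) (hinj : Function.Injective π)
    (hst : ∀ i, ∀ g ∈ stab R (π i), ρ g ∈ Subgroup.normalizer (T : Set C)) {x : N}
    (hxo : Odd (orderOf (ρ x))) (hxT : ρ x ∈ T) (hxZ : ρ x ∉ Z) (hx : ∀ i, x ∈ stab R (π i))
    (μ d : ι → ℕ) (hd : ∀ i, π i 1 = d i)
    (hμ : ∀ [Fintype R] i, ∃ k : ℕ, μ i ≤ k ∧ classInner (fun x : R => E x) (π i) = k) :
    ((Subgroup.normalizer (T : Set C)).comap ρ).index * ∑ i, μ i * d i ≤ n := by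
  refine ti_count R hE hn _ π hirr hinj ?_ μ d hd hμ
  intro g i j hg
  show ρ g ∈ Subgroup.normalizer (T : Set C)
  have h1 := hst i _ (stab_conj' hg (hx j))
  rw [map_mul, map_mul, map_inv] at h1
  have h2 : Odd (orderOf (ρ g * ρ x * (ρ g)⁻¹)) := by
    have h3 : orderOf (ρ g * ρ x * (ρ g)⁻¹) = orderOf (ρ x) :=
      (SemiconjBy.orderOf_eq (ρ g) (x := ρ x) (y := ρ g * ρ x * (ρ g)⁻¹)
        (by simp [SemiconjBy])).symm
    rw [h3]
    exact hxo
  have h3 := mem_of_odd h hTZ h1 h2
  rw [mem_normalizer_iff h hTZ]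
  exact h.fus _ hxT hxZ _ h3

/-- A single character whose stabilizer is a proper subgroup of the normalizer of a torus. -/
theorem torus_proper [Finite C] (R : Subgroup N) [hR : R.Normal] {E : N → ℂ}
    (hE : IsCharacter N E) {n : ℕ} (hn : E 1 = n) (ρ : N →* C) (hρ : Function.Surjective ρ)
    {π : R → ℂ} (hirr : IsIrrCharacter R π) {M : Subgroup C}
    (hst : ∀ g ∈ stab R π, ρ g ∈ M) {a : C} (ha : a ∈ M) (ha' : ∀ g ∈ stab R π, ρ g ≠ a)
    (hμ : ∀ [Fintype R], ∃ k : ℕ, 1 ≤ k ∧ classInner (fun x : R => E x) π = k) :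
    2 * M.index ≤ n := by
  classical
  have hM : (stab R π).map ρ ≤ M := by
    rintro _ ⟨g, hg, rfl⟩
    exact hst g hg
  obtain ⟨d, hd0, hd⟩ := Core.isIrr_apply_one hirr
  have h1 := ti_count R hE hn (((stab R π).map ρ).comap ρ) (ι := Unit) (fun _ => π)
    (fun _ => hirr) (fun _ _ _ => rfl) (fun g _ _ h => ⟨g, h, rfl⟩) (fun _ => 1) (fun _ => d)
    (fun _ => hd) (fun _ => hμ)
  rw [Subgroup.index_comap_of_surjective _ hρ, Fintype.sum_unique, one_mul] at h1
  have h2 : 2 * M.index ≤ ((stab R π).map ρ).index := by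
    have h3 := Subgroup.relIndex_mul_index hM
    rw [← h3]
    refine Nat.mul_le_mul_right _ ?_
    by_contra hcon
    push Not at hcon
    have h4 : ((stab R π).map ρ).relIndex M ≠ 0 := Subgroup.index_ne_zero_of_finite
    have h5 : ((stab R π).map ρ).relIndex M = 1 := by omega
    obtain ⟨g, hg, hga⟩ := Subgroup.relIndex_eq_one.1 h5 ha
    exact ha' g hg hga
  exact h2.trans ((Nat.le_mul_of_pos_right _ hd0).trans h1)

end Tori

end Cfsg.Agent.Classification.QDW.FuTI
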