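import Mathlib
import Cfsg.Prelude.Def_Characters
import Cfsg.Agent.Characters.Core
import Cfsg.Agent.Characters.Clifford
import Cfsg.Agent.Characters.Linear
import Cfsg.Agent.Classification.QDW.CoreConst
import Cfsg.Agent.Classification.QDW.GlauberTwo

/-!
# Glauberman correspondents for an involution: multiplicities

* `OddC j θ χ`: `χ` is irreducible on `F` and `θ ∘ j = χ + 2 φ` with a character `φ` of `F`; `χ` is
  the only irreducible constituent of odd multiplicity of `θ` on `F`;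
* `exists_ext_of_inner`: a constituent of `w ↦ E (s w)` on `Fix Y s` comes from an invariant
  irreducible character of `Y`, with at least the same multiplicity;
* `exists_mult`: the same for an odd subgroup `R` of any group normalised by the involution `s`.
-/

set_option autoImplicit false
set_option linter.unusedSectionVars false

namespace Cfsg.Agent.Classification.QDW.GlauberMult

open Cfsg Cfsg.Agent.Characters Cfsg.Agent.Classification.BGOrder
open Cfsg.Agent.Classification.QDW.GlauberTwo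
open scoped ComplexConjugate

universe u v w

section OddC

variable {F : Type u} [Group F] {R : Type v} [Group R]

/-- `χ` is the constituent of odd multiplicity of `θ ∘ j`. -/
def OddC (j : F →* R) (θ : R → ℂ) (χ : F → ℂ) : Prop :=
  IsIrrCharacter F χ ∧ ∃ φ : F → ℂ, IsCharacter F φ ∧ ∀ w, θ (j w) = χ w + 2 * φ w

theorem OddC.unique [Finite F] {j : F →* R} {θ : R → ℂ} {χ χ' : F → ℂ} (h : OddC j θ χ)
    (h' : OddC j θ χ') : χ = χ' := by
  classical
  let _ : Fintype F := Fintype.ofFinite _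
  obtain ⟨hχ, φ, hφ, hθ⟩ := h
  obtain ⟨hχ', φ', hφ', hθ'⟩ := h'
  by_contra hne
  obtain ⟨n, hn⟩ := Core.classInner_isNat hφ (Core.isIrr_isCharacter hχ)
  obtain ⟨m, hm⟩ := Core.classInner_isNat hφ' (Core.isIrr_isCharacter hχ)
  have h1 : χ + (2 : ℂ) • φ = χ' + (2 : ℂ) • φ' := by
    funext w
    simp only [Pi.add_apply, Pi.smul_apply, smul_eq_mul]
    rw [← hθ w, ← hθ' w]
  have h2 := congrArg (fun f => classInner f χ) h1
  simp only [Core.classInner_add_left, Core.classInner_smul_left] at h2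
  rw [Core.classInner_irr_self hχ, Core.classInner_irr_ne hχ' hχ (Ne.symm hne), hn, hm] at h2
  have h3 : 1 + 2 * n = 0 + 2 * m := by exact_mod_cast h2
  omega

/-- A linear character restricts to its correspondent. -/
theorem OddC.linear {j : F →* R} {θ : R → ℂ} {χ : F → ℂ} (h : OddC j θ χ) (h1 : θ 1 = 1) :
    ∀ w, θ (j w) = χ w := by
  obtain ⟨hχ, φ, hφ, hθ⟩ := h
  have h2 := hθ 1
  rw [map_one, h1] at h2
  obtain ⟨a, ha, hχ1⟩ := Core.isIrr_apply_one hχ
  obtain ⟨b, hφ1⟩ := Core.isCharacter_apply_one hφ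
  rw [hχ1, hφ1] at h2
  have h3 : 1 = a + 2 * b := by exact_mod_cast h2
  have hb : b = 0 := by omega
  rw [hb, Nat.cast_zero] at hφ1
  obtain ⟨n, ρ, rfl⟩ := hφ
  intro w
  rw [hθ w]
  have h4 : ρ.character w = 0 := by
    have h5 : (Module.finrank ℂ (Fin n → ℂ) : ℂ) = 0 := by
      rw [← hφ1]
      exact (Representation.char_one ρ).symm
    have h6 : Module.finrank ℂ (Fin n → ℂ) = 0 := by exact_mod_cast h5
    have : Subsingleton (Fin n → ℂ) := Module.finrank_zero_iff.1 h6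
    have h7 : ρ w = 0 := by
      ext x
      exact congrFun (Subsingleton.elim _ _) _
    show LinearMap.trace ℂ _ (ρ w) = 0
    rw [h7, map_zero]
  rw [h4]
  ring

theorem OddC.comp {F' : Type w} [Group F'] {R' : Type*} [Group R'] {j : F →* R} {θ : R → ℂ}
    {χ : F → ℂ} (h : OddC j θ χ) (j' : F' →* R') (α : R' → R) (β : F' →* F)
    (hβ : Function.Surjective β) (hj : ∀ w, α (j' w) = j (β w)) :
    OddC j' (fun x => θ (α x)) (fun w => χ (β w)) := by
  obtain ⟨hχ, φ, hφ, hθ⟩ := h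
  refine ⟨Core.isIrr_comp β hβ hχ, fun w => φ (β w), Core.isCharacter_comp β hφ, fun w => ?_⟩
  show θ (α (j' w)) = χ (β w) + 2 * φ (β w)
  rw [hj, hθ]

end OddC

section Ext

variable {Γ : Type u} [Group Γ] {Y : Subgroup Γ} {s : Γ}

/-- An irreducible character of `Γ` is irreducible on `Y` or vanishes off `Y`. -/
theorem irr_or_vanish [Finite Γ] (h : Setup Y s) {ψ : Γ → ℂ} (hψ : IsIrrCharacter Γ ψ) :
    IsIrrCharacter Y (fun y => ψ y) ∨ ∀ x, x ∉ Y → ψ x = 0 := by
  classical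
  let _ : Fintype Γ := Fintype.ofFinite _
  let _ : Fintype Y := Fintype.ofFinite _
  have hcl := Core.isIrr_isClassFunction hψ
  by_cases hne : ψ = ψ * sgn Y
  · right
    intro x hx
    have h2 := congrFun hne x
    rw [Pi.mul_apply, sgn_of_not_mem hx] at h2
    linear_combination h2 / 2
  · left
    refine Core.isIrr_of_classInner_self (Core.isCharacter_comp Y.subtype
      (Core.isIrr_isCharacter hψ)) ?_
    have h1 := classInner_add_sgn h hcl hcl
    rw [Core.classInner_irr_self hψ, Core.classInner_irr_ne hψ (isIrr_mul_sgn h hψ) hne,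
      add_zero] at h1
    exact h1.symm

/-- The invariant character of `Y` under a constituent of `w ↦ E (s w)`. -/
theorem exists_ext_of_inner [Finite Γ] [Fintype Y] [Fintype (Fix Y s)] (h : Setup Y s)
    {E : Γ → ℂ} (hE : IsCharacter Γ E) {χ : Fix Y s → ℂ} (hχ : IsIrrCharacter (Fix Y s) χ)
    (hne : classInner (fun w : Fix Y s => E (s * w)) χ ≠ 0) :
    ∃ ψ : Γ → ℂ, IsIrrCharacter Γ ψ ∧ IsIrrCharacter Y (fun y => ψ y) ∧
      (∀ w : Fix Y s, ψ (s * w) = χ w) ∧ ∃ n : ℕ,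
      classInner (fun y : Y => E y) (fun y => ψ y) = n ∧
      ∃ m : ℤ, classInner (fun w : Fix Y s => E (s * w)) χ = m ∧ |m| ≤ n := by
  classical
  let _ : Fintype Γ := Fintype.ofFinite _
  have := Core.finite_irr (G := Γ)
  let _ : Fintype (IrrCharacter Γ) := Fintype.ofFinite _
  obtain ⟨c, hc⟩ := Core.exists_nat_comb hE
  have hex : ∃ φ : IrrCharacter Γ,
      classInner (fun w : Fix Y s => (φ : Γ → ℂ) (s * w)) χ ≠ 0 := by
    by_contra hcon
    push Not at hcon
    apply hne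
    have h1 : (fun w : Fix Y s => E (s * w)) =
        ∑ φ : IrrCharacter Γ, ((c φ : ℕ) : ℂ) • fun w : Fix Y s => (φ : Γ → ℂ) (s * w) := by
      funext w
      rw [hc]
      simp [Finset.sum_apply]
    rw [h1, Core.classInner_sum_left]
    refine Finset.sum_eq_zero fun φ _ => ?_
    rw [Core.classInner_smul_left, hcon, mul_zero]
  obtain ⟨φ, hφ⟩ := hex
  have hφi : IsIrrCharacter Γ (φ : Γ → ℂ) := φ.2
  have hφY : IsIrrCharacter Y (fun y => (φ : Γ → ℂ) y) := by
    refine (irr_or_vanish h hφi).resolve_right fun h1 => hφ ?_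
    have h2 : (fun w : Fix Y s => (φ : Γ → ℂ) (s * w)) = 0 := by
      funext w
      exact h1 _ (fun h3 => (mul_mem_iff h _).1 h3 (mem_fix.1 w.2).1)
    rw [h2, Core.classInner_zero_left]
  have hsg := signed h hφi hφY
  have hψ : ∃ ψ : Γ → ℂ, IsIrrCharacter Γ ψ ∧ IsIrrCharacter Y (fun y => ψ y) ∧
      ∀ w : Fix Y s, ψ (s * w) = χ w := by
    rcases hsg with hp | hm
    · refine ⟨φ, hφi, hφY, fun w => ?_⟩
      by_contra hw
      refine hφ (Core.classInner_irr_ne hp hχ fun h1 => hw ?_)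
      exact congrFun h1 w
    · refine ⟨(φ : Γ → ℂ) * sgn Y, isIrr_mul_sgn h hφi, ?_, fun w => ?_⟩
      · have h1 : (fun y : Y => ((φ : Γ → ℂ) * sgn Y) y) = fun y : Y => (φ : Γ → ℂ) y := by
          funext y
          rw [Pi.mul_apply, sgn_of_mem y.2, mul_one]
        rw [h1]
        exact hφY
      · have h2 : (-fun w : Fix Y s => (φ : Γ → ℂ) (s * w)) = χ := by
          by_contra hw
          have h3 := Core.classInner_irr_ne hm hχ hw
          rw [Core.classInner_neg_left, neg_eq_zero] at h3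
          exact hφ h3
        rw [← h2, Pi.mul_apply, sgn_of_not_mem (fun h3 => (mul_mem_iff h _).1 h3
          (mem_fix.1 w.2).1), Pi.neg_apply]
        ring
  obtain ⟨ψ, hψi, hψY, hψw⟩ := hψ
  have hEc := Core.isCharacter_isClassFunction hE
  have hψc := Core.isIrr_isClassFunction hψi
  have ha := classInner_add_sgn h hEc hψc
  have hs := classInner_sub_sgn h hEc hψc
  obtain ⟨a, ha'⟩ := Core.classInner_isNat hE (Core.isIrr_isCharacter hψi)
  obtain ⟨b, hb'⟩ := Core.classInner_isNat hE (Core.isIrr_isCharacter (isIrr_mul_sgn h hψi))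
  have h5 : (fun w : Fix Y s => ψ (s * w)) = χ := funext hψw
  rw [h5] at hs
  refine ⟨ψ, hψi, hψY, hψw, a + b, ?_, (a : ℤ) - b, ?_, ?_⟩
  · rw [← ha, ha', hb']
    push_cast
    ring
  · rw [← hs, ha', hb']
    push_cast
    ring
  · push_cast
    rw [abs_le]
    constructor <;> omega

/-- The value of the invariant character on `Fix Y s`. -/
theorem oddC_of_ext [Finite Γ] (h : Setup Y s) {ψ : Γ → ℂ} (hψ : IsCharacter Γ ψ)
    {χ : Fix Y s → ℂ} (hχ : IsIrrCharacter (Fix Y s) χ) (hw : ∀ w : Fix Y s, ψ (s * w) = χ w) :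
    OddC (Subgroup.inclusion (inf_le_left : Fix Y s ≤ Y)) (fun y : Y => ψ y) χ := by
  obtain ⟨χ₀, χ₁, h0, h1, h2, h3⟩ := exists_eigen_split h.sq hψ
  have hle : Fix Y s ≤ Subgroup.centralizer ({s} : Set Γ) := inf_le_right
  refine ⟨hχ, χ₁ ∘ Subgroup.inclusion hle, Core.isCharacter_comp _ h1, fun w => ?_⟩
  have h4 : ψ (s * (w : Γ)) = χ₀ (Subgroup.inclusion hle w) - χ₁ (Subgroup.inclusion hle w) :=
    h3 (Subgroup.inclusion hle w)
  have h5 : ψ (w : Γ) = χ₀ (Subgroup.inclusion hle w) + χ₁ (Subgroup.inclusion hle w) :=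
    h2 (Subgroup.inclusion hle w)
  have h6 : ψ (s * (w : Γ)) = χ w := hw w
  show ψ (w : Γ) = χ w + 2 * χ₁ (Subgroup.inclusion hle w)
  rw [h5, ← h6, h4]
  ring

end Ext

section Over

variable {Γ : Type u} [Group Γ] {R : Subgroup Γ} {s : Γ}

/-- The involution `s` normalises the subgroup `R` of odd order. -/
structure Act (R : Subgroup Γ) (s : Γ) : Prop where
  odd : Odd (Nat.card R)
  sq : s * s = 1
  ne : s ≠ 1
  norm : ∀ x ∈ R, s * x * s⁻¹ ∈ R

theorem Act.inv_eq (h : Act R s) : s⁻¹ = s := inv_eq_of_mul_eq_one_left h.sq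

theorem Act.not_mem (h : Act R s) : s ∉ R := by
  intro hs
  obtain ⟨k, hk⟩ := h.odd
  have h1 : s ^ Nat.card R = 1 := congrArg Subtype.val (pow_card_eq_one' (x := (⟨s, hs⟩ : R)))
  rw [hk, pow_succ, pow_mul, pow_two, h.sq, one_pow, one_mul] at h1
  exact h.ne h1

/-- The group `R ⟨s⟩`. -/
def RS (h : Act R s) : Subgroup Γ where
  carrier := {x | x ∈ R ∨ s * x ∈ R}
  one_mem' := Or.inl R.one_mem
  mul_mem' := by
    have key : ∀ x, x ∈ R → s * x * s ∈ R := by
      intro x hx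
      have := h.norm x hx
      rwa [h.inv_eq] at this
    rintro a b (ha | ha) (hb | hb)
    · exact Or.inl (R.mul_mem ha hb)
    · right
      have h2 : s * (a * b) = (s * a * s) * (s * b) := by
        have : s * a * s * (s * b) = s * a * (s * s) * b := by group
        rw [this, h.sq, mul_one, mul_assoc]
      rw [h2]
      exact R.mul_mem (key a ha) hb
    · right
      rw [← mul_assoc]
      exact R.mul_mem ha hb
    · left
      have h2 : a * b = (s * (s * a) * s) * (s * b) := by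
        have : (s * (s * a) * s) * (s * b) = (s * s) * a * (s * s) * b := by group
        rw [this, h.sq, mul_one, one_mul]
      rw [h2]
      exact R.mul_mem (key _ ha) hb
  inv_mem' := by
    have key : ∀ x, x ∈ R → s * x * s ∈ R := by
      intro x hx
      have := h.norm x hx
      rwa [h.inv_eq] at this
    rintro a (ha | ha)
    · exact Or.inl (R.inv_mem ha)
    · right
      have h2 : s * a⁻¹ = s * (s * a)⁻¹ * s := by
        rw [mul_inv_rev, h.inv_eq, ← mul_assoc, mul_assoc (s * a⁻¹), h.sq, mul_one]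
      rw [h2]
      exact key _ (R.inv_mem ha)

theorem mem_RS (h : Act R s) {x : Γ} : x ∈ RS h ↔ x ∈ R ∨ s * x ∈ R := Iff.rfl

theorem s_mem_RS (h : Act R s) : s ∈ RS h := Or.inr (by rw [h.sq]; exact R.one_mem)

theorem le_RS (h : Act R s) : R ≤ RS h := fun _ hx => Or.inl hx

theorem setup (h : Act R s) : Setup (R.subgroupOf (RS h)) ⟨s, s_mem_RS h⟩ where
  normal := by
    constructor
    rintro ⟨n, hn0⟩ hn ⟨g, hg⟩
    rw [Subgroup.mem_subgroupOf] at hn ⊢
    show g * n * g⁻¹ ∈ R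
    have hn' : n ∈ R := hn
    rcases hg with hg | hg
    · exact R.mul_mem (R.mul_mem hg hn') (R.inv_mem hg)
    · have h1 : g = s * (s * g) := by rw [← mul_assoc, h.sq, one_mul]
      have h2 : g * n * g⁻¹ = s * ((s * g) * n * (s * g)⁻¹) * s⁻¹ := by
        conv_lhs => rw [h1]
        group
      rw [h2]
      exact h.norm _ (R.mul_mem (R.mul_mem hg hn') (R.inv_mem hg))
  odd := by
    rw [Nat.card_congr (Subgroup.subgroupOfEquivOfLe (le_RS h)).toEquiv]
    exact h.odd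
  sq := Subtype.ext h.sq
  not_mem := fun h1 => h.not_mem (Subgroup.mem_subgroupOf.1 h1)
  cover := by
    rintro ⟨x, hx⟩ hxR
    rw [Subgroup.mem_subgroupOf] at hxR ⊢
    exact hx.resolve_left hxR

/-- `Fix R s` as a subgroup of `R ⟨s⟩`. -/
def fixHom (h : Act R s) :
    Fix R s →* Fix (R.subgroupOf (RS h)) (⟨s, s_mem_RS h⟩ : RS h) where
  toFun w := ⟨⟨w, le_RS h (mem_fix.1 w.2).1⟩, mem_fix.2 ⟨(mem_fix.1 w.2).1,
    Subtype.ext (mem_fix.1 w.2).2⟩⟩
  map_one' := rfl
  map_mul' _ _ := rfl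

/-- The inverse. -/
def fixInv (h : Act R s) :
    Fix (R.subgroupOf (RS h)) (⟨s, s_mem_RS h⟩ : RS h) →* Fix R s where
  toFun w := ⟨(w : RS h), mem_fix.2 ⟨(mem_fix.1 w.2).1,
    congrArg Subtype.val (mem_fix.1 w.2).2.eq⟩⟩
  map_one' := rfl
  map_mul' _ _ := rfl

theorem fixInv_fixHom (h : Act R s) (w : Fix R s) : fixInv h (fixHom h w) = w := rfl

theorem fixHom_fixInv (h : Act R s) (w : Fix (R.subgroupOf (RS h)) (⟨s, s_mem_RS h⟩ : RS h)) :
    fixHom h (fixInv h w) = w := rfl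

/-- `Fix R s`, seen in `Γ` and in `R ⟨s⟩`. -/
def fixEquiv (h : Act R s) :
    Fix R s ≃* Fix (R.subgroupOf (RS h)) (⟨s, s_mem_RS h⟩ : RS h) where
  toFun := fixHom h
  invFun := fixInv h
  left_inv _ := rfl
  right_inv _ := rfl
  map_mul' := (fixHom h).map_mul

/-- `R`, seen in `Γ` and in `R ⟨s⟩`. -/
def subEquiv (h : Act R s) : R ≃* R.subgroupOf (RS h) :=
  (Subgroup.subgroupOfEquivOfLe (le_RS h)).symm

theorem coe_subEquiv (h : Act R s) (x : R) : ((subEquiv h x : RS h) : Γ) = x := rfl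

/-- The inclusion of the fixed points. -/
abbrev jFix (R : Subgroup Γ) (s : Γ) : Fix R s →* R :=
  Subgroup.inclusion (inf_le_left : Fix R s ≤ R)

/-- **Multiplicities of the Glauberman correspondents.** -/
theorem exists_mult' [Finite Γ] [Fintype R] [Fintype (Fix R s)] (h : Act R s) {E : Γ → ℂ}
    (hE : IsCharacter Γ E) {χ : Fix R s → ℂ} (hχ : IsIrrCharacter (Fix R s) χ)
    (hne : classInner (fun w : Fix R s => E (s * w)) χ ≠ 0) :
    ∃ θ : R → ℂ, IsIrrCharacter R θ ∧ (∀ x : R, θ ⟨s * x * s⁻¹, h.norm x x.2⟩ = θ x) ∧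
      OddC (jFix R s) θ χ ∧ ∃ n : ℕ, classInner (fun x : R => E x) θ = n ∧
      ∃ c : ℤ, classInner (fun w : Fix R s => E (s * w)) χ = c ∧ |c| ≤ n := by
  classical
  let _ : Fintype (RS h) := Fintype.ofFinite _
  let _ : Fintype (R.subgroupOf (RS h)) := Fintype.ofFinite _
  let _ : Fintype (Fix (R.subgroupOf (RS h)) (⟨s, s_mem_RS h⟩ : RS h)) := Fintype.ofFinite _
  have hE' : IsCharacter (RS h) (fun x => E x) := Core.isCharacter_comp (RS h).subtype hE
  have hχ' : IsIrrCharacter _ (fun w => χ (fixInv h w)) :=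
    Core.isIrr_comp (fixInv h) (fixEquiv h).symm.surjective hχ
  have hc' : classInner (fun w : Fix (R.subgroupOf (RS h)) (⟨s, s_mem_RS h⟩ : RS h) =>
      E ((⟨s, s_mem_RS h⟩ * w : RS h) : Γ)) (fun w => χ (fixInv h w)) =
      classInner (fun w : Fix R s => E (s * w)) χ :=
    Clifford.classInner_comp_mulEquiv (fixEquiv h).symm (fun w : Fix R s => E (s * w)) χ
  obtain ⟨ψ, hψ, hψY, hψw, n, hn, m, hm, hmn⟩ := exists_ext_of_inner (setup h) hE' hχ' (by
    rw [hc']
    exact hne)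
  refine ⟨fun x => ψ (subEquiv h x), Core.isIrr_comp (subEquiv h).toMonoidHom
    (subEquiv h).surjective hψY, ?_, ?_, n, ?_, m, ?_, hmn⟩
  · intro x
    exact Core.isIrr_isClassFunction hψ (subEquiv h x) ⟨s, s_mem_RS h⟩
  · have h1 := oddC_of_ext (setup h) (Core.isIrr_isCharacter hψ) hχ' hψw
    exact h1.comp (jFix R s) (subEquiv h) (fixHom h) (fixEquiv h).surjective (fun w => rfl)
  · rw [← hn]
    exact Clifford.classInner_comp_mulEquiv (subEquiv h)
      (fun y : R.subgroupOf (RS h) => E ((y : RS h) : Γ)) (fun y => ψ y)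
  · rw [← hc']
    exact hm

theorem exists_mult [Finite Γ] [Fintype R] [Fintype (Fix R s)] (h : Act R s) {E : Γ → ℂ}
    (hE : IsCharacter Γ E) {χ : Fix R s → ℂ} (hχ : IsIrrCharacter (Fix R s) χ) {c : ℤ}
    (hc : classInner (fun w : Fix R s => E (s * w)) χ = c) (hc0 : c ≠ 0) :
    ∃ θ : R → ℂ, IsIrrCharacter R θ ∧ (∀ x : R, θ ⟨s * x * s⁻¹, h.norm x x.2⟩ = θ x) ∧
      OddC (jFix R s) θ χ ∧ ∃ n : ℕ, classInner (fun x : R => E x) θ = n ∧ |c| ≤ n := by
  obtain ⟨θ, h1, h2, h3, n, h4, m, h5, h6⟩ := exists_mult' h hE hχ (by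
    rw [hc]
    exact_mod_cast hc0)
  have hmc : m = c := by
    rw [hc] at h5
    exact_mod_cast h5.symm
  subst hmc
  exact ⟨θ, h1, h2, h3, n, h4, h6⟩

/-- The extension to `R ⟨s⟩` and its sign. -/
theorem exists_ext_sign [Finite Γ] (h : Act R s) {θ : R → ℂ} {χ : Fix R s → ℂ}
    (hθ : IsIrrCharacter R θ) (hinv : ∀ x : R, θ ⟨s * x * s⁻¹, h.norm x x.2⟩ = θ x)
    (hχ : OddC (jFix R s) θ χ) :
    ∃ ψ : RS h → ℂ, IsIrrCharacter (RS h) ψ ∧ (∀ x, ψ (subEquiv h x) = θ x) ∧
      ((∀ w : Fix (R.subgroupOf (RS h)) (⟨s, s_mem_RS h⟩ : RS h),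
        ψ (⟨s, s_mem_RS h⟩ * w) = χ (fixInv h w)) ∨
      (∀ w : Fix (R.subgroupOf (RS h)) (⟨s, s_mem_RS h⟩ : RS h),
        ψ (⟨s, s_mem_RS h⟩ * w) = -χ (fixInv h w))) := by
  have hθ₁ : IsIrrCharacter (R.subgroupOf (RS h)) (fun y => θ ((subEquiv h).symm y)) :=
    Core.isIrr_comp (subEquiv h).symm.toMonoidHom (subEquiv h).symm.surjective hθ
  obtain ⟨ψ, hψ, hψθ⟩ := GlauberTwo.exists_ext (setup h) hθ₁
    (fun y => hinv ((subEquiv h).symm y))
  have hψY : IsIrrCharacter (R.subgroupOf (RS h)) (fun y => ψ y) := by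
    have h1 : (fun y : R.subgroupOf (RS h) => ψ y) = fun y => θ ((subEquiv h).symm y) :=
      funext hψθ
    rw [h1]
    exact hθ₁
  refine ⟨ψ, hψ, fun x => ?_, ?_⟩
  · have h1 := hψθ (subEquiv h x)
    rw [MulEquiv.symm_apply_apply] at h1
    exact h1
  have key : ∀ ψ' : RS h → ℂ, IsCharacter (RS h) ψ' →
      (∀ y : R.subgroupOf (RS h), ψ' y = θ ((subEquiv h).symm y)) →
      IsIrrCharacter _ (fun w : Fix (R.subgroupOf (RS h)) (⟨s, s_mem_RS h⟩ : RS h) =>
        ψ' (⟨s, s_mem_RS h⟩ * w)) →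
      ∀ w : Fix (R.subgroupOf (RS h)) (⟨s, s_mem_RS h⟩ : RS h),
        ψ' (⟨s, s_mem_RS h⟩ * w) = χ (fixInv h w) := by
    intro ψ' hψ' hψθ' hirr
    have h2 := oddC_of_ext (setup h) hψ' hirr (fun w => rfl)
    have h3 := h2.comp (jFix R s) (subEquiv h) (fixHom h) (fixEquiv h).surjective
      (fun w => rfl)
    have h4 : (fun x : R => ψ' (subEquiv h x)) = θ := by
      funext x
      have h1 := hψθ' (subEquiv h x)
      rw [MulEquiv.symm_apply_apply] at h1
      exact h1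
    rw [h4] at h3
    have h5 := h3.unique hχ
    intro w
    exact congrFun h5 (fixInv h w)
  rcases signed (setup h) hψ hψY with h1 | h1
  · left
    exact key ψ (Core.isIrr_isCharacter hψ) hψθ h1
  · right
    have h2 := key (ψ * sgn (R.subgroupOf (RS h)))
      (Core.isIrr_isCharacter (isIrr_mul_sgn (setup h) hψ)) (fun y => by
        rw [Pi.mul_apply, sgn_of_mem y.2, mul_one, hψθ]) (by
        have h3 : (fun w : Fix (R.subgroupOf (RS h)) (⟨s, s_mem_RS h⟩ : RS h) =>
            (ψ * sgn (R.subgroupOf (RS h))) (⟨s, s_mem_RS h⟩ * w)) =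
            -fun w : Fix (R.subgroupOf (RS h)) (⟨s, s_mem_RS h⟩ : RS h) =>
              ψ (⟨s, s_mem_RS h⟩ * w) := by
          funext w
          rw [Pi.mul_apply, sgn_of_not_mem (fun h3 => (mul_mem_iff (setup h) _).1 h3
            (mem_fix.1 w.2).1), Pi.neg_apply]
          ring
        rw [h3]
        exact h1)
    intro w
    have h4 := h2 w
    rw [Pi.mul_apply, sgn_of_not_mem (fun h3 => (mul_mem_iff (setup h) _).1 h3
      (mem_fix.1 w.2).1)] at h4
    linear_combination -h4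

/-- Invariant irreducible characters are determined by their correspondents. -/
theorem OddC.inj [Finite Γ] (h : Act R s) {θ θ' : R → ℂ} {χ : Fix R s → ℂ}
    (hθ : IsIrrCharacter R θ) (hinv : ∀ x : R, θ ⟨s * x * s⁻¹, h.norm x x.2⟩ = θ x)
    (hθ' : IsIrrCharacter R θ') (hinv' : ∀ x : R, θ' ⟨s * x * s⁻¹, h.norm x x.2⟩ = θ' x)
    (hχ : OddC (jFix R s) θ χ) (hχ' : OddC (jFix R s) θ' χ) : θ = θ' := by
  classical
  let _ : Fintype (RS h) := Fintype.ofFinite _
  let _ : Fintype (R.subgroupOf (RS h)) := Fintype.ofFinite _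
  let _ : Fintype (Fix (R.subgroupOf (RS h)) (⟨s, s_mem_RS h⟩ : RS h)) := Fintype.ofFinite _
  obtain ⟨ψ, hψ, hψθ, hψw⟩ := exists_ext_sign h hθ hinv hχ
  obtain ⟨ψ', hψ', hψθ', hψw'⟩ := exists_ext_sign h hθ' hinv' hχ'
  have hχi : IsIrrCharacter _ (fun w => χ (fixInv h w)) :=
    Core.isIrr_comp (fixInv h) (fixEquiv h).symm.surjective hχ.1
  have hself := Core.classInner_irr_self hχi
  have hne : classInner (fun w : Fix (R.subgroupOf (RS h)) (⟨s, s_mem_RS h⟩ : RS h) =>
      ψ (⟨s, s_mem_RS h⟩ * w)) (fun w => ψ' (⟨s, s_mem_RS h⟩ * w)) ≠ 0 := by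
    have e1 : (fun w : Fix (R.subgroupOf (RS h)) (⟨s, s_mem_RS h⟩ : RS h) =>
        ψ (⟨s, s_mem_RS h⟩ * w)) = (fun w => χ (fixInv h w)) ∨
        (fun w : Fix (R.subgroupOf (RS h)) (⟨s, s_mem_RS h⟩ : RS h) =>
        ψ (⟨s, s_mem_RS h⟩ * w)) = -(fun w => χ (fixInv h w)) :=
      hψw.imp (fun h1 => funext h1) (fun h1 => funext h1)
    have e2 : (fun w : Fix (R.subgroupOf (RS h)) (⟨s, s_mem_RS h⟩ : RS h) =>
        ψ' (⟨s, s_mem_RS h⟩ * w)) = (fun w => χ (fixInv h w)) ∨
        (fun w : Fix (R.subgroupOf (RS h)) (⟨s, s_mem_RS h⟩ : RS h) =>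
        ψ' (⟨s, s_mem_RS h⟩ * w)) = -(fun w => χ (fixInv h w)) :=
      hψw'.imp (fun h1 => funext h1) (fun h1 => funext h1)
    rcases e1 with e1 | e1 <;> rcases e2 with e2 | e2 <;> rw [e1, e2] <;>
      simp only [Core.classInner_neg_left, Core.classInner_neg_right, hself] <;> norm_num
  funext x
  rw [← hψθ x, ← hψθ' x]
  exact restrict_eq_of_inner_ne_zero (setup h) hψ hψ' hne (subEquiv h x)

end Over

section Lin

variable {Γ : Type u} [Group Γ] {R : Subgroup Γ} {s : Γ}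

open scoped Classical in
/-- The inner product of `μ (1_A - 1_B)` with a linear character trivial on `A`, not on `B`. -/
theorem inner_ind {F : Type*} [Group F] [Fintype F] {A B : Subgroup F} (hAB : A ⊔ B = ⊤)
    (χ : F →* ℂˣ) (hA : A ≤ χ.ker) (hχ : χ ≠ 1) (μ : ℂ) {k : ℕ} (hk : A.index = k) :
    classInner (fun w => μ * ((if w ∈ A then 1 else 0) - (if w ∈ B then 1 else 0)))
      (fun w => ((χ w : ℂˣ) : ℂ)) * k = μ := by
  have sumInd : ∀ (H : Subgroup F) (f : F → ℂ),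
      ∑ w : F, (if w ∈ H then 1 else 0) * f w = ∑ w : H, f w := by
    intro H f
    rw [← Finset.sum_subtype (Finset.univ.filter fun w => w ∈ H) (by simp) f,
      Finset.sum_filter]
    refine Finset.sum_congr rfl fun w _ => ?_
    split_ifs <;> simp
  have hF0 : (Nat.card F : ℂ) ≠ 0 := Core.card_ne_zero_complex
  have h1 : ∑ w : A, conj ((χ (w : F) : ℂˣ) : ℂ) = Nat.card A := by
    have : ∀ w : A, conj ((χ (w : F) : ℂˣ) : ℂ) = 1 := by
      intro w
      have h2 : χ (w : F) = 1 := hA w.2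
      rw [h2, Units.val_one, map_one]
    rw [Finset.sum_congr rfl fun w _ => this w]
    simp [Nat.card_eq_fintype_card]
  have h2 : ∑ w : B, conj ((χ (w : F) : ℂˣ) : ℂ) = 0 := by
    have h3 : ∑ w : B, ((χ (w : F) : ℂˣ) : ℂ) = 0 := by
      have hne : ((Units.coeHom ℂ).comp (χ.comp B.subtype)) ≠ 1 := by
        intro h4
        apply hχ
        have hB : B ≤ χ.ker := by
          intro b hb
          have h5 := DFunLike.congr_fun h4 ⟨b, hb⟩
          exact Units.ext h5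
        have h6 : (⊤ : Subgroup F) ≤ χ.ker := by
          rw [← hAB]
          exact sup_le hA hB
        ext w
        exact congrArg Units.val (h6 (Subgroup.mem_top w))
      exact sum_hom_units_eq_zero _ hne
    rw [← map_sum, h3, map_zero]
  have h3 : classInner (fun w => μ * ((if w ∈ A then 1 else 0) - (if w ∈ B then 1 else 0)))
      (fun w => ((χ w : ℂˣ) : ℂ)) = (Nat.card F : ℂ)⁻¹ * (μ * Nat.card A) := by
    rw [Core.classInner_def]
    congr 1
    have h4 : ∀ w : F, μ * ((if w ∈ A then 1 else 0) - (if w ∈ B then 1 else 0)) *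
        conj ((χ w : ℂˣ) : ℂ) = μ * ((if w ∈ A then 1 else 0) * conj ((χ w : ℂˣ) : ℂ)) -
          μ * ((if w ∈ B then 1 else 0) * conj ((χ w : ℂˣ) : ℂ)) := by
      intro w
      ring
    rw [Finset.sum_congr rfl fun w _ => h4 w, Finset.sum_sub_distrib, ← Finset.mul_sum,
      ← Finset.mul_sum, sumInd, sumInd, h1, h2]
    ring
  rw [h3]
  have h5 : Nat.card A * k = Nat.card F := by rw [← hk, A.card_mul_index]
  have h6 : (Nat.card A : ℂ) * k = Nat.card F := by exact_mod_cast h5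
  field_simp
  linear_combination μ * h6

open scoped Classical in
/-- **Multiplicity of the correspondent of a linear character**, in the form used below. -/
theorem exists_mult_lin' [Finite Γ] [Fintype R] (h : Act R s) {E : Γ → ℂ} (hE : IsCharacter Γ E)
    {A B : Subgroup (Fix R s)} (hAB : A ⊔ B = ⊤) {μ : ℤ} {k : ℕ} (hk : A.index = k)
    (hμ0 : μ ≠ 0) (hval : ∀ w : Fix R s, E (s * w) =
      μ * ((if w ∈ A then 1 else 0) - (if w ∈ B then 1 else 0)))
    (χ : Fix R s →* ℂˣ) (hA : A ≤ χ.ker) (hχ : χ ≠ 1) :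
    ∃ θ : R → ℂ, IsIrrCharacter R θ ∧ (∀ x : R, θ ⟨s * x * s⁻¹, h.norm x x.2⟩ = θ x) ∧
      OddC (jFix R s) θ (fun w => ((χ w : ℂˣ) : ℂ)) ∧
      ∃ n : ℕ, classInner (fun x : R => E x) θ = n ∧ ∃ c : ℤ, μ = c * k ∧ |c| ≤ n := by
  classical
  let _ : Fintype (Fix R s) := Fintype.ofFinite _
  have h1 := inner_ind hAB χ hA hχ (μ : ℂ) hk
  have h2 : (fun w : Fix R s => E (s * w)) = fun w => (μ : ℂ) * ((if w ∈ A then 1 else 0) -
      (if w ∈ B then 1 else 0)) := funext hval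
  rw [← h2] at h1
  obtain ⟨θ, g1, g2, g3, n, g4, c, g5, g6⟩ := exists_mult' h hE (Linear.isIrrCharacter_hom χ) (by
    intro h3
    rw [h3, zero_mul] at h1
    exact hμ0 (by exact_mod_cast h1.symm))
  refine ⟨θ, g1, g2, g3, n, g4, c, ?_, g6⟩
  rw [g5] at h1
  exact_mod_cast h1.symm

open scoped Classical in
theorem exists_mult_lin [Finite Γ] [Fintype R] (h : Act R s) {E : Γ → ℂ} (hE : IsCharacter Γ E)
    {A B : Subgroup (Fix R s)} (hAB : A ⊔ B = ⊤) {μ c : ℤ} {k : ℕ} (hk : A.index = k)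
    (hμ : μ = c * k) (hμ0 : μ ≠ 0)
    (hval : ∀ w : Fix R s, E (s * w) =
      μ * ((if w ∈ A then 1 else 0) - (if w ∈ B then 1 else 0)))
    (χ : Fix R s →* ℂˣ) (hA : A ≤ χ.ker) (hχ : χ ≠ 1) :
    ∃ θ : R → ℂ, IsIrrCharacter R θ ∧ (∀ x : R, θ ⟨s * x * s⁻¹, h.norm x x.2⟩ = θ x) ∧
      OddC (jFix R s) θ (fun w => ((χ w : ℂˣ) : ℂ)) ∧
      ∃ n : ℕ, classInner (fun x : R => E x) θ = n ∧ |c| ≤ n := by
  classical
  let _ : Fintype (Fix R s) := Fintype.ofFinite _
  have hc0 : c ≠ 0 := by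
    rintro rfl
    rw [zero_mul] at hμ
    exact hμ0 hμ
  have hk0 : (k : ℂ) ≠ 0 := by
    rintro h1
    have h2 : k = 0 := by exact_mod_cast h1
    rw [h2, Nat.cast_zero, mul_zero] at hμ
    exact hμ0 hμ
  refine exists_mult h hE (Linear.isIrrCharacter_hom χ) (c := c) ?_ hc0
  have h1 := inner_ind hAB χ hA hχ (μ : ℂ) hk
  have h2 : (fun w : Fix R s => E (s * w)) = fun w => (μ : ℂ) * ((if w ∈ A then 1 else 0) -
      (if w ∈ B then 1 else 0)) := funext hval
  rw [h2]
  apply mul_right_cancel₀ hk0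
  rw [h1, hμ]
  push_cast
  ring

end Lin

end Cfsg.Agent.Classification.QDW.GlauberMult
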