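import Mathlib
import Cfsg.Agent.Classification.QDW.FuDefs
import Cfsg.Agent.Classification.QDW.GlauberMult
import Cfsg.Agent.Characters.DegreeBounds

/-!
# Case U: the Glauberman correspondents

* `gc_iff`: `GC R u θ χ` in terms of the constituent of odd multiplicity;
* `exists_theta`, `GC_inj`, `GC_conj`, `GC_linear`, `GC_of_linear`, `GC_degree`: the statements of
  the specification.
-/

set_option autoImplicit false
set_option linter.unusedSectionVars false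

namespace Cfsg.Agent.Classification.QDW.CaseU

open Cfsg Cfsg.Agent.Characters Cfsg.Agent.Classification.InvCent
open Cfsg.Agent.Classification.QDW.GlauberTwo Cfsg.Agent.Classification.QDW.GlauberMult

universe u

section General

variable {N : Type u} [Group N] [Finite N] {R : Subgroup N} {u : N}

theorem gc_iff (h : Act R u) {θ : R → ℂ} {χ : Fx u R →* ℂˣ} :
    GC R u θ χ ↔ IsIrrCharacter R θ ∧ (∀ x : R, θ ⟨u * x * u⁻¹, h.norm x x.2⟩ = θ x) ∧
      OddC (jFix R u) θ (fun w => ((χ w : ℂˣ) : ℂ)) := by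
  constructor
  · rintro ⟨hθ, M, hR, hu, ψ, c, hM, hψ, hψθ, hc, hχ⟩
    have hMR : M = RS h := by
      ext x
      constructor
      · intro hx
        exact hM x hx
      · rintro (hx | hx)
        · exact hR hx
        · have h1 : x = u * (u * x) := by rw [← mul_assoc, h.sq, one_mul]
          rw [h1]
          exact M.mul_mem hu (hR hx)
    subst hMR
    have hθ' : ∀ y : R.subgroupOf (RS h), ψ y = θ ((subEquiv h).symm y) := by
      intro y
      exact hψθ ((subEquiv h).symm y)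
    refine ⟨hθ, ?_, ?_⟩
    · intro x
      have h1 := Core.isIrr_isClassFunction hψ ⟨x, hR x.2⟩ ⟨u, hu⟩
      rw [← hψθ x, ← h1]
      exact (hψθ ⟨u * x * u⁻¹, h.norm x x.2⟩).symm
    · have main : ∀ ψ' : RS h → ℂ, IsCharacter (RS h) ψ' → (∀ y : R, ψ' ⟨y, hR y.2⟩ = θ y) →
          (∀ y : Fx u R, ψ' ⟨u * y, mul_mem hu (hR y.2.1)⟩ = (χ y : ℂ)) →
          OddC (jFix R u) θ (fun w => ((χ w : ℂˣ) : ℂ)) := by
        intro ψ' h1 h2 h3
        have hχi : IsIrrCharacter _ (fun w => ((χ (fixInv h w) : ℂˣ) : ℂ)) :=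
          Core.isIrr_comp (fixInv h) (fixEquiv h).symm.surjective (Linear.isIrrCharacter_hom χ)
        have h4 := oddC_of_ext (setup h) h1 hχi (fun w => h3 (fixInv h w))
        have h5 := h4.comp (jFix R u) (subEquiv h) (fixHom h) (fixEquiv h).surjective
          (fun w => rfl)
        have h6 : (fun x : R => ψ' (subEquiv h x)) = θ := funext h2
        rw [h6] at h5
        exact h5
      rcases hc with rfl | rfl
      · exact main ψ (Core.isIrr_isCharacter hψ) hψθ (fun y => by rw [hχ, one_mul])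
      · refine main (ψ * sgn (R.subgroupOf (RS h)))
          (Core.isIrr_isCharacter (isIrr_mul_sgn (setup h) hψ)) (fun y => ?_) (fun y => ?_)
        · have h3 : (⟨y, hR y.2⟩ : RS h) ∈ R.subgroupOf (RS h) := Subgroup.mem_subgroupOf.2 y.2
          rw [Pi.mul_apply, sgn_of_mem h3, mul_one, hψθ]
        · rw [Pi.mul_apply, sgn_of_not_mem, hχ]
          · ring
          · intro h3
            exact (mul_mem_iff (setup h) (⟨y, hR y.2.1⟩ : RS h)).1 h3
              (Subgroup.mem_subgroupOf.2 y.2.1)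
  · rintro ⟨hθ, hinv, hodd⟩
    obtain ⟨ψ, hψ, hψθ, hψw⟩ := exists_ext_sign h hθ hinv hodd
    refine ⟨hθ, RS h, le_RS h, s_mem_RS h, ψ, ?_⟩
    rcases hψw with h1 | h1
    · refine ⟨1, fun x hx => hx, hψ, hψθ, Or.inl rfl, fun y => ?_⟩
      rw [one_mul]
      exact h1 (fixHom h y)
    · refine ⟨-1, fun x hx => hx, hψ, hψθ, Or.inr rfl, fun y => ?_⟩
      rw [neg_one_mul]
      exact h1 (fixHom h y)

theorem mem_cent_one (y : N) : y ∈ Subgroup.centralizer ({1} : Set N) := by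
  rw [Subgroup.mem_centralizer_singleton_iff, mul_one, one_mul]

/-- The case `u = 1`. -/
theorem gc_one {θ : R → ℂ} {χ : Fx (1 : N) R →* ℂˣ} :
    GC R 1 θ χ ↔ ∀ y : R, θ y = (χ ⟨y, y.2, mem_cent_one _⟩ : ℂ) := by
  constructor
  · rintro ⟨hθ, M, hR, hu, ψ, c, hM, hψ, hψθ, hc, hχ⟩ y
    have h1 : ∀ y : R, θ y = c * (χ ⟨y, y.2, mem_cent_one _⟩ : ℂ) := by
      intro y
      rw [← hχ, ← hψθ]
      congr 1
      apply Subtype.ext
      exact (one_mul _).symm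
    have hc1 : c = 1 := by
      refine hc.resolve_right ?_
      rintro rfl
      have h2 := h1 1
      have h3 : (⟨((1 : R) : N), (1 : R).2, mem_cent_one _⟩ : Fx (1 : N) R) = 1 := rfl
      rw [h3, map_one, Units.val_one] at h2
      obtain ⟨n, hn, hn'⟩ := Core.isIrr_apply_one hθ
      rw [hn'] at h2
      have h4 : ((n : ℤ) : ℂ) = ((-1 : ℤ) : ℂ) := by
        push_cast
        rw [h2]
        ring
      have h5 : (n : ℤ) = -1 := by exact_mod_cast h4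
      omega
    rw [h1, hc1, one_mul]
  · intro h
    let e : R →* Fx (1 : N) R :=
      { toFun := fun y => ⟨y, y.2, mem_cent_one _⟩
        map_one' := rfl
        map_mul' := fun _ _ => rfl }
    have hθ : IsIrrCharacter R θ := by
      have h1 : θ = fun y => (((χ.comp e) y : ℂˣ) : ℂ) := funext h
      rw [h1]
      exact Linear.isIrrCharacter_hom _
    refine ⟨hθ, R, le_rfl, R.one_mem, θ, 1, fun x hx => Or.inl hx, hθ, fun y => rfl, Or.inl rfl,
      fun y => ?_⟩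
    have h2 : (⟨1 * (y : N), mul_mem R.one_mem (le_refl R y.2.1)⟩ : R) = ⟨y, y.2.1⟩ :=
      Subtype.ext (one_mul _)
    refine (congrArg θ h2).trans ?_
    rw [h, one_mul]

end General

section Index

variable {N : Type u} [Group N] [Finite N] {H : Type*} [Group H] {π : N →* H} {z u₀ s₀ : H}
  {Tr E : Subgroup H} {t u s : N} {Au Atu P R D : Subgroup N} {r mr : ℕ}

theorem Fu.zero_lt_mr (fu : Fu π z u₀ s₀ Tr E t u s Au Atu P R D r mr) : 0 < mr := by
  obtain ⟨k, rfl⟩ := fu.mr_eq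
  exact pow_pos fu.prime.pos _

theorem Fu.Fx_eq (fu : Fu π z u₀ s₀ Tr E t u s Au Atu P R D r mr) : Fx u R = P ⊓ R := by
  ext x
  rw [Subgroup.mem_inf, Subgroup.mem_inf, Subgroup.mem_centralizer_singleton_iff]
  constructor
  · rintro ⟨h1, h2⟩
    exact ⟨fu.fix_le x h1 h2.symm, h1⟩
  · rintro ⟨h1, h2⟩
    exact ⟨h2, (fu.P_comm x h1).symm.eq⟩

theorem Fu.u_norm_R (fu : Fu π z u₀ s₀ Tr E t u s Au Atu P R D r mr) :
    ∀ x ∈ R, u * x * u⁻¹ ∈ R := fun x hx => fu.R_normal.conj_mem x hx u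

theorem Fu.R_odd (fu : Fu π z u₀ s₀ Tr E t u s Au Atu P R D r mr) : Odd (Nat.card R) :=
  Odd.of_dvd_nat fu.oddK (Subgroup.card_dvd_of_le fu.R_le)

theorem Fu.act (fu : Fu π z u₀ s₀ Tr E t u s Au Atu P R D r mr) (hu : u ≠ 1) : Act R u where
  odd := fu.R_odd
  sq := fu.uu
  ne := hu
  norm := fu.u_norm_R

theorem rel_ne_zero {G : Type*} [Group G] [Finite G] (A B : Subgroup G) : A.relIndex B ≠ 0 :=
  Subgroup.index_ne_zero_of_finite (H := A.subgroupOf B)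

/-- All relative indices of the intersections of `P ∩ R`, `P ∩ A_u`, `P ∩ A_{tu}`. -/
theorem relIndex_aux {G : Type*} [Group G] [Finite G] {P A B C : Subgroup G} {n : ℕ} (hn : 0 < n)
    (hA : A.relIndex P ≤ n) (hB : B.relIndex P ≤ n) (hC : C.relIndex P ≤ n)
    (h : (P ⊓ A ⊓ B ⊓ C).relIndex P = n ^ 3) :
    A.relIndex P = n ∧ (P ⊓ A ⊓ B).relIndex (P ⊓ A) = n ∧
      (P ⊓ A ⊓ B ⊓ C).relIndex (P ⊓ A ⊓ B) = n := by
  have h1 : (P ⊓ A ⊓ B ⊓ C).relIndex (P ⊓ A ⊓ B) * (P ⊓ A ⊓ B).relIndex P =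
      (P ⊓ A ⊓ B ⊓ C).relIndex P :=
    Subgroup.relIndex_mul_relIndex _ _ _ inf_le_left (inf_le_left.trans inf_le_left)
  have h2 : (P ⊓ A ⊓ B).relIndex (P ⊓ A) * (P ⊓ A).relIndex P = (P ⊓ A ⊓ B).relIndex P :=
    Subgroup.relIndex_mul_relIndex _ _ _ inf_le_left inf_le_left
  have e1 : (P ⊓ A).relIndex P = A.relIndex P := Subgroup.inf_relIndex_left _ _
  have e2 : (P ⊓ A ⊓ B).relIndex (P ⊓ A) = B.relIndex (P ⊓ A) := Subgroup.inf_relIndex_left _ _
  have e3 : (P ⊓ A ⊓ B ⊓ C).relIndex (P ⊓ A ⊓ B) = C.relIndex (P ⊓ A ⊓ B) :=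
    Subgroup.inf_relIndex_left _ _
  have f2 : B.relIndex (P ⊓ A) ≤ n :=
    (Subgroup.relIndex_le_of_le_right inf_le_left (rel_ne_zero _ _)).trans hB
  have f3 : C.relIndex (P ⊓ A ⊓ B) ≤ n :=
    (Subgroup.relIndex_le_of_le_right (inf_le_left.trans inf_le_left)
      (rel_ne_zero _ _)).trans hC
  rw [← h2, h, e1, e2, e3] at h1
  rw [e2, e3]
  generalize A.relIndex P = a at *
  generalize B.relIndex (P ⊓ A) = b at *
  generalize C.relIndex (P ⊓ A ⊓ B) = c at *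
  have hn3 : 0 < n ^ 3 := pow_pos hn 3
  refine ⟨?_, ?_, ?_⟩
  · by_contra hne
    have h4 : a ≤ n - 1 := by omega
    have h5 : c * (b * a) ≤ n * (n * (n - 1)) :=
      Nat.mul_le_mul f3 (Nat.mul_le_mul f2 h4)
    have h6 : n * (n * (n - 1)) < n * (n * n) :=
      Nat.mul_lt_mul_of_pos_left (Nat.mul_lt_mul_of_pos_left (by omega) hn) hn
    rw [h1] at h5
    have h7 : n ^ 3 = n * (n * n) := by ring
    omega
  · by_contra hne
    have h4 : b ≤ n - 1 := by omega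
    have h5 : c * (b * a) ≤ n * ((n - 1) * n) :=
      Nat.mul_le_mul f3 (Nat.mul_le_mul h4 hA)
    have h6 : n * ((n - 1) * n) < n * (n * n) :=
      Nat.mul_lt_mul_of_pos_left (Nat.mul_lt_mul_of_pos_right (by omega) hn) hn
    rw [h1] at h5
    have h7 : n ^ 3 = n * (n * n) := by ring
    omega
  · by_contra hne
    have h4 : c ≤ n - 1 := by omega
    have h5 : c * (b * a) ≤ (n - 1) * (n * n) :=
      Nat.mul_le_mul h4 (Nat.mul_le_mul f2 hA)
    have h6 : (n - 1) * (n * n) < n * (n * n) :=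
      Nat.mul_lt_mul_of_pos_right (by omega) (Nat.mul_pos hn hn)
    rw [h1] at h5
    have h7 : n ^ 3 = n * (n * n) := by ring
    omega

theorem relIndex_sup_aux {G : Type*} [Group G] [Finite G] {P A B C : Subgroup G} {n : ℕ}
    (hn : 0 < n) (hA : A.relIndex P ≤ n) (hB : B.relIndex P ≤ n) (hC : C.relIndex P ≤ n)
    (h : (P ⊓ A ⊓ B ⊓ C).relIndex P = n ^ 3) : (P ⊓ A ⊓ B) ⊔ (P ⊓ A ⊓ C) = P ⊓ A := by
  obtain ⟨-, h1, h2⟩ := relIndex_aux hn hA hB hC h
  have h' : (P ⊓ A ⊓ C ⊓ B).relIndex P = n ^ 3 := by rw [inf_right_comm, h]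
  obtain ⟨-, h3, -⟩ := relIndex_aux hn hA hC hB h'
  have hle : (P ⊓ A ⊓ B) ⊔ (P ⊓ A ⊓ C) ≤ P ⊓ A := sup_le inf_le_left inf_le_left
  refine le_antisymm hle ?_
  have h4 : (P ⊓ A ⊓ C).relIndex (P ⊓ A ⊓ B) ≤
      (P ⊓ A ⊓ C).relIndex ((P ⊓ A ⊓ B) ⊔ (P ⊓ A ⊓ C)) :=
    Subgroup.relIndex_le_of_le_right le_sup_left (rel_ne_zero _ _)
  have h5 : (P ⊓ A ⊓ C).relIndex (P ⊓ A ⊓ B) = n := by
    rw [← h2]
    have h6 : P ⊓ A ⊓ B ⊓ C = (P ⊓ A ⊓ B) ⊓ (P ⊓ A ⊓ C) := by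
      ext x
      simp only [Subgroup.mem_inf]
      tauto
    rw [h6, Subgroup.inf_relIndex_left]
  have h6 : (P ⊓ A ⊓ C).relIndex ((P ⊓ A ⊓ B) ⊔ (P ⊓ A ⊓ C)) *
      ((P ⊓ A ⊓ B) ⊔ (P ⊓ A ⊓ C)).relIndex (P ⊓ A) = (P ⊓ A ⊓ C).relIndex (P ⊓ A) :=
    Subgroup.relIndex_mul_relIndex _ _ _ le_sup_right hle
  rw [h3] at h6
  rw [h5] at h4
  rw [← Subgroup.relIndex_eq_one]
  generalize ((P ⊓ A ⊓ B) ⊔ (P ⊓ A ⊓ C)).relIndex (P ⊓ A) = a at *
  generalize (P ⊓ A ⊓ C).relIndex ((P ⊓ A ⊓ B) ⊔ (P ⊓ A ⊓ C)) = b at *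
  have h7 : a ≠ 0 := by
    rintro rfl
    omega
  by_contra h8
  have h9 : 2 ≤ a := by omega
  nlinarith

theorem Fu.relIndex_R (fu : Fu π z u₀ s₀ Tr E t u s Au Atu P R D r mr) :
    R.relIndex P = mr := by
  rw [← fu.idx_t, Subgroup.inf_relIndex_left]

theorem Fu.relIndex_Au (fu : Fu π z u₀ s₀ Tr E t u s Au Atu P R D r mr) :
    Au.relIndex P = mr := by
  rw [← fu.idx_u, Subgroup.inf_relIndex_left]

theorem Fu.relIndex_Atu (fu : Fu π z u₀ s₀ Tr E t u s Au Atu P R D r mr) :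
    Atu.relIndex P = mr := by
  rw [← fu.idx_tu, Subgroup.inf_relIndex_left]

theorem Fu.relIndex_PRAu (fu : Fu π z u₀ s₀ Tr E t u s Au Atu P R D r mr) :
    (P ⊓ R ⊓ Au).relIndex (P ⊓ R) = mr :=
  (relIndex_aux fu.zero_lt_mr fu.relIndex_R.le fu.relIndex_Au.le fu.relIndex_Atu.le fu.idx_0).2.1

theorem Fu.relIndex_PRAtu (fu : Fu π z u₀ s₀ Tr E t u s Au Atu P R D r mr) :
    (P ⊓ R ⊓ Atu).relIndex (P ⊓ R) = mr := by
  refine (relIndex_aux fu.zero_lt_mr fu.relIndex_R.le fu.relIndex_Atu.le fu.relIndex_Au.le ?_).2.1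
  rw [inf_right_comm, fu.idx_0]

theorem Fu.sup_PR (fu : Fu π z u₀ s₀ Tr E t u s Au Atu P R D r mr) :
    (P ⊓ R ⊓ Au) ⊔ (P ⊓ R ⊓ Atu) = P ⊓ R :=
  relIndex_sup_aux fu.zero_lt_mr fu.relIndex_R.le fu.relIndex_Au.le fu.relIndex_Atu.le fu.idx_0

/-- `A_u ∩ C_R(u)` has index `m_r` in `C_R(u)`. -/
theorem Fu.index_Au (fu : Fu π z u₀ s₀ Tr E t u s Au Atu P R D r mr) :
    (Au.subgroupOf (Fx u R)).index = mr := by
  have h1 : (Au.subgroupOf (Fx u R)).index = Au.relIndex (Fx u R) := rfl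
  rw [h1, fu.Fx_eq, ← Subgroup.inf_relIndex_left, fu.relIndex_PRAu]

theorem Fu.index_Atu (fu : Fu π z u₀ s₀ Tr E t u s Au Atu P R D r mr) :
    (Atu.subgroupOf (Fx u R)).index = mr := by
  have h1 : (Atu.subgroupOf (Fx u R)).index = Atu.relIndex (Fx u R) := rfl
  rw [h1, fu.Fx_eq, ← Subgroup.inf_relIndex_left, fu.relIndex_PRAtu]

theorem Fu.sup_Fx (fu : Fu π z u₀ s₀ Tr E t u s Au Atu P R D r mr) :
    Au.subgroupOf (Fx u R) ⊔ Atu.subgroupOf (Fx u R) = ⊤ := by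
  have h1 : P ⊓ R ⊓ Au ≤ Fx u R := by
    rw [fu.Fx_eq]
    exact inf_le_left
  have h2 : P ⊓ R ⊓ Atu ≤ Fx u R := by
    rw [fu.Fx_eq]
    exact inf_le_left
  have h3 := Subgroup.subgroupOf_sup h1 h2
  rw [fu.sup_PR] at h3
  have h4 : (P ⊓ R).subgroupOf (Fx u R) = ⊤ := by
    rw [Subgroup.subgroupOf_eq_top, fu.Fx_eq]
  rw [h4] at h3
  rw [eq_top_iff, h3]
  refine sup_le_sup ?_ ?_
  · intro x hx
    rw [Subgroup.mem_subgroupOf] at hx ⊢
    exact hx.2
  · intro x hx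
    rw [Subgroup.mem_subgroupOf] at hx ⊢
    exact hx.2

theorem Fu.seven_le_mr (fu : Fu π z u₀ s₀ Tr E t u s Au Atu P R D r mr) : 7 ≤ mr := by
  obtain ⟨k, rfl⟩ := fu.mr_eq
  exact fu.r7.trans (Nat.le_self_pow (Nat.succ_ne_zero k) r)

/-- There is an element of `C_R(u)` in `A_u` and not in `A_{tu}`. -/
theorem Fu.exists_mem (fu : Fu π z u₀ s₀ Tr E t u s Au Atu P R D r mr) :
    ∃ y ∈ P, y ∈ R ∧ y ∈ Au ∧ y ∉ Atu := by
  by_contra hcon
  push Not at hcon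
  have h1 : P ⊓ R ⊓ Au ≤ P ⊓ R ⊓ Atu := fun y hy => ⟨hy.1, hcon y hy.1.1 hy.1.2 hy.2⟩
  have h2 : P ⊓ R ≤ P ⊓ R ⊓ Atu := by
    conv_lhs => rw [← fu.sup_PR]
    exact sup_le h1 le_rfl
  have h3 := fu.relIndex_PRAtu
  rw [Subgroup.relIndex_eq_one.2 h2] at h3
  have := fu.seven_le_mr
  omega

end Index

section Main

variable {N : Type u} [Group N] [Finite N] {H : Type*} [Group H] {π : N →* H} {z u₀ s₀ : H}
  {Tr E : Subgroup H} {t u s : N} {Au Atu P R D : Subgroup N} {r mr q m : ℕ} {ε : ℤ}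
  {X : N → ℂ}

/-- `m ≥ 1` and `u ≠ 1`. -/
theorem Val.m_pos (v : Val t u Au Atu P q ε m X) (hε : ε = 1 ∨ ε = -1) (hq : 1 < q) : 0 < m := by
  have h := v.two_m
  omega

theorem Fu.u_ne_val (fu : Fu π z u₀ s₀ Tr E t u s Au Atu P R D r mr)
    (v : Val t u Au Atu P q ε m X) (hε : ε = 1 ∨ ε = -1) (hq : 1 < q) : u ≠ 1 := by
  rintro rfl
  have h1 := fu.su
  rw [mul_one, mul_one, mul_inv_cancel] at h1
  obtain ⟨y, hyP, -, hy1, hy2⟩ := fu.exists_mem
  have h2 := v.val₁ y hyP hy1 hy2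
  have h3 := v.neg (1 * y)
  rw [← h1, one_mul, one_mul] at h3
  rw [one_mul] at h2
  have h4 : X y = 0 := by linear_combination h3 / 2
  rw [h4] at h2
  have h5 : (0 : ℤ) = ε * m := by exact_mod_cast h2
  have h6 := v.m_pos hε hq
  rcases hε with rfl | rfl <;> omega

/-- **Multiplicity of the correspondents in `E_-`.** -/
theorem exists_theta (fu : Fu π z u₀ s₀ Tr E t u s Au Atu P R D r mr)
    (v : Val t u Au Atu P q ε m X) (hε : ε = 1 ∨ ε = -1) (hq : 1 < q) [Fintype R]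
    {χ : Fx u R →* ℂˣ} (hχ : IsX R u Au χ ∨ IsX R u Atu χ) :
    ∃ θ : R → ℂ, GC R u θ χ ∧ (m : ℝ) ≤ mr * (classInner (fun y : R => X y) θ).re := by
  classical
  have hact := fu.act (fu.u_ne_val v hε hq)
  have hm := v.m_pos hε hq
  have fin : ∀ (θ : R → ℂ) (n : ℕ) (μ c : ℤ), classInner (fun y : R => X y) θ = n →
      μ = c * mr → |c| ≤ n → |μ| = m →
      (m : ℝ) ≤ mr * (classInner (fun y : R => X y) θ).re := by
    intro θ n μ c h1 h2 h3 h4
    rw [h1, Complex.natCast_re]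
    have h5 : (m : ℤ) ≤ mr * n := by
      rw [← h4, h2, abs_mul, Nat.abs_cast, mul_comm]
      exact mul_le_mul_of_nonneg_left h3 (Int.natCast_nonneg mr)
    exact_mod_cast h5
  have habs : |ε * (m : ℤ)| = m := by
    rcases hε with rfl | rfl
    · rw [one_mul, Nat.abs_cast]
    · rw [neg_one_mul, abs_neg, Nat.abs_cast]
  have hne : ε * (m : ℤ) ≠ 0 := by
    rcases hε with rfl | rfl <;> omega
  have hv : ∀ w : Fx u R, X (u * w) = ((ε * m : ℤ) : ℂ) *
      ((if w ∈ Au.subgroupOf (Fx u R) then 1 else 0) -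
        (if w ∈ Atu.subgroupOf (Fx u R) then 1 else 0)) := by
    intro w
    have hw : (w : N) ∈ P := fu.fix_le w w.2.1
      (Subgroup.mem_centralizer_singleton_iff.1 w.2.2).symm
    simp only [Subgroup.mem_subgroupOf]
    push_cast
    by_cases h1 : (w : N) ∈ Au <;> by_cases h2 : (w : N) ∈ Atu <;>
      simp only [h1, h2, if_true, if_false]
    · rw [v.val₀ w hw h1 h2]; ring
    · rw [v.val₁ w hw h1 h2]; ring
    · rw [v.val₂ w hw h1 h2]; ring
    · rw [v.val₃ w hw h1 h2]; ring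
  have hv' : ∀ w : Fx u R, X (u * w) = ((-(ε * m) : ℤ) : ℂ) *
      ((if w ∈ Atu.subgroupOf (Fx u R) then 1 else 0) -
        (if w ∈ Au.subgroupOf (Fx u R) then 1 else 0)) := by
    intro w
    rw [hv]
    push_cast
    ring
  rcases hχ with hχ | hχ
  · obtain ⟨θ, g1, g2, g3, n, g4, c, g5, g6⟩ := exists_mult_lin' hact v.char
      (A := Au.subgroupOf (Fx u R)) (B := Atu.subgroupOf (Fx u R)) fu.sup_Fx fu.index_Au
      (μ := ε * m) hne hv χ (fun x hx => hχ.triv x (Subgroup.mem_subgroupOf.1 hx)) hχ.ne_one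
    exact ⟨θ, (gc_iff hact).2 ⟨g1, g2, g3⟩, fin θ n _ c g4 g5 g6 habs⟩
  · obtain ⟨θ, g1, g2, g3, n, g4, c, g5, g6⟩ := exists_mult_lin' hact v.char
      (A := Atu.subgroupOf (Fx u R)) (B := Au.subgroupOf (Fx u R))
      ((sup_comm _ _).trans fu.sup_Fx) fu.index_Atu
      (μ := -(ε * m)) (by rw [neg_ne_zero]; exact hne) hv' χ
      (fun x hx => hχ.triv x (Subgroup.mem_subgroupOf.1 hx)) hχ.ne_one
    exact ⟨θ, (gc_iff hact).2 ⟨g1, g2, g3⟩, fin θ n _ c g4 g5 g6 (by rw [abs_neg]; exact habs)⟩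

theorem GC_inj (fu : Fu π z u₀ s₀ Tr E t u s Au Atu P R D r mr) {χ χ' : Fx u R →* ℂˣ}
    {θ θ' : R → ℂ} (h : GC R u θ χ) (h' : GC R u θ' χ') : χ = χ' ↔ θ = θ' := by
  by_cases hu : u = 1
  · subst hu
    rw [gc_one] at h h'
    constructor
    · rintro rfl
      funext y
      rw [h, h']
    · rintro rfl
      ext w
      have h1 := (h ⟨w, w.2.1⟩).symm.trans (h' ⟨w, w.2.1⟩)
      exact h1
  · have hact := fu.act hu
    obtain ⟨a1, a2, a3⟩ := (gc_iff hact).1 h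
    obtain ⟨b1, b2, b3⟩ := (gc_iff hact).1 h'
    constructor
    · rintro rfl
      exact OddC.inj hact a1 a2 b1 b2 a3 b3
    · rintro rfl
      have h1 := a3.unique b3
      ext w
      exact congrFun h1 w

/-- the conjugate function -/
def cfun {R : Subgroup N} (hR : R.Normal) (g : N) (θ : R → ℂ) : R → ℂ :=
  fun x => θ ⟨g * x * g⁻¹, hR.conj_mem x x.2 g⟩

/-- equivariance under `C_N(u)` and under `s` -/
theorem GC_conj (fu : Fu π z u₀ s₀ Tr E t u s Au Atu P R D r mr) {g : N}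
    (hg : Commute u g ∨ g * u * g⁻¹ = t * u) {χ χ' : Fx u R →* ℂˣ} {θ : R → ℂ} (h : GC R u θ χ)
    (h' : ∀ x y : Fx u R, (y : N) = g * x * g⁻¹ → χ' x = χ y) :
    GC R u (cfun fu.R_normal g θ) χ' := by
  have htu : ∀ x, t * x * t⁻¹ = x := fun x => by rw [(fu.t_comm x).eq, mul_inv_cancel_right]
  -- conjugation by `g u g⁻¹` is conjugation by `u`
  have hconj : ∀ x, g * u * g⁻¹ * x * (g * u * g⁻¹)⁻¹ = u * x * u⁻¹ := by
    intro x
    rcases hg with hg | hg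
    · have h1 : g * u * g⁻¹ = u := by rw [← hg.eq, mul_inv_cancel_right]
      rw [h1]
    · rw [hg]
      have h1 : t * u * x * (t * u)⁻¹ = t * (u * x * u⁻¹) * t⁻¹ := by group
      rw [h1, htu]
  have hfix : ∀ x, Commute u x → Commute u (g * x * g⁻¹) := by
    intro x hx
    have h1 := hconj (g * x * g⁻¹)
    have h2 : g * u * g⁻¹ * (g * x * g⁻¹) * (g * u * g⁻¹)⁻¹ = g * (u * x * u⁻¹) * g⁻¹ := by group
    rw [h2, hx.eq, mul_inv_cancel_right] at h1
    have h3 : u * (g * x * g⁻¹) = (g * x * g⁻¹) * u := by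
      conv_rhs => rw [h1]
      group
    exact h3
  by_cases hu : u = 1
  · subst hu
    rw [gc_one] at h ⊢
    intro y
    show θ ⟨g * y * g⁻¹, _⟩ = _
    rw [h, h' ⟨y, y.2, mem_cent_one _⟩ ⟨g * y * g⁻¹, fu.R_normal.conj_mem y y.2 g,
      mem_cent_one _⟩ rfl]
  · have hact := fu.act hu
    obtain ⟨a1, a2, a3⟩ := (gc_iff hact).1 h
    let α : R →* R :=
      { toFun := fun x => ⟨g * x * g⁻¹, fu.R_normal.conj_mem x x.2 g⟩
        map_one' := Subtype.ext (by simp)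
        map_mul' := fun x y => Subtype.ext (by simp) }
    have hα : Function.Surjective α := by
      intro x
      refine ⟨⟨g⁻¹ * x * g⁻¹⁻¹, fu.R_normal.conj_mem x x.2 g⁻¹⟩, Subtype.ext ?_⟩
      show g * (g⁻¹ * x * g⁻¹⁻¹) * g⁻¹ = x
      group
    let β : Fx u R →* Fx u R :=
      { toFun := fun x => ⟨g * x * g⁻¹, fu.R_normal.conj_mem x x.2.1 g,
          Subgroup.mem_centralizer_singleton_iff.2
            (hfix x (Subgroup.mem_centralizer_singleton_iff.1 x.2.2).symm).symm.eq⟩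
        map_one' := Subtype.ext (by simp)
        map_mul' := fun x y => Subtype.ext (by simp) }
    have hβi : Function.Injective β := by
      intro x y hxy
      have h1 : g * (x : N) * g⁻¹ = g * (y : N) * g⁻¹ := congrArg Subtype.val hxy
      exact Subtype.ext (by simpa using h1)
    have hβ : Function.Surjective β := Finite.surjective_of_injective hβi
    refine (gc_iff hact).2 ⟨Core.isIrr_comp α hα a1, ?_, ?_⟩
    · intro x
      show θ ⟨g * (u * x * u⁻¹) * g⁻¹, _⟩ = θ ⟨g * x * g⁻¹, _⟩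
      have h1 := a2 ⟨g * x * g⁻¹, fu.R_normal.conj_mem x x.2 g⟩
      rw [← h1]
      congr 1
      apply Subtype.ext
      show g * (u * (x : N) * u⁻¹) * g⁻¹ = u * (g * x * g⁻¹) * u⁻¹
      rw [← hconj (g * x * g⁻¹)]
      group
    · have h1 := a3.comp (jFix R u) α β hβ (fun w => rfl)
      have h2 : (fun w : Fx u R => ((χ (β w) : ℂˣ) : ℂ)) = fun w => ((χ' w : ℂˣ) : ℂ) := by
        funext w
        rw [h' w (β w) rfl]
      exact Eq.mp (congrArg (OddC (jFix R u) (fun x => θ (α x))) h2) h1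

theorem GC_linear (fu : Fu π z u₀ s₀ Tr E t u s Au Atu P R D r mr) {χ : Fx u R →* ℂˣ}
    {θ : R → ℂ} (h : GC R u θ χ) (h1 : θ 1 = 1) : ∃ ν : R →* ℂˣ, (∀ x, θ x = ν x) ∧
      (∀ x y : R, (y : N) = u * x * u⁻¹ → ν y = ν x) ∧ ∀ (x : Fx u R) (y : R), (x : N) = y →
        χ x = ν y := by
  obtain ⟨ν, hν⟩ := Linear.exists_hom_of_isCharacter (Core.isIrr_isCharacter h.1) h1
  have hν' : ∀ x, θ x = ν x := fun x => congrFun hν x
  refine ⟨ν, hν', ?_, ?_⟩
  · intro x y hxy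
    by_cases hu : u = 1
    · subst hu
      have : y = x := Subtype.ext (by rw [hxy]; group)
      rw [this]
    · have h2 := ((gc_iff (fu.act hu)).1 h).2.1 x
      have h3 : y = ⟨u * x * u⁻¹, (fu.act hu).norm x x.2⟩ := Subtype.ext hxy
      rw [hν', hν'] at h2
      rw [h3]
      exact Units.ext h2
  · intro x y hxy
    by_cases hu : u = 1
    · subst hu
      rw [gc_one] at h
      have h2 := h y
      rw [hν'] at h2
      have h3 : x = ⟨y, y.2, mem_cent_one _⟩ := Subtype.ext hxy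
      rw [h3]
      exact Units.ext h2.symm
    · have h2 := ((gc_iff (fu.act hu)).1 h).2.2.linear h1 x
      have h3 : jFix R u x = y := Subtype.ext hxy
      rw [h3, hν'] at h2
      exact Units.ext h2.symm

theorem GC_of_linear (fu : Fu π z u₀ s₀ Tr E t u s Au Atu P R D r mr) {χ : Fx u R →* ℂˣ}
    (ν : R →* ℂˣ) (h1 : ∀ x y : R, (y : N) = u * x * u⁻¹ → ν y = ν x)
    (h2 : ∀ (x : Fx u R) (y : R), (x : N) = y → χ x = ν y) :
    GC R u (fun x => (ν x : ℂ)) χ := by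
  by_cases hu : u = 1
  · subst hu
    rw [gc_one]
    intro y
    rw [h2 ⟨y, y.2, mem_cent_one _⟩ y rfl]
  · refine (gc_iff (fu.act hu)).2 ⟨Linear.isIrrCharacter_hom ν, fun x => ?_,
      Linear.isIrrCharacter_hom χ, 0, Core.isCharacter_zero, fun w => ?_⟩
    · show ((ν _ : ℂˣ) : ℂ) = ((ν _ : ℂˣ) : ℂ)
      rw [h1 x _ rfl]
    · show ((ν (jFix R u w) : ℂˣ) : ℂ) = ((χ w : ℂˣ) : ℂ) + 2 * 0
      rw [h2 w (jFix R u w) rfl]
      ring

theorem GC_degree (fu : Fu π z u₀ s₀ Tr E t u s Au Atu P R D r mr) {χ : Fx u R →* ℂˣ}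
    {θ : R → ℂ} (h : GC R u θ χ) (h1 : θ 1 ≠ 1) : ∃ d : ℕ, θ 1 = d ∧ r ≤ d := by
  obtain ⟨n, ρ, hρ, rfl⟩ := h.1
  have hd := DegreeBounds.finrank_dvd_card ρ
  rw [Module.finrank_fin_fun] at hd
  have h2 : ρ.character 1 = n := by
    rw [Representation.char_one, Module.finrank_fin_fun]
  refine ⟨n, h2, ?_⟩
  have := fu.prime
  have : Fact r.Prime := ⟨fu.prime⟩
  obtain ⟨k, hk⟩ := IsPGroup.iff_card.1 fu.R_pg
  rw [hk] at hd
  obtain ⟨j, -, hj⟩ := (Nat.dvd_prime_pow fu.prime).1 hd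
  rw [hj]
  have hj0 : j ≠ 0 := by
    rintro rfl
    rw [pow_zero] at hj
    have h3 : (n : ℂ) = 1 := by exact_mod_cast hj
    exact h1 (h2.trans h3)
  exact Nat.le_self_pow hj0 r

end Main

end Cfsg.Agent.Classification.QDW.CaseU
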