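import Mathlib
import Cfsg.Prelude.Def_Characters
import Cfsg.Agent.Characters.Core
import Cfsg.Agent.Characters.Clifford
import Cfsg.Agent.Characters.Linear
import Cfsg.Agent.CharactersDeep.AbelianQuotient
import Cfsg.Agent.Classification.QDW.Inertia
import Cfsg.Agent.Classification.QDW.LineC
import Cfsg.Agent.Classification.QDW.FuDefs
import Cfsg.Agent.Classification.QDW.FuTI
import Cfsg.Agent.Classification.QDW.FuTheta
import Cfsg.Agent.Classification.QDW.FuJ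

/-!
# Case U: counting orbits

The statements `false_of_neg`, `linear_of_pos`, `fibre_le` of the specification: the orbits of `N`
on the characters of `R` over the characters of `T_{u,r}` and `T_{tu,r}`.
-/

set_option autoImplicit false
set_option linter.unusedSectionVars false

namespace Cfsg.Agent.Classification.QDW.CaseU.Orb

open Cfsg Cfsg.Agent.Characters Cfsg.Agent.Classification.InvCent
open Cfsg.Agent.Classification.QDW.Inertia

universe u v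

section Local

variable {N : Type u} [Group N] [Finite N] {H : Type v} [Group H] {π : N →* H} {z u₀ s₀ s₀' : H}
  {Z T T' U L₀ Tr E : Subgroup H} {t u s : N} {Au Atu P R D : Subgroup N} {r mr q m : ℕ} {ε : ℤ}
  {X : N → ℂ}

theorem Fx_eq (fu : Fu π z u₀ s₀ Tr E t u s Au Atu P R D r mr) : Fx u R = P ⊓ R := by
  ext x
  rw [Subgroup.mem_inf, Subgroup.mem_inf]
  constructor
  · rintro ⟨h1, h2⟩
    exact ⟨fu.fix_le x h1 (Subgroup.mem_centralizer_singleton_iff.1 h2).symm, h1⟩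
  · rintro ⟨h1, h2⟩
    exact ⟨h2, Subgroup.mem_centralizer_singleton_iff.2 (fu.P_comm x h1).symm⟩

theorem mr_pos (fu : Fu π z u₀ s₀ Tr E t u s Au Atu P R D r mr) : 7 ≤ mr := by
  obtain ⟨k, hk⟩ := fu.mr_eq
  have h7 := fu.r7
  rw [hk, pow_succ]
  exact h7.trans (Nat.le_mul_of_pos_left _ (pow_pos (by omega) _))

theorem mr_odd (fu : Fu π z u₀ s₀ Tr E t u s Au Atu P R D r mr) : Odd mr := by
  obtain ⟨k, hk⟩ := fu.mr_eq
  have h7 := fu.r7
  rw [hk]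
  exact (fu.prime.odd_of_ne_two (by omega)).pow

/-- The three indices. -/
theorem index_aux (fu : Fu π z u₀ s₀ Tr E t u s Au Atu P R D r mr) {A B : Subgroup N}
    (hA : (P ⊓ A).relIndex P = mr) (hB : (P ⊓ B).relIndex P = mr)
    (h0 : (P ⊓ R ⊓ A ⊓ B).relIndex P = mr ^ 3) :
    (P ⊓ R ⊓ A).relIndex (P ⊓ R) = mr ∧ (P ⊓ R ⊓ A ⊓ B).relIndex (P ⊓ R ⊓ A) = mr := by
  have hm := mr_pos fu
  have h1 : (P ⊓ R ⊓ A).relIndex (P ⊓ R) ≤ mr := by
    have h2 : (P ⊓ R ⊓ A).relIndex (P ⊓ R) = (P ⊓ A).relIndex (P ⊓ R) := by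
      rw [← Subgroup.inf_relIndex_right (P ⊓ A) (P ⊓ R)]
      congr 1
      ext x
      simp only [Subgroup.mem_inf]
      tauto
    rw [h2, ← hA]
    exact Subgroup.relIndex_le_of_le_right inf_le_left (by rw [hA]; omega)
  have h2 : (P ⊓ R ⊓ A ⊓ B).relIndex (P ⊓ R ⊓ A) ≤ mr := by
    have h2 : (P ⊓ R ⊓ A ⊓ B).relIndex (P ⊓ R ⊓ A) = (P ⊓ B).relIndex (P ⊓ R ⊓ A) := by
      rw [← Subgroup.inf_relIndex_right (P ⊓ B) (P ⊓ R ⊓ A)]
      congr 1
      ext x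
      simp only [Subgroup.mem_inf]
      tauto
    rw [h2, ← hB]
    exact Subgroup.relIndex_le_of_le_right (inf_le_left.trans inf_le_left) (by rw [hB]; omega)
  have h3 : (P ⊓ R ⊓ A ⊓ B).relIndex (P ⊓ R ⊓ A) * (P ⊓ R ⊓ A).relIndex (P ⊓ R) =
      (P ⊓ R ⊓ A ⊓ B).relIndex (P ⊓ R) :=
    Subgroup.relIndex_mul_relIndex _ _ _ inf_le_left inf_le_left
  have h4 : (P ⊓ R ⊓ A ⊓ B).relIndex (P ⊓ R) * (P ⊓ R).relIndex P =
      (P ⊓ R ⊓ A ⊓ B).relIndex P :=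
    Subgroup.relIndex_mul_relIndex _ _ _ (inf_le_left.trans inf_le_left) inf_le_left
  rw [h0, fu.idx_t, ← h3] at h4
  set x := (P ⊓ R ⊓ A).relIndex (P ⊓ R)
  set y := (P ⊓ R ⊓ A ⊓ B).relIndex (P ⊓ R ⊓ A)
  have h5 : y * x = mr * mr := by
    have h6 : y * x * mr = mr * mr * mr := by rw [h4]; ring
    exact Nat.eq_of_mul_eq_mul_right (by omega) h6
  constructor
  · by_contra hne
    have h6 : x < mr := lt_of_le_of_ne h1 hne
    have h7 : y * x < mr * mr := by nlinarith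
    omega
  · by_contra hne
    have h6 : y < mr := lt_of_le_of_ne h2 hne
    have h7 : y * x < mr * mr := by nlinarith
    omega

theorem index_u (fu : Fu π z u₀ s₀ Tr E t u s Au Atu P R D r mr) :
    (P ⊓ R ⊓ Au).relIndex (P ⊓ R) = mr ∧ (P ⊓ R ⊓ Au ⊓ Atu).relIndex (P ⊓ R ⊓ Au) = mr :=
  index_aux fu fu.idx_u fu.idx_tu fu.idx_0

theorem index_tu (fu : Fu π z u₀ s₀ Tr E t u s Au Atu P R D r mr) :
    (P ⊓ R ⊓ Atu).relIndex (P ⊓ R) = mr ∧ (P ⊓ R ⊓ Atu ⊓ Au).relIndex (P ⊓ R ⊓ Atu) = mr := by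
  refine index_aux fu fu.idx_tu fu.idx_u ?_
  rw [← fu.idx_0]
  congr 1
  ext x
  simp only [Subgroup.mem_inf]
  tauto

theorem sup_eq (fu : Fu π z u₀ s₀ Tr E t u s Au Atu P R D r mr) :
    P ⊓ R ≤ (P ⊓ R ⊓ Au) ⊔ (P ⊓ R ⊓ Atu) := by
  have hm := mr_pos fu
  have h1 := (index_tu fu).1
  have h2 := (index_u fu).2
  have hle : (P ⊓ R ⊓ Au) ⊔ (P ⊓ R ⊓ Atu) ≤ P ⊓ R := sup_le inf_le_left inf_le_left
  have h3 : (P ⊓ R ⊓ Atu).relIndex ((P ⊓ R ⊓ Au) ⊔ (P ⊓ R ⊓ Atu)) *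
      ((P ⊓ R ⊓ Au) ⊔ (P ⊓ R ⊓ Atu)).relIndex (P ⊓ R) = (P ⊓ R ⊓ Atu).relIndex (P ⊓ R) :=
    Subgroup.relIndex_mul_relIndex _ _ _ le_sup_right hle
  have h4 : mr ≤ (P ⊓ R ⊓ Atu).relIndex ((P ⊓ R ⊓ Au) ⊔ (P ⊓ R ⊓ Atu)) := by
    have h5 : (P ⊓ R ⊓ Au ⊓ Atu).relIndex (P ⊓ R ⊓ Au) =
        (P ⊓ R ⊓ Atu).relIndex (P ⊓ R ⊓ Au) := by
      rw [← Subgroup.inf_relIndex_right (P ⊓ R ⊓ Atu) (P ⊓ R ⊓ Au)]
      congr 1
      ext x
      simp only [Subgroup.mem_inf]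
      tauto
    rw [← h2, h5]
    refine Subgroup.relIndex_le_of_le_right le_sup_left ?_
    exact Subgroup.index_ne_zero_of_finite
  rw [h1] at h3
  have h5 : ((P ⊓ R ⊓ Au) ⊔ (P ⊓ R ⊓ Atu)).relIndex (P ⊓ R) = 1 := by
    by_contra hne
    have h6 : ((P ⊓ R ⊓ Au) ⊔ (P ⊓ R ⊓ Atu)).relIndex (P ⊓ R) ≠ 0 :=
      Subgroup.index_ne_zero_of_finite
    have h7 : 2 ≤ ((P ⊓ R ⊓ Au) ⊔ (P ⊓ R ⊓ Atu)).relIndex (P ⊓ R) := by omega
    have h8 := Nat.mul_le_mul h4 h7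
    rw [h3] at h8
    omega
  exact Subgroup.relIndex_eq_one.1 h5

/-- A character of both families is trivial. -/
theorem not_both (fu : Fu π z u₀ s₀ Tr E t u s Au Atu P R D r mr) {χ : Fx u R →* ℂˣ}
    (h : IsX R u Au χ) (h' : IsX R u Atu χ) : False := by
  refine h.ne_one ?_
  have h1 : (P ⊓ R ⊓ Au) ⊔ (P ⊓ R ⊓ Atu) ≤ χ.ker.map (Fx u R).subtype := by
    refine sup_le ?_ ?_
    · intro x hx
      have hxF : x ∈ Fx u R := by
        rw [Fx_eq fu]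
        exact hx.1
      exact ⟨⟨x, hxF⟩, h.triv ⟨x, hxF⟩ hx.2, rfl⟩
    · intro x hx
      have hxF : x ∈ Fx u R := by
        rw [Fx_eq fu]
        exact hx.1
      exact ⟨⟨x, hxF⟩, h'.triv ⟨x, hxF⟩ hx.2, rfl⟩
  have h2 := (sup_eq fu).trans h1
  ext x
  have h3 : (x : N) ∈ P ⊓ R := by
    rw [← Fx_eq fu]
    exact x.2
  obtain ⟨y, hy, hyx⟩ := h2 h3
  have h4 : y = x := Subtype.ext hyx
  rw [← h4]
  rw [MonoidHom.mem_ker.1 hy]
  rfl

/-- One of the two sides. -/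
structure Side (u : N) (P R A : Subgroup N) (mr : ℕ) : Prop where
  conj : ∀ g, Commute u g → ∀ x ∈ A, g * x * g⁻¹ ∈ A
  cyc : ∃ g ∈ P, ∀ x ∈ P, ∃ k : ℕ, x * (g ^ k)⁻¹ ∈ A
  idx : A.relIndex (Fx u R) = mr

theorem side_u (fu : Fu π z u₀ s₀ Tr E t u s Au Atu P R D r mr) : Side u P R Au mr where
  conj := fu.Au_conj
  cyc := fu.cyc_u
  idx := by
    rw [Fx_eq fu, ← (index_u fu).1, ← Subgroup.inf_relIndex_right Au (P ⊓ R)]
    congr 1
    ext x
    simp only [Subgroup.mem_inf]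
    tauto

theorem side_tu (fu : Fu π z u₀ s₀ Tr E t u s Au Atu P R D r mr) : Side u P R Atu mr where
  conj := fu.Atu_conj
  cyc := fu.cyc_tu
  idx := by
    rw [Fx_eq fu, ← (index_tu fu).1, ← Subgroup.inf_relIndex_right Atu (P ⊓ R)]
    congr 1
    ext x
    simp only [Subgroup.mem_inf]
    tauto

theorem Side.comm {A : Subgroup N} (h : Side u P R A mr) (hP : ∀ x ∈ P, Commute u x) :
    ∀ x ∈ P, ∀ y ∈ P, x * y * x⁻¹ * y⁻¹ ∈ A := by
  have hn : (A.subgroupOf P).Normal := by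
    constructor
    intro x hx g
    exact h.conj g (hP g g.2) x hx
  obtain ⟨g, hg, hcyc⟩ := h.cyc
  have key : ∀ x : P, ∃ k : ℕ, (x : P ⧸ A.subgroupOf P) = ((⟨g, hg⟩ : P) : P ⧸ A.subgroupOf P) ^ k := by
    intro x
    obtain ⟨k, hk⟩ := hcyc x x.2
    refine ⟨k, ?_⟩
    rw [← QuotientGroup.mk_pow, QuotientGroup.eq_iff_div_mem, div_eq_mul_inv]
    exact hk
  intro x hx y hy
  obtain ⟨k, hk⟩ := key ⟨x, hx⟩
  obtain ⟨l, hl⟩ := key ⟨y, hy⟩
  have h1 : (((⟨x, hx⟩ : P) * ⟨y, hy⟩ * ⟨x, hx⟩⁻¹ * ⟨y, hy⟩⁻¹ : P) : P ⧸ A.subgroupOf P) = 1 := by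
    rw [QuotientGroup.mk_mul, QuotientGroup.mk_mul, QuotientGroup.mk_mul, QuotientGroup.mk_inv,
      QuotientGroup.mk_inv, hk, hl, ← pow_add, add_comm, pow_add, mul_inv_cancel_right,
      mul_inv_cancel]
  rw [QuotientGroup.eq_one_iff] at h1
  exact h1

/-- The dual group. -/
theorem Side.exists_dual {A : Subgroup N} (h : Side u P R A mr) (hP : ∀ x ∈ P, Commute u x)
    (hF : Fx u R = P ⊓ R) : ∃ Λ : Finset (Fx u R →* ℂˣ),
      (∀ l, l ∈ Λ ↔ ∀ x : Fx u R, (x : N) ∈ A → l x = 1) ∧ Λ.card = mr := by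
  have hFP : Fx u R ≤ P := by
    rw [hF]
    exact inf_le_left
  have hn : (A.subgroupOf (Fx u R)).Normal := by
    constructor
    intro x hx g
    exact h.conj g (hP g (hFP g.2)) x hx
  obtain ⟨Λ, h1, h2, -, -⟩ := CharactersDeep.AbelianQuotient.exists_linear_dual
    (A.subgroupOf (Fx u R)) (fun x y => h.comm hP x (hFP x.2) y (hFP y.2))
  exact ⟨Λ, h1, h2.trans h.idx⟩

end Local

section Orbits

variable {N : Type u} [Group N] [Finite N] {H : Type v} [Group H] {π : N →* H} {z u₀ s₀ s₀' : H}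
  {Z T T' U L₀ Tr E : Subgroup H} {t u s : N} {Au Atu P R D : Subgroup N} {r mr q m : ℕ} {ε : ℤ}
  {X : N → ℂ}

theorem Jim_conj {R : Subgroup N} [hR : R.Normal] {a b : R → ℂ} {y : N}
    (h : ∀ x : R, a ⟨y * x * y⁻¹, hR.conj_mem x x.2 y⟩ = b x) {k : H}
    (hk : k ∈ Jim π b) : π y * k * (π y)⁻¹ ∈ Jim π a := by
  obtain ⟨g, hg, rfl⟩ := hk
  refine ⟨y * g * y⁻¹, FuTI.stab_conj' h hg, ?_⟩
  rw [map_mul, map_mul, map_inv]

/-- Conjugation maps of a finite subgroup. -/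
theorem mem_Nm_of [Finite H] {S : Subgroup H} {g : H} (h : ∀ x ∈ S, g * x * g⁻¹ ∈ S) : g ∈ Nm S :=
  Subgroup.mem_normalizer_fintype (S := (S : Set H)) h

theorem mem_Nm_cj {S : Subgroup H} {g x : H} : x ∈ Nm (cj g S) ↔ g⁻¹ * x * g ∈ Nm S := by
  rw [Subgroup.mem_normalizer_iff, Subgroup.mem_normalizer_iff]
  constructor
  · intro h y
    have h1 := h (g * y * g⁻¹)
    have e1 : g * y * g⁻¹ ∈ cj g S ↔ y ∈ S := by
      rw [mem_cj]
      have : g⁻¹ * (g * y * g⁻¹) * g = y := by group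
      rw [this]
    have e2 : x * (g * y * g⁻¹) * x⁻¹ ∈ cj g S ↔ g⁻¹ * x * g * y * (g⁻¹ * x * g)⁻¹ ∈ S := by
      rw [mem_cj]
      have : g⁻¹ * (x * (g * y * g⁻¹) * x⁻¹) * g = g⁻¹ * x * g * y * (g⁻¹ * x * g)⁻¹ := by group
      rw [this]
    exact e1.symm.trans (h1.trans e2)
  · intro h y
    have h1 := h (g⁻¹ * y * g)
    have e1 : y ∈ cj g S ↔ g⁻¹ * y * g ∈ S := mem_cj
    have e2 : x * y * x⁻¹ ∈ cj g S ↔ g⁻¹ * x * g * (g⁻¹ * y * g) * (g⁻¹ * x * g)⁻¹ ∈ S := by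
      rw [mem_cj]
      have : g⁻¹ * (x * y * x⁻¹) * g = g⁻¹ * x * g * (g⁻¹ * y * g) * (g⁻¹ * x * g)⁻¹ := by group
      rw [this]
    exact e1.trans (h1.trans e2.symm)

theorem index_Nm_cj (S : Subgroup H) (g : H) : (Nm (cj g S)).index = (Nm S).index := by
  have h1 : Nm (cj g S) = (Nm S).comap (MulAut.conj g⁻¹).toMonoidHom := by
    ext x
    rw [mem_Nm_cj]
    show _ ↔ g⁻¹ * x * g⁻¹⁻¹ ∈ Nm S
    rw [inv_inv]
  rw [h1, Subgroup.index_comap_of_surjective _ (MulAut.conj g⁻¹).surjective]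

/-- The multiplicity as a natural number. -/
theorem exists_mult {R : Subgroup N} [Fintype R] (v : Val t u Au Atu P q ε m X) {θ : R → ℂ}
    (hθ : IsIrrCharacter R θ) (hm : (m : ℝ) ≤ mr * (classInner (fun y : R => X y) θ).re) :
    ∃ k : ℕ, classInner (fun y : R => X y) θ = k ∧ m ≤ mr * k := by
  obtain ⟨k, hk⟩ := Core.classInner_isNat (Clifford.isCharacter_restrict R v.char)
    (Core.isIrr_isCharacter hθ)
  refine ⟨k, hk, ?_⟩
  rw [hk, Complex.natCast_re] at hm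
  exact_mod_cast hm

/-- Characters of Borel type over a point. -/
theorem fibre_sum (geo : Geo z q ε Z T T' U s₀ s₀' u₀ L₀ Tr E r) {R : Subgroup N} [hR : R.Normal]
    [Fintype R] (hs : Function.Surjective π) (v : Val t u Au Atu P q ε m X) (hε : ε = 1)
    (hd : (X 1).re ≤ (q : ℝ) ^ 2 - 1) (g : H) {ι : Type*} (S : Finset ι) (θ : ι → R → ℂ)
    (hirr : ∀ i ∈ S, IsIrrCharacter R (θ i)) (hinj : Set.InjOn θ S)
    (hm : ∀ i ∈ S, (m : ℝ) ≤ mr * (classInner (fun y : R => X y) (θ i)).re)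
    (hJ : ∀ i ∈ S, cj g U ≤ Jim π (θ i) ∧ Jim π (θ i) ≤ Nm (cj g U)) (d : ι → ℕ)
    (hdeg : ∀ i ∈ S, θ i 1 = d i) : ∑ i ∈ S, d i ≤ 2 * mr := by
  classical
  have hfH : Finite H := Finite.of_surjective π hs
  obtain ⟨n, hn⟩ := Core.isCharacter_apply_one v.char
  have hq := geo.q_big
  choose k hk hkm using fun i : S => exists_mult v (hirr i i.2) (hm i i.2)
  have hb := geo.chyp.base
  have h₁ : Torus q 1 Z T s₀ := by
    have h1 := geo.chyp.torus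
    rwa [hε] at h1
  have hnU := geo.norm₁ hε
  have hind : ((Nm (cj g U)).comap π).index = q + 1 := by
    rw [Subgroup.index_comap_of_surjective _ hs, index_Nm_cj]
    exact LineC.index_N hb h₁ hnU
  have key := FuTI.ti_count R v.char hn ((Nm (cj g U)).comap π) (ι := S) (fun i => θ i)
    (fun i => hirr i i.2) (fun i j hij => Subtype.ext (hinj i.2 j.2 hij)) (by
      intro y i j hy
      show π y ∈ Nm (cj g U)
      refine mem_Nm_of fun x hx => ?_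
      have h1 : π y * x * (π y)⁻¹ ∈ Nm (cj g U) :=
        (hJ i i.2).2 (Jim_conj hy ((hJ j j.2).1 hx))
      rw [mem_cj] at hx ⊢
      rw [mem_Nm_cj] at h1
      refine LineC.mem_U_of_pow hb h₁ hnU h1 ?_
      have h2 : g⁻¹ * (π y * x * (π y)⁻¹) * g =
          (g⁻¹ * π y * g) * (g⁻¹ * x * g) * (g⁻¹ * π y * g)⁻¹ := by group
      rw [h2]
      exact LineC.conj_pow_q hb hx _)
    k (fun i => d i) (fun i => hdeg i i.2) (fun i => ⟨k i, le_rfl, by convert hk i⟩)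
  rw [hind] at key
  -- the arithmetic
  have hnq : (n : ℝ) ≤ (q : ℝ) ^ 2 - 1 := by
    rw [hn, Complex.natCast_re] at hd
    exact hd
  have h2m : (2 * m : ℤ) = q - 1 := by
    have := v.two_m
    rwa [hε] at this
  have hm0 : 0 < m := by omega
  have h1 : ∑ i : S, k i * d i ≤ 2 * m := by
    have h3 : (((q + 1) * ∑ i : S, k i * d i : ℕ) : ℝ) ≤ (q : ℝ) ^ 2 - 1 :=
      le_trans (by exact_mod_cast key) hnq
    have h4 : ((q : ℝ) + 1) * ((∑ i : S, k i * d i : ℕ) : ℝ) ≤ ((q : ℝ) + 1) * (q - 1) := by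
      rw [Nat.cast_mul] at h3
      push_cast at h3 ⊢
      nlinarith
    have h5 : (0 : ℝ) < (q : ℝ) + 1 := by positivity
    have h6 := le_of_mul_le_mul_left h4 h5
    have h7 : ((∑ i : S, k i * d i : ℕ) : ℤ) ≤ q - 1 := by
      have h8 : ((∑ i : S, k i * d i : ℕ) : ℝ) ≤ ((q - 1 : ℤ) : ℝ) := by
        push_cast at h6 ⊢
        exact h6
      exact_mod_cast h8
    rw [← h2m] at h7
    exact_mod_cast h7
  have h2 : m * ∑ i : S, d i ≤ mr * ∑ i : S, k i * d i := by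
    rw [Finset.mul_sum, Finset.mul_sum]
    refine Finset.sum_le_sum fun i _ => ?_
    calc m * d i ≤ mr * k i * d i := Nat.mul_le_mul_right _ (hkm i)
      _ = mr * (k i * d i) := by ring
  have h3 : m * ∑ i : S, d i ≤ m * (2 * mr) := by
    refine h2.trans ((Nat.mul_le_mul_left mr h1).trans (le_of_eq ?_))
    ring
  have h4 := Nat.le_of_mul_le_mul_left h3 hm0
  have h5 : ∑ i : S, d i = ∑ i ∈ S, d i := Finset.sum_coe_sort S d
  rw [← h5]
  exact h4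

/-- Characters of torus type. -/
theorem torus_sum (geo : Geo z q ε Z T T' U s₀ s₀' u₀ L₀ Tr E r) {R : Subgroup N} [hR : R.Normal]
    [Fintype R] (hs : Function.Surjective π) (hr : r.Prime) (v : Val t u Au Atu P q ε m X) {n : ℕ}
    (hn : X 1 = n) {ι : Type*} (S : Finset ι) (θ : ι → R → ℂ)
    (hirr : ∀ i ∈ S, IsIrrCharacter R (θ i)) (hinj : Set.InjOn θ S)
    (hm : ∀ i ∈ S, (m : ℝ) ≤ mr * (classInner (fun y : R => X y) (θ i)).re)
    (hT : ∀ i ∈ S, Tr ≤ Jim π (θ i))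
    (hJ : ∀ i ∈ S, ∀ g ∈ Jim π (θ i), ∀ x ∈ Tr, g * x * g⁻¹ ∈ Tr) :
    ∃ k : ι → ℕ, (∀ i ∈ S, m ≤ mr * k i) ∧ (Nm Tr).index * ∑ i ∈ S, k i ≤ n := by
  classical
  have hfH : Finite H := Finite.of_surjective π hs
  have hrf : Fact r.Prime := ⟨hr⟩
  choose k hk hkm using fun i : S => exists_mult v (hirr i i.2) (hm i i.2)
  choose d hd0 hd using fun i : S => Core.isIrr_apply_one (hirr i i.2)
  -- an `r`-element of the normalizer of `Tr` is in `Tr`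
  have hmem : ∀ y ∈ Nm Tr, (∃ a : ℕ, y ^ r ^ a = 1) → y ∈ Tr := by
    intro y hy ⟨a, ha⟩
    have h1 : IsPGroup r (Subgroup.zpowers y) := by
      rintro ⟨w, hw⟩
      obtain ⟨b, rfl⟩ := hw
      refine ⟨a, Subtype.ext ?_⟩
      show (y ^ b) ^ r ^ a = 1
      rw [← zpow_natCast, ← zpow_mul, mul_comm, zpow_mul, zpow_natCast, ha, one_zpow]
    have h2 : IsPGroup r (Tr ⊔ Subgroup.zpowers y : Subgroup H) := by
      refine IsPGroup.to_sup_of_normal_left' geo.Tr_pg h1 ?_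
      rw [Subgroup.zpowers_le]
      exact hy
    -- the index
    have h3 : Tr.relIndex (Tr ⊔ Subgroup.zpowers y) ∣ Tr.index :=
      Subgroup.relIndex_dvd_index_of_le le_sup_left
    obtain ⟨b, hb⟩ : ∃ b, Tr.relIndex (Tr ⊔ Subgroup.zpowers y) = r ^ b := by
      obtain ⟨c, hc⟩ := IsPGroup.iff_card.1 h2
      have h4 : Tr.relIndex (Tr ⊔ Subgroup.zpowers y) ∣ r ^ c := by
        rw [← hc]
        exact Subgroup.index_dvd_card _
      obtain ⟨b, -, hb⟩ := (Nat.dvd_prime_pow hr).1 h4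
      exact ⟨b, hb⟩
    have h4 : b = 0 := by
      by_contra hb0
      refine geo.Tr_index (dvd_trans ?_ h3)
      rw [hb]
      exact dvd_pow_self r hb0
    rw [h4, pow_zero, Subgroup.relIndex_eq_one] at hb
    exact hb (Subgroup.mem_sup_right (Subgroup.mem_zpowers y))
  have key := FuTI.ti_count R v.char hn ((Nm Tr).comap π) (ι := S) (fun i => θ i)
    (fun i => hirr i i.2) (fun i j hij => Subtype.ext (hinj i.2 j.2 hij)) (by
      intro y i j hy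
      show π y ∈ Nm Tr
      refine mem_Nm_of fun x hx => ?_
      have h1 : π y * x * (π y)⁻¹ ∈ Nm Tr :=
        mem_Nm_of fun w hw => hJ i i.2 _ (Jim_conj hy (hT j j.2 hx)) w hw
      refine hmem _ h1 ?_
      obtain ⟨a, ha⟩ := geo.Tr_pg ⟨x, hx⟩
      refine ⟨a, ?_⟩
      have h2 : x ^ r ^ a = 1 := congrArg Subtype.val ha
      rw [conj_pow, h2]
      group)
    k d hd (fun i => ⟨k i, le_rfl, by convert hk i⟩)
  rw [Subgroup.index_comap_of_surjective _ hs] at key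
  refine ⟨fun i => if h : i ∈ S then k ⟨i, h⟩ else 0, fun i hi => ?_, ?_⟩
  · show m ≤ mr * (if h : i ∈ S then k ⟨i, h⟩ else 0)
    rw [dif_pos hi]
    exact hkm ⟨i, hi⟩
  · refine le_trans (Nat.mul_le_mul_left _ ?_) key
    rw [← Finset.sum_coe_sort S]
    refine Finset.sum_le_sum fun i _ => ?_
    rw [dif_pos i.2]
    exact Nat.le_mul_of_pos_right _ (hd0 i)

/-- **`ε = -1`.** -/
theorem false_of_neg (geo : Geo z q ε Z T T' U s₀ s₀' u₀ L₀ Tr E r)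
    (fu : Fu π z u₀ s₀ Tr E t u s Au Atu P R D r mr) (v : Val t u Au Atu P q ε m X)
    (hε : ε = -1) (hd : (X 1).re ≤ 2 * ((q : ℝ) ^ 2 - 1)) : False := by
  classical
  have hRn := fu.R_normal
  let _ : Fintype R := Fintype.ofFinite _
  obtain ⟨n, hn⟩ := Core.isCharacter_apply_one v.char
  obtain ⟨Λ, hΛ, hc⟩ := (side_u fu).exists_dual fu.P_comm (Fx_eq fu)
  have hX : ∀ χ ∈ Λ.erase 1, IsX R u Au χ := by
    intro χ hχ
    rw [Finset.mem_erase] at hχ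
    exact ⟨hχ.1, (hΛ χ).1 hχ.2⟩
  choose! θ hθ using fun (χ : Fx u R →* ℂˣ) (hχ : IsX R u Au χ) => exists_theta fu v geo.chyp.eps geo.chyp.one_lt_q (Or.inl hχ)
  obtain ⟨k, hk, hsum⟩ := torus_sum geo fu.surj fu.prime v hn (Λ.erase 1) θ
    (fun χ hχ => (hθ χ (hX χ hχ)).1.1)
    (fun χ hχ χ' hχ' he => (GC_inj fu (hθ χ (hX χ hχ)).1 (hθ χ' (hX χ' hχ')).1).2 he)
    (fun χ hχ => (hθ χ (hX χ hχ)).2)
    (fun χ hχ => (J_ge geo fu (Or.inl (hX χ hχ)) (hθ χ (hX χ hχ)).1).1)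
    (fun χ hχ => by
      obtain ⟨h1, h2, h3⟩ := J_ge geo fu (Or.inl (hX χ hχ)) (hθ χ (hX χ hχ)).1
      rcases geo.tri _ h1 h2 h3 with h4 | ⟨h4, -⟩
      · exact h4
      · rw [hε] at h4
        norm_num at h4)
  -- the arithmetic
  have hmr := mr_pos fu
  have hq := geo.q_big
  have hcard : (Λ.erase 1).card = mr - 1 := by
    rw [Finset.card_erase_of_mem ((hΛ 1).2 fun _ _ => rfl), hc]
  have h1 : (mr - 1) * m ≤ mr * ∑ χ ∈ Λ.erase 1, k χ := by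
    rw [← hcard, ← smul_eq_mul, ← Finset.sum_const, Finset.mul_sum]
    exact Finset.sum_le_sum hk
  have h2m : (2 * m : ℤ) = q + 1 := by
    have := v.two_m
    rw [hε] at this
    linarith
  have hind : (q : ℤ) * (q - 1) ≤ 2 * (Nm Tr).index := by
    have := geo.index_T
    rw [hε] at this
    linarith
  have hnq : (n : ℤ) ≤ 2 * ((q : ℤ) ^ 2 - 1) := by
    rw [hn, Complex.natCast_re] at hd
    exact_mod_cast hd
  have h3 : ((Nm Tr).index : ℤ) * ∑ χ ∈ Λ.erase 1, (k χ : ℤ) ≤ n := by exact_mod_cast hsum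
  have h4 : ((mr : ℤ) - 1) * m ≤ mr * ∑ χ ∈ Λ.erase 1, (k χ : ℤ) := by
    have h5 : (((mr - 1) * m : ℕ) : ℤ) ≤ ((mr * ∑ χ ∈ Λ.erase 1, k χ : ℕ) : ℤ) := by
      exact_mod_cast h1
    push_cast [Nat.cast_sub (by omega : 1 ≤ mr)] at h5
    exact h5
  set σ : ℤ := ∑ χ ∈ Λ.erase 1, (k χ : ℤ) with hσ
  have hσ0 : 0 ≤ σ := Finset.sum_nonneg fun _ _ => by positivity
  have hmr' : (7 : ℤ) ≤ mr := by exact_mod_cast hmr
  have hq' : (27 : ℤ) ≤ q := by exact_mod_cast hq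
  -- `q (q - 1) (mr - 1) m ≤ 2 mr n`
  have h5 : (q : ℤ) * (q - 1) * (((mr : ℤ) - 1) * m) ≤ 2 * mr * n := by
    have a1 : (q : ℤ) * (q - 1) * (((mr : ℤ) - 1) * m) ≤ q * (q - 1) * (mr * σ) :=
      mul_le_mul_of_nonneg_left h4 (by nlinarith)
    have a2 : (q : ℤ) * (q - 1) * (mr * σ) ≤ 2 * (Nm Tr).index * (mr * σ) :=
      mul_le_mul_of_nonneg_right hind (by positivity)
    have a3 : (mr : ℤ) * ((Nm Tr).index * σ) ≤ mr * n := mul_le_mul_of_nonneg_left h3 (by positivity)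
    calc (q : ℤ) * (q - 1) * (((mr : ℤ) - 1) * m) ≤ 2 * (Nm Tr).index * (mr * σ) := a1.trans a2
      _ = 2 * (mr * ((Nm Tr).index * σ)) := by ring
      _ ≤ 2 * (mr * n) := by linarith
      _ = 2 * mr * n := by ring
  have h6 : (q : ℤ) * (q - 1) * (((mr : ℤ) - 1) * (q + 1)) ≤ 8 * mr * ((q : ℤ) ^ 2 - 1) := by
    have a1 : 2 * ((q : ℤ) * (q - 1) * (((mr : ℤ) - 1) * m)) ≤ 2 * (2 * mr * n) := by linarith
    have a2 : (mr : ℤ) * n ≤ mr * (2 * ((q : ℤ) ^ 2 - 1)) :=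
      mul_le_mul_of_nonneg_left hnq (by positivity)
    rw [← h2m]
    linarith
  have h7 : ((q : ℤ) ^ 2 - 1) * (q * (mr - 1)) ≤ ((q : ℤ) ^ 2 - 1) * (8 * mr) := by
    calc ((q : ℤ) ^ 2 - 1) * (q * (mr - 1)) = q * (q - 1) * ((mr - 1) * (q + 1)) := by ring
      _ ≤ 8 * mr * ((q : ℤ) ^ 2 - 1) := h6
      _ = _ := by ring
  have h8 : (0 : ℤ) < (q : ℤ) ^ 2 - 1 := by nlinarith
  have h9 := le_of_mul_le_mul_left h7 h8
  nlinarith

/-- **The fibre over a point** (`g = 1`: `∞`; `g = s₀`: `0`). -/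
theorem fibre_le (geo : Geo z q ε Z T T' U s₀ s₀' u₀ L₀ Tr E r) [R.Normal] [Fintype R]
    (fu : Fu π z u₀ s₀ Tr E t u s Au Atu P R D r mr) (v : Val t u Au Atu P q ε m X)
    (hε : ε = 1) (hd : (X 1).re ≤ (q : ℝ) ^ 2 - 1) (g : H) (S : Finset (R →* ℂˣ))
    (hS : ∀ ν ∈ S, (m : ℝ) ≤ mr * (classInner (fun y : R => X y) (fun x => (ν x : ℂ))).re ∧
      cj g U ≤ Jim π (fun x => (ν x : ℂ)) ∧ Jim π (fun x => (ν x : ℂ)) ≤ Nm (cj g U)) :
    S.card ≤ 2 * mr := by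
  have h1 := fibre_sum geo fu.surj v hε hd g S (fun ν x => (ν x : ℂ))
    (fun ν _ => Linear.isIrrCharacter_hom ν) (fun ν _ ν' _ he => by
      ext x
      exact congrFun he x) (fun ν hν => (hS ν hν).1) (fun ν hν => (hS ν hν).2) (fun _ => 1)
    (fun ν _ => by rw [map_one, Units.val_one, Nat.cast_one])
  rwa [Finset.sum_const, smul_eq_mul, mul_one] at h1

theorem s_Tr (fu : Fu π z u₀ s₀ Tr E t u s Au Atu P R D r mr) {x : H} :
    x ∈ Tr ↔ s₀ * x * s₀⁻¹ ∈ Tr := by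
  rw [← fu.map_P, ← fu.map_s]
  constructor
  · rintro ⟨y, hy, rfl⟩
    refine ⟨s * y * s⁻¹, (fu.s_P y).1 hy, ?_⟩
    rw [map_mul, map_mul, map_inv]
  · rintro ⟨y, hy, hyx⟩
    refine ⟨s⁻¹ * y * s, (fu.s_P _).2 ?_, ?_⟩
    · have h1 : s * (s⁻¹ * y * s) * s⁻¹ = y := by group
      rw [h1]
      exact hy
    · rw [map_mul, map_mul, map_inv, hyx]
      group

/-- The conjugate under `s` of a character of one of the families. -/
theorem exists_conj_char [hR : R.Normal] (fu : Fu π z u₀ s₀ Tr E t u s Au Atu P R D r mr)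
    {χ : Fx u R →* ℂˣ} (hχ : IsX R u Au χ ∨ IsX R u Atu χ) :
    ∃ χ' : Fx u R →* ℂˣ, (IsX R u Au χ' ∨ IsX R u Atu χ') ∧ χ ≠ χ' ∧
      ∀ x y : Fx u R, (y : N) = s * x * s⁻¹ → χ' x = χ y := by
  have hF := SetLike.ext_iff.1 (Fx_eq fu)
  have hmem : ∀ x : Fx u R, s * (x : N) * s⁻¹ ∈ Fx u R := by
    intro x
    have h1 := (hF x).1 x.2
    exact (hF _).2 ⟨(fu.s_P x).1 h1.1, hR.conj_mem _ h1.2 s⟩
  have hmem' : ∀ x : Fx u R, s⁻¹ * (x : N) * s ∈ Fx u R := by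
    intro x
    have h1 := (hF x).1 x.2
    refine (hF _).2 ⟨(fu.s_P _).2 ?_, ?_⟩
    · have h2 : s * (s⁻¹ * (x : N) * s) * s⁻¹ = x := by group
      rw [h2]
      exact h1.1
    · have h2 := hR.conj_mem _ h1.2 s⁻¹
      rwa [inv_inv] at h2
  let σ : Fx u R →* Fx u R :=
    { toFun := fun x => ⟨s * x * s⁻¹, hmem x⟩
      map_one' := Subtype.ext (by
        show s * ((1 : Fx u R) : N) * s⁻¹ = 1
        rw [Subgroup.coe_one]
        group)
      map_mul' := fun x y => Subtype.ext (by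
        show s * ((x : N) * y) * s⁻¹ = (s * x * s⁻¹) * (s * y * s⁻¹)
        group) }
  have hσ : ∀ x : Fx u R, σ ⟨s⁻¹ * x * s, hmem' x⟩ = x := by
    intro x
    apply Subtype.ext
    show s * (s⁻¹ * (x : N) * s) * s⁻¹ = x
    group
  have hne : ∀ {χ : Fx u R →* ℂˣ}, χ ≠ 1 → χ.comp σ ≠ 1 := by
    intro χ h1 h2
    refine h1 ?_
    ext x
    have h3 := DFunLike.congr_fun h2 ⟨s⁻¹ * x * s, hmem' x⟩
    rw [MonoidHom.comp_apply, hσ] at h3
    rw [h3]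
    rfl
  refine ⟨χ.comp σ, ?_, ?_, ?_⟩
  · rcases hχ with h | h
    · right
      exact ⟨hne h.ne_one, fun x hx => h.triv (σ x) ((fu.s_Atu x).1 hx)⟩
    · left
      exact ⟨hne h.ne_one, fun x hx => h.triv (σ x) ((fu.s_Au x).1 hx)⟩
  · intro he
    rcases hχ with h | h
    · refine not_both fu h ⟨h.ne_one, fun x hx => ?_⟩
      rw [he]
      exact h.triv (σ x) ((fu.s_Atu x).1 hx)
    · refine not_both fu ⟨h.ne_one, fun x hx => ?_⟩ h
      rw [he]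
      exact h.triv (σ x) ((fu.s_Au x).1 hx)
  · intro x y hy
    show χ (σ x) = χ y
    congr 1
    exact Subtype.ext hy.symm

/-- `ε = 1`: all the characters are of Borel type. -/
theorem borel_of_pos (geo : Geo z q ε Z T T' U s₀ s₀' u₀ L₀ Tr E r) [hR : R.Normal] [Fintype R]
    (fu : Fu π z u₀ s₀ Tr E t u s Au Atu P R D r mr) (v : Val t u Au Atu P q ε m X)
    (hε : ε = 1) (hd : (X 1).re ≤ (q : ℝ) ^ 2 - 1) {χ : Fx u R →* ℂˣ}
    (hχ : IsX R u Au χ ∨ IsX R u Atu χ) {θ : R → ℂ} (hθ : GC R u θ χ) :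
    (U ≤ Jim π θ ∧ Jim π θ ≤ Nm U) ∨ (cj s₀ U ≤ Jim π θ ∧ Jim π θ ≤ Nm (cj s₀ U)) := by
  classical
  obtain ⟨h1, h2, h3⟩ := J_ge geo fu hχ hθ
  rcases geo.tri _ h1 h2 h3 with h4 | ⟨-, h4⟩
  swap
  · exact h4
  exfalso
  obtain ⟨χ', hχ', hne, hcomp⟩ := exists_conj_char fu hχ
  have hθ' : GC R u (cfun fu.R_normal s θ) χ' := GC_conj fu (Or.inr fu.su) hθ hcomp
  obtain ⟨n, hn⟩ := Core.isCharacter_apply_one v.char
  have hmult : ∀ {χ : Fx u R →* ℂˣ} {θ : R → ℂ}, (IsX R u Au χ ∨ IsX R u Atu χ) →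
      GC R u θ χ → (m : ℝ) ≤ mr * (classInner (fun y : R => X y) θ).re := by
    intro χ θ hχ hθ
    obtain ⟨θ₁, hθ₁, hm₁⟩ := exists_theta fu v geo.chyp.eps geo.chyp.one_lt_q hχ
    rw [(GC_inj fu hθ hθ₁).1 rfl]
    exact hm₁
  obtain ⟨k, hk, hsum⟩ := torus_sum geo fu.surj fu.prime v hn (Finset.univ : Finset Bool)
    (fun b => if b then θ else cfun fu.R_normal s θ)
    (fun b _ => by
      cases b
      · exact hθ'.1
      · exact hθ.1)
    (by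
      intro b _ b' _ he
      cases b <;> cases b'
      · rfl
      · exact absurd ((GC_inj fu hθ hθ').2 he.symm) hne
      · exact absurd ((GC_inj fu hθ hθ').2 he) hne
      · rfl)
    (fun b _ => by
      cases b
      · exact hmult hχ' hθ'
      · exact hmult hχ hθ)
    (fun b _ => by
      cases b
      · exact (J_ge geo fu hχ' hθ').1
      · exact h1)
    (fun b _ => by
      cases b
      · intro g hg x hx
        have hg' : g ∈ Jim π (cfun fu.R_normal s θ) := hg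
        have e1 : π s * g * (π s)⁻¹ ∈ Jim π θ :=
          Jim_conj (a := θ) (b := cfun fu.R_normal s θ) (y := s) (fun _ => rfl) hg'
        rw [fu.map_s] at e1
        have e2 := h4 _ e1 _ ((s_Tr fu).1 hx)
        have e3 : s₀ * g * s₀⁻¹ * (s₀ * x * s₀⁻¹) * (s₀ * g * s₀⁻¹)⁻¹ =
            s₀ * (g * x * g⁻¹) * s₀⁻¹ := by group
        rw [e3] at e2
        exact (s_Tr fu).2 e2
      · exact h4)
  have h2m : (2 * m : ℤ) = q - 1 := by
    have := v.two_m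
    rwa [hε] at this
  have hq := geo.q_big
  have hm0 : 0 < m := by omega
  have hk1 : ∀ b : Bool, 1 ≤ k b := by
    intro b
    have h5 := hk b (Finset.mem_univ b)
    by_contra h6
    have h7 : k b = 0 := by omega
    rw [h7, mul_zero] at h5
    omega
  have hind : (q : ℤ) * (q + 1) ≤ 2 * (Nm Tr).index := by
    have := geo.index_T
    rwa [hε] at this
  have h5 : (Nm Tr).index * 2 ≤ n := by
    refine le_trans (Nat.mul_le_mul_left _ ?_) hsum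
    rw [Fintype.sum_bool]
    have := hk1 true
    have := hk1 false
    omega
  have hnq : (n : ℤ) ≤ (q : ℤ) ^ 2 - 1 := by
    rw [hn, Complex.natCast_re] at hd
    exact_mod_cast hd
  have h6 : ((Nm Tr).index : ℤ) * 2 ≤ n := by exact_mod_cast h5
  nlinarith

theorem cj_one (S : Subgroup H) : cj 1 S = S := by
  ext x
  rw [mem_cj]
  simp

/-- `ε = 1`: the characters are linear. -/
theorem linear_aux (geo : Geo z q ε Z T T' U s₀ s₀' u₀ L₀ Tr E r) [hR : R.Normal] [Fintype R]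
    (fu : Fu π z u₀ s₀ Tr E t u s Au Atu P R D r mr) (v : Val t u Au Atu P q ε m X)
    (hε : ε = 1) (hd : (X 1).re ≤ (q : ℝ) ^ 2 - 1) {A : Subgroup N} (hA : Side u P R A mr)
    (hor : ∀ χ : Fx u R →* ℂˣ, IsX R u A χ → (IsX R u Au χ ∨ IsX R u Atu χ))
    {χ : Fx u R →* ℂˣ} (hχ : IsX R u A χ) : ∃ ν : R →* ℂˣ,
      (∀ x y : R, (y : N) = u * x * u⁻¹ → ν y = ν x) ∧
      (∀ (x : Fx u R) (y : R), (x : N) = y → χ x = ν y) := by
  classical
  -- the group of the characters with a linear correspondent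
  let Lin : Subgroup (Fx u R →* ℂˣ) :=
    { carrier := {l | ∃ ν : R →* ℂˣ, (∀ x y : R, (y : N) = u * x * u⁻¹ → ν y = ν x) ∧
        (∀ (x : Fx u R) (y : R), (x : N) = y → l x = ν y)}
      one_mem' := ⟨1, fun _ _ _ => rfl, fun _ _ _ => rfl⟩
      mul_mem' := by
        rintro a b ⟨ν, h1, h2⟩ ⟨ν', h1', h2'⟩
        refine ⟨ν * ν', fun x y h => ?_, fun x y h => ?_⟩
        · rw [MonoidHom.mul_apply, MonoidHom.mul_apply, h1 x y h, h1' x y h]
        · rw [MonoidHom.mul_apply, MonoidHom.mul_apply, h2 x y h, h2' x y h]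
      inv_mem' := by
        rintro a ⟨ν, h1, h2⟩
        refine ⟨ν⁻¹, fun x y h => ?_, fun x y h => ?_⟩
        · rw [MonoidHom.inv_apply, MonoidHom.inv_apply, h1 x y h]
        · rw [MonoidHom.inv_apply, MonoidHom.inv_apply, h2 x y h] }
  by_contra hcon
  have hχL : χ ∉ Lin := hcon
  obtain ⟨Λ, hΛ, hc⟩ := hA.exists_dual fu.P_comm (Fx_eq fu)
  let GΛ : Subgroup (Fx u R →* ℂˣ) :=
    { carrier := {l | ∀ x : Fx u R, (x : N) ∈ A → l x = 1}
      one_mem' := fun _ _ => rfl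
      mul_mem' := by
        intro a b ha hb x hx
        rw [MonoidHom.mul_apply, ha x hx, hb x hx, one_mul]
      inv_mem' := by
        intro a ha x hx
        rw [MonoidHom.inv_apply, ha x hx, inv_one] }
  have hGΛ : ∀ l, l ∈ GΛ ↔ l ∈ Λ := fun l => (hΛ l).symm
  have hcard : Nat.card GΛ = mr := by
    rw [← hc, Nat.card_congr (Equiv.subtypeEquivRight hGΛ), Nat.card_eq_fintype_card,
      Fintype.card_coe]
  have hmr := mr_pos fu
  have hfG : Finite GΛ := Nat.finite_of_card_ne_zero (by omega)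
  -- the index
  have hidx : 3 ≤ (Lin.subgroupOf GΛ).index := by
    have h1 : (Lin.subgroupOf GΛ).index ∣ mr := by
      rw [← hcard]
      exact Subgroup.index_dvd_card _
    have h2 : Odd (Lin.subgroupOf GΛ).index := Odd.of_dvd_nat (mr_odd fu) h1
    have h3 : (Lin.subgroupOf GΛ).index ≠ 1 := by
      intro h4
      have h5 : GΛ ≤ Lin := Subgroup.relIndex_eq_one.1 h4
      exact hχL (h5 ((hGΛ χ).2 ((hΛ χ).2 hχ.triv)))
    obtain ⟨k, hk⟩ := h2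
    omega
  have hlin : 3 * (Λ.filter (· ∈ Lin)).card ≤ mr := by
    have h1 := (Lin.subgroupOf GΛ).index_mul_card
    rw [hcard] at h1
    have h2 : Nat.card (Lin.subgroupOf GΛ) = (Λ.filter (· ∈ Lin)).card := by
      rw [← Fintype.card_coe, ← Nat.card_eq_fintype_card]
      refine Nat.card_congr ⟨fun x => ⟨x.1.1, ?_⟩, fun x => ⟨⟨x.1, ?_⟩, ?_⟩, fun x => rfl,
        fun x => rfl⟩
      · rw [Finset.mem_filter]
        exact ⟨(hGΛ _).1 x.1.2, x.2⟩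
      · exact (hGΛ _).2 (Finset.mem_filter.1 x.2).1
      · exact (Finset.mem_filter.1 x.2).2
    rw [← h2, ← h1]
    exact Nat.mul_le_mul_right _ hidx
  have hnl : 2 * mr ≤ 3 * (Λ.filter (· ∉ Lin)).card := by
    have h1 := Finset.card_filter_add_card_filter_not (s := Λ) (fun l => l ∈ Lin)
    rw [hc] at h1
    omega
  -- the correspondents
  have hX : ∀ l ∈ Λ.filter (· ∉ Lin), IsX R u A l := by
    intro l hl
    rw [Finset.mem_filter] at hl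
    refine ⟨fun h1 => hl.2 ?_, (hΛ l).1 hl.1⟩
    rw [h1]
    exact Lin.one_mem
  choose! θ hθ using fun (l : Fx u R →* ℂˣ) (hl : IsX R u A l) => exists_theta fu v geo.chyp.eps geo.chyp.one_lt_q (hor l hl)
  have hdeg : ∀ l : Fx u R →* ℂˣ, l ∈ Λ.filter (· ∉ Lin) → ∃ d : ℕ, θ l 1 = d ∧ r ≤ d := by
    intro l hl
    refine GC_degree fu (hθ l (hX l hl)).1 fun h1 => ?_
    obtain ⟨ν, -, h2, h3⟩ := GC_linear fu (hθ l (hX l hl)).1 h1
    exact (Finset.mem_filter.1 hl).2 ⟨ν, h2, h3⟩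
  choose! d hd' using hdeg
  -- the two fibres
  have hfib : ∀ (g : H) (S : Finset (Fx u R →* ℂˣ)), S ⊆ Λ.filter (· ∉ Lin) →
      (∀ l ∈ S, cj g U ≤ Jim π (θ l) ∧ Jim π (θ l) ≤ Nm (cj g U)) → ∑ l ∈ S, d l ≤ 2 * mr := by
    intro g S hS hJ
    refine fibre_sum geo fu.surj v hε hd g S θ (fun l hl => (hθ l (hX l (hS hl))).1.1)
      (fun l hl l' hl' he => ?_) (fun l hl => (hθ l (hX l (hS hl))).2) hJ d
      (fun l hl => (hd' l (hS hl)).1)
    exact (GC_inj fu (hθ l (hX l (hS hl))).1 (hθ l' (hX l' (hS hl'))).1).2 he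
  have h1 := hfib 1 ((Λ.filter (· ∉ Lin)).filter
    fun l => cj 1 U ≤ Jim π (θ l) ∧ Jim π (θ l) ≤ Nm (cj 1 U)) (Finset.filter_subset _ _)
    (fun l hl => (Finset.mem_filter.1 hl).2)
  have h2 := hfib s₀ ((Λ.filter (· ∉ Lin)).filter
    fun l => ¬ (cj 1 U ≤ Jim π (θ l) ∧ Jim π (θ l) ≤ Nm (cj 1 U))) (Finset.filter_subset _ _)
    (fun l hl => by
      obtain ⟨hl1, hl2⟩ := Finset.mem_filter.1 hl
      rw [cj_one] at hl2
      exact (borel_of_pos geo fu v hε hd (hor l (hX l hl1)) (hθ l (hX l hl1)).1).resolve_left hl2)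
  have h3 := Finset.sum_filter_add_sum_filter_not (Λ.filter (· ∉ Lin))
    (fun l => cj 1 U ≤ Jim π (θ l) ∧ Jim π (θ l) ≤ Nm (cj 1 U)) d
  have h4 : (Λ.filter (· ∉ Lin)).card * r ≤ ∑ l ∈ Λ.filter (· ∉ Lin), d l := by
    rw [← smul_eq_mul, ← Finset.sum_const]
    exact Finset.sum_le_sum fun l hl => (hd' l hl).2
  have h5 : (Λ.filter (· ∉ Lin)).card * 7 ≤ (Λ.filter (· ∉ Lin)).card * r :=
    Nat.mul_le_mul_left _ fu.r7
  omega

/-- **`ε = 1`: the characters are linear and of Borel type.** -/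
theorem linear_of_pos (geo : Geo z q ε Z T T' U s₀ s₀' u₀ L₀ Tr E r) [R.Normal] [Fintype R]
    (fu : Fu π z u₀ s₀ Tr E t u s Au Atu P R D r mr) (v : Val t u Au Atu P q ε m X)
    (hε : ε = 1) (hd : (X 1).re ≤ (q : ℝ) ^ 2 - 1) {χ : Fx u R →* ℂˣ}
    (hχ : IsX R u Au χ ∨ IsX R u Atu χ) : ∃ ν : R →* ℂˣ,
      (∀ x y : R, (y : N) = u * x * u⁻¹ → ν y = ν x) ∧
      (∀ (x : Fx u R) (y : R), (x : N) = y → χ x = ν y) ∧
      (m : ℝ) ≤ mr * (classInner (fun y : R => X y) (fun x => (ν x : ℂ))).re ∧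
      ((U ≤ Jim π (fun x => (ν x : ℂ)) ∧ Jim π (fun x => (ν x : ℂ)) ≤ Nm U) ∨
        (cj s₀ U ≤ Jim π (fun x => (ν x : ℂ)) ∧ Jim π (fun x => (ν x : ℂ)) ≤ Nm (cj s₀ U))) := by
  obtain ⟨ν, h1, h2⟩ : ∃ ν : R →* ℂˣ, (∀ x y : R, (y : N) = u * x * u⁻¹ → ν y = ν x) ∧
      (∀ (x : Fx u R) (y : R), (x : N) = y → χ x = ν y) := by
    rcases hχ with h | h
    · exact linear_aux geo fu v hε hd (side_u fu) (fun _ h => Or.inl h) h
    · exact linear_aux geo fu v hε hd (side_tu fu) (fun _ h => Or.inr h) h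
  have hν : GC R u (fun x => (ν x : ℂ)) χ := GC_of_linear fu ν h1 h2
  obtain ⟨θ, hθ, hm⟩ := exists_theta fu v geo.chyp.eps geo.chyp.one_lt_q hχ
  have h3 : θ = fun x => (ν x : ℂ) := (GC_inj fu hθ hν).1 rfl
  rw [h3] at hm
  exact ⟨ν, h1, h2, hm, borel_of_pos geo fu v hε hd hχ hν⟩

end Orbits

end Cfsg.Agent.Classification.QDW.CaseU.Orb

namespace Cfsg.Agent.Classification.QDW.CaseU

open Cfsg Cfsg.Agent.Classification.InvCent Cfsg.Agent.Classification.QDW.Inertia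

universe u v

variable {N : Type u} [Group N] [Finite N] {H : Type v} [Group H] {π : N →* H} {z u₀ s₀ s₀' : H}
  {Z T T' U L₀ Tr E : Subgroup H} {t u s : N} {Au Atu P R D : Subgroup N} {r mr q m : ℕ} {ε : ℤ}
  {X : N → ℂ}

/-- **`ε = -1` is impossible.** -/
theorem false_of_neg (geo : Geo z q ε Z T T' U s₀ s₀' u₀ L₀ Tr E r)
    (fu : Fu π z u₀ s₀ Tr E t u s Au Atu P R D r mr) (v : Val t u Au Atu P q ε m X)
    (hε : ε = -1) (hd : (X 1).re ≤ 2 * ((q : ℝ) ^ 2 - 1)) : False :=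
  Orb.false_of_neg geo fu v hε hd

/-- **The characters are linear and of Borel type.** -/
theorem linear_of_pos (geo : Geo z q ε Z T T' U s₀ s₀' u₀ L₀ Tr E r) [R.Normal] [Fintype R]
    (fu : Fu π z u₀ s₀ Tr E t u s Au Atu P R D r mr) (v : Val t u Au Atu P q ε m X)
    (hε : ε = 1) (hd : (X 1).re ≤ (q : ℝ) ^ 2 - 1) {χ : Fx u R →* ℂˣ}
    (hχ : IsX R u Au χ ∨ IsX R u Atu χ) : ∃ ν : R →* ℂˣ,
      (∀ x y : R, (y : N) = u * x * u⁻¹ → ν y = ν x) ∧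
      (∀ (x : Fx u R) (y : R), (x : N) = y → χ x = ν y) ∧
      (m : ℝ) ≤ mr * (classInner (fun y : R => X y) (fun x => (ν x : ℂ))).re ∧
      ((U ≤ Jim π (fun x => (ν x : ℂ)) ∧ Jim π (fun x => (ν x : ℂ)) ≤ Nm U) ∨
        (cj s₀ U ≤ Jim π (fun x => (ν x : ℂ)) ∧ Jim π (fun x => (ν x : ℂ)) ≤ Nm (cj s₀ U))) :=
  Orb.linear_of_pos geo fu v hε hd hχ

/-- **The fibre over a point** (`g = 1`: `∞`; `g = s₀`: `0`). -/
theorem fibre_le (geo : Geo z q ε Z T T' U s₀ s₀' u₀ L₀ Tr E r) [R.Normal] [Fintype R]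
    (fu : Fu π z u₀ s₀ Tr E t u s Au Atu P R D r mr) (v : Val t u Au Atu P q ε m X)
    (hε : ε = 1) (hd : (X 1).re ≤ (q : ℝ) ^ 2 - 1) (g : H) (S : Finset (R →* ℂˣ))
    (hS : ∀ ν ∈ S, (m : ℝ) ≤ mr * (classInner (fun y : R => X y) (fun x => (ν x : ℂ))).re ∧
      cj g U ≤ Jim π (fun x => (ν x : ℂ)) ∧ Jim π (fun x => (ν x : ℂ)) ≤ Nm (cj g U)) :
    S.card ≤ 2 * mr :=
  Orb.fibre_le geo fu v hε hd g S hS

end Cfsg.Agent.Classification.QDW.CaseU
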