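import Mathlib

/-!
# Ideals of the group algebra of an abelian group stable under a transitive group of automorphisms

* `single_sub_one_mem`: `A` a finite abelian group of order invertible in the field `k`, `Γ` a group
  of automorphisms of `A` transitive on `A ∖ {1}`, `I` a `Γ`-stable ideal of `k[A]` containing an
  element with two different coefficients: then `I` contains all `x - 1`;
* `fixed_of_relation`: the application to a vector `ν` of a representation of `N`, for subgroups
  `Y₀ ≤ Y` and a subgroup `H` normalising them, transitive on `Y / Y₀ ∖ {1}`.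
-/

set_option autoImplicit false
set_option linter.unusedSectionVars false

namespace Cfsg.Agent.Classification.QDW.LinesAlg

section Ideal

variable {k A : Type*} [Field k] [CommGroup A] [Finite A]

open MonoidAlgebra in
/-- The identity element of an ideal. -/
theorem exists_identity (hA : (Nat.card A : k) ≠ 0) (I : Ideal (MonoidAlgebra k A)) :
    ∃ e ∈ I, ∀ a ∈ I, a * e = a := by
  have : NeZero (Nat.card A : k) := ⟨hA⟩
  obtain ⟨J, hJ⟩ := MonoidAlgebra.Submodule.exists_isCompl (k := k) (G := A)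
    (V := MonoidAlgebra k A) I
  obtain ⟨e, he, f, hf, hef⟩ := Submodule.mem_sup.1
    (show (1 : MonoidAlgebra k A) ∈ I ⊔ J by rw [hJ.sup_eq_top]; trivial)
  refine ⟨e, he, fun a ha => ?_⟩
  have h1 : a * f ∈ I ⊓ J := by
    refine ⟨?_, J.smul_mem a hf⟩
    rw [mul_comm]
    exact I.mul_mem_left f ha
  rw [hJ.inf_eq_bot, Submodule.mem_bot] at h1
  calc a * e = a * (e + f) := by rw [mul_add, h1, add_zero]
    _ = a := by rw [hef, mul_one]

open MonoidAlgebra in
theorem single_sub_one_mem (hA : (Nat.card A : k) ≠ 0) (I : Ideal (MonoidAlgebra k A))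
    (Γ : Subgroup (MulAut A)) (hΓ : ∀ σ ∈ Γ, ∀ a ∈ I, domCongr k k σ a ∈ I)
    (htr : ∀ x y : A, x ≠ 1 → y ≠ 1 → ∃ σ ∈ Γ, σ x = y) {a : MonoidAlgebra k A} (ha : a ∈ I)
    {x y : A} (hxy : a.coeff x ≠ a.coeff y) (g : A) : (single g 1 - 1 : MonoidAlgebra k A) ∈ I := by
  classical
  let _ : Fintype A := Fintype.ofFinite A
  obtain ⟨e, he, hid⟩ := exists_identity hA I
  -- `e` is stable
  have hst : ∀ σ ∈ Γ, domCongr k k σ e = e := by
    intro σ hσ
    have h1 : domCongr k k σ e ∈ I := hΓ σ hσ e he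
    have h2 : e * domCongr k k σ e = e := by
      have h3 : domCongr k k σ⁻¹ e ∈ I := hΓ _ (Γ.inv_mem hσ) e he
      have h4 := congrArg (domCongr k k σ) (hid _ h3)
      have h5 : domCongr k k σ (domCongr k k σ⁻¹ e) = e := by
        refine MonoidAlgebra.ext (Finsupp.ext fun m => ?_)
        simp
      rw [map_mul, h5] at h4
      exact h4
    have h3 := hid _ h1
    rw [mul_comm, h2] at h3
    exact h3.symm
  -- there are nontrivial elements
  have hne : ∃ m : A, m ≠ 1 := by
    by_contra h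
    push Not at h
    rw [h x, h y] at hxy
    exact hxy rfl
  obtain ⟨m, hm⟩ := hne
  have hconst : ∀ n : A, n ≠ 1 → e.coeff n = e.coeff m := by
    intro n hn
    obtain ⟨σ, hσ, h1⟩ := htr m n hm hn
    have h2 := congrArg (fun b : MonoidAlgebra k A => b.coeff n) (hst σ hσ)
    simp only [coeff_domCongr] at h2
    rw [← h2, ← h1]
    congr 1
    exact σ.symm_apply_apply m
  set S : MonoidAlgebra k A := ∑ g : A, single g 1 with hS
  have hSc : ∀ n : A, S.coeff n = 1 := by
    intro n
    rw [hS, MonoidAlgebra.coeff_sum, Finsupp.finsetSum_apply]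
    simp [Finsupp.single_apply]
  have hgS : ∀ g : A, single g 1 * S = S := by
    intro g
    refine MonoidAlgebra.ext (Finsupp.ext fun n => ?_)
    rw [coeff_single_mul_apply, one_mul, hSc, hSc]
  have haS : ∀ b : MonoidAlgebra k A, ∃ c : k, b * S = c • S := by
    intro b
    induction b using MonoidAlgebra.induction_linear with
    | zero => exact ⟨0, by simp⟩
    | add b b' hb hb' =>
      obtain ⟨c, hc⟩ := hb
      obtain ⟨c', hc'⟩ := hb'
      exact ⟨c + c', by rw [add_mul, hc, hc', add_smul]⟩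
    | single g r =>
      refine ⟨r, ?_⟩
      have h1 : (single g r : MonoidAlgebra k A) = r • single g 1 := by
        rw [MonoidAlgebra.smul_single, smul_eq_mul, mul_one]
      rw [h1, smul_mul_assoc, hgS]
  set β := e.coeff m with hβ
  set γ := e.coeff 1 - β with hγ
  have hes : e = γ • 1 + β • S := by
    refine MonoidAlgebra.ext (Finsupp.ext fun n => ?_)
    rw [coeff_add, Finsupp.add_apply, coeff_smul, coeff_smul, Finsupp.smul_apply,
      Finsupp.smul_apply, hSc, MonoidAlgebra.one_def]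
    by_cases hn : n = 1
    · subst hn
      simp [hγ]
    · rw [hconst n hn]
      simp [Ne.symm hn]
  -- `γ = 0` or `γ = 1`
  have hγ2 : γ * γ = γ := by
    have h1 := hid e he
    obtain ⟨c, hc⟩ := haS e
    have h2 : e * e = (γ * γ) • 1 + (γ * β + β * c) • S := by
      conv_lhs => rw [hes]
      rw [mul_add, mul_smul_comm, mul_smul_comm, mul_one, ← hes, hc]
      conv_lhs => rw [hes]
      rw [smul_add, smul_smul, smul_smul, smul_smul, add_assoc, ← add_smul]
    rw [h2] at h1
    have h3 := congrArg (fun b : MonoidAlgebra k A => b.coeff 1 - b.coeff m) h1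
    simp only [coeff_add, Finsupp.add_apply, coeff_smul, Finsupp.smul_apply, hSc,
      MonoidAlgebra.one_def] at h3
    simp [Ne.symm hm] at h3
    rw [← hγ] at h3
    exact h3
  rcases mul_eq_zero.1 (show γ * (γ - 1) = 0 by rw [mul_sub, hγ2, mul_one, sub_self]) with h0 | h0
  · exfalso
    obtain ⟨c, hc⟩ := haS a
    have h1 := hid a ha
    rw [hes, h0, zero_smul, zero_add, mul_smul_comm, hc, smul_smul] at h1
    apply hxy
    rw [← h1, coeff_smul, Finsupp.smul_apply, Finsupp.smul_apply, hSc, hSc]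
  · have h1 : γ = 1 := sub_eq_zero.1 h0
    have h2 : (single g 1 - 1 : MonoidAlgebra k A) * e = single g 1 - 1 := by
      rw [hes, h1, one_smul, mul_add, mul_one, mul_smul_comm, sub_mul, hgS, one_mul, sub_self,
        smul_zero, add_zero]
    rw [← h2]
    exact I.mul_mem_left _ he

end Ideal

section Rep

variable {k M N : Type*} [Field k] [AddCommGroup M] [Module k M] [Group N]
  (ρ : Representation k N M)

open MonoidAlgebra in
/-- A relation between the `Y`-translates of `ν` with two different coefficients forces `Y` to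
fix `ν`. -/
theorem fixed_of_relation (Y Y₀ : Subgroup N) [Finite Y] (hY₀ : Y₀ ≤ Y)
    (hn : ∀ y ∈ Y, ∀ x ∈ Y₀, y * x * y⁻¹ ∈ Y₀)
    (hab : ∀ x ∈ Y, ∀ y ∈ Y, x * y * x⁻¹ * y⁻¹ ∈ Y₀) (hcop : ((Y₀.relIndex Y : ℕ) : k) ≠ 0)
    (H : Subgroup N) (hHY : ∀ h ∈ H, ∀ y ∈ Y, h * y * h⁻¹ ∈ Y)
    (hHY₀ : ∀ h ∈ H, ∀ y ∈ Y₀, h * y * h⁻¹ ∈ Y₀)
    (htr : ∀ x ∈ Y, x ∉ Y₀ → ∀ y ∈ Y, y ∉ Y₀ → ∃ h ∈ H, (h * x * h⁻¹) * y⁻¹ ∈ Y₀)
    {ν : M} (hν₀ : ∀ y ∈ Y₀, ρ y ν = ν) (hνH : ∀ h ∈ H, ∃ a : k, ρ h ν = a • ν)
    {ι : Type*} (J : Finset ι) (c : ι → k) (x : ι → N) (hx : ∀ j ∈ J, x j ∈ Y)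
    (hinj : ∀ i ∈ J, ∀ j ∈ J, (x i)⁻¹ * x j ∈ Y₀ → i = j)
    (hrel : ∑ j ∈ J, c j • ρ (x j) ν = 0) (hc : ∃ i ∈ J, ∃ j ∈ J, c i ≠ c j) :
    ∀ y ∈ Y, ρ y ν = ν := by
  classical
  set P : Subgroup Y := Y₀.subgroupOf Y with hP
  have hPn : P.Normal := ⟨fun a ha g => by
    rw [hP, Subgroup.mem_subgroupOf] at ha ⊢
    exact hn g g.2 a ha⟩
  let _ : CommGroup (Y ⧸ P) :=
    { (inferInstance : Group (Y ⧸ P)) with
      mul_comm := by
        intro a b
        induction a using QuotientGroup.induction_on with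
        | H a =>
          induction b using QuotientGroup.induction_on with
          | H b =>
            rw [← QuotientGroup.mk_mul, ← QuotientGroup.mk_mul, QuotientGroup.eq, hP,
              Subgroup.mem_subgroupOf]
            have h1 := hab _ (inv_mem b.2) _ (inv_mem a.2)
            have h2 : (((a * b)⁻¹ * (b * a) : Y) : N) =
                (b : N)⁻¹ * (a : N)⁻¹ * (b : N)⁻¹⁻¹ * (a : N)⁻¹⁻¹ := by
              simp only [Subgroup.coe_mul, Subgroup.coe_inv]
              group
            rw [h2]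
            exact h1 }
  have hcard : (Nat.card (Y ⧸ P) : k) ≠ 0 := hcop
  -- the translates
  let V : Y ⧸ P → M := fun a => ρ (a.out : Y) ν
  have hV : ∀ y : Y, V (QuotientGroup.mk y) = ρ y ν := by
    intro y
    have h1 : (QuotientGroup.mk (QuotientGroup.mk y : Y ⧸ P).out : Y ⧸ P) = QuotientGroup.mk y :=
      QuotientGroup.out_eq' _
    have h2 : y⁻¹ * (QuotientGroup.mk y : Y ⧸ P).out ∈ P := QuotientGroup.eq.1 h1.symm
    rw [hP, Subgroup.mem_subgroupOf] at h2
    have h3 := hν₀ _ h2
    have h4 : (((QuotientGroup.mk y : Y ⧸ P).out : Y) : N) =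
        (y : N) * ((y⁻¹ * (QuotientGroup.mk y : Y ⧸ P).out : Y) : N) := by
      simp only [Subgroup.coe_mul, Subgroup.coe_inv]
      group
    change ρ (((QuotientGroup.mk y : Y ⧸ P).out : Y) : N) ν = _
    rw [h4, map_mul, Module.End.mul_apply, h3]
  let Λ : MonoidAlgebra k (Y ⧸ P) → M := fun b => Finsupp.linearCombination k V b.coeff
  have hΛadd : ∀ b b' : MonoidAlgebra k (Y ⧸ P), Λ (b + b') = Λ b + Λ b' := by
    intro b b'
    change Finsupp.linearCombination k V (b + b').coeff = _
    rw [coeff_add, map_add]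
  have hΛ0 : Λ 0 = 0 := by
    change Finsupp.linearCombination k V (0 : MonoidAlgebra k (Y ⧸ P)).coeff = _
    rw [coeff_zero, map_zero]
  have hΛs : ∀ (a : Y ⧸ P) (r : k), Λ (single a r) = r • V a := by
    intro a r
    change Finsupp.linearCombination k V (single a r : MonoidAlgebra k (Y ⧸ P)).coeff = _
    rw [coeff_single, Finsupp.linearCombination_single]
  have hΛmul : ∀ (y : Y) (r : k) (b : MonoidAlgebra k (Y ⧸ P)),
      Λ (single (QuotientGroup.mk y) r * b) = r • ρ y (Λ b) := by
    intro y r b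
    induction b using MonoidAlgebra.induction_linear with
    | zero => rw [mul_zero, hΛ0, map_zero, smul_zero]
    | add b b' hb hb' => rw [mul_add, hΛadd, hb, hb', hΛadd, map_add, smul_add]
    | single g s =>
      induction g using QuotientGroup.induction_on with
      | H g =>
        rw [single_mul_single, hΛs, hΛs, ← QuotientGroup.mk_mul, hV, hV, map_smul, smul_smul,
          Subgroup.coe_mul, map_mul, Module.End.mul_apply]
  -- the ideal
  let I : Ideal (MonoidAlgebra k (Y ⧸ P)) :=
    { carrier := {b | Λ b = 0}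
      add_mem' := by
        intro b b' hb hb'
        change Λ (b + b') = 0
        rw [hΛadd, show Λ b = 0 from hb, show Λ b' = 0 from hb', add_zero]
      zero_mem' := hΛ0
      smul_mem' := by
        intro d b hb
        change Λ (d * b) = 0
        induction d using MonoidAlgebra.induction_linear with
        | zero => rw [zero_mul, hΛ0]
        | add d d' hd hd' => rw [add_mul, hΛadd, hd, hd', add_zero]
        | single g s =>
          induction g using QuotientGroup.induction_on with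
          | H g => rw [hΛmul, show Λ b = 0 from hb, map_zero, smul_zero] }
  -- the automorphisms
  let Γ : Subgroup (MulAut (Y ⧸ P)) :=
    { carrier := {σ | ∃ h, ∃ hh : h ∈ H, ∀ y : Y, σ (QuotientGroup.mk y) =
        QuotientGroup.mk ⟨h * y * h⁻¹, hHY h hh y y.2⟩}
      mul_mem' := by
        rintro σ τ ⟨h, hh, h1⟩ ⟨g, hg, h2⟩
        refine ⟨h * g, H.mul_mem hh hg, fun y => ?_⟩
        rw [MulAut.mul_apply, h2, h1]
        congr 1
        apply Subtype.ext
        simp [mul_assoc]
      one_mem' := ⟨1, H.one_mem, fun y => by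
        rw [MulAut.one_apply]
        congr 1
        apply Subtype.ext
        simp⟩
      inv_mem' := by
        rintro σ ⟨h, hh, h1⟩
        refine ⟨h⁻¹, H.inv_mem hh, fun y => ?_⟩
        have h2 := h1 ⟨h⁻¹ * y * h⁻¹⁻¹, hHY _ (H.inv_mem hh) y y.2⟩
        have h3 : (⟨h * (h⁻¹ * y * h⁻¹⁻¹) * h⁻¹, hHY h hh _ (hHY _ (H.inv_mem hh) y y.2)⟩ : Y) =
            y := Subtype.ext (by group)
        rw [h3] at h2
        rw [← h2]
        exact MulEquiv.symm_apply_apply σ _ }
  have hexists : ∀ h (hh : h ∈ H), ∃ σ : MulAut (Y ⧸ P), ∀ y : Y, σ (QuotientGroup.mk y) =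
      QuotientGroup.mk ⟨h * y * h⁻¹, hHY h hh y y.2⟩ := by
    intro h hh
    let e : Y ≃* Y :=
      { toFun := fun y => ⟨h * y * h⁻¹, hHY h hh y y.2⟩
        invFun := fun y => ⟨h⁻¹ * y * h⁻¹⁻¹, hHY _ (H.inv_mem hh) y y.2⟩
        left_inv := fun y => Subtype.ext (by
          change h⁻¹ * (h * (y : N) * h⁻¹) * h⁻¹⁻¹ = y
          group)
        right_inv := fun y => Subtype.ext (by
          change h * (h⁻¹ * (y : N) * h⁻¹⁻¹) * h⁻¹ = y
          group)
        map_mul' := fun y y' => Subtype.ext (by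
          change h * ((y : N) * y') * h⁻¹ = (h * (y : N) * h⁻¹) * (h * (y' : N) * h⁻¹)
          group) }
    have he : P.map e.toMonoidHom = P := by
      apply le_antisymm
      · rintro _ ⟨y, hy, rfl⟩
        rw [hP] at hy ⊢
        exact Subgroup.mem_subgroupOf.2 (hHY₀ h hh y (Subgroup.mem_subgroupOf.1 hy))
      · intro y hy
        refine ⟨e.symm y, ?_, e.apply_symm_apply y⟩
        rw [hP] at hy ⊢
        exact Subgroup.mem_subgroupOf.2
          (hHY₀ _ (H.inv_mem hh) y (Subgroup.mem_subgroupOf.1 hy))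
    exact ⟨QuotientGroup.congr P P e he, fun y => rfl⟩
  have hΓ : ∀ σ ∈ Γ, ∀ b ∈ I, domCongr k k σ b ∈ I := by
    rintro σ ⟨h, hh, h1⟩ b hb
    obtain ⟨a, ha⟩ := hνH h⁻¹ (H.inv_mem hh)
    have h2 : ∀ b : MonoidAlgebra k (Y ⧸ P), Λ (domCongr k k σ b) = a • ρ h (Λ b) := by
      intro b
      induction b using MonoidAlgebra.induction_linear with
      | zero => rw [map_zero, hΛ0, map_zero, smul_zero]
      | add b b' hb hb' => rw [map_add, hΛadd, hb, hb', hΛadd, map_add, smul_add]
      | single g s =>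
        induction g using QuotientGroup.induction_on with
        | H g =>
          rw [domCongr_single, hΛs, hΛs, h1, hV, hV, map_smul]
          change s • ρ (h * g * h⁻¹) ν = _
          rw [map_mul, map_mul, Module.End.mul_apply, Module.End.mul_apply, ha, map_smul, map_smul,
            smul_smul, smul_smul, mul_comm]
    change Λ (domCongr k k σ b) = 0
    rw [h2, show Λ b = 0 from hb, map_zero, smul_zero]
  have htr' : ∀ a b : Y ⧸ P, a ≠ 1 → b ≠ 1 → ∃ σ ∈ Γ, σ a = b := by
    intro a b ha hb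
    induction a using QuotientGroup.induction_on with
    | H a =>
      induction b using QuotientGroup.induction_on with
      | H b =>
        have ha' : (a : N) ∉ Y₀ := fun h1 => ha ((QuotientGroup.eq_one_iff a).2 (by
          rw [hP, Subgroup.mem_subgroupOf]; exact h1))
        have hb' : (b : N) ∉ Y₀ := fun h1 => hb ((QuotientGroup.eq_one_iff b).2 (by
          rw [hP, Subgroup.mem_subgroupOf]; exact h1))
        obtain ⟨h, hh, h1⟩ := htr a a.2 ha' b b.2 hb'
        obtain ⟨σ, hσ⟩ := hexists h hh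
        refine ⟨σ, ⟨h, hh, hσ⟩, ?_⟩
        rw [hσ]
        symm
        rw [QuotientGroup.eq, hP, Subgroup.mem_subgroupOf]
        have h2 := hn _ (inv_mem b.2) _ h1
        have h3 : ((b⁻¹ * ⟨h * a * h⁻¹, hHY h hh a a.2⟩ : Y) : N) =
            (b : N)⁻¹ * ((h * a * h⁻¹) * (b : N)⁻¹) * (b : N)⁻¹⁻¹ := by
          simp only [Subgroup.coe_mul, Subgroup.coe_inv]
          group
        rw [h3]
        exact h2
  -- the relation
  have hfin : Finite (Y ⧸ P) := inferInstance
  obtain ⟨i, hi, j, hj, hij⟩ := hc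
  let xx : ι → Y := fun l => if h : l ∈ J then ⟨x l, hx l h⟩ else 1
  have hxx : ∀ l ∈ J, (xx l : N) = x l := by
    intro l hl
    simp only [xx, dif_pos hl]
  let a : MonoidAlgebra k (Y ⧸ P) := ∑ l ∈ J, single (QuotientGroup.mk (xx l)) (c l)
  have hcoef : ∀ l ∈ J, a.coeff (QuotientGroup.mk (xx l)) = c l := by
    intro l hl
    change (∑ l ∈ J, single (QuotientGroup.mk (xx l)) (c l) : MonoidAlgebra k (Y ⧸ P)).coeff _ = _
    rw [MonoidAlgebra.coeff_sum, Finsupp.finsetSum_apply, Finset.sum_eq_single_of_mem l hl]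
    · rw [coeff_single, Finsupp.single_eq_same]
    · intro l' hl' hne
      rw [coeff_single, Finsupp.single_apply, if_neg]
      intro h1
      have h2 : (xx l')⁻¹ * xx l ∈ P := QuotientGroup.eq.1 h1
      rw [hP, Subgroup.mem_subgroupOf] at h2
      simp only [Subgroup.coe_mul, Subgroup.coe_inv] at h2
      rw [hxx l hl, hxx l' hl'] at h2
      exact hne (hinj l' hl' l hl h2)
  have haI : a ∈ I := by
    change Λ (∑ l ∈ J, single (QuotientGroup.mk (xx l)) (c l)) = 0
    have h1 : ∀ J' : Finset ι, J' ⊆ J →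
        Λ (∑ l ∈ J', single (QuotientGroup.mk (xx l)) (c l)) = ∑ l ∈ J', c l • ρ (x l) ν := by
      intro J'
      induction J' using Finset.induction_on with
      | empty =>
        intro _
        rw [Finset.sum_empty, Finset.sum_empty, hΛ0]
      | insert l J' hl ih =>
        intro hsub
        rw [Finset.sum_insert hl, Finset.sum_insert hl, hΛadd, hΛs, hV,
          hxx l (hsub (Finset.mem_insert_self _ _)),
          ih (fun m hm => hsub (Finset.mem_insert_of_mem hm))]
    rw [h1 J (Finset.Subset.refl J), hrel]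
  intro y hy
  have h1 := single_sub_one_mem hcard I Γ hΓ htr' haI
    (x := QuotientGroup.mk (xx i)) (y := QuotientGroup.mk (xx j))
    (by rw [hcoef i hi, hcoef j hj]; exact hij) (QuotientGroup.mk ⟨y, hy⟩)
  have h2 : (single (QuotientGroup.mk (⟨y, hy⟩ : Y)) 1 : MonoidAlgebra k (Y ⧸ P)) =
      (single (QuotientGroup.mk ⟨y, hy⟩) 1 - 1) + 1 := by rw [sub_add_cancel]
  have h3 := hΛs (QuotientGroup.mk (⟨y, hy⟩ : Y)) 1
  rw [h2, hΛadd, show Λ (single (QuotientGroup.mk (⟨y, hy⟩ : Y)) 1 - 1) = 0 from h1, zero_add,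
    one_smul, hV] at h3
  have h4 := hΛs (QuotientGroup.mk (1 : Y)) 1
  rw [QuotientGroup.mk_one, ← MonoidAlgebra.one_def, h3, one_smul, ← QuotientGroup.mk_one, hV] at h4
  rw [show ρ y ν = ρ ((⟨y, hy⟩ : Y) : N) ν from rfl, h4, OneMemClass.coe_one, map_one,
    Module.End.one_apply]

end Rep

end Cfsg.Agent.Classification.QDW.LinesAlg
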