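import Mathlib
import Cfsg.Agent.Classification.QDW.LinesAlg

/-!
# The lines lemma ((b) of post 7433 of the board)

A group `N` acts 2-transitively on `Ω` and linearly over `k` on `M`, with `N`-equivariant lines
`l z`, `z ∈ Ω`.

* `eq_of_eq`: `N₀ ⊴ N` acts trivially on `Ω`, so by scalars on the lines; if two of these characters
  are equal then all are;
* `eq_zero_of_sum`: if they are different then vectors of different lines are independent;
* `line_eq`: a relation `∑ c_j x_j ν = 0` as in `fixed_of_relation` forces `l o = l i`;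
* `ne_zero`: `w² (ν + u ν) - 2 w (ν + u ν) + (ν + u ν) ≠ 0` for `0 ≠ ν ∈ l y`, `y ≠ o, i`.
-/

set_option autoImplicit false
set_option linter.unusedSectionVars false

namespace Cfsg.Agent.Classification.QDW.LinesMain

variable {k M N Ω : Type*} [Field k] [AddCommGroup M] [Module k M] [Group N] [MulAction N Ω]
  {ρ : Representation k N M} {l : Ω → Submodule k M} {N₀ : Subgroup N}

/-- `N`-equivariant lines `l z`, on which the normal subgroup `N₀`, trivial on `Ω`, acts by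
scalars. -/
structure Lines (ρ : Representation k N M) (l : Ω → Submodule k M) (N₀ : Subgroup N) : Prop where
  two : ∀ a b c d : Ω, a ≠ b → c ≠ d → ∃ g : N, g • a = c ∧ g • b = d
  map : ∀ (g : N) (z : Ω), ∀ v ∈ l z, ρ g v ∈ l (g • z)
  line : ∀ z : Ω, ∃ v ∈ l z, v ≠ 0 ∧ ∀ w ∈ l z, ∃ a : k, w = a • v
  normal : N₀.Normal
  triv : ∀ n ∈ N₀, ∀ z : Ω, n • z = z

namespace Lines

/-- The scalar by which `n` acts on `l z`. -/
theorem exists_scalar (h : Lines ρ l N₀) {n : N} (hn : n ∈ N₀) (z : Ω) :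
    ∃ a : k, ∀ v ∈ l z, ρ n v = a • v := by
  obtain ⟨v, hv, hv0, hs⟩ := h.line z
  have h1 := h.map n z v hv
  rw [h.triv n hn z] at h1
  obtain ⟨a, ha⟩ := hs _ h1
  refine ⟨a, fun w hw => ?_⟩
  obtain ⟨b, rfl⟩ := hs w hw
  rw [map_smul, ha, smul_comm]

/-- `N₀` acts by the same scalars on `l z` and `l z'`. -/
def Same (_ : Lines ρ l N₀) (z z' : Ω) : Prop :=
  ∀ n ∈ N₀, ∀ a : k, (∀ v ∈ l z, ρ n v = a • v) → ∀ v ∈ l z', ρ n v = a • v

theorem same_smul (h : Lines ρ l N₀) {z z' : Ω} (hs : h.Same z z') (g : N) :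
    h.Same (g • z) (g • z') := by
  intro n hn a ha v hv
  have hn' : g⁻¹ * n * g ∈ N₀ := by
    have := h.normal.conj_mem n hn g⁻¹
    rwa [inv_inv] at this
  have h1 : ∀ w ∈ l z, ρ (g⁻¹ * n * g) w = a • w := by
    intro w hw
    have h2 := ha _ (h.map g z w hw)
    rw [map_mul, map_mul, Module.End.mul_apply, Module.End.mul_apply, h2, map_smul,
      ← Module.End.mul_apply, ← map_mul, inv_mul_cancel, map_one, Module.End.one_apply]
  have h3 : ρ g⁻¹ v ∈ l z' := by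
    have := h.map g⁻¹ _ v hv
    rwa [inv_smul_smul] at this
  have h4 := hs _ hn' a h1 _ h3
  have h5 := congrArg (ρ g) h4
  rw [map_smul, ← Module.End.mul_apply, ← Module.End.mul_apply, ← Module.End.mul_apply,
    ← map_mul, ← map_mul, ← map_mul] at h5
  have h6 : g * (g⁻¹ * n * g) * g⁻¹ = n := by group
  have h7 : g * g⁻¹ = 1 := by group
  rw [h6, h7, map_one, Module.End.one_apply] at h5
  exact h5

/-- If two different points have the same scalars then all have. -/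
theorem same_all (h : Lines ρ l N₀) {z z' : Ω} (hne : z ≠ z') (hs : h.Same z z') {a b : Ω}
    (hab : a ≠ b) : h.Same a b := by
  obtain ⟨g, rfl, rfl⟩ := h.two z z' a b hne hab
  exact h.same_smul hs g

/-- If no two different points have the same scalars then vectors of different lines are
independent. -/
theorem eq_zero_of_sum (h : Lines ρ l N₀) (hs : ∀ a b : Ω, a ≠ b → ¬ h.Same a b) {ι : Type*}
    (p : ι → Ω) (J : Finset ι) : (∀ a ∈ J, ∀ b ∈ J, p a = p b → a = b) → ∀ v : ι → M,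
    (∀ j ∈ J, v j ∈ l (p j)) → ∑ j ∈ J, v j = 0 → ∀ j ∈ J, v j = 0 := by
  classical
  induction J using Finset.strongInduction with
  | H J ih =>
    intro hp v hv hsum z hz
    by_contra hne
    -- another nonzero term
    obtain ⟨z', hz', hzz', hne'⟩ : ∃ z' ∈ J, z' ≠ z ∧ v z' ≠ 0 := by
      by_contra hcon
      push Not at hcon
      rw [Finset.sum_eq_single_of_mem z hz (fun b hb hbz => hcon b hb hbz)] at hsum
      exact hne hsum
    have h1 := hs (p z) (p z') (fun h1 => hzz' (hp z' hz' z hz h1.symm))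
    unfold Same at h1
    push Not at h1
    obtain ⟨n, hn, a, ha, w, hw, hwa⟩ := h1
    -- `ρ n - a` kills the `z`-term
    have h2 : ∑ x ∈ J.erase z, (ρ n (v x) - a • v x) = 0 := by
      have h3 : ∑ x ∈ J, (ρ n (v x) - a • v x) = 0 := by
        rw [Finset.sum_sub_distrib, ← map_sum, ← Finset.smul_sum, hsum, map_zero, smul_zero,
          sub_zero]
      rw [← Finset.add_sum_erase J _ hz, ha _ (hv z hz), sub_self, zero_add] at h3
      exact h3
    have h3 := ih (J.erase z) (Finset.erase_ssubset hz)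
      (fun a ha b hb => hp a (Finset.mem_of_mem_erase ha) b (Finset.mem_of_mem_erase hb))
      (fun x => ρ n (v x) - a • v x)
      (fun x hx => by
        have hx' := Finset.mem_of_mem_erase hx
        have h4 := h.map n (p x) _ (hv x hx')
        rw [h.triv n hn (p x)] at h4
        exact (l (p x)).sub_mem h4 ((l (p x)).smul_mem a (hv x hx'))) h2 z'
      (Finset.mem_erase.2 ⟨hzz', hz'⟩)
    obtain ⟨b, hb⟩ := h.exists_scalar hn (p z')
    rw [hb _ (hv z' hz'), ← sub_smul] at h3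
    have h4 : b = a := by
      rcases smul_eq_zero.1 h3 with h5 | h5
      · exact sub_eq_zero.1 h5
      · exact absurd h5 hne'
    apply hwa
    rw [hb w hw, h4]

/-- A relation forces the lines to coincide. -/
theorem line_eq (h : Lines ρ l N₀) {o i : Ω} (hoi : o ≠ i) (hall : h.Same i o)
    (Y : Subgroup N) [Finite Y] (hYi : ∀ y ∈ Y, y • i = i)
    (hYl : ∀ y ∈ Y, ∀ v ∈ l i, ρ y v = v) (hYtr : ∀ z : Ω, z ≠ i → ∃ y ∈ Y, y • o = z)
    (hYab : ∀ x ∈ Y, ∀ y ∈ Y, x * y * x⁻¹ * y⁻¹ ∈ N₀) (hcop : ((N₀ ⊓ Y).relIndex Y : k) ≠ 0)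
    (H : Subgroup N) (hHY : ∀ g ∈ H, ∀ y ∈ Y, g * y * g⁻¹ ∈ Y) (hHo : ∀ g ∈ H, g • o = o)
    (htr : ∀ x ∈ Y, x ∉ N₀ → ∀ y ∈ Y, y ∉ N₀ → ∃ g ∈ H, (g * x * g⁻¹) * y⁻¹ ∈ N₀)
    {ν : M} (hν : ν ∈ l o) (hν0 : ν ≠ 0)
    {ι : Type*} (J : Finset ι) (c : ι → k) (x : ι → N) (hx : ∀ j ∈ J, x j ∈ Y)
    (hinj : ∀ a ∈ J, ∀ b ∈ J, (x a)⁻¹ * x b ∈ N₀ → a = b)
    (hrel : ∑ j ∈ J, c j • ρ (x j) ν = 0) (hc : ∃ a ∈ J, ∃ b ∈ J, c a ≠ c b)
    (h3 : ∃ z : Ω, z ≠ o ∧ z ≠ i) : l o = l i := by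
  have hfix : ∀ y ∈ Y, ρ y ν = ν := by
    refine LinesAlg.fixed_of_relation ρ Y (N₀ ⊓ Y) inf_le_right ?_ ?_ hcop H hHY ?_ ?_ ?_ ?_ J c x
      hx ?_ hrel hc
    · rintro y hy x ⟨hx1, hx2⟩
      exact ⟨h.normal.conj_mem x hx1 y, Y.mul_mem (Y.mul_mem hy hx2) (Y.inv_mem hy)⟩
    · intro x hx y hy
      exact ⟨hYab x hx y hy, Y.mul_mem (Y.mul_mem (Y.mul_mem hx hy) (Y.inv_mem hx)) (Y.inv_mem hy)⟩
    · rintro g hg y ⟨hy1, hy2⟩
      exact ⟨h.normal.conj_mem y hy1 g, hHY g hg y hy2⟩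
    · intro x hx hx' y hy hy'
      obtain ⟨g, hg, h1⟩ := htr x hx (fun h2 => hx' ⟨h2, hx⟩) y hy (fun h2 => hy' ⟨h2, hy⟩)
      exact ⟨g, hg, h1, Y.mul_mem (hHY g hg x hx) (Y.inv_mem hy)⟩
    · rintro y ⟨hy1, hy2⟩
      have h1 := hall y hy1 1 (fun v hv => by rw [one_smul]; exact hYl y hy2 v hv) ν hν
      rwa [one_smul] at h1
    · intro g hg
      have h1 := h.map g o ν hν
      rw [hHo g hg] at h1
      obtain ⟨v, hv, hv0, hs⟩ := h.line o
      obtain ⟨a, ha⟩ := hs _ h1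
      obtain ⟨b, hb⟩ := hs _ hν
      have hb0 : b ≠ 0 := by
        rintro rfl
        rw [zero_smul] at hb
        exact hν0 hb
      exact ⟨a * b⁻¹, by rw [ha]; rw [hb, smul_smul, mul_assoc, inv_mul_cancel₀ hb0, mul_one]⟩
    · rintro a ha b hb ⟨h1, -⟩
      exact hinj a ha b hb h1
  have hle : ∀ z, z ≠ i → ν ∈ l z := by
    intro z hz
    obtain ⟨y, hy, rfl⟩ := hYtr z hz
    have h1 := h.map y o ν hν
    rwa [hfix y hy] at h1
  -- lines through `ν`
  have hline : ∀ z w : Ω, ∀ v : M, v ≠ 0 → v ∈ l z → v ∈ l w → l z = l w := by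
    have key : ∀ z w : Ω, ∀ v : M, v ≠ 0 → v ∈ l z → v ∈ l w → l z ≤ l w := by
      intro z w v hv0 hz hw x hx
      obtain ⟨e, he, he0, hs⟩ := h.line z
      obtain ⟨a, rfl⟩ := hs x hx
      obtain ⟨b, rfl⟩ := hs v hz
      have hb0 : b ≠ 0 := by
        rintro rfl
        rw [zero_smul] at hv0
        exact hv0 rfl
      have h1 := (l w).smul_mem (a * b⁻¹) hw
      rw [smul_smul, mul_assoc, inv_mul_cancel₀ hb0, mul_one] at h1
      exact h1
    intro z w v hv0 hz hw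
    exact le_antisymm (key z w v hv0 hz hw) (key w z v hv0 hw hz)
  obtain ⟨z, hzo, hzi⟩ := h3
  obtain ⟨g, hg1, hg2⟩ := h.two o z o i hzo.symm hoi
  -- `l o = l z`, so `l o = l i`
  have h1 : l o = l z := hline o z ν hν0 hν (hle z hzi)
  have h2 := h.map g o ν hν
  have h3 := h.map g z ν (by rw [← h1]; exact hν)
  rw [hg1] at h2
  rw [hg2] at h3
  have h4 : ρ g ν ≠ 0 := by
    intro h5
    apply hν0
    have h6 := congrArg (ρ g⁻¹) h5
    rw [← Module.End.mul_apply, ← map_mul, inv_mul_cancel, map_one, Module.End.one_apply,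
      map_zero] at h6
    exact h6
  exact hline o i _ h4 h2 h3

/-- The point `wᵃ uᵇ y`. -/
def pt (w u : N) (a : Fin 3 × Fin 2) : N := w ^ (a.1 : ℕ) * u ^ (a.2 : ℕ)

/-- The coefficients `1, -2, 1`. -/
def cf (k : Type*) [Field k] (a : Fin 3 × Fin 2) : k := ![1, -2, 1] a.1

/-- **The lines lemma.** -/
theorem ne_zero (h : Lines ρ l N₀) {o i : Ω} (hoi : o ≠ i) (hne : l o ≠ l i) (hk : (3 : k) ≠ 0)
    (Y : Subgroup N) [Finite Y] (hYi : ∀ y ∈ Y, y • i = i)
    (hYl : ∀ y ∈ Y, ∀ v ∈ l i, ρ y v = v) (hYtr : ∀ z : Ω, z ≠ i → ∃ y ∈ Y, y • o = z)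
    (hYab : ∀ x ∈ Y, ∀ y ∈ Y, x * y * x⁻¹ * y⁻¹ ∈ N₀) (hcop : ((N₀ ⊓ Y).relIndex Y : k) ≠ 0)
    (H : Subgroup N) (hHY : ∀ g ∈ H, ∀ y ∈ Y, g * y * g⁻¹ ∈ Y) (hHo : ∀ g ∈ H, g • o = o)
    (hHi : ∀ g ∈ H, g • i = i)
    (htr : ∀ x ∈ Y, x ∉ N₀ → ∀ y ∈ Y, y ∉ N₀ → ∃ g ∈ H, (g * x * g⁻¹) * y⁻¹ ∈ N₀)
    {u w : N} (hu : u ∈ H) (hw : w ∈ H) (hul : ∀ v ∈ l o, ρ u v = v) (hwl : ∀ v ∈ l o, ρ w v = v)
    {y : Ω} (hyi : y ≠ i) (hyo : y ≠ o)
    (hdist : ∀ a b : Fin 3 × Fin 2, pt w u a • y = pt w u b • y → a = b)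
    {ν : M} (hν : ν ∈ l y) (hν0 : ν ≠ 0) :
    (ν + ρ u ν) - (2 : k) • ρ w (ν + ρ u ν) + ρ w (ρ w (ν + ρ u ν)) ≠ 0 := by
  classical
  intro hrel
  have hptH : ∀ a, pt w u a ∈ H := fun a =>
    H.mul_mem (H.pow_mem hw _) (H.pow_mem hu _)
  have hpow : ∀ (g : N), (∀ v ∈ l o, ρ g v = v) → ∀ (n : ℕ), ∀ v ∈ l o, ρ (g ^ n) v = v := by
    intro g hg n
    induction n with
    | zero => intro v _; rw [pow_zero, map_one, Module.End.one_apply]
    | succ n ih => intro v hv; rw [pow_succ, map_mul, Module.End.mul_apply, hg v hv, ih v hv]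
  have hptl : ∀ a, ∀ v ∈ l o, ρ (pt w u a) v = v := by
    intro a v hv
    rw [pt, map_mul, Module.End.mul_apply, hpow u hul _ v hv, hpow w hwl _ v hv]
  -- the relation as a sum
  have hsum : ∑ a : Fin 3 × Fin 2, cf k a • ρ (pt w u a) ν = 0 := by
    rw [← hrel, Fintype.sum_prod_type]
    simp only [Fin.sum_univ_three, Fin.sum_univ_two, cf, pt, Matrix.cons_val_zero,
      Matrix.cons_val_one, Matrix.cons_val_two, Matrix.tail_cons, Matrix.head_cons, Fin.val_zero,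
      Fin.val_one, Fin.val_two, pow_zero, pow_one, one_mul, mul_one, map_one, map_mul,
      Module.End.one_apply, Module.End.mul_apply, one_smul, sq, map_add, smul_add, neg_smul]
    abel
  obtain ⟨x, hx, hxy⟩ := hYtr y hyi
  -- the lines coincide in all cases
  by_cases hs : ∀ a b : Ω, a ≠ b → ¬ h.Same a b
  · have h1 := h.eq_zero_of_sum hs (fun a => pt w u a • y) Finset.univ
      (fun a _ b _ hab => hdist a b hab) (fun a => cf k a • ρ (pt w u a) ν)
      (fun a _ => (l _).smul_mem _ (h.map _ _ _ hν)) hsum (0, 0) (Finset.mem_univ _)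
    simp only [cf, pt, Matrix.cons_val_zero, Fin.val_zero, pow_zero, mul_one, map_one,
      Module.End.one_apply, one_smul] at h1
    exact hν0 h1
  · push Not at hs
    obtain ⟨a, b, hab, hsame⟩ := hs
    have hall := h.same_all hab hsame hoi.symm
    -- the vector at `o`
    have hν' : ρ x⁻¹ ν ∈ l o := by
      have h1 := h.map x⁻¹ y ν hν
      rwa [← hxy, inv_smul_smul] at h1
    have hν0' : ρ x⁻¹ ν ≠ 0 := by
      intro h5
      apply hν0
      have h6 := congrArg (ρ x) h5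
      rw [← Module.End.mul_apply, ← map_mul, mul_inv_cancel, map_one, Module.End.one_apply,
        map_zero] at h6
      exact h6
    refine hne (h.line_eq hoi hall Y hYi hYl hYtr hYab hcop H hHY hHo htr hν' hν0' Finset.univ
      (cf k) (fun a => pt w u a * x * (pt w u a)⁻¹) (fun a _ => hHY _ (hptH a) x hx) ?_ ?_ ?_
      ⟨y, hyo, hyi⟩)
    · intro a _ b _ h1
      apply hdist
      have h2 := h.triv _ h1 o
      have h3 : ∀ a, (pt w u a * x * (pt w u a)⁻¹) • o = pt w u a • y := by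
        intro a
        rw [mul_smul, hHo _ (H.inv_mem (hptH a)), mul_smul, hxy]
      rw [mul_smul, inv_smul_eq_iff, h3, h3] at h2
      exact h2.symm
    · rw [← hsum]
      refine Finset.sum_congr rfl fun a _ => ?_
      congr 1
      have h1 := hptl a _ hν'
      have h2 : ρ (pt w u a)⁻¹ (ρ x⁻¹ ν) = ρ x⁻¹ ν := by
        conv_lhs => rw [← h1]
        rw [← Module.End.mul_apply, ← map_mul, inv_mul_cancel, map_one, Module.End.one_apply]
      rw [map_mul, map_mul, Module.End.mul_apply, Module.End.mul_apply, h2]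
      congr 1
      rw [← Module.End.mul_apply, ← map_mul, mul_inv_cancel, map_one, Module.End.one_apply]
    · refine ⟨(0, 0), Finset.mem_univ _, (1, 0), Finset.mem_univ _, ?_⟩
      simp only [cf, Matrix.cons_val_zero, Matrix.cons_val_one]
      intro h1
      apply hk
      linear_combination h1

end Lines

end Cfsg.Agent.Classification.QDW.LinesMain
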