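import Mathlib
import Cfsg.Agent.Classification.QDW.LinesMain

/-!
# From the characters `π_χ` to the lines (part of (3)(b) of post 7433 of the board)

A group `N` acts on the group `R` (by `φ`) and 2-transitively on `Ω`; the normal subgroup `N₀` of
`N` is trivial on `Ω`.  `Z` is a cyclic group of linear characters of `R`, of order `r ^ a`, fixed by
`C_N(u)`; the conjugates of its nontrivial elements under the stabiliser `N_i` of a point `i` are at
most `2 |Z|`.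

* `Hyp.act_eq_of_inverted`: the elements of odd order of `N_i` inverted by `u` centralise `Ω₁(Z)`;
* `Hyp.stab`: `N_i` stabilises `Ω₁(Z)`;
* `Hyp.lines`: so the conjugates of `Ω₁(Z)` are lines `l z`, `z ∈ Ω`, in the sense of `LinesMain`;
* `Hyp.main`: the conjugates of the nontrivial elements of `Z` at the points `z ≠ o, i` are
  nontrivial on `P₁`.
-/

set_option autoImplicit false
set_option linter.unusedSectionVars false

namespace Cfsg.Agent.Classification.QDW.FuLines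

variable {N R Ω : Type*} [Group N] [Group R] [MulAction N Ω]

/-! ### The action on the linear characters -/

/-- The action of `N` on the linear characters of `R`. -/
def act (φ : N →* MulAut R) (n : N) (χ : R →* ℂˣ) : R →* ℂˣ := χ.comp (φ n⁻¹).toMonoidHom

variable (φ : N →* MulAut R)

@[simp] theorem act_apply (n : N) (χ : R →* ℂˣ) (x : R) : act φ n χ x = χ (φ n⁻¹ x) := rfl

@[simp] theorem act_one (χ : R →* ℂˣ) : act φ 1 χ = χ := by
  ext x; simp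

theorem act_mul (m n : N) (χ : R →* ℂˣ) : act φ (m * n) χ = act φ m (act φ n χ) := by
  ext x; simp [mul_inv_rev]

@[simp] theorem act_one_right (n : N) : act φ n 1 = 1 := rfl

theorem act_mul_right (n : N) (χ ψ : R →* ℂˣ) : act φ n (χ * ψ) = act φ n χ * act φ n ψ := rfl

theorem act_inv_act (n : N) (χ : R →* ℂˣ) : act φ n⁻¹ (act φ n χ) = χ := by
  rw [← act_mul, inv_mul_cancel, act_one]

theorem act_act_inv (n : N) (χ : R →* ℂˣ) : act φ n (act φ n⁻¹ χ) = χ := by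
  rw [← act_mul, mul_inv_cancel, act_one]

/-- The action of `n` as an automorphism of the group of linear characters. -/
def actHom (n : N) : (R →* ℂˣ) →* (R →* ℂˣ) where
  toFun := act φ n
  map_one' := rfl
  map_mul' _ _ := rfl

@[simp] theorem actHom_apply (n : N) (χ : R →* ℂˣ) : actHom φ n χ = act φ n χ := rfl

theorem act_pow_right (n : N) (χ : R →* ℂˣ) (k : ℕ) : act φ n (χ ^ k) = act φ n χ ^ k :=
  map_pow (actHom φ n) χ k

theorem act_inv_right (n : N) (χ : R →* ℂˣ) : act φ n χ⁻¹ = (act φ n χ)⁻¹ :=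
  map_inv (actHom φ n) χ

theorem act_injective (n : N) : Function.Injective (act φ n) :=
  fun χ ψ h => by rw [← act_inv_act φ n χ, h, act_inv_act]

theorem act_eq_one {n : N} {χ : R →* ℂˣ} (h : act φ n χ = 1) : χ = 1 :=
  act_injective φ n (by rw [h, act_one_right])

/-! ### The `𝔽_r`-space of the characters of order `r` -/

section Space

/-- The linear characters of order dividing `r`. -/
def tors (r : ℕ) (R : Type*) [Group R] : Subgroup (R →* ℂˣ) :=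
  (powMonoidHom r : (R →* ℂˣ) →* (R →* ℂˣ)).ker

/-- The same group, additively. -/
abbrev Sp (r : ℕ) (R : Type*) [Group R] : Type _ := Additive (tors r R)

instance (r : ℕ) (R : Type*) [Group R] : Module (ZMod r) (Sp r R) :=
  AddCommGroup.zmodModule (n := r) (fun x => by
    have h : (Additive.toMul x) ^ r = 1 := Subtype.ext (Additive.toMul x).2
    exact congrArg Additive.ofMul h)

variable (r : ℕ)

theorem mem_tors {χ : R →* ℂˣ} : χ ∈ tors r R ↔ χ ^ r = 1 := Iff.rfl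

/-- The action of `n` on `Sp r R`. -/
def spHom (n : N) : Sp r R →+ Sp r R := MonoidHom.toAdditive
  (((actHom φ n).comp (tors r R).subtype).codRestrict (tors r R) (fun x => by
    have h : (x : R →* ℂˣ) ^ r = 1 := x.2
    change act φ n x ^ r = 1
    rw [← act_pow_right, h, act_one_right]))

/-- The representation of `N` on `Sp r R`. -/
def rho : Representation (ZMod r) N (Sp r R) where
  toFun n := (spHom φ r n).toZModLinearMap r
  map_one' := LinearMap.ext fun x => congrArg Additive.ofMul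
    (Subtype.ext (act_one φ ((Additive.toMul x : tors r R) : R →* ℂˣ)))
  map_mul' m n := LinearMap.ext fun x => congrArg Additive.ofMul
    (Subtype.ext (act_mul φ m n ((Additive.toMul x : tors r R) : R →* ℂˣ)))

/-- The character belonging to a vector. -/
def ch (v : Sp r R) : R →* ℂˣ := ((Additive.toMul v : tors r R) : R →* ℂˣ)

@[simp] theorem ch_rho (n : N) (v : Sp r R) : ch r (rho φ r n v) = act φ n (ch r v) := rfl

@[simp] theorem ch_zero : ch r (0 : Sp r R) = 1 := rfl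

@[simp] theorem ch_add (v w : Sp r R) : ch r (v + w) = ch r v * ch r w := rfl

@[simp] theorem ch_neg (v : Sp r R) : ch r (-v) = (ch r v)⁻¹ := rfl

@[simp] theorem ch_sub (v w : Sp r R) : ch r (v - w) = ch r v * (ch r w)⁻¹ := by
  rw [sub_eq_add_neg, ch_add, ch_neg]

theorem ch_injective : Function.Injective (ch r : Sp r R → (R →* ℂˣ)) := fun _ _ h =>
  congrArg Additive.ofMul (Subtype.ext h)

theorem ch_eq_one {v : Sp r R} : ch r v = 1 ↔ v = 0 := by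
  rw [← ch_zero r, (ch_injective r).eq_iff]

theorem ch_pow (v : Sp r R) : ch r v ^ r = 1 := (Additive.toMul v : tors r R).2

theorem ch_nsmul (k : ℕ) (v : Sp r R) : ch r (k • v) = ch r v ^ k := by
  induction k with
  | zero => rw [zero_smul, ch_zero]; exact (pow_zero (ch r v)).symm
  | succ k ih => rw [succ_nsmul, ch_add, ih]; exact (pow_succ (ch r v) k).symm

/-- The vector belonging to a character. -/
def vec (χ : R →* ℂˣ) (h : χ ^ r = 1) : Sp r R := Additive.ofMul ⟨χ, h⟩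

@[simp] theorem ch_vec (χ : R →* ℂˣ) (h : χ ^ r = 1) : ch r (vec r χ h) = χ := rfl

/-- The subspace belonging to a subgroup. -/
def sub (Z : Subgroup (R →* ℂˣ)) : Submodule (ZMod r) (Sp r R) :=
  AddSubgroup.toZModSubmodule r
    { carrier := {v | ch r v ∈ Z}
      zero_mem' := Z.one_mem
      add_mem' := fun ha hb => Z.mul_mem ha hb
      neg_mem' := fun ha => Z.inv_mem ha }

@[simp] theorem mem_sub {Z : Subgroup (R →* ℂˣ)} {v : Sp r R} : v ∈ sub r Z ↔ ch r v ∈ Z := Iff.rfl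

end Space

/-! ### Elements inverted by an involution -/

section Inv

/-- A square root inverted by `u`. -/
theorem exists_sqrt {G : Type*} [Group G] {y : G} (hy : Odd (orderOf y)) :
    ∃ k ∈ Subgroup.zpowers y, k * k = y := by
  obtain ⟨j, hj⟩ := hy
  refine ⟨y ^ (j + 1), Subgroup.pow_mem _ (Subgroup.mem_zpowers y) _, ?_⟩
  rw [← pow_add]
  have h1 : j + 1 + (j + 1) = orderOf y + 1 := by omega
  rw [h1, pow_succ, pow_orderOf_eq_one, one_mul]

theorem conj_of_zpowers {G : Type*} [Group G] {u y k : G} (hy : u * y * u⁻¹ = y⁻¹)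
    (hk : k ∈ Subgroup.zpowers y) : u * k * u⁻¹ = k⁻¹ := by
  obtain ⟨n, rfl⟩ := Subgroup.mem_zpowers_iff.1 hk
  rw [← conj_zpow, hy, inv_zpow]

/-- The commutator with an involution is inverted. -/
theorem conj_comm_inv {G : Type*} [Group G] {u n : G} (huu : u * u = 1) :
    u * (n * u * n⁻¹ * u⁻¹) * u⁻¹ = (n * u * n⁻¹ * u⁻¹)⁻¹ := by
  have h1 : u⁻¹ = u := inv_eq_of_mul_eq_one_left huu
  rw [mul_inv_rev, mul_inv_rev, mul_inv_rev, inv_inv, inv_inv, h1]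
  calc u * (n * u * n⁻¹ * u) * u = u * (n * u * n⁻¹) * (u * u) := by group
    _ = u * (n * u * n⁻¹) := by rw [huu, mul_one]
    _ = u * (n * (u * n⁻¹)) := by group

/-- `n = k c`, `k` inverted by the involution `u`, a power of `[n, u]`, and `c` commutes with
`u`. -/
theorem exists_split {G : Type*} [Group G] {u n : G} (huu : u * u = 1)
    (hy : Odd (orderOf (n * u * n⁻¹ * u⁻¹))) :
    ∃ k ∈ Subgroup.zpowers (n * u * n⁻¹ * u⁻¹), u * k * u⁻¹ = k⁻¹ ∧
      (k⁻¹ * n) * u = u * (k⁻¹ * n) := by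
  obtain ⟨k, hk, hkk⟩ := exists_sqrt hy
  have h1 := conj_of_zpowers (conj_comm_inv huu) hk
  refine ⟨k, hk, h1, ?_⟩
  have hui : u⁻¹ = u := inv_eq_of_mul_eq_one_left huu
  have h2 : n * u * n⁻¹ = k * k * u := by rw [hkk]; group
  have h3 : k * u = u * k⁻¹ := by
    rw [← h1]
    calc k * u = 1 * (k * u) := (one_mul _).symm
      _ = (u * u) * (k * u) := by rw [huu]
      _ = u * (u * k * u) := by group
      _ = u * (u * k * u⁻¹) := by rw [hui]
  calc (k⁻¹ * n) * u = k⁻¹ * (n * u * n⁻¹) * n := by group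
    _ = k⁻¹ * (k * k * u) * n := by rw [h2]
    _ = (k * u) * n := by group
    _ = u * (k⁻¹ * n) := by rw [h3]; group

/-- Powers in a cyclic `r`-group. -/
theorem exists_pow_of_cyclic {G : Type*} [Group G] {r k : ℕ} (hr : r.Prime) {ζ χ ψ : G}
    (hζ : orderOf ζ = r ^ (k + 1)) (hχ : χ ∈ Subgroup.zpowers ζ) (hχ1 : χ ≠ 1)
    (hψ : ψ ∈ Subgroup.zpowers ζ) (hψr : ψ ^ r = 1) : ∃ n : ℕ, ψ = χ ^ n := by
  classical
  have hfin : IsOfFinOrder ζ := by
    rw [← orderOf_pos_iff, hζ]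
    exact pow_pos hr.pos _
  rw [hfin.mem_zpowers_iff_mem_range_orderOf, Finset.mem_image] at hχ hψ
  obtain ⟨a, -, rfl⟩ := hχ
  obtain ⟨b, -, rfl⟩ := hψ
  have ha0 : a ≠ 0 := by
    rintro rfl
    exact hχ1 (pow_zero ζ)
  obtain ⟨j, a', ha', rfl⟩ := Nat.exists_eq_pow_mul_and_not_dvd ha0 r hr.ne_one
  have hj : j ≤ k := by
    by_contra hcon
    apply hχ1
    apply orderOf_dvd_iff_pow_eq_one.1
    rw [hζ]
    exact Dvd.dvd.mul_right (pow_dvd_pow r (by omega)) a'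
  have hb : r ^ k ∣ b := by
    rw [← pow_mul] at hψr
    have h1 := orderOf_dvd_iff_pow_eq_one.2 hψr
    rw [hζ, pow_succ] at h1
    exact Nat.dvd_of_mul_dvd_mul_right hr.pos h1
  obtain ⟨b, rfl⟩ := hb
  -- the inverse of `a'` modulo `r`
  have hcop : Nat.Coprime a' r := ((Nat.Prime.coprime_iff_not_dvd hr).2 ha').symm
  obtain ⟨c, -, hc⟩ := Nat.exists_mul_mod_eq_one_of_coprime hcop hr.one_lt
  refine ⟨r ^ (k - j) * (c * b), ?_⟩
  rw [← pow_mul]
  have h1 : r ^ j * a' * (r ^ (k - j) * (c * b)) = r ^ k * (a' * c * b) := by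
    have : r ^ k = r ^ j * r ^ (k - j) := by rw [← pow_add]; congr 1; omega
    rw [this]; ring
  rw [h1, pow_eq_pow_iff_modEq, hζ, pow_succ]
  apply Nat.ModEq.mul_left'
  have h2 : a' * c ≡ 1 [MOD r] := by
    unfold Nat.ModEq
    rw [hc, Nat.mod_eq_of_lt hr.one_lt]
  have h3 := h2.mul_right b
  rw [one_mul] at h3
  exact h3.symm

theorem exists_elem_of_cyclic {G : Type*} [Group G] {r k : ℕ} (hr : r.Prime) {ζ : G}
    (hζ : orderOf ζ = r ^ (k + 1)) : ∃ ξ ∈ Subgroup.zpowers ζ, ξ ≠ 1 ∧ ξ ^ r = 1 := by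
  refine ⟨ζ ^ (r ^ k), Subgroup.pow_mem _ (Subgroup.mem_zpowers ζ) _, ?_, ?_⟩
  · intro h1
    have h2 := orderOf_dvd_iff_pow_eq_one.2 h1
    rw [hζ, Nat.pow_dvd_pow_iff_le_right hr.one_lt] at h2
    omega
  · rw [← pow_mul, ← pow_succ, ← hζ, pow_orderOf_eq_one]

theorem mem_of_sq {G : Type*} [Group G] {x : G} (hx : Odd (orderOf x)) {S : Subgroup G}
    (h : x * x ∈ S) : x ∈ S := by
  obtain ⟨j, hj⟩ := hx
  have h1 : (x * x) ^ (j + 1) = x := by
    rw [← sq, ← pow_mul]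
    have h2 : 2 * (j + 1) = orderOf x + 1 := by omega
    rw [h2, pow_succ, pow_orderOf_eq_one, one_mul]
  rw [← h1]
  exact S.pow_mem h _

end Inv

/-! ### The hypotheses -/

open LinesMain.Lines (pt)

/-- The group `N` with the linear characters `Z` of `R` at the point `i`. -/
structure Hyp (r : ℕ) (φ : N →* MulAut R) (N₀ Mi : Subgroup N) (i o : Ω) (u w s : N)
    (Z : Subgroup (R →* ℂˣ)) : Prop where
  prime : r.Prime
  r5 : 5 ≤ r
  two : ∀ a b c d : Ω, a ≠ b → c ≠ d → ∃ g : N, g • a = c ∧ g • b = d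
  normal : N₀.Normal
  triv : ∀ n ∈ N₀, ∀ z : Ω, n • z = z
  oi : o ≠ i
  Mi_odd : Odd (Nat.card Mi)
  Mi_fix : ∀ y ∈ Mi, y • i = i
  Mi_conj : ∀ n : N, n • i = i → ∀ y ∈ Mi, n * y * n⁻¹ ∈ Mi
  Mi_comm : ∀ x ∈ Mi, ∀ y ∈ Mi, x * y * x⁻¹ * y⁻¹ ∈ N₀
  Mi_cop : ¬ r ∣ N₀.relIndex Mi
  N₀_le : N₀ ≤ Mi
  uu : u * u = 1
  u_i : u • i = i
  u_o : u • o = o
  u_inv : ∀ y ∈ Mi, u * y * u⁻¹ * y ∈ N₀
  u_cen : ∀ n : N, n • i = i → n * u * n⁻¹ * u⁻¹ ∈ Mi
  trans : ∀ z : Ω, z ≠ i → ∃ y ∈ Mi, y • o = z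
  tor : ∀ x ∈ Mi, x ∉ N₀ → ∀ y ∈ Mi, y ∉ N₀ →
    ∃ g : N, g * u = u * g ∧ g • o = o ∧ g • i = i ∧ g * x * g⁻¹ * y⁻¹ ∈ N₀
  wu : w * u = u * w
  w_i : w • i = i
  w_o : w • o = o
  dist : ∀ y : Ω, y ≠ i → y ≠ o → ∀ a b : Fin 3 × Fin 2, pt w u a • y = pt w u b • y → a = b
  s_i : s • i = o
  Z_cyc : ∃ ζ : R →* ℂˣ, Z = Subgroup.zpowers ζ ∧ ∃ k : ℕ, orderOf ζ = r ^ (k + 1)
  Z_norm : ∀ n : N, n * u = u * n → ∀ χ ∈ Z, act φ n χ ∈ Z
  Z_u : ∀ χ ∈ Z, act φ u χ = χ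
  Z_su : ∀ χ ∈ Z, act φ u (act φ s χ) = act φ s χ
  Z_sw : ∀ χ ∈ Z, act φ w (act φ s χ) = act φ s χ
  Z_s : ∀ χ ∈ Z, act φ s χ ∈ Z → χ = 1
  fibre : ∀ S : Finset (R →* ℂˣ),
    (∀ χ ∈ S, ∃ n : N, n • i = i ∧ ∃ ζ ∈ Z, ζ ≠ 1 ∧ χ = act φ n ζ) → S.card ≤ 2 * Nat.card Z

namespace Hyp

variable {φ} {r : ℕ} {N₀ Mi : Subgroup N} {i o : Ω} {u w s : N} {Z : Subgroup (R →* ℂˣ)}

theorem mem_Z_iff (h : Hyp r φ N₀ Mi i o u w s Z) : ∃ ζ : R →* ℂˣ, Z = Subgroup.zpowers ζ ∧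
    ∃ k : ℕ, orderOf ζ = r ^ (k + 1) := h.Z_cyc

/-- A nontrivial subgroup of the cyclic `r`-group `Z` contains the elements of order `r`. -/
theorem exists_pow (h : Hyp r φ N₀ Mi i o u w s Z) {χ ψ : R →* ℂˣ} (hχ : χ ∈ Z) (hχ1 : χ ≠ 1)
    (hψ : ψ ∈ Z) (hψr : ψ ^ r = 1) : ∃ k : ℕ, ψ = χ ^ k := by
  obtain ⟨ζ, hZ, k, hk⟩ := h.Z_cyc
  rw [hZ] at hχ hψ
  exact exists_pow_of_cyclic h.prime hk hχ hχ1 hψ hψr

theorem card_Z (h : Hyp r φ N₀ Mi i o u w s Z) : ∃ k : ℕ, Nat.card Z = r ^ (k + 1) := by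
  obtain ⟨ζ, hZ, k, hk⟩ := h.Z_cyc
  exact ⟨k, by rw [hZ, Nat.card_zpowers, hk]⟩

theorem r_le_card (h : Hyp r φ N₀ Mi i o u w s Z) : r ≤ Nat.card Z := by
  obtain ⟨k, hk⟩ := h.card_Z
  rw [hk]
  exact Nat.le_self_pow (Nat.succ_ne_zero k) r

theorem finite_Z (h : Hyp r φ N₀ Mi i o u w s Z) : Finite Z := by
  have h1 := h.r_le_card
  have h2 := h.prime.pos
  exact Nat.finite_of_card_ne_zero (by omega)

/-- The stabilizer of a character. -/
def stabC (φ : N →* MulAut R) (χ : R →* ℂˣ) : Subgroup N where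
  carrier := {n | act φ n χ = χ}
  one_mem' := act_one φ χ
  mul_mem' := by
    intro a b ha hb
    change act φ (a * b) χ = χ
    rw [act_mul, (hb : act φ b χ = χ), (ha : act φ a χ = χ)]
  inv_mem' := by
    intro a ha
    change act φ a⁻¹ χ = χ
    conv_lhs => rw [← (ha : act φ a χ = χ)]
    exact act_inv_act φ a χ

theorem odd_of_mem (h : Hyp r φ N₀ Mi i o u w s Z) {x : N} (hx : x ∈ Mi) : Odd (orderOf x) := by
  rw [← Subgroup.orderOf_mk x hx]
  exact h.Mi_odd.of_dvd_nat (orderOf_dvd_natCard _)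

/-- If `x`, inverted by `u`, maps `χ ∈ Z` into `Z` then it fixes it. -/
theorem act_eq_of_mem (h : Hyp r φ N₀ Mi i o u w s Z) {x : N} (hx : x ∈ Mi)
    (hinv : u * x * u⁻¹ = x⁻¹) {χ : R →* ℂˣ} (hχ : χ ∈ Z) (hm : act φ x χ ∈ Z) :
    act φ x χ = χ := by
  have h1 : act φ x⁻¹ χ = act φ x χ := by
    rw [← hinv, act_mul, act_mul]
    have h2 : act φ u⁻¹ χ = χ := (stabC φ χ).inv_mem (h.Z_u χ hχ)
    rw [h2, h.Z_u _ hm]
  have h2 : x * x ∈ stabC φ χ := by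
    change act φ (x * x) χ = χ
    rw [act_mul, ← h1, act_act_inv]
  exact mem_of_sq (h.odd_of_mem hx) h2

theorem mem_of_inv (h : Hyp r φ N₀ Mi i o u w s Z) {x : N}
    (hinv : u * x * u⁻¹ = x⁻¹) {χ : R →* ℂˣ} (hχ : χ ∈ Z) (hm : act φ x⁻¹ χ ∈ Z) :
    act φ x χ ∈ Z := by
  have h1 : act φ x χ = act φ x⁻¹ χ := by
    have h3 : u * x⁻¹ * u⁻¹ = x := by
      have h4 := congrArg (·⁻¹) hinv
      simp only [inv_inv] at h4
      have h5 : (u * x * u⁻¹)⁻¹ = u * x⁻¹ * u⁻¹ := by group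
      rw [← h5]
      exact h4
    conv_lhs => rw [← h3]
    rw [act_mul, act_mul]
    have h2 : act φ u⁻¹ χ = χ := (stabC φ χ).inv_mem (h.Z_u χ hχ)
    rw [h2, h.Z_u _ hm]
  rw [h1]
  exact hm

/-- The elements of `Mi` inverted by `u` fix the elements of order `r` of `Z`. -/
theorem act_eq_of_inverted (h : Hyp r φ N₀ Mi i o u w s Z) {x : N} (hx : x ∈ Mi)
    (hinv : u * x * u⁻¹ = x⁻¹) {χ : R →* ℂˣ} (hχ : χ ∈ Z) (hr : χ ^ r = 1) :
    act φ x χ = χ := by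
  classical
  by_cases hm : act φ x χ ∈ Z
  · exact h.act_eq_of_mem hx hinv hχ hm
  exfalso
  have := h.finite_Z
  have hχ1 : χ ≠ 1 := by
    rintro rfl
    exact hm Z.one_mem
  -- `x`, `x⁻¹`, `x²` move all nontrivial elements of `Z` out of `Z`
  have hpow : ∀ n : N, act φ n χ ∉ Z → ∀ ξ ∈ Z, ξ ≠ 1 → act φ n ξ ∉ Z := by
    intro n hn ξ hξ hξ1 hmem
    apply hn
    obtain ⟨k, hk⟩ := h.exists_pow hξ hξ1 hχ hr
    rw [hk, act_pow_right]
    exact Z.pow_mem hmem k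
  have hA := hpow x hm
  have hB := hpow x⁻¹ (fun h1 => hm (h.mem_of_inv hinv hχ h1))
  have hC : ∀ ξ ∈ Z, ξ ≠ 1 → act φ (x * x) ξ ∉ Z := by
    intro ξ hξ hξ1 hmem
    have h1 : u * (x * x) * u⁻¹ = (x * x)⁻¹ := by
      rw [mul_inv_rev, ← hinv]; group
    have h2 : x * x ∈ stabC φ ξ := h.act_eq_of_mem (Mi.mul_mem hx hx) h1 hξ hmem
    have h3 : act φ x ξ = ξ := mem_of_sq (h.odd_of_mem hx) h2
    exact hA ξ hξ hξ1 (by rw [h3]; exact hξ)
  -- the three sets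
  let A : Finset (R →* ℂˣ) := (Set.toFinite ((Z : Set (R →* ℂˣ)) \ {1})).toFinset
  have hmemA : ∀ ξ, ξ ∈ A ↔ ξ ∈ Z ∧ ξ ≠ 1 := by
    intro ξ
    simp only [A, Set.Finite.mem_toFinset, Set.mem_sdiff, SetLike.mem_coe, Set.mem_singleton_iff]
  have hcA : A.card = Nat.card Z - 1 := by
    have h1 : A.card = ((Z : Set (R →* ℂˣ)) \ {1}).ncard :=
      (Set.ncard_eq_toFinset_card _ (Set.toFinite _)).symm
    rw [h1, Set.ncard_sdiff_singleton_of_mem Z.one_mem, ← Nat.card_coe_set_eq]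
    rfl
  have hd1 : Disjoint A (A.image (act φ x)) := by
    rw [Finset.disjoint_left]
    intro ξ h1 h2
    obtain ⟨ξ', h3, rfl⟩ := Finset.mem_image.1 h2
    exact hA ξ' ((hmemA _).1 h3).1 ((hmemA _).1 h3).2 ((hmemA _).1 h1).1
  have hd2 : Disjoint (A ∪ A.image (act φ x)) (A.image (act φ x⁻¹)) := by
    rw [Finset.disjoint_left]
    intro ξ h1 h2
    obtain ⟨ξ', h3, rfl⟩ := Finset.mem_image.1 h2
    obtain ⟨h4, h5⟩ := (hmemA _).1 h3
    rcases Finset.mem_union.1 h1 with h6 | h6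
    · exact hB ξ' h4 h5 ((hmemA _).1 h6).1
    · obtain ⟨ξ'', h7, h8⟩ := Finset.mem_image.1 h6
      obtain ⟨h9, h10⟩ := (hmemA _).1 h7
      apply hC ξ'' h9 h10
      rw [act_mul, h8, act_act_inv]
      exact h4
  have hcard : ((A ∪ A.image (act φ x)) ∪ A.image (act φ x⁻¹)).card = 3 * (Nat.card Z - 1) := by
    rw [Finset.card_union_of_disjoint hd2, Finset.card_union_of_disjoint hd1,
      Finset.card_image_of_injective _ (act_injective φ x),
      Finset.card_image_of_injective _ (act_injective φ x⁻¹), hcA]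
    ring
  have hfib := h.fibre ((A ∪ A.image (act φ x)) ∪ A.image (act φ x⁻¹)) (by
    intro ξ h1
    have hxi := h.Mi_fix x hx
    have hxi' := h.Mi_fix _ (Mi.inv_mem hx)
    rcases Finset.mem_union.1 h1 with h2 | h2
    · rcases Finset.mem_union.1 h2 with h3 | h3
      · obtain ⟨h4, h5⟩ := (hmemA _).1 h3
        exact ⟨1, one_smul _ _, ξ, h4, h5, (act_one φ ξ).symm⟩
      · obtain ⟨ξ', h7, rfl⟩ := Finset.mem_image.1 h3
        obtain ⟨h4, h5⟩ := (hmemA _).1 h7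
        exact ⟨x, hxi, ξ', h4, h5, rfl⟩
    · obtain ⟨ξ', h7, rfl⟩ := Finset.mem_image.1 h2
      obtain ⟨h4, h5⟩ := (hmemA _).1 h7
      exact ⟨x⁻¹, hxi', ξ', h4, h5, rfl⟩)
  rw [hcard] at hfib
  have h1 := h.r_le_card
  have h2 := h.r5
  omega

/-- The stabilizer of the point `i` stabilises the group of the elements of order `r` of `Z`. -/
theorem stab (h : Hyp r φ N₀ Mi i o u w s Z) {n : N} (hn : n • i = i) {χ : R →* ℂˣ} (hχ : χ ∈ Z)
    (hr : χ ^ r = 1) : act φ n χ ∈ Z := by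
  have hy := h.u_cen n hn
  obtain ⟨k, hk, hk1, hk2⟩ := exists_split h.uu (h.odd_of_mem hy)
  have hkM : k ∈ Mi := by
    have h1 : Subgroup.zpowers (n * u * n⁻¹ * u⁻¹) ≤ Mi := by
      rw [Subgroup.zpowers_le]; exact hy
    exact h1 hk
  have h1 : act φ n χ = act φ k (act φ (k⁻¹ * n) χ) := by
    rw [← act_mul, mul_inv_cancel_left]
  have h2 := h.Z_norm _ hk2 χ hχ
  rw [h1, h.act_eq_of_inverted hkM hk1 h2 (by rw [← act_pow_right, hr, act_one_right])]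
  exact h2

/-! ### The lines -/

theorem exists_smul (h : Hyp r φ N₀ Mi i o u w s Z) (z : Ω) : ∃ n : N, n • i = z := by
  obtain ⟨z', hz'⟩ : ∃ z' : Ω, z ≠ z' := by
    by_cases hz : z = i
    · exact ⟨o, by rw [hz]; exact h.oi.symm⟩
    · exact ⟨i, hz⟩
  obtain ⟨g, hg, -⟩ := h.two i o z z' h.oi.symm hz'
  exact ⟨g, hg⟩

/-- Some element mapping `i` to `z`. -/
noncomputable def pick (h : Hyp r φ N₀ Mi i o u w s Z) (z : Ω) : N := (h.exists_smul z).choose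

theorem pick_smul (h : Hyp r φ N₀ Mi i o u w s Z) (z : Ω) : h.pick z • i = z :=
  (h.exists_smul z).choose_spec

/-- The line at `z`. -/
noncomputable def l (h : Hyp r φ N₀ Mi i o u w s Z) (z : Ω) : Submodule (ZMod r) (Sp r R) :=
  sub r (Z.comap (actHom φ (h.pick z)⁻¹))

theorem mem_l_pick (h : Hyp r φ N₀ Mi i o u w s Z) {z : Ω} {v : Sp r R} :
    v ∈ h.l z ↔ act φ (h.pick z)⁻¹ (ch r v) ∈ Z := Iff.rfl

theorem mem_of_mem (h : Hyp r φ N₀ Mi i o u w s Z) {m n : N} (hmn : m • i = n • i) {v : Sp r R}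
    (hm : act φ m⁻¹ (ch r v) ∈ Z) : act φ n⁻¹ (ch r v) ∈ Z := by
  have h1 : act φ n⁻¹ (ch r v) = act φ (n⁻¹ * m) (act φ m⁻¹ (ch r v)) := by
    rw [← act_mul, mul_inv_cancel_right]
  rw [h1]
  refine h.stab ?_ hm (by rw [← act_pow_right, ch_pow, act_one_right])
  rw [mul_smul, hmn, inv_smul_smul]

theorem mem_l (h : Hyp r φ N₀ Mi i o u w s Z) {n : N} {v : Sp r R} :
    v ∈ h.l (n • i) ↔ act φ n⁻¹ (ch r v) ∈ Z :=
  ⟨fun h1 => h.mem_of_mem (h.pick_smul _) (h.mem_l_pick.1 h1),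
    fun h1 => h.mem_l_pick.2 (h.mem_of_mem (h.pick_smul _).symm h1)⟩

theorem mem_l_i (h : Hyp r φ N₀ Mi i o u w s Z) {v : Sp r R} : v ∈ h.l i ↔ ch r v ∈ Z := by
  have h1 := h.mem_l (n := 1) (v := v)
  rw [one_smul, inv_one, act_one] at h1
  exact h1

theorem mem_l_o (h : Hyp r φ N₀ Mi i o u w s Z) {v : Sp r R} :
    v ∈ h.l o ↔ act φ s⁻¹ (ch r v) ∈ Z := by
  have h1 := h.mem_l (n := s) (v := v)
  rw [h.s_i] at h1
  exact h1

theorem exists_gen (h : Hyp r φ N₀ Mi i o u w s Z) :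
    ∃ ξ ∈ Z, ξ ≠ 1 ∧ ξ ^ r = 1 := by
  obtain ⟨ζ, hZ, k, hk⟩ := h.Z_cyc
  rw [hZ]
  exact exists_elem_of_cyclic h.prime hk

theorem lines [Fact r.Prime] (h : Hyp r φ N₀ Mi i o u w s Z) : LinesMain.Lines (rho φ r) h.l N₀ where
  two := h.two
  map := by
    intro g z v hv
    have h1 := h.pick_smul z
    rw [← h1, ← mul_smul]
    rw [← h1] at hv
    rw [h.mem_l] at hv ⊢
    rw [ch_rho, mul_inv_rev, act_mul, act_inv_act]
    exact hv
  line := by
    intro z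
    obtain ⟨ξ, hξ, hξ1, hξr⟩ := h.exists_gen
    have h1 := h.pick_smul z
    have h2 : act φ (h.pick z) ξ ^ r = 1 := by rw [← act_pow_right, hξr, act_one_right]
    refine ⟨vec r (act φ (h.pick z) ξ) h2, ?_, ?_, ?_⟩
    · rw [h.mem_l_pick, ch_vec, act_inv_act]
      exact hξ
    · intro h3
      rw [← ch_eq_one, ch_vec] at h3
      exact hξ1 (act_eq_one φ h3)
    · intro v hv
      rw [h.mem_l_pick] at hv
      obtain ⟨k, hk⟩ := h.exists_pow hξ hξ1 hv (by rw [← act_pow_right, ch_pow, act_one_right])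
      refine ⟨(k : ZMod r), ?_⟩
      rw [Nat.cast_smul_eq_nsmul]
      apply ch_injective
      rw [ch_nsmul, ch_vec, ← act_pow_right, ← hk, act_act_inv]
  normal := h.normal
  triv := h.triv

theorem l_ne (h : Hyp r φ N₀ Mi i o u w s Z) : h.l o ≠ h.l i := by
  intro heq
  obtain ⟨ξ, hξ, hξ1, hξr⟩ := h.exists_gen
  have h1 : vec r ξ hξr ∈ h.l o := by
    rw [heq, h.mem_l_i, ch_vec]
    exact hξ
  rw [h.mem_l_o, ch_vec] at h1
  have h2 := h.Z_s _ h1 (by rw [act_act_inv]; exact hξ)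
  exact hξ1 (act_eq_one φ h2)

/-- The group generated by the elements of `Mi` inverted by `u`. -/
def Y (Mi : Subgroup N) (u : N) : Subgroup N :=
  Subgroup.closure {y | y ∈ Mi ∧ u * y * u⁻¹ = y⁻¹}

theorem Y_le (Mi : Subgroup N) (u : N) : Y Mi u ≤ Mi := by
  rw [Y, Subgroup.closure_le]
  exact fun y hy => hy.1

theorem Y_l (h : Hyp r φ N₀ Mi i o u w s Z) {y : N} (hy : y ∈ Y Mi u) {v : Sp r R}
    (hv : v ∈ h.l i) : rho φ r y v = v := by
  rw [h.mem_l_i] at hv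
  apply ch_injective
  rw [ch_rho]
  have h1 : Y Mi u ≤ stabC φ (ch r v) := by
    rw [Y, Subgroup.closure_le]
    rintro x ⟨hx, hx'⟩
    exact h.act_eq_of_inverted hx hx' hv (ch_pow r v)
  exact h1 hy

theorem Y_trans (h : Hyp r φ N₀ Mi i o u w s Z) (z : Ω) (hz : z ≠ i) : ∃ y ∈ Y Mi u, y • o = z := by
  obtain ⟨m, hm, hmz⟩ := h.trans z hz
  obtain ⟨k, hk, hkk⟩ := exists_sqrt (h.odd_of_mem hm)
  have hkM : k ∈ Mi := by
    have h1 : Subgroup.zpowers m ≤ Mi := by rw [Subgroup.zpowers_le]; exact hm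
    exact h1 hk
  refine ⟨k * u * k⁻¹ * u⁻¹, Subgroup.subset_closure ⟨h.u_cen k (h.Mi_fix k hkM),
    conj_comm_inv h.uu⟩, ?_⟩
  -- `[k, u] ≡ k² = m` modulo `N₀`
  have h1 : (k * u * k⁻¹ * u⁻¹) * (k * k)⁻¹ ∈ N₀ := by
    have h2 := h.normal.conj_mem _ (N₀.inv_mem (h.u_inv k hkM)) (k * k)
    have h3 := h.normal.conj_mem _ (h.u_inv k⁻¹ (Mi.inv_mem hkM)) k
    have h4 : k * (u * k⁻¹ * u⁻¹ * k⁻¹) * k⁻¹ = (k * u * k⁻¹ * u⁻¹) * (k * k)⁻¹ := by group
    rw [← h4]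
    exact h3
  have h2 : k * u * k⁻¹ * u⁻¹ = ((k * u * k⁻¹ * u⁻¹) * (k * k)⁻¹) * m := by
    rw [← hkk]; group
  rw [h2, mul_smul, hmz, h.triv _ h1]

/-- `C_N(u)` intersected with the stabilizer of the two points. -/
def Hs (i o : Ω) (u : N) : Subgroup N :=
  Subgroup.centralizer {u} ⊓ (MulAction.stabilizer N i ⊓ MulAction.stabilizer N o)

theorem mem_Hs {i o : Ω} {u g : N} : g ∈ Hs i o u ↔ g * u = u * g ∧ g • i = i ∧ g • o = o := by
  rw [Hs, Subgroup.mem_inf, Subgroup.mem_centralizer_singleton_iff, Subgroup.mem_inf,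
    MulAction.mem_stabilizer_iff, MulAction.mem_stabilizer_iff]

theorem Hs_Y (h : Hyp r φ N₀ Mi i o u w s Z) {g : N} (hg : g ∈ Hs i o u) {y : N}
    (hy : y ∈ Y Mi u) : g * y * g⁻¹ ∈ Y Mi u := by
  obtain ⟨hg1, hg2, -⟩ := mem_Hs.1 hg
  have h1 : Y Mi u ≤ (Y Mi u).comap (MulAut.conj g).toMonoidHom := by
    conv_lhs => rw [Y]
    rw [Subgroup.closure_le]
    rintro x ⟨hx, hx'⟩
    refine Subgroup.subset_closure ⟨h.Mi_conj g hg2 x hx, ?_⟩
    have h2 : g⁻¹ * u = u * g⁻¹ := by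
      rw [inv_mul_eq_iff_eq_mul, ← mul_assoc, hg1, mul_inv_cancel_right]
    change u * (g * x * g⁻¹) * u⁻¹ = (g * x * g⁻¹)⁻¹
    have h3 : u * g = g * u := hg1.symm
    calc u * (g * x * g⁻¹) * u⁻¹ = (u * g) * x * g⁻¹ * u⁻¹ := by group
      _ = g * (u * x * (g⁻¹ * u⁻¹)) := by rw [h3]; group
      _ = g * (u * x * (u * g)⁻¹) := by rw [mul_inv_rev u g]
      _ = g * (u * x * u⁻¹) * g⁻¹ := by rw [h3, mul_inv_rev]; group
      _ = (g * x * g⁻¹)⁻¹ := by rw [hx']; group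
  exact h1 hy

/-- A linear character invariant under the involution `u` and trivial on its fixed points is
trivial. -/
theorem eq_one_of_fix (huu : u * u = 1) (hodd : ∀ x : R, Odd (orderOf x)) {χ : R →* ℂˣ}
    (hu : act φ u χ = χ) (hfix : ∀ x : R, φ u x = x → χ x = 1) : χ = 1 := by
  ext x : 1
  have h2 : ∀ x, φ u (φ u x) = x := by
    intro x
    rw [← MulAut.mul_apply, ← map_mul, huu, map_one, MulAut.one_apply]
  have h3 : ∀ x, χ (φ u x) = χ x := by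
    intro x
    have h4 := DFunLike.congr_fun hu (φ u x)
    rw [act_apply, ← MulAut.mul_apply, ← map_mul, inv_mul_cancel, map_one, MulAut.one_apply] at h4
    exact h4.symm
  set y := x⁻¹ * φ u x with hy
  have hyu : φ u y = y⁻¹ := by
    rw [hy, map_mul, map_inv, h2, mul_inv_rev, inv_inv]
  obtain ⟨v, hv, hvv⟩ := exists_sqrt (hodd y)
  have hvu : φ u v = v⁻¹ := by
    obtain ⟨n, rfl⟩ := Subgroup.mem_zpowers_iff.1 hv
    rw [map_zpow, hyu, inv_zpow]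
  have h5 : χ (x * v) = 1 := by
    apply hfix
    rw [map_mul, hvu]
    have h6 : φ u x = x * y := by rw [hy, mul_inv_cancel_left]
    rw [h6, ← hvv]; group
  have h6 : χ v = 1 := by
    have h7 : χ v * χ v = 1 := by
      have h8 := h3 v
      rw [hvu, map_inv] at h8
      conv_lhs => rw [← h8]
      rw [h8]
      conv_lhs => arg 1; rw [← h8]
      rw [inv_mul_cancel]
    have h8 : orderOf (χ v) ∣ 2 := orderOf_dvd_of_pow_eq_one (by rw [sq]; exact h7)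
    have h9 : orderOf (χ v) ∣ orderOf v := orderOf_map_dvd χ v
    have h10 : Odd (orderOf v) := hodd v
    have h11 : orderOf (χ v) = 1 := by
      rcases (Nat.dvd_prime Nat.prime_two).1 h8 with h12 | h12
      · exact h12
      · rw [h12] at h9
        exact absurd h10 (Nat.not_odd_iff_even.2 (even_iff_two_dvd.2 h9))
    exact orderOf_eq_one_iff.1 h11
  rw [map_mul, h6, mul_one] at h5
  rw [h5]; rfl

/-- The relation satisfied by a character trivial on `P₁`. -/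
theorem rel_of_triv (huu : u * u = 1) (hwu : w * u = u * w) (hodd : ∀ x : R, Odd (orderOf x))
    {P₁ : Set R} (hP : ∀ x : R, φ u x = x →
      φ w⁻¹ (φ w⁻¹ x * x⁻¹) * (φ w⁻¹ x * x⁻¹)⁻¹ ∈ P₁) (hP' : ∀ x ∈ P₁, φ u x = x)
    {χ : R →* ℂˣ} (hχ : ∀ x ∈ P₁, χ x = 1) :
    (χ * act φ u χ) * (act φ w (χ * act φ u χ) * act φ w (χ * act φ u χ))⁻¹ *
      act φ w (act φ w (χ * act φ u χ)) = 1 := by
  have hψ : act φ u (χ * act φ u χ) = χ * act φ u χ := by
    rw [act_mul_right, ← act_mul, huu, act_one]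
    exact mul_comm (act φ u χ) χ
  have hcomm : ∀ ψ : R →* ℂˣ, act φ u (act φ w ψ) = act φ w (act φ u ψ) := by
    intro ψ
    rw [← act_mul, ← hwu, act_mul]
  refine eq_one_of_fix (φ := φ) huu hodd ?_ ?_
  · have key : ∀ ψ : R →* ℂˣ, act φ u ψ = ψ →
        act φ u (ψ * (act φ w ψ * act φ w ψ)⁻¹ * act φ w (act φ w ψ)) =
          ψ * (act φ w ψ * act φ w ψ)⁻¹ * act φ w (act φ w ψ) := by
      intro ψ h1
      rw [act_mul_right, act_mul_right, act_inv_right, act_mul_right, hcomm, hcomm, hcomm, h1]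
    exact key _ hψ
  · intro x hx
    have h1 := hP x hx
    have h2 := hP' _ h1
    have h3 : φ u⁻¹ (φ w⁻¹ (φ w⁻¹ x * x⁻¹) * (φ w⁻¹ x * x⁻¹)⁻¹) =
        φ w⁻¹ (φ w⁻¹ x * x⁻¹) * (φ w⁻¹ x * x⁻¹)⁻¹ := by
      conv_lhs => rw [← h2]
      rw [← MulAut.mul_apply, ← map_mul, inv_mul_cancel, map_one, MulAut.one_apply]
    have h4 : (χ * act φ u χ) (φ w⁻¹ (φ w⁻¹ x * x⁻¹) * (φ w⁻¹ x * x⁻¹)⁻¹) = 1 := by
      rw [MonoidHom.mul_apply, act_apply, h3, hχ _ h1, mul_one]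
    rw [← h4]
    simp only [MonoidHom.mul_apply, MonoidHom.inv_apply, act_apply, map_mul, map_inv, mul_inv_rev,
      inv_inv]
    generalize χ x = a1
    generalize χ (φ u⁻¹ x) = a2
    generalize χ (φ w⁻¹ x) = a3
    generalize χ (φ u⁻¹ (φ w⁻¹ x)) = a4
    generalize χ (φ w⁻¹ (φ w⁻¹ x)) = a5
    generalize χ (φ u⁻¹ (φ w⁻¹ (φ w⁻¹ x))) = a6
    ac_rfl

/-- **The conjugates of the nontrivial elements of `Z` at the points `≠ i, o` are nontrivial on
`P₁`.** -/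
theorem exists_ne [Finite N] (h : Hyp r φ N₀ Mi i o u w s Z) (hodd : ∀ x : R, Odd (orderOf x))
    {P₁ : Set R} (hP : ∀ x : R, φ u x = x →
      φ w⁻¹ (φ w⁻¹ x * x⁻¹) * (φ w⁻¹ x * x⁻¹)⁻¹ ∈ P₁) (hP' : ∀ x ∈ P₁, φ u x = x)
    {n : N} (hi : n • i ≠ i) (ho : n • i ≠ o) {ξ : R →* ℂˣ} (hξ : ξ ∈ Z) (hξ1 : ξ ≠ 1) :
    ∃ x ∈ P₁, act φ n ξ x ≠ 1 := by
  classical
  have : Fact r.Prime := ⟨h.prime⟩
  by_contra hcon
  push Not at hcon
  obtain ⟨η, hη, hη1, hηr⟩ := h.exists_gen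
  obtain ⟨k, hk⟩ := h.exists_pow hξ hξ1 hη hηr
  have hηt : ∀ x ∈ P₁, act φ n η x = 1 := by
    intro x hx
    rw [hk, act_pow_right, MonoidHom.pow_apply, hcon x hx, one_pow]
  have h2 : act φ n η ^ r = 1 := by rw [← act_pow_right, hηr, act_one_right]
  have hrel := rel_of_triv h.uu h.wu hodd hP hP' hηt
  have hν0 : vec r (act φ n η) h2 ≠ 0 := by
    intro h3
    rw [← ch_eq_one, ch_vec] at h3
    exact hη1 (act_eq_one φ h3)
  have hν : vec r (act φ n η) h2 ∈ h.l (n • i) := by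
    rw [h.mem_l, ch_vec, act_inv_act]
    exact hη
  have hr3 : (3 : ZMod r) ≠ 0 := by
    have h3 : ((3 : ℕ) : ZMod r) ≠ 0 := by
      rw [Ne, ZMod.natCast_eq_zero_iff]
      intro h4
      have := Nat.le_of_dvd (by norm_num) h4
      have := h.r5
      omega
    exact_mod_cast h3
  refine h.lines.ne_zero h.oi h.l_ne hr3 (Y Mi u) (fun y hy => h.Mi_fix y (Y_le Mi u hy))
    (fun y hy v hv => h.Y_l hy hv) h.Y_trans
    (fun x hx y hy => h.Mi_comm x (Y_le Mi u hx) y (Y_le Mi u hy)) ?_ (Hs i o u)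
    (fun g hg y hy => h.Hs_Y hg hy) (fun g hg => (mem_Hs.1 hg).2.2)
    (fun g hg => (mem_Hs.1 hg).2.1) ?_ (mem_Hs.2 ⟨rfl, h.u_i, h.u_o⟩)
    (mem_Hs.2 ⟨h.wu, h.w_i, h.w_o⟩) ?_ ?_ hi ho (h.dist _ hi ho) hν hν0 ?_
  · rw [Ne, ZMod.natCast_eq_zero_iff]
    intro h3
    apply h.Mi_cop
    rw [Subgroup.inf_relIndex_right] at h3
    have h4 : N₀.relIndex (Y Mi u) ∣ N₀.relIndex Mi := by
      have := h.normal
      rw [← Subgroup.relIndex_sup_right (H := Y Mi u) (K := N₀)]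
      exact Dvd.intro _ (Subgroup.relIndex_mul_relIndex N₀ (Y Mi u ⊔ N₀) Mi le_sup_right
        (sup_le (Y_le Mi u) h.N₀_le))
    exact h3.trans h4
  · intro x hx hx' y hy hy'
    obtain ⟨g, hg, hgo, hgi, h3⟩ := h.tor x (Y_le Mi u hx) hx' y (Y_le Mi u hy) hy'
    exact ⟨g, mem_Hs.2 ⟨hg, hgi, hgo⟩, h3⟩
  · intro v hv
    apply ch_injective
    rw [ch_rho]
    rw [h.mem_l_o] at hv
    have h3 := h.Z_su _ hv
    rw [act_act_inv] at h3
    exact h3
  · intro v hv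
    apply ch_injective
    rw [ch_rho]
    rw [h.mem_l_o] at hv
    have h3 := h.Z_sw _ hv
    rw [act_act_inv] at h3
    exact h3
  · rw [← ch_eq_one, ch_add, ch_sub, two_smul, ch_add, ch_rho, ch_rho, ch_add, ch_rho, ch_vec]
    exact hrel

/-- The conjugates of nontrivial elements of `Z` at different points are different. -/
theorem point_unique (h : Hyp r φ N₀ Mi i o u w s Z) {m n : N} {ξ ξ' : R →* ℂˣ} (hξ : ξ ∈ Z)
    (hξ1 : ξ ≠ 1) (hξ' : ξ' ∈ Z) (heq : act φ m ξ = act φ n ξ') : m • i = n • i := by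
  by_contra hne
  obtain ⟨η, hη, hη1, hηr⟩ := h.exists_gen
  obtain ⟨k, hk⟩ := h.exists_pow hξ hξ1 hη hηr
  have h2 : act φ m η ^ r = 1 := by rw [← act_pow_right, hηr, act_one_right]
  have h3 : vec r (act φ m η) h2 ∈ h.l (m • i) := by
    rw [h.mem_l, ch_vec, act_inv_act]
    exact hη
  have h4 : vec r (act φ m η) h2 ∈ h.l (n • i) := by
    rw [h.mem_l, ch_vec, hk, act_pow_right, heq, ← act_pow_right, act_inv_act]
    exact Z.pow_mem hξ' k
  obtain ⟨g, hg1, hg2⟩ := h.two _ _ o i hne h.oi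
  have : Fact r.Prime := ⟨h.prime⟩
  have h5 := h.lines.map g _ _ h3
  have h6 := h.lines.map g _ _ h4
  rw [hg1, h.mem_l_o] at h5
  rw [hg2, h.mem_l_i] at h6
  have h7 := h.Z_s _ h5 (by rw [act_act_inv]; exact h6)
  exact hη1 (act_eq_one φ (act_eq_one φ (act_eq_one φ h7)))

/-- The conjugates of the nontrivial elements of `Z` at the points `≠ i, o`. -/
theorem exists_finset [Finite Ω] (h : Hyp r φ N₀ Mi i o u w s Z) :
    ∃ S : Finset (R →* ℂˣ), S.card = (Nat.card Ω - 2) * (Nat.card Z - 1) ∧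
      ∀ ν ∈ S, ∃ n : N, n • i ≠ i ∧ n • i ≠ o ∧ ∃ ξ ∈ Z, ξ ≠ 1 ∧ ν = act φ n ξ := by
  classical
  have := h.finite_Z
  let A : Finset (R →* ℂˣ) := (Set.toFinite ((Z : Set (R →* ℂˣ)) \ {1})).toFinset
  have hmemA : ∀ ξ, ξ ∈ A ↔ ξ ∈ Z ∧ ξ ≠ 1 := by
    intro ξ
    simp only [A, Set.Finite.mem_toFinset, Set.mem_sdiff, SetLike.mem_coe, Set.mem_singleton_iff]
  have hcA : A.card = Nat.card Z - 1 := by
    have h1 : A.card = ((Z : Set (R →* ℂˣ)) \ {1}).ncard :=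
      (Set.ncard_eq_toFinset_card _ (Set.toFinite _)).symm
    rw [h1, Set.ncard_sdiff_singleton_of_mem Z.one_mem, ← Nat.card_coe_set_eq]
    rfl
  let B : Finset Ω := (Set.toFinite ({i, o}ᶜ : Set Ω)).toFinset
  have hmemB : ∀ z, z ∈ B ↔ z ≠ i ∧ z ≠ o := by
    intro z
    simp only [B, Set.Finite.mem_toFinset, Set.mem_compl_iff, Set.mem_insert_iff,
      Set.mem_singleton_iff, not_or]
  have hcB : B.card = Nat.card Ω - 2 := by
    have h1 : B.card = ({i, o}ᶜ : Set Ω).ncard :=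
      (Set.ncard_eq_toFinset_card _ (Set.toFinite _)).symm
    have h2 := Set.ncard_add_ncard_compl ({i, o} : Set Ω)
    rw [Set.ncard_pair h.oi.symm] at h2
    omega
  have hinj : Set.InjOn (fun p : Ω × (R →* ℂˣ) => act φ (h.pick p.1) p.2) (B ×ˢ A : Finset _) := by
    rintro ⟨z, ξ⟩ h1 ⟨z', ξ'⟩ h2 h3
    rw [Finset.mem_coe, Finset.mem_product] at h1 h2
    have h4 := (hmemA ξ).1 h1.2
    have h5 := (hmemA ξ').1 h2.2
    have h6 := h.point_unique h4.1 h4.2 h5.1 h3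
    rw [h.pick_smul, h.pick_smul] at h6
    subst h6
    have h7 : ξ = ξ' := act_injective φ _ h3
    rw [h7]
  refine ⟨(B ×ˢ A).image (fun p => act φ (h.pick p.1) p.2), ?_, ?_⟩
  · rw [Finset.card_image_of_injOn hinj, Finset.card_product, hcB, hcA]
  · intro ν hν
    obtain ⟨⟨z, ξ⟩, h1, rfl⟩ := Finset.mem_image.1 hν
    rw [Finset.mem_product] at h1
    have h4 := (hmemA ξ).1 h1.2
    have h5 := (hmemB z).1 h1.1
    exact ⟨h.pick z, by rw [h.pick_smul]; exact h5.1, by rw [h.pick_smul]; exact h5.2, ξ, h4.1,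
      h4.2, rfl⟩

end Hyp

end Cfsg.Agent.Classification.QDW.FuLines
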