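import Mathlib
import Cfsg.Agent.Classification.QDW.FuDefs
import Cfsg.Agent.Classification.QDW.FuLines
import Cfsg.Agent.Classification.QDW.FuTheta

/-!
# The projective line of `N_{C₁}(R)` in case U

The geometric fields of `FuLines.Hyp`: `N` acts through `π : N → H` on the projective line
`H / N_H(V)`, `V = U` or `V` the conjugate of `U` by `s₀`.
-/

set_option autoImplicit false
set_option linter.unusedSectionVars false
set_option linter.unusedVariables false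

namespace Cfsg.Agent.Classification.QDW.FuGeo

open Cfsg.Agent.Classification.InvCent Cfsg.Agent.Classification.QDW.LineC
  Cfsg.Agent.Classification.QDW.CaseU Cfsg.Agent.Classification.QDW.FuLines MulAction

variable {N : Type*} [Group N] {H : Type*} [Group H]

/-! ### Transport -/

theorem card_cj {G : Type*} [Group G] (g : G) (S : Subgroup G) : Nat.card (cj g S) = Nat.card S :=
  Nat.card_congr (S.equivMapOfInjective (MulAut.conj g).toMonoidHom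
    (MulAut.conj g).injective).symm.toEquiv

theorem Base.cj {q : ℕ} {Z U : Subgroup H} (hb : Base q Z U) (g : H) : Base q Z (cj g U) where
  odd_q := hb.odd_q
  one_lt_q := hb.one_lt_q
  coprime := hb.coprime
  card_U := by rw [card_cj, hb.card_U]
  card_C := hb.card_C
  Z_central := hb.Z_central
  U_comm := by
    intro x hx y hy
    rw [mem_cj] at hx hy
    have h1 := hb.U_comm _ hx _ hy
    have h2 : g * (g⁻¹ * x * g * (g⁻¹ * y * g)) * g⁻¹ = x * y := by group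
    have h3 : g * (g⁻¹ * y * g * (g⁻¹ * x * g)) * g⁻¹ = y * x := by group
    rw [← h2, h1, h3]
  cent_U := by
    intro x hx hx1 c hc
    rw [mem_cj] at hx
    obtain ⟨z, hz, v, hv, he⟩ := hb.cent_U _ hx
      (by
        intro h1
        apply hx1
        have h2 : x = g * (g⁻¹ * x * g) * g⁻¹ := by group
        rw [h2, h1]; group) (g⁻¹ * c * g) (by
          have h2 : g⁻¹ * c * g * (g⁻¹ * x * g) = g⁻¹ * (c * x) * g := by group
          rw [h2, hc]; group)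
    refine ⟨z, hz, g * v * g⁻¹, ?_, ?_⟩
    · rw [mem_cj]
      have h2 : g⁻¹ * (g * v * g⁻¹) * g = v := by group
      rw [h2]
      exact hv
    · have h2 : c = g * (g⁻¹ * c * g) * g⁻¹ := by group
      rw [h2, he]
      have h3 : g * (z * v) * g⁻¹ = (g * z) * v * g⁻¹ := by group
      rw [h3, hb.Z_central z hz g]; group
  fus_U := by
    intro x hx y hy hx1 hy1
    rw [mem_cj] at hx hy
    have key : ∀ x : H, x ≠ 1 → g⁻¹ * x * g ≠ 1 := by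
      intro x hx1 h1
      apply hx1
      have h2 : x = g * (g⁻¹ * x * g) * g⁻¹ := by group
      rw [h2, h1]; group
    obtain ⟨c, hc⟩ := hb.fus_U _ hx _ hy (key x hx1) (key y hy1)
    refine ⟨g * c * g⁻¹, ?_⟩
    have h2 : g * c * g⁻¹ * x * (g * c * g⁻¹)⁻¹ = g * (c * (g⁻¹ * x * g) * c⁻¹) * g⁻¹ := by group
    rw [h2, hc]; group

theorem norm_cj {q : ℕ} {Z T U : Subgroup H} {s₀ : H} (h₁ : Torus q 1 Z T s₀)
    (hn : ∀ τ ∈ T, ∀ v ∈ U, τ * v * τ⁻¹ ∈ U) : ∀ τ ∈ T, ∀ v ∈ cj s₀ U, τ * v * τ⁻¹ ∈ cj s₀ U := by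
  intro τ hτ v hv
  rw [mem_cj] at hv ⊢
  have hi : s₀⁻¹ = s₀ := inv_eq_of_mul_eq_one_left h₁.s_sq
  have h1 : s₀⁻¹ * τ * s₀ ∈ T := by
    have h2 := h₁.s_conj τ hτ
    rwa [hi] at h2 ⊢
  have h2 := hn _ h1 _ hv
  have h3 : s₀⁻¹ * τ * s₀ * (s₀⁻¹ * v * s₀) * (s₀⁻¹ * τ * s₀)⁻¹ = s₀⁻¹ * (τ * v * τ⁻¹) * s₀ := by
    group
  rwa [h3] at h2

/-! ### The action of `N` -/

/-- The projective line. -/
def Pt (_ : N →* H) (V : Subgroup H) : Type _ := H ⧸ LineC.N V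

instance (π : N →* H) (V : Subgroup H) : MulAction N (Pt π V) :=
  MulAction.compHom (H ⧸ LineC.N V) π

variable {π : N →* H} {V : Subgroup H}

/-- The point infinity. -/
def ptI (π : N →* H) (V : Subgroup H) : Pt π V := inf V

/-- The point zero. -/
def ptO (π : N →* H) (V : Subgroup H) (s₀ : H) : Pt π V := zer V s₀

section Geom

variable [Finite N] [Finite H] {q : ℕ} {Z T : Subgroup H} {s₀ : H}

/-- The involution `u₀` inverts `V`. -/
theorem inverts (hb : Base q Z V) (h₁ : Torus q 1 Z T s₀)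
    (hn : ∀ τ ∈ T, ∀ v ∈ V, τ * v * τ⁻¹ ∈ V) {u₀ : H} (hu : u₀ ∈ T) (huZ : u₀ ∉ Z)
    (huu : u₀ * u₀ = 1) {v : H} (hv : v ∈ V) : u₀ * v * u₀⁻¹ = v⁻¹ := by
  have hi : u₀⁻¹ = u₀ := inv_eq_of_mul_eq_one_left huu
  have h1 := hn u₀ hu v hv
  have h2 : u₀ * v * u₀⁻¹ * v ∈ V := V.mul_mem h1 hv
  have h3 : u₀ * (u₀ * v * u₀⁻¹ * v) = (u₀ * v * u₀⁻¹ * v) * u₀ := by
    have h4 : u₀ * (u₀ * v * u₀⁻¹ * v) = (u₀ * u₀) * v * u₀⁻¹ * v := by group
    rw [h4, huu, one_mul, hi]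
    have h5 := hb.U_comm _ h1 v hv
    rw [hi] at h5
    calc v * u₀ * v = v * (u₀ * v * u₀) * (u₀ * 1)⁻¹ := by group
      _ = (u₀ * v * u₀ * v) * (u₀ * 1)⁻¹ := by rw [← h5]
      _ = u₀ * v * u₀ * v * u₀ := by rw [mul_one, hi]
  have h4 : u₀ * v * u₀⁻¹ * v = 1 := by
    by_contra hne
    obtain ⟨z, hz, w, hw, he⟩ := hb.cent_U _ h2 hne u₀ h3
    exact huZ (mem_Z_of_T₁_ZU hb h₁ hn hu (hb.mem_ZU.2 ⟨z, hz, w, hw, he⟩))
  exact eq_inv_of_mul_eq_one_left h4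

theorem card_comap (hπ : Function.Surjective π) :
    π.ker.relIndex (V.comap π) = Nat.card V ∧
      Nat.card (V.comap π) = Nat.card V * Nat.card π.ker := by
  have h1 : π.ker.relIndex (V.comap π) = Nat.card V := by
    rw [Subgroup.relIndex_ker, Subgroup.map_comap_eq_self_of_surjective hπ]
  refine ⟨h1, ?_⟩
  have h2 := Subgroup.relIndex_mul_relIndex ⊥ π.ker (V.comap π) bot_le (Subgroup.ker_le_comap π V)
  rw [Subgroup.relIndex_bot_left, Subgroup.relIndex_bot_left, h1, mul_comm] at h2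
  exact h2.symm

theorem odd_of_mem_ker (hK : Odd (Nat.card π.ker)) {y : N} (hy : π y = 1) : Odd (orderOf y) := by
  have h1 : y ∈ π.ker := hy
  rw [← Subgroup.orderOf_mk y h1]
  exact hK.of_dvd_nat (orderOf_dvd_natCard _)

/-- Elements of the torus lift into the centralizer of `u`. -/
theorem exists_lift (hπ : Function.Surjective π) (hK : Odd (Nat.card π.ker))
    (h₁ : Torus q 1 Z T s₀) {u : N} (huu : u * u = 1) (hu : π u ∈ T) {τ : H} (hτ : τ ∈ T) :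
    ∃ g : N, π g = τ ∧ g * u = u * g := by
  obtain ⟨n, rfl⟩ := hπ τ
  have h1 : π (n * u * n⁻¹ * u⁻¹) = 1 := by
    rw [map_mul, map_mul, map_mul, map_inv, map_inv, h₁.comm _ hτ _ hu]
    group
  obtain ⟨k, hk, -, hk2⟩ := exists_split huu (odd_of_mem_ker hK h1)
  refine ⟨k⁻¹ * n, ?_, hk2⟩
  have h2 : k ∈ π.ker := by
    have h3 : Subgroup.zpowers (n * u * n⁻¹ * u⁻¹) ≤ π.ker := by
      rw [Subgroup.zpowers_le]; exact h1
    exact h3 hk
  rw [map_mul, map_inv, (h2 : π k = 1), inv_one, one_mul]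

/-- The six points. -/
theorem dist_pt (hb : Base q Z V) (h₁ : Torus q 1 Z T s₀)
    (hn : ∀ τ ∈ T, ∀ v ∈ V, τ * v * τ⁻¹ ∈ V) (hq : 3 ≤ q) {v c : H}
    (hvv : v * v = 1) (hu : v ∈ T) (hw : c ∈ T) (huZ : v ∉ Z)
    (hwZ : ∀ k : ℕ, 0 < k → k ≤ 4 → c ^ k ∉ Z) {y : H ⧸ LineC.N V} (hi : y ≠ inf V)
    (ho : y ≠ zer V s₀) (a b : Fin 3 × Fin 2)
    (h : (c ^ (a.1 : ℕ) * v ^ (a.2 : ℕ)) • y = (c ^ (b.1 : ℕ) * v ^ (b.2 : ℕ)) • y) : a = b := by
  obtain ⟨a1, a2⟩ := a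
  obtain ⟨b1, b2⟩ := b
  have hcv : c * v = v * c := h₁.comm _ hw _ hu
  have hcvp : ∀ m n : ℕ, c ^ m * v ^ n = v ^ n * c ^ m := fun m n =>
    h₁.comm _ (T.pow_mem hw m) _ (T.pow_mem hu n)
  have hvn : ∀ n : ℕ, v ^ n * v ^ n = 1 := by
    intro n
    rw [← (Commute.refl v).mul_pow, hvv, one_pow]
  -- the difference is in `Z`
  have h2 : (c ^ (b1 : ℕ) * v ^ (b2 : ℕ))⁻¹ * (c ^ (a1 : ℕ) * v ^ (a2 : ℕ)) ∈ Z := by
    refine mem_Z_of_fix hb h₁ hn (T.mul_mem (T.inv_mem (T.mul_mem (T.pow_mem hw _)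
      (T.pow_mem hu _))) (T.mul_mem (T.pow_mem hw _) (T.pow_mem hu _))) (x := y) hq hi ho ?_
    rw [mul_smul, h, inv_smul_smul]
  -- squares
  have h3 : (c ^ (2 * (b1 : ℕ)))⁻¹ * c ^ (2 * (a1 : ℕ)) ∈ Z := by
    have h4 := Z.mul_mem h2 h2
    have h5 : ∀ m n : ℕ, (c ^ m * v ^ n) * (c ^ m * v ^ n) = c ^ (2 * m) := by
      intro m n
      calc (c ^ m * v ^ n) * (c ^ m * v ^ n) = c ^ m * (v ^ n * c ^ m) * v ^ n := by group
        _ = c ^ m * c ^ m * (v ^ n * v ^ n) := by rw [← hcvp]; group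
        _ = c ^ (2 * m) := by rw [hvn, mul_one, ← pow_add, two_mul]
    have h6 : (c ^ (b1 : ℕ) * v ^ (b2 : ℕ))⁻¹ * (c ^ (a1 : ℕ) * v ^ (a2 : ℕ)) *
        ((c ^ (b1 : ℕ) * v ^ (b2 : ℕ))⁻¹ * (c ^ (a1 : ℕ) * v ^ (a2 : ℕ))) =
        (c ^ (2 * (b1 : ℕ)))⁻¹ * c ^ (2 * (a1 : ℕ)) := by
      rw [← h5 b1 b2, ← h5 a1 a2]
      have h7 : (c ^ (b1 : ℕ) * v ^ (b2 : ℕ))⁻¹ * (c ^ (a1 : ℕ) * v ^ (a2 : ℕ)) =
          (c ^ (a1 : ℕ) * v ^ (a2 : ℕ)) * (c ^ (b1 : ℕ) * v ^ (b2 : ℕ))⁻¹ :=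
        h₁.comm _ (T.inv_mem (T.mul_mem (T.pow_mem hw _) (T.pow_mem hu _))) _
          (T.mul_mem (T.pow_mem hw _) (T.pow_mem hu _))
      calc _ = (c ^ (b1 : ℕ) * v ^ (b2 : ℕ))⁻¹ * ((c ^ (a1 : ℕ) * v ^ (a2 : ℕ)) *
          (c ^ (b1 : ℕ) * v ^ (b2 : ℕ))⁻¹) * (c ^ (a1 : ℕ) * v ^ (a2 : ℕ)) := by group
        _ = _ := by rw [← h7]; group
    rwa [h6] at h4
  have h4 : (a1 : ℕ) = b1 := by
    have ha := a1.2
    have hb' := b1.2
    rcases lt_trichotomy (a1 : ℕ) (b1 : ℕ) with h5 | h5 | h5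
    · exfalso
      refine hwZ (2 * b1 - 2 * a1) (by omega) (by omega) ?_
      have h6 : c ^ (2 * (b1 : ℕ) - 2 * (a1 : ℕ)) = ((c ^ (2 * (b1 : ℕ)))⁻¹ * c ^ (2 * (a1 : ℕ)))⁻¹ := by
        rw [mul_inv_rev, inv_inv, eq_inv_mul_iff_mul_eq, ← pow_add]
        congr 1
        omega
      rw [h6]
      exact Z.inv_mem h3
    · exact h5
    · exfalso
      refine hwZ (2 * a1 - 2 * b1) (by omega) (by omega) ?_
      have h6 : c ^ (2 * (a1 : ℕ) - 2 * (b1 : ℕ)) = (c ^ (2 * (b1 : ℕ)))⁻¹ * c ^ (2 * (a1 : ℕ)) := by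
        rw [eq_inv_mul_iff_mul_eq, ← pow_add]
        congr 1
        omega
      rw [h6]
      exact h3
  have h5 : (a2 : ℕ) = b2 := by
    have ha := a2.2
    have hb' := b2.2
    rw [h4] at h2
    have h6 : (c ^ (b1 : ℕ) * v ^ (b2 : ℕ))⁻¹ * (c ^ (b1 : ℕ) * v ^ (a2 : ℕ)) =
        (v ^ (b2 : ℕ))⁻¹ * v ^ (a2 : ℕ) := by group
    rw [h6] at h2
    have h7 : ((b2 : ℕ) = 0 ∨ (b2 : ℕ) = 1) ∧ ((a2 : ℕ) = 0 ∨ (a2 : ℕ) = 1) := by omega
    rcases h7 with ⟨h7 | h7, h8 | h8⟩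
    · omega
    · rw [h7, h8, pow_zero, pow_one, inv_one, one_mul] at h2
      exact absurd h2 huZ
    · rw [h7, h8, pow_zero, pow_one, mul_one] at h2
      exact absurd ((Subgroup.inv_mem_iff Z).1 h2) huZ
    · omega
  rw [Prod.mk.injEq]
  exact ⟨Fin.ext h4, Fin.ext h5⟩

/-- Powers of an `r`-element of the torus. -/
theorem pow_notMem {r : ℕ} (hr : r.Prime) (r5 : 5 ≤ r) (hZ : ∃ k, Nat.card Z = 2 ^ k) {c : H}
    (hc : ∃ j, orderOf c = r ^ j) (hc1 : c ≠ 1) (k : ℕ) (hk : 0 < k) (hk4 : k ≤ 4) :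
    c ^ k ∉ Z := by
  intro hmem
  obtain ⟨j, hj⟩ := hc
  obtain ⟨m, hm⟩ := hZ
  have h1 : orderOf (c ^ k) ∣ 2 ^ m := by
    rw [← hm, ← Subgroup.orderOf_mk (c ^ k) hmem]
    exact orderOf_dvd_natCard _
  have h2 : orderOf (c ^ k) ∣ r ^ j := by
    rw [← hj]
    exact orderOf_pow_dvd k
  have h3 : Nat.Coprime (2 ^ m) (r ^ j) := by
    apply Nat.Coprime.pow
    rw [Nat.coprime_primes Nat.prime_two hr]
    omega
  have h4 := orderOf_eq_one_iff.1 (Nat.eq_one_of_dvd_coprimes h3 h1 h2)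
  have h5 := orderOf_dvd_iff_pow_eq_one.2 h4
  rw [hj] at h5
  have h6 : Nat.Coprime (r ^ j) k := by
    apply Nat.Coprime.pow_left
    rw [Nat.Prime.coprime_iff_not_dvd hr]
    intro h7
    have := Nat.le_of_dvd hk h7
    omega
  have h7 : r ^ j = 1 := by
    have h8 := Nat.dvd_gcd (dvd_refl (r ^ j)) h5
    rw [h6] at h8
    exact Nat.dvd_one.1 h8
  rw [h7] at hj
  exact hc1 (orderOf_eq_one_iff.1 hj)

end Geom

section Inst

variable [Finite N] [Finite H] {q : ℕ} {Z T : Subgroup H} {z u₀ s₀ : H}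
  {Tr E : Subgroup H} {t u s w : N} {Au Atu P R D : Subgroup N} {r mr : ℕ}

/-- The element `w`. -/
theorem exists_w (fu : Fu π z u₀ s₀ Tr E t u s Au Atu P R D r mr) :
    ∃ w ∈ P, w ∈ Au ∧ w ∈ Atu ∧ π w ≠ 1 := by
  by_contra hcon
  push Not at hcon
  have h1 : P ⊓ Au ⊓ Atu ≤ P ⊓ Au ⊓ Atu ⊓ R := fun y hy =>
    ⟨hy, fu.P_ker y hy.1.1 (hcon y hy.1.1 hy.1.2 hy.2)⟩
  have h2 := (relIndex_aux (n := mr) (by have := fu.seven_le_mr; omega) fu.relIndex_Au.le fu.relIndex_Atu.le fu.relIndex_R.le (by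
    rw [← fu.idx_0]
    congr 1
    ext x
    simp only [Subgroup.mem_inf]
    tauto)).2.2
  rw [Subgroup.relIndex_eq_one.2 h1] at h2
  have := fu.seven_le_mr
  omega

theorem map_mem_Tr (fu : Fu π z u₀ s₀ Tr E t u s Au Atu P R D r mr) {w : N} (hw : w ∈ P) :
    π w ∈ Tr := by
  rw [← fu.map_P]
  exact Subgroup.mem_map_of_mem π hw

theorem exists_orderOf_map (fu : Fu π z u₀ s₀ Tr E t u s Au Atu P R D r mr) {w : N} (hw : w ∈ P) :
    ∃ j, orderOf (π w) = r ^ j := by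
  have := Fact.mk fu.prime
  obtain ⟨k, hk⟩ := fu.P_pg ⟨w, hw⟩
  have h1 : w ^ r ^ k = 1 := congrArg Subtype.val hk
  have h2 : π w ^ r ^ k = 1 := by rw [← map_pow, h1, map_one]
  obtain ⟨j, -, hj⟩ := (Nat.dvd_prime_pow fu.prime).1 (orderOf_dvd_of_pow_eq_one h2)
  exact ⟨j, hj⟩

/-- `r` divides `q - 1`. -/
theorem r_dvd (fu : Fu π z u₀ s₀ Tr E t u s Au Atu P R D r mr) (hb : Base q Z V)
    (h₁ : Torus q 1 Z T s₀) (hn : ∀ τ ∈ T, ∀ v ∈ V, τ * v * τ⁻¹ ∈ V)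
    (hZ : ∃ k, Nat.card Z = 2 ^ k) (hTr : Tr ≤ T) : r ∣ q - 1 := by
  obtain ⟨w, hw, -, -, hw1⟩ := exists_w fu
  obtain ⟨j, hj⟩ := exists_orderOf_map fu hw
  have hj0 : j ≠ 0 := by
    rintro rfl
    rw [pow_zero] at hj
    exact hw1 (orderOf_eq_one_iff.1 hj)
  have h1 : r ∣ Nat.card T := by
    have h2 : orderOf (π w) ∣ Nat.card T := by
      rw [← Subgroup.orderOf_mk (π w) (hTr (map_mem_Tr fu hw))]
      exact orderOf_dvd_natCard _
    rw [hj] at h2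
    exact (dvd_pow_self r hj0).trans h2
  rw [card_T₁ hb h₁ hn] at h1
  obtain ⟨k, hk⟩ := hZ
  rw [hk] at h1
  rcases (Nat.Prime.dvd_mul fu.prime).1 h1 with h2 | h2
  · exfalso
    have h3 := (Nat.prime_dvd_prime_iff_eq fu.prime Nat.prime_two).1
      (fu.prime.dvd_of_dvd_pow h2)
    have := fu.r7
    omega
  · exact h2

/-- **The hypotheses of the lines lemma.** -/
theorem hyp_of [R.Normal] (fu : Fu π z u₀ s₀ Tr E t u s Au Atu P R D r mr) (hb : Base q Z V)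
    (h₁ : Torus q 1 Z T s₀) (hn : ∀ τ ∈ T, ∀ v ∈ V, τ * v * τ⁻¹ ∈ V) (hq : 3 ≤ q)
    (hZ : ∃ k, Nat.card Z = 2 ^ k) (hTr : Tr ≤ T) (hu : u₀ ∈ T) (huZ : u₀ ∉ Z)
    (hw : w ∈ P) (hw1 : π w ≠ 1) {Zc : Subgroup (R →* ℂˣ)}
    (hcyc : ∃ ζ : R →* ℂˣ, Zc = Subgroup.zpowers ζ ∧ orderOf ζ = mr)
    (hnorm : ∀ g : N, g * u = u * g → ∀ χ ∈ Zc, act (MulAut.conjNormal (H := R)) g χ ∈ Zc)
    (hZu : ∀ χ ∈ Zc, act (MulAut.conjNormal (H := R)) u χ = χ)
    (hZP : ∀ g ∈ P, ∀ χ ∈ Zc, act (MulAut.conjNormal (H := R)) g χ = χ)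
    (hZs : ∀ χ ∈ Zc, act (MulAut.conjNormal (H := R)) s χ ∈ Zc → χ = 1)
    (hfib : ∀ S : Finset (R →* ℂˣ), (∀ χ ∈ S, ∃ g : N, π g ∈ LineC.N V ∧ ∃ ζ ∈ Zc, ζ ≠ 1 ∧
      χ = act (MulAut.conjNormal (H := R)) g ζ) → S.card ≤ 2 * mr) :
    Hyp r (MulAut.conjNormal (H := R)) π.ker (V.comap π) (ptI π V) (ptO π V s₀) u w s Zc := by
  have hsh := sharp hb h₁ hn hq
  have huu : u₀ * u₀ = 1 := by rw [← fu.map_u, ← map_mul, fu.uu, map_one]
  have hfix : ∀ n : N, n • ptI π V = ptI π V ↔ π n ∈ LineC.N V := fun n => smul_inf hb h₁ hn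
  have hTi : ∀ n : N, π n ∈ T → n • ptI π V = ptI π V := fun n hn' =>
    (hfix n).2 (T₁_le_N hb h₁ hn hn')
  have hTo : ∀ n : N, π n ∈ T → n • ptO π V s₀ = ptO π V s₀ := fun n hn' =>
    T₁_zer hb h₁ hn hn'
  have hwT : π w ∈ T := hTr (map_mem_Tr fu hw)
  have huT : π u ∈ T := by rw [fu.map_u]; exact hu
  have hcomm_w : w * u = u * w := (fu.P_comm w hw).symm.eq
  constructor
  · exact fu.prime
  · have := fu.r7; omega
  · intro a b c d hab hcd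
    obtain ⟨g, hg1, hg2⟩ := hsh.two a b c d hab hcd
    obtain ⟨n, rfl⟩ := fu.surj g
    exact ⟨n, hg1, hg2⟩
  · infer_instance
  · intro n hn' y
    have h2 : π n • (show H ⧸ LineC.N V from y) = (show H ⧸ LineC.N V from y) := by
      rw [(hn' : π n = 1), one_smul]
    exact h2
  · exact zer_ne hb h₁ hn hq
  · rw [(card_comap fu.surj).2, hb.card_U]
    exact hb.odd_q.mul fu.oddK
  · intro y hy
    exact (hfix y).2 (U_le_N hy)
  · intro n hn' y hy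
    have h2 := (mem_N.1 ((hfix n).1 hn') (π y)).1 hy
    rw [Subgroup.mem_comap, map_mul, map_mul, map_inv]
    exact h2
  · intro x hx y hy
    rw [MonoidHom.mem_ker, map_mul, map_mul, map_mul, map_inv, map_inv,
      hb.U_comm _ hx _ hy]
    group
  · rw [(card_comap fu.surj).1, hb.card_U]
    intro h2
    have h3 := r_dvd fu hb h₁ hn hZ hTr
    have h4 := (Nat.dvd_sub h2 h3)
    have h5 : q - (q - 1) = 1 := by omega
    rw [h5] at h4
    exact fu.prime.one_lt.ne' (Nat.dvd_one.1 h4)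
  · exact Subgroup.ker_le_comap π V
  · exact fu.uu
  · exact hTi u huT
  · exact hTo u huT
  · intro y hy
    rw [MonoidHom.mem_ker, map_mul, map_mul, map_mul, map_inv, fu.map_u,
      inverts hb h₁ hn hu huZ huu hy, inv_mul_cancel]
  · intro n hn'
    rw [Subgroup.mem_comap, map_mul, map_mul, map_mul, map_inv, map_inv, fu.map_u]
    obtain ⟨v, hv, τ, hτ, he⟩ := exists_of_N hb h₁ hn ((hfix n).1 hn')
    rw [he]
    have h2 : v * τ * u₀ * (v * τ)⁻¹ * u₀⁻¹ = v * (τ * u₀) * (τ⁻¹ * v⁻¹ * u₀⁻¹) := by group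
    rw [h2, h₁.comm _ hτ _ hu]
    have h3 : v * (u₀ * τ) * (τ⁻¹ * v⁻¹ * u₀⁻¹) = v * (u₀ * v⁻¹ * u₀⁻¹) := by group
    rw [h3]
    exact V.mul_mem hv (hn _ hu _ (V.inv_mem hv))
  · intro y hy
    obtain ⟨v, hv, hvy⟩ := U_trans hb h₁ hn (zer_ne hb h₁ hn hq) hy
    obtain ⟨n, rfl⟩ := fu.surj v
    exact ⟨n, hv, hvy⟩
  · intro x hx hx1 y hy hy1
    have hz := zer_ne hb h₁ hn hq
    have key : ∀ v ∈ V, v ≠ 1 → v • zer V s₀ ≠ inf V ∧ v • zer V s₀ ≠ zer V s₀ := by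
      intro v hv hv1
      constructor
      · intro h2
        have h3 : v • inf V = inf V := (smul_inf hb h₁ hn).2 (U_le_N hv)
        exact hz (MulAction.injective v (h2.trans h3.symm))
      · intro h2
        exact hv1 (semireg hb h₁ hn hv hz h2)
    obtain ⟨h2, h3⟩ := key (π x) hx hx1
    obtain ⟨h4, h5⟩ := key (π y) hy hy1
    obtain ⟨τ, hτ, h6⟩ := T₁_trans hb h₁ hn hq h2 h3 h4 h5
    obtain ⟨g, rfl, hg⟩ := exists_lift fu.surj fu.oddK h₁ fu.uu huT hτ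
    refine ⟨g, hg, hTo g hτ, hTi g hτ, ?_⟩
    rw [MonoidHom.mem_ker, map_mul, map_mul, map_mul, map_inv, map_inv]
    have h7 : ((π y)⁻¹ * (π g * π x * (π g)⁻¹)) • zer V s₀ = zer V s₀ := by
      rw [mul_smul, mul_smul, T₁_zer hb h₁ hn (inv_mem hτ), mul_smul, h6, inv_smul_smul]
    have h8 := semireg hb h₁ hn (V.mul_mem (V.inv_mem hy) (hn _ hτ _ hx)) hz h7
    rw [inv_mul_eq_one.1 h8, mul_inv_cancel]
  · exact hcomm_w
  · exact hTi w hwT
  · exact hTo w hwT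
  · intro y hyi hyo a b hab
    refine dist_pt hb h₁ hn hq (v := π u) (c := π w) (by rw [fu.map_u]; exact huu) huT hwT
      (by rw [fu.map_u]; exact huZ)
      (fun k hk hk4 => pow_notMem fu.prime (by have := fu.r7; omega) hZ
        (exists_orderOf_map fu hw) hw1 k hk hk4) (y := y) hyi hyo a b ?_
    have h4 : ∀ a : Fin 3 × Fin 2,
        π (LinesMain.Lines.pt w u a) = π w ^ (a.1 : ℕ) * π u ^ (a.2 : ℕ) := by
      intro a
      rw [LinesMain.Lines.pt, map_mul, map_pow, map_pow]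
    rw [← h4, ← h4]
    exact hab
  · have h2 : s₀ • inf V = zer V s₀ := by
      change ((s₀ * 1 : H) : H ⧸ LineC.N V) = ((s₀ : H) : H ⧸ LineC.N V)
      rw [mul_one]
    have h3 : π s • inf V = zer V s₀ := by rw [fu.map_s]; exact h2
    exact h3
  · obtain ⟨ζ, h2, h3⟩ := hcyc
    obtain ⟨k, hk⟩ := fu.mr_eq
    exact ⟨ζ, h2, k, by rw [h3, hk]⟩
  · exact hnorm
  · exact hZu
  · intro χ hχ
    have ht : act (MulAut.conjNormal (H := R)) t χ = χ := by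
      ext x : 1
      rw [act_apply]
      congr 1
      apply Subtype.ext
      rw [MulAut.conjNormal_apply, inv_inv]
      have h2 := (fu.t_comm x).eq
      rw [mul_assoc, ← h2, inv_mul_cancel_left]
    have h2 : u * s = s * (t * u) := by
      have h3 := fu.su
      have h4 : s * (t * u) * s⁻¹ = u := by
        calc s * (t * u) * s⁻¹ = (s * t) * u * s⁻¹ := by group
          _ = (t * s) * u * s⁻¹ := by rw [(fu.t_comm s).eq]
          _ = t * (s * u * s⁻¹) := by group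
          _ = (t * t) * u := by rw [h3, mul_assoc]
          _ = u := by rw [fu.tt, one_mul]
      calc u * s = (s * (t * u) * s⁻¹) * s := by rw [h4]
        _ = s * (t * u) := by group
    rw [← act_mul, h2, act_mul, act_mul, hZu χ hχ, ht]
  · intro χ hχ
    have h2 : s⁻¹ * w * s ∈ P := by
      rw [fu.s_P]
      have h3 : s * (s⁻¹ * w * s) * s⁻¹ = w := by group
      rw [h3]
      exact hw
    have h3 : w * s = s * (s⁻¹ * w * s) := by group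
    rw [← act_mul, h3, act_mul, hZP _ h2 χ hχ]
  · exact hZs
  · intro S hS
    obtain ⟨ζ, h2, h3⟩ := hcyc
    have h4 : Nat.card Zc = mr := by rw [h2, Nat.card_zpowers, h3]
    rw [h4]
    refine hfib S fun χ hχ => ?_
    obtain ⟨n, h5, ζ', h6, h7, h8⟩ := hS χ hχ
    exact ⟨n, (hfix n).1 h5, ζ', h6, h7, h8⟩

end Inst

end Cfsg.Agent.Classification.QDW.FuGeo
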