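import Mathlib
import Cfsg.Agent.Classification.QDW.FuDefs
import Cfsg.Agent.Classification.QDW.FuTheta
import Cfsg.Agent.Classification.QDW.FuLines

/-!
# Case U: the group `Z_u` of linear characters

`Zu R u A`: the `u`-invariant linear characters of `R` trivial on `C_R(u) ∩ A`.

* `eq_of_Fx`: `u`-invariant linear characters of `R` are determined by their values on `C_R(u)`;
* `exists_gen`: `Zu R u Au` is cyclic of order `mr` if all characters in question extend;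
* `Zu_norm`, `Zu_P`, `Zu_s`: the action of `C_N(u)`, of `P` and of `s`.
-/

set_option autoImplicit false
set_option linter.unusedSectionVars false

namespace Cfsg.Agent.Classification.QDW.CaseU

open Cfsg Cfsg.Agent.Characters Cfsg.Agent.Classification.InvCent
open Cfsg.Agent.Classification.QDW.FuLines

universe u

section Def

variable {N : Type u} [Group N]

/-- The `u`-invariant linear characters of `R` trivial on `C_R(u) ∩ A`. -/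
def Zu (R : Subgroup N) (u : N) (A : Subgroup N) : Subgroup (R →* ℂˣ) where
  carrier := {ν | (∀ x y : R, (y : N) = u * x * u⁻¹ → ν y = ν x) ∧
    ∀ x : R, Commute u (x : N) → (x : N) ∈ A → ν x = 1}
  one_mem' := ⟨fun _ _ _ => rfl, fun _ _ _ => rfl⟩
  mul_mem' := by
    rintro a b ⟨ha1, ha2⟩ ⟨hb1, hb2⟩
    refine ⟨fun x y hxy => ?_, fun x hx hxA => ?_⟩
    · rw [MonoidHom.mul_apply, MonoidHom.mul_apply, ha1 x y hxy, hb1 x y hxy]
    · rw [MonoidHom.mul_apply, ha2 x hx hxA, hb2 x hx hxA, mul_one]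
  inv_mem' := by
    rintro a ⟨ha1, ha2⟩
    refine ⟨fun x y hxy => ?_, fun x hx hxA => ?_⟩
    · rw [MonoidHom.inv_apply, MonoidHom.inv_apply, ha1 x y hxy]
    · rw [MonoidHom.inv_apply, ha2 x hx hxA, inv_one]

theorem mem_Zu {R : Subgroup N} {u : N} {A : Subgroup N} {ν : R →* ℂˣ} :
    ν ∈ Zu R u A ↔ (∀ x y : R, (y : N) = u * x * u⁻¹ → ν y = ν x) ∧
      ∀ x : R, Commute u (x : N) → (x : N) ∈ A → ν x = 1 := Iff.rfl

end Def

section Main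

variable {N : Type u} [Group N] [Finite N] {H : Type*} [Group H] {π : N →* H} {z u₀ s₀ : H}
  {Tr E : Subgroup H} {t u s : N} {Au Atu P R D : Subgroup N} {r mr : ℕ}

theorem mem_Fx_iff {x : N} : x ∈ Fx u R ↔ x ∈ R ∧ Commute u x := by
  rw [Subgroup.mem_inf, Subgroup.mem_centralizer_singleton_iff]
  exact ⟨fun h => ⟨h.1, h.2.symm⟩, fun h => ⟨h.1, h.2.symm⟩⟩

/-- `u`-invariant linear characters are determined by their values on `C_R(u)`. -/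
theorem eq_of_Fx (fu : Fu π z u₀ s₀ Tr E t u s Au Atu P R D r mr) {ν ν' : R →* ℂˣ}
    (h : ∀ x y : R, (y : N) = u * x * u⁻¹ → ν y = ν x)
    (h' : ∀ x y : R, (y : N) = u * x * u⁻¹ → ν' y = ν' x)
    (heq : ∀ x : R, Commute u (x : N) → ν x = ν' x) : ν = ν' := by
  let j : Fx u R →* R := Subgroup.inclusion inf_le_left
  have h1 := GC_of_linear fu (χ := ν.comp j) ν h (fun x y hxy => by
    have : j x = y := Subtype.ext hxy
    rw [MonoidHom.comp_apply, this])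
  have h2 := GC_of_linear fu (χ := ν.comp j) ν' h' (fun x y hxy => by
    have h3 : j x = y := Subtype.ext hxy
    rw [MonoidHom.comp_apply, h3]
    refine heq y ?_
    rw [← hxy]
    exact (mem_Fx_iff.1 x.2).2)
  have h3 := (GC_inj fu h1 h2).1 rfl
  ext x
  exact congrFun h3 x

/-- **`Z_u` is cyclic of order `m_r`.** -/
theorem exists_gen (fu : Fu π z u₀ s₀ Tr E t u s Au Atu P R D r mr)
    (hext : ∀ χ : Fx u R →* ℂˣ, IsX R u Au χ → ∃ ν : R →* ℂˣ,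
      (∀ x y : R, (y : N) = u * x * u⁻¹ → ν y = ν x) ∧
      ∀ (x : Fx u R) (y : R), (x : N) = y → χ x = ν y) :
    ∃ ζ : R →* ℂˣ, orderOf ζ = mr ∧ Zu R u Au = Subgroup.zpowers ζ := by
  have hFP : Fx u R ≤ P := by
    rw [fu.Fx_eq]
    exact inf_le_left
  have hAn : (Au.subgroupOf (Fx u R)).Normal := by
    constructor
    intro n hn g
    rw [Subgroup.mem_subgroupOf] at hn ⊢
    exact fu.Au_conj g (mem_Fx_iff.1 g.2).2 n hn
  have hPn : (Au.subgroupOf P).Normal := by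
    constructor
    intro n hn g
    rw [Subgroup.mem_subgroupOf] at hn ⊢
    exact fu.Au_conj g (fu.P_comm g g.2) n hn
  have hPc : IsCyclic (P ⧸ Au.subgroupOf P) := by
    obtain ⟨g, hg, hgen⟩ := fu.cyc_u
    refine ⟨⟨QuotientGroup.mk ⟨g, hg⟩, fun x => ?_⟩⟩
    obtain ⟨x, rfl⟩ := QuotientGroup.mk_surjective x
    obtain ⟨k, hk⟩ := hgen x x.2
    refine Subgroup.mem_zpowers_iff.2 ⟨k, ?_⟩
    rw [← QuotientGroup.mk_zpow, eq_comm, ← mul_inv_eq_one, ← QuotientGroup.mk_inv,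
      ← QuotientGroup.mk_mul, QuotientGroup.eq_one_iff, Subgroup.mem_subgroupOf]
    rw [zpow_natCast]
    exact hk
  have hQc : IsCyclic (Fx u R ⧸ Au.subgroupOf (Fx u R)) := by
    let f : Fx u R ⧸ Au.subgroupOf (Fx u R) →* P ⧸ Au.subgroupOf P :=
      QuotientGroup.map _ _ (Subgroup.inclusion hFP) (fun x hx => hx)
    refine isCyclic_of_injective f ?_
    rw [injective_iff_map_eq_one]
    intro x hx
    obtain ⟨x, rfl⟩ := QuotientGroup.mk_surjective x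
    have hx' : (QuotientGroup.mk (Subgroup.inclusion hFP x) : P ⧸ Au.subgroupOf P) = 1 := hx
    rw [QuotientGroup.eq_one_iff, Subgroup.mem_subgroupOf] at hx' ⊢
    exact hx'
  have hcard : Nat.card (Fx u R ⧸ Au.subgroupOf (Fx u R)) = mr := fu.index_Au
  let _ : CommGroup (Fx u R ⧸ Au.subgroupOf (Fx u R)) := IsCyclic.commGroup
  obtain ⟨e⟩ := CommGroup.monoidHom_mulEquiv_of_hasEnoughRootsOfUnity
    (Fx u R ⧸ Au.subgroupOf (Fx u R)) ℂ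
  obtain ⟨g, hg⟩ := IsCyclic.exists_ofOrder_eq_natCard (α := Fx u R ⧸ Au.subgroupOf (Fx u R))
  rw [hcard] at hg
  have hgen : ∀ x : Fx u R ⧸ Au.subgroupOf (Fx u R), ∃ k : ℤ, x = g ^ k := by
    intro x
    have h1 : Subgroup.zpowers g = ⊤ := by
      apply Subgroup.eq_top_of_card_eq
      rw [Nat.card_zpowers, hg, hcard]
    obtain ⟨k, hk⟩ := Subgroup.mem_zpowers_iff.1 (h1 ▸ Subgroup.mem_top x)
    exact ⟨k, hk.symm⟩
  set χ₀ : Fx u R ⧸ Au.subgroupOf (Fx u R) →* ℂˣ := e.symm g with hχ₀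
  have hχ₀o : orderOf χ₀ = mr := by
    rw [hχ₀, MulEquiv.orderOf_eq, hg]
  have hmr := fu.seven_le_mr
  have hsurj := QuotientGroup.mk'_surjective (Au.subgroupOf (Fx u R))
  obtain ⟨ν, hν, hνχ⟩ := hext (χ₀.comp (QuotientGroup.mk' (Au.subgroupOf (Fx u R))))
    ⟨by
      intro h1
      have h2 : χ₀ = 1 := by
        ext x
        exact congrArg Units.val (DFunLike.congr_fun h1 x)
      rw [h2, orderOf_one] at hχ₀o
      omega, fun x hx => by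
      have h1 : QuotientGroup.mk' (Au.subgroupOf (Fx u R)) x = 1 := by
        rw [QuotientGroup.mk'_apply, QuotientGroup.eq_one_iff]
        exact Subgroup.mem_subgroupOf.2 hx
      rw [MonoidHom.comp_apply, h1, map_one]⟩
  have hνv : ∀ x : Fx u R, ν ⟨x, x.2.1⟩ = χ₀ (QuotientGroup.mk' (Au.subgroupOf (Fx u R)) x) :=
    fun x => (hνχ x ⟨x, x.2.1⟩ rfl).symm
  have hνZ : ν ∈ Zu R u Au := by
    refine ⟨hν, fun x hx hxA => ?_⟩
    have h1 := hνv ⟨x, mem_Fx_iff.2 ⟨x.2, hx⟩⟩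
    have h2 : QuotientGroup.mk' (Au.subgroupOf (Fx u R))
        (⟨x, mem_Fx_iff.2 ⟨x.2, hx⟩⟩ : Fx u R) = 1 := by
      rw [QuotientGroup.mk'_apply, QuotientGroup.eq_one_iff]
      exact Subgroup.mem_subgroupOf.2 hxA
    rw [h2, map_one] at h1
    exact h1
  refine ⟨ν, ?_, le_antisymm ?_ ?_⟩
  · rw [← hχ₀o, orderOf_eq_orderOf_iff]
    intro k
    constructor
    · intro h1
      ext x
      show (((χ₀ ^ k) (QuotientGroup.mk' (Au.subgroupOf (Fx u R)) x) : ℂˣ) : ℂ) = 1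
      rw [MonoidHom.pow_apply, ← hνv, ← MonoidHom.pow_apply, h1]
      rfl
    · intro h1
      refine eq_of_Fx fu (fun x y hxy => ?_) (fun _ _ _ => rfl) (fun x hx => ?_)
      · rw [MonoidHom.pow_apply, MonoidHom.pow_apply, hν x y hxy]
      · rw [MonoidHom.pow_apply]
        have h2 := hνv ⟨x, mem_Fx_iff.2 ⟨x.2, hx⟩⟩
        have h3 : ν x = ν ⟨(⟨x, mem_Fx_iff.2 ⟨x.2, hx⟩⟩ : Fx u R), x.2⟩ := rfl
        rw [h3, h2, ← MonoidHom.pow_apply, h1]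
        rfl
  · intro ν' hν'
    have hker : Au.subgroupOf (Fx u R) ≤
        (ν'.comp (Subgroup.inclusion (inf_le_left : Fx u R ≤ R))).ker := by
      intro x hx
      exact hν'.2 ⟨x, x.2.1⟩ (mem_Fx_iff.1 x.2).2 (Subgroup.mem_subgroupOf.1 hx)
    let χ' : Fx u R ⧸ Au.subgroupOf (Fx u R) →* ℂˣ := QuotientGroup.lift _ _ hker
    obtain ⟨k, hk⟩ := hgen (e χ')
    have hk' : χ' = χ₀ ^ k := by
      apply e.injective
      rw [hk, map_zpow, hχ₀, MulEquiv.apply_symm_apply]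
    refine Subgroup.mem_zpowers_iff.2 ⟨k, ?_⟩
    have hνk : ν ^ k ∈ Zu R u Au := (Zu R u Au).zpow_mem hνZ k
    refine eq_of_Fx fu hνk.1 hν'.1 (fun x hx => ?_)
    have h1 : ν' x = χ' (QuotientGroup.mk' _ (⟨x, mem_Fx_iff.2 ⟨x.2, hx⟩⟩ : Fx u R)) := rfl
    have h2 := hνv ⟨x, mem_Fx_iff.2 ⟨x.2, hx⟩⟩
    rw [h1, hk', MonoidHom.zpow_apply, MonoidHom.zpow_apply, ← h2]
  · rw [Subgroup.zpowers_le]
    exact hνZ

theorem act_conj_apply [R.Normal] (g : N) (ν : R →* ℂˣ) (x : R) :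
    act (MulAut.conjNormal (H := R)) g ν x =
      ν ⟨g⁻¹ * x * g⁻¹⁻¹, ‹R.Normal›.conj_mem x x.2 g⁻¹⟩ := by
  rw [FuLines.act_apply]
  congr 1

/-- `C_N(u)` normalises `Z_u`. -/
theorem Zu_norm [R.Normal] {A : Subgroup N} (hA : ∀ g, Commute u g → ∀ x ∈ A, g * x * g⁻¹ ∈ A)
    {g : N} (hg : g * u = u * g) {ν : R →* ℂˣ} (hν : ν ∈ Zu R u A) :
    act (MulAut.conjNormal (H := R)) g ν ∈ Zu R u A := by
  have hu : Commute u g := hg.symm
  have hui : Commute u g⁻¹ := hu.inv_right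
  refine ⟨fun x y hxy => ?_, fun x hx hxA => ?_⟩
  · rw [act_conj_apply, act_conj_apply]
    apply hν.1
    show g⁻¹ * (y : N) * g⁻¹⁻¹ = u * (g⁻¹ * x * g⁻¹⁻¹) * u⁻¹
    rw [hxy]
    have h1 : g⁻¹ * (u * x * u⁻¹) * g⁻¹⁻¹ = (g⁻¹ * u) * x * (g⁻¹ * u)⁻¹ := by group
    have h2 : u * (g⁻¹ * x * g⁻¹⁻¹) * u⁻¹ = (u * g⁻¹) * x * (u * g⁻¹)⁻¹ := by group
    rw [h1, h2, hui.eq]
  · rw [act_conj_apply]
    refine hν.2 _ ?_ (hA g⁻¹ hui x hxA)
    exact (hui.mul_right hx).mul_right hui.inv_right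

/-- `u` acts trivially on `Z_u`. -/
theorem Zu_u [R.Normal] {A : Subgroup N} {ν : R →* ℂˣ} (hν : ν ∈ Zu R u A) :
    act (MulAut.conjNormal (H := R)) u ν = ν := by
  ext x
  rw [act_conj_apply]
  refine congrArg Units.val (hν.1 _ x ?_).symm
  show (x : N) = u * (u⁻¹ * x * u⁻¹⁻¹) * u⁻¹
  group

/-- `P` acts trivially on `Z_u`. -/
theorem Zu_P [R.Normal] (fu : Fu π z u₀ s₀ Tr E t u s Au Atu P R D r mr) {g : N} (hg : g ∈ P)
    {ν : R →* ℂˣ} (hν : ν ∈ Zu R u Au) : act (MulAut.conjNormal (H := R)) g ν = ν := by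
  have hug := fu.P_comm g hg
  have h1 := Zu_norm fu.Au_conj hug.eq.symm hν
  refine eq_of_Fx fu h1.1 hν.1 fun x hx => ?_
  rw [act_conj_apply]
  -- `g⁻¹ x g x⁻¹` lies in `Au`
  have hxP : (x : N) ∈ P := fu.fix_le x x.2 hx
  have hA : ∀ g ∈ P, ∀ x ∈ Au, g * x * g⁻¹ ∈ Au := fun g hg => fu.Au_conj g (fu.P_comm g hg)
  have hmem : g⁻¹ * (x : N) * g⁻¹⁻¹ * (x : N)⁻¹ ∈ Au := by
    obtain ⟨c, hc, hgen⟩ := fu.cyc_u
    obtain ⟨l, hl⟩ := hgen g⁻¹ (P.inv_mem hg)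
    obtain ⟨k, hk⟩ := hgen x hxP
    have hn : (Au.subgroupOf P).Normal := by
      constructor
      intro n hn y
      rw [Subgroup.mem_subgroupOf] at hn ⊢
      exact hA y y.2 n hn
    have e1 : (QuotientGroup.mk (⟨g⁻¹, P.inv_mem hg⟩ : P) : P ⧸ Au.subgroupOf P) =
        QuotientGroup.mk (⟨c, hc⟩ : P) ^ l := by
      rw [← QuotientGroup.mk_pow, ← mul_inv_eq_one, ← QuotientGroup.mk_inv,
        ← QuotientGroup.mk_mul, QuotientGroup.eq_one_iff, Subgroup.mem_subgroupOf]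
      exact hl
    have e2 : (QuotientGroup.mk (⟨x, hxP⟩ : P) : P ⧸ Au.subgroupOf P) =
        QuotientGroup.mk (⟨c, hc⟩ : P) ^ k := by
      rw [← QuotientGroup.mk_pow, ← mul_inv_eq_one, ← QuotientGroup.mk_inv,
        ← QuotientGroup.mk_mul, QuotientGroup.eq_one_iff, Subgroup.mem_subgroupOf]
      exact hk
    have e3 : (QuotientGroup.mk ((⟨g⁻¹, P.inv_mem hg⟩ : P) * ⟨x, hxP⟩ * (⟨g⁻¹, P.inv_mem hg⟩ : P)⁻¹ *
        (⟨x, hxP⟩ : P)⁻¹) : P ⧸ Au.subgroupOf P) = 1 := by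
      rw [QuotientGroup.mk_mul, QuotientGroup.mk_mul, QuotientGroup.mk_mul, QuotientGroup.mk_inv,
        QuotientGroup.mk_inv, e1, e2, ← pow_add, add_comm, pow_add, mul_inv_cancel_right,
        mul_inv_cancel]
    rw [QuotientGroup.eq_one_iff, Subgroup.mem_subgroupOf] at e3
    exact e3
  have hcomm : Commute u (g⁻¹ * (x : N) * g⁻¹⁻¹ * (x : N)⁻¹) :=
    ((hug.inv_right.mul_right hx).mul_right hug.inv_right.inv_right).mul_right hx.inv_right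
  have hR : g⁻¹ * (x : N) * g⁻¹⁻¹ * (x : N)⁻¹ ∈ R :=
    R.mul_mem (‹R.Normal›.conj_mem x x.2 g⁻¹) (R.inv_mem x.2)
  have h2 := hν.2 ⟨_, hR⟩ hcomm hmem
  have h3 : (⟨g⁻¹ * (x : N) * g⁻¹⁻¹, ‹R.Normal›.conj_mem x x.2 g⁻¹⟩ : R) = ⟨_, hR⟩ * x := by
    apply Subtype.ext
    show g⁻¹ * (x : N) * g⁻¹⁻¹ = g⁻¹ * (x : N) * g⁻¹⁻¹ * (x : N)⁻¹ * x
    rw [inv_mul_cancel_right]
  rw [h3, map_mul, h2, one_mul]

/-- Characters of `Z_u` that are trivial on `A_{tu}` are trivial. -/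
theorem Zu_eq_one (fu : Fu π z u₀ s₀ Tr E t u s Au Atu P R D r mr) {ν : R →* ℂˣ}
    (hν : ν ∈ Zu R u Au) (h : ∀ x : R, Commute u (x : N) → (x : N) ∈ Atu → ν x = 1) : ν = 1 := by
  refine eq_of_Fx fu hν.1 (fun _ _ _ => rfl) fun x hx => ?_
  have h1 : (⊤ : Subgroup (Fx u R)) ≤
      (ν.comp (Subgroup.inclusion (inf_le_left : Fx u R ≤ R))).ker := by
    rw [← fu.sup_Fx]
    refine sup_le (fun y hy => ?_) (fun y hy => ?_)
    · exact hν.2 ⟨y, y.2.1⟩ (mem_Fx_iff.1 y.2).2 (Subgroup.mem_subgroupOf.1 hy)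
    · exact h ⟨y, y.2.1⟩ (mem_Fx_iff.1 y.2).2 (Subgroup.mem_subgroupOf.1 hy)
  exact h1 (Subgroup.mem_top (⟨x, mem_Fx_iff.2 ⟨x.2, hx⟩⟩ : Fx u R))

theorem Fu.comm_s (fu : Fu π z u₀ s₀ Tr E t u s Au Atu P R D r mr) {x : N} (hx : Commute u x) :
    Commute u (s * x * s⁻¹) := by
  have h1 : Commute (s * u * s⁻¹) (s * x * s⁻¹) := by
    have h2 : s * u * s⁻¹ * (s * x * s⁻¹) = s * (u * x) * s⁻¹ := by group
    have h3 : s * x * s⁻¹ * (s * u * s⁻¹) = s * (x * u) * s⁻¹ := by group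
    show _ = _
    rw [h2, h3, hx.eq]
  rw [fu.su] at h1
  have h4 : Commute (t⁻¹ * (t * u)) (s * x * s⁻¹) := ((fu.t_comm _).inv_left).mul_left h1
  rwa [inv_mul_cancel_left] at h4

theorem Fu.comm_s' (fu : Fu π z u₀ s₀ Tr E t u s Au Atu P R D r mr) {x : N} (hx : Commute u x) :
    Commute u (s⁻¹ * x * s⁻¹⁻¹) := by
  have h0 : s⁻¹ * u * s⁻¹⁻¹ = t⁻¹ * u := by
    have h1 : s * (t⁻¹ * u) * s⁻¹ = u := by
      have h2 : s * (t⁻¹ * u) * s⁻¹ = t⁻¹ * (s * u * s⁻¹) := by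
        rw [← mul_assoc s, ← ((fu.t_comm s).inv_left).eq]
        group
      rw [h2, fu.su, inv_mul_cancel_left]
    conv_lhs => rw [← h1]
    group
  have h1 : Commute (s⁻¹ * u * s⁻¹⁻¹) (s⁻¹ * x * s⁻¹⁻¹) := by
    have h2 : s⁻¹ * u * s⁻¹⁻¹ * (s⁻¹ * x * s⁻¹⁻¹) = s⁻¹ * (u * x) * s⁻¹⁻¹ := by group
    have h3 : s⁻¹ * x * s⁻¹⁻¹ * (s⁻¹ * u * s⁻¹⁻¹) = s⁻¹ * (x * u) * s⁻¹⁻¹ := by group
    show _ = _
    rw [h2, h3, hx.eq]
  rw [h0] at h1
  have h4 : Commute (t * (t⁻¹ * u)) (s⁻¹ * x * s⁻¹⁻¹) := (fu.t_comm _).mul_left h1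
  rwa [mul_inv_cancel_left] at h4

/-- `Z_u ∩ Z_u^s = 1`. -/
theorem Zu_s [R.Normal] (fu : Fu π z u₀ s₀ Tr E t u s Au Atu P R D r mr) {ν : R →* ℂˣ}
    (hν : ν ∈ Zu R u Au) (h : act (MulAut.conjNormal (H := R)) s ν ∈ Zu R u Au) : ν = 1 := by
  refine Zu_eq_one fu hν fun x hx hxA => ?_
  have h1 := h.2 ⟨s * x * s⁻¹, ‹R.Normal›.conj_mem x x.2 s⟩ (fu.comm_s hx) ((fu.s_Atu x).1 hxA)
  rw [act_conj_apply] at h1
  have h2 : (⟨s⁻¹ * (s * (x : N) * s⁻¹) * s⁻¹⁻¹, ‹R.Normal›.conj_mem _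
      (‹R.Normal›.conj_mem x x.2 s) s⁻¹⟩ : R) = x := by
    apply Subtype.ext
    show s⁻¹ * (s * (x : N) * s⁻¹) * s⁻¹⁻¹ = x
    group
  rw [← h2]
  exact h1

theorem Zu_s' [R.Normal] (fu : Fu π z u₀ s₀ Tr E t u s Au Atu P R D r mr) {ν : R →* ℂˣ}
    (hν : ν ∈ Zu R u Au) (h : act (MulAut.conjNormal (H := R)) s⁻¹ ν ∈ Zu R u Au) : ν = 1 := by
  refine Zu_eq_one fu hν fun x hx hxA => ?_
  have hxA' : s⁻¹ * (x : N) * s⁻¹⁻¹ ∈ Au := by
    rw [fu.s_Au]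
    have : s * (s⁻¹ * (x : N) * s⁻¹⁻¹) * s⁻¹ = x := by group
    rw [this]
    exact hxA
  have h1 := h.2 ⟨s⁻¹ * x * s⁻¹⁻¹, ‹R.Normal›.conj_mem x x.2 s⁻¹⟩ (fu.comm_s' hx) hxA'
  rw [act_conj_apply] at h1
  have h2 : (⟨s⁻¹⁻¹ * (s⁻¹ * (x : N) * s⁻¹⁻¹) * s⁻¹⁻¹⁻¹, ‹R.Normal›.conj_mem _
      (‹R.Normal›.conj_mem x x.2 s⁻¹) s⁻¹⁻¹⟩ : R) = x := by
    apply Subtype.ext
    show s⁻¹⁻¹ * (s⁻¹ * (x : N) * s⁻¹⁻¹) * s⁻¹⁻¹⁻¹ = x
    group
  rw [← h2]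
  exact h1

/-- the conjugate `Z_u^s` consists of `u`-invariant characters. -/
theorem Zu_su [R.Normal] (fu : Fu π z u₀ s₀ Tr E t u s Au Atu P R D r mr) {A : Subgroup N}
    {ν : R →* ℂˣ} (hν : ν ∈ Zu R u A) :
    act (MulAut.conjNormal (H := R)) u (act (MulAut.conjNormal (H := R)) s ν) =
      act (MulAut.conjNormal (H := R)) s ν := by
  have h1 : u * s = s * (t * u) := by
    have h2 := fu.su
    have h3 : s * (t * u) = t * (s * u * s⁻¹) * s := by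
      rw [← mul_assoc s, ← (fu.t_comm s).eq]
      group
    rw [h3, h2, ← mul_assoc t, fu.tt, one_mul]
  rw [← act_mul, h1, act_mul, act_mul, Zu_u hν]
  congr 1
  ext x
  rw [act_conj_apply]
  refine congrArg (fun y : R => ((ν y : ℂˣ) : ℂ)) (Subtype.ext ?_)
  show t⁻¹ * (x : N) * t⁻¹⁻¹ = x
  rw [((fu.t_comm (x : N)).inv_left).eq, mul_inv_cancel_right]

end Main

end Cfsg.Agent.Classification.QDW.CaseU
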