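import Mathlib
import Cfsg.Agent.Classification.QDW.FuOrb
import Cfsg.Agent.Classification.QDW.FuGeo
import Cfsg.Agent.Classification.QDW.FuZu

/-!
# Case U: the linear characters at the points `≠ 0, ∞`

`exists_Z`: there are `(q - 1) (m_r - 1)` linear characters of `R` of multiplicity `≥ m / m_r` in
`E_-` and nontrivial on `P1_t`.
-/

set_option autoImplicit false
set_option linter.unusedSectionVars false
set_option linter.unusedVariables false

namespace Cfsg.Agent.Classification.QDW.CaseU.Zc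

open Cfsg Cfsg.Agent.Characters Cfsg.Agent.Classification.InvCent
  Cfsg.Agent.Classification.QDW.LineC Cfsg.Agent.Classification.QDW.FuLines
  Cfsg.Agent.Classification.QDW.FuGeo Cfsg.Agent.Classification.QDW.Inertia

universe u

variable {N : Type u} [Group N] [Finite N] {H : Type*} [Group H] {π : N →* H} {z u₀ s₀ s₀' : H}
  {Z T T' U L₀ Tr E : Subgroup H} {t u s : N} {Au Atu P R D : Subgroup N} {r mr q m : ℕ} {ε : ℤ}
  {X : N → ℂ}

theorem conj_apply [hR : R.Normal] (g : N) (ν : R →* ℂˣ) (x : R) :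
    act (MulAut.conjNormal (H := R)) g ν ⟨g * x * g⁻¹, hR.conj_mem x x.2 g⟩ = ν x := by
  rw [act_apply]
  congr 1
  apply Subtype.ext
  rw [MulAut.conjNormal_apply, inv_inv]
  show g⁻¹ * (g * x * g⁻¹) * g = x
  group

/-- The multiplicity is invariant under conjugation. -/
theorem mult_act [hR : R.Normal] [Fintype R] (v : Val t u Au Atu P q ε m X) (g : N)
    (ν : R →* ℂˣ) :
    classInner (fun y : R => X y) (fun x => (act (MulAut.conjNormal (H := R)) g ν x : ℂ)) =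
      classInner (fun y : R => X y) (fun x => (ν x : ℂ)) := by
  have hcl : IsClassFunction N X := Core.isCharacter_isClassFunction v.char
  unfold classInner
  congr 1
  let e : R ≃ R := (MulAut.conjNormal (H := R) g).toEquiv
  rw [← Equiv.sum_comp e]
  refine Finset.sum_congr rfl fun x _ => ?_
  have h1 : (e x : R) = ⟨g * x * g⁻¹, hR.conj_mem x x.2 g⟩ := by
    apply Subtype.ext
    exact MulAut.conjNormal_apply g x
  rw [h1]
  show X (g * x * g⁻¹) * _ = X x * _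
  rw [hcl x g]
  congr 2
  show ((act (MulAut.conjNormal (H := R)) g ν ⟨g * x * g⁻¹, hR.conj_mem x x.2 g⟩ : ℂˣ) : ℂ) = ν x
  rw [conj_apply]

/-- `ν` sits at the point of `V`. -/
def At [R.Normal] (π : N →* H) (V : Subgroup H) (ν : R →* ℂˣ) : Prop :=
  V ≤ Jim π (fun x => (ν x : ℂ)) ∧ Jim π (fun x => (ν x : ℂ)) ≤ Nm V

/-- Conjugates sit at conjugate points. -/
theorem At.act [hR : R.Normal] {V : Subgroup H} {ν : R →* ℂˣ} (h : At π V ν) {g : N}
    (hg : π g ∈ Nm V) : At π V (FuLines.act (MulAut.conjNormal (H := R)) g ν) := by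
  have hc : ∀ x : R, ((FuLines.act (MulAut.conjNormal (H := R)) g ν
      ⟨g * x * g⁻¹, hR.conj_mem x x.2 g⟩ : ℂˣ) : ℂ) = ν x := fun x => by rw [conj_apply]
  constructor
  · intro v hv
    have h1 : (π g)⁻¹ * v * π g ∈ V := by
      have h2 := (Subgroup.mem_normalizer_iff.1 ((Nm V).inv_mem hg) v).1 hv
      rwa [inv_inv] at h2
    have h2 := Orb.Jim_conj (π := π) (a := fun x =>
      ((FuLines.act (MulAut.conjNormal (H := R)) g ν x : ℂˣ) : ℂ)) (b := fun x => (ν x : ℂ))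
      (y := g) hc (h.1 h1)
    have h3 : π g * ((π g)⁻¹ * v * π g) * (π g)⁻¹ = v := by group
    rwa [h3] at h2
  · rintro _ ⟨k, hk, rfl⟩
    have h1 := FuTI.stab_conj (a := fun x =>
      ((FuLines.act (MulAut.conjNormal (H := R)) g ν x : ℂˣ) : ℂ)) (b := fun x => (ν x : ℂ))
      (g := g) hc hk
    have h2 : π (g⁻¹ * k * g) ∈ Nm V := h.2 ⟨_, h1, rfl⟩
    have h3 : π k = π g * π (g⁻¹ * k * g) * (π g)⁻¹ := by
      rw [map_mul, map_mul, map_inv]; group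
    rw [h3]
    exact (Nm V).mul_mem ((Nm V).mul_mem hg h2) ((Nm V).inv_mem hg)

/-- The powers sit at the same point. -/
theorem Jim_pow [hR : R.Normal] (ν : R →* ℂˣ) (k : ℕ) :
    Jim π (fun x => (ν x : ℂ)) ≤ Jim π (fun x => ((ν ^ k : R →* ℂˣ) x : ℂ)) := by
  rintro _ ⟨g, hg, rfl⟩
  refine ⟨g, ?_, rfl⟩
  intro x
  have h1 := hg x
  show (((ν _) ^ k : ℂˣ) : ℂ) = (((ν x) ^ k : ℂˣ) : ℂ)
  rw [Units.val_pow_eq_pow_val, Units.val_pow_eq_pow_val]
  exact congrArg (· ^ k) h1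

/-- A point is determined. -/
theorem eq_of_le_Nm {V V' : Subgroup H} [Finite H] (hb : Base q Z V) (hb' : Base q Z V')
    (h₁ : Torus q 1 Z T s₀) (hn' : ∀ τ ∈ T, ∀ v ∈ V', τ * v * τ⁻¹ ∈ V') (h : V ≤ Nm V') :
    V = V' := by
  have h1 : V ≤ V' := fun v hv => mem_U_of_pow hb' h₁ hn' (h hv) (hb.pow_card_U hv)
  exact Subgroup.eq_of_le_of_card_ge h1 (by rw [hb.card_U, hb'.card_U])

section Main

variable (geo : Geo z q ε Z T T' U s₀ s₀' u₀ L₀ Tr E r) [hRn : R.Normal] [Fintype R]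
    (fu : Fu π z u₀ s₀ Tr E t u s Au Atu P R D r mr) (v : Val t u Au Atu P q ε m X)
    (hε : ε = 1) (hd : (X 1).re ≤ (q : ℝ) ^ 2 - 1)

include geo fu v hε hd

/-- The restriction of `ν ∈ Z_u` to `C_R(u)`. -/
theorem isX_of {ν : R →* ℂˣ} (hν : ν ∈ Zu R u Au) (hν1 : ν ≠ 1) :
    IsX R u Au (ν.comp (Subgroup.inclusion (inf_le_left : Fx u R ≤ R))) where
  ne_one := by
    intro h
    apply hν1
    refine eq_of_Fx fu hν.1 (fun _ _ _ => rfl) fun x hx => ?_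
    exact DFunLike.congr_fun h (⟨x, mem_Fx_iff.2 ⟨x.2, hx⟩⟩ : Fx u R)
  triv := fun x hx => hν.2 ⟨x, x.2.1⟩ (mem_Fx_iff.1 x.2).2 hx

/-- Multiplicity and type of the elements of `Z_u`. -/
theorem info {ν : R →* ℂˣ} (hν : ν ∈ Zu R u Au) (hν1 : ν ≠ 1) :
    (m : ℝ) ≤ mr * (classInner (fun y : R => X y) (fun x => (ν x : ℂ))).re ∧
      (At π U ν ∨ At π (cj s₀ U) ν) := by
  obtain ⟨ν', h1, h2, h3, h4⟩ := linear_of_pos geo fu v hε hd
    (Or.inl (isX_of geo fu v hε hd hν hν1))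
  have h5 : ν' = ν := by
    refine eq_of_Fx fu h1 hν.1 fun x hx => ?_
    exact (h2 (⟨x, mem_Fx_iff.2 ⟨x.2, hx⟩⟩ : Fx u R) x rfl).symm
  rw [h5] at h3 h4
  exact ⟨h3, h4⟩

theorem exists_V [Finite H] {ζ : R →* ℂˣ} (hζ : Zu R u Au = Subgroup.zpowers ζ) (hζo : orderOf ζ = mr) :
    ∃ V : Subgroup H, (∃ g : H, V = cj g U) ∧ Base q Z V ∧
      (∀ τ ∈ T, ∀ v ∈ V, τ * v * τ⁻¹ ∈ V) ∧ ∀ ν ∈ Zu R u Au, ν ≠ 1 → At π V ν := by
  subst hε
  have h₁ : Torus q 1 Z T s₀ := geo.chyp.torus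
  have hbU := geo.chyp.base
  have hnU := geo.norm₁ rfl
  have hbU' := Base.cj hbU s₀
  have hnU' := norm_cj h₁ hnU
  have hmr := fu.seven_le_mr
  have hζm : ζ ∈ Zu R u Au := by rw [hζ]; exact Subgroup.mem_zpowers ζ
  have hζ1 : ζ ≠ 1 := by
    rintro rfl
    rw [orderOf_one] at hζo
    omega
  have key : ∀ V : Subgroup H, Base q Z V → (∀ τ ∈ T, ∀ v ∈ V, τ * v * τ⁻¹ ∈ V) → At π V ζ →
      ∀ ν ∈ Zu R u Au, ν ≠ 1 → At π V ν := by
    intro V hb hn hAt ν hν hν1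
    obtain ⟨k, hk⟩ : ∃ k : ℕ, ζ ^ k = ν := by
      have hfin : IsOfFinOrder ζ := by
        rw [← orderOf_pos_iff, hζo]
        omega
      have h1 : ν ∈ Subgroup.zpowers ζ := by rw [← hζ]; exact hν
      exact hfin.mem_powers_iff_mem_zpowers.2 h1
    have h2 : V ≤ Jim π (fun x => (ν x : ℂ)) := by
      rw [← hk]
      exact hAt.1.trans (Jim_pow ζ k)
    have h3 : ∀ V' : Subgroup H, Base q Z V' → (∀ τ ∈ T, ∀ v ∈ V', τ * v * τ⁻¹ ∈ V') →
        At π V' ν → At π V ν := by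
      intro V' hb' hn' hAt'
      have h4 := eq_of_le_Nm hb hb' h₁ hn' (h2.trans hAt'.2)
      rw [h4]
      exact hAt'
    rcases (info geo fu v rfl hd hν hν1).2 with h | h
    · exact h3 U hbU hnU h
    · exact h3 _ hbU' hnU' h
  rcases (info geo fu v rfl hd hζm hζ1).2 with h | h
  · exact ⟨U, ⟨1, (Orb.cj_one U).symm⟩, hbU, hnU, key U hbU hnU h⟩
  · exact ⟨cj s₀ U, ⟨s₀, rfl⟩, hbU', hnU', key _ hbU' hnU' h⟩

omit v hd in
theorem u_notMem : u₀ ∉ Z := by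
  intro h
  have h1 := geo.chyp.Z_central u₀ h s₀
  have h2 := geo.chyp.s_u
  rw [h1, mul_inv_cancel_right] at h2
  have h3 : z = 1 := by
    have h4 : z * u₀ = 1 * u₀ := by rw [one_mul]; exact h2.symm
    exact mul_right_cancel h4
  have h4 := geo.chyp.orderOf_t
  rw [h3, orderOf_one] at h4
  omega

theorem exists_Z : ∃ S : Finset (R →* ℂˣ), S.card = (q - 1) * (mr - 1) ∧ ∀ ν ∈ S,
      (m : ℝ) ≤ mr * (classInner (fun y : R => X y) (fun x => (ν x : ℂ))).re ∧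
      ∃ x : R, (x : N) ∈ P1t Au Atu P R ∧ ν x ≠ 1 := by
  have hfH : Finite H := Finite.of_surjective π fu.surj
  have hmr := fu.seven_le_mr
  obtain ⟨ζ, hζo, hζ⟩ := exists_gen fu (fun χ hχ => by
    obtain ⟨ν, h1, h2, -, -⟩ := linear_of_pos geo fu v hε hd (Or.inl hχ)
    exact ⟨ν, h1, h2⟩)
  obtain ⟨V, ⟨g₀, hg₀⟩, hb, hn, hAt⟩ := exists_V geo fu v hε hd hζ hζo
  have h₁ : Torus q 1 Z T s₀ := by
    have h1 := geo.chyp.torus
    rw [hε] at h1
    exact h1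
  have hq := geo.q_big
  obtain ⟨w, hwP, hwAu, hwAtu, hw1⟩ := exists_w fu
  have hmult : ∀ g : N, ∀ ν ∈ Zu R u Au, ν ≠ 1 → (m : ℝ) ≤ mr * (classInner (fun y : R => X y)
      (fun x => (FuLines.act (MulAut.conjNormal (H := R)) g ν x : ℂ))).re := by
    intro g ν hν hν1
    rw [mult_act v g ν]
    exact (info geo fu v hε hd hν hν1).1
  have hyp := hyp_of fu hb h₁ hn (by omega) geo.Z_two geo.Tr_le geo.chyp.u_mem
    (u_notMem geo fu hε) hwP hw1 (Zc := Zu R u Au) ⟨ζ, hζ, hζo⟩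
    (fun g hg χ hχ => Zu_norm fu.Au_conj hg hχ) (fun χ hχ => Zu_u hχ)
    (fun g hg χ hχ => Zu_P fu hg hχ) (fun χ hχ hχ' => Zu_s fu hχ hχ') (by
      intro S hS
      refine fibre_le geo fu v hε hd g₀ S fun χ hχ => ?_
      obtain ⟨g, hg, ζ', h1, h2, rfl⟩ := hS χ hχ
      rw [← hg₀]
      exact ⟨hmult g ζ' h1 h2, (hAt ζ' h1 h2).act hg⟩)
  have hodd : ∀ x : R, Odd (orderOf x) := fun x => fu.R_odd.of_dvd_nat (orderOf_dvd_natCard x)
  have hfΩ : Finite (Pt π V) := inferInstanceAs (Finite (H ⧸ LineC.N V))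
  obtain ⟨S, hS, hS'⟩ := hyp.exists_finset
  refine ⟨S, ?_, ?_⟩
  · rw [hS]
    have h1 : Nat.card (Pt π V) = q + 1 := card_line hb h₁ hn
    have h2 : Nat.card (Zu R u Au) = mr := by rw [hζ, Nat.card_zpowers, hζo]
    rw [h1, h2]
    congr 1
  · intro ν hν
    obtain ⟨n, hni, hno, ξ, hξ, hξ1, rfl⟩ := hS' ν hν
    refine ⟨hmult n ξ hξ hξ1, ?_⟩
    have hP1 : P1t Au Atu P R ≤ P := by
      rw [P1t, Subgroup.commutator_le]
      intro a ha b hb'
      exact P.mul_mem (P.mul_mem (P.mul_mem ha.1.1.1 hb'.1.1) (P.inv_mem ha.1.1.1))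
        (P.inv_mem hb'.1.1)
    have hconj : ∀ (g : N) (x : R), ((MulAut.conjNormal (H := R) g x : R) : N) = g * x * g⁻¹ :=
      fun g x => MulAut.conjNormal_apply g x
    have hcomm : ∀ x : R, MulAut.conjNormal (H := R) u x = x ↔ Commute u (x : N) := by
      intro x
      rw [← Subtype.coe_inj, hconj, mul_inv_eq_iff_eq_mul]
      rfl
    obtain ⟨x, hx, hx'⟩ := hyp.exists_ne hodd (P₁ := {x : R | (x : N) ∈ P1t Au Atu P R}) (by
      intro x hx
      rw [hcomm] at hx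
      have hxP : (x : N) ∈ P := fu.fix_le x x.2 hx
      show ((_ : R) : N) ∈ P1t Au Atu P R
      rw [Subgroup.coe_mul, Subgroup.coe_inv, Subgroup.coe_mul, Subgroup.coe_inv, hconj,
        Subgroup.coe_mul, Subgroup.coe_inv, hconj, inv_inv]
      have hy : w⁻¹ * (x : N) * w * (x : N)⁻¹ ∈ P0 Au Atu P R := by
        have hA : ∀ A : Subgroup N, (∀ g, Commute u g → ∀ x ∈ A, g * x * g⁻¹ ∈ A) → w ∈ A →
            w⁻¹ * (x : N) * w * (x : N)⁻¹ ∈ A := by
          intro A hA hwA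
          have h1 : w⁻¹ * (x : N) * w * (x : N)⁻¹ = w⁻¹ * (x * w * (x : N)⁻¹) := by group
          rw [h1]
          exact A.mul_mem (A.inv_mem hwA) (hA x hx w hwA)
        refine ⟨⟨⟨?_, ?_⟩, hA Au fu.Au_conj hwAu⟩, hA Atu fu.Atu_conj hwAtu⟩
        · exact P.mul_mem (P.mul_mem (P.mul_mem (P.inv_mem hwP) hxP) hwP) (P.inv_mem hxP)
        · have h1 := hRn.conj_mem x x.2 w⁻¹
          rw [inv_inv] at h1
          exact R.mul_mem h1 (R.inv_mem x.2)
      have hw' : w⁻¹ ∈ P ⊓ Au ⊓ Atu :=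
        ⟨⟨P.inv_mem hwP, Au.inv_mem hwAu⟩, Atu.inv_mem hwAtu⟩
      have h1 := Subgroup.commutator_mem_commutator hw' hy
      rw [Subgroup.commutator_comm, commutatorElement_def, inv_inv] at h1
      exact h1) (fun x hx => (hcomm x).2 (fu.P_comm x (hP1 hx))) hni hno hξ hξ1
    exact ⟨x, hx, hx'⟩

end Main

end Cfsg.Agent.Classification.QDW.CaseU.Zc

namespace Cfsg.Agent.Classification.QDW.CaseU

open Cfsg Cfsg.Agent.Characters Cfsg.Agent.Classification.InvCent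

universe u

variable {N : Type u} [Group N] [Finite N] {H : Type*} [Group H] {π : N →* H} {z u₀ s₀ s₀' : H}
  {Z T T' U L₀ Tr E : Subgroup H} {t u s : N} {Au Atu P R D : Subgroup N} {r mr q m : ℕ} {ε : ℤ}
  {X : N → ℂ}

/-- **There are `(q - 1) (m_r - 1)` linear characters of `R` of multiplicity at least `m / m_r` in
`E_-` and nontrivial on `P1_t`.** -/
theorem exists_Z (geo : Geo z q ε Z T T' U s₀ s₀' u₀ L₀ Tr E r) [R.Normal] [Fintype R]
    (fu : Fu π z u₀ s₀ Tr E t u s Au Atu P R D r mr) (v : Val t u Au Atu P q ε m X)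
    (hε : ε = 1) (hd : (X 1).re ≤ (q : ℝ) ^ 2 - 1) :
    ∃ S : Finset (R →* ℂˣ), S.card = (q - 1) * (mr - 1) ∧ ∀ ν ∈ S,
      (m : ℝ) ≤ mr * (classInner (fun y : R => X y) (fun x => (ν x : ℂ))).re ∧
      ∃ x : R, (x : N) ∈ P1t Au Atu P R ∧ ν x ≠ 1 :=
  Zc.exists_Z geo fu v hε hd

end Cfsg.Agent.Classification.QDW.CaseU
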