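import Mathlib
import Cfsg.Agent.Classification.QDW.FuMain
import Cfsg.Agent.Classification.QDW.FuOrb
import Cfsg.Agent.Classification.QDW.FuZ

/-!
# Case U is impossible
-/

set_option autoImplicit false
set_option linter.unusedSectionVars false

namespace Cfsg.Agent.Classification.QDW.CaseU

open Cfsg Cfsg.Agent.Classification.InvCent

universe u v

variable {G : Type u} [Group G] [Finite G] {N : Subgroup G} {H : Type v} [Group H] {π : N →* H}
  {z u₀ s₀ s₀' : H}
  {Z T T' U L₀ Tr E : Subgroup H} {t u s : N} {Au Atu P R D : Subgroup N} {r mr q m : ℕ} {ε : ℤ}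
  {Y : G → ℂ} {c : ℤ}

/-- **Case U is impossible.** -/
theorem main (geo : Geo z q ε Z T T' U s₀ s₀' u₀ L₀ Tr E r)
    (fu : Fu π z u₀ s₀ Tr E t u s Au Atu P R D r mr) (gv : GVal Y t u Au Atu P R q ε m c)
    {h : G} (cyc : Cyc h Au Atu P R) : False := by
  have := fu.R_normal
  exact false_of_pieces geo fu gv cyc (fun X v hε hd => false_of_neg geo fu v hε hd)
    (fun {_} X v hε hd => exists_Z geo fu v hε hd)

end Cfsg.Agent.Classification.QDW.CaseU
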