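import Mathlib
import Cfsg.Agent.Classification.QDW.FuMain
import Cfsg.Agent.Classification.QDW.FldSDFull

/-!
# The values on `V × P` of the characters of `G`

`LVal`: the values of `Y` on `t g`, `g` an element of odd order of the preimage `N` of `C ≤ C(t)/O(C(t))`
mapping into the torus `T`. `gval_of_lval`: from `LVal` to `GVal`. `exists_qd`: the quasi-dihedral case.
-/

set_option autoImplicit false
set_option linter.unusedSectionVars false

namespace Cfsg.Agent.Classification.QDW.CaseU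

open Cfsg Cfsg.Agent.Classification.InvCent Cfsg.Agent.Classification.QDW.Fld
  Cfsg.Agent.Characters Cfsg.Agent.Classification.BGBlockB0 Cfsg.Agent.Classification.BGOrder

universe w v

section

variable {G : Type w} [Group G] {C : Type v} [Group C] {t : G}

/-- The values of `Y` on `t g`, `g : N` of odd order with image in `T`. -/
def LVal {N : Subgroup (Subgroup.centralizer ({t} : Set G))} (π : N →* C) (Z T : Subgroup C)
    (Y : G → ℂ) (ε : ℤ) (m : ℕ) (c : ℤ) : Prop :=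
  ∀ g : N, Odd (orderOf g) → π g ∈ T →
    (π g ∈ Z → Y (t * ((g : Subgroup.centralizer ({t} : Set G)) : G)) = c + 2 * (ε * m)) ∧
    (π g ∉ Z → Y (t * ((g : Subgroup.centralizer ({t} : Set G)) : G)) = c)

variable [Finite G]

/-- From the values at `t` to the values on `⟨t, u⟩ × P`. -/
theorem gval_of_lval {N : Subgroup (Subgroup.centralizer ({t} : Set G))} {π : N →* C}
    {Z T : Subgroup C} {Y : G → ℂ} {q m : ℕ} {ε c : ℤ} (hY : IsCharacter G Y)
    (hm : (2 * m : ℤ) = q - ε) (hL : LVal π Z T Y ε m c)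
    (h1 : (Y 1).re - (Y t).re ≤ 4 * ((q : ℝ) ^ 2 - 1))
    (h1' : ε = 1 → (Y 1).re - (Y t).re ≤ 2 * ((q : ℝ) ^ 2 - 1))
    {M : Subgroup G} {t' u : M} {Au Atu P R : Subgroup M} (ht' : (t' : G) = t) {nu ntu : G}
    (hnu : nu * t * nu⁻¹ = u) (hntu : ntu * t * ntu⁻¹ = t * u)
    (hR : ∀ y ∈ P, y ∈ R → ∃ g : N, ((g : Subgroup.centralizer ({t} : Set G)) : G) = y ∧
      Odd (orderOf g) ∧ π g ∈ Z ∧ π g ∈ T)
    (hu : ∀ y ∈ P, ∃ g : N, ((g : Subgroup.centralizer ({t} : Set G)) : G) = nu⁻¹ * y * nu ∧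
      Odd (orderOf g) ∧ π g ∈ T ∧ (y ∈ Au ↔ π g ∈ Z))
    (htu : ∀ y ∈ P, ∃ g : N, ((g : Subgroup.centralizer ({t} : Set G)) : G) = ntu⁻¹ * y * ntu ∧
      Odd (orderOf g) ∧ π g ∈ T ∧ (y ∈ Atu ↔ π g ∈ Z)) :
    GVal Y t' u Au Atu P R q ε m c := by
  have hcl : IsClassFunction G Y := Core.isCharacter_isClassFunction hY
  have key : ∀ (n v : G) (y : M) (g : N), n * t * n⁻¹ = v →
      ((g : Subgroup.centralizer ({t} : Set G)) : G) = n⁻¹ * y * n →
      Y (v * y) = Y (t * ((g : Subgroup.centralizer ({t} : Set G)) : G)) := by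
    intro n v y g hv hg
    rw [hg, ← hcl (t * (n⁻¹ * y * n)) n, ← hv]
    congr 1
    group
  refine ⟨hY, hm, ?_, ?_, ?_, ?_, ?_, ?_, ?_⟩
  · intro y hy hyR
    obtain ⟨g, hg, ho, hz, hT⟩ := hR y hy hyR
    rw [ht', ← hg]
    exact (hL g ho hT).1 hz
  · intro y hy hyA
    obtain ⟨g, hg, ho, hT, hz⟩ := hu y hy
    rw [key nu u y g hnu hg]
    exact (hL g ho hT).1 (hz.1 hyA)
  · intro y hy hyA
    obtain ⟨g, hg, ho, hT, hz⟩ := hu y hy
    rw [key nu u y g hnu hg]
    exact (hL g ho hT).2 (fun h => hyA (hz.2 h))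
  · intro y hy hyA
    obtain ⟨g, hg, ho, hT, hz⟩ := htu y hy
    rw [ht', key ntu (t * u) y g hntu hg]
    exact (hL g ho hT).1 (hz.1 hyA)
  · intro y hy hyA
    obtain ⟨g, hg, ho, hT, hz⟩ := htu y hy
    rw [ht', key ntu (t * u) y g hntu hg]
    exact (hL g ho hT).2 (fun h => hyA (hz.2 h))
  · rw [ht']
    exact h1
  · rw [ht']
    exact h1'

/-- The values, for a character of `G` with `ValN`. -/
theorem lval_of_valN {N S : Subgroup (Subgroup.centralizer ({t} : Set G))} {π : N →* C} {z : C}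
    {q m : ℕ} {ε : ℤ} {Z T T' U : Subgroup C} {s s' u : C} [Fintype G] [Fintype C]
    (H : FHyp t z N S π) (h : CHyp z q ε Z T T' U s s' u) {μ : U →* ℂˣ}
    (hm : (2 * m : ℤ) = q - ε) {X : G → ℂ} {a b c : ℤ}
    (hV : ValN h μ π X a b) (hc : a = c)
    (hab : a * (1 + ε * q) + b * (1 - ε * q) = 2 * c + 2 * (ε * q - 1)) :
    LVal π Z T X ε m c := by
  intro g ho hT
  have hε : ε * ε = 1 := h.torus.sq_sign
  have hm' : (2 : ℂ) * (ε * m) = ε * q - 1 := by
    have h1 : 2 * (ε * m) = ε * q - 1 := by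
      calc 2 * (ε * m) = ε * (2 * m) := by ring
        _ = ε * q - ε * ε := by rw [hm]; ring
        _ = _ := by rw [hε]
    exact_mod_cast congrArg (Int.cast : ℤ → ℂ) h1
  have h1 : π (tN H * g) = z * π g := by rw [map_mul, H.map_tN]
  have ho' : Odd (orderOf (π g)) := Odd.of_dvd_nat ho (orderOf_map_dvd _ _)
  have h2 := hV (tN H * g) (π g) h1 ho'
  have h3 : X (t * ((g : Subgroup.centralizer ({t} : Set G)) : G)) =
      X (((tN H * g : N) : Subgroup.centralizer ({t} : Set G)) : G) := rfl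
  constructor
  · intro hz
    rw [h3, h2, h.torus.R_Z h.base _ hz, h.torus'.R_Z h.base _ hz, hm']
    have h4 : (a : ℂ) * (1 + ε * q) + b * (1 - ε * q) = 2 * c + 2 * (ε * q - 1) := by
      exact_mod_cast congrArg (Int.cast : ℤ → ℂ) hab
    push_cast
    linear_combination h4 / 2
  · intro hz
    rw [h3, h2, h.torus.R_T h.base _ hT hz,
      Torus.R_T' h.torus' h.torus (by
        intro h5
        rcases h.torus.sign with h6 | h6 <;> omega) h.base _ hT hz, ← hc]
    ring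

theorem num_qd {q f x ε : ℤ} (hq : 3 ≤ q) (hε : ε = 1 ∨ ε = -1) (hx : x ≠ -1)
    (hB : x * (f - (ε * q) ^ 2) = -(ε * q) ^ 2 * (f - 1)) :
    (0 < f ∧ f - ε * q ≤ 4 * (q ^ 2 - 1) ∧ (ε = 1 → f - ε * q ≤ 2 * (q ^ 2 - 1))) ∨
    (0 < -1 - x ∧ -1 - x - (1 + ε * q) ≤ 4 * (q ^ 2 - 1) ∧
      (ε = 1 → -1 - x - (1 + ε * q) ≤ 2 * (q ^ 2 - 1))) := by
  have hε2 : (ε * q) ^ 2 = q ^ 2 := by
    rcases hε with rfl | rfl <;> ring
  rw [hε2] at hB
  have hQ : 9 ≤ q ^ 2 := by nlinarith
  have hQq : 3 * q ≤ q ^ 2 := by nlinarith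
  set Q := q ^ 2 with hQd
  have hab : (f - Q) * (-x - Q) = Q * (Q - 1) := by linear_combination -hB
  have hεq : -q ≤ ε * q ∧ ε * q ≤ q := by rcases hε with rfl | rfl <;> constructor <;> linarith
  by_cases h1 : Q ≤ f - Q
  · -- `b ≤ Q - 1`
    right
    have hb0 : 0 < -x - Q := by
      by_contra hcon
      push Not at hcon
      have : (f - Q) * (-x - Q) ≤ 0 := mul_nonpos_of_nonneg_of_nonpos (by linarith) hcon
      nlinarith
    have hb1 : -x - Q ≤ Q - 1 := by
      by_contra hcon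
      push Not at hcon
      have : Q * Q ≤ (f - Q) * (-x - Q) := mul_le_mul h1 (by linarith) (by linarith) (by linarith)
      nlinarith
    refine ⟨by linarith, by linarith, fun h => ?_⟩
    rw [h]
    linarith
  · by_cases h2 : f - Q ≤ -Q
    · right
      have hb0 : -x - Q < 0 := by
        by_contra hcon
        push Not at hcon
        have : (f - Q) * (-x - Q) ≤ 0 := mul_nonpos_of_nonpos_of_nonneg (by linarith) hcon
        nlinarith
      have hb1 : -(Q - 1) ≤ -x - Q := by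
        by_contra hcon
        push Not at hcon
        have : Q * Q ≤ -(f - Q) * -(-x - Q) :=
          mul_le_mul (by linarith) (by linarith) (by linarith) (by linarith)
        nlinarith
      have hx' : 0 < -1 - x := by
        rcases lt_or_eq_of_le (show 0 ≤ -1 - x by linarith) with h3 | h3
        · exact h3
        · exact absurd (by linarith) hx
      refine ⟨hx', by linarith, fun h => ?_⟩
      rw [h]
      linarith
    · left
      push Not at h1 h2
      refine ⟨by linarith, by linarith, fun h => ?_⟩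
      rw [h]
      linarith

theorem isCharacter_of_pos {X : G → ℂ} (hX : SignedIrr X) {n : ℤ} (hn : X 1 = n) (h0 : 0 < n) :
    IsCharacter G X := by
  rcases hX with h | h
  · exact Core.isIrr_isCharacter h
  · exfalso
    obtain ⟨k, hk⟩ := Core.isCharacter_apply_one (Core.isIrr_isCharacter h)
    rw [Pi.neg_apply, hn] at hk
    have h1 : -n = k := by exact_mod_cast hk
    omega

/-- **The quasi-dihedral case.** -/
theorem exists_qd {N S : Subgroup (Subgroup.centralizer ({t} : Set G))} {π : N →* C} {z : C}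
    {q m : ℕ} {ε : ℤ} {Z T T' U : Subgroup C} {s s' u : C} [Fintype G] [Fintype C]
    {M : Ideal Cfsg.AlgInt}
    (H : FHyp t z N S π) (h : CHyp z q ε Z T T' U s s' u) {μ : U →* ℂˣ}
    (hq : 3 ≤ q) (hm : (2 * m : ℤ) = q - ε) {X₂ X₃ X₄ X₅ L : G → ℂ} {f x : ℤ}
    (R : SDResN M h μ π X₂ X₃ X₄ X₅ L f x) :
    ∃ (Y : G → ℂ) (c : ℤ), (Y = X₂ ∨ Y = X₃) ∧ IsCharacter G Y ∧ LVal π Z T Y ε m c ∧
      (Y 1).re - (Y t).re ≤ 4 * ((q : ℝ) ^ 2 - 1) ∧
      (ε = 1 → (Y 1).re - (Y t).re ≤ 2 * ((q : ℝ) ^ 2 - 1)) := by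
  have hq' : (3 : ℤ) ≤ q := by exact_mod_cast hq
  have ho1 : Odd (orderOf (1 : G)) := by rw [orderOf_one]; exact odd_one
  have h3 : X₃ 1 = ((-1 - x : ℤ) : ℂ) := by
    have h1 := R.odd_P 1 ho1
    rw [R.one₄] at h1
    push_cast
    linear_combination h1
  have re2 : (X₂ 1).re - (X₂ t).re = ((f - ε * q : ℤ) : ℝ) := by
    rw [R.one₂, R.t₂, ← Complex.sub_re]
    have : (f : ℂ) - ε * q = ((f - ε * q : ℤ) : ℂ) := by push_cast; ring
    rw [this, Complex.intCast_re]
  have re3 : (X₃ 1).re - (X₃ t).re = ((-1 - x - (1 + ε * q) : ℤ) : ℝ) := by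
    rw [h3, R.t₃, ← Complex.sub_re]
    have : ((-1 - x : ℤ) : ℂ) - (1 + ε * q) = ((-1 - x - (1 + ε * q) : ℤ) : ℂ) := by
      push_cast; ring
    rw [this, Complex.intCast_re]
  rcases num_qd hq' h.eps R.x_ne R.eqB with ⟨h1, h2, h4⟩ | ⟨h1, h2, h4⟩
  · refine ⟨X₂, 1, Or.inl rfl, isCharacter_of_pos R.in₂.signedIrr R.one₂ h1,
      lval_of_valN H h hm (a := 1) (b := -1) (by
        have := R.val₂
        push_cast
        exact this) rfl (by ring), ?_, ?_⟩
    · rw [re2]
      exact_mod_cast h2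
    · intro hε
      rw [re2]
      exact_mod_cast h4 hε
  · refine ⟨X₃, 2, Or.inr rfl, isCharacter_of_pos R.in₃.signedIrr h3 h1,
      lval_of_valN H h hm (a := 2) (b := 0) (by
        have := R.val₃
        push_cast
        exact this) rfl (by ring), ?_, ?_⟩
    · rw [re3]
      exact_mod_cast h2
    · intro hε
      rw [re3]
      exact_mod_cast h4 hε

end

end Cfsg.Agent.Classification.QDW.CaseU
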