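import Mathlib
import Cfsg.Agent.Classification.QDW.FuCore
import Cfsg.Agent.Classification.QDW.FuG3
import Cfsg.Agent.Classification.QDW.FuVal
import Cfsg.Agent.Classification.QDW.FuMain2
import Cfsg.Agent.Classification.QDW.GeoE
import Cfsg.Agent.Classification.QDW.FieldSetup

/-!
# Case U is impossible: the end at the level of `G`
-/

set_option autoImplicit false
set_option linter.unusedSectionVars false

namespace Cfsg.Agent.Classification.QDW.FuEnd

open Subgroup Matrix Cfsg Cfsg.Agent.Classification.InvCent Cfsg.Agent.Walter.SylowIn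
  Cfsg.Agent.Classification.QDW.FuDichG Cfsg.Agent.Classification.QDW.FuCore
  Cfsg.Agent.Classification.QDW.CaseU Cfsg.Agent.Classification.QDW.StructQ
  Cfsg.Agent.Classification.QDW.StructMain Cfsg.Agent.Classification.QDW.GeoTorus
  Cfsg.Agent.Classification.QDW.TorusW Cfsg.Agent.Classification.QDW.TorusF

universe u v

section RPart

variable {H : Type*} [Group H]

/-- The `r`-elements of a commutative group `T`. -/
def rPart (T : Subgroup H) (hT : ∀ x ∈ T, ∀ y ∈ T, x * y = y * x) (r : ℕ) : Subgroup H where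
  carrier := {x | x ∈ T ∧ ∃ k : ℕ, x ^ r ^ k = 1}
  mul_mem' := by
    rintro x y ⟨hx, a, ha⟩ ⟨hy, b, hb⟩
    refine ⟨T.mul_mem hx hy, a + b, ?_⟩
    rw [(show Commute x y from hT x hx y hy).mul_pow, pow_add, pow_mul, ha, one_pow,
      mul_comm (r ^ a), pow_mul, hb, one_pow, mul_one]
  one_mem' := ⟨T.one_mem, 0, one_pow _⟩
  inv_mem' := by
    rintro x ⟨hx, a, ha⟩
    exact ⟨T.inv_mem hx, a, by rw [inv_pow, ha, inv_one]⟩

variable {T : Subgroup H} {hT : ∀ x ∈ T, ∀ y ∈ T, x * y = y * x} {r : ℕ}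

theorem mem_rPart {x : H} : x ∈ rPart T hT r ↔ x ∈ T ∧ ∃ k : ℕ, x ^ r ^ k = 1 := Iff.rfl

theorem rPart_le : rPart T hT r ≤ T := fun _ hx => hx.1

theorem rPart_pg : IsPGroup r (rPart T hT r) := by
  rintro ⟨x, hx, k, hk⟩
  exact ⟨k, Subtype.ext hk⟩

theorem rPart_relIndex [Finite H] (hr : r.Prime) : ¬ r ∣ (rPart T hT r).relIndex T := by
  have : Fact r.Prime := ⟨hr⟩
  obtain ⟨P⟩ : Nonempty (Sylow r T) := inferInstance
  have h1 : (P : Subgroup T) ≤ (rPart T hT r).subgroupOf T := by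
    intro x hx
    obtain ⟨k, hk⟩ := P.2 ⟨x, hx⟩
    refine mem_subgroupOf.2 ⟨x.2, k, ?_⟩
    have h2 : x ^ r ^ k = 1 := congrArg Subtype.val hk
    exact congrArg Subtype.val h2
  intro h2
  exact P.not_dvd_index (h2.trans (index_dvd_of_le h1))

end RPart

section CHyp

variable {H : Type*} [Group H] [Finite H] {z u₀ s₀ s₀' : H} {q : ℕ} {ε : ℤ} {Z T T' U : Subgroup H}

/-- The index of the torus. -/
theorem index_T (hC : CHyp z q ε Z T T' U s₀ s₀' u₀) : (T.index : ℤ) = q * (q + ε) := by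
  have h1 := T.card_mul_index
  have h2 := hC.card_T
  have h3 := hC.card_C
  have h4 : (Nat.card T : ℤ) * T.index = Nat.card Z * (q * (q ^ 2 - 1)) := by
    have h5 : 1 ≤ q ^ 2 := Nat.one_le_pow _ _ (by have := hC.one_lt_q; omega)
    rw [← Nat.cast_mul, h1, h3]
    push_cast [Nat.cast_sub h5]
    ring
  have hε : ε * ε = 1 := by rcases hC.eps with h | h <;> rw [h] <;> norm_num
  have hZ : (Nat.card Z : ℤ) ≠ 0 := by
    have : 0 < Nat.card Z := Nat.card_pos
    exact_mod_cast this.ne'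
  have hq : (q : ℤ) - ε ≠ 0 := by
    have h5 : (1 : ℤ) < q := by exact_mod_cast hC.one_lt_q
    rcases hC.eps with h | h <;> rw [h] <;> omega
  have h6 : (Nat.card Z : ℤ) * (q - ε) * (T.index - q * (q + ε)) = 0 := by
    rw [h2] at h4
    linear_combination h4 + (Nat.card Z : ℤ) * q * hε
  have h7 := (mul_eq_zero.1 h6).resolve_left (mul_ne_zero hZ hq)
  linarith

theorem rPart_index (hC : CHyp z q ε Z T T' U s₀ s₀' u₀) {r : ℕ} (hr : r.Prime) (h7 : 7 ≤ r)
    (hd : (r : ℤ) ∣ q - ε) : ¬ r ∣ (rPart T hC.T_comm r).index := by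
  rw [← relIndex_mul_index (rPart_le (hT := hC.T_comm) (r := r)), hr.dvd_mul, not_or]
  refine ⟨rPart_relIndex hr, fun h1 => ?_⟩
  have h2 : (r : ℤ) ∣ q * (q + ε) := by
    rw [← index_T hC]
    exact_mod_cast h1
  have hr' : Prime (r : ℤ) := Nat.prime_iff_prime_int.1 hr
  have hu : ∀ k : ℤ, 0 < k → k < 7 → ¬ (r : ℤ) ∣ k := by
    intro k hk hk7 h3
    have := Int.le_of_dvd hk h3
    omega
  rcases hr'.dvd_or_dvd h2 with h3 | h3
  · have h4 := dvd_sub h3 hd
    rw [sub_sub_cancel] at h4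
    rcases hC.eps with h | h
    · rw [h] at h4
      exact hu 1 (by norm_num) (by norm_num) h4
    · rw [h, dvd_neg] at h4
      exact hu 1 (by norm_num) (by norm_num) h4
  · have h4 := dvd_sub h3 hd
    rcases hC.eps with h | h
    · rw [h] at h4
      have h5 : (q : ℤ) + 1 - (q - 1) = 2 := by ring
      rw [h5] at h4
      exact hu 2 (by norm_num) (by norm_num) h4
    · rw [h] at h4
      have h5 : (q : ℤ) + -1 - (q - -1) = -2 := by ring
      rw [h5, dvd_neg] at h4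
      exact hu 2 (by norm_num) (by norm_num) h4

theorem u_notMem (hC : CHyp z q ε Z T T' U s₀ s₀' u₀) : u₀ ∉ Z := by
  intro h1
  have h2 := hC.Z_central u₀ h1 s₀
  have h3 := hC.s_u
  rw [h2, mul_inv_cancel_right] at h3
  have h4 : z = 1 := by
    have h5 : z * u₀ = 1 * u₀ := by rw [one_mul]; exact h3.symm
    exact mul_right_cancel h5
  have h5 := hC.orderOf_t
  rw [h4, orderOf_one] at h5
  omega

end CHyp

section Level

variable {G : Type u} [Group G] {M : Subgroup G} {H : Type v} [Group H] [Finite H]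
  {L : Subgroup H} [hLn : L.Normal] {F : Type*} [Field F] [Finite F]
  {e : L ≃* SpecialLinearGroup (Fin 2) F}

/-- The preimage of `H₁` in `G`. -/
noncomputable def CG (π : M →* H) (L : Subgroup H) [L.Normal] (e : L ≃* SpecialLinearGroup (Fin 2) F) :
    Subgroup G := (StructF.N π L e).map M.subtype

theorem mem_CG {π : M →* H} {x : G} : x ∈ CG π L e ↔ ∃ hx : x ∈ M, π ⟨x, hx⟩ ∈ H1 L e := by
  constructor
  · rintro ⟨y, hy, rfl⟩
    exact ⟨y.2, hy⟩
  · rintro ⟨hx, h1⟩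
    exact ⟨⟨x, hx⟩, h1, rfl⟩

theorem CG_le {π : M →* H} : CG π L e ≤ M := map_subtype_le _

/-- The projection on `H₁`. -/
noncomputable def piG (π : M →* H) (L : Subgroup H) [L.Normal] (e : L ≃* SpecialLinearGroup (Fin 2) F) :
    CG π L e →* H1 L e :=
  (π.comp (inclusion CG_le)).codRestrict (H1 L e) fun x => (mem_CG.1 x.2).2

theorem piG_apply {π : M →* H} (x : CG π L e) : (piG π L e x : H) = π ⟨x, CG_le x.2⟩ := rfl

theorem piG_surjective {π : M →* H} (h : Function.Surjective π) :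
    Function.Surjective (piG π L e) := by
  rintro ⟨y, hy⟩
  obtain ⟨m, rfl⟩ := h y
  exact ⟨⟨m, mem_CG.2 ⟨m.2, hy⟩⟩, rfl⟩

theorem KG_piG {π : M →* H} : Setup.KG (piG π L e) = Setup.KG π := by
  ext x
  rw [FuCore.mem_KG, FuCore.mem_KG]
  constructor
  · rintro ⟨hx, h1⟩
    exact ⟨CG_le hx, congrArg Subtype.val h1⟩
  · rintro ⟨hx, h1⟩
    exact ⟨mem_CG.2 ⟨hx, by rw [h1]; exact one_mem _⟩, Subtype.ext h1⟩

theorem odd_piG {π : M →* H} (h : Odd (Nat.card π.ker)) : Odd (Nat.card (piG π L e).ker) := by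
  have h1 : Nat.card (Setup.KG (piG π L e)) = Nat.card (piG π L e).ker :=
    card_map_of_injective (subtype_injective _)
  have h2 : Nat.card (Setup.KG π) = Nat.card π.ker := card_map_of_injective (subtype_injective _)
  rw [← h1, KG_piG, h2]
  exact h

end Level

section Main

variable {G : Type u} [Group G] [Finite G] {t : G} {H : Type v} [Group H] [Finite H]
  {S : Sylow 2 H} {L : Subgroup H} [hLn : L.Normal] {F : Type*} [Field F] [Finite F]
  {e : L ≃* SpecialLinearGroup (Fin 2) F} {π : Subgroup.centralizer ({t} : Set G) →* H}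
  {z u₀ s₀ s₀' : H1 L e} {q m : ℕ} {ε : ℤ} {Z T T' U : Subgroup (H1 L e)}
  {u s h : G} {uM : u ∈ Subgroup.centralizer ({t} : Set G)} {g : GL (Fin 2) F} {W : Subgroup G}

/-- The input of the `r`-local core. -/
theorem loc (hS : Setup t u s h (Subgroup.centralizer ({t} : Set G)) S L e π uM g ε W)
    (hzt : (z : H) = π (RTwo.General.tt t)) (hC : CHyp z q ε Z T T' U s₀ s₀' u₀)
    (hu : π ⟨u, uM⟩ = (u₀ : H)) {r : ℕ} (hr : r.Prime) (h7 : 7 ≤ r) :
    Loc (CG π L e) (piG π L e) z u₀ s₀ t u T (rPart T hC.T_comm r) r where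
  surj := piG_surjective hS.whyp.surj
  oddK := odd_piG hS.whyp.odd_ker
  t_mem := mem_CG.2 ⟨(RTwo.General.tt t).2, by
    have : π ⟨t, (RTwo.General.tt t).2⟩ = z := hzt.symm
    rw [this]
    exact z.2⟩
  u_mem := mem_CG.2 ⟨uM, by rw [hu]; exact u₀.2⟩
  tt := hS.tt
  uu := hS.uu
  t_comm := fun x hx => (hS.mem_M x).1 (CG_le hx)
  map_t := Subtype.ext hzt.symm
  map_u := Subtype.ext hu
  T_comm := hC.T_comm
  cent := fun c hc => hC.cent_T u₀ hC.u_mem (u_notMem hC) c hc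
  u₀_mem := hC.u_mem
  s_u := hC.s_u
  s_Tr := by
    rintro x ⟨hx, k, hk⟩
    refine ⟨hC.s_conj x hx, k, ?_⟩
    rw [conj_pow, hk, mul_one, mul_inv_cancel]
  prime := hr
  r_odd := by omega
  Tr_le := rPart_le
  Tr_pg := rPart_pg

/-- `P` is a Sylow `r`-subgroup of `W`. -/
theorem sylow_W (hS : Setup t u s h (Subgroup.centralizer ({t} : Set G)) S L e π uM g ε W)
    (hC : CHyp z q ε Z T T' U s₀ s₀' u₀)
    (hu : π ⟨u, uM⟩ = (u₀ : H)) {p n r : ℕ} (hz : Setup.Zsig hS p n r) (h7 : 7 ≤ r)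
    {s' : G} {D Rs : Subgroup G}
    (co : Core (CG π L e) (piG π L e) s₀ t u s' T (rPart T hC.T_comm r) D Rs r) :
    SylIn r (Rs ⊓ Subgroup.centralizer ({u} : Set G)) W := by
  have : Fact r.Prime := ⟨hz.prime_r⟩
  have hro : Odd r := hz.prime_r.odd_of_ne_two (by omega)
  have hPW : Rs ⊓ Subgroup.centralizer ({u} : Set G) ≤ W := by
    rintro x ⟨hx1, hx2⟩
    refine (hS.mem_W x).2 ⟨(hS.mem_M x).1 (CG_le (co.Rs_le hx1)), 
      Subgroup.mem_centralizer_singleton_iff.1 hx2, ?_⟩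
    obtain ⟨k, hk⟩ := co.Rs_pg ⟨x, hx1⟩
    have hk' : x ^ r ^ k = 1 := congrArg Subtype.val hk
    exact Odd.of_dvd_nat hro.pow (orderOf_dvd_of_pow_eq_one hk')
  have hPr : IsPGroup r (Rs ⊓ Subgroup.centralizer ({u} : Set G) : Subgroup G) :=
    co.Rs_pg.to_le inf_le_left
  obtain ⟨Q, hQ, hPQ⟩ := exists_sylIn_ge hPW hPr
  -- `Q` lies in the preimage of `Tr`
  have hQX : ∀ x ∈ Q, x * u = u * x ∧ ∃ hx : x ∈ CG π L e, piG π L e ⟨x, hx⟩ ∈
      rPart T hC.T_comm r := by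
    intro x hx
    have hxW := hQ.le hx
    obtain ⟨hxt, hxu, -⟩ := (hS.mem_W x).1 hxW
    refine ⟨hxu, ?_⟩
    have hQ' : IsPGroup r (Q.subgroupOf W) := hQ.isPGroup.comap_subtype
    have h1 := hz.map_le (Q.subgroupOf W) hQ' (mem_map_of_mem hS.pr
      (show (⟨x, hxW⟩ : W) ∈ Q.subgroupOf W from hx))
    have hxH : hS.pr ⟨x, hxW⟩ ∈ H1 L e := L_le_H1 (mem_inf.1 h1).2
    have hxC : x ∈ CG π L e := mem_CG.2 ⟨hS.W_le hxW, hxH⟩
    refine ⟨hxC, ?_, ?_⟩
    · apply hC.cent_T u₀ hC.u_mem (u_notMem hC)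
      apply Subtype.ext
      change π ⟨x, _⟩ * (u₀ : H) = u₀ * π ⟨x, _⟩
      rw [← hu, ← map_mul, ← map_mul]
      congr 1
      exact Subtype.ext hxu
    · obtain ⟨k, hk⟩ := hQ.isPGroup ⟨x, hx⟩
      refine ⟨k, ?_⟩
      have hk' : x ^ r ^ k = 1 := congrArg Subtype.val hk
      rw [← map_pow]
      have h2 : (⟨x, hxC⟩ : CG π L e) ^ r ^ k = 1 := Subtype.ext hk'
      rw [h2, map_one]
  obtain ⟨c, hcC, hcu, -, hcQ⟩ := co.conj Q hQ.isPGroup hQX
  have h1 : Q.map (MulAut.conj c).toMonoidHom ≤ Rs ⊓ Subgroup.centralizer ({u} : Set G) := by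
    rintro _ ⟨x, hx, rfl⟩
    refine ⟨hcQ x hx, Subgroup.mem_centralizer_singleton_iff.2 ?_⟩
    change c * x * c⁻¹ * u = u * (c * x * c⁻¹)
    have h2 := (hQX x hx).1
    have h3 : c⁻¹ * u = u * c⁻¹ := by
      rw [inv_mul_eq_iff_eq_mul, ← mul_assoc, hcu, mul_inv_cancel_right]
    calc c * x * c⁻¹ * u = c * x * (c⁻¹ * u) := by group
      _ = c * (x * u) * c⁻¹ := by rw [h3]; group
      _ = (c * u) * x * c⁻¹ := by rw [h2]; group
      _ = u * (c * x * c⁻¹) := by rw [hcu]; group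
  have h2 : Nat.card Q ≤ Nat.card (Rs ⊓ Subgroup.centralizer ({u} : Set G) : Subgroup G) := by
    have h3 : Nat.card (Q.map (MulAut.conj c).toMonoidHom) = Nat.card Q :=
      card_map_of_injective (MulAut.conj c).injective
    rw [← h3]
    exact Nat.le_of_dvd Nat.card_pos (card_dvd_of_le h1)
  have h3 : Rs ⊓ Subgroup.centralizer ({u} : Set G) = Q := eq_of_le_of_card_ge hPQ h2
  rw [h3]
  exact hQ

/-- The group `N = N_{C₁}(R)`. -/
def NR (C R : Subgroup G) : Subgroup G := normalizer (R : Set G) ⊓ C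

/-- **The data `Fu`.** -/
theorem fu_of (hS : Setup t u s h (Subgroup.centralizer ({t} : Set G)) S L e π uM g ε W)
    (hzt : (z : H) = π (RTwo.General.tt t)) (hC : CHyp z q ε Z T T' U s₀ s₀' u₀)
    (hu : π ⟨u, uM⟩ = (u₀ : H)) {p n r : ℕ} (hz : Setup.Zsig hS p n r) (h7 : 7 ≤ r)
    {D Rs Ku Ktu : Subgroup G}
    (co : Core (CG π L e) (piG π L e) s₀ t u s T (rPart T hC.T_comm r) D Rs r)
    {N R P : Subgroup G} (hR : R = Rs ⊓ Setup.KG (piG π L e))
    (hP : P = Rs ⊓ Subgroup.centralizer ({u} : Set G)) (hN : N = NR (CG π L e) R)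
    (gg : G3Out t u s h N D P R Ku Ktu (hS.mr r)) (hNC : N ≤ CG π L e)
    (tN : t ∈ N) (uN : u ∈ N) (sN : s ∈ N) :
    Fu ((piG π L e).comp (inclusion hNC)) z u₀ s₀ (rPart T hC.T_comm r)
      ((D.subgroupOf N).map ((piG π L e).comp (inclusion hNC))) ⟨t, tN⟩ ⟨u, uN⟩ ⟨s, sN⟩
      (Ku.subgroupOf N) (Ktu.subgroupOf N) (P.subgroupOf N) (R.subgroupOf N) (D.subgroupOf N) r
      (hS.mr r) := by
  have lo := loc hS hzt hC hu hz.prime_r h7
  have hKC : Setup.KG (piG π L e) ≤ CG π L e := map_subtype_le _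
  have hRC : R ≤ CG π L e := by
    rw [hR]; exact inf_le_left.trans co.Rs_le
  have hRn : ∀ {c : G}, c ∈ CG π L e → (∀ x, x ∈ Rs ↔ c * x * c⁻¹ ∈ Rs) →
      c ∈ normalizer (R : Set G) := by
    intro c hc h1
    rw [mem_normalizer_iff]
    intro x
    rw [hR, mem_inf, mem_inf, ← h1 x, mem_normalizer_iff.1 (lo.KG_normal hc) x]
  have hRsn : ∀ {c : G}, c ∈ Rs → ∀ x, x ∈ Rs ↔ c * x * c⁻¹ ∈ Rs := by
    intro c hc x
    constructor
    · intro hx
      exact Rs.mul_mem (Rs.mul_mem hc hx) (Rs.inv_mem hc)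
    · intro hx
      have h1 := Rs.mul_mem (Rs.mul_mem (Rs.inv_mem hc) hx) hc
      have h2 : c⁻¹ * (c * x * c⁻¹) * c = x := by group
      rwa [h2] at h1
  have hRN : R ≤ N := by
    rw [hN]
    exact le_inf le_normalizer hRC
  have hPN : P ≤ N := by
    rw [hN, hP]
    rintro x ⟨hx1, -⟩
    exact ⟨hRn (co.Rs_le hx1) (hRsn hx1), co.Rs_le hx1⟩
  have hDN : D ≤ N := by
    rw [hN]
    intro d hd
    refine ⟨hRn (co.D_le hd) fun x => ⟨fun hx => co.D_Rs d hd x hx, fun hx => ?_⟩, co.D_le hd⟩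
    have h1 := co.D_Rs d⁻¹ (D.inv_mem hd) _ hx
    have h2 : d⁻¹ * (d * x * d⁻¹) * d⁻¹⁻¹ = x := by group
    rwa [h2] at h1
  have hPR : P ⊓ R ≤ N := inf_le_left.trans hPN
  have hcu : ∀ {x : G}, x ∈ Subgroup.centralizer ({u} : Set G) ↔ x * u = u * x :=
    fun {x} => Subgroup.mem_centralizer_singleton_iff
  exact
    { surj := by
        intro y
        obtain ⟨c, hc⟩ := lo.surj y
        obtain ⟨k, hk, n, hn, hkn⟩ := co.frattini c c.2
        obtain ⟨hkC, hk1⟩ := FuCore.mem_KG.1 hk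
        have hnC : n ∈ CG π L e := by
          have h1 : n = k⁻¹ * c := by rw [hkn]; group
          rw [h1]
          exact mul_mem (inv_mem hkC) c.2
        have hnN : n ∈ N := by
          rw [hN, NR, hR]
          exact ⟨hn, hnC⟩
        refine ⟨⟨n, hnN⟩, ?_⟩
        change piG π L e ⟨n, hnC⟩ = y
        rw [← hc]
        have h1 : c = ⟨k, hkC⟩ * ⟨n, hnC⟩ := Subtype.ext hkn
        rw [h1, map_mul, hk1, one_mul]
      oddK := by
        refine Odd.of_dvd_nat lo.oddK ?_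
        have h1 : ((piG π L e).comp (inclusion hNC)).ker =
          (piG π L e).ker.comap (inclusion hNC) := rfl
        rw [h1]
        exact card_comap_dvd_of_injective _ _ (inclusion_injective _)
      prime := hz.prime_r
      r7 := h7
      mr_eq := hz.mr_eq
      R_normal := by
        apply normal_subgroupOf_of_le_normalizer
        rw [hN]
        exact inf_le_left
      R_le := by
        intro x hx
        rw [mem_subgroupOf, hR] at hx
        obtain ⟨h1, h2⟩ := FuCore.mem_KG.1 hx.2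
        exact h2
      R_pg := by
        have h1 : IsPGroup r R := by
          rw [hR]
          exact co.Rs_pg.to_le inf_le_left
        exact h1.comap_subtype
      tt := Subtype.ext hS.tt
      t_comm := fun x => Subtype.ext (lo.t_comm x (hNC x.2)).symm
      map_t := lo.map_t
      uu := Subtype.ext hS.uu
      map_u := lo.map_u
      su := Subtype.ext co.su
      map_s := co.map_s
      P_pg := by
        have h1 : IsPGroup r P := by
          rw [hP]
          exact co.Rs_pg.to_le inf_le_left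
        exact h1.comap_subtype
      P_comm := by
        intro x hx
        rw [mem_subgroupOf, hP] at hx
        exact Subtype.ext (hcu.1 hx.2).symm
      map_P := by
        ext y
        constructor
        · rintro ⟨x, hx, rfl⟩
          have hx' : (x : G) ∈ P := hx
          rw [hP] at hx'
          exact co.Rs_Tr x hx'.1 (hNC x.2)
        · intro hy
          obtain ⟨x, hx, hxu, hxC, hxy⟩ := co.P_Tr y hy
          have hxP : x ∈ P := by
            rw [hP]
            exact ⟨hx, hcu.2 hxu⟩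
          exact ⟨⟨x, hPN hxP⟩, hxP, hxy⟩
      fix_le := by
        intro x hx hux
        rw [mem_subgroupOf] at hx ⊢
        rw [hR] at hx
        rw [hP]
        exact ⟨hx.1, hcu.2 (congrArg Subtype.val hux.eq).symm⟩
      P_ker := by
        intro x hx h1
        rw [mem_subgroupOf] at hx ⊢
        rw [hP] at hx
        rw [hR]
        exact ⟨hx.1, FuCore.mem_KG.2 ⟨hNC x.2, h1⟩⟩
      s_P := by
        intro x
        rw [mem_subgroupOf, mem_subgroupOf, hP]
        change (x : G) ∈ Rs ⊓ Subgroup.centralizer ({u} : Set G) ↔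
          s * x * s⁻¹ ∈ Rs ⊓ Subgroup.centralizer ({u} : Set G)
        rw [mem_inf, mem_inf, ← co.s_Rs x]
        refine and_congr_right fun _ => ?_
        rw [hcu, hcu]
        have hst : s * t = t * s := lo.t_comm s co.s_mem
        have hxt : (x : G) * t = t * x := lo.t_comm x (hNC x.2)
        have h1 : s⁻¹ * u * s = t * u := by
          have h2 : s * (t * u) * s⁻¹ = u := by
            calc s * (t * u) * s⁻¹ = (s * t) * u * s⁻¹ := by group
              _ = t * (s * u * s⁻¹) := by rw [hst]; group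
              _ = (t * t) * u := by rw [co.su]; group
              _ = u := by rw [hS.tt, one_mul]
          calc s⁻¹ * u * s = s⁻¹ * (s * (t * u) * s⁻¹) * s := by rw [h2]
            _ = t * u := by group
        constructor
        · intro hxu
          have h3 : (x : G) * (t * u) = (t * u) * x := by
            rw [← mul_assoc, hxt, mul_assoc, hxu, mul_assoc]
          calc s * x * s⁻¹ * u = s * (x * (s⁻¹ * u * s)) * s⁻¹ := by group
            _ = s * ((s⁻¹ * u * s) * x) * s⁻¹ := by rw [h1, h3]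
            _ = u * (s * x * s⁻¹) := by group
        · intro hxu
          have h3 : (x : G) * (s⁻¹ * u * s) = (s⁻¹ * u * s) * x := by
            calc (x : G) * (s⁻¹ * u * s) = s⁻¹ * (s * x * s⁻¹ * u) * s := by group
              _ = s⁻¹ * (u * (s * x * s⁻¹)) * s := by rw [hxu]
              _ = (s⁻¹ * u * s) * x := by group
          rw [h1] at h3
          have h4 : t * ((x : G) * u) = t * (u * x) := by
            calc t * ((x : G) * u) = (t * x) * u := by group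
              _ = x * (t * u) := by rw [← hxt]; group
              _ = t * (u * x) := by rw [h3]; group
          exact mul_left_cancel h4
      t_D := co.t_D
      u_D := co.u_D
      map_D := rfl
      D_comm := fun d hd => Subtype.ext (co.D_comm d hd).symm
      D_P := by
        intro d hd x hx
        have h1 := gg.D_P d hd x hx
        exact ⟨⟨⟨h1.1.1.1, h1.1.1.2⟩, h1.1.2⟩, h1.2⟩
      Au_conj := fun g hg x hx => gg.Au_conj g g.2 (congrArg Subtype.val hg) x hx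
      Atu_conj := fun g hg x hx => gg.Atu_conj g g.2 (congrArg Subtype.val hg) x hx
      s_Au := fun x => gg.s_Au x
      s_Atu := fun x => gg.s_Atu x
      cyc_u := by
        obtain ⟨y, hy, h1⟩ := gg.cyc_u
        refine ⟨⟨y, hPN hy⟩, hy, fun x hx => ?_⟩
        obtain ⟨k, hk⟩ := h1 x hx
        exact ⟨k, hk⟩
      cyc_tu := by
        obtain ⟨y, hy, h1⟩ := gg.cyc_tu
        refine ⟨⟨y, hPN hy⟩, hy, fun x hx => ?_⟩
        obtain ⟨k, hk⟩ := h1 x hx
        exact ⟨k, hk⟩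
      cyc_t := by
        obtain ⟨y, hy, h1⟩ := gg.cyc_t
        refine ⟨⟨y, hPN hy⟩, hy, fun x hx => ?_⟩
        obtain ⟨k, hk⟩ := h1 x hx
        exact ⟨k, hk⟩
      idx_u := by
        rw [← gg.idx_u, ← relIndex_subgroupOf (H := P ⊓ Ku) hPN]
        rfl
      idx_tu := by
        rw [← gg.idx_tu, ← relIndex_subgroupOf (H := P ⊓ Ktu) hPN]
        rfl
      idx_t := by
        rw [← gg.idx_t, ← relIndex_subgroupOf (H := P ⊓ R) hPN]
        rfl
      idx_0 := by
        rw [← gg.idx_0, ← relIndex_subgroupOf (H := P ⊓ R ⊓ Ku ⊓ Ktu) hPN]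
        rfl }

/-- **Case U is impossible.** -/
theorem caseU_false (hS : Setup t u s h (Subgroup.centralizer ({t} : Set G)) S L e π uM g ε W)
    (hSy : (S : Subgroup H) ≤ H1 L e)
    (hzt : (z : H) = π (RTwo.General.tt t)) (hC : CHyp z q ε Z T T' U s₀ s₀' u₀)
    (norm₁ : ε = 1 → ∀ τ ∈ T, ∀ v ∈ U, τ * v * τ⁻¹ ∈ U) (hZ2 : ∃ k, Nat.card Z = 2 ^ k)
    (hq : Nat.card F = q) (hu : π ⟨u, uM⟩ = (u₀ : H)) {p n r : ℕ} (hz : Zs F ε p n r)
    (hU : ¬ hS.CaseS) {Y : G → ℂ} {c : ℤ} (hY : IsCharacter G Y) (hm : (2 * m : ℤ) = q - ε)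
    (hL : LVal (StructF.piN π L e) Z T Y ε m c)
    (h1 : (Y 1).re - (Y t).re ≤ 4 * ((q : ℝ) ^ 2 - 1))
    (h1' : ε = 1 → (Y 1).re - (Y t).re ≤ 2 * ((q : ℝ) ^ 2 - 1)) : False := by
  classical
  have : Fact r.Prime := ⟨hz.r_prime⟩
  have hZs : Setup.Zsig hS p n r := FieldSetup.zsig_of_zs hS hz
  have h7 : 7 ≤ r := hz.r_ge
  have hro : Odd r := hz.r_prime.odd_of_ne_two (by omega)
  have lo := loc hS hzt hC hu hz.r_prime h7
  obtain ⟨s', D, Rs, co⟩ := lo.exists_core
  have hsyl := sylow_W hS hC hu hZs h7 co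
  set P : Subgroup G := Rs ⊓ Subgroup.centralizer ({u} : Set G) with hPdef
  set R : Subgroup G := Rs ⊓ Setup.KG (piG π L e) with hRdef
  -- the element `h`
  have hn := hS.h_mem
  obtain ⟨w, hw, hwP⟩ : ∃ w ∈ W, ∀ x ∈ P, w * (h * x * h⁻¹) * w⁻¹ ∈ P := by
    have h2 : P.map (MulAut.conj h).toMonoidHom ≤ W := by
      rintro _ ⟨x, hx, rfl⟩
      exact (mem_normalizer_iff.1 hn x).1 (hsyl.le hx)
    obtain ⟨w, hw, h3⟩ := hsyl.conj_le h2 (hsyl.isPGroup.map _)
    exact ⟨w, hw, fun x hx => h3 _ ⟨x, hx, rfl⟩⟩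
  obtain ⟨hS1, hc1⟩ := Setup_mul hS hw
  obtain ⟨hS2, hc2⟩ := Setup_s hS1 (lo.t_comm s' co.s_mem) co.su
  have hU2 : ¬ hS2.CaseS := fun h2 => hU (hc1 (hc2 h2))
  have hZ2s : Setup.Zsig hS2 p n r := FieldSetup.zsig_of_zs hS2 hz
  set h' : G := w * h with hh'
  have hh'P : ∀ x ∈ P, h' * x * h'⁻¹ ∈ P := by
    intro x hx
    have h2 := hwP x hx
    have h3 : w * (h * x * h⁻¹) * w⁻¹ = h' * x * h'⁻¹ := by rw [hh']; group
    rwa [h3] at h2
  -- `h'` normalises `P`
  have hh'P' : ∀ x ∈ P, h'⁻¹ * x * h' ∈ P := by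
    have h2 : P.map (MulAut.conj h').toMonoidHom = P := by
      apply eq_of_le_of_card_ge
      · rintro _ ⟨x, hx, rfl⟩
        exact hh'P x hx
      · have h3 : Nat.card (P.map (MulAut.conj h').toMonoidHom) = Nat.card P :=
          card_map_of_injective (MulAut.conj h').injective
        rw [h3]
    intro x hx
    rw [← h2] at hx
    obtain ⟨y, hy, rfl⟩ := hx
    have h3 : h'⁻¹ * ((MulAut.conj h').toMonoidHom y) * h' = y := by
      change h'⁻¹ * (h' * y * h'⁻¹) * h' = y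
      group
    rw [h3]
    exact hy
  -- `N`
  have hNC : NR (CG π L e) R ≤ CG π L e := inf_le_right
  have hCM : CG π L e ≤ Subgroup.centralizer ({t} : Set G) := CG_le
  have hRle : R ≤ CG π L e := inf_le_left.trans co.Rs_le
  have hRn : ∀ {c : G}, c ∈ CG π L e → (∀ x, x ∈ Rs ↔ c * x * c⁻¹ ∈ Rs) →
      c ∈ NR (CG π L e) R := by
    intro c hc h2
    refine ⟨?_, hc⟩
    change c ∈ normalizer (R : Set G)
    rw [mem_normalizer_iff]
    intro x
    rw [hRdef, mem_inf, mem_inf, ← h2 x, mem_normalizer_iff.1 (lo.KG_normal hc) x]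
  have hDn : ∀ {d : G}, d ∈ D → d ∈ NR (CG π L e) R := by
    intro d hd
    refine hRn (co.D_le hd) fun x => ⟨fun hx => co.D_Rs d hd x hx, fun hx => ?_⟩
    have h2 := co.D_Rs d⁻¹ (D.inv_mem hd) _ hx
    have h3 : d⁻¹ * (d * x * d⁻¹) * d⁻¹⁻¹ = x := by group
    rwa [h3] at h2
  have tN := hDn co.t_D
  have uN := hDn co.u_D
  have sN : s' ∈ NR (CG π L e) R := hRn co.s_mem co.s_Rs
  have hPC : P ≤ CG π L e := inf_le_left.trans co.Rs_le
  have hPu : ∀ {x : G}, x ∈ P → x * u = u * x := fun {x} hx =>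
    Subgroup.mem_centralizer_singleton_iff.1 hx.2
  have hodd : Odd (H1 L e).index := by
    rw [← Nat.not_even_iff_odd, even_iff_two_dvd]
    intro h2
    have : Fact (Nat.Prime 2) := ⟨Nat.prime_two⟩
    exact S.not_dvd_index (h2.trans (Subgroup.index_dvd_of_le hSy))
  have gg : G3Out t u s' h' (NR (CG π L e) R) D P R (cj h' (Setup.KG π))
      (cj (h' ^ 2) (Setup.KG π)) (hS2.mr r) := by
    refine g3 hS2 hZ2s hU2 (hNC.trans hCM) (co.D_le.trans hCM) co.D_comm co.D_two hsyl.le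
      hsyl.isPGroup hsyl.not_dvd ?_ ?_ hh'P hodd ?_
    · rintro d hd x ⟨hx1, hx2⟩
      refine ⟨co.D_Rs d hd x hx1, Subgroup.mem_centralizer_singleton_iff.2 ?_⟩
      have h2 := Subgroup.mem_centralizer_singleton_iff.1 hx2
      have h3 : Commute (d * x * d⁻¹) u :=
        ((show Commute d u from co.D_comm d hd).mul_left (show Commute x u from h2)).mul_left
          (show Commute d u from co.D_comm d hd).inv_left
      exact h3.eq
    · intro x hx
      rw [hRdef, mem_inf, KG_piG]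
      exact ⟨fun h2 => h2.2, fun h2 => ⟨hx.1, h2⟩⟩
    · intro a ha b hb hau hbu
      rw [hu] at hau hbu
      have h2 : ∀ x : H, ∀ hx : x ∈ H1 L e, x * u₀ = u₀ * x → (⟨x, hx⟩ : H1 L e) ∈ T :=
        fun x hx hxu => hC.cent_T u₀ hC.u_mem (u_notMem hC) _ (Subtype.ext hxu)
      exact congrArg Subtype.val (hC.T_comm _ (h2 a ha hau) _ (h2 b hb hbu))
  -- `Fu`
  have fu := fu_of hS2 hzt hC hu hZ2s h7 co hRdef hPdef rfl gg hNC tN uN sN
  -- `Geo`
  have hd : (r : ℤ) ∣ q - ε := by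
    have h2 := hz.dvd
    rw [← hq, hz.card_F]
    push_cast
    exact h2
  have hET : (D.subgroupOf (NR (CG π L e) R)).map ((piG π L e).comp (inclusion hNC)) ≤ T := by
    rintro _ ⟨d, hd', rfl⟩
    exact co.D_T d hd' (hNC d.2)
  have geo : Geo z q ε Z T T' U s₀ s₀' u₀ (L1 L e) (rPart T hC.T_comm r)
      ((D.subgroupOf (NR (CG π L e) R)).map ((piG π L e).comp (inclusion hNC))) r := by
    refine GeoE.geo hC norm₁ hZ2 (FieldRes.base_res hS.whyp.base hSy) FieldRes.mem_H1_res hq hz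
      rPart_le rPart_pg (rPart_index hC hz.r_prime h7 hd) hET ?_
    rintro x hx hx2
    obtain ⟨d, hd', hdC, hdx⟩ := co.T_D x hx hx2
    exact ⟨⟨d, hDn hd'⟩, hd', hdx⟩
  -- elements of `P` as elements of `N₁`
  have hPg : ∀ y ∈ P, ∃ g : StructF.N π L e, ((g : Subgroup.centralizer ({t} : Set G)) : G) = y ∧
      Odd (orderOf g) ∧ StructF.piN π L e g ∈ T ∧ (y ∈ Setup.KG π ↔ StructF.piN π L e g ∈ Z) := by
    intro y hy
    obtain ⟨hyM, hy1⟩ := mem_CG.1 (hPC hy)
    refine ⟨⟨⟨y, hyM⟩, hy1⟩, rfl, ?_, ?_, ?_⟩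
    · obtain ⟨k, hk⟩ := hsyl.isPGroup ⟨y, hy⟩
      have hk' : y ^ r ^ k = 1 := congrArg Subtype.val hk
      refine Odd.of_dvd_nat (hro.pow (n := k)) (orderOf_dvd_of_pow_eq_one ?_)
      exact Subtype.ext (Subtype.ext hk')
    · exact rPart_le (co.Rs_Tr y hy.1 (hPC hy))
    · have h2 := co.Rs_Tr y hy.1 (hPC hy)
      obtain ⟨-, k, hk⟩ := h2
      rw [FuCore.mem_KG]
      constructor
      · rintro ⟨h3, h4⟩
        have h5 : StructF.piN π L e ⟨⟨y, hyM⟩, hy1⟩ = 1 := Subtype.ext h4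
        rw [h5]
        exact one_mem _
      · intro h3
        refine ⟨hyM, ?_⟩
        obtain ⟨j, hj⟩ := hZ2
        have h4 : (StructF.piN π L e ⟨⟨y, hyM⟩, hy1⟩) ^ 2 ^ j = 1 := by
          rw [← hj]
          exact congrArg Subtype.val (pow_card_eq_one' (x := (⟨_, h3⟩ : Z)))
        have h5 : (StructF.piN π L e ⟨⟨y, hyM⟩, hy1⟩) ^ r ^ k = 1 := hk
        have h6 : Nat.Coprime (2 ^ j) (r ^ k) := by
          refine Nat.Coprime.pow _ _ ?_
          exact Nat.coprime_two_left.2 hro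
        have h7 := Nat.dvd_gcd (orderOf_dvd_of_pow_eq_one h4) (orderOf_dvd_of_pow_eq_one h5)
        rw [h6] at h7
        have h8 := orderOf_eq_one_iff.1 (Nat.dvd_one.1 h7)
        exact congrArg Subtype.val h8
  -- `GVal`
  have hKu : ∀ c : G, (∀ x ∈ P, c⁻¹ * x * c ∈ P) → ∀ y : NR (CG π L e) R,
      y ∈ P.subgroupOf (NR (CG π L e) R) → ∃ g : StructF.N π L e,
        ((g : Subgroup.centralizer ({t} : Set G)) : G) = c⁻¹ * y * c ∧ Odd (orderOf g) ∧
        StructF.piN π L e g ∈ T ∧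
        (y ∈ (cj c (Setup.KG π)).subgroupOf (NR (CG π L e) R) ↔ StructF.piN π L e g ∈ Z) := by
    intro c hc y hy
    obtain ⟨g, h2, h3, h4, h5⟩ := hPg _ (hc y hy)
    refine ⟨g, h2, h3, h4, ?_⟩
    rw [← h5, mem_subgroupOf, mem_cj]
  have hh2 : ∀ x ∈ P, (h' ^ 2)⁻¹ * x * h' ^ 2 ∈ P := by
    intro x hx
    have h2 := hh'P' _ (hh'P' x hx)
    have h3 : h'⁻¹ * (h'⁻¹ * x * h') * h' = (h' ^ 2)⁻¹ * x * h' ^ 2 := by
      rw [pow_two]; group
    rwa [h3] at h2
  have hntu : h' ^ 2 * t * (h' ^ 2)⁻¹ = t * u := by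
    calc h' ^ 2 * t * (h' ^ 2)⁻¹ = h' * (h' * t * h'⁻¹) * h'⁻¹ := by rw [pow_two]; group
      _ = t * u := by rw [hS2.ht, hS2.hu]
  have gv : GVal Y ⟨t, tN⟩ ⟨u, uN⟩ ((cj h' (Setup.KG π)).subgroupOf (NR (CG π L e) R))
      ((cj (h' ^ 2) (Setup.KG π)).subgroupOf (NR (CG π L e) R))
      (P.subgroupOf (NR (CG π L e) R)) (R.subgroupOf (NR (CG π L e) R)) q ε m c := by
    refine gval_of_lval hY hm hL h1 h1' rfl (nu := h') (ntu := h' ^ 2) hS2.ht hntu ?_
      (hKu h' hh'P') (hKu (h' ^ 2) hh2)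
    intro y hy hyR
    obtain ⟨g, h2, h3, h4, h5⟩ := hPg y hy
    have hyK : (y : G) ∈ Setup.KG π := by
      have h6 : (y : G) ∈ Rs ⊓ Setup.KG (piG π L e) := hyR
      have h7 := h6.2
      rwa [KG_piG] at h7
    exact ⟨g, h2, h3, h5.1 hyK, h4⟩
  -- `Cyc`
  have hPN : P ≤ NR (CG π L e) R := by
    intro x hx
    refine hRn (hPC hx) fun y => ⟨fun hy => ?_, fun hy => ?_⟩
    · exact Rs.mul_mem (Rs.mul_mem hx.1 hy) (Rs.inv_mem hx.1)
    · have h2 := Rs.mul_mem (Rs.mul_mem (Rs.inv_mem hx.1) hy) hx.1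
      have h3 : x⁻¹ * (x * y * x⁻¹) * x = y := by group
      rwa [h3] at h2
  have cyc : Cyc h' ((cj h' (Setup.KG π)).subgroupOf (NR (CG π L e) R))
      ((cj (h' ^ 2) (Setup.KG π)).subgroupOf (NR (CG π L e) R))
      (P.subgroupOf (NR (CG π L e) R)) (R.subgroupOf (NR (CG π L e) R)) := by
    refine ⟨?_, ?_, ?_, ?_⟩
    · intro x hx
      exact ⟨⟨h' * x * h'⁻¹, hPN (gg.h_P x hx)⟩, gg.h_P x hx, rfl⟩
    · intro x hx hxR y hy
      rw [mem_subgroupOf, hy]
      exact gg.h_t x hx hxR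
    · intro x hx hxR y hy
      rw [mem_subgroupOf, hy]
      exact gg.h_u x hx hxR
    · intro x hx hxR y hy
      rw [mem_subgroupOf, hy]
      exact gg.h_tu x hx hxR
  exact CaseU.main geo fu gv cyc

end Main

end Cfsg.Agent.Classification.QDW.FuEnd
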