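import Mathlib
import Cfsg.Agent.Classification.QDW.FuEnd
import Cfsg.Agent.Classification.QDW.FldWrValU
import Cfsg.Agent.Classification.QDW.FldWrChi
import Cfsg.Agent.Classification.QDW.InstC
import Cfsg.Agent.Classification.QDW.InstModelW

/-!
# Case U is impossible: quasi-dihedral and wreathed
-/

set_option autoImplicit false
set_option linter.unusedSectionVars false

namespace Cfsg.Agent.Classification.QDW.FuApp

open Subgroup Matrix Cfsg Cfsg.Agent.Classification.InvCent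
  Cfsg.Agent.Classification.QDW.FuDichG Cfsg.Agent.Classification.QDW.Fld
  Cfsg.Agent.Classification.QDW.CaseU Cfsg.Agent.Classification.QDW.StructQ
  Cfsg.Agent.Classification.QDW.StructMain Cfsg.Agent.Classification.QDW.GeoTorus
  Cfsg.Agent.Classification.QDW.InstC Cfsg.Agent.Classification.QDW.InstModelW
  Cfsg.Agent.Blocks.Local Cfsg.Agent.Blocks.Basic

universe u v

variable {G : Type u} [Group G] [Fintype G] {t : G} {H : Type v} [Group H] [Finite H]
  {S : Sylow 2 H} {L : Subgroup H} [hLn : L.Normal] {F : Type*} [Field F] [Finite F]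
  {e : L ≃* SpecialLinearGroup (Fin 2) F} {π : Subgroup.centralizer ({t} : Set G) →* H}
  {z u₀ s₀ s₀' : H1 L e} {q : ℕ} {ε : ℤ} {Z T T' U : Subgroup (H1 L e)}
  {u s h : G} {uM : u ∈ Subgroup.centralizer ({t} : Set G)} {g : GL (Fin 2) F} {W : Subgroup G}
  {Sy : Subgroup (Subgroup.centralizer ({t} : Set G))}

omit [Fintype G] in
theorem exists_m (hC : CHyp z q ε Z T T' U s₀ s₀' u₀) : ∃ m : ℕ, (2 * m : ℤ) = q - ε := by
  obtain ⟨k, hk⟩ := hC.odd_q
  rcases hC.eps with h | h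
  · exact ⟨k, by rw [h, hk]; push_cast; ring⟩
  · exact ⟨k + 1, by rw [h, hk]; push_cast; ring⟩

theorem coe_z (hf : FHyp t z (StructF.N π L e) Sy (StructF.piN π L e)) :
    (z : H) = π (RTwo.General.tt t) := by
  have h1 := congrArg Subtype.val hf.map_t
  rw [StructF.piN_apply] at h1
  exact h1.symm

/-- **Case U is impossible**, quasi-dihedral. -/
theorem caseU_qd [Fintype (H1 L e)] (hf : FHyp t z (StructF.N π L e) Sy (StructF.piN π L e))
    (hS : Setup t u s h (Subgroup.centralizer ({t} : Set G)) S L e π uM g ε W)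
    (hSy : (S : Subgroup H) ≤ H1 L e) {b : H1 L e →* ℂˣ}
    (hD : CData z q ε Z T T' U s₀ s₀' u₀ b) (hq : Nat.card F = q) (hu : π ⟨u, uM⟩ = (u₀ : H))
    {p n r : ℕ} (hz : Zs F ε p n r) (hU : ¬ hS.CaseS) {M : Ideal AlgInt} {μ : U →* ℂˣ}
    {X₂ X₃ X₄ X₅ L' : G → ℂ} {f x : ℤ}
    (R : SDResN M hD.chyp μ (StructF.piN π L e) X₂ X₃ X₄ X₅ L' f x) : False := by
  obtain ⟨m, hm⟩ := exists_m hD.chyp
  have h27 := FieldSetup.card_ge hz
  rw [hq] at h27
  obtain ⟨Y, c, -, hY, hL, h1, h1'⟩ := exists_qd hf hD.chyp (by omega) hm R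
  exact FuEnd.caseU_false hS hSy (coe_z hf) hD.chyp hD.norm₁ ⟨1, by rw [hD.card_Z, pow_one]⟩ hq hu
    hz hU hY hm hL h1 h1'

/-- **Case U is impossible**, wreathed. -/
theorem caseU_wr [Fintype (H1 L e)] (hf : FHyp t z (StructF.N π L e) Sy (StructF.piN π L e))
    (hS : Setup t u s h (Subgroup.centralizer ({t} : Set G)) S L e π uM g ε W)
    (hSy : (S : Subgroup H) ≤ H1 L e) {b : H1 L e →* ℂˣ} {k : ℕ}
    (hD : WData z q ε Z T T' U s₀ s₀' u₀ (2 ^ k) b) (hq : Nat.card F = q)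
    (hu : π ⟨u, uM⟩ = (u₀ : H))
    {p n r : ℕ} (hz : Zs F ε p n r) (hU : ¬ hS.CaseS) {M : Ideal AlgInt}
    (hM : IsPModular 2 M) : False := by
  obtain ⟨m, hm⟩ := exists_m hD.chyp
  have h27 := FieldSetup.card_ge hz
  rw [hq] at h27
  obtain ⟨μ, hμ⟩ := hD.chyp.base.exists_mu
  obtain ⟨χ, -, h1, h2, h3, -⟩ := FldWrChi.exists_chi_QS hf hM hD.chyp hD.det hD.four (by omega) hμ
  have hL : LVal (StructF.piN π L e) Z T (χ : G → ℂ) ε m 2 := by
    intro g hg hT
    exact FldWrValU.wr_lval hf hD.chyp hm h3 g hg hT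
  have h4 : ((χ : G → ℂ) 1).re - ((χ : G → ℂ) t).re = (q : ℝ) ^ 2 - 1 := by
    rw [h1, h2, ← Complex.sub_re]
    have h5 : (q : ℂ) ^ 2 + ε * q - (1 + ε * q) = (((q : ℝ) ^ 2 - 1 : ℝ) : ℂ) := by
      push_cast; ring
    rw [h5, Complex.ofReal_re]
  have h5 : (0 : ℝ) ≤ (q : ℝ) ^ 2 - 1 := by
    have : (27 : ℝ) ≤ q := by exact_mod_cast h27
    nlinarith
  exact FuEnd.caseU_false hS hSy (coe_z hf) hD.chyp (fun hε => (hD.norm.pos hε))
    ⟨k, hD.card_Z⟩ hq hu hz hU (Cfsg.Agent.Characters.Core.isIrr_isCharacter χ.2) hm hL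
    (by rw [h4]; linarith) (fun _ => by rw [h4]; linarith)

end Cfsg.Agent.Classification.QDW.FuApp
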