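import Mathlib
import Cfsg.Agent.Classification.QDW.FldExt
import Cfsg.Agent.Classification.QDW.FldTwist
import Cfsg.Agent.Classification.QDW.FldWrValU
import Cfsg.Agent.Classification.QDW.WrInst
import Cfsg.Agent.Classification.QDW.WrThree
import Cfsg.Agent.S0147

/-!
# The wreathed case with field automorphisms: an identity of induced functions

`V = ⟨t, a⟩` a four-group, `A = C(V)`, `κ₁ κ₂ κ₃ : A → ℂˣ` trivial on the elements of odd order,
permuted by `g : t ↔ a`, `w : a ↦ t a`, `P = 3 - κ₁ ^ n - κ₂ ^ n - κ₃ ^ n`.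

* `indFun_sym`: the function induced from `1_{a ∈ ⟨x⟩} λ P` is induced from the generalized
  character `λ (1 - κ₁ ^ n)`;
* `indFun_twist`: transitivity, with a twist by a class function;
* `isGeneralized_FIndL`: the twisted lift of `1_{z ∈ ⟨c⟩} a(c)` is a generalized character.
-/

set_option autoImplicit false
set_option linter.unusedSectionVars false

open Cfsg
open scoped ComplexConjugate

namespace Cfsg.Agent.Classification.QDW.WrFInt

open Cfsg.Agent.Characters Cfsg.Agent.Classification.BGIsometry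
  Cfsg.Agent.Classification.QDW.WrThree

universe v w

section Sym

variable {G : Type v} [Group G]

theorem zpowers_conj_iff {x v m : G} :
    m * v * m⁻¹ ∈ Subgroup.zpowers (m * x * m⁻¹) ↔ v ∈ Subgroup.zpowers x := by
  constructor
  · intro h
    have h1 := conj_mem_zpowers m⁻¹ h
    have e1 : m⁻¹ * (m * v * m⁻¹) * m⁻¹⁻¹ = v := by group
    have e2 : m⁻¹ * (m * x * m⁻¹) * m⁻¹⁻¹ = x := by group
    rwa [e1, e2] at h1
  · exact conj_mem_zpowers m

variable [Fintype G]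

/-- Induction is invariant under conjugation. -/
theorem indFun_conj (A : Subgroup G) {h : G} (hA : ∀ x, h * x * h⁻¹ ∈ A ↔ x ∈ A) {φ φ' : A → ℂ}
    (hφ : ∀ x y : A, (y : G) = h * x * h⁻¹ → φ' y = φ x) : indFun A φ' = indFun A φ := by
  funext y
  rw [Brauer.indFun_apply, Brauer.indFun_apply]
  congr 1
  refine Fintype.sum_equiv (Equiv.mulRight h) _ _ fun x => ?_
  have e1 : (Equiv.mulRight h x)⁻¹ * y * (Equiv.mulRight h x) = h⁻¹ * (x⁻¹ * y * x) * h := by
    rw [Equiv.coe_mulRight]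
    group
  rw [e1]
  generalize x⁻¹ * y * x = m
  have e2 : h * (h⁻¹ * m * h) * h⁻¹ = m := by group
  by_cases hm : m ∈ A
  · have hm' : h⁻¹ * m * h ∈ A := (hA _).1 (by rwa [e2])
    rw [Brauer.extendByZero_mem A _ hm, Brauer.extendByZero_mem A _ hm']
    exact hφ ⟨_, hm'⟩ ⟨m, hm⟩ e2.symm
  · have hm' : h⁻¹ * m * h ∉ A := fun h1 => hm (by rw [← e2]; exact (hA _).2 h1)
    rw [Brauer.extendByZero_notMem A _ hm, Brauer.extendByZero_notMem A _ hm']

/-- Transitivity of induction, with a twist. -/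
theorem indFun_twist {K : Subgroup G} [Fintype K] {A : Subgroup G} (hAK : A ≤ K)
    {B : Subgroup K} (hB : ∀ x : K, x ∈ B ↔ (x : G) ∈ A) {Λ : K → ℂ} (hΛ : IsClassFunction K Λ)
    {θ : B → ℂ} {θ' : A → ℂ} (hθ : ∀ (x : B) (y : A), (y : G) = ((x : K) : G) →
      Λ (x : K) * θ x = θ' y) :
    indFun K (fun x => Λ x * indFun B θ x) = indFun A θ' := by
  obtain rfl : B = A.subgroupOf K := by
    ext x
    rw [hB, Subgroup.mem_subgroupOf]
  have h1 := Brauer.indFun_mul (A.subgroupOf K) θ Λ hΛ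
  have h2 : (fun x => Λ x * indFun (A.subgroupOf K) θ x) = indFun (A.subgroupOf K) θ * Λ := by
    funext x
    rw [Pi.mul_apply, mul_comm]
  have h3 : (fun h : A.subgroupOf K => θ h * Λ (h : K)) =
      fun x : A.subgroupOf K => θ' ⟨((x : K) : G), Subgroup.mem_subgroupOf.mp x.2⟩ := by
    funext x
    rw [← hθ x ⟨((x : K) : G), Subgroup.mem_subgroupOf.mp x.2⟩ rfl, mul_comm]
  rw [h2, h1, h3]
  exact S0147.result A K hAK θ'

variable {t a g w : G}

/-- The centralizer of the four-group. -/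
abbrev AA (t a : G) : Subgroup G :=
  Subgroup.centralizer ({t} : Set G) ⊓ Subgroup.centralizer ({a} : Set G)

omit [Fintype G] in
theorem mem_AA {x : G} : x ∈ AA t a ↔ InM t a x := by
  unfold AA InM
  rw [Subgroup.mem_inf, Subgroup.mem_centralizer_singleton_iff,
    Subgroup.mem_centralizer_singleton_iff]

omit [Fintype G] in
theorem AA_g (h : Fr t a g w) (x : G) : g * x * g⁻¹ ∈ AA t a ↔ x ∈ AA t a := by
  rw [mem_AA, mem_AA]
  constructor
  · intro h1
    have h2 := h.symm.inM_g h1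
    have e1 : g⁻¹ * (g * x * g⁻¹) * g⁻¹⁻¹ = x := by group
    rwa [e1] at h2
  · exact h.inM_g

omit [Fintype G] in
theorem AA_w (h : Fr t a g w) (x : G) : w * x * w⁻¹ ∈ AA t a ↔ x ∈ AA t a := by
  rw [mem_AA, mem_AA]
  constructor
  · intro h1
    have h2 := h.symm.inM_w h1
    have e1 : w⁻¹ * (w * x * w⁻¹) * w⁻¹⁻¹ = x := by group
    rwa [e1] at h2
  · exact h.inM_w

/-- The hypotheses on the characters `κ₁`, `κ₂`, `κ₃` of `C(⟨t, a⟩)`. -/
structure KHyp (t a g w : G) (κ₁ κ₂ κ₃ : AA t a →* ℂˣ) : Prop where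
  odd : ∀ x : AA t a, Odd (orderOf x) → κ₁ x = 1 ∧ κ₂ x = 1 ∧ κ₃ x = 1
  g_conj : ∀ x y : AA t a, (y : G) = g * x * g⁻¹ → κ₁ y = κ₃ x ∧ κ₃ y = κ₁ x ∧ κ₂ y = κ₂ x
  w_conj : ∀ x y : AA t a, (y : G) = w * x * w⁻¹ → κ₁ y = κ₂ x ∧ κ₂ y = κ₁ x ∧ κ₃ y = κ₃ x

/-- `P = 3 - κ₁ ^ n - κ₂ ^ n - κ₃ ^ n`. -/
noncomputable def PP {A : Subgroup G} (κ₁ κ₂ κ₃ : A →* ℂˣ) (n : ℕ) (x : A) : ℂ :=
  3 - (κ₁ x : ℂ) ^ n - (κ₂ x : ℂ) ^ n - (κ₃ x : ℂ) ^ n

open Classical in
/-- **The symmetrisation.** -/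
theorem indFun_sym (h : Fr t a g w) (hinv : ∀ x ∈ AA t a, x * x = 1 → x = 1 ∨ x = t ∨ x = a ∨
      x = t * a) {κ₁ κ₂ κ₃ : AA t a →* ℂˣ} (hκ : KHyp t a g w κ₁ κ₂ κ₃) {Λ : AA t a → ℂ}
    (hΛ : ∀ x y : AA t a, IsConj (x : G) (y : G) → Λ x = Λ y) (n : ℕ) :
    indFun (AA t a) (fun x => if a ∈ Subgroup.zpowers (x : G) then Λ x * PP κ₁ κ₂ κ₃ n x else 0) =
      indFun (AA t a) (fun x => Λ x * (1 - (κ₁ x : ℂ) ^ n)) := by
  have hΛc : ∀ {m : G} {x y : AA t a}, (y : G) = m * x * m⁻¹ → Λ y = Λ x := fun {m x y} e =>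
    hΛ y x (isConj_iff.2 ⟨m⁻¹, by rw [e]; group⟩)
  have hPg : ∀ {x y : AA t a}, (y : G) = g * x * g⁻¹ → PP κ₁ κ₂ κ₃ n y = PP κ₁ κ₂ κ₃ n x := by
    intro x y e
    obtain ⟨h1, h2, h3⟩ := hκ.g_conj x y e
    unfold PP
    rw [h1, h2, h3]
    ring
  have hPw : ∀ {x y : AA t a}, (y : G) = w * x * w⁻¹ → PP κ₁ κ₂ κ₃ n y = PP κ₁ κ₂ κ₃ n x := by
    intro x y e
    obtain ⟨h1, h2, h3⟩ := hκ.w_conj x y e
    unfold PP
    rw [h1, h2, h3]
    ring
  -- the three functions
  set F : G → AA t a → ℂ := fun v x =>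
    if v ∈ Subgroup.zpowers (x : G) then Λ x * PP κ₁ κ₂ κ₃ n x else 0 with hF
  have e1 : indFun (AA t a) (F a) = indFun (AA t a) (F t) := by
    refine indFun_conj _ (AA_g h) fun x y hy => ?_
    simp only [hF]
    rw [hΛc hy, hPg hy, hy]
    have h1 : a ∈ Subgroup.zpowers (g * (x : G) * g⁻¹) ↔ t ∈ Subgroup.zpowers (x : G) := by
      rw [← zpowers_conj_iff (m := g) (v := t), h.gt]
    simp only [h1]
  have e2 : indFun (AA t a) (F (t * a)) = indFun (AA t a) (F a) := by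
    refine indFun_conj _ (AA_w h) fun x y hy => ?_
    simp only [hF]
    rw [hΛc hy, hPw hy, hy]
    have h1 : t * a ∈ Subgroup.zpowers (w * (x : G) * w⁻¹) ↔ a ∈ Subgroup.zpowers (x : G) := by
      rw [← zpowers_conj_iff (m := w) (v := a), h.wa]
    simp only [h1]
  -- their sum
  have hsum : F a + F t + F (t * a) = fun x => Λ x * PP κ₁ κ₂ κ₃ n x := by
    funext x
    simp only [hF, Pi.add_apply]
    by_cases ho : Odd (orderOf x)
    · obtain ⟨h1, h2, h3⟩ := hκ.odd x ho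
      have h4 : PP κ₁ κ₂ κ₃ n x = 0 := by
        unfold PP
        rw [h1, h2, h3, Units.val_one, one_pow]
        norm_num
      rw [h4, mul_zero]
      simp
    · rw [Nat.not_odd_iff_even] at ho
      obtain ⟨k, hk⟩ := ho
      have hpos : 0 < orderOf x := orderOf_pos x
      have hkpos : 0 < k := by omega
      have hj1 : (x : G) ^ k * (x : G) ^ k = 1 := by
        rw [← pow_add, ← hk, ← Subgroup.orderOf_coe, pow_orderOf_eq_one]
      have hj2 : (x : G) ^ k ≠ 1 := by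
        intro h1
        have h2 := orderOf_dvd_of_pow_eq_one h1
        rw [Subgroup.orderOf_coe, hk] at h2
        have := Nat.le_of_dvd hkpos h2
        omega
      have hjm : (x : G) ^ k ∈ Subgroup.zpowers (x : G) := Subgroup.npow_mem_zpowers _ _
      have huniq : ∀ v : G, v * v = 1 → v ≠ 1 → v ∈ Subgroup.zpowers (x : G) → v = (x : G) ^ k :=
        fun v h1 h2 h3 => eq_of_zpowers h3 hjm h1 hj1 h2 hj2
      have hmem : ∀ v : G, (x : G) ^ k = v → v ∈ Subgroup.zpowers (x : G) := by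
        intro v hv
        subst hv
        exact hjm
      have hta := h.ta_ne
      have hane := h.a_ne
      have htne := h.t_ne
      have htaa : t * a ≠ a := fun h1 => htne (by simpa using h1)
      have htat : t * a ≠ t := fun h1 => hane (by simpa using h1)
      rcases hinv _ (pow_mem x.2 k) hj1 with h1 | h1 | h1 | h1
      · exact absurd h1 hj2
      · have n1 : t ∈ Subgroup.zpowers (x : G) := hmem _ h1
        have n2 : a ∉ Subgroup.zpowers (x : G) := fun h2 =>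
          h.ne ((h1.symm.trans (huniq a h.aa hane h2).symm))
        have n3 : t * a ∉ Subgroup.zpowers (x : G) := fun h2 =>
          htat ((huniq _ h.ta_sq hta h2).trans h1)
        rw [if_neg n2, if_pos n1, if_neg n3]
        ring
      · have n1 : a ∈ Subgroup.zpowers (x : G) := hmem _ h1
        have n2 : t ∉ Subgroup.zpowers (x : G) := fun h2 =>
          h.ne ((huniq t h.tt htne h2).trans h1)
        have n3 : t * a ∉ Subgroup.zpowers (x : G) := fun h2 =>
          htaa ((huniq _ h.ta_sq hta h2).trans h1)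
        rw [if_pos n1, if_neg n2, if_neg n3]
        ring
      · have n1 : t * a ∈ Subgroup.zpowers (x : G) := hmem _ h1
        have n2 : t ∉ Subgroup.zpowers (x : G) := fun h2 =>
          htat (h1.symm.trans (huniq t h.tt htne h2).symm)
        have n3 : a ∉ Subgroup.zpowers (x : G) := fun h2 =>
          htaa (h1.symm.trans (huniq a h.aa hane h2).symm)
        rw [if_neg n3, if_neg n2, if_pos n1]
        ring
  -- the three characters
  set D₁ : AA t a → ℂ := fun x => Λ x * (1 - (κ₁ x : ℂ) ^ n) with hD₁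
  set D₂ : AA t a → ℂ := fun x => Λ x * (1 - (κ₂ x : ℂ) ^ n) with hD₂
  set D₃ : AA t a → ℂ := fun x => Λ x * (1 - (κ₃ x : ℂ) ^ n) with hD₃
  have e3 : indFun (AA t a) D₃ = indFun (AA t a) D₁ := by
    refine indFun_conj _ (AA_g h) fun x y hy => ?_
    simp only [hD₃, hD₁]
    rw [hΛc hy, (hκ.g_conj x y hy).2.1]
  have e4 : indFun (AA t a) D₂ = indFun (AA t a) D₁ := by
    refine indFun_conj _ (AA_w h) fun x y hy => ?_
    simp only [hD₂, hD₁]
    rw [hΛc hy, (hκ.w_conj x y hy).2.1]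
  have e5 : (fun x => Λ x * PP κ₁ κ₂ κ₃ n x) = D₁ + D₂ + D₃ := by
    funext x
    simp only [hD₁, hD₂, hD₃, Pi.add_apply, PP]
    ring
  have e6 : indFun (AA t a) (F a) + indFun (AA t a) (F t) + indFun (AA t a) (F (t * a)) =
      indFun (AA t a) D₁ + indFun (AA t a) D₂ + indFun (AA t a) D₃ := by
    rw [← Brauer.indFun_add, ← Brauer.indFun_add, hsum, e5, Brauer.indFun_add, Brauer.indFun_add]
  rw [e3, e4, e2, ← e1] at e6
  funext y
  have e7 := congrFun e6 y
  simp only [Pi.add_apply] at e7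
  have e8 : (3 : ℂ) * indFun (AA t a) (F a) y = 3 * indFun (AA t a) D₁ y := by
    linear_combination e7
  exact mul_left_cancel₀ (by norm_num) e8

/-- The right-hand side is a generalized character. -/
theorem isGeneralized_D {κ₁ : AA t a →* ℂˣ} {Λ : AA t a → ℂ} (hΛ : IsCharacter (AA t a) Λ) (n : ℕ) :
    IsGeneralizedCharacter G (indFun (AA t a) (fun x => Λ x * (1 - (κ₁ x : ℂ) ^ n))) := by
  refine Brauer.isGeneralizedCharacter_indFun _ ⟨Λ, fun x => Λ x * (κ₁ x : ℂ) ^ n, hΛ, ?_, ?_⟩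
  · refine Core.isCharacter_mul hΛ ?_
    have h1 : (fun x : AA t a => (κ₁ x : ℂ) ^ n) = fun x => ((κ₁ ^ n : AA t a →* ℂˣ) x : ℂ) := by
      funext x
      rw [MonoidHom.pow_apply, Units.val_pow_eq_pow_val]
    change IsCharacter (AA t a) (fun x : AA t a => (κ₁ x : ℂ) ^ n)
    rw [h1]
    exact Linear.isCharacter_hom _
  · funext x
    simp only [Pi.sub_apply]
    ring

end Sym

section Local

open Cfsg.Agent.Classification.BGBlockB0 Cfsg.Agent.Classification.InvCent
  Cfsg.Agent.Classification.QDW.Fld Cfsg.Agent.Classification.InvCent.WrFun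

variable {G : Type v} [Group G] {t a : G}

theorem mem_AA_of {y : Subgroup.centralizer ({t} : Set G)} {aΓ : Subgroup.centralizer ({t} : Set G)}
    (ha : (aΓ : G) = a) (hy : y ∈ Subgroup.centralizer ({aΓ} : Set (Subgroup.centralizer
      ({t} : Set G)))) : (y : G) ∈ AA t a := by
  rw [mem_AA]
  refine ⟨Subgroup.mem_centralizer_singleton_iff.1 y.2, ?_⟩
  rw [← ha]
  exact congrArg Subtype.val (Subgroup.mem_centralizer_singleton_iff.1 hy)

/-- `P` on `C_Γ(a)`. -/
noncomputable def pp (κ₁ κ₂ κ₃ : AA t a →* ℂˣ) (n : ℕ)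
    {aΓ : Subgroup.centralizer ({t} : Set G)} (ha : (aΓ : G) = a)
    (y : Subgroup.centralizer ({aΓ} : Set (Subgroup.centralizer ({t} : Set G)))) : ℂ :=
  PP κ₁ κ₂ κ₃ n ⟨((y : Subgroup.centralizer ({t} : Set G)) : G), mem_AA_of ha y.2⟩

variable {κ₁ κ₂ κ₃ : AA t a →* ℂˣ} {n : ℕ} {aΓ : Subgroup.centralizer ({t} : Set G)}

theorem pp_conj (ha : (aΓ : G) = a)
    (y k : Subgroup.centralizer ({aΓ} : Set (Subgroup.centralizer ({t} : Set G)))) :
    pp κ₁ κ₂ κ₃ n ha (k * y * k⁻¹) = pp κ₁ κ₂ κ₃ n ha y := by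
  unfold pp PP
  have e1 : (⟨(((k * y * k⁻¹ : Subgroup.centralizer ({aΓ} : Set (Subgroup.centralizer
      ({t} : Set G)))) : Subgroup.centralizer ({t} : Set G)) : G),
      mem_AA_of ha (k * y * k⁻¹).2⟩ : AA t a) =
      ⟨_, mem_AA_of ha k.2⟩ * ⟨_, mem_AA_of ha y.2⟩ * (⟨_, mem_AA_of ha k.2⟩)⁻¹ := rfl
  have e2 : ∀ κ : AA t a →* ℂˣ, κ (⟨_, mem_AA_of ha k.2⟩ * ⟨_, mem_AA_of ha y.2⟩ *
      (⟨_, mem_AA_of ha k.2⟩)⁻¹) = κ ⟨_, mem_AA_of ha y.2⟩ := by
    intro κ
    rw [map_mul, map_mul, map_inv, mul_comm (κ _) (κ _), mul_inv_cancel_right]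
  rw [e1, e2, e2, e2]

/-- `P` does not see the part of odd order. -/
theorem pp_mul_odd {g w : G} (hκ : KHyp t a g w κ₁ κ₂ κ₃) (ha : (aΓ : G) = a)
    (c y : Subgroup.centralizer ({aΓ} : Set (Subgroup.centralizer ({t} : Set G))))
    (hy : Odd (orderOf y)) : pp κ₁ κ₂ κ₃ n ha (c * y) = pp κ₁ κ₂ κ₃ n ha c := by
  unfold pp PP
  have e1 : (⟨(((c * y : Subgroup.centralizer ({aΓ} : Set (Subgroup.centralizer
      ({t} : Set G)))) : Subgroup.centralizer ({t} : Set G)) : G),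
      mem_AA_of ha (c * y).2⟩ : AA t a) =
      ⟨_, mem_AA_of ha c.2⟩ * ⟨_, mem_AA_of ha y.2⟩ := rfl
  have ho : Odd (orderOf (⟨_, mem_AA_of ha y.2⟩ : AA t a)) := by
    rw [Subgroup.orderOf_mk, Subgroup.orderOf_coe, Subgroup.orderOf_coe]
    exact hy
  obtain ⟨h1, h2, h3⟩ := hκ.odd _ ho
  rw [e1, map_mul, map_mul, map_mul, h1, h2, h3, mul_one, mul_one, mul_one]

end Local

section Main

open Cfsg.Agent.Classification.BGBlockB0 Cfsg.Agent.Classification.InvCent
  Cfsg.Agent.Classification.QDW.Fld Cfsg.Agent.Classification.InvCent.WrFun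
  Cfsg.Agent.Classification.InvCent.LinChar Cfsg.Agent.Classification.InvCent.WrChar
  Cfsg.Agent.Characters.GaloisBasic

variable {G : Type v} [Group G] [Fintype G] {C : Type w} [Group C] [Fintype C] {t : G} {z : C}
  {N S : Subgroup (Subgroup.centralizer ({t} : Set G))} {π : N →* C} {M : Ideal AlgInt}
  {q : ℕ} {ε : ℤ} {Z T T' U : Subgroup C} {s s' u : C} {r : ℕ} {b : C →* ℂˣ}
  {hC : CHyp z q ε Z T T' U s s' u} {a : G} {aN : N}

/-- Commuting involutions of `N` with the same image are equal. -/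
theorem eq_of_map (H : FHyp t z N S π) {x y : N} (hx : x * x = 1) (hy : y * y = 1)
    (hc : Commute x y) (h : π x = π y) : x = y := by
  have h1 : x * y = 1 := by
    refine H.eq_one_of_ker (x := x * y) (m := 1) ?_ ?_
    · rw [map_mul, h, ← map_mul, hy, map_one]
    · rw [pow_one, hc.mul_pow, sq, sq, hx, hy, one_mul]
  rw [eq_inv_of_mul_eq_one_left h1]
  exact inv_eq_of_mul_eq_one_left hy

theorem sq_of_u (haa : a * a = 1)
    (haN : ((aN : Subgroup.centralizer ({t} : Set G)) : G) = a) : aN * aN = 1 := by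
  refine Subtype.ext (Subtype.ext ?_)
  change ((aN : Subgroup.centralizer ({t} : Set G)) : G) *
    ((aN : Subgroup.centralizer ({t} : Set G)) : G) = 1
  rw [haN, haa]

/-- The elements of `N` centralising `a` are mapped into `T`. -/
theorem map_mem_T (hC : CHyp z q ε Z T T' U s s' u)
    (haN : ((aN : Subgroup.centralizer ({t} : Set G)) : G) = a) (hau : π aN = u) {x : N}
    (hx : ((x : Subgroup.centralizer ({t} : Set G)) : G) ∈ AA t a) : π x ∈ T := by
  have h1 : x * aN = aN * x := by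
    refine Subtype.ext (Subtype.ext ?_)
    change ((x : Subgroup.centralizer ({t} : Set G)) : G) *
      ((aN : Subgroup.centralizer ({t} : Set G)) : G) = _ *
      ((x : Subgroup.centralizer ({t} : Set G)) : G)
    rw [haN]
    exact (mem_AA.1 hx).2
  refine hC.cent_T u hC.u_mem hC.u_notMem_Z _ ?_
  rw [← hau, ← map_mul, h1, map_mul]

/-- The involutions of `C(⟨t, a⟩)`. -/
theorem invol_AA (H : FHyp t z N S π) (hC : CHyp z q ε Z T T' U s s' u) (haa : a * a = 1)
    (haN : ((aN : Subgroup.centralizer ({t} : Set G)) : G) = a) (hau : π aN = u) {x : G}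
    (hx : x ∈ AA t a) (hxx : x * x = 1) : x = 1 ∨ x = t ∨ x = a ∨ x = t * a := by
  have hxΓ : x ∈ Subgroup.centralizer ({t} : Set G) := hx.1
  have hxN : (⟨x, hxΓ⟩ : Subgroup.centralizer ({t} : Set G)) ∈ N :=
    FldWrValU.mem_N_of_sq H (Subtype.ext hxx)
  set y : N := ⟨⟨x, hxΓ⟩, hxN⟩ with hy
  have hyx : ((y : Subgroup.centralizer ({t} : Set G)) : G) = x := rfl
  have hyy : y * y = 1 := Subtype.ext (Subtype.ext hxx)
  have haNN := sq_of_u (t := t) haa haN
  have hcom : Commute y aN := by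
    refine Subtype.ext (Subtype.ext ?_)
    change x * ((aN : Subgroup.centralizer ({t} : Set G)) : G) = _ * x
    rw [haN]
    exact (mem_AA.1 hx).2
  have hT : π y ∈ T := map_mem_T hC haN hau (x := y) hx
  rcases hC.invol_T _ hT (by rw [← map_mul, hyy, map_one]) with h1 | h1 | h1 | h1
  · left
    have h2 : y = 1 := eq_of_map H hyy (one_mul 1) (Commute.one_right y) (by rw [h1, map_one])
    rw [← hyx, h2]
    rfl
  · right; left
    have h2 : y = tN H := eq_of_map H hyy H.tN_mul_tN (H.tN_comm y).symm (by rw [h1, H.map_tN])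
    rw [← hyx, h2]
    rfl
  · right; right; left
    have h2 : y = aN := eq_of_map H hyy haNN hcom (by rw [h1, hau])
    rw [← hyx, h2, haN]
  · right; right; right
    have h3 : Commute (tN H) aN := H.tN_comm aN
    have h2 : y = tN H * aN := by
      refine eq_of_map H hyy ?_ ((H.tN_comm y).symm.mul_right hcom) ?_
      · rw [← sq, h3.mul_pow, sq, sq, H.tN_mul_tN, haNN, one_mul]
      · rw [h1, map_mul, H.map_tN, hau]
    rw [← hyx, h2, ← haN]
    rfl

open Classical in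
/-- The function on `Γ`. -/
noncomputable def betaF (κ₁ κ₂ κ₃ : AA t a →* ℂˣ) (n : ℕ)
    {aΓ : Subgroup.centralizer ({t} : Set G)} (ha : (aΓ : G) = a)
    (y : Subgroup.centralizer ({aΓ} : Set (Subgroup.centralizer ({t} : Set G)))) : ℂ :=
  if aΓ ∈ Subgroup.zpowers (y : Subgroup.centralizer ({t} : Set G)) then
    pp κ₁ κ₂ κ₃ n ha y else 0

theorem betaF_class {κ₁ κ₂ κ₃ : AA t a →* ℂˣ} {n : ℕ}
    {aΓ : Subgroup.centralizer ({t} : Set G)} (ha : (aΓ : G) = a) :
    IsClassFunction _ (betaF κ₁ κ₂ κ₃ n ha) := by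
  intro y k
  unfold betaF
  rw [pp_conj]
  have h1 : aΓ ∈ Subgroup.zpowers ((k * y * k⁻¹ : Subgroup.centralizer ({aΓ} : Set
      (Subgroup.centralizer ({t} : Set G)))) : Subgroup.centralizer ({t} : Set G)) ↔
      aΓ ∈ Subgroup.zpowers (y : Subgroup.centralizer ({t} : Set G)) := by
    have h2 : (k : Subgroup.centralizer ({t} : Set G)) * aΓ *
        (k : Subgroup.centralizer ({t} : Set G))⁻¹ = aΓ := by
      rw [Subgroup.mem_centralizer_singleton_iff.1 k.2, mul_inv_cancel_right]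
    have h3 := zpowers_conj_iff (x := (y : Subgroup.centralizer ({t} : Set G))) (v := aΓ)
      (m := (k : Subgroup.centralizer ({t} : Set G)))
    rw [h2] at h3
    exact h3
  simp only [h1]

theorem betaF_supp {κ₁ κ₂ κ₃ : AA t a →* ℂˣ} {n : ℕ}
    {aΓ : Subgroup.centralizer ({t} : Set G)} (ha : (aΓ : G) = a) :
    Supp aΓ (betaF κ₁ κ₂ κ₃ n ha) := by
  intro y hy
  by_contra h1
  exact hy (if_neg h1)

open Classical in
/-- The restriction of the function induced from `C_Γ(a)` to `N`. -/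
theorem ind_res (H : FHyp t z N S π) [Fintype (Subgroup.centralizer ({t} : Set G))]
    (haa : a * a = 1) (hne : t ≠ a)
    (haN : ((aN : Subgroup.centralizer ({t} : Set G)) : G) = a) (hau : π aN = u)
    {κ₁ κ₂ κ₃ : AA t a →* ℂˣ} {ξ : T →* ℂˣ}
    (hκ : ∀ (x : N) (hx : ((x : Subgroup.centralizer ({t} : Set G)) : G) ∈ AA t a),
      ∃ hT : π x ∈ T, κ₁ ⟨_, hx⟩ = ξ ⟨π x, hT⟩ ∧ κ₂ ⟨_, hx⟩ = ξ (sg hC.torus ⟨π x, hT⟩) ∧
        κ₃ ⟨_, hx⟩ * b (π x) = 1) (hbr : ∀ c, b c ^ r = 1) {m : ℕ} (hm : m < r)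
    {α φ : C → ℂ} (hαc : IsClassFunction C α) (hαo : ∀ c, Odd (orderOf c) → α c = 0)
    (hαT : ∀ c (hc : c ∈ T), u ∈ Subgroup.zpowers c → α c = 3 - (b c : ℂ) ^ m -
      (ξ ⟨c, hc⟩ : ℂ) ^ (r - m) - (ξ (sg hC.torus ⟨c, hc⟩) : ℂ) ^ (r - m))
    (hφ : ∀ c, φ c = if z ∈ Subgroup.zpowers c then α c else 0) (x : N) :
    indFun (Subgroup.centralizer ({(aN : Subgroup.centralizer ({t} : Set G))} :
      Set (Subgroup.centralizer ({t} : Set G)))) (betaF κ₁ κ₂ κ₃ (r - m) haN)
        (x : Subgroup.centralizer ({t} : Set G)) = (α - φ) (π x) := by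
  have haNN := sq_of_u (t := t) haa haN
  have haN1 : aN ≠ 1 := by
    rintro rfl
    rw [map_one] at hau
    exact hC.u_notMem_Z (by rw [← hau]; exact one_mem Z)
  have hord : orderOf (aN : Subgroup.centralizer ({t} : Set G)) = 2 := by
    rw [Subgroup.orderOf_coe]
    exact orderOf_eq_prime (by rw [sq, haNN]) haN1
  by_cases hz : z ∈ Subgroup.zpowers (π x)
  · rw [Pi.sub_apply, hφ, if_pos hz, sub_self]
    refine indFun_eq_zero (betaF_supp haN) fun y hy => ?_
    have h1 : RTwo.General.tt t ∈ Subgroup.zpowers (x : Subgroup.centralizer ({t} : Set G)) :=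
      H.mem_zpowers_Γ.1 (H.mem_zpowers_map.2 hz)
    have h2 := conj_mem_zpowers y⁻¹ h1
    rw [H.tt_conj, inv_inv] at h2
    have h3 : orderOf (RTwo.General.tt t) = 2 :=
      orderOf_eq_prime (by rw [sq, H.tt_mul_tt]) fun h3 => H.t_ne_one (congrArg Subtype.val h3)
    have h4 := eq_of_mem_zpowers h3 hord h2 hy
    apply hne
    rw [← haN, ← h4]
    rfl
  · by_cases ho : Odd (orderOf (π x))
    · rw [Pi.sub_apply, hαo _ ho, hφ, if_neg hz, sub_zero]
      refine indFun_eq_zero_of_odd hord (betaF_supp haN) ?_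
      rw [Subgroup.orderOf_coe]
      have h1 : (⟨x ^ orderOf (π x), by
          rw [MonoidHom.mem_ker, map_pow, pow_orderOf_eq_one]⟩ : π.ker) ^ Nat.card π.ker = 1 :=
        pow_card_eq_one'
      have h2 : (x ^ orderOf (π x)) ^ Nat.card π.ker = 1 := congrArg Subtype.val h1
      rw [← pow_mul] at h2
      exact (ho.mul H.odd_ker).of_dvd_nat (orderOf_dvd_of_pow_eq_one h2)
    · rw [Nat.not_odd_iff_even] at ho
      have ho' : Even (orderOf x) := by
        obtain ⟨c, hc⟩ := orderOf_map_dvd π x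
        rw [hc]
        exact ho.mul_right c
      obtain ⟨k, hk⟩ := ho'
      have hpos : 0 < orderOf x := orderOf_pos x
      have hkpos : 0 < k := by omega
      have hj1 : x ^ k * x ^ k = 1 := by rw [← pow_add, ← hk, pow_orderOf_eq_one]
      have hj2 : x ^ k ≠ 1 := by
        intro h1
        have h2 := Nat.le_of_dvd hkpos (orderOf_dvd_of_pow_eq_one h1)
        omega
      have hπj : π (x ^ k) ≠ 1 := fun h1 =>
        hj2 (H.eq_one_of_ker h1 (m := 1) (by rw [pow_one, sq]; exact hj1))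
      have hnI : π (x ^ k) ∈ nInv z := by
        rw [mem_nInv]
        refine ⟨orderOf_eq_prime (by rw [sq, ← map_mul, hj1, map_one]) hπj, fun h1 => hz ?_⟩
        rw [← h1, map_pow]
        exact Subgroup.npow_mem_zpowers _ _
      obtain ⟨c, hc⟩ := hC.nInv_isConj hnI
      obtain ⟨d, rfl⟩ := H.surj c
      obtain ⟨e, he1, he2⟩ := WrInst.exists_conj H.odd_ker (x := d * x ^ k * d⁻¹) (y := aN)
        (by
          have h1 : d * x ^ k * d⁻¹ * (d * x ^ k * d⁻¹) = d * (x ^ k * x ^ k) * d⁻¹ := by group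
          rw [h1, hj1]; group) haNN
        (by rw [map_mul, map_mul, map_inv, ← hc, hau]; group)
      -- the conjugate
      set x' : N := (e * d) * x * (e * d)⁻¹ with hx'
      have hmem : aN ∈ Subgroup.zpowers x' := by
        refine Subgroup.mem_zpowers_iff.2 ⟨k, ?_⟩
        rw [zpow_natCast, hx', conj_pow, ← he2]
        group
      have hmemΓ : (aN : Subgroup.centralizer ({t} : Set G)) ∈
          Subgroup.zpowers (x' : Subgroup.centralizer ({t} : Set G)) := by
        obtain ⟨i, hi⟩ := Subgroup.mem_zpowers_iff.1 hmem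
        exact Subgroup.mem_zpowers_iff.2 ⟨i, congrArg Subtype.val hi⟩
      have hu : u ∈ Subgroup.zpowers (π x') := by
        obtain ⟨i, hi⟩ := Subgroup.mem_zpowers_iff.1 hmem
        exact Subgroup.mem_zpowers_iff.2 ⟨i, by rw [← map_zpow, hi, hau]⟩
      have hcen := mem_centralizer_of_mem_zpowers hmemΓ
      have hA : ((x' : Subgroup.centralizer ({t} : Set G)) : G) ∈ AA t a := mem_AA_of haN hcen
      have e1 : indFun (Subgroup.centralizer ({(aN : Subgroup.centralizer ({t} : Set G))} :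
          Set (Subgroup.centralizer ({t} : Set G)))) (betaF κ₁ κ₂ κ₃ (r - m) haN)
          (x : Subgroup.centralizer ({t} : Set G)) = indFun (Subgroup.centralizer
          ({(aN : Subgroup.centralizer ({t} : Set G))} :
          Set (Subgroup.centralizer ({t} : Set G)))) (betaF κ₁ κ₂ κ₃ (r - m) haN)
          (x' : Subgroup.centralizer ({t} : Set G)) := by
        have h1 := Brauer.indFun_isClassFunction (Subgroup.centralizer
          ({(aN : Subgroup.centralizer ({t} : Set G))} :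
          Set (Subgroup.centralizer ({t} : Set G)))) (betaF κ₁ κ₂ κ₃ (r - m) haN)
          (x : Subgroup.centralizer ({t} : Set G)) ((e * d : N) :
            Subgroup.centralizer ({t} : Set G))
        rw [← h1]
        rfl
      have e2 : (α - φ) (π x) = α (π x') := by
        rw [Pi.sub_apply, hφ, if_neg hz, sub_zero, hx', map_mul, map_mul, map_inv, hαc]
      obtain ⟨hT, k1, k2, k3⟩ := hκ x' hA
      rw [e1, e2, hαT _ hT hu]
      have e3 := indFun_eq hord (betaF_class (κ₁ := κ₁) (κ₂ := κ₂) (κ₃ := κ₃) (n := r - m) haN)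
        (betaF_supp haN)
        (h := (⟨x', hcen⟩ : Subgroup.centralizer
          ({(aN : Subgroup.centralizer ({t} : Set G))} :
          Set (Subgroup.centralizer ({t} : Set G))))) hmemΓ
      refine e3.trans ?_
      have e4 : betaF κ₁ κ₂ κ₃ (r - m) haN (⟨x', hcen⟩ : Subgroup.centralizer
          ({(aN : Subgroup.centralizer ({t} : Set G))} :
          Set (Subgroup.centralizer ({t} : Set G)))) =
          PP κ₁ κ₂ κ₃ (r - m) ⟨_, hA⟩ := if_pos hmemΓ
      have e5 : (κ₃ ⟨_, hA⟩ : ℂ) ^ (r - m) = (b (π x') : ℂ) ^ m := by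
        have h1 : (κ₃ ⟨_, hA⟩ : ℂ) * (b (π x') : ℂ) = 1 := by
          rw [← Units.val_mul, k3, Units.val_one]
        have h2 : (b (π x') : ℂ) ^ r = 1 := by
          rw [← Units.val_pow_eq_pow_val, hbr, Units.val_one]
        have h3 : (b (π x') : ℂ) ^ (r - m) * (b (π x') : ℂ) ^ m = 1 := by
          rw [← pow_add, Nat.sub_add_cancel hm.le, h2]
        have h4 : (κ₃ ⟨_, hA⟩ : ℂ) ^ (r - m) * (b (π x') : ℂ) ^ (r - m) = 1 := by
          rw [← mul_pow, h1, one_pow]
        calc (κ₃ ⟨_, hA⟩ : ℂ) ^ (r - m) = (κ₃ ⟨_, hA⟩ : ℂ) ^ (r - m) *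
            ((b (π x') : ℂ) ^ (r - m) * (b (π x') : ℂ) ^ m) := by rw [h3, mul_one]
          _ = ((κ₃ ⟨_, hA⟩ : ℂ) ^ (r - m) * (b (π x') : ℂ) ^ (r - m)) *
            (b (π x') : ℂ) ^ m := by ring
          _ = _ := by rw [h4, one_mul]
      rw [e4, PP, k1, k2, e5]
      ring

/-- The canonical lift of `(α - φ) ∘ π` is the function induced from `C_Γ(a)`. -/
theorem hat_eq [Fintype (Subgroup.centralizer ({t} : Set G))] (H : FHyp t z N S π)
    (hM : IsPModular 2 M) {f : C → ℂ} (hf : Prin M f)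
    {R : Subgroup.centralizer ({t} : Set G) → ℂ} (hR : Prin M R)
    (h0 : ∀ x : N, R (x : Subgroup.centralizer ({t} : Set G)) = f (π x)) :
    hat M N (fun x => f (π x)) = R := by
  have h1 := FldExt.AD.eq_zero H.ad hM (D := hat M N (fun x => f (π x)) - R)
    (Prin.sub (blockPart_hat M _) hR) (fun n => by
      rw [Pi.sub_apply, H.ad.hat_res hM, h0, sub_eq_zero]
      exact congrFun (Prin.comp hM H.surj hf) n)
  exact sub_eq_zero.1 h1

variable [N.Normal] {l : Subgroup.centralizer ({t} : Set G) ⧸ N →* ℂ}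

open Classical in
/-- **The identity of induced functions.** -/
theorem FIndL_eq (H : FHyp t z N S π) (hM : IsPModular 2 M) {g w : G} (hF : Fr t a g w)
    (haN : ((aN : Subgroup.centralizer ({t} : Set G)) : G) = a) (hau : π aN = u)
    {κ₁ κ₂ κ₃ : AA t a →* ℂˣ} (hK : KHyp t a g w κ₁ κ₂ κ₃) {ξ : T →* ℂˣ}
    (hκ : ∀ (x : N) (hx : ((x : Subgroup.centralizer ({t} : Set G)) : G) ∈ AA t a),
      ∃ hT : π x ∈ T, κ₁ ⟨_, hx⟩ = ξ ⟨π x, hT⟩ ∧ κ₂ ⟨_, hx⟩ = ξ (sg hC.torus ⟨π x, hT⟩) ∧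
        κ₃ ⟨_, hx⟩ * b (π x) = 1) (hbr : ∀ c, b c ^ r = 1)
    (hfus : ∀ x y : Subgroup.centralizer ({t} : Set G), IsConj (x : G) (y : G) →
      lamFun N l x = lamFun N l y) {m : ℕ} (hm : m < r)
    {α φ : C → ℂ} (hα : Prin M α) (hφP : Prin M φ) (hαo : ∀ c, Odd (orderOf c) → α c = 0)
    (hαT : ∀ c (hc : c ∈ T), u ∈ Subgroup.zpowers c → α c = 3 - (b c : ℂ) ^ m -
      (ξ ⟨c, hc⟩ : ℂ) ^ (r - m) - (ξ (sg hC.torus ⟨c, hc⟩) : ℂ) ^ (r - m))
    (hφ : ∀ c, φ c = if z ∈ Subgroup.zpowers c then α c else 0)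
    (hA3 : ∀ [Fintype (Subgroup.centralizer ({t} : Set G))], Prin M (indFun (Subgroup.centralizer
      ({(aN : Subgroup.centralizer ({t} : Set G))} :
      Set (Subgroup.centralizer ({t} : Set G)))) (betaF κ₁ κ₂ κ₃ (r - m) haN))) :
    FIndL M l π (α - φ) = indFun (AA t a) (fun x => lamFun N l ⟨x, x.2.1⟩ *
      (1 - (κ₁ x : ℂ) ^ (r - m))) := by
  let _ : Fintype (Subgroup.centralizer ({t} : Set G)) := Fintype.ofFinite _
  have haa : a * a = 1 := hF.aa
  have h1 := hat_eq H hM (hα.sub hφP) hA3 (ind_res (hC := hC) H haa hF.ne haN hau hκ hbr hm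
    hα.isClass hαo hαT hφ)
  unfold FIndL
  rw [h1, ← indFun_sym hF (fun x hx hxx => invol_AA H hC haa haN hau hx hxx) hK
    (Λ := fun x => lamFun N l ⟨x, x.2.1⟩) (fun x y hxy => hfus _ _ hxy) (r - m)]
  refine indFun_twist (A := AA t a) inf_le_left (fun x => ?_) (lamFun_isClassFunction l) ?_
  · rw [mem_AA, Subgroup.mem_centralizer_singleton_iff]
    constructor
    · intro h2
      refine ⟨Subgroup.mem_centralizer_singleton_iff.1 x.2, ?_⟩
      rw [← haN]
      exact congrArg Subtype.val h2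
    · intro h2
      refine Subtype.ext ?_
      rw [← haN] at h2
      exact h2.2
  · rintro x y hxy
    have e1 : (⟨(y : G), y.2.1⟩ : Subgroup.centralizer ({t} : Set G)) = (x :
        Subgroup.centralizer ({t} : Set G)) := Subtype.ext hxy
    have e2 : a ∈ Subgroup.zpowers (y : G) ↔ (aN : Subgroup.centralizer ({t} : Set G)) ∈
        Subgroup.zpowers (x : Subgroup.centralizer ({t} : Set G)) := by
      rw [hxy, ← haN]
      constructor
      · intro h2
        obtain ⟨i, hi⟩ := Subgroup.mem_zpowers_iff.1 h2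
        exact Subgroup.mem_zpowers_iff.2 ⟨i, Subtype.ext hi⟩
      · intro h2
        obtain ⟨i, hi⟩ := Subgroup.mem_zpowers_iff.1 h2
        exact Subgroup.mem_zpowers_iff.2 ⟨i, congrArg Subtype.val hi⟩
    have e3 : pp κ₁ κ₂ κ₃ (r - m) haN x = PP κ₁ κ₂ κ₃ (r - m) y := by
      unfold pp
      congr 1
      exact Subtype.ext hxy.symm
    simp only [e1, e2]
    unfold betaF
    split_ifs with h2
    · rw [e3]
    · rw [mul_zero]

/-- **The twisted lift of `φ = 1_{z ∈ ⟨c⟩} α` is a generalized character.** -/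
theorem isGeneralized_FIndL_of (H : FHyp t z N S π) (hM : IsPModular 2 M) {g w : G}
    (hF : Fr t a g w)
    (haN : ((aN : Subgroup.centralizer ({t} : Set G)) : G) = a) (hau : π aN = u)
    {κ₁ κ₂ κ₃ : AA t a →* ℂˣ} (hK : KHyp t a g w κ₁ κ₂ κ₃) {ξ : T →* ℂˣ}
    (hκ : ∀ (x : N) (hx : ((x : Subgroup.centralizer ({t} : Set G)) : G) ∈ AA t a),
      ∃ hT : π x ∈ T, κ₁ ⟨_, hx⟩ = ξ ⟨π x, hT⟩ ∧ κ₂ ⟨_, hx⟩ = ξ (sg hC.torus ⟨π x, hT⟩) ∧
        κ₃ ⟨_, hx⟩ * b (π x) = 1) (hbr : ∀ c, b c ^ r = 1)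
    (hfus : ∀ x y : Subgroup.centralizer ({t} : Set G), IsConj (x : G) (y : G) →
      lamFun N l x = lamFun N l y) {m : ℕ} (hm : m < r)
    {α φ : C → ℂ} (hα : Prin M α) (hφP : Prin M φ) (hαo : ∀ c, Odd (orderOf c) → α c = 0)
    (hαT : ∀ c (hc : c ∈ T), u ∈ Subgroup.zpowers c → α c = 3 - (b c : ℂ) ^ m -
      (ξ ⟨c, hc⟩ : ℂ) ^ (r - m) - (ξ (sg hC.torus ⟨c, hc⟩) : ℂ) ^ (r - m))
    (hφ : ∀ c, z ∈ Subgroup.zpowers c → φ c = α c)
    (hφ0 : ∀ c, z ∉ Subgroup.zpowers c → φ c = 0) (hαG : IsGeneralizedCharacter C α)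
    (hA3 : ∀ [Fintype (Subgroup.centralizer ({t} : Set G))], Prin M (indFun (Subgroup.centralizer
      ({(aN : Subgroup.centralizer ({t} : Set G))} :
      Set (Subgroup.centralizer ({t} : Set G)))) (betaF κ₁ κ₂ κ₃ (r - m) haN))) :
    IsGeneralizedCharacter G (FIndL M l π φ) := by
  classical
  have h1 := FIndL_eq (hC := hC) H hM hF haN hau hK hκ hbr hfus hm hα hφP hαo hαT
    (fun c => by
      split_ifs with h2
      · exact hφ c h2
      · exact hφ0 c h2) hA3
  have h2 : φ = α - (α - φ) := by rw [sub_sub_cancel]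
  have h3 : FIndL M l π φ = FIndL M l π α - FIndL M l π (α - φ) := by
    have h4 := (FIL M l π).map_sub α (α - φ)
    rw [sub_sub_cancel] at h4
    exact h4
  rw [h3, h1]
  refine Brauer.isGeneralizedCharacter_sub (isGeneralized_FIndL hαG) (isGeneralized_D ?_ _)
  have h5 : IsCharacter (AA t a) (fun x => lamFun N l (Subgroup.inclusion
      (inf_le_left : AA t a ≤ Subgroup.centralizer ({t} : Set G)) x)) :=
    Core.isCharacter_comp _ (lamFun_isCharacter l)
  exact h5

end Main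

end Cfsg.Agent.Classification.QDW.WrFInt
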