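import Mathlib
import Cfsg.Agent.Classification.QDW.FldConj
import Cfsg.Agent.Classification.QDW.WrThree
import Cfsg.Agent.Classification.QDW.WrInst
import Cfsg.Agent.Classification.InvCent.WrFun

/-!
# Field automorphisms, wreathed case: the three linear characters of `C(t) ∩ C(a)`

`G` has one class of involutions, `Γ = C(t)`, `FHyp t z N S π`, `C` of type `GL₂(q)/Z₀` or
`GU₂(q)/Z₀`, `4 ∣ r`.

* `exists_ext`: a linear character of `N` of `2`-power order extends to `Γ`;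
* `exists_X`: the linear characters of `T` of exponent `r` are the `ξ^i (ξ^s)^j`;
* `exists_sym`: the frame `a`, `g`, `w` and the linear characters `κ₁ κ₂ κ₃` of `C(t) ∩ C(a)`
  permuted by `g` and `w`.
-/

set_option autoImplicit false
set_option linter.unusedSectionVars false

open Cfsg

namespace Cfsg.Agent.Classification.QDW.Fld

open Cfsg.Agent.Classification.InvCent Cfsg.Agent.Classification.InvCent.LinChar
  Cfsg.Agent.Classification.InvCent.WrFun Cfsg.Agent.Classification.QDW.WrThree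

universe w v

section Ext

variable {Γ : Type w} [Group Γ] [Finite Γ] {N S : Subgroup Γ}

/-- A linear character of `2`-power order which is trivial on a normal subgroup of odd index is
trivial. -/
theorem eq_one_of_odd_index {A : Type*} [Group A] {B : Type*} [CommGroup B] (ψ : A →* B)
    {K : Subgroup A} (hK : Odd K.index) (h1 : ∀ x ∈ K, ψ x = 1) {m : ℕ}
    (h2 : ∀ x, ψ x ^ 2 ^ m = 1) (x : A) : ψ x = 1 := by
  have hle : K ≤ ψ.ker := fun x hx => h1 x hx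
  have h3 : Odd ψ.ker.index := Odd.of_dvd_nat hK (Subgroup.index_dvd_of_le hle)
  have h4 : ψ x ^ ψ.ker.index = 1 := by
    have h5 := Subgroup.pow_index_mem ψ.ker x
    rw [MonoidHom.mem_ker, map_pow] at h5
    exact h5
  have h5 : orderOf (ψ x) ∣ 2 ^ m := orderOf_dvd_of_pow_eq_one (h2 x)
  have h6 : orderOf (ψ x) ∣ ψ.ker.index := orderOf_dvd_of_pow_eq_one h4
  have h7 : Nat.Coprime (2 ^ m) ψ.ker.index := Nat.Coprime.pow_left _ (Nat.coprime_two_left.2 h3)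
  have h8 := Nat.dvd_gcd h5 h6
  rw [h7] at h8
  exact orderOf_eq_one_iff.1 (Nat.dvd_one.1 h8)

theorem eq_one_of_odd {A : Type*} [Group A] {x : A} {m n : ℕ} (hn : Odd n)
    (h1 : x ^ 2 ^ m = 1) (h2 : x ^ n = 1) : x = 1 := by
  have h5 : orderOf x ∣ 2 ^ m := orderOf_dvd_of_pow_eq_one h1
  have h6 : orderOf x ∣ n := orderOf_dvd_of_pow_eq_one h2
  have h7 : Nat.Coprime (2 ^ m) n := Nat.Coprime.pow_left _ (Nat.coprime_two_left.2 hn)
  have h8 := Nat.dvd_gcd h5 h6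
  rw [h7] at h8
  exact orderOf_eq_one_iff.1 (Nat.dvd_one.1 h8)

/-- A linear character of `N` of `2`-power order is invariant. -/
theorem AD.invariant (h : AD N S) {m : ℕ} (b : N →* ℂˣ) (hb : ∀ x, b x ^ 2 ^ m = 1) (g : Γ)
    (x : N) : b ⟨g * x * g⁻¹, h.normal.conj_mem x x.2 g⟩ = b x := by
  obtain ⟨n, hn, c, hc, rfl⟩ := h.cover g
  -- conjugation by `c`
  let cj : N →* N :=
    { toFun := fun x => ⟨c * x * c⁻¹, h.normal.conj_mem x x.2 c⟩
      map_one' := Subtype.ext (by simp)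
      map_mul' := fun x y => Subtype.ext (by simp only [Subgroup.coe_mul]; group) }
  have h1 : ∀ x : N, (b.comp cj * b⁻¹) x = 1 := by
    refine eq_one_of_odd_index (b.comp cj * b⁻¹) (K := S.subgroupOf N) (m := m) ?_ ?_ ?_
    · have h2 : (S.subgroupOf N).index = S.relIndex N := rfl
      rw [h2]
      exact Odd.of_dvd_nat h.odd_index ⟨N.index, (Subgroup.relIndex_mul_index h.le).symm⟩
    · intro y hy
      have h2 : cj y = y := by
        apply Subtype.ext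
        change c * (y : Γ) * c⁻¹ = y
        rw [(hc y (Subgroup.mem_subgroupOf.1 hy)).eq, mul_inv_cancel_right]
      rw [MonoidHom.mul_apply, MonoidHom.comp_apply, h2, MonoidHom.inv_apply, mul_inv_cancel]
    · intro y
      rw [MonoidHom.mul_apply, MonoidHom.comp_apply, MonoidHom.inv_apply, mul_pow, inv_pow, hb, hb,
        inv_one, mul_one]
  have h2 : b (cj x) = b x := by
    have h3 := h1 x
    rwa [MonoidHom.mul_apply, MonoidHom.comp_apply, MonoidHom.inv_apply, mul_inv_eq_one] at h3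
  have h3 : (⟨n * c * x * (n * c)⁻¹, h.normal.conj_mem x x.2 (n * c)⟩ : N) =
      ⟨n, hn⟩ * cj x * (⟨n, hn⟩ : N)⁻¹ := by
    apply Subtype.ext
    change n * c * (x : Γ) * (n * c)⁻¹ = n * (c * x * c⁻¹) * n⁻¹
    group
  rw [h3, map_mul, map_mul, map_inv, mul_comm (b ⟨n, hn⟩), mul_inv_cancel_right, h2]

/-- The transfer of an invariant linear character of a normal subgroup. -/
theorem transfer_of_invariant {B : Type*} [CommGroup B] (hN : N.Normal) (b : N →* B)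
    (hb : ∀ (g : Γ) (x : N), b ⟨g * x * g⁻¹, hN.conj_mem x x.2 g⟩ = b x) (x : N) :
    MonoidHom.transfer b (x : Γ) = b x ^ N.index := by
  classical
  let T : N.LeftTransversal := default
  rw [MonoidHom.transfer_def b T (x : Γ)]
  unfold Subgroup.leftTransversals.diff
  have h1 : ∀ q : Γ ⧸ N, (((x : Γ) • T).2.leftQuotientEquiv q : Γ) =
      x * T.2.leftQuotientEquiv q := by
    intro q
    rw [Subgroup.smul_apply_eq_smul_apply_inv_smul, smul_eq_mul]
    congr 3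
    induction q using QuotientGroup.induction_on with
    | H g =>
      rw [MulAction.Quotient.smul_mk, QuotientGroup.eq, smul_eq_mul]
      have h2 : ((x : Γ)⁻¹ * g)⁻¹ * g = g⁻¹ * x * g⁻¹⁻¹ := by group
      rw [h2]
      exact hN.conj_mem x x.2 g⁻¹
  have h2 : ∀ (y : Γ) (hy : y ∈ N) (q : Γ ⧸ N),
      y = (T.2.leftQuotientEquiv q : Γ)⁻¹ * (((x : Γ) • T).2.leftQuotientEquiv q : Γ) →
      b ⟨y, hy⟩ = b x := by
    intro y hy q hyq
    rw [← hb (T.2.leftQuotientEquiv q : Γ)⁻¹ x]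
    refine congrArg b (Subtype.ext ?_)
    change y = (T.2.leftQuotientEquiv q : Γ)⁻¹ * x * (T.2.leftQuotientEquiv q : Γ)⁻¹⁻¹
    rw [hyq, h1, inv_inv, mul_assoc]
  let _ := N.fintypeQuotientOfFiniteIndex
  refine (Finset.prod_congr rfl (fun q _ => h2 _ _ q rfl)).trans ?_
  rw [Finset.prod_const, Finset.card_univ]
  congr 1
  exact (Nat.card_eq_fintype_card (α := Γ ⧸ N)).symm

/-- The extension to `Γ` of a linear character of `N` of `2`-power order. -/
theorem AD.exists_ext (h : AD N S) {m : ℕ} (b : N →* ℂˣ) (hb : ∀ x, b x ^ 2 ^ m = 1) :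
    ∃ β : Γ →* ℂˣ, (∀ x, β x ^ 2 ^ m = 1) ∧ ∀ n : N, β n = b n := by
  have hodd := h.odd_index_N
  have hcop : Nat.Coprime N.index (2 ^ m) :=
    (Nat.Coprime.pow_left _ (Nat.coprime_two_left.2 hodd)).symm
  have h0 : ∀ n : N, MonoidHom.transfer b (n : Γ) = b n ^ N.index :=
    transfer_of_invariant h.normal b (h.invariant b hb)
  have h1 : ∀ x : Γ, MonoidHom.transfer b x ^ 2 ^ m = 1 := by
    intro x
    rw [MonoidHom.transfer_def b default x]
    unfold Subgroup.leftTransversals.diff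
    rw [← Finset.prod_pow]
    exact Finset.prod_eq_one fun q _ => hb _
  obtain ⟨k, -, hk'⟩ := Nat.exists_mul_mod_eq_of_coprime 1 hcop (by positivity)
  have hk : N.index * k ≡ 1 [MOD 2 ^ m] := hk'
  refine ⟨MonoidHom.transfer b ^ k, fun x => ?_, fun n => ?_⟩
  · rw [MonoidHom.pow_apply, ← pow_mul, mul_comm, pow_mul, h1, one_pow]
  · rw [MonoidHom.pow_apply, h0, ← pow_mul]
    have h2 : b n ^ (N.index * k) = b n ^ 1 := pow_eq_pow_iff_modEq.2
      (hk.of_dvd (orderOf_dvd_of_pow_eq_one (hb n)))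
    rw [h2, pow_one]

end Ext

section Count

variable {C : Type v} [Group C] [Finite C] {z : C} {q : ℕ} {ε : ℤ} {Z T T' U : Subgroup C}
  {s s' u : C} {r : ℕ} {b : C →* ℂˣ}

/-- The linear characters of `T` of exponent `r`. -/
theorem exists_X {hC : CHyp z q ε Z T T' U s s' u} (hD : DetHyp q ε T T' U s s' u r b)
    {ξ : T →* ℂˣ} (hξ : XiHyp hC r b ξ) (ζ : T →* ℂˣ) (hζ : ∀ x, ζ x ^ r = 1) :
    ∃ i j : ℕ, ζ = X hC ξ i j := by
  let _ : CommGroup T := { (inferInstance : Group T) with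
    mul_comm := fun x y => Subtype.ext (hC.T_comm x x.2 y y.2) }
  obtain ⟨m, hm1, hm⟩ := hD.r_pow
  obtain ⟨k₁, hk₁, hc₁⟩ := WrChar.card_Z hC hD
  obtain ⟨k₂, hk₂, hc₂⟩ := hD.r_dvd
  -- the number of linear characters
  have hcard : Nat.card (T →* ℂˣ) = Nat.card T := by
    obtain ⟨e⟩ := CommGroup.monoidHom_mulEquiv_of_hasEnoughRootsOfUnity T ℂ
    exact Nat.card_congr e.toEquiv
  have hfin : Finite (T →* ℂˣ) := Nat.finite_of_card_ne_zero (by
    rw [hcard]; exact Nat.card_pos.ne')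
  let K : Subgroup (T →* ℂˣ) := (powMonoidHom r : (T →* ℂˣ) →* (T →* ℂˣ)).ker
  have hKmem : ∀ χ : T →* ℂˣ, χ ∈ K ↔ ∀ x, χ x ^ r = 1 := by
    intro χ
    rw [MonoidHom.mem_ker]
    constructor
    · intro h x
      exact DFunLike.congr_fun h x
    · intro h
      ext x
      exact congrArg _ (h x)
  have hp : Fact (Nat.Prime 2) := ⟨Nat.prime_two⟩
  have hK : IsPGroup 2 K := by
    intro χ
    refine ⟨m, Subtype.ext ?_⟩
    rw [← hm]
    exact χ.2
  obtain ⟨n, hn⟩ := hK.exists_card_eq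
  have hdvd : 2 ^ n ∣ Nat.card T := by
    rw [← hn, ← hcard]
    exact Subgroup.card_subgroup_dvd_card K
  have hle : Nat.card K ≤ r * r := by
    rw [hn]
    refine Nat.le_of_dvd (by rw [hm]; positivity) ?_
    have h1 : ((2 : ℤ) ^ n) ∣ (r * r : ℤ) * (k₁ * k₂) := by
      have h2 : ((2 ^ n : ℕ) : ℤ) ∣ (Nat.card T : ℤ) := by exact_mod_cast hdvd
      rw [hC.card_T, hc₂, hc₁] at h2
      push_cast at h2
      have h3 : (r * r : ℤ) * (k₁ * k₂) = r * k₁ * (r * k₂) := by ring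
      rw [h3]
      exact h2
    have h2 : IsCoprime ((2 : ℤ) ^ n) (k₁ * k₂) := by
      obtain ⟨c, hc⟩ : Odd ((k₁ : ℤ) * k₂) := Int.odd_mul.2 ⟨by exact_mod_cast hk₁, hk₂⟩
      exact IsCoprime.pow_left ⟨-c, 1, by rw [hc]; ring⟩
    have h3 := h2.dvd_of_dvd_mul_right h1
    exact_mod_cast h3
  let f : Fin r × Fin r → K := fun p => ⟨X hC ξ p.1 p.2, (hKmem _).2 fun x => by
    rw [X_apply, mul_pow, ← pow_mul, ← pow_mul, mul_comm (p.1 : ℕ), mul_comm (p.2 : ℕ), pow_mul,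
      pow_mul, hξ.pow, hξ.pow, one_pow, one_pow, mul_one]⟩
  have hf : Function.Injective f := by
    rintro ⟨i, j⟩ ⟨i', j'⟩ h
    have h1 := (X_eq_iff hξ).1 (congrArg Subtype.val h)
    have h2 := Nat.ModEq.eq_of_lt_of_lt h1.1 i.2 i'.2
    have h3 := Nat.ModEq.eq_of_lt_of_lt h1.2 j.2 j'.2
    exact Prod.ext (Fin.ext h2) (Fin.ext h3)
  have hb : Function.Bijective f := hf.bijective_of_nat_card_le (by
    rw [Nat.card_prod, Nat.card_fin]
    exact hle)
  obtain ⟨p, hp⟩ := hb.2 ⟨ζ, (hKmem ζ).2 hζ⟩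
  exact ⟨p.1, p.2, (congrArg Subtype.val hp).symm⟩

end Count

section Frame

variable {G : Type w} [Group G] {C : Type v} [Group C] {t : G} {z : C}
  {N S : Subgroup (Subgroup.centralizer ({t} : Set G))} {π : N →* C} {q : ℕ} {ε : ℤ}
  {Z T T' U : Subgroup C} {s s' u : C}

/-- An element interchanging `t` and an involution `w ≠ t` of `C(t)`. -/
theorem FHyp.exists_swap [Finite G] [Finite C] (h : FHyp t z N S π)
    (hC : CHyp z q ε Z T T' U s s' u) {w : G} (hw : orderOf w = 2) (htw : Commute t w)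
    (hne : w ≠ t) : ∃ g : G, g * t * g⁻¹ = w ∧ g * w * g⁻¹ = t := by
  obtain ⟨g₀, hg₀⟩ := isConj_iff.1 (h.one_class w hw)
  have e0 : g₀⁻¹ * w * g₀ = t := by rw [← hg₀]; group
  have ho1 : orderOf (g₀⁻¹ * t * g₀) = 2 := by
    have := (MulAut.conj g₀⁻¹).orderOf_eq t
    rw [MulAut.conj_apply, inv_inv] at this
    rw [this, h.orderOf_t]
  have hc1 : Commute t (g₀⁻¹ * t * g₀) := by
    have h1 := htw.symm.map (MulAut.conj g₀⁻¹).toMonoidHom
    change Commute (g₀⁻¹ * w * g₀⁻¹⁻¹) (g₀⁻¹ * t * g₀⁻¹⁻¹) at h1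
    rwa [inv_inv, e0] at h1
  have hn1 : g₀⁻¹ * t * g₀ ≠ t := by
    intro h1
    apply hne
    rw [← hg₀]
    calc g₀ * t * g₀⁻¹ = g₀ * (g₀⁻¹ * t * g₀) * g₀⁻¹ := by rw [h1]
      _ = t := by group
  obtain ⟨c, hc, hcw⟩ := h.exists_conj hC ho1 hc1 hn1 hw htw hne
  have hct : c * t * c⁻¹ = t := by
    rw [Subgroup.mem_centralizer_singleton_iff.1 hc]
    group
  refine ⟨c * g₀⁻¹, ?_, ?_⟩
  · calc c * g₀⁻¹ * t * (c * g₀⁻¹)⁻¹ = c * (g₀⁻¹ * t * g₀) * c⁻¹ := by group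
      _ = w := hcw
  · calc c * g₀⁻¹ * w * (c * g₀⁻¹)⁻¹ = c * (g₀⁻¹ * w * g₀) * c⁻¹ := by group
      _ = t := by rw [e0, hct]

/-- `N` lies over `C`. -/
theorem FHyp.over [Finite G] (h : FHyp t z N S π) : WrInst.Over π (tN h) z where
  surj := h.surj
  odd := h.odd_ker
  central := fun g => (h.tN_comm g).eq.symm
  sq := h.tN_mul_tN
  map := h.map_tN

/-- The frame over `u`, `s`. -/
theorem FHyp.exists_fr [Finite G] [Finite C] (h : FHyp t z N S π)
    (hC : CHyp z q ε Z T T' U s s' u) : ∃ (a w : N) (g : G), WrInst.Pair π (tN h) s u a w ∧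
      Fr t ((a : Subgroup.centralizer ({t} : Set G)) : G) g
        ((w : Subgroup.centralizer ({t} : Set G)) : G) := by
  obtain ⟨a, w, hp⟩ := WrInst.exists_pair h.over hC
  have haa : ((a : Subgroup.centralizer ({t} : Set G)) : G) *
      ((a : Subgroup.centralizer ({t} : Set G)) : G) = 1 :=
    congrArg (fun x : N => ((x : Subgroup.centralizer ({t} : Set G)) : G)) hp.sq
  have hcomm : ((a : Subgroup.centralizer ({t} : Set G)) : G) * t =
      t * ((a : Subgroup.centralizer ({t} : Set G)) : G) :=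
    Subgroup.mem_centralizer_singleton_iff.1 (SetLike.coe_mem _)
  have hne : ((a : Subgroup.centralizer ({t} : Set G)) : G) ≠ t := by
    intro h1
    apply hC.u_ne
    have h2 : a = tN h := Subtype.ext (Subtype.ext h1)
    rw [← hp.map_u, h2, h.map_tN]
  have hne1 : ((a : Subgroup.centralizer ({t} : Set G)) : G) ≠ 1 := by
    intro h1
    apply WrChar.u_ne_one hC
    have h2 : a = 1 := Subtype.ext (Subtype.ext h1)
    rw [← hp.map_u, h2, map_one]
  obtain ⟨g, hg1, hg2⟩ := h.exists_swap hC (orderOf_of_mul_self haa hne1) hcomm.symm hne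
  refine ⟨a, w, g, hp, ⟨h.t_mul_t, haa, hcomm, hg1, hg2, ?_, ?_, h.t_ne_one⟩⟩
  · rw [Subgroup.mem_centralizer_singleton_iff.1 (SetLike.coe_mem (w : Subgroup.centralizer ({t} : Set G)))]
    group
  · exact congrArg (fun x : N => ((x : Subgroup.centralizer ({t} : Set G)) : G)) hp.conj

end Frame

section Kap

variable {G : Type w} [Group G] {t : G}

open Classical in
/-- A linear character of `C(t)` as a function on `G`. -/
noncomputable def ev (β : Subgroup.centralizer ({t} : Set G) →* ℂˣ) (x : G) : ℂˣ :=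
  if h : x ∈ Subgroup.centralizer ({t} : Set G) then β ⟨x, h⟩ else 1

theorem ev_mem (β : Subgroup.centralizer ({t} : Set G) →* ℂˣ) {x : G}
    (h : x ∈ Subgroup.centralizer ({t} : Set G)) : ev β x = β ⟨x, h⟩ := dif_pos h

theorem ev_conj (β : Subgroup.centralizer ({t} : Set G) →* ℂˣ) {c : G}
    (hc : c ∈ Subgroup.centralizer ({t} : Set G)) (x : G) : ev β (c * x * c⁻¹) = ev β x := by
  by_cases hx : x ∈ Subgroup.centralizer ({t} : Set G)
  · have h1 : c * x * c⁻¹ ∈ Subgroup.centralizer ({t} : Set G) :=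
      mul_mem (mul_mem hc hx) (inv_mem hc)
    rw [ev_mem β h1, ev_mem β hx]
    have h2 : (⟨c * x * c⁻¹, h1⟩ : Subgroup.centralizer ({t} : Set G)) =
        ⟨c, hc⟩ * ⟨x, hx⟩ * (⟨c, hc⟩ : Subgroup.centralizer ({t} : Set G))⁻¹ := rfl
    rw [h2, map_mul, map_mul, map_inv, mul_comm (β ⟨c, hc⟩), mul_inv_cancel_right]
  · have h1 : c * x * c⁻¹ ∉ Subgroup.centralizer ({t} : Set G) := by
      intro h1
      apply hx
      have h2 := mul_mem (mul_mem (inv_mem hc) h1) hc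
      have h3 : c⁻¹ * (c * x * c⁻¹) * c = x := by group
      rwa [h3] at h2
    unfold ev
    rw [dif_neg hx, dif_neg h1]

theorem ev_eq (β : Subgroup.centralizer ({t} : Set G) →* ℂˣ) {n n' : G}
    (h : n * t * n⁻¹ = n' * t * n'⁻¹) (x : G) : ev β (n⁻¹ * x * n) = ev β (n'⁻¹ * x * n') := by
  have hc : n'⁻¹ * n ∈ Subgroup.centralizer ({t} : Set G) := by
    rw [Subgroup.mem_centralizer_singleton_iff]
    calc n'⁻¹ * n * t = n'⁻¹ * (n * t * n⁻¹) * n := by group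
      _ = n'⁻¹ * (n' * t * n'⁻¹) * n := by rw [h]
      _ = t * (n'⁻¹ * n) := by group
  rw [← ev_conj β hc]
  congr 1
  group

/-- The character of `A ≤ C(n t n⁻¹)` attached to `n`. -/
noncomputable def kap (β : Subgroup.centralizer ({t} : Set G) →* ℂˣ) (A : Subgroup G) (n : G)
    (hn : ∀ x ∈ A, n⁻¹ * x * n ∈ Subgroup.centralizer ({t} : Set G)) : A →* ℂˣ where
  toFun x := (ev β (n⁻¹ * x * n))⁻¹
  map_one' := by
    have h1 : n⁻¹ * ((1 : A) : G) * n = 1 := by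
      rw [OneMemClass.coe_one, mul_one, inv_mul_cancel]
    rw [h1, ev_mem β (one_mem _), inv_eq_one]
    exact map_one β
  map_mul' x y := by
    rw [← mul_inv, ev_mem β (hn _ x.2), ev_mem β (hn _ y.2), ev_mem β (hn _ (x * y).2), ← map_mul]
    congr 2
    apply Subtype.ext
    change n⁻¹ * (x * y) * n = n⁻¹ * x * n * (n⁻¹ * y * n)
    group

theorem kap_apply (β : Subgroup.centralizer ({t} : Set G) →* ℂˣ) (A : Subgroup G) (n : G)
    (hn : ∀ x ∈ A, n⁻¹ * x * n ∈ Subgroup.centralizer ({t} : Set G)) (x : A) :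
    kap β A n hn x = (ev β (n⁻¹ * x * n))⁻¹ := rfl

theorem kap_pow (β : Subgroup.centralizer ({t} : Set G) →* ℂˣ) (A : Subgroup G) (n : G)
    (hn : ∀ x ∈ A, n⁻¹ * x * n ∈ Subgroup.centralizer ({t} : Set G)) {k : ℕ}
    (hβ : ∀ x, β x ^ k = 1) (x : A) : kap β A n hn x ^ k = 1 := by
  rw [kap_apply, ev_mem β (hn x x.2), inv_pow, hβ, inv_one]

theorem kap_rule (β : Subgroup.centralizer ({t} : Set G) →* ℂˣ) (A : Subgroup G) {n n' h : G}
    (hn : ∀ x ∈ A, n⁻¹ * x * n ∈ Subgroup.centralizer ({t} : Set G))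
    (hn' : ∀ x ∈ A, n'⁻¹ * x * n' ∈ Subgroup.centralizer ({t} : Set G)) {x y : A}
    (hy : (y : G) = h * x * h⁻¹) (hv : n * t * n⁻¹ = h * (n' * t * n'⁻¹) * h⁻¹) :
    kap β A n hn y = kap β A n' hn' x := by
  rw [kap_apply, kap_apply, hy]
  have h1 : n⁻¹ * (h * x * h⁻¹) * n = (h⁻¹ * n)⁻¹ * x * (h⁻¹ * n) := by group
  rw [h1, ev_eq β (n := h⁻¹ * n) (n' := n')]
  calc h⁻¹ * n * t * (h⁻¹ * n)⁻¹ = h⁻¹ * (n * t * n⁻¹) * h := by group
    _ = h⁻¹ * (h * (n' * t * n'⁻¹) * h⁻¹) * h := by rw [hv]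
    _ = n' * t * n'⁻¹ := by group

end Kap

section Perm

variable {G : Type w} [Group G] {t a g w : G}

/-- The three characters of `C(t) ∩ C(a)`. -/
theorem exists_kap (hF : Fr t a g w) (β : Subgroup.centralizer ({t} : Set G) →* ℂˣ) {k : ℕ}
    (hβ : ∀ x, β x ^ k = 1) :
    ∃ κ₁ κ₂ κ₃ : (Subgroup.centralizer ({t} : Set G) ⊓ Subgroup.centralizer ({a} : Set G) :
        Subgroup G) →* ℂˣ,
      (∀ x, κ₁ x ^ k = 1 ∧ κ₂ x ^ k = 1 ∧ κ₃ x ^ k = 1) ∧
      (∀ x, κ₃ x = (β ⟨x, x.2.1⟩)⁻¹) ∧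
      (∀ x y : (Subgroup.centralizer ({t} : Set G) ⊓ Subgroup.centralizer ({a} : Set G) :
        Subgroup G), (y : G) = g * x * g⁻¹ → κ₁ y = κ₃ x ∧ κ₃ y = κ₁ x ∧ κ₂ y = κ₂ x) ∧
      (∀ x y : (Subgroup.centralizer ({t} : Set G) ⊓ Subgroup.centralizer ({a} : Set G) :
        Subgroup G), (y : G) = w * x * w⁻¹ → κ₁ y = κ₂ x ∧ κ₂ y = κ₁ x ∧ κ₃ y = κ₃ x) := by
  have hin : ∀ x ∈ (Subgroup.centralizer ({t} : Set G) ⊓ Subgroup.centralizer ({a} : Set G) :
      Subgroup G), InM t a x := fun x hx =>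
    ⟨Subgroup.mem_centralizer_singleton_iff.1 hx.1, Subgroup.mem_centralizer_singleton_iff.1 hx.2⟩
  have h1 : ∀ x ∈ (Subgroup.centralizer ({t} : Set G) ⊓ Subgroup.centralizer ({a} : Set G) :
      Subgroup G), (1 : G)⁻¹ * x * 1 ∈ Subgroup.centralizer ({t} : Set G) := by
    intro x hx
    rw [inv_one, one_mul, mul_one]
    exact hx.1
  have hg : ∀ x ∈ (Subgroup.centralizer ({t} : Set G) ⊓ Subgroup.centralizer ({a} : Set G) :
      Subgroup G), g⁻¹ * x * g ∈ Subgroup.centralizer ({t} : Set G) := by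
    intro x hx
    rw [Subgroup.mem_centralizer_singleton_iff]
    have h2 := (hF.symm.inM_g (hin x hx)).1
    rwa [inv_inv] at h2
  have hw : ∀ x ∈ (Subgroup.centralizer ({t} : Set G) ⊓ Subgroup.centralizer ({a} : Set G) :
      Subgroup G), (w * g)⁻¹ * x * (w * g) ∈ Subgroup.centralizer ({t} : Set G) := by
    intro x hx
    rw [Subgroup.mem_centralizer_singleton_iff]
    have h2 := (hF.symm.inM_g (hF.symm.inM_w (hin x hx))).1
    rw [inv_inv, inv_inv] at h2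
    have h3 : (w * g)⁻¹ * x * (w * g) = g⁻¹ * (w⁻¹ * x * w) * g := by group
    rwa [h3]
  have e1 : (1 : G) * t * 1⁻¹ = t := by group
  have e2 : w * g * t * (w * g)⁻¹ = t * a := by
    have h3 : w * g * t * (w * g)⁻¹ = w * (g * t * g⁻¹) * w⁻¹ := by group
    rw [h3, hF.gt, hF.wa]
  refine ⟨kap β _ g hg, kap β _ (w * g) hw, kap β _ 1 h1,
    fun x => ⟨kap_pow β _ g hg hβ x, kap_pow β _ (w * g) hw hβ x, kap_pow β _ 1 h1 hβ x⟩,
    fun x => ?_, fun x y hxy => ⟨?_, ?_, ?_⟩, fun x y hxy => ⟨?_, ?_, ?_⟩⟩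
  · rw [kap_apply, inv_one, one_mul, mul_one, ev_mem β x.2.1]
  · exact kap_rule β _ hg h1 hxy (by rw [e1])
  · exact kap_rule β _ h1 hg hxy (by rw [e1, hF.gt, hF.ga])
  · exact kap_rule β _ hw hw hxy (by rw [e2, hF.gta])
  · exact kap_rule β _ hg hw hxy (by rw [e2, hF.gt, hF.wta])
  · exact kap_rule β _ hw hg hxy (by rw [e2, hF.gt, hF.wa])
  · exact kap_rule β _ h1 h1 hxy (by rw [e1, hF.wt])

theorem eq_one_of_odd' {x : ℂ} {m n : ℕ} (hn : Odd n) (h1 : x ^ 2 ^ m = 1) (h2 : x ^ n = 1) :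
    x = 1 := by
  have h5 : orderOf x ∣ 2 ^ m := orderOf_dvd_of_pow_eq_one h1
  have h6 : orderOf x ∣ n := orderOf_dvd_of_pow_eq_one h2
  have h7 : Nat.Coprime (2 ^ m) n := Nat.Coprime.pow_left _ (Nat.coprime_two_left.2 hn)
  have h8 := Nat.dvd_gcd h5 h6
  rw [h7] at h8
  exact orderOf_eq_one_iff.1 (Nat.dvd_one.1 h8)

theorem mul_aux {α β γ : ℂ} {k m : ℕ} (hα : α ≠ 0) (hβ : β ≠ 0) (hγ : γ ≠ 0)
    (g1 : α * β * γ ^ (2 * k + 1) = 1) (g2 : γ * β * α ^ (2 * k + 1) = 1)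
    (g3 : γ * α * β ^ (2 * k + 1) = 1) (hp' : γ ^ 2 ^ m = 1) : α * β * γ = 1 := by
  have h0 : α * β * γ ≠ 0 := mul_ne_zero (mul_ne_zero hα hβ) hγ
  have f1 : α ^ (2 * k) = γ ^ (2 * k) := by
    have h4 : α * β * γ ^ (2 * k + 1) = γ * β * α ^ (2 * k + 1) := by rw [g1, g2]
    have h5 : (α * β * γ) * γ ^ (2 * k) = (α * β * γ) * α ^ (2 * k) := by
      calc (α * β * γ) * γ ^ (2 * k) = α * β * γ ^ (2 * k + 1) := by rw [pow_succ]; ring
        _ = γ * β * α ^ (2 * k + 1) := h4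
        _ = (α * β * γ) * α ^ (2 * k) := by rw [pow_succ]; ring
    exact (mul_left_cancel₀ h0 h5).symm
  have f2 : β ^ (2 * k) = γ ^ (2 * k) := by
    have h4 : α * β * γ ^ (2 * k + 1) = γ * α * β ^ (2 * k + 1) := by rw [g1, g3]
    have h5 : (α * β * γ) * γ ^ (2 * k) = (α * β * γ) * β ^ (2 * k) := by
      calc (α * β * γ) * γ ^ (2 * k) = α * β * γ ^ (2 * k + 1) := by rw [pow_succ]; ring
        _ = γ * α * β ^ (2 * k + 1) := h4
        _ = (α * β * γ) * β ^ (2 * k) := by rw [pow_succ]; ring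
    exact (mul_left_cancel₀ h0 h5).symm
  have f3 : (γ ^ (2 * k)) ^ (2 * k + 3) = 1 := by
    calc (γ ^ (2 * k)) ^ (2 * k + 3) = γ ^ (2 * k) * γ ^ (2 * k) * (γ ^ (2 * k + 1)) ^ (2 * k) := by
          rw [← pow_mul, ← pow_mul, ← pow_add, ← pow_add]
          congr 1
          ring
      _ = α ^ (2 * k) * β ^ (2 * k) * (γ ^ (2 * k + 1)) ^ (2 * k) := by rw [f1, f2]
      _ = (α * β * γ ^ (2 * k + 1)) ^ (2 * k) := by rw [mul_pow, mul_pow]
      _ = 1 := by rw [g1, one_pow]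
  have f4 : γ ^ (2 * k) = 1 := by
    refine eq_one_of_odd' (m := m) (n := 2 * k + 3) ⟨k + 1, by ring⟩ ?_ f3
    rw [← pow_mul, mul_comm, pow_mul, hp', one_pow]
  rwa [pow_succ, f4, one_mul] at g1

theorem mul_aux' {B : Type*} [CommGroup B] (x y p q : B) :
    x * p * (y * q) = x * q * (y * p) := by
  rw [mul_assoc, mul_assoc, mul_left_comm p, mul_left_comm q, mul_comm p q]

/-- `κ₁ κ₂ κ₃ ^ l = 1` implies `κ₁ κ₂ κ₃ = 1`. -/
theorem perm_mul (hF : Fr t a g w) {m : ℕ}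
    {κ₁ κ₂ κ₃ : (Subgroup.centralizer ({t} : Set G) ⊓ Subgroup.centralizer ({a} : Set G) :
        Subgroup G) →* ℂˣ}
    (hp : ∀ x, κ₃ x ^ 2 ^ m = 1)
    (hg : ∀ x y : (Subgroup.centralizer ({t} : Set G) ⊓ Subgroup.centralizer ({a} : Set G) :
        Subgroup G), (y : G) = g * x * g⁻¹ → κ₁ y = κ₃ x ∧ κ₃ y = κ₁ x ∧ κ₂ y = κ₂ x)
    (hw : ∀ x y : (Subgroup.centralizer ({t} : Set G) ⊓ Subgroup.centralizer ({a} : Set G) :
        Subgroup G), (y : G) = w * x * w⁻¹ → κ₁ y = κ₂ x ∧ κ₂ y = κ₁ x ∧ κ₃ y = κ₃ x)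
    {τ : (Subgroup.centralizer ({t} : Set G) ⊓ Subgroup.centralizer ({a} : Set G) :
        Subgroup G)} (h3 : κ₃ τ = 1) (h1 : κ₁ τ = -1) (h2 : κ₂ τ = -1)
    {l : ℕ} (hl : ∀ x, κ₁ x * κ₂ x * κ₃ x ^ l = 1) (x) : κ₁ x * κ₂ x * κ₃ x = 1 := by
  have hin : ∀ x ∈ (Subgroup.centralizer ({t} : Set G) ⊓ Subgroup.centralizer ({a} : Set G) :
      Subgroup G), InM t a x := fun x hx =>
    ⟨Subgroup.mem_centralizer_singleton_iff.1 hx.1, Subgroup.mem_centralizer_singleton_iff.1 hx.2⟩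
  have hgA : ∀ x : (Subgroup.centralizer ({t} : Set G) ⊓ Subgroup.centralizer ({a} : Set G) :
      Subgroup G), ∃ y : (Subgroup.centralizer ({t} : Set G) ⊓ Subgroup.centralizer ({a} : Set G) :
      Subgroup G), (y : G) = g * x * g⁻¹ := fun x =>
    ⟨⟨g * x * g⁻¹, Subgroup.mem_centralizer_singleton_iff.2 (hF.inM_g (hin x x.2)).1,
      Subgroup.mem_centralizer_singleton_iff.2 (hF.inM_g (hin x x.2)).2⟩, rfl⟩
  have hwA : ∀ x : (Subgroup.centralizer ({t} : Set G) ⊓ Subgroup.centralizer ({a} : Set G) :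
      Subgroup G), ∃ y : (Subgroup.centralizer ({t} : Set G) ⊓ Subgroup.centralizer ({a} : Set G) :
      Subgroup G), (y : G) = w * x * w⁻¹ := fun x =>
    ⟨⟨w * x * w⁻¹, Subgroup.mem_centralizer_singleton_iff.2 (hF.inM_w (hin x x.2)).1,
      Subgroup.mem_centralizer_singleton_iff.2 (hF.inM_w (hin x x.2)).2⟩, rfl⟩
  have l2 : ∀ x, κ₃ x * κ₂ x * κ₁ x ^ l = 1 := by
    intro x
    obtain ⟨y, hy⟩ := hgA x
    obtain ⟨e1, e2, e3⟩ := hg x y hy
    have := hl y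
    rwa [e1, e2, e3] at this
  have l3 : ∀ x, κ₃ x * κ₁ x * κ₂ x ^ l = 1 := by
    intro x
    obtain ⟨y, hy⟩ := hwA x
    obtain ⟨e1, e2, e3⟩ := hw x y hy
    have := l2 y
    rwa [e1, e2, e3] at this
  -- `l` is odd
  have hodd : Odd l := by
    by_contra hne
    have h4 := l2 τ
    rw [h3, h1, h2, (Nat.not_odd_iff_even.1 hne).neg_one_pow, mul_one, one_mul] at h4
    have h5 : (((-1 : ℂˣ) : ℂ)) = 1 := by rw [h4]; rfl
    norm_num at h5
  obtain ⟨k, hk⟩ := hodd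
  have g1 := hl x
  have g2 := l2 x
  have g3 := l3 x
  rw [hk] at g1 g2 g3
  have hp' := hp x
  have g := mul_aux (m := m) (α := (κ₁ x : ℂ)) (β := (κ₂ x : ℂ)) (γ := (κ₃ x : ℂ)) (k := k)
    (κ₁ x).ne_zero (κ₂ x).ne_zero (κ₃ x).ne_zero (congrArg Units.val g1)
    (congrArg Units.val g2) (congrArg Units.val g3) (congrArg Units.val hp')
  exact Units.ext g

/-- Independence. -/
theorem perm_indep (hF : Fr t a g w) {m : ℕ}
    {κ₁ κ₂ κ₃ : (Subgroup.centralizer ({t} : Set G) ⊓ Subgroup.centralizer ({a} : Set G) :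
        Subgroup G) →* ℂˣ}
    (hp : ∀ x, κ₃ x ^ 2 ^ m = 1)
    (hg : ∀ x y : (Subgroup.centralizer ({t} : Set G) ⊓ Subgroup.centralizer ({a} : Set G) :
        Subgroup G), (y : G) = g * x * g⁻¹ → κ₁ y = κ₃ x ∧ κ₃ y = κ₁ x ∧ κ₂ y = κ₂ x)
    (hw : ∀ x y : (Subgroup.centralizer ({t} : Set G) ⊓ Subgroup.centralizer ({a} : Set G) :
        Subgroup G), (y : G) = w * x * w⁻¹ → κ₁ y = κ₂ x ∧ κ₂ y = κ₁ x ∧ κ₃ y = κ₃ x)
    (hmul : ∀ x, κ₁ x * κ₂ x * κ₃ x = 1) {i j : ℤ} (hij : ∀ x, κ₁ x ^ i * κ₂ x ^ j = 1) (x) :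
    κ₃ x ^ i = 1 ∧ κ₃ x ^ j = 1 := by
  have hin : ∀ x ∈ (Subgroup.centralizer ({t} : Set G) ⊓ Subgroup.centralizer ({a} : Set G) :
      Subgroup G), InM t a x := fun x hx =>
    ⟨Subgroup.mem_centralizer_singleton_iff.1 hx.1, Subgroup.mem_centralizer_singleton_iff.1 hx.2⟩
  have hgA : ∀ x : (Subgroup.centralizer ({t} : Set G) ⊓ Subgroup.centralizer ({a} : Set G) :
      Subgroup G), ∃ y : (Subgroup.centralizer ({t} : Set G) ⊓ Subgroup.centralizer ({a} : Set G) :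
      Subgroup G), (y : G) = g * x * g⁻¹ := fun x =>
    ⟨⟨g * x * g⁻¹, Subgroup.mem_centralizer_singleton_iff.2 (hF.inM_g (hin x x.2)).1,
      Subgroup.mem_centralizer_singleton_iff.2 (hF.inM_g (hin x x.2)).2⟩, rfl⟩
  have hwA : ∀ x : (Subgroup.centralizer ({t} : Set G) ⊓ Subgroup.centralizer ({a} : Set G) :
      Subgroup G), ∃ y : (Subgroup.centralizer ({t} : Set G) ⊓ Subgroup.centralizer ({a} : Set G) :
      Subgroup G), (y : G) = w * x * w⁻¹ := fun x =>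
    ⟨⟨w * x * w⁻¹, Subgroup.mem_centralizer_singleton_iff.2 (hF.inM_w (hin x x.2)).1,
      Subgroup.mem_centralizer_singleton_iff.2 (hF.inM_w (hin x x.2)).2⟩, rfl⟩
  have e2 : ∀ x, κ₃ x ^ i * κ₂ x ^ j = 1 := by
    intro x
    obtain ⟨y, hy⟩ := hgA x
    obtain ⟨e1, e2, e3⟩ := hg x y hy
    have := hij y
    rwa [e1, e3] at this
  have e3 : ∀ x, κ₂ x ^ i * κ₁ x ^ j = 1 := by
    intro x
    obtain ⟨y, hy⟩ := hwA x
    obtain ⟨e1, e2, e3⟩ := hw x y hy
    have := hij y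
    rwa [e1, e2] at this
  have e4 : ∀ x, κ₃ x ^ i * κ₁ x ^ j = 1 := by
    intro x
    obtain ⟨y, hy⟩ := hwA x
    obtain ⟨e1, e2', e3⟩ := hw x y hy
    have := e2 y
    rwa [e2', e3] at this
  have f1 : ∀ x, κ₃ x ^ i = 1 := by
    intro x
    have h1 : κ₁ x ^ i = κ₃ x ^ i := mul_right_cancel ((hij x).trans (e2 x).symm)
    have h2 : κ₂ x ^ i = κ₃ x ^ i := mul_right_cancel ((e3 x).trans (e4 x).symm)
    have h3 : (κ₁ x * κ₂ x * κ₃ x) ^ i = 1 := by rw [hmul, one_zpow]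
    rw [mul_zpow, mul_zpow, h1, h2] at h3
    refine eq_one_of_odd (m := m) (n := 3) ⟨1, rfl⟩ ?_ (by rw [pow_three', h3])
    rw [← zpow_natCast, ← zpow_mul, mul_comm, zpow_mul, zpow_natCast, hp, one_zpow]
  refine ⟨f1 x, ?_⟩
  obtain ⟨y, hy⟩ := hgA x
  obtain ⟨e1, -, -⟩ := hg x y hy
  have h1 := e4 y
  rwa [f1, one_mul, e1] at h1

end Perm

section Sym

variable {G : Type w} [Group G] [Finite G] {C : Type v} [Group C] [Finite C] {t : G} {z : C}
  {N S : Subgroup (Subgroup.centralizer ({t} : Set G))} {π : N →* C} {q : ℕ} {ε : ℤ}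
  {Z T T' U : Subgroup C} {s s' u : C} {r : ℕ} {b : C →* ℂˣ}

/-- **The three characters.** -/
theorem exists_sym (H : FHyp t z N S π) (hC : CHyp z q ε Z T T' U s s' u)
    (hD : DetHyp q ε T T' U s s' u r b) (_hr : 4 ∣ r) : ∃ a g w : G, Fr t a g w ∧
      (∃ n : N, ((n : Subgroup.centralizer ({t} : Set G)) : G) = a ∧ π n = u) ∧
      (∃ n : N, ((n : Subgroup.centralizer ({t} : Set G)) : G) = w ∧ π n = s) ∧
      ∃ ξ : T →* ℂˣ, XiHyp hC r b ξ ∧
      ∃ κ₁ κ₂ κ₃ : (Subgroup.centralizer ({t} : Set G) ⊓ Subgroup.centralizer ({a} : Set G) :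
        Subgroup G) →* ℂˣ,
      (∀ x, Odd (orderOf x) → κ₁ x = 1 ∧ κ₂ x = 1 ∧ κ₃ x = 1) ∧
      (∀ (n : N) (hn : ((n : Subgroup.centralizer ({t} : Set G)) : G) ∈
        (Subgroup.centralizer ({t} : Set G) ⊓ Subgroup.centralizer ({a} : Set G) : Subgroup G)),
        ∃ hT : π n ∈ T, κ₁ ⟨(n : Subgroup.centralizer ({t} : Set G)), hn⟩ = ξ ⟨π n, hT⟩ ∧
          κ₂ ⟨(n : Subgroup.centralizer ({t} : Set G)), hn⟩ = ξ (sg hC.torus ⟨π n, hT⟩) ∧
          κ₃ ⟨(n : Subgroup.centralizer ({t} : Set G)), hn⟩ * b (π n) = 1) ∧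
      (∀ x y : (Subgroup.centralizer ({t} : Set G) ⊓ Subgroup.centralizer ({a} : Set G) :
        Subgroup G), (y : G) = g * x * g⁻¹ → κ₁ y = κ₃ x ∧ κ₃ y = κ₁ x ∧ κ₂ y = κ₂ x) ∧
      (∀ x y : (Subgroup.centralizer ({t} : Set G) ⊓ Subgroup.centralizer ({a} : Set G) :
        Subgroup G), (y : G) = w * x * w⁻¹ → κ₁ y = κ₂ x ∧ κ₂ y = κ₁ x ∧ κ₃ y = κ₃ x) := by
  obtain ⟨m, hm1, hm⟩ := hD.r_pow
  obtain ⟨a', w', g, hp, hF⟩ := H.exists_fr hC
  have hN := H.ad.normal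
  obtain ⟨β, hβ1, hβ2⟩ := H.ad.exists_ext (m := m) (b.comp π) (fun x => by
    rw [← hm]; exact hD.pow_eq_one _)
  obtain ⟨κ₁, κ₂, κ₃, hκ, hκ3, hg, hw⟩ := exists_kap hF β hβ1
  -- the elements of `A ∩ N`
  have hM : ∀ n : N, ((n : Subgroup.centralizer ({t} : Set G)) : G) ∈
      (Subgroup.centralizer ({t} : Set G) ⊓
        Subgroup.centralizer ({((a' : Subgroup.centralizer ({t} : Set G)) : G)} : Set G) :
        Subgroup G) ↔ n ∈ Subgroup.centralizer ({a'} : Set N) := by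
    intro n
    rw [Subgroup.mem_inf, Subgroup.mem_centralizer_singleton_iff (g := a')]
    constructor
    · rintro ⟨-, h1⟩
      exact Subtype.ext (Subtype.ext (Subgroup.mem_centralizer_singleton_iff.1 h1))
    · intro h1
      exact ⟨SetLike.coe_mem _, Subgroup.mem_centralizer_singleton_iff.2
        (congrArg (fun x : N => ((x : Subgroup.centralizer ({t} : Set G)) : G)) h1)⟩
  -- characters of `2`-power order of `A`
  have hext : ∀ ψ : (Subgroup.centralizer ({t} : Set G) ⊓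
        Subgroup.centralizer ({((a' : Subgroup.centralizer ({t} : Set G)) : G)} : Set G) :
        Subgroup G) →* ℂˣ, (∀ x, ψ x ^ 2 ^ m = 1) →
      (∀ (n : N) (hn : _), ψ ⟨((n : Subgroup.centralizer ({t} : Set G)) : G), hn⟩ = 1) →
      ∀ x, ψ x = 1 := by
    intro ψ h1 h2 x
    refine eq_one_of_odd H.ad.odd_index_N (h1 x) ?_
    have h3 : (⟨(x : G), x.2.1⟩ : Subgroup.centralizer ({t} : Set G)) ^ N.index ∈ N :=
      Subgroup.pow_index_mem N _
    have h4 := h2 ⟨_, h3⟩ (x ^ N.index).2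
    rw [← map_pow]
    exact h4
  have hTm : ∀ (n : N), ((n : Subgroup.centralizer ({t} : Set G)) : G) ∈
      (Subgroup.centralizer ({t} : Set G) ⊓
        Subgroup.centralizer ({((a' : Subgroup.centralizer ({t} : Set G)) : G)} : Set G) :
        Subgroup G) → π n ∈ T := fun n hn =>
    WrInst.map_mem H.over hC hp (Subgroup.mem_centralizer_singleton_iff.1 ((hM n).1 hn))
  have hTs : ∀ x : T, ∃ (n : N) (hn : ((n : Subgroup.centralizer ({t} : Set G)) : G) ∈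
      (Subgroup.centralizer ({t} : Set G) ⊓
        Subgroup.centralizer ({((a' : Subgroup.centralizer ({t} : Set G)) : G)} : Set G) :
        Subgroup G)), (⟨π n, hTm n hn⟩ : T) = x := by
    intro x
    have h1 : (x : C) ∈ (Subgroup.centralizer ({a'} : Set N)).map π := by
      rw [WrInst.map_M H.over hC hp]; exact x.2
    obtain ⟨n, hn, hx⟩ := h1
    exact ⟨n, (hM n).2 hn, Subtype.ext hx⟩
  -- the restriction of `κ₃`
  have hκ3' : ∀ (n : N) (hn : _),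
      κ₃ ⟨((n : Subgroup.centralizer ({t} : Set G)) : G), hn⟩ * b (π n) = 1 := by
    intro n hn
    rw [hκ3, inv_mul_eq_one]
    exact hβ2 n
  -- the character `ξ`
  obtain ⟨ξ, hξ⟩ : ∃ ξ : T →* ℂˣ, ∀ (n : N) (hn : _),
      κ₁ ⟨((n : Subgroup.centralizer ({t} : Set G)) : G), hn⟩ = ξ ⟨π n, hTm n hn⟩ := by
    let inc : Subgroup.centralizer ({a'} : Set N) →* (Subgroup.centralizer ({t} : Set G) ⊓
        Subgroup.centralizer ({((a' : Subgroup.centralizer ({t} : Set G)) : G)} : Set G) :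
        Subgroup G) :=
      { toFun := fun x => ⟨(((x : N) : Subgroup.centralizer ({t} : Set G)) : G), (hM x).2 x.2⟩
        map_one' := rfl
        map_mul' := fun _ _ => rfl }
    let π' : Subgroup.centralizer ({a'} : Set N) →* T :=
      { toFun := fun x => ⟨π x, hTm x ((hM x).2 x.2)⟩
        map_one' := Subtype.ext (map_one π)
        map_mul' := fun x y => Subtype.ext (map_mul π (x : N) (y : N)) }
    have hs : Function.Surjective π' := by
      intro x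
      obtain ⟨n, hn, hx⟩ := hTs x
      exact ⟨⟨n, (hM n).1 hn⟩, hx⟩
    have hker : π'.ker ≤ (κ₁.comp inc).ker := by
      intro x hx
      have h1 : π (x : N) = 1 := congrArg Subtype.val (MonoidHom.mem_ker.1 hx)
      have h2 : x ^ Nat.card π.ker = 1 := Subtype.ext (WrInst.pow_card_ker π h1)
      rw [MonoidHom.mem_ker]
      refine eq_one_of_odd H.odd_ker ((hκ _).1) ?_
      rw [← map_pow, h2, map_one]
    refine ⟨π'.liftOfSurjective hs ⟨κ₁.comp inc, hker⟩, fun n hn => ?_⟩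
    exact (π'.liftOfRightInverse_comp_apply _ (Function.rightInverse_surjInv hs)
      ⟨κ₁.comp inc, hker⟩ ⟨n, (hM n).1 hn⟩).symm
  -- `κ₂`
  have hξ2 : ∀ (n : N) (hn : _), κ₂ ⟨((n : Subgroup.centralizer ({t} : Set G)) : G), hn⟩ =
      ξ (sg hC.torus ⟨π n, hTm n hn⟩) := by
    intro n hn
    have h1 : ((((w' * n * w'⁻¹ : N) : N) : Subgroup.centralizer ({t} : Set G)) : G) ∈
      (Subgroup.centralizer ({t} : Set G) ⊓
        Subgroup.centralizer ({((a' : Subgroup.centralizer ({t} : Set G)) : G)} : Set G) :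
        Subgroup G) := by
      have h2 := hF.inM_w (x := ((n : Subgroup.centralizer ({t} : Set G)) : G))
        ⟨Subgroup.mem_centralizer_singleton_iff.1 hn.1,
          Subgroup.mem_centralizer_singleton_iff.1 hn.2⟩
      exact ⟨Subgroup.mem_centralizer_singleton_iff.2 h2.1,
        Subgroup.mem_centralizer_singleton_iff.2 h2.2⟩
    rw [← (hw ⟨_, hn⟩ ⟨_, h1⟩ rfl).1, hξ]
    congr 1
    apply Subtype.ext
    rw [sg_coe]
    change π (w' * n * w'⁻¹) = s * π n * s⁻¹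
    rw [map_mul, map_mul, map_inv, hp.map_w]
  -- the values at `t`
  have htA : ((tN H : Subgroup.centralizer ({t} : Set G)) : G) ∈
      (Subgroup.centralizer ({t} : Set G) ⊓
        Subgroup.centralizer ({((a' : Subgroup.centralizer ({t} : Set G)) : G)} : Set G) :
        Subgroup G) :=
    (hM _).2 (Subgroup.mem_centralizer_singleton_iff.2 (H.tN_comm a').eq)
  have haA : ((a' : Subgroup.centralizer ({t} : Set G)) : G) ∈
      (Subgroup.centralizer ({t} : Set G) ⊓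
        Subgroup.centralizer ({((a' : Subgroup.centralizer ({t} : Set G)) : G)} : Set G) :
        Subgroup G) :=
    (hM _).2 (Subgroup.mem_centralizer_singleton_iff.2 rfl)
  have ht3 : κ₃ ⟨_, htA⟩ = 1 := by
    have h1 := hκ3' (tN H) htA
    rwa [H.map_tN, WrChar.b_z hC hD, mul_one] at h1
  have ha3 : κ₃ ⟨_, haA⟩ = -1 := by
    have h1 := hκ3' a' haA
    rw [hp.map_u, hD.b_u] at h1
    rw [eq_inv_of_mul_eq_one_left h1, inv_neg_one]
  have ht1 : κ₁ ⟨_, htA⟩ = -1 := by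
    rw [(hg ⟨_, haA⟩ ⟨_, htA⟩ hF.ga.symm).1, ha3]
  have ht2 : κ₂ ⟨_, htA⟩ = -1 := by
    rw [← (hw ⟨_, htA⟩ ⟨_, htA⟩ hF.wt.symm).1, ht1]
  have hpow : ∀ x : T, ξ x ^ r = 1 := by
    intro x
    obtain ⟨n, hn, rfl⟩ := hTs x
    rw [← hξ n hn, hm]
    exact (hκ _).1
  have hz : ξ ⟨z, WrChar.z_mem hC⟩ = -1 := by
    rw [← ht1, hξ _ htA]
    congr 1
    exact Subtype.ext H.map_tN.symm
  -- the product
  have hmul : ∀ x, κ₁ x * κ₂ x * κ₃ x = 1 := by
    obtain ⟨ξ₀, hξ₀⟩ := exists_xiHyp hC hD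
    obtain ⟨i, j, hij⟩ := exists_X hD hξ₀ ξ hpow
    refine perm_mul hF (fun x => (hκ x).2.2) hg hw ht3 ht1 ht2 (l := i + j) ?_
    refine hext (κ₁ * κ₂ * κ₃ ^ (i + j)) (fun x => ?_) (fun n hn => ?_)
    · rw [MonoidHom.mul_apply, MonoidHom.mul_apply, MonoidHom.pow_apply, mul_pow, mul_pow,
        (hκ x).1, (hκ x).2.1, ← pow_mul, mul_comm (i + j), pow_mul, (hκ x).2.2, one_pow, one_mul,
        one_mul]
    · rw [MonoidHom.mul_apply, MonoidHom.mul_apply, MonoidHom.pow_apply, hξ, hξ2]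
      have h1 : ξ ⟨π n, hTm n hn⟩ * ξ (sg hC.torus ⟨π n, hTm n hn⟩) = b (π n) ^ (i + j) := by
        rw [hij, X_apply, X_apply, sg_sg]
        have h2 := hξ₀.mul ⟨π n, hTm n hn⟩
        change _ = b (π n) at h2
        rw [← h2, mul_pow, pow_add, pow_add]
        exact mul_aux' _ _ _ _
      rw [h1, ← mul_pow, mul_comm, hκ3', one_pow]
  have hξm : ∀ x : T, ξ x * ξ (sg hC.torus x) = b x := by
    intro x
    obtain ⟨n, hn, rfl⟩ := hTs x
    have h1 := hmul ⟨_, hn⟩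
    rw [hξ, hξ2] at h1
    have h2 := hκ3' n hn
    rw [mul_comm] at h2
    exact mul_right_cancel (h1.trans h2.symm)
  refine ⟨_, g, _, hF, ⟨a', rfl, hp.map_u⟩, ⟨w', rfl, hp.map_w⟩, ξ, ⟨hξm, hpow, hz, ?_⟩,
    κ₁, κ₂, κ₃, ?_, fun n hn => ⟨hTm n hn, hξ n hn, hξ2 n hn, hκ3' n hn⟩, hg, hw⟩
  · -- independence
    intro i j hij
    have hpz : ∀ (y : ℂˣ) (k : ℤ), y ^ 2 ^ m = 1 → (y ^ k) ^ 2 ^ m = 1 := by
      intro y k hy
      rw [← zpow_natCast, ← zpow_mul, mul_comm, zpow_mul, zpow_natCast, hy, one_zpow]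
    have h1 : ∀ x, κ₁ x ^ i * κ₂ x ^ j = 1 := by
      refine hext ((zpowGroupHom i).comp κ₁ * (zpowGroupHom j).comp κ₂) (fun x => ?_)
        (fun n hn => ?_)
      · change (κ₁ x ^ i * κ₂ x ^ j) ^ 2 ^ m = 1
        rw [mul_pow, hpz _ _ (hκ x).1, hpz _ _ (hκ x).2.1, mul_one]
      · change κ₁ ⟨_, hn⟩ ^ i * κ₂ ⟨_, hn⟩ ^ j = 1
        rw [hξ, hξ2]
        exact hij _
    have h2 := perm_indep hF (fun x => (hκ x).2.2) hg hw hmul h1
    obtain ⟨x, hx, hox⟩ := hD.exists_T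
    obtain ⟨n, hn, hnx⟩ := hTs ⟨x, hx⟩
    have h3 : orderOf (κ₃ ⟨_, hn⟩) = r := by
      rw [eq_inv_of_mul_eq_one_left (hκ3' n hn), orderOf_inv, ← hox]
      congr 2
      exact congrArg Subtype.val hnx
    rw [← h3]
    exact ⟨orderOf_dvd_iff_zpow_eq_one.2 (h2 ⟨_, hn⟩).1,
      orderOf_dvd_iff_zpow_eq_one.2 (h2 ⟨_, hn⟩).2⟩
  · intro x hx
    refine ⟨?_, ?_, ?_⟩
    · exact eq_one_of_odd hx (hκ x).1 (by rw [← map_pow, pow_orderOf_eq_one, map_one])
    · exact eq_one_of_odd hx (hκ x).2.1 (by rw [← map_pow, pow_orderOf_eq_one, map_one])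
    · exact eq_one_of_odd hx (hκ x).2.2 (by rw [← map_pow, pow_orderOf_eq_one, map_one])

end Sym

end Cfsg.Agent.Classification.QDW.Fld
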