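import Mathlib
import Cfsg.Agent.Classification.QDW.FldC
import Cfsg.Agent.Classification.InvCent.WrVec
import Cfsg.Agent.Classification.InvCent.WrVal

/-!
# The functions `aa m`, `ff m` of the wreathed case on `C`

`aa m = (1 - b^m) + R_T(1) - R_T(ξ^(r-m))`, `ff m` is the restriction of `aa m` to the elements
having `z` as a power. Inner products, values at `z`, pair sums; both are in the span of the
principal 2-block.
-/

set_option autoImplicit false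
set_option linter.unusedSectionVars false

open Cfsg
open scoped ComplexConjugate

namespace Cfsg.Agent.Classification.QDW.WrFVec

open Cfsg.Agent.Characters Cfsg.Agent.Blocks.Local Cfsg.Agent.Blocks.Basic
  Cfsg.Agent.Classification.BGBlockB0 Cfsg.Agent.Classification.InvCent
  Cfsg.Agent.Classification.InvCent.LinChar Cfsg.Agent.Classification.InvCent.WrChar
  Cfsg.Agent.Classification.InvCent.WrFun Cfsg.Agent.Classification.InvCent.WrPsi
  Cfsg.Agent.Classification.InvCent.WrVec Cfsg.Agent.Classification.QDW.Fld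

/-! ### Sections -/

section Prin

variable {Γ : Type*} [Group Γ] [Finite Γ] {M : Ideal AlgInt}

/-- Criterion by sections of all 2-elements. -/
theorem prin_of_section' (hM : IsPModular 2 M) {ϑ : Γ → ℂ} (hϑ : IsClassFunction Γ ϑ)
    (h : ∀ a : Γ, (∃ k : ℕ, orderOf a = 2 ^ k) →
      ∃ η : Subgroup.centralizer ({a} : Set Γ) → ℂ, Prin M η ∧
        ∀ y : Subgroup.centralizer ({a} : Set Γ), Odd (orderOf y) → ϑ (a * y) = η y) :
    Prin M ϑ := by
  have : Fact (Nat.Prime 2) := ⟨Nat.prime_two⟩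
  funext x
  obtain ⟨a, hpp⟩ := Blocks.SecondMain.exists_isPPart Nat.prime_two x
  obtain ⟨y, rfl, hc, hord, hy⟩ := hpp
  obtain ⟨η, h1, h2⟩ := h a hord
  have hyC : y ∈ Subgroup.centralizer ({a} : Set Γ) := by
    rw [Subgroup.mem_centralizer_singleton_iff]
    exact hc.eq.symm
  have hy' : ¬ 2 ∣ orderOf (⟨y, hyC⟩ : Subgroup.centralizer ({a} : Set Γ)) := by
    rwa [Subgroup.orderOf_mk]
  have hyo : Odd (orderOf (⟨y, hyC⟩ : Subgroup.centralizer ({a} : Set Γ))) :=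
    Nat.not_even_iff_odd.1 fun h3 => hy' (even_iff_two_dvd.1 h3)
  have h3 := section_part hM a hord rfl hϑ ⟨y, hyC⟩ hy'
  rw [h3]
  have hcl : IsClassFunction (Subgroup.centralizer ({a} : Set Γ))
      (fun c : Subgroup.centralizer ({a} : Set Γ) => ϑ (a * (c : Γ))) := by
    intro g k
    have h4 : k * a = a * k := Subgroup.mem_centralizer_singleton_iff.1 k.2
    have h5 : a * ((k * g * k⁻¹ : Subgroup.centralizer ({a} : Set Γ)) : Γ) =
        (k : Γ) * (a * (g : Γ)) * (k : Γ)⁻¹ := by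
      push_cast
      rw [← mul_assoc, ← mul_assoc, ← mul_assoc, h4]
    change ϑ (a * ((k * g * k⁻¹ : Subgroup.centralizer ({a} : Set Γ)) : Γ)) = ϑ (a * (g : Γ))
    rw [h5, hϑ]
  rw [blockPart_of_odd hM hcl h1 (fun y hy => h2 y hy) hyo]
  exact (h2 _ hyo).symm

/-- A class function invariant under translation by commuting elements of odd order. -/
theorem prin_of_const (hM : IsPModular 2 M) {ϑ : Γ → ℂ} (hϑ : IsClassFunction Γ ϑ)
    (h : ∀ a y : Γ, Commute a y → Odd (orderOf y) → ϑ (a * y) = ϑ a) : Prin M ϑ := by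
  refine prin_of_section' hM hϑ fun a ha => ⟨ϑ a • 1, (prin_one hM).smul _, fun y hy => ?_⟩
  rw [Pi.smul_apply, Pi.one_apply, smul_eq_mul, mul_one]
  exact h a y (Subgroup.mem_centralizer_singleton_iff.1 y.2).symm (by rwa [Subgroup.orderOf_coe])

end Prin

section C

variable {C : Type*} [Group C] [Fintype C] {z : C} {q : ℕ} {ε : ℤ} {Z T T' U : Subgroup C}
  {s s' u : C} {M : Ideal AlgInt}

/-- `R_T(g)` on the section of a 2-element outside `Z`, `g` invariant everywhere. -/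
theorem R_section_T' (h : CHyp z q ε Z T T' U s s' u) {δ : ℤ} {T₁ T₂ : Subgroup C} {s₁ s₂ : C}
    (hT : Torus q δ Z T₁ s₁) (hT₂ : Torus q (-δ) Z T₂ s₂)
    (hexh : ∀ c : C, ∃ g : C, g * c * g⁻¹ ∈ T₁ ∨ g * c * g⁻¹ ∈ T₂ ∨
      ∃ z ∈ Z, ∃ v ∈ U, g * c * g⁻¹ = z * v)
    {μ : U →* ℂˣ} {g : C → ℂ}
    (hg : ∀ x ∈ T₁, ∀ y ∈ T₁, Odd (orderOf y) → g (x * y) = g x)
    {a : C} (ha : a ∉ Z) (ha2 : ∃ k : ℕ, orderOf a = 2 ^ k)
    {y : C} (hc : Commute a y) (hy : Odd (orderOf y)) :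
    Torus.R T₁ h.base μ g (a * y) = Torus.R T₁ h.base μ g a := by
  obtain ⟨c, hcc⟩ := hexh a
  have e0 : c * (a * y) * c⁻¹ = (c * a * c⁻¹) * (c * y * c⁻¹) := by group
  rw [← Torus.R_isClassFunction h.base g (a * y) c, ← Torus.R_isClassFunction h.base g a c, e0]
  have hyo : Odd (orderOf (c * y * c⁻¹)) := by
    have h1 : orderOf (c * y * c⁻¹) = orderOf y := (MulAut.conj c).orderOf_eq y
    rwa [h1]
  have ha2' : ∃ k : ℕ, orderOf (c * a * c⁻¹) = 2 ^ k := by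
    have h1 : orderOf (c * a * c⁻¹) = orderOf a := (MulAut.conj c).orderOf_eq a
    rwa [h1]
  have haZ : c * a * c⁻¹ ∉ Z := by
    intro h1
    apply ha
    have h2 : a = c⁻¹ * ((c * a * c⁻¹) * c) := by group
    rw [h2, ← h.Z_central _ h1 c, ← mul_assoc, inv_mul_cancel, one_mul]
    exact h1
  have hcom : Commute (c * a * c⁻¹) (c * y * c⁻¹) := by
    show c * a * c⁻¹ * (c * y * c⁻¹) = c * y * c⁻¹ * (c * a * c⁻¹)
    calc c * a * c⁻¹ * (c * y * c⁻¹) = c * (a * y) * c⁻¹ := by group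
      _ = c * (y * a) * c⁻¹ := by rw [hc.eq]
      _ = c * y * c⁻¹ * (c * a * c⁻¹) := by group
  generalize c * a * c⁻¹ = x at *
  generalize c * y * c⁻¹ = w at *
  have hne : -δ ≠ δ := by
    rcases hT.sign with h1 | h1 <;> rw [h1] <;> decide
  have hxw : x * w ∉ Z := mul_notMem_Z hcom ha2' hyo haZ
  rcases hcc with hx | hx | ⟨z, hz, v, hv, rfl⟩
  · have hw : w ∈ T₁ := hT.cent x hx haZ w hcom.eq.symm
    have hso : Odd (orderOf (s₁ * w * s₁⁻¹)) := by
      have h1 : orderOf (s₁ * w * s₁⁻¹) = orderOf w := (MulAut.conj s₁).orderOf_eq w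
      rwa [h1]
    have e1 : s₁ * (x * w) * s₁⁻¹ = (s₁ * x * s₁⁻¹) * (s₁ * w * s₁⁻¹) := by group
    rw [hT.R_T h.base _ (mul_mem hx hw) hxw, hT.R_T h.base _ hx haZ, e1, hg x hx w hw hyo,
      hg _ (hT.s_conj x hx) _ (hT.s_conj w hw) hso]
  · have hw : w ∈ T₂ := hT₂.cent x hx haZ w hcom.eq.symm
    rw [hT.R_T' hT₂ hne h.base _ (mul_mem hx hw) hxw, hT.R_T' hT₂ hne h.base _ hx haZ]
  · exfalso
    apply haZ
    rw [eq_one_of_two_ZU h hz hv ha2', mul_one]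
    exact hz

/-- **The functions `R_T(g)`, `g` invariant under translation by elements of odd order, are in
the span of the principal block.** -/
theorem prin_R_gen (h : CHyp z q ε Z T T' U s s' u) (hM : IsPModular 2 M)
    {μ : U →* ℂˣ} (hμ : ∃ v : U, μ v ≠ 1) {g : C → ℂ}
    (hg : ∀ x ∈ T, ∀ y ∈ T, Odd (orderOf y) → g (x * y) = g x) :
    Prin M (Torus.R T h.base μ g) := by
  refine prin_of_section' hM (Torus.R_isClassFunction _ _) ?_
  intro a ha2
  by_cases haZ : a ∈ Z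
  · refine ⟨fun y => (g a • Torus.R T h.base μ (fun _ => 1))
      ((Subgroup.centralizer ({a} : Set C)).subtype y),
      Prin.comp hM ?_ ((prin_R_one h hM hμ).smul (g a)), ?_⟩
    · intro c
      refine ⟨⟨c, ?_⟩, rfl⟩
      rw [Subgroup.mem_centralizer_singleton_iff]
      exact h.Z_central a haZ c
    · intro y hy
      have hyo : Odd (orderOf (y : C)) := by rwa [Subgroup.orderOf_coe]
      rw [R_section h h.torus h.torus' h.exhaust hμ haZ (hg a (h.torus.Z_le haZ)) hyo]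
      rfl
  · refine ⟨Torus.R T h.base μ g a • 1, (prin_one hM).smul _, ?_⟩
    intro y hy
    have hyo : Odd (orderOf (y : C)) := by rwa [Subgroup.orderOf_coe]
    rw [Pi.smul_apply, Pi.one_apply, smul_eq_mul, mul_one]
    exact R_section_T' h h.torus h.torus' h.exhaust hg haZ ha2
      (Subgroup.mem_centralizer_singleton_iff.1 y.2).symm hyo

theorem pow_odd_eq_one {r : ℕ} (hr : ∃ m, r = 2 ^ m) {w : ℂˣ} (h1 : w ^ r = 1) {n : ℕ}
    (hn : Odd n) (h2 : w ^ n = 1) : w = 1 := by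
  obtain ⟨m, rfl⟩ := hr
  have h3 : Nat.Coprime n (2 ^ m) := Nat.Coprime.pow_right _ (Nat.coprime_two_right.2 hn)
  exact orderOf_eq_one_iff.1 (Nat.eq_one_of_dvd_coprimes h3 (orderOf_dvd_of_pow_eq_one h2)
    (orderOf_dvd_of_pow_eq_one h1))

variable {r : ℕ} {b : C →* ℂˣ} {hC : CHyp z q ε Z T T' U s s' u} {μ : U →* ℂˣ}
  {ξ : T →* ℂˣ} {θ : T' →* ℂˣ}

theorem r_pow' (hD : DetHyp q ε T T' U s s' u r b) : ∃ m, r = 2 ^ m := by
  obtain ⟨m, -, h⟩ := hD.r_pow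
  exact ⟨m, h⟩

theorem b_odd (hD : DetHyp q ε T T' U s s' u r b) {y : C} (hy : Odd (orderOf y)) : b y = 1 :=
  pow_odd_eq_one (r_pow' hD) (hD.pow_eq_one y) hy (by rw [← map_pow, pow_orderOf_eq_one, map_one])

theorem xi_odd (hD : DetHyp q ε T T' U s s' u r b) (hξ : XiHyp hC r b ξ) {y : T}
    (hy : Odd (orderOf (y : C))) : ξ y = 1 := by
  refine pow_odd_eq_one (r_pow' hD) (hξ.pow y) hy ?_
  rw [Subgroup.orderOf_coe, ← map_pow, pow_orderOf_eq_one, map_one]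

theorem odd_sg (hC : CHyp z q ε Z T T' U s s' u) {y : T} (hy : Odd (orderOf (y : C))) :
    Odd (orderOf (sg hC.torus y : C)) := by
  have h1 : orderOf (sg hC.torus y : C) = orderOf (y : C) := by
    rw [sg_coe]
    exact (MulAut.conj s).orderOf_eq (y : C)
  rwa [h1]

theorem X_odd (hD : DetHyp q ε T T' U s s' u r b) (hξ : XiHyp hC r b ξ) {y : T}
    (hy : Odd (orderOf (y : C))) (i j : ℕ) : X hC ξ i j y = 1 := by
  rw [X_apply, xi_odd hD hξ hy, xi_odd hD hξ (odd_sg hC hy), one_pow, one_pow, one_mul]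

theorem prin_Rt (hM : IsPModular 2 M) (hD : DetHyp q ε T T' U s s' u r b)
    (hξ : XiHyp hC r b ξ) (hμ : ∃ v : U, μ v ≠ 1) (i j : ℕ) :
    Prin M (Rt hC μ (X hC ξ i j)) := by
  refine prin_R_gen hC hM hμ fun x hx y hy hyo => ?_
  rw [lin_apply _ (mul_mem hx hy), lin_apply _ hx]
  have h1 : (⟨x * y, mul_mem hx hy⟩ : T) = ⟨x, hx⟩ * ⟨y, hy⟩ := rfl
  rw [h1, map_mul, X_odd hD hξ (y := ⟨y, hy⟩) hyo, mul_one]

theorem isClass_bb (l : ℕ) : IsClassFunction C (bb b l) := by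
  intro x c
  unfold bb
  rw [map_mul, map_mul, map_inv, mul_comm (b c), mul_inv_cancel_right]

theorem prin_bb (hM : IsPModular 2 M) (hD : DetHyp q ε T T' U s s' u r b) (l : ℕ) :
    Prin M (bb b l) := by
  refine prin_of_const hM (isClass_bb l) fun a y _ hy => ?_
  unfold bb
  rw [map_mul, b_odd hD hy, mul_one]

end C

/-! ### Sums over `μ_r × μ_r` -/

section Sym

/-- `a^k = c^k = -1` for some `k`. -/
def dd (a c : ℂˣ) : Prop := ∃ k : ℕ, a ^ k = -1 ∧ c ^ k = -1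

theorem dd_unique {a c : ℂˣ} {k l : ℕ} (h1 : a ^ k = -1) (h2 : c ^ k = -1) (h3 : c ^ l = -1)
    (h4 : a ^ l = 1) : False := by
  have hk : k ≠ 0 := by
    rintro rfl
    rw [pow_zero] at h1
    exact neg_one_ne h1.symm
  have hl : l ≠ 0 := by
    rintro rfl
    rw [pow_zero] at h3
    exact neg_one_ne h3.symm
  obtain ⟨κ, k', hk', rfl⟩ := Nat.exists_eq_two_pow_mul_odd hk
  obtain ⟨m, l', hl', rfl⟩ := Nat.exists_eq_two_pow_mul_odd hl
  have e1 : a ^ (2 ^ κ * k' * l') = -1 := by rw [pow_mul, h1, hl'.neg_one_pow]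
  have e2 : c ^ (2 ^ κ * k' * l') = -1 := by rw [pow_mul, h2, hl'.neg_one_pow]
  have e3 : a ^ (2 ^ m * l' * k') = 1 := by rw [pow_mul, h4, one_pow]
  have e4 : c ^ (2 ^ m * l' * k') = -1 := by rw [pow_mul, h3, hk'.neg_one_pow]
  rcases lt_or_ge κ m with h | h
  · obtain ⟨d, rfl⟩ := Nat.exists_eq_add_of_lt h
    have h5 : 2 ^ (κ + d + 1) * l' * k' = 2 ^ κ * k' * l' * (2 * 2 ^ d) := by ring
    rw [h5, pow_mul, e2, pow_mul, neg_one_sq, one_pow] at e4
    exact neg_one_ne e4.symm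
  · obtain ⟨d, rfl⟩ := Nat.exists_eq_add_of_le h
    have h5 : 2 ^ (m + d) * k' * l' = 2 ^ m * l' * k' * 2 ^ d := by ring
    rw [h5, pow_mul, e3, one_pow] at e1
    exact neg_one_ne e1.symm

theorem dd_exists {a c : ℂˣ} {n : ℕ} (ha : a ^ 2 ^ n = 1) (hc : c ^ 2 ^ n = 1)
    (h : ¬ (a = 1 ∧ c = 1)) :
    ∃ k : ℕ, (a ^ k = -1 ∧ c ^ k = -1) ∨ (a ^ k = 1 ∧ c ^ k = -1) ∨ (a ^ k = -1 ∧ c ^ k = 1) := by
  induction n with
  | zero =>
    rw [pow_zero, pow_one] at ha hc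
    exact absurd ⟨ha, hc⟩ h
  | succ n ih =>
    by_cases h1 : a ^ 2 ^ n = 1 ∧ c ^ 2 ^ n = 1
    · exact ih h1.1 h1.2
    · have ha' := WrXi.units_sq (w := a ^ 2 ^ n) (by rw [← pow_add, ← two_mul, ← pow_succ', ha])
      have hc' := WrXi.units_sq (w := c ^ 2 ^ n) (by rw [← pow_add, ← two_mul, ← pow_succ', hc])
      refine ⟨2 ^ n, ?_⟩
      tauto

variable {r : ℕ}

/-- The group `μ_r × μ_r`. -/
abbrev G2 (r : ℕ) : Type := rootsOfUnity r ℂ × rootsOfUnity r ℂ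

/-- The automorphism `(a, c) ↦ (c, (ac)⁻¹)`. -/
def phi (r : ℕ) : G2 r ≃ G2 r where
  toFun g := (g.2, (g.1 * g.2)⁻¹)
  invFun g := ((g.1 * g.2)⁻¹, g.1)
  left_inv g := by
    refine Prod.ext ?_ rfl
    simp
  right_inv g := by
    refine Prod.ext rfl ?_
    simp

theorem phi_fst (g : G2 r) : ((phi r g).1 : ℂˣ) = g.2 := rfl

theorem phi_snd (g : G2 r) : ((phi r g).2 : ℂˣ) = ((g.1 : ℂˣ) * g.2)⁻¹ := rfl

open Classical in
theorem sum_sym [Fintype (G2 r)] (hr : ∃ n, r = 2 ^ n) (N : G2 r → ℂ) (hN : ∀ g, N (phi r g) = N g)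
    (h1 : N 1 = 0) :
    ∑ g, N g = 3 * ∑ g, if dd (g.1 : ℂˣ) (g.2 : ℂˣ) then N g else 0 := by
  obtain ⟨n, hn⟩ := hr
  have key : ∀ g : G2 r, N g = (if dd (g.1 : ℂˣ) (g.2 : ℂˣ) then N g else 0) +
      (if dd ((phi r g).1 : ℂˣ) ((phi r g).2 : ℂˣ) then N (phi r g) else 0) +
      (if dd ((phi r (phi r g)).1 : ℂˣ) ((phi r (phi r g)).2 : ℂˣ) then N (phi r (phi r g))
        else 0) := by
    intro g
    rw [hN (phi r g), hN g]
    by_cases hg : g = 1
    · rw [hg, h1]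
      simp
    obtain ⟨⟨a, ha0⟩, ⟨c, hc0⟩⟩ := g
    have ha : a ^ 2 ^ n = 1 := by rw [← hn]; exact (mem_rootsOfUnity _ _).1 ha0
    have hc : c ^ 2 ^ n = 1 := by rw [← hn]; exact (mem_rootsOfUnity _ _).1 hc0
    have hne : ¬ (a = 1 ∧ c = 1) := by
      rintro ⟨rfl, rfl⟩
      exact hg rfl
    have e1 : ∀ k, (((a * c)⁻¹ : ℂˣ)) ^ k = (a ^ k * c ^ k)⁻¹ := fun k => by
      rw [inv_pow, mul_pow]
    have e2 : ((c * (a * c)⁻¹)⁻¹ : ℂˣ) = a := by
      rw [mul_inv_rev, inv_inv, mul_assoc, mul_inv_cancel, mul_one]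
    have f1 : dd ((phi r (⟨a, ha0⟩, ⟨c, hc0⟩)).1 : ℂˣ) ((phi r (⟨a, ha0⟩, ⟨c, hc0⟩)).2 : ℂˣ) ↔
        dd c (a * c)⁻¹ := Iff.rfl
    have f2 : dd ((phi r (phi r (⟨a, ha0⟩, ⟨c, hc0⟩))).1 : ℂˣ)
        ((phi r (phi r (⟨a, ha0⟩, ⟨c, hc0⟩))).2 : ℂˣ) ↔ dd (a * c)⁻¹ a := by
      rw [phi_fst, phi_snd, phi_snd, phi_fst]
      change dd (a * c)⁻¹ (c * (a * c)⁻¹)⁻¹ ↔ _
      rw [e2]
    obtain ⟨k, hk | hk | hk⟩ := dd_exists ha hc hne
    · have d1 : dd a c := ⟨k, hk⟩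
      have d2 : ¬ dd c (a * c)⁻¹ := by
        rintro ⟨l, hl1, hl2⟩
        rw [e1, hl1, inv_eq_iff_eq_inv, inv_neg, inv_one] at hl2
        have hl3 : a ^ l = 1 := by
          have := congrArg (· * (-1 : ℂˣ)) hl2
          simpa using this
        exact dd_unique hk.1 hk.2 hl1 hl3
      have d3 : ¬ dd (a * c)⁻¹ a := by
        rintro ⟨l, hl1, hl2⟩
        rw [e1, hl2, inv_eq_iff_eq_inv, inv_neg, inv_one] at hl1
        have hl3 : c ^ l = 1 := by
          have := congrArg ((-1 : ℂˣ) * ·) hl1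
          simpa using this
        exact dd_unique hk.2 hk.1 hl2 hl3
      rw [if_pos d1, if_neg (fun h => d2 (f1.1 h)), if_neg (fun h => d3 (f2.1 h))]
      ring
    · have d2 : dd c (a * c)⁻¹ := ⟨k, hk.2, by rw [e1, hk.1, hk.2, one_mul, inv_neg, inv_one]⟩
      have d1 : ¬ dd a c := fun ⟨l, hl⟩ => dd_unique hl.1 hl.2 hk.2 hk.1
      have d3 : ¬ dd (a * c)⁻¹ a := by
        rintro ⟨l, hl1, hl2⟩
        rw [e1, hl2, inv_eq_iff_eq_inv, inv_neg, inv_one] at hl1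
        have hl3 : c ^ l = 1 := by
          have := congrArg ((-1 : ℂˣ) * ·) hl1
          simpa using this
        -- `c^k = -1`, `a^k = 1`, `a^l = -1`, `c^l = 1`: then `(ac)^k = -1`, `(ac)^l = -1`
        refine dd_unique (a := c) (c := a * c) (k := k) (l := l) hk.2 ?_ ?_ hl3
        · rw [mul_pow, hk.1, hk.2, one_mul]
        · rw [mul_pow, hl2, hl3, mul_one]
      rw [if_neg d1, if_pos (f1.2 d2), if_neg (fun h => d3 (f2.1 h))]
      ring
    · have d3 : dd (a * c)⁻¹ a := ⟨k, by rw [e1, hk.1, hk.2, mul_one, inv_neg, inv_one], hk.1⟩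
      have d1 : ¬ dd a c := fun ⟨l, hl⟩ => dd_unique hl.2 hl.1 hk.1 hk.2
      have d2 : ¬ dd c (a * c)⁻¹ := by
        rintro ⟨l, hl1, hl2⟩
        rw [e1, hl1, inv_eq_iff_eq_inv, inv_neg, inv_one] at hl2
        have hl3 : a ^ l = 1 := by
          have := congrArg (· * (-1 : ℂˣ)) hl2
          simpa using this
        refine dd_unique (a := a) (c := a * c) (k := k) (l := l) hk.1 ?_ ?_ hl3
        · rw [mul_pow, hk.1, hk.2, mul_one]
        · rw [mul_pow, hl1, hl3, one_mul]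
      rw [if_neg d1, if_neg (fun h => d2 (f1.1 h)), if_pos (f2.2 d3)]
      ring
  rw [Finset.sum_congr rfl fun g _ => key g, Finset.sum_add_distrib, Finset.sum_add_distrib]
  have s1 := Equiv.sum_comp (phi r) fun g => if dd (g.1 : ℂˣ) (g.2 : ℂˣ) then N g else 0
  have s2 : ∑ g, (if dd ((phi r (phi r g)).1 : ℂˣ) ((phi r (phi r g)).2 : ℂˣ) then
      N (phi r (phi r g)) else 0) = ∑ g, if dd (g.1 : ℂˣ) (g.2 : ℂˣ) then N g else 0 :=
    Equiv.sum_comp ((phi r).trans (phi r)) fun g => if dd (g.1 : ℂˣ) (g.2 : ℂˣ) then N g else 0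
  rw [s1, s2]
  ring

end Sym

/-! ### The homomorphism `T → μ_r × μ_r` -/

section Hom

variable {C : Type*} [Group C] [Fintype C] {z : C} {q : ℕ} {ε : ℤ} {Z T T' U : Subgroup C}
  {s s' u : C} {r : ℕ} {b : C →* ℂˣ} {hC : CHyp z q ε Z T T' U s s' u} {ξ : T →* ℂˣ}

/-- The homomorphism `x ↦ (ξ x, ξ^s x)`. -/
def EE (hξ : XiHyp hC r b ξ) : T →* G2 r :=
  (ξ.codRestrict (rootsOfUnity r ℂ) fun x => (mem_rootsOfUnity _ _).2 (hξ.pow x)).prod
    ((ξ.comp (sg hC.torus)).codRestrict (rootsOfUnity r ℂ)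
      fun _ => (mem_rootsOfUnity _ _).2 (hξ.pow _))

theorem EE_fst (hξ : XiHyp hC r b ξ) (x : T) : ((EE hξ x).1 : ℂˣ) = ξ x := rfl

theorem EE_snd (hξ : XiHyp hC r b ξ) (x : T) : ((EE hξ x).2 : ℂˣ) = ξ (sg hC.torus x) := rfl

theorem card_ker (hD : DetHyp q ε T T' U s s' u r b) (hξ : XiHyp hC r b ξ) :
    Nat.card (EE hξ).ker * (r * r) = Nat.card T := by
  classical
  have : Fintype T := Fintype.ofFinite T
  have h0 := two_r hD
  -- the double sum
  have h1 : ∑ x : T, (∑ i ∈ Finset.range r, (ξ x : ℂ) ^ i) *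
      (∑ j ∈ Finset.range r, (ξ (sg hC.torus x) : ℂ) ^ j) = Nat.card T := by
    have e1 : ∀ x : T, (∑ i ∈ Finset.range r, (ξ x : ℂ) ^ i) *
        (∑ j ∈ Finset.range r, (ξ (sg hC.torus x) : ℂ) ^ j) =
        ∑ i ∈ Finset.range r, ∑ j ∈ Finset.range r, (X hC ξ i j x : ℂ) := by
      intro x
      rw [Finset.sum_mul_sum]
      refine Finset.sum_congr rfl fun i _ => Finset.sum_congr rfl fun j _ => ?_
      rw [X_apply, Units.val_mul, Units.val_pow_eq_pow_val, Units.val_pow_eq_pow_val]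
    have e2 : ∀ i ∈ Finset.range r, ∀ j ∈ Finset.range r, ∑ x : T, (X hC ξ i j x : ℂ) =
        if i = 0 ∧ j = 0 then (Nat.card T : ℂ) else 0 := by
      intro i hi j hj
      have e3 : ∑ x : T, (X hC ξ i j x : ℂ) = ssum T (lin T (X hC ξ i j)) := by
        rw [← sum_subtype_eq]
        exact Finset.sum_congr rfl fun x _ => (lin_coe _ x).symm
      have hi' := Finset.mem_range.1 hi
      have hj' := Finset.mem_range.1 hj
      have e4 : X hC ξ i j = 1 ↔ (i = 0 ∧ j = 0) := by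
        rw [X_eq_one_iff hξ]
        exact ⟨fun h => ⟨Nat.ModEq.eq_of_lt_of_lt h.1 hi' h0,
          Nat.ModEq.eq_of_lt_of_lt h.2 hj' h0⟩, fun h => by rw [h.1, h.2]; exact ⟨rfl, rfl⟩⟩
      rw [e3, ssum_lin]
      by_cases h : i = 0 ∧ j = 0
      · rw [if_pos h, if_pos (e4.2 h)]
      · rw [if_neg h, if_neg (fun h5 => h (e4.1 h5))]
    rw [Finset.sum_congr rfl fun x _ => e1 x, Finset.sum_comm]
    rw [Finset.sum_eq_single_of_mem 0 (Finset.mem_range.2 h0)]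
    · rw [Finset.sum_comm, Finset.sum_eq_single_of_mem 0 (Finset.mem_range.2 h0)]
      · rw [e2 0 (Finset.mem_range.2 h0) 0 (Finset.mem_range.2 h0), if_pos ⟨rfl, rfl⟩]
      · intro j hj hj0
        rw [e2 0 (Finset.mem_range.2 h0) j hj, if_neg (fun h => hj0 h.2)]
    · intro i hi hi0
      rw [Finset.sum_comm]
      refine Finset.sum_eq_zero fun j hj => ?_
      rw [e2 i hi j hj, if_neg (fun h => hi0 h.1)]
  have h2 : ∑ x : T, (∑ i ∈ Finset.range r, (ξ x : ℂ) ^ i) *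
      (∑ j ∈ Finset.range r, (ξ (sg hC.torus x) : ℂ) ^ j) =
      (Nat.card (EE hξ).ker : ℂ) * (r * r) := by
    have e1 : ∀ x : T, (∑ i ∈ Finset.range r, (ξ x : ℂ) ^ i) *
        (∑ j ∈ Finset.range r, (ξ (sg hC.torus x) : ℂ) ^ j) =
        if x ∈ (EE hξ).ker then (r : ℂ) * r else 0 := by
      intro x
      rw [geom (by rw [← Units.val_pow_eq_pow_val, hξ.pow, Units.val_one]),
        geom (by rw [← Units.val_pow_eq_pow_val, hξ.pow, Units.val_one])]
      have e2 : x ∈ (EE hξ).ker ↔ ((ξ x : ℂ) = 1 ∧ (ξ (sg hC.torus x) : ℂ) = 1) := by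
        rw [MonoidHom.mem_ker]
        constructor
        · intro h
          have h3 := congrArg (fun g : G2 r => ((g.1 : ℂˣ) : ℂ)) h
          have h4 := congrArg (fun g : G2 r => ((g.2 : ℂˣ) : ℂ)) h
          exact ⟨h3, h4⟩
        · rintro ⟨h3, h4⟩
          refine Prod.ext (Subtype.ext (Units.ext h3)) (Subtype.ext (Units.ext h4))
      by_cases h3 : (ξ x : ℂ) = 1
      · by_cases h4 : (ξ (sg hC.torus x) : ℂ) = 1
        · rw [if_pos h3, if_pos h4, if_pos (e2.2 ⟨h3, h4⟩)]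
        · rw [if_neg h4, mul_zero, if_neg (fun h => h4 (e2.1 h).2)]
      · rw [if_neg h3, zero_mul, if_neg (fun h => h3 (e2.1 h).1)]
    rw [Finset.sum_congr rfl fun x _ => e1 x, ← Finset.sum_filter, Finset.sum_const,
      nsmul_eq_mul]
    congr 2
    rw [Nat.card_eq_fintype_card, Fintype.card_subtype]
  have h3 : (Nat.card (EE hξ).ker : ℂ) * (r * r) = Nat.card T := h2.symm.trans h1
  exact_mod_cast h3

theorem EE_surjective (hD : DetHyp q ε T T' U s s' u r b) (hξ : XiHyp hC r b ξ) :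
    Function.Surjective (EE hξ) := by
  have h0 := two_r hD
  have : NeZero r := ⟨h0.ne'⟩
  have h1 : Nat.card (EE hξ).ker * Nat.card (EE hξ).range = Nat.card T := by
    rw [← Subgroup.index_ker]
    exact Subgroup.card_mul_index _
  rw [← card_ker hD hξ] at h1
  have h2 : Nat.card (EE hξ).range = r * r := Nat.eq_of_mul_eq_mul_left Nat.card_pos h1
  have h3 : Nat.card (G2 r) = r * r := by
    have h4 : Nat.card (rootsOfUnity r ℂ) = r := Complex.card_rootsOfUnity r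
    rw [Nat.card_prod, h4]
  rw [← MonoidHom.range_eq_top]
  refine Subgroup.eq_top_of_card_eq _ ?_
  rw [h2, h3]

open Classical in
/-- Sums over `T` of functions of `(ξ x, ξ^s x)`. -/
theorem sum_EE [Fintype (G2 r)] [Fintype T] (hD : DetHyp q ε T T' U s s' u r b)
    (hξ : XiHyp hC r b ξ) (h : G2 r → ℂ) :
    ∑ x : T, h (EE hξ x) = ((Finset.univ.filter fun x : T => EE hξ x = 1).card : ℂ) *
      ∑ g, h g := by
  rw [← Finset.sum_fiberwise Finset.univ (fun x : T => EE hξ x) fun x => h (EE hξ x),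
    Finset.mul_sum]
  refine Finset.sum_congr rfl fun g _ => ?_
  rw [Finset.sum_congr rfl (g := fun _ => h g) fun x hx => by
    rw [(Finset.mem_filter.1 hx).2], Finset.sum_const, nsmul_eq_mul]
  congr 2
  exact MonoidHom.card_fiber_eq_of_mem_range (EE hξ) (EE_surjective hD hξ g)
    (EE_surjective hD hξ 1)

end Hom

/-! ### The functions -/

section Fun

variable {C : Type*} [Group C] [Fintype C] {z : C} {q : ℕ} {ε : ℤ} {Z T T' U : Subgroup C}
  {s s' u : C} {r : ℕ} {b : C →* ℂˣ} {hC : CHyp z q ε Z T T' U s s' u} {μ : U →* ℂˣ}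
  {ξ : T →* ℂˣ} {θ : T' →* ℂˣ} {m : ℕ}

/-- `aa m = (1 - b^m) + R_T(1) - R_T(ξ^(r-m))`. -/
noncomputable def aa (hC : CHyp z q ε Z T T' U s s' u) (μ : U →* ℂˣ) (ξ : T →* ℂˣ)
    (b : C →* ℂˣ) (r m : ℕ) : C → ℂ :=
  1 - bb b m + Rt hC μ 1 - Rt hC μ (X hC ξ (r - m) 0)

open Classical in
/-- The restriction of `aa m` to the elements having `z` as a power. -/
noncomputable def ff (hC : CHyp z q ε Z T T' U s s' u) (μ : U →* ℂˣ) (ξ : T →* ℂˣ)
    (b : C →* ℂˣ) (r m : ℕ) : C → ℂ :=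
  fun c => if z ∈ Subgroup.zpowers c then aa hC μ ξ b r m c else 0

/-- The function `P` on `T`. -/
noncomputable def PP (hC : CHyp z q ε Z T T' U s s' u) (ξ : T →* ℂˣ) (r m : ℕ) : C → ℂ :=
  (3 : ℂ) • lin T (X hC ξ 0 0) - lin T (X hC ξ m m) - lin T (X hC ξ (r - m) 0) -
    lin T (X hC ξ 0 (r - m))

open Classical in
/-- The restriction of `P` to the elements having `z` as a power. -/
noncomputable def PD (hC : CHyp z q ε Z T T' U s s' u) (ξ : T →* ℂˣ) (r m : ℕ) : C → ℂ :=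
  fun c => if z ∈ Subgroup.zpowers c then PP hC ξ r m c else 0

/-- The function `P'` on `T'`. -/
noncomputable def PP' (T' : Subgroup C) (θ : T' →* ℂˣ) (m : ℕ) : C → ℂ :=
  lin T' (θ ^ (2 * 0)) - lin T' (θ ^ (2 * m))

theorem X_zero (hC : CHyp z q ε Z T T' U s s' u) (ξ : T →* ℂˣ) : X hC ξ 0 0 = 1 := by
  ext x
  simp [X_apply]

theorem isGeneralized_aa (m : ℕ) : IsGeneralizedCharacter C (aa hC μ ξ b r m) := by
  unfold aa
  exact Brauer.isGeneralizedCharacter_sub (Brauer.isGeneralizedCharacter_add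
    (Brauer.isGeneralizedCharacter_sub
      (Brauer.isGeneralizedCharacter_of_isCharacter Core.isCharacter_one)
      (Brauer.isGeneralizedCharacter_of_isCharacter (isCharacter_bb _)))
    (isGeneralized_Rt _)) (isGeneralized_Rt _)

theorem R_PP (m : ℕ) : Torus.R T hC.base μ (PP hC ξ r m) = (3 : ℂ) • Rt hC μ (X hC ξ 0 0) -
    Rt hC μ (X hC ξ m m) - Rt hC μ (X hC ξ (r - m) 0) - Rt hC μ (X hC ξ 0 (r - m)) := by
  unfold PP
  rw [R_sub, R_sub, R_sub, R_smul]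

theorem R_PP' (m : ℕ) : Torus.R T' hC.base μ (PP' T' θ m) = Rt' hC μ (θ ^ (2 * 0)) -
    Rt' hC μ (θ ^ (2 * m)) := by
  unfold PP'
  rw [R_sub]

/-- `2 aa m = R_T(P) + R_T'(P')`. -/
theorem two_aa (hD : DetHyp q ε T T' U s s' u r b) (hξ : XiHyp hC r b ξ)
    (hθ : ThetaHyp hC r b θ) (hμ : ∃ v : U, μ v ≠ 1) (m : ℕ) :
    (2 : ℂ) • aa hC μ ξ b r m = Torus.R T hC.base μ (PP hC ξ r m) +
      Torus.R T' hC.base μ (PP' T' θ m) := by
  have h1 := two_bb hD hξ hθ hμ 0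
  have h2 := two_bb hD hξ hθ hμ m
  have h3 := Rt_X_swap (hC := hC) (ξ := ξ) hμ 0 (r - m)
  rw [R_PP, R_PP' (hC := hC), h3]
  funext x
  have h5 := congrFun h1 x
  have h6 := congrFun h2 x
  have h7 : bb b 0 x = 1 := pow_zero _
  simp only [Pi.smul_apply, Pi.add_apply, Pi.sub_apply, smul_eq_mul, aa, Pi.one_apply, h7,
    X_zero] at h5 h6 ⊢
  linear_combination h5 - h6

/-- The values at the elements of `T` outside `Z`. -/
theorem aa_apply {c : C} (hc : c ∈ T) (hcZ : c ∉ Z) (m : ℕ) :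
    aa hC μ ξ b r m c = 3 - (b c : ℂ) ^ m - (ξ ⟨c, hc⟩ : ℂ) ^ (r - m) -
      (ξ (sg hC.torus ⟨c, hc⟩) : ℂ) ^ (r - m) := by
  have e1 : Rt hC μ 1 c = lin T 1 c + lin T 1 (s * c * s⁻¹) := hC.torus.R_T hC.base _ hc hcZ
  have e2 : Rt hC μ (X hC ξ (r - m) 0) c = lin T (X hC ξ (r - m) 0) c +
      lin T (X hC ξ (r - m) 0) (s * c * s⁻¹) := hC.torus.R_T hC.base _ hc hcZ
  have h1 : (⟨s * c * s⁻¹, hC.torus.s_conj c hc⟩ : T) = sg hC.torus ⟨c, hc⟩ := rfl
  rw [lin_one hc, lin_one (hC.torus.s_conj c hc)] at e1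
  rw [lin_X _ _ hc, lin_X _ _ (hC.torus.s_conj c hc), h1, pow_zero, pow_zero] at e2
  unfold aa
  rw [Pi.sub_apply, Pi.add_apply, Pi.sub_apply, Pi.one_apply, bb, e1, e2]
  ring

theorem u_notMem (hC : CHyp z q ε Z T T' U s s' u) {c : C} (hu : u ∈ Subgroup.zpowers c) :
    c ∉ Z := by
  intro h
  have h1 : Subgroup.zpowers c ≤ Z := by rwa [Subgroup.zpowers_le]
  exact hC.u_notMem_Z (h1 hu)

theorem aa_apply_of_u {c : C} (hc : c ∈ T) (hu : u ∈ Subgroup.zpowers c) (m : ℕ) :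
    aa hC μ ξ b r m c = 3 - (b c : ℂ) ^ m - (ξ ⟨c, hc⟩ : ℂ) ^ (r - m) -
      (ξ (sg hC.torus ⟨c, hc⟩) : ℂ) ^ (r - m) :=
  aa_apply hc (u_notMem hC hu) m

/-- `R_T` of a restriction. -/
theorem R_cut {δ : ℤ} {T₁ T₂ : Subgroup C} {s₁ s₂ : C} (hb : Base q Z U)
    (hT : Torus q δ Z T₁ s₁) (hT₂ : Torus q (-δ) Z T₂ s₂)
    (hexh : ∀ c : C, ∃ g : C, g * c * g⁻¹ ∈ T₁ ∨ g * c * g⁻¹ ∈ T₂ ∨
      ∃ z ∈ Z, ∃ v ∈ U, g * c * g⁻¹ = z * v)
    (hμ : ∃ v : U, μ v ≠ 1) {D : C → Prop} [DecidablePred D]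
    (hD : ∀ g x, D (g * x * g⁻¹) ↔ D x) (hDU : ∀ ζ ∈ Z, ∀ v ∈ U, D (ζ * v) ↔ D ζ) (f : C → ℂ)
    (c : C) : Torus.R T₁ hb μ (fun x => if D x then f x else 0) c =
      if D c then Torus.R T₁ hb μ f c else 0 := by
  have hne : -δ ≠ δ := by
    rcases hT.sign with h1 | h1 <;> rw [h1] <;> decide
  obtain ⟨g, hg⟩ := hexh c
  have e1 := hD g c
  rw [← Torus.R_isClassFunction hb _ c g, ← Torus.R_isClassFunction hb f c g]
  simp only [← e1]
  clear e1
  generalize g * c * g⁻¹ = y at hg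
  have hZ : ∀ ζ ∈ Z, Torus.R T₁ hb μ (fun x => if D x then f x else 0) ζ =
      if D ζ then Torus.R T₁ hb μ f ζ else 0 := by
    intro ζ hζ
    rw [hT.R_Z hb _ hζ, hT.R_Z hb _ hζ]
    split_ifs <;> ring
  rcases hg with hy | hy | ⟨ζ, hζ, v, hv, hy⟩
  · by_cases hyZ : y ∈ Z
    · exact hZ y hyZ
    · rw [hT.R_T hb _ hy hyZ, hT.R_T hb _ hy hyZ]
      simp only [hD s₁ y]
      split_ifs <;> ring
  · by_cases hyZ : y ∈ Z
    · exact hZ y hyZ
    · rw [hT.R_T' hT₂ hne hb _ hy hyZ, hT.R_T' hT₂ hne hb _ hy hyZ, ite_self]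
  · subst hy
    by_cases hv1 : v = 1
    · rw [hv1, mul_one]
      exact hZ ζ hζ
    · rw [hT.R_ZU hb hμ _ hζ hv hv1, hT.R_ZU hb hμ _ hζ hv hv1]
      simp only [hDU ζ hζ v hv]

theorem D_conj (hC : CHyp z q ε Z T T' U s s' u) (g x : C) :
    z ∈ Subgroup.zpowers (g * x * g⁻¹) ↔ z ∈ Subgroup.zpowers x := by
  constructor
  · intro h
    have h1 := mem_zpowers_conj (t_conj hC) (g := g⁻¹) h
    have h2 : g⁻¹ * (g * x * g⁻¹) * g⁻¹⁻¹ = x := by group
    rwa [h2] at h1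
  · exact mem_zpowers_conj (t_conj hC)

/-- `z` is a power of `ζ v` iff it is a power of `ζ`. -/
theorem D_ZU (hC : CHyp z q ε Z T T' U s s' u) {ζ v : C} (hζ : ζ ∈ Z) (hv : v ∈ U) :
    z ∈ Subgroup.zpowers (ζ * v) ↔ z ∈ Subgroup.zpowers ζ := by
  have hcom : Commute ζ v := (hC.Z_central ζ hζ v).symm
  constructor
  · intro h
    obtain ⟨k, hk⟩ := Subgroup.mem_zpowers_iff.1 h
    rw [hcom.mul_zpow] at hk
    have h1 : v ^ k = 1 := by
      refine hC.base.eq_one_of_mem ?_ (zpow_mem hv _)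
      have h2 : v ^ k = (ζ ^ k)⁻¹ * z := by rw [← hk]; group
      rw [h2]
      exact mul_mem (inv_mem (zpow_mem hζ _)) hC.t_mem
    rw [h1, mul_one] at hk
    exact Subgroup.mem_zpowers_iff.2 ⟨k, hk⟩
  · intro h
    have h2 : (ζ * v) ^ q = ζ ^ q := by
      rw [hcom.mul_pow, hC.base.pow_card_U hv, mul_one]
    obtain ⟨k, hk⟩ := Subgroup.mem_zpowers_iff.1 h
    refine mem_zpowers_of_pow (k := q) ?_
    rw [h2]
    refine Subgroup.mem_zpowers_iff.2 ⟨k, ?_⟩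
    have h3 : (ζ ^ q) ^ k = (ζ ^ k) ^ q := by
      rw [← zpow_natCast, ← zpow_natCast, ← zpow_mul, ← zpow_mul, mul_comm]
    rw [h3, hk, zpow_odd (z_mul_z hC) hC.odd_q]

/-- `P' = 0` outside the elements having `z` as a power. -/
theorem PP'_eq_zero (hD : DetHyp q ε T T' U s s' u r b) (hθ : ThetaHyp hC r b θ) {x : C}
    (hx : x ∈ T') (h : z ∉ Subgroup.zpowers x) (m : ℕ) : PP' T' θ m x = 0 := by
  by_contra h0
  exact h (lin_theta_ne hD hθ _ _ x hx h0)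

/-- `2 ff m = R_T(1_D P) + R_T'(P')`. -/
theorem two_ff (hD : DetHyp q ε T T' U s s' u r b) (hξ : XiHyp hC r b ξ)
    (hθ : ThetaHyp hC r b θ) (hμ : ∃ v : U, μ v ≠ 1) (m : ℕ) :
    (2 : ℂ) • ff hC μ ξ b r m = Torus.R T hC.base μ (PD hC ξ r m) +
      Torus.R T' hC.base μ (PP' T' θ m) := by
  classical
  funext c
  have h1 := congrFun (two_aa hD hξ hθ hμ m) c
  have e1 := R_cut hC.base hC.torus hC.torus' hC.exhaust hμ (D := fun x => z ∈ Subgroup.zpowers x)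
    (D_conj hC) (fun ζ hζ v hv => D_ZU hC hζ hv) (PP hC ξ r m) c
  have e2 := R_cut hC.base hC.torus' (torus_neg_neg hC) (exhaust' hC) hμ
    (D := fun x => z ∈ Subgroup.zpowers x)
    (D_conj hC) (fun ζ hζ v hv => D_ZU hC hζ hv) (PP' T' θ m) c
  have e3 : Torus.R T' hC.base μ (fun x => if z ∈ Subgroup.zpowers x then PP' T' θ m x else 0) =
      Torus.R T' hC.base μ (PP' T' θ m) := by
    refine R_congr T' hC.torus' hC.base μ fun x hx => ?_
    split_ifs with h2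
    · rfl
    · exact (PP'_eq_zero hD hθ hx h2 m).symm
  rw [e3] at e2
  have e4 : PD hC ξ r m = fun x => if z ∈ Subgroup.zpowers x then PP hC ξ r m x else 0 := by
    funext x
    unfold PD
    congr
  rw [Pi.smul_apply, Pi.add_apply, smul_eq_mul, e4, e1, e2]
  rw [Pi.smul_apply, Pi.add_apply, smul_eq_mul] at h1
  unfold ff
  by_cases hz : z ∈ Subgroup.zpowers c
  · rw [if_pos hz, if_pos hz, if_pos hz, h1]
  · rw [if_neg hz, if_neg hz, if_neg hz]
    ring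

theorem ff_supp {c : C} (h : ff hC μ ξ b r m c ≠ 0) : z ∈ Subgroup.zpowers c := by
  by_contra h1
  exact h (if_neg h1)

theorem isClass_aa (m : ℕ) : IsClassFunction C (aa hC μ ξ b r m) := by
  intro x c
  have e1 : Rt hC μ 1 (c * x * c⁻¹) = Rt hC μ 1 x := Torus.R_isClassFunction hC.base _ _ _
  have e2 : Rt hC μ (X hC ξ (r - m) 0) (c * x * c⁻¹) = Rt hC μ (X hC ξ (r - m) 0) x :=
    Torus.R_isClassFunction hC.base _ _ _
  unfold aa
  rw [Pi.sub_apply, Pi.add_apply, Pi.sub_apply, Pi.one_apply, Pi.sub_apply, Pi.add_apply,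
    Pi.sub_apply, Pi.one_apply, e1, e2, isClass_bb m x c]

theorem isClass_ff (m : ℕ) : IsClassFunction C (ff hC μ ξ b r m) := by
  intro x c
  unfold ff
  simp only [D_conj hC c x, isClass_aa m x c]

theorem PP_odd (hD : DetHyp q ε T T' U s s' u r b) (hξ : XiHyp hC r b ξ) (m : ℕ) {x : C}
    (hx : x ∈ T) (ho : Odd (orderOf x)) : PP hC ξ r m x = 0 := by
  unfold PP
  simp only [Pi.sub_apply, Pi.smul_apply, smul_eq_mul, lin_apply _ hx,
    X_odd hD hξ (y := ⟨x, hx⟩) ho, Units.val_one]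
  norm_num

theorem theta_odd (hD : DetHyp q ε T T' U s s' u r b) (hθ : ThetaHyp hC r b θ) {y : T'}
    (hy : Odd (orderOf (y : C))) : θ y = 1 := by
  obtain ⟨n, hn⟩ := r_pow' hD
  refine pow_odd_eq_one (r := 2 * r) ⟨n + 1, by rw [hn, pow_succ']⟩ ?_ hy ?_
  · rw [pow_mul, hθ.sq, hD.pow_eq_one]
  · rw [Subgroup.orderOf_coe, ← map_pow, pow_orderOf_eq_one, map_one]

theorem PP'_odd (hD : DetHyp q ε T T' U s s' u r b) (hθ : ThetaHyp hC r b θ) (m : ℕ) {x : C}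
    (hx : x ∈ T') (ho : Odd (orderOf x)) : PP' T' θ m x = 0 := by
  unfold PP'
  rw [Pi.sub_apply, lin_pow _ _ hx, lin_pow _ _ hx, lin_apply _ hx,
    theta_odd hD hθ (y := ⟨x, hx⟩) ho, Units.val_one, one_pow, one_pow, sub_self]

theorem odd_conj (g x : C) : Odd (orderOf (g * x * g⁻¹)) ↔ Odd (orderOf x) := by
  have h1 : orderOf (g * x * g⁻¹) = orderOf x := (MulAut.conj g).orderOf_eq x
  rw [h1]

theorem odd_ZU (hC : CHyp z q ε Z T T' U s s' u) {ζ v : C} (hζ : ζ ∈ Z) (hv : v ∈ U) :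
    Odd (orderOf (ζ * v)) ↔ Odd (orderOf ζ) :=
  ⟨fun h => odd_of_mul_ZU hC hζ hv h,
    fun h => odd_mul (hC.Z_central ζ hζ v).symm h (hC.odd_orderOf_U hv)⟩

/-- `aa m` vanishes on the elements of odd order. -/
theorem aa_odd (hD : DetHyp q ε T T' U s s' u r b) (hξ : XiHyp hC r b ξ)
    (hθ : ThetaHyp hC r b θ) (hμ : ∃ v : U, μ v ≠ 1) (m : ℕ) {c : C} (hc : Odd (orderOf c)) :
    aa hC μ ξ b r m c = 0 := by
  classical
  have h1 := congrFun (two_aa hD hξ hθ hμ m) c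
  have e1 := R_cut hC.base hC.torus hC.torus' hC.exhaust hμ (D := fun x => Odd (orderOf x))
    odd_conj (fun ζ hζ v hv => odd_ZU hC hζ hv) (PP hC ξ r m) c
  have e2 := R_cut hC.base hC.torus' (torus_neg_neg hC) (exhaust' hC) hμ
    (D := fun x => Odd (orderOf x))
    odd_conj (fun ζ hζ v hv => odd_ZU hC hζ hv) (PP' T' θ m) c
  have e3 : Torus.R T' hC.base μ (fun x => if Odd (orderOf x) then PP' T' θ m x else 0) =
      Torus.R T' hC.base μ (0 : C → ℂ) := by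
    refine R_congr T' hC.torus' hC.base μ fun x hx => ?_
    split_ifs with h2
    · exact PP'_odd hD hθ m hx h2
    · rfl
  have e4 : Torus.R T hC.base μ (fun x => if Odd (orderOf x) then PP hC ξ r m x else 0) =
      Torus.R T hC.base μ (0 : C → ℂ) := by
    refine R_congr T hC.torus hC.base μ fun x hx => ?_
    split_ifs with h2
    · exact PP_odd hD hξ m hx h2
    · rfl
  rw [e3, R_zero, if_pos hc, Pi.zero_apply] at e2
  rw [e4, R_zero, if_pos hc, Pi.zero_apply] at e1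
  rw [Pi.smul_apply, Pi.add_apply, smul_eq_mul, ← e1, ← e2, add_zero] at h1
  exact (mul_eq_zero.1 h1).resolve_left (by norm_num)

theorem prin_aa {M : Ideal AlgInt} (hM : IsPModular 2 M) (hD : DetHyp q ε T T' U s s' u r b)
    (hξ : XiHyp hC r b ξ) (hμ : ∃ v : U, μ v ≠ 1) (m : ℕ) : Prin M (aa hC μ ξ b r m) := by
  unfold aa
  have h1 := prin_Rt hM hD hξ hμ 0 0
  rw [X_zero] at h1
  exact (((prin_one hM).sub (prin_bb hM hD m)).add h1).sub (prin_Rt hM hD hξ hμ _ _)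

theorem mem_zpowers_mul {x y : C} (hz : z * z = 1) (hc : Commute x y) (hx : z ∈ Subgroup.zpowers x)
    (hy : Odd (orderOf y)) : z ∈ Subgroup.zpowers (x * y) := by
  obtain ⟨k, hk⟩ := Subgroup.mem_zpowers_iff.1 hx
  refine mem_zpowers_of_pow (k := orderOf y) ?_
  rw [hc.mul_pow, pow_orderOf_eq_one, mul_one]
  refine Subgroup.mem_zpowers_iff.2 ⟨k, ?_⟩
  have h3 : (x ^ orderOf y) ^ k = (x ^ k) ^ orderOf y := by
    rw [← zpow_natCast, ← zpow_natCast, ← zpow_mul, ← zpow_mul, mul_comm]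
  rw [h3, hk, zpow_odd hz hy]

theorem PP_mul_odd (hD : DetHyp q ε T T' U s s' u r b) (hξ : XiHyp hC r b ξ) (m : ℕ) {x y : C}
    (hx : x ∈ T) (hy : y ∈ T) (ho : Odd (orderOf y)) :
    PP hC ξ r m (x * y) = PP hC ξ r m x := by
  have h1 : (⟨x * y, mul_mem hx hy⟩ : T) = ⟨x, hx⟩ * ⟨y, hy⟩ := rfl
  unfold PP
  simp only [Pi.sub_apply, Pi.smul_apply, smul_eq_mul, lin_apply _ (mul_mem hx hy),
    lin_apply _ hx, h1, map_mul, X_odd hD hξ (y := ⟨y, hy⟩) ho, mul_one]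

theorem prin_ff {M : Ideal AlgInt} (hM : IsPModular 2 M) (hD : DetHyp q ε T T' U s s' u r b)
    (hξ : XiHyp hC r b ξ) (hθ : ThetaHyp hC r b θ) (hμ : ∃ v : U, μ v ≠ 1) (m : ℕ) :
    Prin M (ff hC μ ξ b r m) := by
  have hz := z_mul_z hC
  have h1 : Prin M (Torus.R T hC.base μ (PD hC ξ r m)) := by
    refine prin_R hC hM hμ (fun x _ h => ?_) (fun x hx hzx y hy ho => ?_)
    · by_contra h2
      exact h (if_neg h2)
    · unfold PD
      rw [if_pos hzx, if_pos (mem_zpowers_mul hz (hC.T_comm x hx y hy) hzx ho),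
        PP_mul_odd hD hξ m hx hy ho]
  have h2 : Prin M (Torus.R T' hC.base μ (PP' T' θ m)) := by
    refine prin_R' hC hM hμ (fun x hx h => lin_theta_ne hD hθ _ _ x hx h)
      (fun x hx _ y hy ho => ?_)
    have h1 : (⟨x * y, mul_mem hx hy⟩ : T') = ⟨x, hx⟩ * ⟨y, hy⟩ := rfl
    unfold PP'
    simp only [Pi.sub_apply, lin_pow _ _ (mul_mem hx hy), lin_pow _ _ hx,
      lin_apply _ (mul_mem hx hy), lin_apply _ hx, h1, map_mul,
      theta_odd hD hθ (y := ⟨y, hy⟩) ho, mul_one]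
  have h3 : ff hC μ ξ b r m = (2 : ℂ)⁻¹ • (Torus.R T hC.base μ (PD hC ξ r m) +
      Torus.R T' hC.base μ (PP' T' θ m)) := by
    rw [← two_ff hD hξ hθ hμ m, smul_smul, inv_mul_cancel₀ (by norm_num), one_smul]
  rw [h3]
  exact (h1.add h2).smul _

/-! ### Inner products -/

/-- The inner product with a function supported on the elements having `z` as a power. -/
theorem inner_ff_of_supp {g : C → ℂ} (hg : ∀ c, g c ≠ 0 → z ∈ Subgroup.zpowers c) (m : ℕ) :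
    classInner (ff hC μ ξ b r m) g = classInner (aa hC μ ξ b r m) g := by
  rw [Core.classInner_def, Core.classInner_def]
  congr 1
  refine Finset.sum_congr rfl fun c _ => ?_
  unfold ff
  split_ifs with h
  · rfl
  · have h1 : g c = 0 := by
      by_contra h2
      exact h (hg c h2)
    rw [h1, map_zero, mul_zero, mul_zero]

theorem hlt {a c : ℕ} (ha : a < r) (hc : c < r) : a ≡ c [MOD r] ↔ a = c :=
  ⟨fun h => Nat.ModEq.eq_of_lt_of_lt h ha hc, fun h => by rw [h]⟩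

/-- `(aa m, Phi l i) = [l = 0] - [l = m]`. -/
theorem inner_aa_Phi (hD : DetHyp q ε T T' U s s' u r b) (hr : 4 ∣ r) (hξ : XiHyp hC r b ξ)
    (hθ : ThetaHyp hC r b θ) (hμ : ∃ v : U, μ v ≠ 1) (hm : m < r) {l i : ℕ} (hl : l < r) :
    classInner (aa hC μ ξ b r m) (Phi hC μ θ l i) =
      (if l = 0 then 1 else 0) - (if l = m then 1 else 0) := by
  have h0 := two_r hD
  have h1 := congrArg (fun f => classInner f (Phi hC μ θ l i)) (two_aa hD hξ hθ hμ m)
  have e1 : classInner (Torus.R T hC.base μ (PP hC ξ r m)) (Phi hC μ θ l i) = 0 := by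
    rw [Phi_eq]
    exact hC.torus.classInner_R_R' hC.torus' rfl hC.base hμ _ _
  simp only [Core.classInner_smul_left, Core.classInner_add_left, e1, R_PP' (hC := hC),
    Core.classInner_sub_left] at h1
  unfold Phi at h1 ⊢
  simp only [Core.classInner_sub_right, inner_even_odd hD hr hθ hμ,
    inner_even_even hD hr hθ hμ h0 hl, inner_even_even hD hr hθ hμ hm hl] at h1
  rw [Core.classInner_sub_right]
  by_cases h2 : l = 0 <;> by_cases h3 : l = m
  · rw [if_pos h2, if_pos h3]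
    rw [if_pos h2.symm, if_pos h3.symm] at h1
    linear_combination (1 / 2 : ℂ) * h1
  · rw [if_pos h2, if_neg h3]
    rw [if_pos h2.symm, if_neg (Ne.symm h3)] at h1
    linear_combination (1 / 2 : ℂ) * h1
  · rw [if_neg h2, if_pos h3]
    rw [if_neg (Ne.symm h2), if_pos h3.symm] at h1
    linear_combination (1 / 2 : ℂ) * h1
  · rw [if_neg h2, if_neg h3]
    rw [if_neg (Ne.symm h2), if_neg (Ne.symm h3)] at h1
    linear_combination (1 / 2 : ℂ) * h1

/-- `(ff m, Phi l i) = [l = 0] - [l = m]`. -/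
theorem inner_ff_Phi (hD : DetHyp q ε T T' U s s' u r b) (hr : 4 ∣ r) (hξ : XiHyp hC r b ξ)
    (hθ : ThetaHyp hC r b θ) (hμ : ∃ v : U, μ v ≠ 1) (hm : m < r) {l i : ℕ} (hl : l < r) :
    classInner (ff hC μ ξ b r m) (Phi hC μ θ l i) =
      (if l = 0 then 1 else 0) - (if l = m then 1 else 0) := by
  rw [inner_ff_of_supp (fun c hc => Phi_supp hD hθ hμ hc) m,
    inner_aa_Phi hD hr hξ hθ hμ hm hl]

/-- `(ff m, vv 0) = 2`. -/
theorem inner_ff_vv_zero (hD : DetHyp q ε T T' U s s' u r b) (hr : 4 ∣ r)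
    (hξ : XiHyp hC r b ξ) (hθ : ThetaHyp hC r b θ) (hμ : ∃ v : U, μ v ≠ 1) (hm : m < r)
    (hmo : Odd m) : classInner (ff hC μ ξ b r m) (vv hC μ ξ b r 0) = 2 := by
  have h0 := two_r hD
  obtain ⟨k, hk⟩ := hmo
  have c2' : conj (2 : ℂ)⁻¹ = 2⁻¹ := by rw [map_inv₀]; congr 1; exact map_ofNat _ 2
  have c2 : conj (2 : ℂ) = 2 := map_ofNat _ 2
  rw [inner_ff_of_supp (fun c hc => vv_supp hD hr hξ hθ hμ 0 hc) m]
  have h1 := congrArg (fun f => classInner f (vv hC μ ξ b r 0)) (two_aa hD hξ hθ hμ m)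
  have m1 : ¬ (0 ≡ r / 2 [MOD r]) := by rw [hlt h0 (by omega)]; omega
  have m2 : ¬ (m ≡ 0 [MOD r]) := by rw [hlt hm h0]; omega
  have m3 : ¬ (m ≡ r / 2 [MOD r]) := by rw [hlt hm (by omega)]; omega
  have m4 : ¬ (r - m ≡ 0 [MOD r]) := by rw [hlt (by omega) h0]; omega
  have m5 : ¬ (r - m ≡ r / 2 [MOD r]) := by rw [hlt (by omega) (by omega)]; omega
  have m6 : (0 : ℕ) ≠ r / 2 := by omega
  have m7 : m ≠ 0 := by omega
  have m8 : m ≠ r / 2 := by omega
  rw [vv_eq hD hξ hθ hμ 0] at h1 ⊢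
  simp only [Core.classInner_smul_left, Core.classInner_add_left, R_PP, R_PP' (hC := hC),
    Core.classInner_sub_left, Core.classInner_smul_right, Core.classInner_add_right,
    Core.classInner_sub_right, inner_X hξ hμ, Rt_Rt' hμ, Rt'_Rt hμ, zero_add,
    inner_even_even hD hr hθ hμ h0 h0, inner_even_even hD hr hθ hμ hm h0,
    inner_even_even hD hr hθ hμ h0 (show r / 2 < r by omega),
    inner_even_even hD hr hθ hμ hm (show r / 2 < r by omega), m1, m2, m3, m4, m5, m6, m7, m8,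
    Nat.ModEq.refl, c2, c2', and_self, and_false, false_and, if_true, if_false] at h1 ⊢
  linear_combination (1 / 2 : ℂ) * h1

/-- `(ff m, vv 1) = -[m = 1]`. -/
theorem inner_ff_vv_one (hD : DetHyp q ε T T' U s s' u r b) (hr : 4 ∣ r)
    (hξ : XiHyp hC r b ξ) (hθ : ThetaHyp hC r b θ) (hμ : ∃ v : U, μ v ≠ 1) (hm : m < r)
    (hmo : Odd m) : classInner (ff hC μ ξ b r m) (vv hC μ ξ b r 1) =
      -(if m = 1 then 1 else 0) := by
  have h0 := two_r hD
  obtain ⟨k, hk⟩ := hmo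
  have c2' : conj (2 : ℂ)⁻¹ = 2⁻¹ := by rw [map_inv₀]; congr 1; exact map_ofNat _ 2
  have c2 : conj (2 : ℂ) = 2 := map_ofNat _ 2
  rw [inner_ff_of_supp (fun c hc => vv_supp hD hr hξ hθ hμ 1 hc) m]
  have h1 := congrArg (fun f => classInner f (vv hC μ ξ b r 1)) (two_aa hD hξ hθ hμ m)
  have m1 : ¬ (0 ≡ 1 [MOD r]) := by rw [hlt h0 (by omega)]; omega
  have m2 : ¬ (0 ≡ 1 + r / 2 [MOD r]) := by rw [hlt h0 (by omega)]; omega
  have m3 : (m ≡ 1 [MOD r]) ↔ m = 1 := hlt hm (by omega)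
  have m4 : (m ≡ 1 + r / 2 [MOD r]) ↔ m = 1 + r / 2 := hlt hm (by omega)
  have m6 : (0 : ℕ) ≠ 1 := by omega
  have m7 : (0 : ℕ) ≠ 1 + r / 2 := by omega
  rw [vv_eq hD hξ hθ hμ 1] at h1 ⊢
  simp only [Core.classInner_smul_left, Core.classInner_add_left, R_PP, R_PP' (hC := hC),
    Core.classInner_sub_left, Core.classInner_smul_right, Core.classInner_add_right,
    Core.classInner_sub_right, inner_X hξ hμ, Rt_Rt' hμ, Rt'_Rt hμ,
    inner_even_even hD hr hθ hμ h0 (show 1 < r by omega),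
    inner_even_even hD hr hθ hμ hm (show 1 < r by omega),
    inner_even_even hD hr hθ hμ h0 (show 1 + r / 2 < r by omega),
    inner_even_even hD hr hθ hμ hm (show 1 + r / 2 < r by omega), m1, m2, m3, m4, m6, m7,
    c2, c2', and_self, and_false, false_and, if_false] at h1 ⊢
  by_cases g1 : m = 1
  · have g2 : ¬ (m = 1 + r / 2) := by omega
    have g3 : ¬ ((1 : ℕ) = 1 + r / 2) := by omega
    simp only [g1, g3, if_true, if_false, and_false, false_and] at h1 ⊢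
    linear_combination (1 / 2 : ℂ) * h1
  · simp only [g1, if_false, false_and, and_false] at h1 ⊢
    by_cases g2 : m = 1 + r / 2
    · simp only [g2, if_true] at h1 ⊢
      linear_combination (1 / 2 : ℂ) * h1
    · simp only [g2, if_false] at h1 ⊢
      linear_combination (1 / 2 : ℂ) * h1

/-! ### The norm -/

/-- `P` in terms of `(ξ x, ξ^s x)`. -/
noncomputable def pp (r m : ℕ) (g : G2 r) : ℂ :=
  3 - (((g.1 : ℂˣ) * g.2 : ℂˣ) : ℂ) ^ m - ((g.1 : ℂˣ) : ℂ) ^ (r - m) - ((g.2 : ℂˣ) : ℂ) ^ (r - m)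

theorem pow_sub_eq {w : ℂˣ} (hw : w ^ r = 1) (hm : m ≤ r) :
    (w⁻¹ : ℂˣ) ^ (r - m) = w ^ m := by
  rw [inv_pow]
  refine inv_eq_of_mul_eq_one_left ?_
  rw [← pow_add, Nat.add_sub_cancel' hm, hw]

theorem pow_inv_eq {w : ℂˣ} (hw : w ^ r = 1) (hm : m ≤ r) :
    (w⁻¹ : ℂˣ) ^ m = w ^ (r - m) := by
  rw [inv_pow]
  refine inv_eq_of_mul_eq_one_left ?_
  rw [← pow_add, Nat.sub_add_cancel hm, hw]

theorem pp_phi (hm : m ≤ r) (g : G2 r) : pp r m (phi r g) = pp r m g := by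
  obtain ⟨⟨a, ha0⟩, ⟨c, hc0⟩⟩ := g
  have ha : a ^ r = 1 := (mem_rootsOfUnity _ _).1 ha0
  have hc : c ^ r = 1 := (mem_rootsOfUnity _ _).1 hc0
  have hac : (a * c) ^ r = 1 := by rw [mul_pow, ha, hc, one_mul]
  unfold pp
  rw [phi_fst, phi_snd]
  change 3 - ((c * (a * c)⁻¹ : ℂˣ) : ℂ) ^ m - (c : ℂ) ^ (r - m) -
    (((a * c)⁻¹ : ℂˣ) : ℂ) ^ (r - m) = 3 - ((a * c : ℂˣ) : ℂ) ^ m - (a : ℂ) ^ (r - m) -
    (c : ℂ) ^ (r - m)
  have e1 : c * (a * c)⁻¹ = a⁻¹ := by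
    rw [mul_inv_rev, ← mul_assoc, mul_inv_cancel, one_mul]
  have e2 : ((a⁻¹ : ℂˣ) : ℂ) ^ m = (a : ℂ) ^ (r - m) := by
    rw [← Units.val_pow_eq_pow_val, ← Units.val_pow_eq_pow_val, pow_inv_eq ha hm]
  have e3 : (((a * c)⁻¹ : ℂˣ) : ℂ) ^ (r - m) = ((a * c : ℂˣ) : ℂ) ^ m := by
    rw [← Units.val_pow_eq_pow_val, ← Units.val_pow_eq_pow_val, pow_sub_eq hac hm]
  rw [e1, e2, e3]
  ring

theorem PP_apply (hξ : XiHyp hC r b ξ) (x : T) : PP hC ξ r m x = pp r m (EE hξ x) := by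
  unfold PP pp
  rw [EE_fst, EE_snd, Pi.sub_apply, Pi.sub_apply, Pi.sub_apply, Pi.smul_apply, smul_eq_mul,
    X_zero, lin_one x.2, lin_X _ _ x.2, lin_X _ _ x.2, lin_X _ _ x.2, Units.val_mul, mul_pow,
    pow_zero, pow_zero]
  simp only [Subtype.coe_eta]
  ring

theorem D_iff (hD : DetHyp q ε T T' U s s' u r b) (hξ : XiHyp hC r b ξ) (x : T) :
    z ∈ Subgroup.zpowers (x : C) ↔ dd (ξ x) (ξ (sg hC.torus x)) := by
  constructor
  · intro h
    have hfin : IsOfFinOrder (x : C) := isOfFinOrder_of_finite _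
    obtain ⟨k, hk⟩ := (hfin.mem_powers_iff_mem_zpowers).2 h
    have h1 : x ^ k = ⟨z, z_mem hC⟩ := Subtype.ext hk
    refine ⟨k, ?_, ?_⟩
    · rw [← map_pow, h1, hξ.at_z]
    · rw [← map_pow, ← map_pow, h1, sg_z hC, hξ.at_z]
  · rintro ⟨k, h1, h2⟩
    refine mem_zpowers_of_pow (k := k) ?_
    exact mem_zpowers_of_xi hD hξ (x := x ^ k) (by rw [map_pow, h1])
      (by rw [map_pow, map_pow, h2])

/-- The inner products of the characters `X i j` on `T`. -/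
theorem inner_L [Fintype T] (hξ : XiHyp hC r b ξ) (i j k l : ℕ) :
    classInner (fun x : T => lin T (X hC ξ i j) x) (fun x : T => lin T (X hC ξ k l) x) =
      if i ≡ k [MOD r] ∧ j ≡ l [MOD r] then 1 else 0 := by
  classical
  have h1 : classInner (fun x : T => lin T (X hC ξ i j) x) (fun x : T => lin T (X hC ξ k l) x) =
      (Nat.card T : ℂ)⁻¹ * ssum T (fun x => lin T (X hC ξ i j) x *
        conj (lin T (X hC ξ k l) x)) := by
    rw [← sum_subtype_eq]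
    rfl
  rw [h1, inner_lin_T]
  by_cases h : X hC ξ i j = X hC ξ k l
  · rw [if_pos h, if_pos ((X_eq_iff hξ).1 h)]
  · rw [if_neg h, if_neg (fun h2 => h ((X_eq_iff hξ).2 h2))]

theorem sum_PP (hD : DetHyp q ε T T' U s s' u r b) (hr : 4 ∣ r) (hξ : XiHyp hC r b ξ)
    (hm : m < r) (hmo : Odd m) :
    ssum T (fun x => PP hC ξ r m x * conj (PP hC ξ r m x)) = 12 * Nat.card T := by
  classical
  have : Fintype T := Fintype.ofFinite T
  have h0 := two_r hD
  obtain ⟨k, hk⟩ := hmo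
  have h1 : classInner (fun x : T => PP hC ξ r m x) (fun x : T => PP hC ξ r m x) = 12 := by
    have e1 : (fun x : T => PP hC ξ r m x) = (3 : ℂ) • (fun x : T => lin T (X hC ξ 0 0) x) -
        (fun x : T => lin T (X hC ξ m m) x) - (fun x : T => lin T (X hC ξ (r - m) 0) x) -
        (fun x : T => lin T (X hC ξ 0 (r - m)) x) := by
      funext x
      simp only [PP, Pi.sub_apply, Pi.smul_apply]
    have c3 : conj (3 : ℂ) = 3 := map_ofNat _ 3
    have m1 : ¬ (m ≡ 0 [MOD r]) := by rw [hlt hm h0]; omega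
    have m2 : ¬ (0 ≡ m [MOD r]) := fun h => m1 h.symm
    have m3 : ¬ (r - m ≡ 0 [MOD r]) := by rw [hlt (by omega) h0]; omega
    have m4 : ¬ (0 ≡ r - m [MOD r]) := fun h => m3 h.symm
    rw [e1]
    simp only [Core.classInner_sub_left, Core.classInner_sub_right, Core.classInner_smul_left,
      Core.classInner_smul_right, inner_L hξ, c3, m1, m2, m3, m4, Nat.ModEq.refl, and_self,
      and_false, false_and, if_true, if_false]
    norm_num
  have h2 : classInner (fun x : T => PP hC ξ r m x) (fun x : T => PP hC ξ r m x) =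
      (Nat.card T : ℂ)⁻¹ * ssum T (fun x => PP hC ξ r m x * conj (PP hC ξ r m x)) := by
    rw [← sum_subtype_eq]
    rfl
  rw [h2] at h1
  have h3 : (Nat.card T : ℂ) ≠ 0 := Core.card_ne_zero_complex
  field_simp at h1
  rw [h1]
  ring

theorem sum_PD (hD : DetHyp q ε T T' U s s' u r b) (hr : 4 ∣ r) (hξ : XiHyp hC r b ξ)
    (hm : m < r) (hmo : Odd m) :
    ssum T (fun x => PD hC ξ r m x * conj (PD hC ξ r m x)) = 4 * Nat.card T := by
  classical
  have : Fintype T := Fintype.ofFinite T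
  have h0 := two_r hD
  have : NeZero r := ⟨h0.ne'⟩
  have : Fintype (G2 r) := Fintype.ofFinite _
  set N : G2 r → ℂ := fun g => pp r m g * conj (pp r m g) with hN
  have h1 := sum_sym (r_pow' hD) N (fun g => by simp only [hN]; rw [pp_phi hm.le]) (by
    have e1 : pp r m 1 = 0 := by
      unfold pp
      have e2 : (((1 : G2 r).1 : ℂˣ)) = 1 := rfl
      have e3 : (((1 : G2 r).2 : ℂˣ)) = 1 := rfl
      rw [e2, e3]
      norm_num
    simp only [hN]
    rw [e1, zero_mul])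
  have h2 := sum_EE hD hξ N
  have h3 := sum_EE hD hξ fun g => if dd (g.1 : ℂˣ) (g.2 : ℂˣ) then N g else 0
  have h4 : ∑ x : T, N (EE hξ x) = 12 * Nat.card T := by
    rw [← sum_PP hD hr hξ hm hmo, ← sum_subtype_eq]
    refine Finset.sum_congr rfl fun x _ => ?_
    rw [PP_apply hξ]
  have h5 : ∑ x : T, (if dd ((EE hξ x).1 : ℂˣ) ((EE hξ x).2 : ℂˣ) then N (EE hξ x) else 0) =
      ssum T (fun x => PD hC ξ r m x * conj (PD hC ξ r m x)) := by
    rw [← sum_subtype_eq]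
    refine Finset.sum_congr rfl fun x _ => ?_
    rw [EE_fst, EE_snd]
    unfold PD
    by_cases hx : z ∈ Subgroup.zpowers (x : C)
    · rw [if_pos hx, if_pos ((D_iff hD hξ x).1 hx), PP_apply hξ]
    · rw [if_neg hx, if_neg (fun h => hx ((D_iff hD hξ x).2 h)), zero_mul]
  rw [← h5, h3]
  rw [h2, h1] at h4
  linear_combination (1 / 3 : ℂ) * h4

theorem PP_sg (x : C) (hx : x ∈ T) : PP hC ξ r m (s * x * s⁻¹) = PP hC ξ r m x := by
  have h1 : (⟨s * x * s⁻¹, hC.torus.s_conj x hx⟩ : T) = sg hC.torus ⟨x, hx⟩ := rfl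
  unfold PP
  simp only [Pi.sub_apply, Pi.smul_apply, smul_eq_mul, lin_apply _ hx,
    lin_apply _ (hC.torus.s_conj x hx), h1]
  have e1 : ∀ i j : ℕ, X hC ξ i j (sg hC.torus ⟨x, hx⟩) = X hC ξ j i ⟨x, hx⟩ := fun i j => by
    rw [X_apply, X_apply, sg_sg, mul_comm]
  rw [e1, e1, e1, e1]
  ring

/-- **`(ff m, ff m) = 3`.** -/
theorem inner_ff (hD : DetHyp q ε T T' U s s' u r b) (hr : 4 ∣ r) (hξ : XiHyp hC r b ξ)
    (hθ : ThetaHyp hC r b θ) (hμ : ∃ v : U, μ v ≠ 1) (hm : m < r) (hmo : Odd m) :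
    classInner (ff hC μ ξ b r m) (ff hC μ ξ b r m) = 3 := by
  classical
  have h0 := two_r hD
  obtain ⟨k, hk⟩ := id hmo
  have c2 : conj (2 : ℂ) = 2 := map_ofNat _ 2
  have h1 : classInner ((2 : ℂ) • ff hC μ ξ b r m) ((2 : ℂ) • ff hC μ ξ b r m) =
      4 * classInner (ff hC μ ξ b r m) (ff hC μ ξ b r m) := by
    rw [Core.classInner_smul_left, Core.classInner_smul_right, c2]
    ring
  have e1 : classInner (Torus.R T hC.base μ (PD hC ξ r m))
      (Torus.R T' hC.base μ (PP' T' θ m)) = 0 :=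
    hC.torus.classInner_R_R' hC.torus' rfl hC.base hμ _ _
  have e2 : classInner (Torus.R T' hC.base μ (PP' T' θ m))
      (Torus.R T hC.base μ (PD hC ξ r m)) = 0 := by
    rw [← Core.classInner_conj_symm, e1, map_zero]
  have e3 : classInner (Torus.R T' hC.base μ (PP' T' θ m))
      (Torus.R T' hC.base μ (PP' T' θ m)) = 4 := by
    rw [R_PP' (hC := hC)]
    simp only [Core.classInner_sub_left, Core.classInner_sub_right,
      inner_even_even hD hr hθ hμ h0 h0, inner_even_even hD hr hθ hμ h0 hm,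
      inner_even_even hD hr hθ hμ hm h0, inner_even_even hD hr hθ hμ hm hm]
    rw [if_neg (show ¬ m = 0 by omega), if_neg (show ¬ 0 = m by omega)]
    norm_num
  have e4 : classInner (Torus.R T hC.base μ (PD hC ξ r m))
      (Torus.R T hC.base μ (PD hC ξ r m)) = 8 := by
    rw [hC.torus.classInner_R_R hC.base hμ]
    have e5 : ssum T (fun x => PD hC ξ r m x * conj (PD hC ξ r m x + PD hC ξ r m (s * x * s⁻¹))) =
        2 * ssum T (fun x => PD hC ξ r m x * conj (PD hC ξ r m x)) := by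
      rw [← ssum_mul]
      refine ssum_congr fun x hx => ?_
      have e6 : PD hC ξ r m (s * x * s⁻¹) = PD hC ξ r m x := by
        unfold PD
        rw [PP_sg x hx]
        simp only [D_conj hC s x]
      rw [e6, map_add]
      ring
    rw [e5, sum_PD hD hr hξ hm hmo]
    have h3 : (Nat.card T : ℂ) ≠ 0 := Core.card_ne_zero_complex
    field_simp
    norm_num
  rw [two_ff hD hξ hθ hμ m, Core.classInner_add_left, Core.classInner_add_right,
    Core.classInner_add_right, e1, e2, e3, e4] at h1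
  linear_combination (-1 / 4 : ℂ) * h1

/-! ### The value at `z`, the pair sums -/

theorem PP_z (hξ : XiHyp hC r b ξ) (hr : 4 ∣ r) (hm : m < r) (hmo : Odd m) :
    PP hC ξ r m z = 4 := by
  obtain ⟨k, hk⟩ := hmo
  have ho : Odd (r - m) := by
    obtain ⟨c, hc⟩ := hr
    exact ⟨2 * c - k - 1, by omega⟩
  unfold PP
  rw [Pi.sub_apply, Pi.sub_apply, Pi.sub_apply, Pi.smul_apply, smul_eq_mul, X_zero,
    lin_one (z_mem hC), lin_X _ _ (z_mem hC), lin_X _ _ (z_mem hC), lin_X _ _ (z_mem hC),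
    sg_z hC, hξ.at_z, Units.val_neg, Units.val_one, ho.neg_one_pow, ← mul_pow]
  norm_num

theorem PD_z (hξ : XiHyp hC r b ξ) (hr : 4 ∣ r) (hm : m < r) (hmo : Odd m) :
    PD hC ξ r m z = 4 := by
  unfold PD
  rw [if_pos (Subgroup.mem_zpowers z), PP_z hξ hr hm hmo]

theorem PP'_z (hθ : ThetaHyp hC r b θ) : PP' T' θ m z = 0 := by
  unfold PP'
  rw [Pi.sub_apply, lin_theta_z hθ, lin_theta_z hθ, pow_mul, pow_mul]
  norm_num

/-- `ff m z = 2 (1 + ε q)`. -/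
theorem ff_z (hD : DetHyp q ε T T' U s s' u r b) (hr : 4 ∣ r) (hξ : XiHyp hC r b ξ)
    (hθ : ThetaHyp hC r b θ) (hμ : ∃ v : U, μ v ≠ 1) (hm : m < r) (hmo : Odd m) :
    ff hC μ ξ b r m z = 2 * (1 + ε * q) := by
  have h1 := congrFun (two_ff hD hξ hθ hμ m) z
  rw [Pi.smul_apply, Pi.add_apply, smul_eq_mul, hC.torus.R_Z hC.base _ hC.t_mem,
    hC.torus'.R_Z hC.base _ hC.t_mem, PP'_z hθ, PD_z hξ hr hm hmo, mul_zero, add_zero] at h1
  linear_combination (1 / 2 : ℂ) * h1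

theorem PP_one : PP hC ξ r m 1 = 0 := by
  have h3 : (⟨1, one_mem T⟩ : T) = 1 := rfl
  unfold PP
  rw [Pi.sub_apply, Pi.sub_apply, Pi.sub_apply, Pi.smul_apply, smul_eq_mul, lin_apply _ (one_mem T),
    lin_apply _ (one_mem T), lin_apply _ (one_mem T), lin_apply _ (one_mem T), h3, map_one, map_one,
    map_one, map_one, Units.val_one]
  norm_num

theorem PD_one : PD hC ξ r m 1 = 0 := by
  unfold PD
  rw [PP_one, ite_self]

theorem PP'_one : PP' T' θ m 1 = 0 := by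
  have h3 : (⟨1, one_mem T'⟩ : T') = 1 := rfl
  unfold PP'
  rw [Pi.sub_apply, lin_apply _ (one_mem T'), lin_apply _ (one_mem T'), h3, map_one, map_one,
    sub_self]

/-- `P` on `T₀`. -/
theorem PD_T₀ (hD : DetHyp q ε T T' U s s' u r b) (hξ : XiHyp hC r b ξ) (hm : m ≤ r) {x : C}
    (hx : x ∈ hC.torus.T₀) :
    PD hC ξ r m x = 2 - lin T (ξ ^ (r - m)) x - lin T (ξ ^ m) x := by
  have hxT : x ∈ T := hx.1
  have h1 : sg hC.torus ⟨x, hxT⟩ = (⟨x, hxT⟩ : T)⁻¹ := by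
    refine eq_inv_of_mul_eq_one_right ?_
    exact Subtype.ext hx.2
  have e1 : PP hC ξ r m x = 2 - lin T (ξ ^ (r - m)) x - lin T (ξ ^ m) x := by
    unfold PP
    rw [Pi.sub_apply, Pi.sub_apply, Pi.sub_apply, Pi.smul_apply, smul_eq_mul, X_zero,
      lin_one hxT, lin_X _ _ hxT, lin_X _ _ hxT, lin_X _ _ hxT, h1, map_inv, lin_pow _ _ hxT,
      lin_pow _ _ hxT, lin_apply _ hxT]
    have h2 := hξ.pow ⟨x, hxT⟩
    generalize ξ ⟨x, hxT⟩ = w at *
    have h3 : ((w⁻¹ : ℂˣ) : ℂ) ^ (r - m) = (w : ℂ) ^ m := by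
      rw [← Units.val_pow_eq_pow_val, ← Units.val_pow_eq_pow_val, pow_sub_eq h2 hm]
    have h4 : (w : ℂ) ^ m * ((w⁻¹ : ℂˣ) : ℂ) ^ m = 1 := by
      rw [← mul_pow, ← Units.val_mul, mul_inv_cancel, Units.val_one, one_pow]
    rw [h4, h3, pow_zero, pow_zero]
    ring
  unfold PD
  split_ifs with hz
  · exact e1
  · -- `ξ x = 1`
    have h2 : ξ ⟨x, hxT⟩ = 1 := by
      by_contra h3
      obtain ⟨n, hn⟩ := r_pow' hD
      obtain ⟨k, hk⟩ := exists_neg_one (w := ξ ⟨x, hxT⟩) (m := n) (by rw [← hn]; exact hξ.pow _) h3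
      refine hz ((D_iff hD hξ ⟨x, hxT⟩).2 ⟨2 ^ k, hk, ?_⟩)
      rw [h1, map_inv, inv_pow, hk, inv_neg, inv_one]
    rw [lin_pow _ _ hxT, lin_pow _ _ hxT, lin_apply _ hxT, h2, Units.val_one, one_pow, one_pow]
    norm_num

theorem PP'_T₀ (hD : DetHyp q ε T T' U s s' u r b) (hθ : ThetaHyp hC r b θ) {x : C}
    (hx : x ∈ hC.torus'.T₀) : PP' T' θ m x = 0 := by
  have hxT : x ∈ T' := hx.1
  have h5 : b ((⟨x, hxT⟩ : T') : C) = 1 := hD.b_T'₀ x hxT hx.2
  unfold PP'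
  rw [Pi.sub_apply, lin_pow _ _ hxT, lin_pow _ _ hxT, lin_apply _ hxT, pow_mul, pow_mul,
    ← Units.val_pow_eq_pow_val, hθ.sq, h5, Units.val_one, one_pow, one_pow, sub_self]

/-- **The pair sum of `ff m`.** -/
theorem pairSum_ff (hD : DetHyp q ε T T' U s s' u r b) (hr : 4 ∣ r) (hξ : XiHyp hC r b ξ)
    (hθ : ThetaHyp hC r b θ) (hμ : ∃ v : U, μ v ≠ 1) (hm : m < r) (hmo : Odd m) :
    pairSum z (ff hC μ ξ b r m) = q * (q + ε) ^ 3 := by
  have h0 := two_r hD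
  obtain ⟨k, hk⟩ := id hmo
  have h1 := congrArg (pairSum z) (two_ff hD hξ hθ hμ m)
  rw [pairSum_smul, pairSum_add, hC.pairSum_R_T hμ _ PD_one, hC.pairSum_R_T' hμ _ PP'_one,
    PD_z hξ hr hm hmo, ssum_congr (fun x hx => PD_T₀ hD hξ hm.le hx),
    ssum_congr (fun x hx => PP'_T₀ hD hθ hx), ssum_sub, ssum_sub, ssum_const, ssum_zero] at h1
  have e1 : ssum hC.torus.T₀ (fun x => lin T (ξ ^ (r - m)) x) = 0 :=
    ssum_xi_pow hD hξ fun h => by
      have := Nat.le_of_dvd (by omega) h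
      omega
  have e2 : ssum hC.torus.T₀ (fun x => lin T (ξ ^ m) x) = 0 :=
    ssum_xi_pow hD hξ fun h => by
      have := Nat.le_of_dvd (by omega) h
      omega
  have h3 := hC.torus.card_T₀
  have h4 : (Nat.card hC.torus.T₀ : ℂ) = q - ε := by exact_mod_cast h3
  have h5 : (ε : ℂ) * ε = 1 := by exact_mod_cast hC.torus.sq_sign
  rw [e1, e2, h4] at h1
  linear_combination (1 / 2 : ℂ) * h1 + ((q : ℂ) ^ 2 * 4 - ((q : ℂ) ^ 2 * 4 + q * ε - q ^ 2)) * h5

/-- The pair sum of `vv i`. -/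
theorem pairSum_vv' (hD : DetHyp q ε T T' U s s' u r b) (hr : 4 ∣ r) (hξ : XiHyp hC r b ξ)
    (hθ : ThetaHyp hC r b θ) (hμ : ∃ v : U, μ v ≠ 1) {i : ℕ} (hi : i ≤ r) :
    pairSum z (vv hC μ ξ b r i) = q * (q ^ 2 - 1) * (q - ε) := by
  have h0 := two_r hD
  have h1 := congrArg (pairSum z) (two_vv hD hξ hθ hμ i)
  have hone' : (lin T' (θ ^ (2 * i)) - lin T' (θ ^ (2 * (i + r / 2)))) 1 = 0 := by
    rw [Pi.sub_apply, lin_apply _ (one_mem T'), lin_apply _ (one_mem T')]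
    have h3 : (⟨1, one_mem T'⟩ : T') = 1 := rfl
    rw [h3, map_one, map_one, sub_self]
  rw [pairSum_smul, pairSum_add, ← R_sub, hC.pairSum_R_T' hμ _ hone'] at h1
  have h5 : pairSum z (uu hC μ ξ r i i) = q * (q ^ 2 - 1) * (2 * (q - ε)) := by
    unfold uu
    rw [hC.pairSum_R_T hμ _ (F_one i i), F_z hr hξ]
    have h2 : ssum hC.torus.T₀ (F hC ξ r i i) = 2 * (q - ε) := by
      have e1 : ∀ x ∈ hC.torus.T₀, F hC ξ r i i x = 2 - 2 * lin T (ξ ^ (r / 2)) x := by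
        intro x hx
        have hxT : x ∈ T := hx.1
        rw [F_T₀ hr hξ hi hx]
        have e2 : ξ ^ (i + (r - i)) = 1 := by
          ext x
          rw [Nat.add_sub_cancel' hi, MonoidHom.pow_apply, hξ.pow, MonoidHom.one_apply]
        have e3 : ξ ^ (i + (r - i) + r / 2) = ξ ^ (r / 2) := by
          ext x
          rw [MonoidHom.pow_apply, MonoidHom.pow_apply, pow_add, Nat.add_sub_cancel' hi,
            hξ.pow, one_mul]
        rw [e3, e2, lin_one hxT, mul_one]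
      rw [ssum_congr e1, ssum_sub, ssum_mul, ssum_xi hD hr hξ, ssum_const, mul_zero, sub_zero]
      have h3 := hC.torus.card_T₀
      have h4 : (Nat.card hC.torus.T₀ : ℂ) = q - ε := by exact_mod_cast h3
      rw [h4]; ring
    rw [h2]; ring
  have h3 : ssum hC.torus'.T₀ (lin T' (θ ^ (2 * i)) - lin T' (θ ^ (2 * (i + r / 2)))) = 0 := by
    have h4 : ∀ x ∈ hC.torus'.T₀, (lin T' (θ ^ (2 * i)) - lin T' (θ ^ (2 * (i + r / 2)))) x =
        (fun _ => (0 : ℂ)) x := by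
      intro x hx
      have hxT : x ∈ T' := hx.1
      rw [Pi.sub_apply, lin_pow _ _ hxT, lin_pow _ _ hxT, lin_apply _ hxT, pow_mul, pow_mul,
        ← Units.val_pow_eq_pow_val, hθ.sq]
      have h5 : b ((⟨x, hxT⟩ : T') : C) = 1 := hD.b_T'₀ x hxT hx.2
      rw [h5, Units.val_one, one_pow, one_pow, sub_self]
    rw [ssum_congr h4, ssum_zero]
  rw [h5, h3] at h1
  linear_combination (1 / 2 : ℂ) * h1

end Fun

end Cfsg.Agent.Classification.QDW.WrFVec
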