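import Mathlib
import Cfsg.Agent.Classification.QDW.WrFInt
import Cfsg.Agent.Classification.QDW.WrFSym
import Cfsg.Agent.Classification.QDW.WrFVec

/-!
# The wreathed case with field automorphisms: the lift of `ff` is a generalized character
-/

set_option autoImplicit false
set_option linter.unusedSectionVars false

open Cfsg
open scoped ComplexConjugate

namespace Cfsg.Agent.Classification.QDW.WrFIntMain

open Cfsg.Agent.Characters Cfsg.Agent.Classification.BGIsometry
  Cfsg.Agent.Classification.QDW.WrThree Cfsg.Agent.Classification.QDW.WrFInt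
  Cfsg.Agent.Classification.InvCent Cfsg.Agent.Classification.QDW.Fld
  Cfsg.Agent.Classification.InvCent.WrFun Cfsg.Agent.Classification.InvCent.LinChar
  Cfsg.Agent.Classification.InvCent.WrChar Cfsg.Agent.Classification.QDW.WrFVec
  Cfsg.Agent.Characters.GaloisBasic

universe v w

/-- The involutions which are powers of `x y` and of `x`, `y` of odd order. -/
theorem zpowers_mul_odd {Γ : Type*} [Group Γ] {v x y : Γ} (hv : v * v = 1) (hc : Commute x y)
    (hy : Odd (orderOf y)) : v ∈ Subgroup.zpowers (x * y) ↔ v ∈ Subgroup.zpowers x := by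
  have hvo : v ^ orderOf y = v := by
    obtain ⟨k, hk⟩ := hy
    rw [hk, pow_succ, pow_mul, sq, hv, one_pow, one_mul]
  constructor
  · intro h
    obtain ⟨i, hi⟩ := Subgroup.mem_zpowers_iff.1 h
    refine Subgroup.mem_zpowers_iff.2 ⟨i * orderOf y, ?_⟩
    rw [← hvo, ← hi, ← zpow_natCast, ← zpow_mul, hc.mul_zpow, mul_comm i, zpow_mul y, zpow_natCast,
      pow_orderOf_eq_one, one_zpow, mul_one]
  · intro h
    obtain ⟨i, hi⟩ := Subgroup.mem_zpowers_iff.1 h
    refine Subgroup.mem_zpowers_iff.2 ⟨i * orderOf y, ?_⟩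
    rw [hc.mul_zpow, mul_comm i, zpow_mul y, zpow_natCast, pow_orderOf_eq_one, one_zpow, mul_one,
      mul_comm, zpow_mul, hi, zpow_natCast, hvo]

/-- The function induced from `C_Γ(a)` lies in the span of the principal block. -/
theorem prin_ind {G : Type v} [Group G] [Fintype G] {t a g w : G} {M : Ideal AlgInt}
    (hM : IsPModular 2 M) [Fintype (Subgroup.centralizer ({t} : Set G))]
    {κ₁ κ₂ κ₃ : AA t a →* ℂˣ} (hK : KHyp t a g w κ₁ κ₂ κ₃) {n : ℕ}
    {aΓ : Subgroup.centralizer ({t} : Set G)} (ha : (aΓ : G) = a) (haa : a * a = 1) :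
    Prin M (indFun (Subgroup.centralizer ({aΓ} : Set (Subgroup.centralizer ({t} : Set G))))
      (betaF κ₁ κ₂ κ₃ n ha)) := by
  have hvv : aΓ * aΓ = 1 := Subtype.ext (by
    change (aΓ : G) * aΓ = 1
    rw [ha, haa])
  refine prin_of_const hM (Brauer.indFun_isClassFunction _ _) fun x y hxy hy => ?_
  rw [Brauer.indFun_apply, Brauer.indFun_apply]
  congr 1
  refine Finset.sum_congr rfl fun k _ => ?_
  have e1 : k⁻¹ * (x * y) * k = (k⁻¹ * x * k) * (k⁻¹ * y * k) := by group
  have hc : Commute (k⁻¹ * x * k) (k⁻¹ * y * k) := by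
    have h1 : (k⁻¹ * x * k) * (k⁻¹ * y * k) = k⁻¹ * (x * y) * k := by group
    have h2 : (k⁻¹ * y * k) * (k⁻¹ * x * k) = k⁻¹ * (y * x) * k := by group
    change (k⁻¹ * x * k) * (k⁻¹ * y * k) = (k⁻¹ * y * k) * (k⁻¹ * x * k)
    rw [h1, h2, hxy.eq]
  have ho : Odd (orderOf (k⁻¹ * y * k)) := by
    have h1 : orderOf (k⁻¹ * y * k) = orderOf y := by
      have h2 : k⁻¹ * y * k = MulAut.conj k⁻¹ y := by simp
      rw [h2]
      exact orderOf_injective (MulAut.conj k⁻¹).toMonoidHom (MulAut.conj k⁻¹).injective _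
    rwa [h1]
  rw [e1]
  generalize k⁻¹ * x * k = x' at hc
  generalize k⁻¹ * y * k = y' at hc ho
  have hz := zpowers_mul_odd (x := x') (y := y') hvv hc ho
  by_cases h1 : aΓ ∈ Subgroup.zpowers x'
  · have m1 := mem_centralizer_of_mem_zpowers h1
    have m2 := mem_centralizer_of_mem_zpowers (hz.2 h1)
    have m3 : y' ∈ Subgroup.centralizer ({aΓ} : Set (Subgroup.centralizer ({t} : Set G))) := by
      have := mul_mem (inv_mem m1) m2
      rwa [inv_mul_cancel_left] at this
    rw [Brauer.extendByZero_mem _ _ m2, Brauer.extendByZero_mem _ _ m1]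
    unfold betaF
    rw [if_pos (show aΓ ∈ Subgroup.zpowers ((⟨x' * y', m2⟩ : Subgroup.centralizer ({aΓ} : Set
      (Subgroup.centralizer ({t} : Set G)))) : Subgroup.centralizer ({t} : Set G)) from hz.2 h1),
      if_pos (show aΓ ∈ Subgroup.zpowers ((⟨x', m1⟩ : Subgroup.centralizer ({aΓ} : Set
      (Subgroup.centralizer ({t} : Set G)))) : Subgroup.centralizer ({t} : Set G)) from h1)]
    have h2 := pp_mul_odd (n := n) hK ha ⟨x', m1⟩ ⟨y', m3⟩ (by
      rw [Subgroup.orderOf_mk]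
      exact ho)
    exact h2
  · rw [supp_extendByZero (betaF_supp ha) h1, supp_extendByZero (betaF_supp ha)
      (fun h2 => h1 (hz.1 h2))]

section Main

variable {G : Type v} [Group G] [Fintype G] {C : Type w} [Group C] [Fintype C] {t : G} {z : C}
  {N S : Subgroup (Subgroup.centralizer ({t} : Set G))} {π : N →* C} {M : Ideal AlgInt}
  {q : ℕ} {ε : ℤ} {Z T T' U : Subgroup C} {s s' u : C} {r : ℕ} {b : C →* ℂˣ}
  {μ : U →* ℂˣ} {θ : T' →* ℂˣ}
  [N.Normal] {l : Subgroup.centralizer ({t} : Set G) ⧸ N →* ℂ}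

/-- **The twisted lift of `ff m`, `m` odd, is a generalized character.** -/
theorem isGeneralized_FIndL_ff (H : FHyp t z N S π) (hM : IsPModular 2 M)
    (hC : CHyp z q ε Z T T' U s s' u)
    (hD : DetHyp q ε T T' U s s' u r b) (hr : 4 ∣ r) (hθ : ThetaHyp hC r b θ)
    (hμ : ∃ v : U, μ v ≠ 1)
    (hfus : ∀ x y : Subgroup.centralizer ({t} : Set G), IsConj (x : G) (y : G) →
      lamFun N l x = lamFun N l y) :
    ∃ ξ : T →* ℂˣ, XiHyp hC r b ξ ∧ ∀ m, m < r →
      IsGeneralizedCharacter G (FIndL M l π (ff hC μ ξ b r m)) := by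
  obtain ⟨a, g, w, hF, ⟨aN, haN, hau⟩, -, ξ, hξ, κ₁, κ₂, κ₃, ho, hκ, hg, hw⟩ :=
    exists_sym H hC hD hr
  have hK : KHyp t a g w κ₁ κ₂ κ₃ := ⟨ho, hg, hw⟩
  refine ⟨ξ, hξ, fun m hm => ?_⟩
  exact isGeneralized_FIndL_of (hC := hC) H hM hF haN hau hK (ξ := ξ) hκ hD.pow_eq_one hfus hm
    (α := aa hC μ ξ b r m) (prin_aa hM hD hξ hμ m) (prin_ff hM hD hξ hθ hμ m)
    (fun c hc => aa_odd hD hξ hθ hμ m hc) (fun c hc hu => aa_apply_of_u hc hu m)
    (fun c hc => if_pos hc) (fun c hc => if_neg hc) (isGeneralized_aa m)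
    (prin_ind hM hK haN hF.aa)

end Main

end Cfsg.Agent.Classification.QDW.WrFIntMain
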