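import Mathlib
import Cfsg.Agent.Classification.InvCent.WreathedGramTwo

/-!
# The Gram matrix argument for a nonprincipal linear character, wreathed case

`Φ j i` (`j < 4`, `i < 2`) generalized characters vanishing at `1` with
`(Φ j i, Φ j' i') = 2 [j = j'] + [i = i']`.

* `exists_split`: `Φ j i = L i + (Y j - V j)`, all signed irreducible characters orthogonal;
* `exists_pattern`: a generalized character of norm `3` with
  `(X, Φ j i) = [j = p] - [j = n]` is `P + W - R`, `P = Y p` or `-V p`, `R = Y n` or `-V n`;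
* `main`.
-/

set_option autoImplicit false
set_option linter.unusedSectionVars false
set_option linter.unusedVariables false

open Cfsg
open scoped ComplexConjugate

namespace Cfsg.Agent.Classification.QDW.WrFGram

open Cfsg.Agent.Classification.BGOrder Cfsg.Agent.Characters.Core
  Cfsg.Agent.Classification.BGSplit Cfsg.Agent.Classification.InvCent.WreathedGram
  Cfsg.Agent.Classification.InvCent.WreathedGramTwo

universe u

variable {G : Type u} [Group G] [Fintype G]

/-- Bessel's inequality for two orthonormal functions and integer coefficients. -/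
theorem bessel2 {f R₁ R₂ : G → ℂ} (h₁ : classInner R₁ R₁ = 1) (h₂ : classInner R₂ R₂ = 1)
    (h₁₂ : classInner R₁ R₂ = 0) {N a b : ℤ} (hN : classInner f f = N)
    (ha : classInner f R₁ = a) (hb : classInner f R₂ = b) : a ^ 2 + b ^ 2 ≤ N := by
  have ha' : classInner R₁ f = a := by rw [← classInner_conj_symm, ha]; simp
  have hb' : classInner R₂ f = b := by rw [← classInner_conj_symm, hb]; simp
  have h₂₁ := inner_symm_zero h₁₂
  have h : classInner (f - (a : ℂ) • R₁ - (b : ℂ) • R₂) (f - (a : ℂ) • R₁ - (b : ℂ) • R₂) =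
      ((N - a ^ 2 - b ^ 2 : ℤ) : ℂ) := by
    simp only [classInner_sub_left, classInner_sub_right, classInner_smul_left,
      classInner_smul_right, h₁, h₂, h₁₂, h₂₁, hN, ha, hb, ha', hb', map_intCast]
    push_cast
    ring
  have := norm_nonneg_int h
  linarith

theorem bessel3 {f R₁ R₂ R₃ : G → ℂ} (h₁ : classInner R₁ R₁ = 1) (h₂ : classInner R₂ R₂ = 1)
    (h₃ : classInner R₃ R₃ = 1) (h₁₂ : classInner R₁ R₂ = 0) (h₁₃ : classInner R₁ R₃ = 0)
    (h₂₃ : classInner R₂ R₃ = 0) {N a b c : ℤ} (hN : classInner f f = N)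
    (ha : classInner f R₁ = a) (hb : classInner f R₂ = b) (hc : classInner f R₃ = c) :
    a ^ 2 + b ^ 2 + c ^ 2 ≤ N := by
  have := norm_nonneg_int (bessel_three h₁ h₂ h₃ h₁₂ h₁₃ h₂₃ hN ha hb hc)
  linarith

theorem bessel4 {f R₁ R₂ R₃ R₄ : G → ℂ} (h₁ : classInner R₁ R₁ = 1) (h₂ : classInner R₂ R₂ = 1)
    (h₃ : classInner R₃ R₃ = 1) (h₄ : classInner R₄ R₄ = 1) (h₁₂ : classInner R₁ R₂ = 0)
    (h₁₃ : classInner R₁ R₃ = 0) (h₁₄ : classInner R₁ R₄ = 0) (h₂₃ : classInner R₂ R₃ = 0)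
    (h₂₄ : classInner R₂ R₄ = 0) (h₃₄ : classInner R₃ R₄ = 0) {N a b c d : ℤ}
    (hN : classInner f f = N) (ha : classInner f R₁ = a) (hb : classInner f R₂ = b)
    (hc : classInner f R₃ = c) (hd : classInner f R₄ = d) :
    a ^ 2 + b ^ 2 + c ^ 2 + d ^ 2 ≤ N := by
  have hd' : classInner R₄ f = d := by rw [← classInner_conj_symm, hd]; simp
  have h : classInner (f - (d : ℂ) • R₄) (f - (d : ℂ) • R₄) = ((N - d ^ 2 : ℤ) : ℂ) := by
    simp only [classInner_sub_left, classInner_sub_right, classInner_smul_left,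
      classInner_smul_right, h₄, hN, hd, hd', map_intCast]
    push_cast
    ring
  have := bessel3 (f := f - (d : ℂ) • R₄) h₁ h₂ h₃ h₁₂ h₁₃ h₂₃ h (a := a) (b := b) (c := c)
    (by rw [classInner_sub_left, classInner_smul_left, inner_symm_zero h₁₄, ha]; ring)
    (by rw [classInner_sub_left, classInner_smul_left, inner_symm_zero h₂₄, hb]; ring)
    (by rw [classInner_sub_left, classInner_smul_left, inner_symm_zero h₃₄, hc]; ring)
  linarith

theorem sq_pos_int {n : ℤ} (h : n ≠ 0) : 1 ≤ n ^ 2 := by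
  have := Int.one_le_abs h
  nlinarith [sq_abs n, abs_nonneg n]

/-- The family. -/
structure Fam (Φ : Fin 4 → Fin 2 → G → ℂ) : Prop where
  gen : ∀ j i, IsGeneralizedCharacter G (Φ j i)
  at_one : ∀ j i, Φ j i 1 = 0
  gram : ∀ j i j' i', classInner (Φ j i) (Φ j' i') =
    (if j = j' then 2 else 0) + (if i = i' then 1 else 0)

variable {Φ : Fin 4 → Fin 2 → G → ℂ}

theorem Fam.norm (h : Fam Φ) (j : Fin 4) (i : Fin 2) : classInner (Φ j i) (Φ j i) = 3 := by
  rw [h.gram, if_pos rfl, if_pos rfl]; norm_num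

theorem Fam.diff (h : Fam Φ) (j k : Fin 4) : Φ j 0 - Φ j 1 = Φ k 0 - Φ k 1 := by
  have h0 : classInner ((Φ j 0 - Φ j 1) - (Φ k 0 - Φ k 1))
      ((Φ j 0 - Φ j 1) - (Φ k 0 - Φ k 1)) = 0 := by
    simp only [classInner_sub_left, classInner_sub_right, h.gram]
    by_cases hjk : j = k
    · subst hjk; simp
    · simp [hjk, Ne.symm hjk]
  exact sub_eq_zero.1 (classInner_self_eq_zero h0)

/-- The data attached to an index `j`: `Φ j 0 = R + N`. -/
structure Part (Φ : Fin 4 → Fin 2 → G → ℂ) (p p' : G → ℂ) (j : Fin 4) (R R' Y V : G → ℂ) :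
    Prop where
  cases : (R = p ∧ R' = p') ∨ (R = -p' ∧ R' = -p)
  sY : SignedIrr Y
  sV : SignedIrr V
  YV : classInner Y V = 0
  pY : classInner p Y = 0
  pV : classInner p V = 0
  p'Y : classInner p' Y = 0
  p'V : classInner p' V = 0
  eq0 : Φ j 0 = R + (Y - V)
  eq1 : Φ j 1 = R' + (Y - V)

theorem Fam.exists_part (h : Fam Φ) {p p' : G → ℂ} (hp : SignedIrr p) (hp' : SignedIrr p')
    (hpp : classInner p p' = 0) (hD : Φ 0 0 - Φ 0 1 = p - p') (j : Fin 4) :
    ∃ R R' Y V : G → ℂ, Part Φ p p' j R R' Y V := by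
  have hDj : Φ j 0 - Φ j 1 = p - p' := (h.diff j 0).trans hD
  have hp'p := inner_symm_zero hpp
  have s1 := signed_self hp
  have s2 := signed_self hp'
  obtain ⟨c, hc⟩ := inner_int (h.gen j 0) hp
  obtain ⟨d, hd⟩ := inner_int (h.gen j 0) hp'
  have hcd : d = c - 1 := by
    have h1 : classInner (Φ j 0) (p - p') = 1 := by
      rw [← hDj, classInner_sub_right, h.norm, h.gram]
      simp; norm_num
    rw [classInner_sub_right, hc, hd] at h1
    have h2 : c - d = 1 := by exact_mod_cast h1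
    omega
  have hB := bessel2 s1 s2 hpp (N := 3) (by rw [h.norm]; norm_num) hc hd
  have hc01 : c = 0 ∨ c = 1 := by
    subst hcd
    have h1 : c < 2 := by nlinarith
    have h2 : -1 < c := by nlinarith
    omega
  have hc' := inner_conj_int hc
  have hd' := inner_conj_int hd
  rcases hc01 with rfl | rfl
  · have hd1 : d = -1 := by omega
    subst hd1
    have hN : classInner (Φ j 0 + p') (Φ j 0 + p') = 2 := by
      simp only [classInner_add_left, classInner_add_right, h.norm, hd, hd', s2]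
      norm_num
    obtain ⟨Y, V, hY, hV, hYV, hYV'⟩ := decomp_two
      (generalized_add (h.gen j 0) (generalized_signed hp')) hN
    have e1 : classInner (Y - V) p = 0 := by
      rw [← hYV', classInner_add_left, hc, hp'p]; norm_num
    have e2 : classInner (Y - V) p' = 0 := by
      rw [← hYV', classInner_add_left, hd, s2]; norm_num
    obtain ⟨a1, a2⟩ := inner_eq_zero_of_sub hY hV hp hYV e1
    obtain ⟨a3, a4⟩ := inner_eq_zero_of_sub hY hV hp' hYV e2
    refine ⟨-p', -p, Y, V, ⟨Or.inr ⟨rfl, rfl⟩, hY, hV, hYV, inner_symm_zero a1,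
      inner_symm_zero a2, inner_symm_zero a3, inner_symm_zero a4, ?_, ?_⟩⟩
    · rw [← hYV']; abel
    · rw [← hYV']
      have : Φ j 1 = Φ j 0 - (p - p') := by rw [← hDj]; abel
      rw [this]; abel
  · have hd1 : d = 0 := by omega
    subst hd1
    have hN : classInner (Φ j 0 - p) (Φ j 0 - p) = 2 := by
      simp only [classInner_sub_left, classInner_sub_right, h.norm, hc, hc', s1]
      norm_num
    obtain ⟨Y, V, hY, hV, hYV, hYV'⟩ := decomp_two
      (generalized_sub (h.gen j 0) (generalized_signed hp)) hN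
    have e1 : classInner (Y - V) p = 0 := by
      rw [← hYV', classInner_sub_left, hc, s1]; norm_num
    have e2 : classInner (Y - V) p' = 0 := by
      rw [← hYV', classInner_sub_left, hd, hpp]; norm_num
    obtain ⟨a1, a2⟩ := inner_eq_zero_of_sub hY hV hp hYV e1
    obtain ⟨a3, a4⟩ := inner_eq_zero_of_sub hY hV hp' hYV e2
    refine ⟨p, p', Y, V, ⟨Or.inl ⟨rfl, rfl⟩, hY, hV, hYV, inner_symm_zero a1,
      inner_symm_zero a2, inner_symm_zero a3, inner_symm_zero a4, ?_, ?_⟩⟩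
    · rw [← hYV']; abel
    · rw [← hYV']
      have : Φ j 1 = Φ j 0 - (p - p') := by rw [← hDj]; abel
      rw [this]; abel

/-- Same type: the differences are orthogonal and disjoint. -/
theorem Part.same (h : Fam Φ) {p p' : G → ℂ} (hp : SignedIrr p) (hp' : SignedIrr p')
    {j k : Fin 4} (hjk : j ≠ k) {R R' Y V Y' V' : G → ℂ} (a : Part Φ p p' j R R' Y V)
    (b : Part Φ p p' k R R' Y' V') :
    classInner Y Y' = 0 ∧ classInner Y V' = 0 ∧ classInner V Y' = 0 ∧ classInner V V' = 0 := by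
  have hRR : classInner R R = 1 := by
    rcases a.cases with ⟨rfl, -⟩ | ⟨rfl, -⟩
    · exact signed_self hp
    · exact signed_self (signed_neg hp')
  have hRY' : classInner R (Y' - V') = 0 := by
    rcases a.cases with ⟨rfl, -⟩ | ⟨rfl, -⟩
    · rw [classInner_sub_right, b.pY, b.pV, sub_zero]
    · rw [classInner_sub_right, classInner_neg_left, classInner_neg_left, b.p'Y, b.p'V, neg_zero,
        sub_zero]
  have hYR : classInner (Y - V) R = 0 := by
    apply inner_symm_zero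
    rcases a.cases with ⟨rfl, -⟩ | ⟨rfl, -⟩
    · rw [classInner_sub_right, a.pY, a.pV, sub_zero]
    · rw [classInner_sub_right, classInner_neg_left, classInner_neg_left, a.p'Y, a.p'V, neg_zero,
        sub_zero]
  have h0 : classInner (Y - V) (Y' - V') = 0 := by
    have h1 := h.gram j 0 k 0
    rw [a.eq0, b.eq0, classInner_add_left, classInner_add_right, classInner_add_right, hRR, hRY',
      hYR, if_neg hjk, if_pos rfl] at h1
    linear_combination h1
  refine disjoint a.sY a.sV b.sY b.sV a.YV b.YV h0 ?_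
  have h1 := congrFun a.eq0 1
  have h2 := congrFun b.eq0 1
  rw [h.at_one, Pi.add_apply, Pi.sub_apply] at h1 h2
  linear_combination h2 - h1

/-- Different type: the inner product of the differences is `1`. -/
theorem Part.mixed (h : Fam Φ) {p p' : G → ℂ} (hp : SignedIrr p) (hp' : SignedIrr p')
    (hpp : classInner p p' = 0)
    {j k : Fin 4} (hjk : j ≠ k) {Y V Y' V' : G → ℂ} (a : Part Φ p p' j p p' Y V)
    (b : Part Φ p p' k (-p') (-p) Y' V') : classInner (Y - V) (Y' - V') = 1 := by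
  have h1 := h.gram j 0 k 0
  have hYR : classInner (Y - V) p' = 0 := by
    apply inner_symm_zero
    rw [classInner_sub_right, a.p'Y, a.p'V, sub_zero]
  rw [a.eq0, b.eq0, classInner_add_left, classInner_add_right, classInner_add_right,
    classInner_neg_right, hpp, classInner_sub_right p, b.pY, b.pV, classInner_neg_right,
    hYR, if_neg hjk, if_pos rfl] at h1
  linear_combination h1

/-- A nonzero inner product with one of the two constituents. -/
theorem exists_ne {f Y V : G → ℂ} (hf : IsGeneralizedCharacter G f) (hY : SignedIrr Y)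
    (hV : SignedIrr V) {n : ℂ} (hn : n ≠ 0) (h : classInner f (Y - V) = n) :
    ∃ R : G → ℂ, (R = Y ∨ R = V) ∧ ∃ a : ℤ, a ≠ 0 ∧ classInner f R = a := by
  obtain ⟨a, ha⟩ := inner_int hf hY
  obtain ⟨b, hb⟩ := inner_int hf hV
  by_cases ha0 : a = 0
  · refine ⟨V, Or.inr rfl, b, ?_, hb⟩
    rintro rfl
    apply hn
    rw [← h, classInner_sub_right, ha, hb, ha0]
    simp
  · exact ⟨Y, Or.inl rfl, a, ha0, ha⟩

theorem orth_of {Y V Y' V' R R' : G → ℂ} (hR : R = Y ∨ R = V) (hR' : R' = Y' ∨ R' = V')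
    (h : classInner Y Y' = 0 ∧ classInner Y V' = 0 ∧ classInner V Y' = 0 ∧ classInner V V' = 0) :
    classInner R R' = 0 := by
  obtain ⟨h1, h2, h3, h4⟩ := h
  rcases hR with rfl | rfl <;> rcases hR' with rfl | rfl <;> assumption

theorem signed_of {Y V R : G → ℂ} (hY : SignedIrr Y) (hV : SignedIrr V) (hR : R = Y ∨ R = V) :
    SignedIrr R := by
  rcases hR with rfl | rfl <;> assumption

/-- Three of one type, one of the other type: impossible. -/
theorem three_one {Y V Y₁ V₁ Y₂ V₂ Y₃ V₃ : G → ℂ} (hY : SignedIrr Y) (hV : SignedIrr V)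
    (hYV : classInner Y V = 0)
    (hY₁ : SignedIrr Y₁) (hV₁ : SignedIrr V₁) (hY₂ : SignedIrr Y₂) (hV₂ : SignedIrr V₂)
    (hY₃ : SignedIrr Y₃) (hV₃ : SignedIrr V₃)
    (h₁₂ : classInner Y₁ Y₂ = 0 ∧ classInner Y₁ V₂ = 0 ∧ classInner V₁ Y₂ = 0 ∧
      classInner V₁ V₂ = 0)
    (h₁₃ : classInner Y₁ Y₃ = 0 ∧ classInner Y₁ V₃ = 0 ∧ classInner V₁ Y₃ = 0 ∧
      classInner V₁ V₃ = 0)
    (h₂₃ : classInner Y₂ Y₃ = 0 ∧ classInner Y₂ V₃ = 0 ∧ classInner V₂ Y₃ = 0 ∧
      classInner V₂ V₃ = 0)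
    (e₁ : classInner (Y - V) (Y₁ - V₁) = 1) (e₂ : classInner (Y - V) (Y₂ - V₂) = 1)
    (e₃ : classInner (Y - V) (Y₃ - V₃) = 1) : False := by
  have hg : IsGeneralizedCharacter G (Y - V) :=
    generalized_sub (generalized_signed hY) (generalized_signed hV)
  have hN : classInner (Y - V) (Y - V) = ((2 : ℤ) : ℂ) := by
    simp only [classInner_sub_left, classInner_sub_right, signed_self hY, signed_self hV, hYV,
      inner_symm_zero hYV]
    norm_num
  obtain ⟨R₁, hR₁, a₁, ha₁, i₁⟩ := exists_ne hg hY₁ hV₁ one_ne_zero e₁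
  obtain ⟨R₂, hR₂, a₂, ha₂, i₂⟩ := exists_ne hg hY₂ hV₂ one_ne_zero e₂
  obtain ⟨R₃, hR₃, a₃, ha₃, i₃⟩ := exists_ne hg hY₃ hV₃ one_ne_zero e₃
  have hB := bessel3 (signed_self (signed_of hY₁ hV₁ hR₁)) (signed_self (signed_of hY₂ hV₂ hR₂))
    (signed_self (signed_of hY₃ hV₃ hR₃)) (orth_of hR₁ hR₂ h₁₂) (orth_of hR₁ hR₃ h₁₃)
    (orth_of hR₂ hR₃ h₂₃) hN i₁ i₂ i₃
  have := sq_pos_int ha₁
  have := sq_pos_int ha₂
  have := sq_pos_int ha₃
  linarith

/-- Two of each type: impossible. -/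
theorem two_two {N₁ N₂ N₃ N₄ : G → ℂ} {d : ℂ} (hd : d ≠ 0) (n₁ : classInner N₁ N₁ = 2)
    (n₂ : classInner N₂ N₂ = 2) (n₃ : classInner N₃ N₃ = 2) (n₄ : classInner N₄ N₄ = 2)
    (h₁₂ : classInner N₁ N₂ = 0) (h₃₄ : classInner N₃ N₄ = 0) (h₁₃ : classInner N₁ N₃ = 1)
    (h₁₄ : classInner N₁ N₄ = 1) (h₂₃ : classInner N₂ N₃ = 1) (h₂₄ : classInner N₂ N₄ = 1)
    (d₁ : N₁ 1 = -d) (d₂ : N₂ 1 = -d) (d₃ : N₃ 1 = d) (d₄ : N₄ 1 = d) : False := by
  have h0 : classInner (N₁ + N₂ - N₃ - N₄) (N₁ + N₂ - N₃ - N₄) = 0 := by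
    simp only [classInner_add_left, classInner_add_right, classInner_sub_left,
      classInner_sub_right, n₁, n₂, n₃, n₄, h₁₂, h₃₄, h₁₃, h₁₄, h₂₃, h₂₄, inner_symm_zero h₁₂,
      inner_symm_zero h₃₄, inner_symm_one h₁₃, inner_symm_one h₁₄, inner_symm_one h₂₃,
      inner_symm_one h₂₄]
    ring
  have h1 := congrFun (classInner_self_eq_zero h0) 1
  simp only [Pi.sub_apply, Pi.add_apply, Pi.zero_apply, d₁, d₂, d₃, d₄] at h1
  apply hd
  linear_combination (-1 / 4 : ℂ) * h1

theorem norm_YV {Y V : G → ℂ} (hY : SignedIrr Y) (hV : SignedIrr V) (hYV : classInner Y V = 0) :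
    classInner (Y - V) (Y - V) = 2 := by
  simp only [classInner_sub_left, classInner_sub_right, signed_self hY, signed_self hV, hYV,
    inner_symm_zero hYV]
  norm_num

section Excl

variable {p p' : G → ℂ} {R R' : G → ℂ}

theorem no_three_one (h : Fam Φ) (hp : SignedIrr p) (hp' : SignedIrr p')
    (hpp : classInner p p' = 0) {j₁ j₂ j₃ k : Fin 4} (h12 : j₁ ≠ j₂) (h13 : j₁ ≠ j₃)
    (h23 : j₂ ≠ j₃) (h1k : j₁ ≠ k) (h2k : j₂ ≠ k) (h3k : j₃ ≠ k)
    {Y₁ V₁ Y₂ V₂ Y₃ V₃ Y V : G → ℂ} (a₁ : Part Φ p p' j₁ p p' Y₁ V₁)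
    (a₂ : Part Φ p p' j₂ p p' Y₂ V₂) (a₃ : Part Φ p p' j₃ p p' Y₃ V₃)
    (b : Part Φ p p' k (-p') (-p) Y V) : False :=
  three_one b.sY b.sV b.YV a₁.sY a₁.sV a₂.sY a₂.sV a₃.sY a₃.sV
    (a₁.same h hp hp' h12 a₂) (a₁.same h hp hp' h13 a₃) (a₂.same h hp hp' h23 a₃)
    (inner_symm_one (a₁.mixed h hp hp' hpp h1k b)) (inner_symm_one (a₂.mixed h hp hp' hpp h2k b))
    (inner_symm_one (a₃.mixed h hp hp' hpp h3k b))

theorem no_one_three (h : Fam Φ) (hp : SignedIrr p) (hp' : SignedIrr p')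
    (hpp : classInner p p' = 0) {j₁ j₂ j₃ k : Fin 4} (h12 : j₁ ≠ j₂) (h13 : j₁ ≠ j₃)
    (h23 : j₂ ≠ j₃) (h1k : k ≠ j₁) (h2k : k ≠ j₂) (h3k : k ≠ j₃)
    {Y₁ V₁ Y₂ V₂ Y₃ V₃ Y V : G → ℂ} (a₁ : Part Φ p p' j₁ (-p') (-p) Y₁ V₁)
    (a₂ : Part Φ p p' j₂ (-p') (-p) Y₂ V₂) (a₃ : Part Φ p p' j₃ (-p') (-p) Y₃ V₃)
    (b : Part Φ p p' k p p' Y V) : False :=
  three_one b.sY b.sV b.YV a₁.sY a₁.sV a₂.sY a₂.sV a₃.sY a₃.sV
    (a₁.same h hp hp' h12 a₂) (a₁.same h hp hp' h13 a₃) (a₂.same h hp hp' h23 a₃)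
    (b.mixed h hp hp' hpp h1k a₁) (b.mixed h hp hp' hpp h2k a₂)
    (b.mixed h hp hp' hpp h3k a₃)

theorem inner_of_disj {Y V Y' V' : G → ℂ}
    (h : classInner Y Y' = 0 ∧ classInner Y V' = 0 ∧ classInner V Y' = 0 ∧ classInner V V' = 0) :
    classInner (Y - V) (Y' - V') = 0 := by
  obtain ⟨h1, h2, h3, h4⟩ := h
  simp only [classInner_sub_left, classInner_sub_right, h1, h2, h3, h4]
  norm_num

theorem no_two_two (h : Fam Φ) (hp : SignedIrr p) (hp' : SignedIrr p')
    (hpp : classInner p p' = 0) (hdeg : p 1 = p' 1) {j₁ j₂ k₁ k₂ : Fin 4} (hj : j₁ ≠ j₂)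
    (hk : k₁ ≠ k₂) (h11 : j₁ ≠ k₁) (h12 : j₁ ≠ k₂) (h21 : j₂ ≠ k₁) (h22 : j₂ ≠ k₂)
    {Y₁ V₁ Y₂ V₂ Y₃ V₃ Y₄ V₄ : G → ℂ} (a₁ : Part Φ p p' j₁ p p' Y₁ V₁)
    (a₂ : Part Φ p p' j₂ p p' Y₂ V₂) (b₁ : Part Φ p p' k₁ (-p') (-p) Y₃ V₃)
    (b₂ : Part Φ p p' k₂ (-p') (-p) Y₄ V₄) : False := by
  have ha : ∀ {j : Fin 4} {Y V : G → ℂ}, Part Φ p p' j p p' Y V → (Y - V) 1 = -p 1 := by
    intro j Y V a
    have h1 := congrFun a.eq0 1
    rw [h.at_one, Pi.add_apply] at h1
    linear_combination -h1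
  have hb : ∀ {j : Fin 4} {Y V : G → ℂ}, Part Φ p p' j (-p') (-p) Y V → (Y - V) 1 = p 1 := by
    intro j Y V a
    have h1 := congrFun a.eq0 1
    rw [h.at_one, Pi.add_apply, Pi.neg_apply, ← hdeg] at h1
    linear_combination -h1
  exact two_two (d := p 1) hp.apply_one_ne_zero (norm_YV a₁.sY a₁.sV a₁.YV)
    (norm_YV a₂.sY a₂.sV a₂.YV) (norm_YV b₁.sY b₁.sV b₁.YV) (norm_YV b₂.sY b₂.sV b₂.YV)
    (inner_of_disj (a₁.same h hp hp' hj a₂)) (inner_of_disj (b₁.same h hp hp' hk b₂))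
    (a₁.mixed h hp hp' hpp h11 b₁) (a₁.mixed h hp hp' hpp h12 b₂)
    (a₂.mixed h hp hp' hpp h21 b₁) (a₂.mixed h hp hp' hpp h22 b₂) (ha a₁) (ha a₂) (hb b₁) (hb b₂)

end Excl

/-- The decomposition of the family. -/
structure Split (Φ : Fin 4 → Fin 2 → G → ℂ) (L L' : G → ℂ) (Y V : Fin 4 → G → ℂ) : Prop where
  sL : SignedIrr L
  sL' : SignedIrr L'
  LL : classInner L L' = 0
  sY : ∀ j, SignedIrr (Y j)
  sV : ∀ j, SignedIrr (V j)
  YV : ∀ j, classInner (Y j) (V j) = 0
  LY : ∀ j, classInner L (Y j) = 0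
  LV : ∀ j, classInner L (V j) = 0
  L'Y : ∀ j, classInner L' (Y j) = 0
  L'V : ∀ j, classInner L' (V j) = 0
  disj : ∀ j k, j ≠ k → classInner (Y j) (Y k) = 0 ∧ classInner (Y j) (V k) = 0 ∧
    classInner (V j) (Y k) = 0 ∧ classInner (V j) (V k) = 0
  eq0 : ∀ j, Φ j 0 = L + (Y j - V j)
  eq1 : ∀ j, Φ j 1 = L' + (Y j - V j)

theorem Fam.exists_split (h : Fam Φ) :
    ∃ (L L' : G → ℂ) (Y V : Fin 4 → G → ℂ), Split Φ L L' Y V := by
  have hN : classInner (Φ 0 0 - Φ 0 1) (Φ 0 0 - Φ 0 1) = 2 := by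
    simp only [classInner_sub_left, classInner_sub_right, h.gram]
    simp
    norm_num
  obtain ⟨p, p', hp, hp', hpp, hD⟩ := decomp_two (generalized_sub (h.gen 0 0) (h.gen 0 1)) hN
  have hdeg : p 1 = p' 1 := by
    have h1 := congrFun hD 1
    rw [Pi.sub_apply, Pi.sub_apply, h.at_one, h.at_one] at h1
    linear_combination -h1
  choose R R' Y V hP using fun j => h.exists_part hp hp' hpp hD j
  have hcase : ∀ j, Part Φ p p' j p p' (Y j) (V j) ∨ Part Φ p p' j (-p') (-p) (Y j) (V j) := by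
    intro j
    have a := hP j
    rcases a.cases with ⟨h1, h2⟩ | ⟨h1, h2⟩
    · left; rw [h1, h2] at a; exact a
    · right; rw [h1, h2] at a; exact a
  have hpos : (∀ j, Part Φ p p' j p p' (Y j) (V j)) →
      ∃ (L L' : G → ℂ) (Y V : Fin 4 → G → ℂ), Split Φ L L' Y V := fun a =>
    ⟨p, p', Y, V, {
      sL := hp
      sL' := hp'
      LL := hpp
      sY := fun j => (a j).sY
      sV := fun j => (a j).sV
      YV := fun j => (a j).YV
      LY := fun j => (a j).pY
      LV := fun j => (a j).pV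
      L'Y := fun j => (a j).p'Y
      L'V := fun j => (a j).p'V
      disj := fun j k hjk => (a j).same h hp hp' hjk (a k)
      eq0 := fun j => (a j).eq0
      eq1 := fun j => (a j).eq1 }⟩
  have hneg : (∀ j, Part Φ p p' j (-p') (-p) (Y j) (V j)) →
      ∃ (L L' : G → ℂ) (Y V : Fin 4 → G → ℂ), Split Φ L L' Y V := fun a =>
    ⟨-p', -p, Y, V, {
      sL := signed_neg hp'
      sL' := signed_neg hp
      LL := by rw [classInner_neg_left, classInner_neg_right, inner_symm_zero hpp]; norm_num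
      sY := fun j => (a j).sY
      sV := fun j => (a j).sV
      YV := fun j => (a j).YV
      LY := fun j => by rw [classInner_neg_left, (a j).p'Y, neg_zero]
      LV := fun j => by rw [classInner_neg_left, (a j).p'V, neg_zero]
      L'Y := fun j => by rw [classInner_neg_left, (a j).pY, neg_zero]
      L'V := fun j => by rw [classInner_neg_left, (a j).pV, neg_zero]
      disj := fun j k hjk => (a j).same h hp hp' hjk (a k)
      eq0 := fun j => (a j).eq0
      eq1 := fun j => (a j).eq1 }⟩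
  have t31 := @no_three_one G _ _ Φ p p' h hp hp' hpp
  have t13 := @no_one_three G _ _ Φ p p' h hp hp' hpp
  have t22 := @no_two_two G _ _ Φ p p' h hp hp' hpp hdeg
  rcases hcase 0 with a0 | a0 <;> rcases hcase 1 with a1 | a1 <;> rcases hcase 2 with a2 | a2 <;>
    rcases hcase 3 with a3 | a3
  · exact hpos (fun j => by fin_cases j <;> assumption)
  · exact (t31 (by decide) (by decide) (by decide) (by decide) (by decide) (by decide) a0 a1 a2 a3).elim
  · exact (t31 (by decide) (by decide) (by decide) (by decide) (by decide) (by decide) a0 a1 a3 a2).elim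
  · exact (t22 (by decide) (by decide) (by decide) (by decide) (by decide) (by decide) a0 a1 a2 a3).elim
  · exact (t31 (by decide) (by decide) (by decide) (by decide) (by decide) (by decide) a0 a2 a3 a1).elim
  · exact (t22 (by decide) (by decide) (by decide) (by decide) (by decide) (by decide) a0 a2 a1 a3).elim
  · exact (t22 (by decide) (by decide) (by decide) (by decide) (by decide) (by decide) a0 a3 a1 a2).elim
  · exact (t13 (by decide) (by decide) (by decide) (by decide) (by decide) (by decide) a1 a2 a3 a0).elim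
  · exact (t31 (by decide) (by decide) (by decide) (by decide) (by decide) (by decide) a1 a2 a3 a0).elim
  · exact (t22 (by decide) (by decide) (by decide) (by decide) (by decide) (by decide) a1 a2 a0 a3).elim
  · exact (t22 (by decide) (by decide) (by decide) (by decide) (by decide) (by decide) a1 a3 a0 a2).elim
  · exact (t13 (by decide) (by decide) (by decide) (by decide) (by decide) (by decide) a0 a2 a3 a1).elim
  · exact (t22 (by decide) (by decide) (by decide) (by decide) (by decide) (by decide) a2 a3 a0 a1).elim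
  · exact (t13 (by decide) (by decide) (by decide) (by decide) (by decide) (by decide) a0 a1 a3 a2).elim
  · exact (t13 (by decide) (by decide) (by decide) (by decide) (by decide) (by decide) a0 a1 a2 a3).elim
  · exact hneg (fun j => by fin_cases j <;> assumption)

/-- The pattern of a vector of norm `3`. -/
structure Pat (Φ : Fin 4 → Fin 2 → G → ℂ) (p n : Fin 4) (X : G → ℂ) : Prop where
  gen : IsGeneralizedCharacter G X
  norm : classInner X X = 3
  inner : ∀ j i, classInner X (Φ j i) = (if j = p then 1 else 0) - (if j = n then 1 else 0)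

theorem exists_two : ∀ p n : Fin 4, ∃ k₁ k₂ : Fin 4, k₁ ≠ p ∧ k₁ ≠ n ∧ k₂ ≠ p ∧ k₂ ≠ n ∧ k₁ ≠ k₂ := by
  decide

/-- `L` is not a constituent. -/
theorem Pat.inner_L {L L' : G → ℂ} {Y V : Fin 4 → G → ℂ} (s : Split Φ L L' Y V) {p n : Fin 4}
    {X : G → ℂ} (hX : Pat Φ p n X) : classInner X L = 0 := by
  obtain ⟨l, hl⟩ := inner_int hX.gen s.sL
  obtain ⟨l', hl'⟩ := inner_int hX.gen s.sL'
  by_cases hl0 : l = 0
  · rw [hl, hl0]; simp
  exfalso
  have hN : ∀ j, classInner X (Y j - V j) =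
      (if j = p then 1 else 0) - (if j = n then 1 else 0) - l := by
    intro j
    have h1 := hX.inner j 0
    rw [s.eq0, classInner_add_right, hl] at h1
    linear_combination h1
  have hll : l' = l := by
    have h1 := hX.inner p 1
    rw [s.eq1, classInner_add_right, hN, hl'] at h1
    have h2 : (l' : ℂ) = l := by linear_combination h1
    exact_mod_cast h2
  subst hll
  -- two further indices
  obtain ⟨k₁, k₂, h1p, h1n, h2p, h2n, h12⟩ := exists_two p n
  have hlc : (-(l' : ℂ)) ≠ 0 := neg_ne_zero.2 (Int.cast_ne_zero.2 hl0)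
  have e1 : classInner X (Y k₁ - V k₁) = -(l' : ℂ) := by
    rw [hN, if_neg h1p, if_neg h1n]; ring
  have e2 : classInner X (Y k₂ - V k₂) = -(l' : ℂ) := by
    rw [hN, if_neg h2p, if_neg h2n]; ring
  obtain ⟨R₁, hR₁, a₁, ha₁, i₁⟩ := exists_ne hX.gen (s.sY k₁) (s.sV k₁) hlc e1
  obtain ⟨R₂, hR₂, a₂, ha₂, i₂⟩ := exists_ne hX.gen (s.sY k₂) (s.sV k₂) hlc e2
  have hLR : ∀ {k : Fin 4} {R : G → ℂ}, (R = Y k ∨ R = V k) →
      classInner L R = 0 ∧ classInner L' R = 0 := by
    intro k R hR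
    rcases hR with rfl | rfl
    · exact ⟨s.LY k, s.L'Y k⟩
    · exact ⟨s.LV k, s.L'V k⟩
  have hB := bessel4 (signed_self s.sL) (signed_self s.sL')
    (signed_self (signed_of (s.sY k₁) (s.sV k₁) hR₁))
    (signed_self (signed_of (s.sY k₂) (s.sV k₂) hR₂)) s.LL (hLR hR₁).1 (hLR hR₂).1
    (hLR hR₁).2 (hLR hR₂).2 (orth_of hR₁ hR₂ (s.disj k₁ k₂ h12)) (N := 3)
    (by rw [hX.norm]; norm_num) hl hl' i₁ i₂
  have := sq_pos_int hl0
  have := sq_pos_int ha₁
  have := sq_pos_int ha₂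
  linarith

/-- The decomposition of a vector with a pattern. -/
structure Dec (L L' : G → ℂ) (Y V : Fin 4 → G → ℂ) (p n : Fin 4) (X P R W : G → ℂ) : Prop where
  hP : P = Y p ∨ P = -V p
  hR : R = Y n ∨ R = -V n
  sW : SignedIrr W
  eq : X = P + W - R
  WY : ∀ j, classInner W (Y j) = 0
  WV : ∀ j, classInner W (V j) = 0
  WL : classInner W L = 0

theorem Pat.exists_dec {L L' : G → ℂ} {Y V : Fin 4 → G → ℂ} (s : Split Φ L L' Y V) {p n : Fin 4}
    (hpn : p ≠ n) {X : G → ℂ} (hX : Pat Φ p n X) : ∃ P R W, Dec L L' Y V p n X P R W := by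
  have hXL := hX.inner_L s
  have hN : ∀ j, classInner X (Y j - V j) = (if j = p then 1 else 0) - (if j = n then 1 else 0) := by
    intro j
    have h1 := hX.inner j 0
    rw [s.eq0, classInner_add_right, hXL] at h1
    linear_combination h1
  obtain ⟨x, hx⟩ := inner_int hX.gen (s.sY p)
  obtain ⟨y, hy⟩ := inner_int hX.gen (s.sV p)
  obtain ⟨c, hc⟩ := inner_int hX.gen (s.sY n)
  obtain ⟨d, hd⟩ := inner_int hX.gen (s.sV n)
  have hxy : y = x - 1 := by
    have h1 := hN p
    rw [if_pos rfl, if_neg hpn, classInner_sub_right, hx, hy] at h1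
    have h2 : (y : ℂ) = x - 1 := by linear_combination -h1
    exact_mod_cast h2
  have hcd : d = c + 1 := by
    have h1 := hN n
    rw [if_pos rfl, if_neg (Ne.symm hpn), classInner_sub_right, hc, hd] at h1
    have h2 : (d : ℂ) = c + 1 := by linear_combination -h1
    exact_mod_cast h2
  obtain ⟨d1, d2, d3, d4⟩ := s.disj p n hpn
  have hB := bessel4 (signed_self (s.sY p)) (signed_self (s.sV p)) (signed_self (s.sY n))
    (signed_self (s.sV n)) (s.YV p) d1 d2 d3 d4 (s.YV n) (N := 3) (by rw [hX.norm]; norm_num)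
    hx hy hc hd
  have hx01 : x = 0 ∨ x = 1 := by
    subst hxy hcd
    have h1 : x < 2 := by nlinarith
    have h2 : -1 < x := by nlinarith
    omega
  have hc01 : c = 0 ∨ c = -1 := by
    subst hxy hcd
    have h1 : c < 1 := by nlinarith
    have h2 : -2 < c := by nlinarith
    omega
  -- `P`
  obtain ⟨P, hP, hPY, hPV, hPP, hXP, hXP'⟩ : ∃ P : G → ℂ, (P = Y p ∨ P = -V p) ∧
      classInner X (Y p) = classInner P (Y p) ∧ classInner X (V p) = classInner P (V p) ∧
        classInner P P = 1 ∧ classInner X P = 1 ∧ IsGeneralizedCharacter G P := by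
    rcases hx01 with rfl | rfl
    · refine ⟨-V p, Or.inr rfl, ?_, ?_, signed_self (signed_neg (s.sV p)), ?_,
        generalized_signed (signed_neg (s.sV p))⟩
      · rw [hx, classInner_neg_left, inner_symm_zero (s.YV p)]; norm_num
      · rw [hy, hxy, classInner_neg_left, signed_self (s.sV p)]; norm_num
      · rw [classInner_neg_right, hy, hxy]; norm_num
    · refine ⟨Y p, Or.inl rfl, ?_, ?_, signed_self (s.sY p), ?_, generalized_signed (s.sY p)⟩
      · rw [hx, signed_self (s.sY p)]; norm_num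
      · rw [hy, hxy, s.YV p]; norm_num
      · rw [hx]; norm_num
  obtain ⟨R, hR, hRY, hRV, hRR, hXR, hXR'⟩ : ∃ R : G → ℂ, (R = Y n ∨ R = -V n) ∧
      classInner X (Y n) = -classInner R (Y n) ∧ classInner X (V n) = -classInner R (V n) ∧
        classInner R R = 1 ∧ classInner X R = -1 ∧ IsGeneralizedCharacter G R := by
    rcases hc01 with rfl | rfl
    · refine ⟨-V n, Or.inr rfl, ?_, ?_, signed_self (signed_neg (s.sV n)), ?_,
        generalized_signed (signed_neg (s.sV n))⟩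
      · rw [hc, classInner_neg_left, inner_symm_zero (s.YV n)]; norm_num
      · rw [hd, hcd, classInner_neg_left, signed_self (s.sV n)]; norm_num
      · rw [classInner_neg_right, hd, hcd]; norm_num
    · refine ⟨Y n, Or.inl rfl, ?_, ?_, signed_self (s.sY n), ?_, generalized_signed (s.sY n)⟩
      · rw [hc, signed_self (s.sY n)]; norm_num
      · rw [hd, hcd, s.YV n]; norm_num
      · rw [hc]; norm_num
  -- orthogonality
  have hPk : ∀ k, k ≠ p → classInner P (Y k) = 0 ∧ classInner P (V k) = 0 := by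
    intro k hk
    obtain ⟨a1, a2, a3, a4⟩ := s.disj p k (Ne.symm hk)
    rcases hP with rfl | rfl
    · exact ⟨a1, a2⟩
    · rw [classInner_neg_left, classInner_neg_left, a3, a4]; simp
  have hRk : ∀ k, k ≠ n → classInner R (Y k) = 0 ∧ classInner R (V k) = 0 := by
    intro k hk
    obtain ⟨a1, a2, a3, a4⟩ := s.disj n k (Ne.symm hk)
    rcases hR with rfl | rfl
    · exact ⟨a1, a2⟩
    · rw [classInner_neg_left, classInner_neg_left, a3, a4]; simp
  have hPR : classInner P R = 0 := by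
    obtain ⟨a1, a2⟩ := hPk n (Ne.symm hpn)
    rcases hR with rfl | rfl
    · exact a1
    · rw [classInner_neg_right, a2, neg_zero]
  have hRP := inner_symm_zero hPR
  have hPX := inner_symm_one hXP
  have hRX : classInner R X = -1 := by
    have := inner_conj_int (n := -1) (f := X) (g := R) (by rw [hXR]; norm_num)
    rw [this]; norm_num
  have sW : SignedIrr (X - P + R) := by
    refine signed_of_norm_one (generalized_add (generalized_sub hX.gen hXP') hXR') ?_
    simp only [classInner_add_left, classInner_add_right, classInner_sub_left,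
      classInner_sub_right, hX.norm, hXP, hPX, hXR, hRX, hPP, hRR, hPR, hRP]
    norm_num
  have hPL : classInner P L = 0 := by
    rcases hP with rfl | rfl
    · exact inner_symm_zero (s.LY p)
    · rw [classInner_neg_left, inner_symm_zero (s.LV p), neg_zero]
  have hRL : classInner R L = 0 := by
    rcases hR with rfl | rfl
    · exact inner_symm_zero (s.LY n)
    · rw [classInner_neg_left, inner_symm_zero (s.LV n), neg_zero]
  have hW : ∀ k, classInner (X - P + R) (Y k) = 0 ∧ classInner (X - P + R) (V k) = 0 := by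
    intro k
    by_cases hkp : k = p
    · subst hkp
      obtain ⟨a1, a2⟩ := hRk k hpn
      constructor
      · rw [classInner_add_left, classInner_sub_left, hPY, a1]; ring
      · rw [classInner_add_left, classInner_sub_left, hPV, a2]; ring
    by_cases hkn : k = n
    · subst hkn
      obtain ⟨a1, a2⟩ := hPk k (Ne.symm hpn)
      constructor
      · rw [classInner_add_left, classInner_sub_left, hRY, a1]; ring
      · rw [classInner_add_left, classInner_sub_left, hRV, a2]; ring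
    · obtain ⟨a1, a2⟩ := hPk k hkp
      obtain ⟨a3, a4⟩ := hRk k hkn
      have h1 : classInner (Y k - V k) (X - P + R) = 0 := by
        apply inner_symm_zero
        rw [classInner_add_left, classInner_sub_left, hN, if_neg hkp, if_neg hkn,
          classInner_sub_right, classInner_sub_right, a1, a2, a3, a4]
        norm_num
      obtain ⟨b1, b2⟩ := inner_eq_zero_of_sub (s.sY k) (s.sV k) sW (s.YV k) h1
      exact ⟨inner_symm_zero b1, inner_symm_zero b2⟩
  refine ⟨P, R, X - P + R, ⟨hP, hR, sW, by abel, fun j => (hW j).1, fun j => (hW j).2, ?_⟩⟩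
  rw [classInner_add_left, classInner_sub_left, hXL, hPL, hRL]; norm_num

section Side

variable {L L' : G → ℂ} {Y V : Fin 4 → G → ℂ}

theorem side_ne (s : Split Φ L L' Y V) {p q : Fin 4} (hpq : p ≠ q) {P Q : G → ℂ}
    (hP : P = Y p ∨ P = -V p) (hQ : Q = Y q ∨ Q = -V q) : classInner P Q = 0 := by
  obtain ⟨h1, h2, h3, h4⟩ := s.disj p q hpq
  rcases hP with rfl | rfl <;> rcases hQ with rfl | rfl
  · exact h1
  · rw [classInner_neg_right, h2, neg_zero]
  · rw [classInner_neg_left, h3, neg_zero]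
  · rw [classInner_neg_left, classInner_neg_right, h4, neg_zero, neg_zero]

theorem side_W {p : Fin 4} {P W : G → ℂ} (hP : P = Y p ∨ P = -V p)
    (h1 : ∀ j, classInner W (Y j) = 0) (h2 : ∀ j, classInner W (V j) = 0) :
    classInner W P = 0 := by
  rcases hP with rfl | rfl
  · exact h1 p
  · rw [classInner_neg_right, h2, neg_zero]

theorem side_signed (s : Split Φ L L' Y V) {p : Fin 4} {P : G → ℂ} (hP : P = Y p ∨ P = -V p) :
    SignedIrr P := by
  rcases hP with rfl | rfl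
  · exact s.sY p
  · exact signed_neg (s.sV p)

theorem side_L (s : Split Φ L L' Y V) {p : Fin 4} {P : G → ℂ} (hP : P = Y p ∨ P = -V p) :
    classInner L P = 0 := by
  rcases hP with rfl | rfl
  · exact s.LY p
  · rw [classInner_neg_right, s.LV, neg_zero]

/-- The other constituent. -/
theorem side_other (s : Split Φ L L' Y V) {p : Fin 4} {P : G → ℂ} (hP : P = Y p ∨ P = -V p) :
    ∃ x : G → ℂ, SignedIrr x ∧ Φ p 0 = P - x + L ∧ classInner x P = 0 ∧
      ∀ Q : G → ℂ, (Q = Y p ∨ Q = -V p) → (Q = P ∨ (Q = -x ∧ classInner P Q = 0)) := by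
  rcases hP with rfl | rfl
  · refine ⟨V p, s.sV p, by rw [s.eq0]; abel, inner_symm_zero (s.YV p), ?_⟩
    rintro Q (rfl | rfl)
    · exact Or.inl rfl
    · exact Or.inr ⟨rfl, by rw [classInner_neg_right, s.YV, neg_zero]⟩
  · refine ⟨-Y p, signed_neg (s.sY p), by rw [s.eq0]; abel, ?_, ?_⟩
    · rw [classInner_neg_left, classInner_neg_right, s.YV, neg_zero, neg_zero]
    rintro Q (rfl | rfl)
    · exact Or.inr ⟨by rw [neg_neg], by rw [classInner_neg_left, inner_symm_zero (s.YV p),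
        neg_zero]⟩
    · exact Or.inl rfl

/-- Two vectors of norm `3` with inner product `2` and the same `p` have the same `P`, `W`. -/
theorem dec_eq (s : Split Φ L L' Y V) {p n n' : Fin 4} (hn : p ≠ n) (hn' : p ≠ n')
    (hnn : n ≠ n') {X P R W X' P' R' W' : G → ℂ} (d : Dec L L' Y V p n X P R W)
    (d' : Dec L L' Y V p n' X' P' R' W') (h : classInner X X' = 2) : P' = P ∧ W' = W := by
  obtain ⟨x, hx, -, -, hQ⟩ := side_other s d.hP
  have e : classInner P P' + classInner W W' = 2 := by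
    rw [d.eq, d'.eq] at h
    simp only [classInner_add_left, classInner_add_right, classInner_sub_left,
      classInner_sub_right, side_ne s hn' d.hP d'.hR, side_ne s (Ne.symm hn) d.hR d'.hP,
      side_ne s hnn d.hR d'.hR, side_W d'.hP d.WY d.WV, side_W d'.hR d.WY d.WV,
      inner_symm_zero (side_W d.hP d'.WY d'.WV), inner_symm_zero (side_W d.hR d'.WY d'.WV)] at h
    linear_combination h
  rcases hQ P' d'.hP with h1 | ⟨-, h1⟩
  · refine ⟨h1, ?_⟩
    rw [h1, signed_self (side_signed s d.hP)] at e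
    exact (signed_eq_of_inner_one d.sW d'.sW (by linear_combination e)).symm
  · exfalso
    rw [h1, zero_add] at e
    rcases signed_inner d.sW d'.sW with h2 | h2 | h2
    · rw [h2] at e; norm_num at e
    · rw [h2, signed_self d'.sW] at e; norm_num at e
    · rw [h2, classInner_neg_left, signed_self d'.sW] at e; norm_num at e

end Side

/-- The conclusion of the Gram matrix argument. -/
structure Out (Φ : Fin 4 → Fin 2 → G → ℂ) (Ψ₀ Ψ₁ A₁ A₂ a x x₃ y₁ v₁ y₂ v₂ y₃ v₃ L w : G → ℂ) :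
    Prop where
  sa : SignedIrr a
  sx : SignedIrr x
  sx₃ : SignedIrr x₃
  sy₁ : SignedIrr y₁
  sv₁ : SignedIrr v₁
  sy₂ : SignedIrr y₂
  sv₂ : SignedIrr v₂
  sy₃ : SignedIrr y₃
  sv₃ : SignedIrr v₃
  sL : SignedIrr L
  sw : SignedIrr w
  Φ0 : Φ 0 0 = a - x + L
  Φ1 : Φ 1 0 = y₁ - v₁ + L
  Φ2 : Φ 2 0 = y₂ - v₂ + L
  Φ3 : Φ 3 0 = y₃ - v₃ + L
  eqΨ₀ : Ψ₀ = a + x₃ - y₁
  eqA₁ : A₁ = a + x₃ - y₂
  eqA₂ : A₂ = a + x₃ - y₃
  eqΨ₁ : Ψ₁ = y₂ + v₃ - w
  inner_a : classInner (Φ 0 0) a = 1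

/-- **The Gram matrix argument.** -/
theorem main (h : Fam Φ) {Ψ₀ Ψ₁ A₁ A₂ : G → ℂ} (hΨ₀ : Pat Φ 0 1 Ψ₀) (hΨ₁ : Pat Φ 2 3 Ψ₁)
    (hA₁ : Pat Φ 0 2 A₁) (hA₂ : Pat Φ 0 3 A₂) (h1 : classInner Ψ₀ A₁ = 2)
    (h2 : classInner Ψ₀ A₂ = 2) (h3 : classInner Ψ₀ Ψ₁ = 0) (h4 : classInner A₁ Ψ₁ = -1)
    (h5 : classInner A₂ Ψ₁ = 0) :
    ∃ a x x₃ y₁ v₁ y₂ v₂ y₃ v₃ L w : G → ℂ,
      Out Φ Ψ₀ Ψ₁ A₁ A₂ a x x₃ y₁ v₁ y₂ v₂ y₃ v₃ L w := by
  obtain ⟨L, L', Y, V, s⟩ := h.exists_split
  obtain ⟨a, y₁, x₃, d₀⟩ := hΨ₀.exists_dec s (by decide)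
  obtain ⟨a', y₂, x₃', d₁⟩ := hA₁.exists_dec s (by decide)
  obtain ⟨a'', y₃, x₃'', d₂⟩ := hA₂.exists_dec s (by decide)
  obtain ⟨P, R, W, d₃⟩ := hΨ₁.exists_dec s (by decide)
  obtain ⟨e1, e2⟩ := dec_eq s (by decide) (by decide) (by decide) d₀ d₁ h1
  rw [e1, e2] at d₁
  obtain ⟨e3, e4⟩ := dec_eq s (by decide) (by decide) (by decide) d₀ d₂ h2
  rw [e3, e4] at d₂
  obtain ⟨x, sx, ex, hxa, -⟩ := side_other s d₀.hP
  obtain ⟨v₁, sv₁, ev₁, -, -⟩ := side_other s d₀.hR
  obtain ⟨v₂, sv₂, ev₂, -, hQ₂⟩ := side_other s d₁.hR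
  obtain ⟨v₃, sv₃, ev₃, -, hQ₃⟩ := side_other s d₂.hR
  -- `(x₃, W) = 0`
  have hxW : classInner x₃ W = 0 := by
    rw [d₀.eq, d₃.eq] at h3
    simp only [classInner_add_left, classInner_add_right, classInner_sub_left,
      classInner_sub_right, side_ne s (show (0 : Fin 4) ≠ 2 by decide) d₀.hP d₃.hP,
      side_ne s (show (0 : Fin 4) ≠ 3 by decide) d₀.hP d₃.hR,
      side_ne s (show (1 : Fin 4) ≠ 2 by decide) d₀.hR d₃.hP,
      side_ne s (show (1 : Fin 4) ≠ 3 by decide) d₀.hR d₃.hR, side_W d₃.hP d₀.WY d₀.WV,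
      side_W d₃.hR d₀.WY d₀.WV, inner_symm_zero (side_W d₀.hP d₃.WY d₃.WV),
      inner_symm_zero (side_W d₀.hR d₃.WY d₃.WV)] at h3
    linear_combination h3
  have hP : P = y₂ := by
    rcases hQ₂ P d₃.hP with h6 | ⟨-, h6⟩
    · exact h6
    · exfalso
      rw [d₁.eq, d₃.eq] at h4
      simp only [classInner_add_left, classInner_add_right, classInner_sub_left,
        classInner_sub_right, side_ne s (show (0 : Fin 4) ≠ 2 by decide) d₀.hP d₃.hP,
        side_ne s (show (0 : Fin 4) ≠ 3 by decide) d₀.hP d₃.hR,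
        side_ne s (show (2 : Fin 4) ≠ 3 by decide) d₁.hR d₃.hR, side_W d₃.hP d₀.WY d₀.WV,
        side_W d₃.hR d₀.WY d₀.WV, inner_symm_zero (side_W d₀.hP d₃.WY d₃.WV),
        inner_symm_zero (side_W d₁.hR d₃.WY d₃.WV), hxW, h6] at h4
      norm_num at h4
  have hR : R = -v₃ := by
    rcases hQ₃ R d₃.hR with h6 | ⟨h6, -⟩
    · exfalso
      have h7 : classInner y₃ R = 1 := by rw [h6]; exact signed_self (side_signed s d₂.hR)
      rw [d₂.eq, d₃.eq] at h5
      simp only [classInner_add_left, classInner_add_right, classInner_sub_left,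
        classInner_sub_right, side_ne s (show (0 : Fin 4) ≠ 2 by decide) d₀.hP d₃.hP,
        side_ne s (show (0 : Fin 4) ≠ 3 by decide) d₀.hP d₃.hR,
        side_ne s (show (3 : Fin 4) ≠ 2 by decide) d₂.hR d₃.hP, side_W d₃.hP d₀.WY d₀.WV,
        side_W d₃.hR d₀.WY d₀.WV, inner_symm_zero (side_W d₀.hP d₃.WY d₃.WV),
        inner_symm_zero (side_W d₂.hR d₃.WY d₃.WV), hxW, h7] at h5
      norm_num at h5
    · exact h6
  refine ⟨a, x, x₃, y₁, v₁, y₂, v₂, y₃, v₃, L, -W, ?_⟩
  exact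
    { sa := side_signed s d₀.hP
      sx := sx
      sx₃ := d₀.sW
      sy₁ := side_signed s d₀.hR
      sv₁ := sv₁
      sy₂ := side_signed s d₁.hR
      sv₂ := sv₂
      sy₃ := side_signed s d₂.hR
      sv₃ := sv₃
      sL := s.sL
      sw := signed_neg d₃.sW
      Φ0 := ex
      Φ1 := ev₁
      Φ2 := ev₂
      Φ3 := ev₃
      eqΨ₀ := d₀.eq
      eqA₁ := d₁.eq
      eqA₂ := d₂.eq
      eqΨ₁ := by rw [d₃.eq, hP, hR]; abel
      inner_a := by
        rw [ex, classInner_add_left, classInner_sub_left, signed_self (side_signed s d₀.hP), hxa,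
          side_L s d₀.hP]
        norm_num }

end Cfsg.Agent.Classification.QDW.WrFGram
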