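import Mathlib

/-!
# The numerics of the wreathed case for a nonprincipal linear character

`Q = ε q`, `P = Q^2 + Q + 1`. The class formulas for `a - x + L`, `y_h - v_h + L`, `y_j - v_j + L`,
`a + x₃ - y_h`, `a + x₃ - y_j`, `y_j + v_{j+h} - w` force `a(1) = 1`.
-/

set_option autoImplicit false

namespace Cfsg.Agent.Classification.QDW.WrFNum

/-- The final elimination: `m = Q - 1`, `s = 1`. -/
theorem cubic {Q m s : ℤ} (hQ : Q % 4 = 1) (h3 : 3 ≤ |Q|)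
    (e3 : (Q ^ 2 - 1) * s = m * (3 * Q + 1) - 2 * Q * (Q - 1))
    (e2 : Q * (Q + 1) * m ^ 2 = (Q - 1) ^ 2 * (s * (s + m) * (2 * s + m))) (hm : m ≠ 0) :
    m = Q - 1 ∧ s = 1 := by
  have hQ0 : Q ≠ 0 := by rintro rfl; norm_num at h3
  have hQ1 : Q - 1 ≠ 0 := by
    intro h
    have : Q = 1 := by omega
    subst this
    norm_num at h3
  have hQ2 : Q + 1 ≠ 0 := by omega
  -- the cubic
  have key : (Q + 1) ^ 4 * (m ^ 2 * (Q - 1)) =
      (m * (3 * Q + 1) - 2 * Q * (Q - 1)) * (m * (Q + 3) - 2 * (Q - 1)) *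
        (m * (Q ^ 2 + 6 * Q + 1) - 4 * Q * (Q - 1)) := by
    have h1 : (Q ^ 2 - 1) * (s + m) = Q * (m * (Q + 3) - 2 * (Q - 1)) := by
      linear_combination e3
    have h2 : (Q ^ 2 - 1) * (2 * s + m) = m * (Q ^ 2 + 6 * Q + 1) - 4 * Q * (Q - 1) := by
      linear_combination 2 * e3
    have h4 : Q * ((Q - 1) ^ 2 * ((Q + 1) ^ 4 * (m ^ 2 * (Q - 1)))) =
        Q * ((Q - 1) ^ 2 * ((m * (3 * Q + 1) - 2 * Q * (Q - 1)) *
          (m * (Q + 3) - 2 * (Q - 1)) * (m * (Q ^ 2 + 6 * Q + 1) - 4 * Q * (Q - 1)))) := by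
      have h5 : (Q ^ 2 - 1) ^ 3 * (Q * (Q + 1) * m ^ 2) =
          (Q - 1) ^ 2 * (((Q ^ 2 - 1) * s) * ((Q ^ 2 - 1) * (s + m)) *
            ((Q ^ 2 - 1) * (2 * s + m))) := by
        rw [e2]; ring
      rw [e3, h1, h2] at h5
      linear_combination h5
    exact mul_left_cancel₀ (pow_ne_zero 2 hQ1) (mul_left_cancel₀ hQ0 h4)
  have hfac : (m - (Q - 1)) * ((3 * Q ^ 2 + 10 * Q + 3) * (Q ^ 2 + 6 * Q + 1) * m ^ 2 -
      (12 * Q * (Q ^ 2 + 6 * Q + 1) - 16 * Q ^ 2) * (Q - 1) * m +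
        16 * Q ^ 2 * (Q - 1) ^ 2) = 0 := by
    linear_combination -key
  rcases mul_eq_zero.1 hfac with h | h
  · have hm' : m = Q - 1 := by omega
    refine ⟨hm', ?_⟩
    subst hm'
    have h5 : (Q - 1) * ((Q + 1) * s) = (Q - 1) * ((Q + 1) * 1) := by linear_combination e3
    exact mul_left_cancel₀ hQ2 (mul_left_cancel₀ hQ1 h5)
  · by_cases h6 : 0 < 3 * Q ^ 2 + 22 * Q + 3
    · exfalso
      have h7 : ((3 * Q ^ 2 + 10 * Q + 3) * (Q ^ 2 + 6 * Q + 1) * m -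
          (6 * Q * (Q ^ 2 + 6 * Q + 1) - 8 * Q ^ 2) * (Q - 1)) ^ 2 +
            (3 * Q ^ 2 + 22 * Q + 3) * (2 * Q * (Q - 1) * (Q + 1)) ^ 2 = 0 := by
        linear_combination (3 * Q ^ 2 + 10 * Q + 3) * (Q ^ 2 + 6 * Q + 1) * h
      have h8 : 0 < (2 * Q * (Q - 1) * (Q + 1)) ^ 2 := by positivity
      have h9 := mul_pos h6 h8
      have h10 := sq_nonneg ((3 * Q ^ 2 + 10 * Q + 3) * (Q ^ 2 + 6 * Q + 1) * m -
          (6 * Q * (Q ^ 2 + 6 * Q + 1) - 8 * Q ^ 2) * (Q - 1))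
      omega
    · have hl : -8 < Q := by
        by_contra hcon
        apply h6
        nlinarith
      have hu : Q < 0 := by
        by_contra hcon
        apply h6
        nlinarith
      have hcases : Q = -3 ∨ Q = -7 := by omega
      rcases hcases with rfl | rfl
      · norm_num at h
        omega
      · exfalso
        have h8 : 5 * m ^ 2 - 91 * m + 392 = 0 := by omega
        have h9 : (m - 7) * (5 * m - 56) = 0 := by linear_combination h8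
        rcases mul_eq_zero.1 h9 with h10 | h10
        · have h11 : m = 7 := by omega
          subst h11
          omega
        · omega

/-- The last step: `υ = P`, `δ = (Q - 1) P`, `Y = Q + 2`. -/
theorem last {Q α A : ℤ} (h3 : 3 ≤ |Q|) (hα : α ≠ 0) (hβ : Q ^ 2 + Q + 1 - α ≠ 0)
    (e1 : Q * (A ^ 2 * (Q ^ 2 + Q + 1) - 2 * A * α - (Q - 1) * α) =
      α ^ 2 + α * (Q - 1) * (Q ^ 2 + Q + 1))
    (e2 : Q * (A * (Q ^ 2 + Q + 1) - (Q + 2) * α) ^ 2 =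
      (Q - 1) ^ 2 * (Q + 1) * (α * (Q ^ 2 + Q + 1 - α))) : α = 1 := by
  have hQ0 : Q ≠ 0 := by rintro rfl; norm_num at h3
  have hQ2 : Q + 1 ≠ 0 := by
    intro h
    have : Q = -1 := by omega
    subst this
    norm_num at h3
  have hP : 0 < Q ^ 2 + Q + 1 := by nlinarith [sq_nonneg (2 * Q + 1)]
  -- the linear relation
  have h4 : 2 * (Q + 1) * (Q ^ 2 + Q + 1) * α * (α + Q - 1 - Q * A) = 0 := by
    linear_combination e2 - (Q ^ 2 + Q + 1) * e1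
  have h5 : α = Q * A - Q + 1 := by
    have h6 : 2 * (Q + 1) * (Q ^ 2 + Q + 1) * α ≠ 0 :=
      mul_ne_zero (mul_ne_zero (mul_ne_zero two_ne_zero hQ2) hP.ne') hα
    have := (mul_eq_zero.1 h4).resolve_left h6
    omega
  have hQ1 : Q - 1 ≠ 0 := by
    intro h
    have : Q = 1 := by omega
    subst this
    norm_num at h3
  have h6 : Q * ((Q - 1) ^ 2 * ((A - 1) * (A - (Q + 2)))) = 0 := by
    have h7 := e1
    rw [h5] at h7
    linear_combination h7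
  rcases mul_eq_zero.1 ((mul_eq_zero.1 ((mul_eq_zero.1 h6).resolve_left hQ0)).resolve_left
    (pow_ne_zero 2 hQ1)) with h | h
  · have : A = 1 := by omega
    rw [h5, this]; ring
  · exfalso
    apply hβ
    have : A = Q + 2 := by omega
    rw [h5, this]; ring

theorem clear3 {P a b c x y w k R : ℂ} (hP : P ≠ 0) (ha : a ≠ 0) (hb : b ≠ 0) (hc : c ≠ 0)
    (e : k * P * (x / (P * a) - y / (P * b) + w / (P * c)) = R) :
    k * (x * (b * c) - y * (a * c) + w * (a * b)) = R * (a * b * c) := by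
  rw [← e]
  field_simp

theorem clear3' {P a b c x y w k R : ℂ} (hP : P ≠ 0) (ha : a ≠ 0) (hb : b ≠ 0) (hc : c ≠ 0)
    (e : k * P * (x / (P * a) + y / (P * b) - w / (P * c)) = R) :
    k * (x * (b * c) + y * (a * c) - w * (a * b)) = R * (a * b * c) := by
  rw [← e]
  field_simp

theorem clear4 {P a b c x y w k R : ℂ} (hP : P ≠ 0) (ha : a ≠ 0) (hb : b ≠ 0) (hc : c ≠ 0)
    (e : k * P * (x / a - y / b + w / (P * c)) = R) :
    k * (P * (x * (b * c) - y * (a * c)) + w * (a * b)) = R * (a * b * c) := by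
  rw [← e]
  field_simp

theorem clear5 {P a b x y w k R : ℂ} (hP : P ≠ 0) (ha : a ≠ 0) (hb : b ≠ 0)
    (e : k * P * (x / a + y / b - w / P) = R) :
    k * (P * (x * b + y * a) - w * (a * b)) = R * (a * b) := by
  rw [← e]
  field_simp

/-- **The numerics of the wreathed case with a nonprincipal linear character.** -/
theorem main {Q α β δ A B m : ℤ} (hQ : Q % 4 = 1) (h3 : 3 ≤ |Q|) (hα : α ≠ 0) (hβ : β ≠ 0)
    (hδ : δ ≠ 0) (hαδ : α + δ ≠ 0) (hυ : α + β ≠ 0) (hυδ : α + β + δ ≠ 0)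
    (h2υ : 2 * (α + β) + δ ≠ 0)
    (e1 : (Q ^ 2 * (Q ^ 2 + Q + 1) : ℂ) * ((A : ℂ) ^ 2 / α - (A + m) ^ 2 / (α + δ) +
      (m + 2 * (1 - Q)) ^ 2 / δ) = Q * (Q - 1) * (Q + 1) ^ 2)
    (e2 : (Q ^ 2 * (Q ^ 2 + Q + 1) : ℂ) * ((A + B : ℂ) ^ 2 / (α + β) -
      (A + B + m) ^ 2 / (α + β + δ) + (m + 2 * (1 - Q)) ^ 2 / δ) = Q * (Q - 1) * (Q + 1) ^ 2)
    (e3 : (Q ^ 2 * (Q ^ 2 + Q + 1) : ℂ) * ((A + B - 2 * (1 + Q) : ℂ) ^ 2 / (α + β) -
      (A + B - 2 * (1 + Q) + m) ^ 2 / (α + β + δ) + (m + 2 * (1 - Q)) ^ 2 / δ) =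
        Q * (Q - 1) * (Q + 1) ^ 2)
    (e4 : (Q ^ 2 * (Q ^ 2 + Q + 1) : ℂ) * ((A : ℂ) ^ 2 / α + (B : ℂ) ^ 2 / β -
      (A + B) ^ 2 / (α + β)) = Q * (Q - 1) ^ 2 * (Q + 1))
    (e5 : (Q ^ 2 * (Q ^ 2 + Q + 1) : ℂ) * ((A : ℂ) ^ 2 / α + (B : ℂ) ^ 2 / β -
      (A + B - 2 * (1 + Q)) ^ 2 / (α + β)) = Q * (Q + 1) ^ 3)
    (e6 : (Q ^ 2 * (Q ^ 2 + Q + 1) : ℂ) * ((A + B - 2 * (1 + Q) : ℂ) ^ 2 / (α + β) +
      (A + B - 2 * (1 + Q) + m) ^ 2 / (α + β + δ) -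
        (2 * (A + B - 2 * (1 + Q)) + m) ^ 2 / (2 * (α + β) + δ)) =
          Q * (Q - 1) ^ 2 * (Q + 1)) : α = 1 := by
  have hQ0 : Q ≠ 0 := by rintro rfl; norm_num at h3
  have hQ1 : Q - 1 ≠ 0 := by
    intro h
    have : Q = 1 := by omega
    subst this
    norm_num at h3
  have hQ2 : Q + 1 ≠ 0 := by omega
  have hP : 0 < Q ^ 2 + Q + 1 := by nlinarith [sq_nonneg (2 * Q + 1)]
  have cα : (α : ℂ) ≠ 0 := Int.cast_ne_zero.2 hα
  have cβ : (β : ℂ) ≠ 0 := Int.cast_ne_zero.2 hβ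
  have cδ : (δ : ℂ) ≠ 0 := Int.cast_ne_zero.2 hδ
  have cαδ : (α + δ : ℂ) ≠ 0 := by exact_mod_cast hαδ
  have cυ : (α + β : ℂ) ≠ 0 := by exact_mod_cast hυ
  have cυδ : (α + β + δ : ℂ) ≠ 0 := by exact_mod_cast hυδ
  have c2υ : (2 * (α + β) + δ : ℂ) ≠ 0 := by exact_mod_cast h2υ
  have cQ0 : (Q : ℂ) ≠ 0 := Int.cast_ne_zero.2 hQ0
  -- first step
  have s1 : (Q ^ 2 + Q + 1) * (A + B - (1 + Q)) = α + β := by
    have h1 : (Q ^ 2 * (Q ^ 2 + Q + 1) : ℂ) * ((A + B : ℂ) ^ 2 / (α + β) -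
        (A + B - 2 * (1 + Q)) ^ 2 / (α + β)) = 4 * Q ^ 2 * (Q + 1) := by
      linear_combination e5 - e4
    rw [← sub_div, mul_div_assoc', div_eq_iff cυ] at h1
    have h2 : Q ^ 2 * (Q ^ 2 + Q + 1) * ((A + B) ^ 2 - (A + B - 2 * (1 + Q)) ^ 2) =
        4 * Q ^ 2 * (Q + 1) * (α + β) := by exact_mod_cast h1
    have h3 : (4 * Q ^ 2 * (Q + 1)) * ((Q ^ 2 + Q + 1) * (A + B - (1 + Q))) =
        (4 * Q ^ 2 * (Q + 1)) * (α + β) := by linear_combination h2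
    exact mul_left_cancel₀ (mul_ne_zero (mul_ne_zero (by norm_num) (pow_ne_zero 2 hQ0)) hQ2) h3
  obtain ⟨s, hs⟩ : ∃ s : ℤ, s = A + B - (1 + Q) := ⟨_, rfl⟩
  have hB : B = s + (1 + Q) - A := by omega
  have hβ' : β = (Q ^ 2 + Q + 1) * s - α := by rw [← hs] at s1; linear_combination -s1
  have hs0 : s ≠ 0 := by
    rintro rfl
    apply hυ
    rw [hβ']; ring
  -- second step
  have s2 : δ = (Q ^ 2 + Q + 1) * m := by
    have h1 : (Q ^ 2 * (Q ^ 2 + Q + 1) : ℂ) * (((A + B : ℂ) ^ 2 -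
        (A + B - 2 * (1 + Q)) ^ 2) / (α + β) - ((A + B + m) ^ 2 -
          (A + B - 2 * (1 + Q) + m) ^ 2) / (α + β + δ)) = 0 := by
      linear_combination e2 - e3
    have hP' : (Q ^ 2 * (Q ^ 2 + Q + 1) : ℂ) ≠ 0 := by
      have : Q ^ 2 * (Q ^ 2 + Q + 1) ≠ 0 := mul_ne_zero (pow_ne_zero 2 hQ0) hP.ne'
      exact_mod_cast this
    have h2 := (mul_eq_zero.1 h1).resolve_left hP'
    rw [sub_eq_zero, div_eq_div_iff cυ cυδ] at h2
    have h3 : ((A + B) ^ 2 - (A + B - 2 * (1 + Q)) ^ 2) * (α + β + δ) =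
        ((A + B + m) ^ 2 - (A + B - 2 * (1 + Q) + m) ^ 2) * (α + β) := by exact_mod_cast h2
    rw [hβ', hB] at h3
    have h4 : (4 * (Q + 1) * s) * δ = (4 * (Q + 1) * s) * ((Q ^ 2 + Q + 1) * m) := by
      linear_combination h3
    exact mul_left_cancel₀ (mul_ne_zero (mul_ne_zero (by norm_num) hQ2) hs0) h4
  have hm : m ≠ 0 := by
    rintro rfl
    apply hδ
    rw [s2]; ring
  have hsm : s + m ≠ 0 := by
    intro h
    apply hυδ
    rw [s2, hβ']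
    linear_combination (Q ^ 2 + Q + 1) * h
  have h2sm : 2 * s + m ≠ 0 := by
    intro h
    apply h2υ
    rw [s2, hβ']
    linear_combination (Q ^ 2 + Q + 1) * h
  have cs : (s : ℂ) ≠ 0 := Int.cast_ne_zero.2 hs0
  have cm : (m : ℂ) ≠ 0 := Int.cast_ne_zero.2 hm
  have csm : (s + m : ℂ) ≠ 0 := by exact_mod_cast hsm
  have c2sm : (2 * s + m : ℂ) ≠ 0 := by exact_mod_cast h2sm
  have cP : (Q ^ 2 + Q + 1 : ℂ) ≠ 0 := by exact_mod_cast hP.ne'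
  have cB : (B : ℂ) = s + (1 + Q) - A := by rw [hB]; push_cast; ring
  have cβ' : (β : ℂ) = (Q ^ 2 + Q + 1) * s - α := by rw [hβ']; push_cast; ring
  have cδ' : (δ : ℂ) = (Q ^ 2 + Q + 1) * m := by rw [s2]; push_cast; ring
  -- third step
  have E1 : Q * ((Q + 1) ^ 2 * m ^ 2 - 4 * (Q - 1) * (s * (s + m) * m) +
      4 * (Q - 1) ^ 2 * (s * (s + m))) = (Q - 1) * (Q + 1) ^ 2 * (s * (s + m) * m) := by
    have h1 : (α + β : ℂ) = (Q ^ 2 + Q + 1) * s := by rw [cβ']; ring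
    have h2 : (α + β + δ : ℂ) = (Q ^ 2 + Q + 1) * (s + m) := by rw [cβ', cδ']; ring
    have h3 : (A + B : ℂ) = s + (1 + Q) := by rw [cB]; ring
    rw [h2, h1, h3, cδ'] at e2
    have e2' := clear3 cP cs csm cm e2
    have h4 : (Q : ℂ) * (Q * ((Q + 1) ^ 2 * m ^ 2 - 4 * (Q - 1) * (s * (s + m) * m) +
      4 * (Q - 1) ^ 2 * (s * (s + m)))) = Q * ((Q - 1) * (Q + 1) ^ 2 * (s * (s + m) * m)) := by
      linear_combination e2'
    have h5 := mul_left_cancel₀ cQ0 h4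
    exact_mod_cast h5
  have E2 : Q * (Q + 1) * m ^ 2 = (Q - 1) ^ 2 * (s * (s + m) * (2 * s + m)) := by
    have h1 : (α + β : ℂ) = (Q ^ 2 + Q + 1) * s := by rw [cβ']; ring
    have h2 : (α + β + δ : ℂ) = (Q ^ 2 + Q + 1) * (s + m) := by rw [cβ', cδ']; ring
    have h3 : (A + B : ℂ) = s + (1 + Q) := by rw [cB]; ring
    have h4 : (2 * (α + β) + δ : ℂ) = (Q ^ 2 + Q + 1) * (2 * s + m) := by rw [cβ', cδ']; ring
    rw [h4, h2, h1, h3] at e6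
    have e6' := clear3' cP cs csm c2sm e6
    have h5 : ((Q : ℂ) * (Q + 1)) * (Q * (Q + 1) * m ^ 2) =
        (Q * (Q + 1)) * ((Q - 1) ^ 2 * (s * (s + m) * (2 * s + m))) := by
      linear_combination e6'
    have h6 : ((Q : ℂ) * (Q + 1)) ≠ 0 := by
      have := mul_ne_zero hQ0 hQ2
      exact_mod_cast this
    have h5 := mul_left_cancel₀ h6 h5
    exact_mod_cast h5
  have E3 : (Q ^ 2 - 1) * s = m * (3 * Q + 1) - 2 * Q * (Q - 1) := by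
    have h1 : (2 * (s * (s + m)) * (Q - 1)) * ((Q ^ 2 - 1) * s) =
        (2 * (s * (s + m)) * (Q - 1)) * (m * (3 * Q + 1) - 2 * Q * (Q - 1)) := by
      linear_combination E1 - (Q + 1) * E2
    exact mul_left_cancel₀ (mul_ne_zero (mul_ne_zero two_ne_zero (mul_ne_zero hs0 hsm)) hQ1) h1
  obtain ⟨rfl, rfl⟩ := cubic hQ h3 E3 E2 hm
  -- last step
  have cQ1 : (Q - 1 : ℂ) ≠ 0 := by exact_mod_cast hQ1
  refine last (Q := Q) (A := A) h3 hα ?_ ?_ ?_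
  · intro h
    apply hβ
    rw [hβ', mul_one]
    exact h
  · rw [cδ'] at e1 cαδ
    push_cast at e1 cαδ
    have h1 : ((A : ℂ) ^ 2 * (α + (Q ^ 2 + Q + 1) * (Q - 1)) - (A + (Q - 1)) ^ 2 * α) * Q =
        (Q - 1) * (α * (α + (Q ^ 2 + Q + 1) * (Q - 1))) := by
      have e1' := clear4 cP cα cαδ cQ1 e1
      have h2 : ((Q : ℂ) * (Q - 1) * (Q ^ 2 + Q + 1)) *
          (((A : ℂ) ^ 2 * (α + (Q ^ 2 + Q + 1) * (Q - 1)) - (A + (Q - 1)) ^ 2 * α) * Q) =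
          ((Q : ℂ) * (Q - 1) * (Q ^ 2 + Q + 1)) *
            ((Q - 1) * (α * (α + (Q ^ 2 + Q + 1) * (Q - 1)))) := by
        linear_combination e1'
      exact mul_left_cancel₀ (mul_ne_zero (mul_ne_zero cQ0 cQ1) cP) h2
    have h2 : (Q - 1) * (Q * (A ^ 2 * (Q ^ 2 + Q + 1) - 2 * A * α - (Q - 1) * α)) =
        (Q - 1) * (α ^ 2 + α * (Q - 1) * (Q ^ 2 + Q + 1)) := by
      have h3 : (A ^ 2 * (α + (Q ^ 2 + Q + 1) * (Q - 1)) - (A + (Q - 1)) ^ 2 * α) * Q =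
        (Q - 1) * (α * (α + (Q ^ 2 + Q + 1) * (Q - 1))) := by exact_mod_cast h1
      linear_combination h3
    exact mul_left_cancel₀ hQ1 h2
  · have hυ' : (α + β : ℂ) = Q ^ 2 + Q + 1 := by rw [cβ']; push_cast; ring
    rw [hυ'] at e4
    have e4' := clear5 cP cα cβ e4
    rw [cβ', cB] at e4'
    have h1 : (Q : ℂ) * (Q * (A * (Q ^ 2 + Q + 1) - (Q + 2) * α) ^ 2) =
        Q * ((Q - 1) ^ 2 * (Q + 1) * (α * (Q ^ 2 + Q + 1 - α))) := by
      push_cast at e4'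
      linear_combination e4'
    have h2 := mul_left_cancel₀ cQ0 h1
    exact_mod_cast h2

end Cfsg.Agent.Classification.QDW.WrFNum
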