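import Mathlib
import Cfsg.Agent.Classification.QDW.FldTwist
import Cfsg.Agent.Classification.QDW.FldWr
import Cfsg.Agent.Classification.QDW.WrFGram
import Cfsg.Agent.Classification.QDW.WrFNum

/-!
# The wreathed case: a nonprincipal linear character, abstract end

`CVec M z q ε φ v₀ v₁ f₁ f₂`: the vectors on `C`. `kill`: if `FIndL f₁`, `FIndL f₂` are generalized
characters, `l ≠ 1`, this is a contradiction.
-/

set_option autoImplicit false
set_option linter.unusedSectionVars false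

open Cfsg
open scoped ComplexConjugate

namespace Cfsg.Agent.Classification.QDW.WrFKill

open Cfsg.Agent.Characters Cfsg.Agent.Classification.InvCent
  Cfsg.Agent.Classification.InvCent.WreathedGram
  Cfsg.Agent.Classification.InvCent.WreathedGramTwo
  Cfsg.Agent.Classification.BGOrder
  Cfsg.Agent.Classification.BGBlockB0 Cfsg.Agent.Classification.BGIsometry
  Cfsg.Agent.Classification.BGSplit
  Cfsg.Agent.Classification.QDW.Fld Cfsg.Agent.Classification.QDW.WrFGram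
open Cfsg.Agent.Classification.InvCent.Wreathed (signed_invol)

universe v w

/-- A vector on `C`: in the span of the principal block, supported on the elements having `z` as a
power. -/
structure Vec {C : Type v} [Group C] [Fintype C] (M : Ideal AlgInt) (z : C) (f : C → ℂ) :
    Prop where
  prin : Prin M f
  supp : ∀ c, f c ≠ 0 → z ∈ Subgroup.zpowers c

/-- The vectors on `C`. -/
structure CVec {C : Type v} [Group C] [Fintype C] (M : Ideal AlgInt) (z : C) (q : ℕ) (ε : ℤ)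
    (φ : Fin 4 → Fin 2 → C → ℂ) (v₀ v₁ f₁ f₂ : C → ℂ) : Prop where
  vφ : ∀ j i, Vec M z (φ j i)
  gφ : ∀ j i, IsGeneralizedCharacter C (φ j i)
  vv₀ : Vec M z v₀
  gv₀ : IsGeneralizedCharacter C v₀
  vv₁ : Vec M z v₁
  gv₁ : IsGeneralizedCharacter C v₁
  vf₁ : Vec M z f₁
  vf₂ : Vec M z f₂
  gram : ∀ j i j' i', classInner (φ j i) (φ j' i') =
    (if j = j' then 2 else 0) + (if i = i' then 1 else 0)
  n₀ : classInner v₀ v₀ = 3
  n₁ : classInner v₁ v₁ = 3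
  m₁ : classInner f₁ f₁ = 3
  m₂ : classInner f₂ f₂ = 3
  p₀ : ∀ j i, classInner v₀ (φ j i) = (if j = 0 then 1 else 0) - (if j = 1 then 1 else 0)
  p₁ : ∀ j i, classInner v₁ (φ j i) = (if j = 2 then 1 else 0) - (if j = 3 then 1 else 0)
  r₁ : ∀ j i, classInner f₁ (φ j i) = (if j = 0 then 1 else 0) - (if j = 2 then 1 else 0)
  r₂ : ∀ j i, classInner f₂ (φ j i) = (if j = 0 then 1 else 0) - (if j = 3 then 1 else 0)
  i₁ : classInner v₀ f₁ = 2
  i₂ : classInner v₀ f₂ = 2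
  i₃ : classInner v₀ v₁ = 0
  i₄ : classInner f₁ v₁ = -1
  i₅ : classInner f₂ v₁ = 0
  φz : ∀ j i, φ j i z = 2 * (1 - ε * q)
  v₀z : v₀ z = 0
  v₁z : v₁ z = 0
  f₁z : f₁ z = 2 * (1 + ε * q)
  f₂z : f₂ z = 2 * (1 + ε * q)
  sφ : ∀ j i, pairSum z (φ j i) = (ε * q) * (ε * q - 1) * (ε * q + 1) ^ 2
  sv₀ : pairSum z v₀ = (ε * q) * (ε * q - 1) ^ 2 * (ε * q + 1)
  sv₁ : pairSum z v₁ = (ε * q) * (ε * q - 1) ^ 2 * (ε * q + 1)
  sf₁ : pairSum z f₁ = (ε * q) * (ε * q + 1) ^ 3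

section Main

variable {G : Type w} [Group G] [Fintype G] {C : Type v} [Group C] [Fintype C] {t : G} {z : C}
  {N S : Subgroup (Subgroup.centralizer ({t} : Set G))} {π : N →* C} {M : Ideal AlgInt}
  {q : ℕ} {ε : ℤ} {Z T T' U : Subgroup C}
  {s s' u : C} [N.Normal] {l : Subgroup.centralizer ({t} : Set G) ⧸ N →* ℂ}

theorem FIndL_t (H : FHyp t z N S π) (hM : IsPModular 2 M) {f : C → ℂ} (hf : Vec M z f) :
    FIndL M l π f t = f z := by
  have h1 := FIndL_apply (l := l) H hM hf.prin hf.supp (n := tN H)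
    (by rw [H.map_tN]; exact Subgroup.mem_zpowers z)
  rw [H.map_tN] at h1
  exact h1

theorem inner_FIndL (H : FHyp t z N S π) (hM : IsPModular 2 M) {f g : C → ℂ} (hf : Vec M z f)
    (hg : Vec M z g) : classInner (FIndL M l π f) (FIndL M l π g) = classInner f g :=
  FIndL_inner H hM hg.prin hf.supp hg.supp

/-- The class formula for a combination of three signed irreducible characters. -/
theorem class_three (H : FHyp t z N S π) (hM : IsPModular 2 M)
    (hC : CHyp z q ε Z T T' U s s' u) {f : C → ℂ}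
    (hf : Vec M z f) {c₁ c₂ c₃ : ℂ} {X₁ X₂ X₃ : G → ℂ}
    (h₁ : SignedIrr X₁) (h₂ : SignedIrr X₂) (h₃ : SignedIrr X₃)
    (hind : FIndL M l π f = c₁ • X₁ + c₂ • X₂ + c₃ • X₃) :
    ((Subgroup.centralizer ({t} : Set G)).index : ℂ) *
      (c₁ * (X₁ t ^ 2 / X₁ 1) + c₂ * (X₂ t ^ 2 / X₂ 1) + c₃ * (X₃ t ^ 2 / X₃ 1)) =
      (kapN π u : ℂ) ^ 2 * pairSum z f := by
  have h1 := classFormulaL H hM hC hf.prin hf.supp (Finset.univ : Finset (Fin 3)) ![c₁, c₂, c₃]
    ![X₁, X₂, X₃] (fun j _ => by fin_cases j <;> assumption) (by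
      rw [hind]
      funext g
      rw [Fin.sum_univ_three]
      rfl)
  rw [Fin.sum_univ_three] at h1
  exact h1

/-- **The abstract end.** -/
theorem kill (H : FHyp t z N S π) (hM : IsPModular 2 M) (hC : CHyp z q ε Z T T' U s s' u)
    (h4 : (4 : ℤ) ∣ q - ε) (hq : 3 ≤ q)
    (hidx : ((Subgroup.centralizer ({t} : Set G)).index : ℤ) =
      (kapN π u : ℤ) ^ 2 * ((ε * q) ^ 2 * ((ε * q) ^ 2 + ε * q + 1)))
    (hlin : ∀ X : G → ℂ, SignedIrr X → X 1 = 1 → X = 1) (hl : l ≠ 1)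
    {φ : Fin 4 → Fin 2 → C → ℂ} {v₀ v₁ f₁ f₂ : C → ℂ} (cv : CVec M z q ε φ v₀ v₁ f₁ f₂)
    (g₁ : IsGeneralizedCharacter G (FIndL M l π f₁))
    (g₂ : IsGeneralizedCharacter G (FIndL M l π f₂)) : False := by
  have hFam : Fam (fun j i => FIndL M l π (φ j i)) :=
    { gen := fun j i => isGeneralized_FIndL (cv.gφ j i)
      at_one := fun j i => FIndL_at_one H hM (cv.vφ j i).supp
      gram := fun j i j' i' => by rw [inner_FIndL H hM (cv.vφ j i) (cv.vφ j' i'), cv.gram] }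
  have P₀ : Pat (fun j i => FIndL M l π (φ j i)) 0 1 (FIndL M l π v₀) :=
    { gen := isGeneralized_FIndL cv.gv₀
      norm := by rw [inner_FIndL H hM cv.vv₀ cv.vv₀, cv.n₀]
      inner := fun j i => by rw [inner_FIndL H hM cv.vv₀ (cv.vφ j i), cv.p₀] }
  have P₁ : Pat (fun j i => FIndL M l π (φ j i)) 2 3 (FIndL M l π v₁) :=
    { gen := isGeneralized_FIndL cv.gv₁
      norm := by rw [inner_FIndL H hM cv.vv₁ cv.vv₁, cv.n₁]
      inner := fun j i => by rw [inner_FIndL H hM cv.vv₁ (cv.vφ j i), cv.p₁] }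
  have R₁ : Pat (fun j i => FIndL M l π (φ j i)) 0 2 (FIndL M l π f₁) :=
    { gen := g₁
      norm := by rw [inner_FIndL H hM cv.vf₁ cv.vf₁, cv.m₁]
      inner := fun j i => by rw [inner_FIndL H hM cv.vf₁ (cv.vφ j i), cv.r₁] }
  have R₂ : Pat (fun j i => FIndL M l π (φ j i)) 0 3 (FIndL M l π f₂) :=
    { gen := g₂
      norm := by rw [inner_FIndL H hM cv.vf₂ cv.vf₂, cv.m₂]
      inner := fun j i => by rw [inner_FIndL H hM cv.vf₂ (cv.vφ j i), cv.r₂] }
  obtain ⟨a, x, x₃, y₁, w₁, y₂, w₂, y₃, w₃, L, w, O⟩ := WrFGram.main hFam P₀ P₁ R₁ R₂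
    (by rw [inner_FIndL H hM cv.vv₀ cv.vf₁, cv.i₁])
    (by rw [inner_FIndL H hM cv.vv₀ cv.vf₂, cv.i₂])
    (by rw [inner_FIndL H hM cv.vv₀ cv.vv₁, cv.i₃])
    (by rw [inner_FIndL H hM cv.vf₁ cv.vv₁, cv.i₄])
    (by rw [inner_FIndL H hM cv.vf₂ cv.vv₁, cv.i₅])
  have O1 : FIndL M l π (φ 0 0) = a - x + L := O.Φ0
  have O2 : FIndL M l π (φ 1 0) = y₁ - w₁ + L := O.Φ1
  have O3 : FIndL M l π (φ 2 0) = y₂ - w₂ + L := O.Φ2
  have O4 : FIndL M l π (φ 3 0) = y₃ - w₃ + L := O.Φ3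
  have O5 := O.eqΨ₀
  have O6 := O.eqA₁
  have O7 := O.eqA₂
  have O8 := O.eqΨ₁
  have O9 : classInner (FIndL M l π (φ 0 0)) a = 1 := O.inner_a
  -- degrees
  obtain ⟨α, hα0, hα⟩ := signed_degree O.sa
  obtain ⟨dx, hx0, hx⟩ := signed_degree O.sx
  obtain ⟨β, hβ0, hβ⟩ := signed_degree O.sx₃
  obtain ⟨dy₁, hy₁0, hy₁⟩ := signed_degree O.sy₁
  obtain ⟨dw₁, hw₁0, hw₁⟩ := signed_degree O.sv₁
  obtain ⟨dy₂, hy₂0, hy₂⟩ := signed_degree O.sy₂
  obtain ⟨dw₂, hw₂0, hw₂⟩ := signed_degree O.sv₂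
  obtain ⟨dy₃, hy₃0, hy₃⟩ := signed_degree O.sy₃
  obtain ⟨dw₃, hw₃0, hw₃⟩ := signed_degree O.sv₃
  obtain ⟨δ, hδ0, hδ⟩ := signed_degree O.sL
  obtain ⟨dw, hw0, hw⟩ := signed_degree O.sw
  have z1 : ∀ {f : C → ℂ}, Vec M z f → FIndL M l π f 1 = 0 := fun hf => FIndL_at_one H hM hf.supp
  have E1 := congrFun O1 1
  have E2 := congrFun O2 1
  have E3 := congrFun O3 1
  have E4 := congrFun O4 1
  have E5 := congrFun O5 1
  have E6 := congrFun O6 1
  have E7 := congrFun O7 1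
  have E8 := congrFun O8 1
  rw [z1 (cv.vφ _ _)] at E1 E2 E3 E4
  rw [z1 cv.vv₀] at E5
  rw [z1 cv.vf₁] at E6
  rw [z1 cv.vf₂] at E7
  rw [z1 cv.vv₁] at E8
  simp only [Pi.add_apply, Pi.sub_apply, hα, hx, hβ, hy₁, hw₁, hy₂, hw₂, hy₃, hw₃, hδ, hw]
    at E1 E2 E3 E4 E5 E6 E7 E8
  have D1 : dx = α + δ := by
    have : (dx : ℂ) = α + δ := by linear_combination E1
    exact_mod_cast this
  have D5 : dy₁ = α + β := by
    have : (dy₁ : ℂ) = α + β := by linear_combination E5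
    exact_mod_cast this
  have D6 : dy₂ = α + β := by
    have : (dy₂ : ℂ) = α + β := by linear_combination E6
    exact_mod_cast this
  have D7 : dy₃ = α + β := by
    have : (dy₃ : ℂ) = α + β := by linear_combination E7
    exact_mod_cast this
  have D2 : dw₁ = α + β + δ := by
    have : (dw₁ : ℂ) = dy₁ + δ := by linear_combination E2
    have : dw₁ = dy₁ + δ := by exact_mod_cast this
    rw [this, D5]
  have D3 : dw₂ = α + β + δ := by
    have : (dw₂ : ℂ) = dy₂ + δ := by linear_combination E3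
    have : dw₂ = dy₂ + δ := by exact_mod_cast this
    rw [this, D6]
  have D4 : dw₃ = α + β + δ := by
    have : (dw₃ : ℂ) = dy₃ + δ := by linear_combination E4
    have : dw₃ = dy₃ + δ := by exact_mod_cast this
    rw [this, D7]
  have D8 : dw = 2 * (α + β) + δ := by
    have : (dw : ℂ) = dy₂ + dw₃ := by linear_combination E8
    have : dw = dy₂ + dw₃ := by exact_mod_cast this
    rw [this, D6, D4]; ring
  -- values at `t`
  have ht2 : t ^ 2 = 1 := by rw [sq]; exact H.t_mul_t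
  obtain ⟨A, hA⟩ := signed_invol O.sa ht2
  obtain ⟨B, hB⟩ := signed_invol O.sx₃ ht2
  obtain ⟨ℓ, hℓ⟩ := signed_invol O.sL ht2
  obtain ⟨m, hm⟩ : ∃ m : ℤ, m = ℓ - 2 * (1 - ε * q) := ⟨_, rfl⟩
  have hLt : L t = m + 2 * (1 - ((ε * q : ℤ) : ℂ)) := by
    rw [hℓ, hm]; push_cast; ring
  have T1 := congrFun O1 t
  have T2 := congrFun O2 t
  have T3 := congrFun O3 t
  have T4 := congrFun O4 t
  have T5 := congrFun O5 t
  have T6 := congrFun O6 t
  have T7 := congrFun O7 t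
  have T8 := congrFun O8 t
  rw [FIndL_t H hM (cv.vφ _ _), cv.φz] at T1 T2 T3 T4
  rw [FIndL_t H hM cv.vv₀, cv.v₀z] at T5
  rw [FIndL_t H hM cv.vf₁, cv.f₁z] at T6
  rw [FIndL_t H hM cv.vf₂, cv.f₂z] at T7
  rw [FIndL_t H hM cv.vv₁, cv.v₁z] at T8
  simp only [Pi.add_apply, Pi.sub_apply, hLt, hA, hB] at T1 T2 T3 T4 T5 T6 T7 T8
  have V1 : x t = A + m := by push_cast at T1; linear_combination T1
  have V5 : y₁ t = A + B := by linear_combination T5
  have V6 : y₂ t = A + B - 2 * (1 + ((ε * q : ℤ) : ℂ)) := by push_cast; linear_combination T6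
  have V7 : y₃ t = A + B - 2 * (1 + ((ε * q : ℤ) : ℂ)) := by push_cast; linear_combination T7
  have V2 : w₁ t = A + B + m := by push_cast at T2; rw [V5] at T2; linear_combination T2
  have V3 : w₂ t = A + B - 2 * (1 + ((ε * q : ℤ) : ℂ)) + m := by
    rw [V6] at T3; push_cast at T3 ⊢; linear_combination T3
  have V4 : w₃ t = A + B - 2 * (1 + ((ε * q : ℤ) : ℂ)) + m := by
    rw [V7] at T4; push_cast at T4 ⊢; linear_combination T4
  have V8 : w t = 2 * (A + B - 2 * (1 + ((ε * q : ℤ) : ℂ))) + m := by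
    rw [V6, V4] at T8; linear_combination T8
  -- the class formulas
  have hkap : (kapN π u : ℂ) ≠ 0 := by
    have := (kapN_odd H hC).pos
    exact_mod_cast this.ne'
  have hkap2 := pow_ne_zero 2 hkap
  have hidx' : ((Subgroup.centralizer ({t} : Set G)).index : ℂ) =
      (kapN π u : ℂ) ^ 2 * ((((ε * q : ℤ) : ℂ)) ^ 2 * (((ε * q : ℤ) : ℂ) ^ 2 + ((ε * q : ℤ) : ℂ) + 1)) := by
    exact_mod_cast hidx
  have key : ∀ {X R : ℂ}, ((Subgroup.centralizer ({t} : Set G)).index : ℂ) * X =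
      (kapN π u : ℂ) ^ 2 * R →
      ((((ε * q : ℤ) : ℂ)) ^ 2 * (((ε * q : ℤ) : ℂ) ^ 2 + ((ε * q : ℤ) : ℂ) + 1)) * X = R := by
    intro X R h1
    rw [hidx'] at h1
    apply mul_left_cancel₀ hkap2
    linear_combination h1
  have F1 := key (class_three H hM hC (cv.vφ 0 0) (c₁ := 1) (c₂ := -1) (c₃ := 1) O.sa O.sx O.sL
    (by rw [O1]; module))
  have F2 := key (class_three H hM hC (cv.vφ 1 0) (c₁ := 1) (c₂ := -1) (c₃ := 1) O.sy₁ O.sv₁ O.sL
    (by rw [O2]; module))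
  have F3 := key (class_three H hM hC (cv.vφ 2 0) (c₁ := 1) (c₂ := -1) (c₃ := 1) O.sy₂ O.sv₂ O.sL
    (by rw [O3]; module))
  have F4 := key (class_three H hM hC cv.vv₀ (c₁ := 1) (c₂ := 1) (c₃ := -1) O.sa O.sx₃ O.sy₁
    (by rw [O5]; module))
  have F5 := key (class_three H hM hC cv.vf₁ (c₁ := 1) (c₂ := 1) (c₃ := -1) O.sa O.sx₃ O.sy₂
    (by rw [O6]; module))
  have F6 := key (class_three H hM hC cv.vv₁ (c₁ := 1) (c₂ := 1) (c₃ := -1) O.sy₂ O.sv₃ O.sw
    (by rw [O8]; module))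
  rw [cv.sφ, hA, hα, V1, hx, hLt, hδ, D1] at F1
  rw [cv.sφ, V5, hy₁, V2, hw₁, hLt, hδ, D5, D2] at F2
  rw [cv.sφ, V6, hy₂, V3, hw₂, hLt, hδ, D6, D3] at F3
  rw [cv.sv₀, hA, hα, hB, hβ, V5, hy₁, D5] at F4
  rw [cv.sf₁, hA, hα, hB, hβ, V6, hy₂, D6] at F5
  rw [cv.sv₁, V6, hy₂, V4, hw₃, V8, hw, D6, D4, D8] at F6
  have hα1 : α = 1 := by
    have hε := hC.eps
    refine WrFNum.main (Q := ε * q) (α := α) (β := β) (δ := δ) (A := A) (B := B) (m := m) ?_ ?_
      hα0 hβ0 hδ0 (by rw [← D1]; exact hx0) (by rw [← D5]; exact hy₁0)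
      (by rw [← D2]; exact hw₁0) (by rw [← D8]; exact hw0) ?_ ?_ ?_ ?_ ?_ ?_
    · rcases hε with rfl | rfl <;> omega
    · rcases hε with rfl | rfl
      · rw [one_mul, Nat.abs_cast]; exact_mod_cast hq
      · rw [neg_one_mul, abs_neg, Nat.abs_cast]; exact_mod_cast hq
    · push_cast at F1 ⊢
      linear_combination F1
    · push_cast at F2 ⊢
      linear_combination F2
    · push_cast at F3 ⊢
      linear_combination F3
    · push_cast at F4 ⊢
      linear_combination F4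
    · push_cast at F5 ⊢
      linear_combination F5
    · push_cast at F6 ⊢
      linear_combination F6
  have ha1 : a = 1 := hlin a O.sa (by rw [hα, hα1]; norm_num)
  rw [ha1, FIndL_one H hM hl (cv.vφ 0 0).supp] at O9
  exact zero_ne_one O9

end Main

end Cfsg.Agent.Classification.QDW.WrFKill
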