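import Mathlib
import Cfsg.Agent.Classification.QDW.WrFKill
import Cfsg.Agent.Classification.QDW.WrFVec
import Cfsg.Agent.Classification.QDW.WrFIntMain
import Cfsg.Agent.Classification.InvCent.SDEnd

/-!
# The wreathed case: the `L1`-lemma

`G` finite with one class of involutions, `FHyp t z N S π`, `C` a group of type `GL₂(q)/Z₀` or
`GU₂(q)/Z₀` with `4 ∣ r`, `l` a linear character of `C(t) / N` which is constant on the sets
`C(t) ∩ x^G`. If all linear characters of `G` are trivial, then `l = 1`.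

* `cvec`: the vectors on `C`;
* `false_of_twist`, `eq_one_of_fusion`.
-/

set_option autoImplicit false
set_option linter.unusedSectionVars false

open Cfsg
open scoped ComplexConjugate

namespace Cfsg.Agent.Classification.QDW.WrFMain

open Cfsg.Agent.Characters Cfsg.Agent.Classification.InvCent
  Cfsg.Agent.Classification.InvCent.WrFun Cfsg.Agent.Classification.InvCent.WrPsi
  Cfsg.Agent.Classification.InvCent.WrVec
  Cfsg.Agent.Classification.BGOrder Cfsg.Agent.Classification.BGSplit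
  Cfsg.Agent.Classification.BGBlockB0 Cfsg.Agent.Classification.QDW.Fld
  Cfsg.Agent.Classification.QDW.FldWrVal Cfsg.Agent.Classification.QDW.WrFVec
  Cfsg.Agent.Classification.QDW.WrFKill
open Cfsg.Agent.Classification.InvCent.WrVal (Phi_supp')

universe v w

section Vectors

variable {C : Type v} [Group C] [Fintype C] {z : C} {q : ℕ} {ε : ℤ} {Z T T' U : Subgroup C}
  {s s' u : C} {r : ℕ} {b : C →* ℂˣ} {hC : CHyp z q ε Z T T' U s s' u} {μ : U →* ℂˣ}
  {ξ : T →* ℂˣ} {θ : T' →* ℂˣ} {M : Ideal AlgInt}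

/-- The indices `0, r/2, 1, r/2 + 1`. -/
def idx (r : ℕ) : Fin 4 → ℕ := ![0, r / 2, 1, r / 2 + 1]

theorem idx_lt (hD : DetHyp q ε T T' U s s' u r b) (hr : 4 ∣ r) (j : Fin 4) : idx r j < r := by
  have h0 := two_r hD
  obtain ⟨c, rfl⟩ := hr
  fin_cases j <;> simp [idx] <;> omega

theorem idx_inj (hD : DetHyp q ε T T' U s s' u r b) (hr : 4 ∣ r) (j k : Fin 4) :
    idx r j = idx r k ↔ j = k := by
  have h0 := two_r hD
  obtain ⟨c, rfl⟩ := hr
  constructor
  · intro h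
    fin_cases j <;> fin_cases k <;> simp [idx] at h ⊢ <;> omega
  · rintro rfl; rfl

theorem cvec (hM : IsPModular 2 M) (hC : CHyp z q ε Z T T' U s s' u)
    (hD : DetHyp q ε T T' U s s' u r b) (hr : 4 ∣ r) (hξ : XiHyp hC r b ξ)
    (hθ : ThetaHyp hC r b θ) (hμ : ∃ v : U, μ v ≠ 1) :
    CVec M z q ε (fun j i => Phi hC μ θ (idx r j) i) (vv hC μ ξ b r 0) (vv hC μ ξ b r 1)
      (ff hC μ ξ b r 1) (ff hC μ ξ b r (r / 2 + 1)) := by
  have h0 := two_r hD
  have hee : (ε : ℂ) * ε = 1 := by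
    rcases hC.eps with h1 | h1 <;> rw [h1] <;> norm_num
  have hi : ∀ i : Fin 2, (i : ℕ) < r / 2 := fun i => by
    obtain ⟨c, rfl⟩ := hr
    have := i.2
    omega
  have h1h : 1 < r / 2 := by obtain ⟨c, rfl⟩ := hr; omega
  have h0h : 0 < r / 2 := by omega
  have h1r : 1 < r := by omega
  have hmr : r / 2 + 1 < r := by obtain ⟨c, rfl⟩ := hr; omega
  have hmo : Odd (r / 2 + 1) := by
    obtain ⟨c, rfl⟩ := hr
    exact ⟨c, by omega⟩
  have e0 : ∀ j : Fin 4, idx r j = 0 ↔ j = 0 := fun j => idx_inj hD hr j 0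
  have e1 : ∀ j : Fin 4, idx r j = r / 2 ↔ j = 1 := fun j => idx_inj hD hr j 1
  have e2 : ∀ j : Fin 4, idx r j = 1 ↔ j = 2 := fun j => idx_inj hD hr j 2
  have e3 : ∀ j : Fin 4, idx r j = r / 2 + 1 ↔ j = 3 := fun j => idx_inj hD hr j 3
  have f0 := inner_ff_vv_zero hD hr hξ hθ hμ h1r odd_one
  have f1 := inner_ff_vv_zero hD hr hξ hθ hμ hmr hmo
  have f2 := inner_ff_vv_one hD hr hξ hθ hμ h1r odd_one
  have f3 := inner_ff_vv_one hD hr hξ hθ hμ hmr hmo
  exact
    { vφ := fun j i => ⟨prin_Phi hD hθ hμ hM _ _, fun c hc => Phi_supp' hD hθ hμ _ _ hc⟩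
      gφ := fun j i => isGeneralized_Phi _ _
      vv₀ := ⟨prin_vv hD hr hξ hθ hμ hM 0, fun c hc => vv_supp hD hr hξ hθ hμ 0 hc⟩
      gv₀ := isGeneralized_vv 0
      vv₁ := ⟨prin_vv hD hr hξ hθ hμ hM 1, fun c hc => vv_supp hD hr hξ hθ hμ 1 hc⟩
      gv₁ := isGeneralized_vv 1
      vf₁ := ⟨prin_ff hM hD hξ hθ hμ 1, fun c hc => ff_supp hc⟩
      vf₂ := ⟨prin_ff hM hD hξ hθ hμ _, fun c hc => ff_supp hc⟩
      gram := fun j i j' i' => by
        rw [inner_Phi hD hr hθ hμ (idx_lt hD hr j) (hi i) (idx_lt hD hr j') (hi i')]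
        simp only [idx_inj hD hr, Fin.ext_iff]
      n₀ := by rw [inner_vv hD hr hξ hθ hμ h0h h0h, if_pos rfl]
      n₁ := by rw [inner_vv hD hr hξ hθ hμ h1h h1h, if_pos rfl]
      m₁ := inner_ff hD hr hξ hθ hμ h1r odd_one
      m₂ := inner_ff hD hr hξ hθ hμ hmr hmo
      p₀ := fun j i => by
        rw [inner_vv_Phi hD hr hξ hθ hμ h0h (idx_lt hD hr j), zero_add]
        simp only [e0, e1]
      p₁ := fun j i => by
        rw [inner_vv_Phi hD hr hξ hθ hμ h1h (idx_lt hD hr j), add_comm 1 (r / 2)]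
        simp only [e2, e3]
      r₁ := fun j i => by
        rw [inner_ff_Phi hD hr hξ hθ hμ h1r (idx_lt hD hr j)]
        simp only [e0, e2]
      r₂ := fun j i => by
        rw [inner_ff_Phi hD hr hξ hθ hμ hmr (idx_lt hD hr j)]
        simp only [e0, e3]
      i₁ := by rw [← Core.classInner_conj_symm, f0]; exact map_ofNat _ 2
      i₂ := by rw [← Core.classInner_conj_symm, f1]; exact map_ofNat _ 2
      i₃ := by rw [inner_vv hD hr hξ hθ hμ h0h h1h, if_neg zero_ne_one]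
      i₄ := by rw [f2, if_pos rfl]
      i₅ := by rw [f3, if_neg (by omega), neg_zero]
      φz := fun j i => Phi_z hθ _ _
      v₀z := vv_z hD hr hξ hθ hμ 0
      v₁z := vv_z hD hr hξ hθ hμ 1
      f₁z := ff_z hD hr hξ hθ hμ h1r odd_one
      f₂z := ff_z hD hr hξ hθ hμ hmr hmo
      sφ := fun j i => by
        rw [pairSum_Phi hD hθ hμ]
        linear_combination (-(q : ℂ) ^ 2 * ((ε : ℂ) ^ 2 * q ^ 2 - 1) - q ^ 2 * q ^ 2 - ε * q ^ 3) * hee
      sv₀ := by
        rw [pairSum_vv' hD hr hξ hθ hμ (Nat.zero_le r)]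
        linear_combination (-(q : ℂ) ^ 2 * ((ε : ℂ) ^ 2 * q ^ 2 - 1) - q ^ 2 * q ^ 2 + ε * q ^ 3) * hee
      sv₁ := by
        rw [pairSum_vv' hD hr hξ hθ hμ h1r.le]
        linear_combination (-(q : ℂ) ^ 2 * ((ε : ℂ) ^ 2 * q ^ 2 - 1) - q ^ 2 * q ^ 2 + ε * q ^ 3) * hee
      sf₁ := by
        rw [pairSum_ff hD hr hξ hθ hμ h1r odd_one]
        linear_combination (-(q : ℂ) ^ 4 * ((ε : ℂ) * ε + 1) + q * ε - 3 * q ^ 3 * ε) * hee }

end Vectors

section Main

variable {G : Type w} [Group G] [Fintype G] {C : Type v} [Group C] [Fintype C] {t : G} {z : C}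
  {N S : Subgroup (Subgroup.centralizer ({t} : Set G))} {π : N →* C}
  {q : ℕ} {ε : ℤ} {Z T T' U : Subgroup C}
  {s s' u : C} {r : ℕ} {b : C →* ℂˣ} [N.Normal]
  {l : Subgroup.centralizer ({t} : Set G) ⧸ N →* ℂ}

/-- **The `L1`-lemma, wreathed case.** -/
theorem false_of_twist (H : FHyp t z N S π) (hC : CHyp z q ε Z T T' U s s' u)
    (hD : DetHyp q ε T T' U s s' u r b) (hr : 4 ∣ r) (hq : 3 ≤ q)
    (hlin : ∀ X : G → ℂ, SignedIrr X → X 1 = 1 → X = 1)
    (hfus : ∀ x y : Subgroup.centralizer ({t} : Set G), IsConj (x : G) (y : G) →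
      lamFun N l x = lamFun N l y) (hl : l ≠ 1) : False := by
  obtain ⟨M, hM⟩ := Blocks.ExistsModular.exists_isPModular Nat.prime_two
  obtain ⟨μ, hμ⟩ := hC.base.exists_mu
  obtain ⟨θ, hθ⟩ := exists_thetaHyp hC hD hr
  obtain ⟨ξ, hξ, hgen⟩ := WrFIntMain.isGeneralized_FIndL_ff H hM hC hD hr hθ hμ hfus
  have h4 : (4 : ℤ) ∣ q - ε := by
    obtain ⟨k, -, hk⟩ := hD.r_dvd
    rw [hk]
    exact Dvd.dvd.mul_right (by exact_mod_cast hr) k
  have h0 := two_r hD
  exact kill H hM hC h4 hq (FldWr.index_eq H hC hD hr hq) hlin hl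
    (cvec hM hC hD hr hξ hθ hμ) (hgen 1 (by omega)) (hgen _ (by omega))

/-- **The `L1`-lemma, wreathed case, simple groups.** -/
theorem eq_one_of_fusion [IsSimpleGroup G] (hnc : ∃ x y : G, x * y ≠ y * x)
    (H : FHyp t z N S π) (hC : CHyp z q ε Z T T' U s s' u)
    (hD : DetHyp q ε T T' U s s' u r b) (hr : 4 ∣ r) (hq : 3 ≤ q)
    (l : Subgroup.centralizer ({t} : Set G) ⧸ N →* ℂ)
    (hfus : ∀ x y : Subgroup.centralizer ({t} : Set G), IsConj (x : G) (y : G) →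
      lamFun N l x = lamFun N l y) : l = 1 := by
  by_contra hl
  exact false_of_twist H hC hD hr hq (fun X hX h1 => InvCent.SDEnd.eq_one_of_degree hnc hX h1)
    hfus hl

end Main

end Cfsg.Agent.Classification.QDW.WrFMain
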