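import Cfsg.Agent.Classification.InvCent.PairCount
import Cfsg.Agent.Classification.InvCent.InstGL
import Cfsg.Agent.Classification.RTwo.General
import Cfsg.Agent.Classification.RTwo.SDChar
import Cfsg.Prelude.Def_Involutions

/-!
# The core of `C(t)` central: `C_G(V)` is abelian and the core is a direct factor of `C(t)`

`G` finite simple without strongly embedded subgroup, one class of involutions, `π : C(t) → Q` onto
a group of type `GL₂(q)/Z`, `GU₂(q)/Z` (`CHyp`) with `Z(Q)` a 2-group, `ker π` odd and central.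

* `exists_retraction` : `C(t) →* ker π` is a retraction;
* `exists_injective` : `ker π` embeds in the torus `T` of `Q`.
-/

set_option autoImplicit false
set_option linter.unusedSectionVars false

namespace Cfsg.Agent.Classification.QDW.EndLocal

open Cfsg Cfsg.Agent.Classification.RTwo.General Cfsg.Agent.Classification.InvCent

universe v w

variable {G : Type v} {Q : Type w} [Group G] [Group Q] {t : G} {z : Q}
  {π : (Subgroup.centralizer ({t} : Set G)) →* Q} {q : ℕ} {ε : ℤ} {Z T T' U : Subgroup Q}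
  {s s' u : Q}

/-- Involutions of `C(t)` are determined by their image. -/
theorem eq_of_map_eq (h : Hyp t z π)
    (hKc : ∀ k, π k = 1 → ∀ c : Subgroup.centralizer ({t} : Set G), c * k = k * c)
    {x y : Subgroup.centralizer ({t} : Set G)} (hx : x * x = 1) (hy : y * y = 1)
    (hxy : π x = π y) : x = y := by
  have h1 : π (x * y⁻¹) = 1 := by rw [map_mul, map_inv, hxy, mul_inv_cancel]
  have h2 := hKc _ h1 y
  have hc : Commute x y := by
    have h3 : y * (x * y⁻¹) * y = x * y⁻¹ * y * y := by rw [h2]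
    have h4 : y * x = x * y := by simpa [mul_assoc] using h3
    exact h4.symm
  have h3 : x * y⁻¹ = 1 := by
    refine eq_one_of_ker h h1 (m := 1) ?_
    rw [pow_one, hc.inv_right.mul_pow, inv_pow, sq, sq, hx, hy, inv_one, one_mul]
  exact mul_inv_eq_one.1 h3

/-- Involutions lift to involutions. -/
theorem exists_lift (h : Hyp t z π) {c : Q} (hc : c * c = 1) :
    ∃ x : Subgroup.centralizer ({t} : Set G), x * x = 1 ∧ π x = c := by
  obtain ⟨x₀, hx₀⟩ := h.surj c
  have h1 : π (x₀ * x₀) = 1 := by rw [map_mul, hx₀, hc]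
  refine ⟨x₀ ^ Nat.card π.ker, ?_, ?_⟩
  · rw [← (Commute.refl x₀).mul_pow]
    exact congrArg Subtype.val (pow_card_eq_one' (x := (⟨x₀ * x₀, h1⟩ : π.ker)))
  · rw [map_pow, hx₀]
    exact Cfsg.Agent.Classification.InvCent.InstGL.pow_odd_of_sq hc h.odd_ker

/-- The common context: `x` an involution of `C(t)` over `u`, `w` swaps `t` and `x`. -/
structure Ctx (t : G) (z : Q) (π : (Subgroup.centralizer ({t} : Set G)) →* Q) (q : ℕ) (ε : ℤ)
    (Z T T' U : Subgroup Q) (s s' u : Q) (x : Subgroup.centralizer ({t} : Set G)) (w : G) :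
    Prop where
  hyp : Hyp t z π
  chyp : CHyp z q ε Z T T' U s s' u
  central : ∀ k, π k = 1 → ∀ c : Subgroup.centralizer ({t} : Set G), c * k = k * c
  sq_x : x * x = 1
  map_x : π x = u
  conj_t : w * t * w⁻¹ = x
  conj_x : w * x * w⁻¹ = t

theorem exists_ctx [Finite G] (h : Hyp t z π) (hC : CHyp z q ε Z T T' U s s' u)
    (hKc : ∀ k, π k = 1 → ∀ c : Subgroup.centralizer ({t} : Set G), c * k = k * c) :
    ∃ (x : Subgroup.centralizer ({t} : Set G)) (w : G), Ctx t z π q ε Z T T' U s s' u x w := by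
  have : Finite Q := Finite.of_surjective π h.surj
  have := Fintype.ofFinite Q
  obtain ⟨x, hx, hxu⟩ := exists_lift h hC.uu
  have hx1 : x ≠ 1 := by
    rintro rfl
    have := hC.orderOf_u
    rw [← hxu, map_one, orderOf_one] at this
    norm_num at this
  have hxG : orderOf (x : G) = 2 := by
    rw [Subgroup.orderOf_coe]
    exact orderOf_of_mul_self hx hx1
  obtain ⟨g, hg⟩ := isConj_iff.1 (h.one_class _ hxG)
  have hxt : (x : G) * t = t * x := Subgroup.mem_centralizer_singleton_iff.1 x.2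
  -- `t' = g⁻¹ t g`
  have ht' : g⁻¹ * t * g ∈ Subgroup.centralizer ({t} : Set G) := by
    rw [Subgroup.mem_centralizer_singleton_iff]
    have h1 : t = g⁻¹ * (x : G) * g := by rw [← hg]; group
    calc g⁻¹ * t * g * t = g⁻¹ * t * g * (g⁻¹ * (x : G) * g) := by rw [← h1]
      _ = g⁻¹ * (t * x) * g := by group
      _ = g⁻¹ * (x * t) * g := by rw [hxt]
      _ = (g⁻¹ * (x : G) * g) * (g⁻¹ * t * g) := by group
      _ = t * (g⁻¹ * t * g) := by rw [← h1]
  let t' : Subgroup.centralizer ({t} : Set G) := ⟨g⁻¹ * t * g, ht'⟩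
  have ht'2 : t' * t' = 1 := by
    apply Subtype.ext
    change g⁻¹ * t * g * (g⁻¹ * t * g) = 1
    calc g⁻¹ * t * g * (g⁻¹ * t * g) = g⁻¹ * (t * t) * g := by group
      _ = 1 := by rw [t_mul_t h]; group
  have ht'1 : t' ≠ 1 := by
    intro h1
    have h2 : g⁻¹ * t * g = 1 := congrArg Subtype.val h1
    apply t_ne_one h
    have : t = g * (g⁻¹ * t * g) * g⁻¹ := by group
    rw [this, h2]; group
  have ht't : t' ≠ tt t := by
    intro h1
    have h2 : g⁻¹ * t * g = t := congrArg Subtype.val h1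
    have h3 : (x : G) = t := by
      rw [← hg]
      have : g * (g⁻¹ * t * g) * g⁻¹ = g * t * g⁻¹ := by rw [h2]
      rw [← this]; group
    have h4 : x = tt t := Subtype.ext h3
    have h5 := hC.u_notMem_Z
    rw [← hxu, h4, map_tt h] at h5
    exact h5 hC.t_mem
  have hπt' : π t' ∈ nInv z := by
    rw [mem_nInv]
    refine ⟨orderOf_of_mul_self (by rw [← map_mul, ht'2, map_one]) fun h1 => ?_, fun h1 => ?_⟩
    · exact ht'1 (eq_one_of_ker h h1 (m := 1) (by rw [pow_one, sq, ht'2]))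
    · exact ht't (eq_of_map_eq h hKc ht'2 (tt_mul_tt h) (h1.trans (map_tt h).symm))
  obtain ⟨d, hd⟩ := hC.nInv_isConj hπt'
  obtain ⟨D, hD⟩ := h.surj d
  obtain ⟨E, hEt, hE⟩ : ∃ E : Subgroup.centralizer ({t} : Set G), (E : G) * t = t * E ∧
      E * x * E⁻¹ = t' := by
    refine ⟨D⁻¹, Subgroup.mem_centralizer_singleton_iff.1 (D⁻¹).2, ?_⟩
    rw [inv_inv]
    refine eq_of_map_eq h hKc ?_ ht'2 ?_
    · calc D⁻¹ * x * D * (D⁻¹ * x * D) = D⁻¹ * (x * x) * D := by group
        _ = 1 := by rw [hx]; group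
    · rw [map_mul, map_mul, map_inv, hD, hxu, ← hd]
  have hEG : (E : G) * x * (E : G)⁻¹ = g⁻¹ * t * g := congrArg Subtype.val hE
  refine ⟨x, g * E, h, hC, hKc, hx, hxu, ?_, ?_⟩
  · calc g * E * t * (g * E)⁻¹ = g * (E * t) * (E : G)⁻¹ * g⁻¹ := by group
      _ = g * (t * E) * (E : G)⁻¹ * g⁻¹ := by rw [hEt]
      _ = g * t * g⁻¹ := by group
      _ = x := hg
  · calc g * E * x * (g * E)⁻¹ = g * ((E : G) * x * (E : G)⁻¹) * g⁻¹ := by group
      _ = g * (g⁻¹ * t * g) * g⁻¹ := by rw [hEG]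
      _ = t := by group

namespace Ctx

variable {x : Subgroup.centralizer ({t} : Set G)} {w : G}

theorem x_comm (_ : Ctx t z π q ε Z T T' U s s' u x w) : (x : G) * t = t * x :=
  Subgroup.mem_centralizer_singleton_iff.1 x.2

/-- `C_G(V)` -/
def CV (t : G) (x : Subgroup.centralizer ({t} : Set G)) : Subgroup G :=
  Subgroup.centralizer ({t} : Set G) ⊓ Subgroup.centralizer ({(x : G)} : Set G)

theorem mem_CV {g : G} : g ∈ CV t x ↔ g * t = t * g ∧ g * x = x * g := by
  rw [CV, Subgroup.mem_inf, Subgroup.mem_centralizer_singleton_iff,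
    Subgroup.mem_centralizer_singleton_iff]

theorem conj_mem_CV (c : Ctx t z π q ε Z T T' U s s' u x w) {g : G} (hg : g ∈ CV t x) :
    w * g * w⁻¹ ∈ CV t x := by
  rw [mem_CV] at hg ⊢
  constructor
  · calc w * g * w⁻¹ * t = w * g * w⁻¹ * (w * x * w⁻¹) := by rw [c.conj_x]
      _ = w * (g * x) * w⁻¹ := by group
      _ = w * (x * g) * w⁻¹ := by rw [hg.2]
      _ = (w * x * w⁻¹) * (w * g * w⁻¹) := by group
      _ = t * (w * g * w⁻¹) := by rw [c.conj_x]
  · calc w * g * w⁻¹ * x = w * g * w⁻¹ * (w * t * w⁻¹) := by rw [c.conj_t]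
      _ = w * (g * t) * w⁻¹ := by group
      _ = w * (t * g) * w⁻¹ := by rw [hg.1]
      _ = (w * t * w⁻¹) * (w * g * w⁻¹) := by group
      _ = x * (w * g * w⁻¹) := by rw [c.conj_t]

/-- the core of `C(t)` as a subgroup of `G` -/
def Kt (π : (Subgroup.centralizer ({t} : Set G)) →* Q) : Subgroup G :=
  π.ker.map (Subgroup.centralizer ({t} : Set G)).subtype

theorem mem_Kt {g : G} : g ∈ Kt π ↔ ∃ hg : g ∈ Subgroup.centralizer ({t} : Set G), π ⟨g, hg⟩ = 1 := by
  constructor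
  · rintro ⟨k, hk, rfl⟩
    exact ⟨k.2, hk⟩
  · rintro ⟨hg, h1⟩
    exact ⟨⟨g, hg⟩, h1, rfl⟩

theorem Kt_comm (c : Ctx t z π q ε Z T T' U s s' u x w) {k g : G} (hk : k ∈ Kt π)
    (hg : g * t = t * g) : g * k = k * g := by
  obtain ⟨hk1, hk2⟩ := mem_Kt.1 hk
  have := c.central _ hk2 ⟨g, Subgroup.mem_centralizer_singleton_iff.2 hg⟩
  exact congrArg Subtype.val this

theorem Kt_le_CV (c : Ctx t z π q ε Z T T' U s s' u x w) : Kt π ≤ CV t x := by
  intro k hk
  rw [mem_CV]
  obtain ⟨hk1, -⟩ := mem_Kt.1 hk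
  exact ⟨Subgroup.mem_centralizer_singleton_iff.1 hk1, (c.Kt_comm hk c.x_comm).symm⟩

/-- `K_t ⊓ K_u` -/
def DD (π : (Subgroup.centralizer ({t} : Set G)) →* Q) (w : G) : Subgroup G :=
  Kt π ⊓ (Kt π).comap (MulAut.conj w).toMonoidHom

theorem mem_DD {g : G} : g ∈ DD π w ↔ g ∈ Kt π ∧ w * g * w⁻¹ ∈ Kt π := Iff.rfl

theorem w_sq (c : Ctx t z π q ε Z T T' U s s' u x w) : w * w * t = t * (w * w) := by
  have h1 : w * t = x * w := by
    have := c.conj_t
    rw [← this]; group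
  have h2 : w * x = t * w := by
    have := c.conj_x
    nth_rw 2 [← this]; group
  calc w * w * t = w * (w * t) := by group
    _ = w * x * w := by rw [h1]; group
    _ = t * (w * w) := by rw [h2]; group

theorem conj_mem_DD (c : Ctx t z π q ε Z T T' U s s' u x w) {g : G} (hg : g ∈ DD π w) :
    w * g * w⁻¹ ∈ DD π w := by
  rw [mem_DD] at hg ⊢
  refine ⟨hg.2, ?_⟩
  have h1 := c.Kt_comm hg.1 c.w_sq
  have h2 : w * (w * g * w⁻¹) * w⁻¹ = g := by
    calc w * (w * g * w⁻¹) * w⁻¹ = (w * w * g) * (w * w)⁻¹ := by group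
      _ = g * (w * w) * (w * w)⁻¹ := by rw [h1]
      _ = g := by group
  rw [h2]
  exact hg.1

theorem le_normalizer (c : Ctx t z π q ε Z T T' U s s' u x w) {g : G} (hg : g * t = t * g) :
    g ∈ Subgroup.normalizer (DD π w : Set G) := by
  rw [Subgroup.mem_normalizer_iff]
  intro k
  have hcomm : ∀ k, k ∈ DD π w → g * k * g⁻¹ = k := by
    intro k hk
    rw [c.Kt_comm hk.1 hg]; group
  constructor
  · intro hk
    rw [hcomm k hk]
    exact hk
  · intro hk
    have h1 := c.Kt_comm hk.1 hg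
    have h2 : g * k * g⁻¹ = k := by
      have h3 : g * (g * k * g⁻¹) * g⁻¹ = g * k * g⁻¹ := by rw [h1]; group
      have h4 : g * k * g⁻¹ = g⁻¹ * (g * (g * k * g⁻¹) * g⁻¹) * g := by group
      rw [h3] at h4
      rw [h4]; group
    rwa [h2] at hk

theorem w_mem_normalizer [Finite G] (c : Ctx t z π q ε Z T T' U s s' u x w) :
    w ∈ Subgroup.normalizer (DD π w : Set G) := by
  refine Subgroup.mem_normalizer_iff.2 fun k => ⟨c.conj_mem_DD, fun hk => ?_⟩
  -- `w⁻¹` is `w⁻²` times `w`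
  have h1 := c.conj_mem_DD hk
  have h2 : w * w * k * (w * w)⁻¹ ∈ DD π w := by
    have : w * (w * k * w⁻¹) * w⁻¹ = w * w * k * (w * w)⁻¹ := by group
    rwa [this] at h1
  exact (Subgroup.mem_normalizer_iff.1 (c.le_normalizer c.w_sq) k).2 h2

/-- Every involution of a subgroup containing `C(t)` and `w` is conjugate in it to `t`. -/
theorem exists_conj_t [Finite G] (c : Ctx t z π q ε Z T T' U s s' u x w) {H : Subgroup G}
    (hC : Subgroup.centralizer ({t} : Set G) ≤ H) (hw : w ∈ H) {y : G} (hy : y ∈ H)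
    (hy2 : orderOf y = 2) : ∃ a ∈ H, a * y * a⁻¹ = t := by
  have : Finite Q := Finite.of_surjective π c.hyp.surj
  have := Fintype.ofFinite Q
  have := Fintype.ofFinite G
  have hodd : Odd (Subgroup.centralizer ({t} : Set G)).index :=
    Cfsg.Agent.Classification.RTwo.SDChar.odd_index c.hyp.orderOf_t c.hyp.one_class
  have hrel : Odd ((Subgroup.centralizer ({t} : Set G)).relIndex H) :=
    Odd.of_dvd_nat hodd (Subgroup.relIndex_dvd_index_of_le hC)
  -- a fixed coset
  obtain ⟨b, hbH, hb⟩ : ∃ b ∈ H, b⁻¹ * y * b ∈ Subgroup.centralizer ({t} : Set G) := by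
    have : Fact (Nat.Prime 2) := ⟨Nat.prime_two⟩
    let y' : H := ⟨y, hy⟩
    have hy' : orderOf y' = 2 := by rw [← Subgroup.orderOf_coe]; exact hy2
    have hP : IsPGroup 2 (Subgroup.zpowers y') :=
      IsPGroup.of_card (n := 1) (by rw [Nat.card_zpowers, hy', pow_one])
    have hnd : ¬ 2 ∣ Nat.card (H ⧸ (Subgroup.centralizer ({t} : Set G)).subgroupOf H) := by
      intro h2
      exact absurd hrel (Nat.not_odd_iff_even.2 (even_iff_two_dvd.2 h2))
    obtain ⟨r, hr⟩ := hP.nonempty_fixed_point_of_prime_not_dvd_card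
      (H ⧸ (Subgroup.centralizer ({t} : Set G)).subgroupOf H) hnd
    obtain ⟨b, rfl⟩ := QuotientGroup.mk_surjective r
    have h1 : y' • (b : H ⧸ (Subgroup.centralizer ({t} : Set G)).subgroupOf H) = b :=
      hr ⟨y', Subgroup.mem_zpowers y'⟩
    have h2 : ((y' * b : H) : H ⧸ (Subgroup.centralizer ({t} : Set G)).subgroupOf H) = b := h1
    rw [eq_comm, QuotientGroup.eq, Subgroup.mem_subgroupOf] at h2
    refine ⟨b, b.2, ?_⟩
    have h3 : ((b⁻¹ * (y' * b) : H) : G) = (b : G)⁻¹ * y * b := by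
      simp [y', mul_assoc]
    rwa [h3] at h2
  -- in `C(t)`
  let y₁ : Subgroup.centralizer ({t} : Set G) := ⟨b⁻¹ * y * b, hb⟩
  have hyy : y * y = 1 := mul_self_of_orderOf hy2
  have hy1 : y₁ * y₁ = 1 := by
    apply Subtype.ext
    change b⁻¹ * y * b * (b⁻¹ * y * b) = 1
    calc b⁻¹ * y * b * (b⁻¹ * y * b) = b⁻¹ * (y * y) * b := by group
      _ = 1 := by rw [hyy]; group
  by_cases h1 : y₁ = tt t
  · refine ⟨b⁻¹, H.inv_mem hbH, ?_⟩
    rw [inv_inv]
    exact congrArg Subtype.val h1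
  · have hπ : π y₁ ∈ nInv z := by
      rw [mem_nInv]
      refine ⟨orderOf_of_mul_self (by rw [← map_mul, hy1, map_one]) fun h2 => ?_, fun h2 => ?_⟩
      · have h3 := eq_one_of_ker c.hyp h2 (m := 1) (by rw [pow_one, sq, hy1])
        have h4 : b⁻¹ * y * b = 1 := congrArg Subtype.val h3
        have h5 : y = 1 := by
          have : y = b * (b⁻¹ * y * b) * b⁻¹ := by group
          rw [this, h4]; group
        rw [h5, orderOf_one] at hy2
        norm_num at hy2
      · exact h1 (eq_of_map_eq c.hyp c.central hy1 (tt_mul_tt c.hyp)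
          (h2.trans (map_tt c.hyp).symm))
    obtain ⟨d, hd⟩ := c.chyp.nInv_isConj hπ
    obtain ⟨D, hD⟩ := c.hyp.surj d
    have h2 : D⁻¹ * x * D = y₁ := by
      refine eq_of_map_eq c.hyp c.central ?_ hy1 ?_
      · calc D⁻¹ * x * D * (D⁻¹ * x * D) = D⁻¹ * (x * x) * D := by group
          _ = 1 := by rw [c.sq_x]; group
      · rw [map_mul, map_mul, map_inv, hD, c.map_x, ← hd]
    have h3 : (D : G)⁻¹ * x * D = b⁻¹ * y * b := congrArg Subtype.val h2
    refine ⟨w * D * b⁻¹, H.mul_mem (H.mul_mem hw (hC D.2)) (H.inv_mem hbH), ?_⟩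
    calc w * D * b⁻¹ * y * (w * D * b⁻¹)⁻¹ = w * D * (b⁻¹ * y * b) * (D : G)⁻¹ * w⁻¹ := by group
      _ = w * D * ((D : G)⁻¹ * x * D) * (D : G)⁻¹ * w⁻¹ := by rw [h3]
      _ = w * x * w⁻¹ := by group
      _ = t := c.conj_x

/-- Without strongly embedded subgroup `K_t ⊓ K_u = 1`. -/
theorem DD_eq_bot [Finite G] [IsSimpleGroup G] (c : Ctx t z π q ε Z T T' U s s' u x w)
    (hse : ∀ M : Subgroup G, ¬ IsStronglyEmbedded M) : DD π w = ⊥ := by
  by_contra hne
  have hC : Subgroup.centralizer ({t} : Set G) ≤ Subgroup.normalizer (DD π w : Set G) :=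
    fun g hg => c.le_normalizer (Subgroup.mem_centralizer_singleton_iff.1 hg)
  refine hse (Subgroup.normalizer (DD π w : Set G)) ⟨fun htop => ?_, ?_, fun g hg => ?_⟩
  · have hn : (DD π w).Normal := Subgroup.normalizer_eq_top_iff.1 htop
    rcases hn.eq_bot_or_eq_top with h1 | h1
    · exact hne h1
    · have h2 : t ∈ Kt π := by
        have : t ∈ DD π w := by rw [h1]; exact Subgroup.mem_top t
        exact this.1
      obtain ⟨h3, h4⟩ := mem_Kt.1 h2
      have h5 := map_tt c.hyp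
      have h6 : π (tt t) = 1 := h4
      exact z_ne_one c.hyp (h5.symm.trans h6)
  · have h1 : t ∈ Subgroup.normalizer (DD π w : Set G) := c.le_normalizer rfl
    have h2 : orderOf (⟨t, h1⟩ : Subgroup.normalizer (DD π w : Set G)) = 2 := by
      rw [← Subgroup.orderOf_coe]; exact c.hyp.orderOf_t
    exact even_iff_two_dvd.2 (h2 ▸ orderOf_dvd_natCard _)
  · by_contra hodd
    rw [Nat.not_odd_iff_even, even_iff_two_dvd] at hodd
    have : Fact (Nat.Prime 2) := ⟨Nat.prime_two⟩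
    obtain ⟨⟨y, hy1, hy2⟩, hy⟩ := exists_prime_orderOf_dvd_card' 2 hodd
    rw [← Subgroup.orderOf_coe] at hy
    obtain ⟨y₀, hy₀, rfl⟩ := hy2
    have hy0 : orderOf y₀ = 2 := by
      rw [← hy]
      exact ((MulAut.conj g).orderOf_eq y₀).symm
    obtain ⟨a, ha, hat⟩ := c.exists_conj_t hC c.w_mem_normalizer hy1 hy
    obtain ⟨b, hb, hbt⟩ := c.exists_conj_t hC c.w_mem_normalizer hy₀ hy0
    have h1 : a * g * b⁻¹ ∈ Subgroup.centralizer ({t} : Set G) := by
      rw [Subgroup.mem_centralizer_singleton_iff]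
      have hat' : a * (g * y₀ * g⁻¹) * a⁻¹ = t := hat
      calc a * g * b⁻¹ * t = a * g * b⁻¹ * (b * y₀ * b⁻¹) := by rw [hbt]
        _ = (a * (g * y₀ * g⁻¹) * a⁻¹) * (a * g * b⁻¹) := by group
        _ = t * (a * g * b⁻¹) := by rw [hat']
    have h2 : g = a⁻¹ * (a * g * b⁻¹) * b := by group
    apply hg
    rw [h2]
    exact Subgroup.mul_mem _ (Subgroup.mul_mem _ (Subgroup.inv_mem _ ha) (hC h1)) hb

theorem map_mem_T (c : Ctx t z π q ε Z T T' U s s' u x w)
    {g : Subgroup.centralizer ({t} : Set G)} (hg : g * x = x * g) : π g ∈ T := by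
  refine c.chyp.cent_T u c.chyp.u_mem c.chyp.u_notMem_Z (π g) ?_
  rw [← c.map_x, ← map_mul, hg, map_mul]

/-- `C_G(V)` is commutative. -/
theorem CV_comm [Finite G] [IsSimpleGroup G] (c : Ctx t z π q ε Z T T' U s s' u x w)
    (hse : ∀ M : Subgroup G, ¬ IsStronglyEmbedded M) {a b : G} (ha : a ∈ CV t x)
    (hb : b ∈ CV t x) : a * b = b * a := by
  have key : ∀ a ∈ CV t x, ∀ b ∈ CV t x, a * b * a⁻¹ * b⁻¹ ∈ Kt π := by
    intro a ha b hb
    let a' : Subgroup.centralizer ({t} : Set G) := ⟨a, ha.1⟩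
    let b' : Subgroup.centralizer ({t} : Set G) := ⟨b, hb.1⟩
    have h1 : π a' ∈ T := c.map_mem_T (Subtype.ext (mem_CV.1 ha).2)
    have h2 : π b' ∈ T := c.map_mem_T (Subtype.ext (mem_CV.1 hb).2)
    refine mem_Kt.2 ⟨(a' * b' * a'⁻¹ * b'⁻¹).2, ?_⟩
    change π (a' * b' * a'⁻¹ * b'⁻¹) = 1
    rw [map_mul, map_mul, map_mul, map_inv, map_inv, c.chyp.T_comm _ h1 _ h2]
    group
  have h1 : a * b * a⁻¹ * b⁻¹ ∈ DD π w := by
    refine ⟨key a ha b hb, ?_⟩
    have h2 := key _ (c.conj_mem_CV ha) _ (c.conj_mem_CV hb)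
    have h3 : w * a * w⁻¹ * (w * b * w⁻¹) * (w * a * w⁻¹)⁻¹ * (w * b * w⁻¹)⁻¹ =
        (MulAut.conj w).toMonoidHom (a * b * a⁻¹ * b⁻¹) := by
      change _ = w * (a * b * a⁻¹ * b⁻¹) * w⁻¹
      group
    rw [h3] at h2
    exact h2
  rw [c.DD_eq_bot hse, Subgroup.mem_bot] at h1
  calc a * b = (a * b * a⁻¹ * b⁻¹) * (b * a) := by group
    _ = b * a := by rw [h1, one_mul]

/-- The core embeds in the torus `T`. -/
theorem exists_injective [Finite G] [IsSimpleGroup G] (c : Ctx t z π q ε Z T T' U s s' u x w)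
    (hse : ∀ M : Subgroup G, ¬ IsStronglyEmbedded M) :
    ∃ f : π.ker →* T, Function.Injective f := by
  have hmem : ∀ k : π.ker, w * ((k : Subgroup.centralizer ({t} : Set G)) : G) * w⁻¹ ∈ CV t x :=
    fun k => c.conj_mem_CV (c.Kt_le_CV ⟨k, k.2, rfl⟩)
  refine ⟨{ toFun := fun k => ⟨π ⟨_, (hmem k).1⟩,
              c.map_mem_T (Subtype.ext (mem_CV.1 (hmem k)).2)⟩
            map_one' := ?_
            map_mul' := ?_ }, ?_⟩
  · apply Subtype.ext
    change π _ = 1
    rw [← map_one π]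
    congr 1
    apply Subtype.ext
    change w * 1 * w⁻¹ = 1
    group
  · intro k l
    apply Subtype.ext
    change π _ = π _ * π _
    rw [← map_mul π]
    congr 1
    apply Subtype.ext
    change w * ((((k * l : π.ker) : Subgroup.centralizer ({t} : Set G))) : G) * w⁻¹ =
      w * ((k : Subgroup.centralizer ({t} : Set G)) : G) * w⁻¹ *
        (w * ((l : Subgroup.centralizer ({t} : Set G)) : G) * w⁻¹)
    have : (((k * l : π.ker) : Subgroup.centralizer ({t} : Set G)) : G) =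
      ((k : Subgroup.centralizer ({t} : Set G)) : G) *
        ((l : Subgroup.centralizer ({t} : Set G)) : G) := rfl
    rw [this]
    group
  · rw [injective_iff_map_eq_one]
    intro k hk
    have h1 : π ⟨_, (hmem k).1⟩ = 1 := congrArg Subtype.val hk
    have h2 : ((k : Subgroup.centralizer ({t} : Set G)) : G) ∈ DD π w :=
      ⟨⟨k, k.2, rfl⟩, mem_Kt.2 ⟨(hmem k).1, h1⟩⟩
    rw [c.DD_eq_bot hse, Subgroup.mem_bot] at h2
    exact Subtype.ext (Subtype.ext h2)

theorem index_T [Finite G] (c : Ctx t z π q ε Z T T' U s s' u x w) :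
    (T.index : ℤ) = q * (q + ε) := by
  have : Finite Q := Finite.of_surjective π c.hyp.surj
  have h1 : (T.index : ℤ) * Nat.card T = Nat.card Q := by exact_mod_cast T.index_mul_card
  have h2 := c.chyp.card_T
  have h3 : (Nat.card Q : ℤ) = Nat.card Z * (q * (q ^ 2 - 1)) := by
    rw [c.chyp.card_C]
    have h4 : 1 ≤ q ^ 2 := Nat.one_le_pow _ _ (by have := c.chyp.one_lt_q; omega)
    push_cast [Nat.cast_sub h4]
    ring
  have hZ : (0 : ℤ) < Nat.card Z := by exact_mod_cast Nat.card_pos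
  have hq : (1 : ℤ) < q := by exact_mod_cast c.chyp.one_lt_q
  have hε : ε * ε = 1 := by rcases c.chyp.eps with h | h <;> rw [h] <;> norm_num
  have hqe : (q : ℤ) - ε ≠ 0 := by rcases c.chyp.eps with h | h <;> rw [h] <;> omega
  have h4 : ((Nat.card Z : ℤ) * (q - ε)) * T.index = ((Nat.card Z : ℤ) * (q - ε)) * (q * (q + ε)) := by
    rw [← h2, mul_comm, h1, h3, h2]
    linear_combination ((Nat.card Z : ℤ) * q) * hε
  exact mul_left_cancel₀ (mul_ne_zero hZ.ne' hqe) h4

theorem card_ker_dvd [Finite G] [IsSimpleGroup G] (c : Ctx t z π q ε Z T T' U s s' u x w)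
    (hse : ∀ M : Subgroup G, ¬ IsStronglyEmbedded M) {m : ℕ} (hZ : Nat.card Z = 2 ^ m) :
    (Nat.card π.ker : ℤ) ∣ q - ε := by
  obtain ⟨f, hf⟩ := c.exists_injective hse
  have : Finite Q := Finite.of_surjective π c.hyp.surj
  have h1 : Nat.card π.ker ∣ Nat.card T := Subgroup.card_dvd_of_injective f hf
  have h2 : (Nat.card π.ker : ℤ) ∣ (2 : ℤ) ^ m * (q - ε) := by
    have h3 := c.chyp.card_T
    rw [hZ] at h3
    have h4 : (Nat.card π.ker : ℤ) ∣ Nat.card T := by exact_mod_cast h1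
    rw [h3] at h4
    exact_mod_cast h4
  have h3 : IsCoprime (Nat.card π.ker : ℤ) (2 ^ m) := by
    have h4 : Nat.Coprime (Nat.card π.ker) (2 ^ m) :=
      Nat.Coprime.pow_right _ (Nat.coprime_two_right.2 c.hyp.odd_ker)
    exact_mod_cast Nat.isCoprime_iff_coprime.2 h4
  exact h3.dvd_of_dvd_mul_left h2

theorem coprime_index [Finite G] [IsSimpleGroup G] (c : Ctx t z π q ε Z T T' U s s' u x w)
    (hse : ∀ M : Subgroup G, ¬ IsStronglyEmbedded M) {m : ℕ} (hZ : Nat.card Z = 2 ^ m) :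
    Nat.Coprime (2 ^ (m + 1) * T.index) (Nat.card π.ker) := by
  rw [Nat.coprime_mul_iff_left]
  refine ⟨Nat.Coprime.pow_left _ (Nat.coprime_two_left.2 c.hyp.odd_ker), ?_⟩
  rw [← Nat.isCoprime_iff_coprime, c.index_T]
  have h1 := c.card_ker_dvd hse hZ
  have h2 : IsCoprime ((q : ℤ) * (q + ε)) (Nat.card π.ker : ℤ) := by
    refine IsCoprime.mul_left ?_ ?_
    · -- `q`
      obtain ⟨k, hk⟩ := h1
      rcases c.chyp.eps with h | h
      · exact ⟨1, -k, by rw [h] at hk; linear_combination hk⟩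
      · exact ⟨-1, k, by rw [h] at hk; linear_combination -hk⟩
    · obtain ⟨k, hk⟩ := h1
      have h3 : IsCoprime (2 : ℤ) (Nat.card π.ker : ℤ) := by
        exact_mod_cast Nat.isCoprime_iff_coprime.2 (Nat.coprime_two_left.2 c.hyp.odd_ker)
      have h4 : IsCoprime (2 * ε : ℤ) (Nat.card π.ker : ℤ) := by
        rcases c.chyp.eps with h | h
        · rw [h, mul_one]; exact h3
        · rw [h, mul_neg_one]; exact h3.neg_left
      have h5 : (q : ℤ) + ε = 2 * ε + (Nat.card π.ker : ℤ) * k := by linear_combination hk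
      rw [h5]
      exact IsCoprime.add_mul_left_left h4 k
  exact_mod_cast h2

/-- **The core is a direct factor of `C(t)`.** -/
theorem exists_retraction [Finite G] [IsSimpleGroup G] (c : Ctx t z π q ε Z T T' U s s' u x w)
    (hse : ∀ M : Subgroup G, ¬ IsStronglyEmbedded M) {m : ℕ} (hZ : Nat.card Z = 2 ^ m) :
    ∃ ρ : Subgroup.centralizer ({t} : Set G) →* π.ker,
      ∀ k : π.ker, ρ (k : Subgroup.centralizer ({t} : Set G)) = k := by
  have : Finite Q := Finite.of_surjective π c.hyp.surj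
  let A : Subgroup (Subgroup.centralizer ({t} : Set G)) := T.comap π
  have hAx : ∀ a ∈ A, a * x = x * a := by
    intro a ha
    have h1 : a * x * a⁻¹ = x := by
      refine eq_of_map_eq c.hyp c.central ?_ c.sq_x ?_
      · calc a * x * a⁻¹ * (a * x * a⁻¹) = a * (x * x) * a⁻¹ := by group
          _ = 1 := by rw [c.sq_x]; group
      · rw [map_mul, map_mul, map_inv, c.map_x, c.chyp.T_comm _ ha _ c.chyp.u_mem]
        group
    calc a * x = (a * x * a⁻¹) * a := by group
      _ = x * a := by rw [h1]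
  have hAC : ∀ a ∈ A, (a : G) ∈ CV t x := fun a ha =>
    ⟨a.2, Subgroup.mem_centralizer_singleton_iff.2 (congrArg Subtype.val (hAx a ha))⟩
  have hA : ∀ a ∈ A, ∀ b ∈ A, a * b = b * a := fun a ha b hb =>
    Subtype.ext (c.CV_comm hse (hAC a ha) (hAC b hb))
  have hidx : A.index = T.index := Subgroup.index_comap_of_surjective T c.hyp.surj
  obtain ⟨S₀, hS₀⟩ := c.hyp.surj s
  have hσ : ∀ a ∈ A, S₀ * a * S₀⁻¹ ∈ A := by
    intro a ha
    rw [Subgroup.mem_comap, map_mul, map_mul, map_inv, hS₀]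
    exact c.chyp.s_conj _ ha
  have hN : ∀ a ∈ A, π ((a * (S₀ * a * S₀⁻¹)) ^ 2 ^ m) = 1 := by
    intro a ha
    rw [map_pow, map_mul, map_mul, map_mul, map_inv, hS₀, ← hZ]
    exact congrArg Subtype.val (pow_card_eq_one' (x := (⟨_, c.chyp.s_norm _ ha⟩ : Z)))
  -- the exponent
  obtain ⟨e, he⟩ : ∃ e : ℕ, 2 ^ (m + 1) * T.index * e ≡ 1 [MOD Nat.card π.ker] := by
    have hpos : 0 < Nat.card π.ker := Nat.card_pos
    have htot : 0 < Nat.totient (Nat.card π.ker) := Nat.totient_pos.2 hpos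
    refine ⟨(2 ^ (m + 1) * T.index) ^ (Nat.totient (Nat.card π.ker) - 1), ?_⟩
    rw [← pow_succ', Nat.sub_add_cancel htot]
    exact Nat.ModEq.pow_totient (c.coprime_index hse hZ)
  let p : A →* π.ker :=
    { toFun := fun a => ⟨((a : Subgroup.centralizer ({t} : Set G)) * (S₀ * a * S₀⁻¹)) ^ (2 ^ m * e),
        by rw [MonoidHom.mem_ker, pow_mul, map_pow, hN a a.2, one_pow]⟩
      map_one' := by
        apply Subtype.ext
        change (1 * (S₀ * 1 * S₀⁻¹)) ^ (2 ^ m * e) = 1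
        rw [mul_one, mul_inv_cancel, mul_one, one_pow]
      map_mul' := by
        intro a b
        apply Subtype.ext
        change ((a : Subgroup.centralizer ({t} : Set G)) * b *
          (S₀ * (a * b) * S₀⁻¹)) ^ (2 ^ m * e) = (a * (S₀ * a * S₀⁻¹)) ^ (2 ^ m * e) *
            (b * (S₀ * b * S₀⁻¹)) ^ (2 ^ m * e)
        have h1 : Commute ((a : Subgroup.centralizer ({t} : Set G)) * (S₀ * a * S₀⁻¹))
            (b * (S₀ * b * S₀⁻¹)) :=
          hA _ (A.mul_mem a.2 (hσ _ a.2)) _ (A.mul_mem b.2 (hσ _ b.2))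
        rw [← h1.mul_pow]
        congr 1
        have h2 := hA _ (hσ _ a.2) _ b.2
        calc (a : Subgroup.centralizer ({t} : Set G)) * b * (S₀ * (a * b) * S₀⁻¹)
            = a * (b * (S₀ * a * S₀⁻¹)) * (S₀ * b * S₀⁻¹) := by group
          _ = a * ((S₀ * a * S₀⁻¹) * b) * (S₀ * b * S₀⁻¹) := by rw [h2]
          _ = a * (S₀ * a * S₀⁻¹) * (b * (S₀ * b * S₀⁻¹)) := by group }
  letI : CommGroup A :=
    { (inferInstance : Group A) with mul_comm := fun a b => Subtype.ext (hA _ a.2 _ b.2) }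
  have : A.FiniteIndex := ⟨by rw [hidx]; exact Subgroup.index_ne_zero_of_finite⟩
  refine ⟨p.comp (MonoidHom.transfer (MonoidHom.id A)), ?_⟩
  rintro ⟨k, hk⟩
  have hkey : ∀ (n : ℕ) (g₀ : Subgroup.centralizer ({t} : Set G)), g₀⁻¹ * k ^ n * g₀ ∈ A →
      g₀⁻¹ * k ^ n * g₀ = k ^ n := by
    intro n g₀ _
    have h1 := c.central (k ^ n) (by rw [map_pow, MonoidHom.mem_ker.1 hk, one_pow]) g₀
    rw [mul_assoc, ← h1, inv_mul_cancel_left]
  have h1 := MonoidHom.transfer_eq_pow (MonoidHom.id A) k hkey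
  have h2 : (MonoidHom.transfer (MonoidHom.id A) k : A).1 = k ^ A.index := by rw [h1]; rfl
  apply Subtype.ext
  change ((MonoidHom.transfer (MonoidHom.id A) k : A).1 *
    (S₀ * (MonoidHom.transfer (MonoidHom.id A) k : A).1 * S₀⁻¹)) ^ (2 ^ m * e) = k
  rw [h2]
  have h3 : S₀ * k ^ A.index * S₀⁻¹ = k ^ A.index := by
    rw [c.central (k ^ A.index) (by rw [map_pow, MonoidHom.mem_ker.1 hk, one_pow]) S₀,
      mul_inv_cancel_right]
  rw [h3, ← pow_add, ← pow_mul, hidx]
  have h4 : orderOf k ∣ Nat.card π.ker := by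
    have := orderOf_dvd_natCard (⟨k, hk⟩ : π.ker)
    rwa [← Subgroup.orderOf_coe] at this
  have h5 : (T.index + T.index) * (2 ^ m * e) = 2 ^ (m + 1) * T.index * e := by ring
  rw [h5]
  have h6 : k ^ (2 ^ (m + 1) * T.index * e) = k ^ 1 := pow_eq_pow_iff_modEq.2 (he.of_dvd h4)
  rw [h6, pow_one]

end Ctx

end Cfsg.Agent.Classification.QDW.EndLocal
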