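import Cfsg.Agent.Classification.QDW.EndIso
import Cfsg.Agent.Classification.QDW.EndLocal

/-!
# `O(C(t)) ≤ Z(C(t))` and `C(t)/O(C(t))` of type `GL₂(q)/O(Z)`, `GU₂(q)/O(Z)` give
# `C(t) ≅ GL₂(q)/Z₀`, `GU₂(q)/Z₀`
-/

set_option autoImplicit false
set_option linter.unusedSectionVars false

open Matrix

namespace Cfsg.Agent.Classification.QDW.EndMain

open Cfsg Cfsg.Agent.Classification.RTwo.General Cfsg.Agent.Classification.InvCent
  Cfsg.Agent.Classification.QDW.EndIso Cfsg.Agent.Classification.QDW.EndLocal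

universe v w

section Cyc

variable {G : Type v} {Q : Type w} [Group G] [Group Q] {t : G} {z : Q}
  {π : (Subgroup.centralizer ({t} : Set G)) →* Q} {q : ℕ} {ε : ℤ} {Z T T' U : Subgroup Q}
  {s s' u : Q}

/-- The core is cyclic. -/
theorem isCyclic_ker [Finite G] [IsSimpleGroup G] {x : Subgroup.centralizer ({t} : Set G)} {w : G}
    (c : Ctx t z π q ε Z T T' U s s' u x w)
    (hse : ∀ M : Subgroup G, ¬ IsStronglyEmbedded M) {m : ℕ} (hZ : Nat.card Z = 2 ^ m)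
    {D : Subgroup Q} (hD : IsCyclic D) (hT₀ : ∀ y ∈ T, y * (s * y * s⁻¹) = 1 → y ∈ D) :
    IsCyclic π.ker := by
  obtain ⟨f, hf⟩ := c.exists_injective hse
  have hfD : ∀ k, (f k : Q) ∈ D := by
    intro k
    refine hT₀ _ (f k).2 ?_
    have hn := c.chyp.s_norm _ (f k).2
    -- odd order and 2-power order
    have h1 : ((f k : Q) * (s * (f k : Q) * s⁻¹)) ^ 2 ^ m = 1 := by
      rw [← hZ]
      exact congrArg Subtype.val (pow_card_eq_one' (x := (⟨_, hn⟩ : Z)))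
    have h2 : (f k : Q) ^ Nat.card π.ker = 1 := by
      have h3 : f k ^ Nat.card π.ker = 1 := by rw [← map_pow, pow_card_eq_one', map_one]
      exact congrArg Subtype.val h3
    have hc : Commute (f k : Q) (s * (f k : Q) * s⁻¹) :=
      c.chyp.T_comm _ (f k).2 _ (c.chyp.s_conj _ (f k).2)
    have h3 : ((f k : Q) * (s * (f k : Q) * s⁻¹)) ^ Nat.card π.ker = 1 := by
      rw [hc.mul_pow, h2, conj_pow, h2]; group
    have h4 := orderOf_dvd_of_pow_eq_one h1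
    have h5 := orderOf_dvd_of_pow_eq_one h3
    have h6 : Nat.Coprime (2 ^ m) (Nat.card π.ker) :=
      Nat.Coprime.pow_left _ (Nat.coprime_two_left.2 c.hyp.odd_ker)
    exact orderOf_eq_one_iff.1 (Nat.eq_one_of_dvd_coprimes h6 h4 h5)
  let g : π.ker →* D := ((Subgroup.subtype T).comp f).codRestrict D hfD
  refine isCyclic_of_injective g ?_
  intro a b hab
  have h1 : (f a : Q) = f b := congrArg (fun y : D => (y : Q)) hab
  exact hf (Subtype.ext h1)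

end Cyc

/-- A quotient of order a power of two. -/
theorem card_two_pow {A : Type*} [Group A] [Finite A] {n : ℕ} (h : ∀ a : A, a ^ 2 ^ n = 1) :
    ∃ m : ℕ, Nat.card A = 2 ^ m := by
  have : Fact (Nat.Prime 2) := ⟨Nat.prime_two⟩
  exact IsPGroup.iff_card.1 (fun a => ⟨n, h a⟩)

section Lin

variable {F : Type*} [Field F] [Fintype F] {G : Type v} {Q : Type w} [Group G] [Group Q]
  {ψ : GL (Fin 2) F →* Q}

open Cfsg.Agent.Classification.InvCent.InstGL Cfsg.Agent.Classification.InvCent.GLTwo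

theorem two_pow_gZ (S : InstGL.Setup ψ)
    (hmax : ∀ z ∈ Subgroup.center (GL (Fin 2) F), Odd (orderOf z) → ψ z = 1) :
    ∃ m : ℕ, Nat.card (InstGL.gZ ψ) = 2 ^ m := by
  have : Finite Q := Finite.of_surjective ψ S.surj
  obtain ⟨n, k, hk, hnk⟩ := Nat.exists_eq_two_pow_mul_odd (n := Nat.card Fˣ) Nat.card_pos.ne'
  refine card_two_pow (n := n) ?_
  rintro ⟨_, g, hg, rfl⟩
  apply Subtype.ext
  change ψ g ^ 2 ^ n = 1
  rw [← map_pow]
  refine hmax _ (Subgroup.pow_mem _ hg _) ?_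
  obtain ⟨a, b, rfl⟩ := exists_dg S.two_ne_zero (center_le_Tor hg)
  refine Odd.of_dvd_nat hk (orderOf_dvd_of_pow_eq_one ?_)
  rw [← pow_mul, ← hnk, dg_pow, pow_card_eq_one', pow_card_eq_one', dg_one]

/-- The images of `diag(a, a⁻¹)`. -/
noncomputable def dd (ψ : GL (Fin 2) F →* Q) : Fˣ →* Q where
  toFun a := ψ (dg a a⁻¹)
  map_one' := by rw [inv_one, dg_one, map_one]
  map_mul' a b := by rw [← map_mul, dg_mul, mul_inv]

theorem mem_dd (S : InstGL.Setup ψ) {y : Q} (hy : y ∈ InstGL.gT ψ)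
    (h1 : y * (ψ wt * y * (ψ wt)⁻¹) = 1) : y ∈ (dd ψ).range := by
  obtain ⟨g, hg, rfl⟩ := hy
  have h2 := S.wt_conj_eq hg
  rw [h1] at h2
  obtain ⟨a, b, rfl⟩ := exists_dg S.two_ne_zero hg
  rw [det_dg] at h2
  have h3 := S.pow_card h2.symm
  rw [dg_pow, ← dg_one] at h3
  have h4 := (dg_injective h3).1
  obtain ⟨k, hk⟩ := S.odd_ker
  -- `c² = ab`, `dg c c ∈ ker`
  have h5 : (a * b) ^ (k + 1) * (a * b) ^ (k + 1) = a * b := by
    rw [← pow_add, show k + 1 + (k + 1) = 2 * k + 1 + 1 by ring, pow_succ, ← hk, h4, one_mul]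
  have h6 : ψ (dg ((a * b) ^ (k + 1)) ((a * b) ^ (k + 1))) = 1 := by
    rw [← dg_pow, map_pow, ← h2, one_pow]
  refine ⟨a * ((a * b) ^ (k + 1))⁻¹, ?_⟩
  have h7 : dg a b = dg (a * ((a * b) ^ (k + 1))⁻¹) (a * ((a * b) ^ (k + 1))⁻¹)⁻¹ *
      dg ((a * b) ^ (k + 1)) ((a * b) ^ (k + 1)) := by
    rw [dg_mul, inv_mul_cancel_right, mul_inv, inv_inv]
    congr 1
    calc b = a⁻¹ * (a * b) := by group
      _ = a⁻¹ * ((a * b) ^ (k + 1) * (a * b) ^ (k + 1)) := by rw [h5]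
      _ = a⁻¹ * (a * b) ^ (k + 1) * (a * b) ^ (k + 1) := by group
  rw [h7, map_mul ψ, h6, mul_one]
  rfl

/-- **`C(t) ≅ GL₂(F)/Z₀`.** -/
theorem exists_GL [Finite G] [IsSimpleGroup G] {t : G} (ht : orderOf t = 2)
    (hone : ∀ x : G, orderOf x = 2 → IsConj t x)
    (hse : ∀ M : Subgroup G, ¬ IsStronglyEmbedded M)
    (π : (Subgroup.centralizer ({t} : Set G)) →* Q) (hπ : Function.Surjective π)
    (hodd : Odd (Nat.card π.ker))
    (hKc : ∀ k, π k = 1 → ∀ c : Subgroup.centralizer ({t} : Set G), c * k = k * c)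
    (S : InstGL.Setup ψ)
    (hmax : ∀ z ∈ Subgroup.center (GL (Fin 2) F), Odd (orderOf z) → ψ z = 1) :
    ∃ (Z₀ : Subgroup (GL (Fin 2) F)) (_ : Z₀.Normal), Z₀ ≤ Subgroup.center (GL (Fin 2) F) ∧
      Odd (Nat.card Z₀) ∧
      Nonempty (Subgroup.centralizer ({t} : Set G) ≃* GL (Fin 2) F ⧸ Z₀) := by
  have : Finite Q := Finite.of_surjective π hπ
  have hH₀ : Hyp t (π (tt t)) π := ⟨ht, hone, hπ, hodd, fun _ => rfl⟩
  have hz : orderOf (π (tt t)) = 2 := orderOf_of_mul_self (z_mul_z hH₀) (z_ne_one hH₀)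
  have hzt : π (tt t) = InstGL.gt ψ := S.eq_neg_one hz (fun c => ((z_comm hH₀ c).eq).symm)
  have hH : Hyp t (InstGL.gt ψ) π := hzt ▸ hH₀
  obtain ⟨d, hd⟩ := S.exists_nonsquare
  obtain ⟨x, w, c⟩ := exists_ctx hH (S.cHyp hd) hKc
  obtain ⟨m, hm⟩ := two_pow_gZ S hmax
  obtain ⟨ρ, hρ⟩ := c.exists_retraction hse hm
  have hcyc : IsCyclic π.ker := isCyclic_ker c hse hm (D := (dd ψ).range)
    (isCyclic_of_surjective _ (dd ψ).rangeRestrict_surjective) (fun y hy h1 => mem_dd S hy h1)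
  have hdvd : Nat.card π.ker ∣ Nat.card ψ.ker := by
    have h1 := c.card_ker_dvd hse hm
    have h2 := S.card_gZ
    have h3 : ((Fintype.card F : ℕ) : ℤ) - 1 = Nat.card Fˣ := by
      rw [← Nat.card_eq_fintype_card, card_F_eq]; push_cast; ring
    rw [h3, ← h2, hm] at h1
    have h4 : Nat.card π.ker ∣ Nat.card ψ.ker * 2 ^ m := by exact_mod_cast h1
    exact (Nat.Coprime.pow_right _ (Nat.coprime_two_right.2 hodd)).dvd_of_dvd_mul_right h4
  have e : (Subgroup.centralizer ({t} : Set G)) ⧸ π.ker ≃* GL (Fin 2) F ⧸ ψ.ker :=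
    (QuotientGroup.quotientKerEquivOfSurjective π hπ).trans
      (QuotientGroup.quotientKerEquivOfSurjective ψ S.surj).symm
  exact exists_equiv_GL S.odd π.ker ρ hρ hcyc ψ.ker S.ker_le S.odd_ker
    (fun z hz hzo => MonoidHom.mem_ker.2 (hmax z hz hzo)) hdvd e

end Lin

section Uni

variable {F : Type*} [Field F] [Fintype F] {q : ℕ} {σ : F →+* F} {κ : Fˣ} {G : Type v}
  {Q : Type w} [Group G] [Group Q] {ψ : Cfsg.GU 2 F q →* Q}

open Cfsg.Agent.Classification.InvCent.InstGU Cfsg.Agent.Classification.InvCent.GLTwo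
  Cfsg.Agent.Classification.InvCent.GUTwo

theorem two_pow_gZ' (S : InstGU.Setup q σ κ ψ)
    (hmax : ∀ z ∈ Subgroup.center (Cfsg.GU 2 F q), Odd (orderOf z) → ψ z = 1) :
    ∃ m : ℕ, Nat.card (InstGU.gZ ψ) = 2 ^ m := by
  have : Finite Q := Finite.of_surjective ψ S.surj
  obtain ⟨n, k, hk, hnk⟩ := Nat.exists_eq_two_pow_mul_odd (n := Nat.card (Nm F q)) Nat.card_pos.ne'
  refine card_two_pow (n := n) ?_
  rintro ⟨_, g, hg, rfl⟩
  apply Subtype.ext
  change ψ g ^ 2 ^ n = 1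
  rw [← map_pow]
  refine hmax _ (Subgroup.pow_mem _ hg _) ?_
  obtain ⟨a, b, rfl⟩ := exists_dgU S.par (mem_TH.1 (center_le_TH S.par hg))
  refine Odd.of_dvd_nat hk (orderOf_dvd_of_pow_eq_one ?_)
  rw [← pow_mul, ← hnk, dgU_pow, pow_card_eq_one', pow_card_eq_one', dgU_one]

/-- The images of `diag(a, a⁻¹)`. -/
noncomputable def ddU (P : Par F q σ κ) (ψ : Cfsg.GU 2 F q →* Q) : Nm F q →* Q where
  toFun a := ψ (dgU P a a⁻¹)
  map_one' := by rw [inv_one, dgU_one, map_one]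
  map_mul' a b := by rw [← map_mul, dgU_mul, mul_inv]

theorem mem_ddU (S : InstGU.Setup q σ κ ψ) {y : Q} (hy : y ∈ InstGU.gT ψ)
    (h1 : y * (ψ (wtU S.par) * y * (ψ (wtU S.par))⁻¹) = 1) : y ∈ (ddU S.par ψ).range := by
  obtain ⟨g, hg, rfl⟩ := hy
  have h2 := S.wt_conj_eq hg
  rw [h1] at h2
  obtain ⟨a, b, rfl⟩ := exists_dgU S.par (mem_TH.1 hg)
  rw [dtN_dgU] at h2
  have h3 := S.pow_card h2.symm
  rw [dgU_pow, ← dgU_one S.par] at h3
  have h4 := (dgU_injective S.par h3).1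
  obtain ⟨k, hk⟩ := S.odd_ker
  have h5 : (a * b) ^ (k + 1) * (a * b) ^ (k + 1) = a * b := by
    rw [← pow_add, show k + 1 + (k + 1) = 2 * k + 1 + 1 by ring, pow_succ, ← hk, h4, one_mul]
  have h6 : ψ (dgU S.par ((a * b) ^ (k + 1)) ((a * b) ^ (k + 1))) = 1 := by
    rw [← dgU_pow, map_pow, ← h2, one_pow]
  refine ⟨a * ((a * b) ^ (k + 1))⁻¹, ?_⟩
  have h7 : dgU S.par a b =
      dgU S.par (a * ((a * b) ^ (k + 1))⁻¹) (a * ((a * b) ^ (k + 1))⁻¹)⁻¹ *
      dgU S.par ((a * b) ^ (k + 1)) ((a * b) ^ (k + 1)) := by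
    rw [dgU_mul, inv_mul_cancel_right, mul_inv, inv_inv]
    congr 1
    calc b = a⁻¹ * (a * b) := by group
      _ = a⁻¹ * ((a * b) ^ (k + 1) * (a * b) ^ (k + 1)) := by rw [h5]
      _ = a⁻¹ * (a * b) ^ (k + 1) * (a * b) ^ (k + 1) := by group
  rw [h7, map_mul ψ, h6, mul_one]
  rfl

/-- **`C(t) ≅ GU₂(q)/Z₀`.** -/
theorem exists_GU [Finite G] [IsSimpleGroup G] {t : G} (ht : orderOf t = 2)
    (hone : ∀ x : G, orderOf x = 2 → IsConj t x)
    (hse : ∀ M : Subgroup G, ¬ IsStronglyEmbedded M)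
    (π : (Subgroup.centralizer ({t} : Set G)) →* Q) (hπ : Function.Surjective π)
    (hodd : Odd (Nat.card π.ker))
    (hKc : ∀ k, π k = 1 → ∀ c : Subgroup.centralizer ({t} : Set G), c * k = k * c)
    (S : InstGU.Setup q σ κ ψ)
    (hmax : ∀ z ∈ Subgroup.center (Cfsg.GU 2 F q), Odd (orderOf z) → ψ z = 1) :
    ∃ (Z₀ : Subgroup (Cfsg.GU 2 F q)) (_ : Z₀.Normal), Z₀ ≤ Subgroup.center (Cfsg.GU 2 F q) ∧
      Odd (Nat.card Z₀) ∧
      Nonempty (Subgroup.centralizer ({t} : Set G) ≃* Cfsg.GU 2 F q ⧸ Z₀) := by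
  have : Finite Q := Finite.of_surjective π hπ
  have hH₀ : Hyp t (π (tt t)) π := ⟨ht, hone, hπ, hodd, fun _ => rfl⟩
  have hz : orderOf (π (tt t)) = 2 := orderOf_of_mul_self (z_mul_z hH₀) (z_ne_one hH₀)
  have hzt : π (tt t) = InstGU.gt S.par ψ := S.eq_neg_one hz (fun c => ((z_comm hH₀ c).eq).symm)
  have hH : Hyp t (InstGU.gt S.par ψ) π := hzt ▸ hH₀
  obtain ⟨x, w, c⟩ := exists_ctx hH S.cHyp hKc
  obtain ⟨m, hm⟩ := two_pow_gZ' S hmax
  obtain ⟨ρ, hρ⟩ := c.exists_retraction hse hm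
  have hcyc : IsCyclic π.ker := isCyclic_ker c hse hm (D := (ddU S.par ψ).range)
    (isCyclic_of_surjective _ (ddU S.par ψ).rangeRestrict_surjective)
    (fun y hy h1 => mem_ddU S hy h1)
  have hdvd : Nat.card π.ker ∣ Nat.card ψ.ker := by
    have h1 := c.card_ker_dvd hse hm
    have h2 := S.card_gZ
    have h3 : (q : ℤ) - -1 = ((q + 1 : ℕ) : ℤ) := by push_cast; ring
    rw [h3, ← h2, hm] at h1
    have h4 : Nat.card π.ker ∣ Nat.card ψ.ker * 2 ^ m := by exact_mod_cast h1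
    exact (Nat.Coprime.pow_right _ (Nat.coprime_two_right.2 hodd)).dvd_of_dvd_mul_right h4
  have e : (Subgroup.centralizer ({t} : Set G)) ⧸ π.ker ≃* Cfsg.GU 2 F q ⧸ ψ.ker :=
    (QuotientGroup.quotientKerEquivOfSurjective π hπ).trans
      (QuotientGroup.quotientKerEquivOfSurjective ψ S.surj).symm
  exact exists_equiv_GU S.par π.ker ρ hρ hcyc ψ.ker S.ker_le S.odd_ker
    (fun z hz hzo => MonoidHom.mem_ker.2 (hmax z hz hzo)) hdvd e

end Uni

end Cfsg.Agent.Classification.QDW.EndMain
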