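import Mathlib
import Cfsg.Agent.Classification.QDW.FOneGroup

/-!
# `General.Hyp` for covering subgroups and for quotients by odd normal subgroups

* `res π X t₀ ht`: the restriction of `π : C(t) → C` to the centralizer of `t` in the subgroup `X`;
* `res_hyp`: it satisfies `Hyp` if `X` covers `C` and `t` is not isolated in `X`;
* `exists_quot`: `Hyp` for the quotient by an odd order normal subgroup meeting `C(t)` in the
  kernel.
-/

set_option autoImplicit false
set_option linter.unusedSectionVars false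

namespace Cfsg.Agent.Classification.QDW.FOneQuot

open Subgroup Cfsg Cfsg.Agent.Classification.RTwo.General Cfsg.Agent.Classification.InvCent
  Cfsg.Agent.Walter.OddCoreIn Cfsg.Agent.Classification.QDW.FOneGroup

universe w v

section Restrict

variable {G : Type w} [Group G] {C : Type v} [Group C] {t : G} {z : C}
  {π : (Subgroup.centralizer ({t} : Set G)) →* C}
  {q : ℕ} {ε : ℤ} {Z T T' U : Subgroup C} {s s' u : C}

/-- The inclusion of the centralizer of `t` in the subgroup `X`. -/
def incl (X : Subgroup G) (t₀ : X) (ht : (t₀ : G) = t) :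
    (Subgroup.centralizer ({t₀} : Set X)) →* (Subgroup.centralizer ({t} : Set G)) where
  toFun x := ⟨((x : X) : G), by
    rw [Subgroup.mem_centralizer_singleton_iff, ← ht]
    exact congrArg Subtype.val (Subgroup.mem_centralizer_singleton_iff.1 x.2)⟩
  map_one' := rfl
  map_mul' _ _ := rfl

theorem incl_coe (X : Subgroup G) (t₀ : X) (ht : (t₀ : G) = t)
    (x : Subgroup.centralizer ({t₀} : Set X)) : ((incl X t₀ ht x : _) : G) = ((x : X) : G) := rfl

theorem incl_injective (X : Subgroup G) (t₀ : X) (ht : (t₀ : G) = t) :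
    Function.Injective (incl X t₀ ht) := by
  intro x y hxy
  have h1 : ((x : X) : G) = ((y : X) : G) := by
    rw [← incl_coe X t₀ ht x, ← incl_coe X t₀ ht y, hxy]
  exact Subtype.ext (Subtype.ext h1)

/-- The restriction of `π` to the centralizer of `t` in the subgroup `X`. -/
def res (π : (Subgroup.centralizer ({t} : Set G)) →* C) (X : Subgroup G) (t₀ : X)
    (ht : (t₀ : G) = t) : (Subgroup.centralizer ({t₀} : Set X)) →* C :=
  π.comp (incl X t₀ ht)

theorem res_apply (X : Subgroup G) (t₀ : X) (ht : (t₀ : G) = t)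
    (x : Subgroup.centralizer ({t₀} : Set X)) : res π X t₀ ht x = π (incl X t₀ ht x) := rfl

theorem res_hyp [Finite G] (H : Hyp t z π) (h : CHyp z q ε Z T T' U s s' u) {X : Subgroup G}
    (hc : Covers π X) (hn : NonIso t X) (t₀ : X) (ht : (t₀ : G) = t) :
    Hyp t₀ z (res π X t₀ ht) where
  orderOf_t := by rw [← Subgroup.orderOf_coe, ht]; exact H.orderOf_t
  one_class := by
    intro x hx
    obtain ⟨m, hm, e⟩ := exists_conj H h hc hn x.2 (by rw [Subgroup.orderOf_coe]; exact hx)
    refine isConj_iff.2 ⟨⟨m, hm⟩, Subtype.ext ?_⟩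
    change m * (t₀ : G) * m⁻¹ = x
    rw [ht, e]
  surj := by
    intro c
    obtain ⟨m, hm, e⟩ := hc c
    have h1 : (m : G) * (t₀ : G) = (t₀ : G) * (m : G) := by
      rw [ht]; exact Subgroup.mem_centralizer_singleton_iff.1 m.2
    refine ⟨⟨⟨m, hm⟩, Subgroup.mem_centralizer_singleton_iff.2 (Subtype.ext h1)⟩, ?_⟩
    rw [← e]
    rfl
  odd_ker := by
    refine Odd.of_dvd_nat H.odd_ker ?_
    have hinj : Function.Injective
        (((incl X t₀ ht).comp (res π X t₀ ht).ker.subtype).codRestrict π.ker (fun x => x.2)) := by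
      intro x y hxy
      exact Subtype.ext (incl_injective X t₀ ht (congrArg Subtype.val hxy))
    exact Subgroup.card_dvd_of_injective _ hinj
  map_t := by
    intro hm
    rw [res_apply, ← map_tt H]
    congr 1
    exact Subtype.ext ht

end Restrict

section Quot

variable {Y : Type w} [Group Y] [Finite Y] {C : Type v} [Group C] {t : Y} {z : C}
  {π : (Subgroup.centralizer ({t} : Set Y)) →* C}

/-- The map of centralizers. -/
def cmap (t : Y) (N : Subgroup Y) [N.Normal] : (Subgroup.centralizer ({t} : Set Y)) →*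
    (Subgroup.centralizer ({(QuotientGroup.mk' N t)} : Set (Y ⧸ N))) :=
  ((QuotientGroup.mk' N).comp (Subgroup.centralizer ({t} : Set Y)).subtype).codRestrict _ (by
    intro x
    rw [Subgroup.mem_centralizer_singleton_iff]
    change QuotientGroup.mk' N (x : Y) * _ = _ * QuotientGroup.mk' N (x : Y)
    rw [← map_mul, ← map_mul, Subgroup.mem_centralizer_singleton_iff.1 x.2])

theorem cmap_coe (N : Subgroup Y) [N.Normal] (x : Subgroup.centralizer ({t} : Set Y)) :
    ((cmap t N x : _) : Y ⧸ N) = QuotientGroup.mk' N (x : Y) := rfl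

theorem cmap_surjective (ht : t * t = 1) (N : Subgroup Y) [hN : N.Normal]
    (hodd : ¬ 2 ∣ Nat.card N) : Function.Surjective (cmap t N) := by
  rintro ⟨y, hy⟩
  obtain ⟨x, rfl⟩ := QuotientGroup.mk'_surjective N y
  rw [Subgroup.mem_centralizer_singleton_iff, ← map_mul, ← map_mul] at hy
  have h1 : x⁻¹ * (t * x * t⁻¹) ∈ N := by
    have h2 : QuotientGroup.mk' N (x⁻¹ * (t * x * t⁻¹)) = 1 := by
      have h3 : x⁻¹ * (t * x * t⁻¹) = x⁻¹ * (t * x) * t⁻¹ := by group
      rw [h3, map_mul, map_mul, ← hy, ← map_mul, ← map_mul]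
      have h4 : x⁻¹ * (x * t) * t⁻¹ = 1 := by group
      rw [h4, map_one]
    rwa [QuotientGroup.mk'_apply, QuotientGroup.eq_one_iff] at h2
  obtain ⟨m, hm, hxm⟩ := Cfsg.Agent.Walter.Cover.exists_commute_coset (M := N) ht hodd x
    (fun m hm => hN.conj_mem m hm t) h1
  refine ⟨⟨x * m, hxm⟩, Subtype.ext ?_⟩
  rw [cmap_coe]
  change QuotientGroup.mk' N (x * m) = QuotientGroup.mk' N x
  rw [map_mul, show QuotientGroup.mk' N m = 1 from (QuotientGroup.eq_one_iff m).2 hm, mul_one]

theorem exists_quot (H : Hyp t z π) (N : Subgroup Y) [hN : N.Normal] (hodd : ¬ 2 ∣ Nat.card N)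
    (hk : ∀ n : Subgroup.centralizer ({t} : Set Y), (n : Y) ∈ N → π n = 1) :
    ∃ π' : (Subgroup.centralizer ({(QuotientGroup.mk' N t)} : Set (Y ⧸ N))) →* C,
      Hyp (QuotientGroup.mk' N t) z π' ∧ ∀ x, π' (cmap t N x) = π x := by
  have htt := t_mul_t H
  have hs := cmap_surjective htt N hodd
  have hker : (cmap t N).ker ≤ π.ker := by
    intro x hx
    rw [MonoidHom.mem_ker] at hx ⊢
    have h1 := congrArg Subtype.val hx
    rw [cmap_coe] at h1
    exact hk x ((QuotientGroup.eq_one_iff (x : Y)).1 h1)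
  set π' := (cmap t N).liftOfSurjective hs ⟨π, hker⟩ with hπ'
  have hcomp : ∀ x, π' (cmap t N x) = π x := fun x =>
    MonoidHom.liftOfRightInverse_comp_apply _ _ (Function.rightInverse_surjInv hs) ⟨π, hker⟩ x
  refine ⟨π', ?_, hcomp⟩
  have ht1 : QuotientGroup.mk' N t ≠ 1 := by
    intro h1
    have h2 : t ∈ N := (QuotientGroup.eq_one_iff t).1 h1
    apply hodd
    have h3 : orderOf (⟨t, h2⟩ : N) = 2 := by rw [Subgroup.orderOf_mk]; exact H.orderOf_t
    rw [← h3]
    exact orderOf_dvd_natCard _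
  refine ⟨?_, ?_, ?_, ?_, ?_⟩
  · refine orderOf_eq_prime ?_ ht1
    rw [← map_pow, sq, htt, map_one]
  · intro x hx
    obtain ⟨y, rfl⟩ := QuotientGroup.mk'_surjective N x
    have hcard : Odd (Nat.card N) := by
      rw [← Nat.not_even_iff_odd, even_iff_two_dvd]; exact hodd
    have h1 : y ^ 2 ∈ N := by
      have h2 := pow_orderOf_eq_one (QuotientGroup.mk' N y)
      rw [hx, ← map_pow] at h2
      exact (QuotientGroup.eq_one_iff _).1 h2
    have h2 : (y ^ Nat.card N) ^ 2 = 1 := by
      have h3 : (⟨y ^ 2, h1⟩ : N) ^ Nat.card N = 1 := pow_card_eq_one'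
      have h4 : (y ^ 2) ^ Nat.card N = 1 := congrArg Subtype.val h3
      rw [← pow_mul, mul_comm, pow_mul]
      exact h4
    have h3 : QuotientGroup.mk' N (y ^ Nat.card N) = QuotientGroup.mk' N y := by
      obtain ⟨k, hk'⟩ := hcard
      rw [map_pow, hk', pow_succ, pow_mul, ← hx, pow_orderOf_eq_one, one_pow, one_mul]
    have h4 : orderOf (y ^ Nat.card N) = 2 := by
      refine orderOf_eq_prime h2 ?_
      intro h5
      rw [h5, map_one] at h3
      rw [← h3, orderOf_one] at hx
      omega
    rw [← h3]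
    obtain ⟨c, hc⟩ := isConj_iff.1 (H.one_class _ h4)
    refine isConj_iff.2 ⟨QuotientGroup.mk' N c, ?_⟩
    rw [← hc, map_mul, map_mul, map_inv]
  · intro c
    obtain ⟨x, rfl⟩ := H.surj c
    exact ⟨cmap t N x, hcomp x⟩
  · have h1 : π'.ker = π.ker.map (cmap t N) := by
      ext y
      constructor
      · intro hy
        obtain ⟨x, rfl⟩ := hs y
        rw [MonoidHom.mem_ker, hcomp] at hy
        exact ⟨x, hy, rfl⟩
      · rintro ⟨x, hx, rfl⟩
        rw [MonoidHom.mem_ker, hcomp]
        exact hx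
    rw [h1]
    exact Odd.of_dvd_nat H.odd_ker (Subgroup.card_map_dvd _ _)
  · intro hm
    rw [← map_tt H, ← hcomp]
    rfl

end Quot

end Cfsg.Agent.Classification.QDW.FOneQuot
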