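import Mathlib
import Cfsg.Agent.Classification.QDW.FOneQuot

/-!
# A simple section with the same involution centralizer

If `X` covers `C` and `t` is not isolated in `X` then there are a subgroup `X'` of `X` and a normal
odd order subgroup `N` of `X'` such that `X' ⧸ N` is simple and satisfies `General.Hyp` with the
same `C`.
-/

set_option autoImplicit false
set_option linter.unusedSectionVars false

namespace Cfsg.Agent.Classification.QDW.FOneMin

open Subgroup Cfsg Cfsg.Agent.Classification.RTwo.General Cfsg.Agent.Classification.InvCent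
  Cfsg.Agent.Walter.OddCoreIn Cfsg.Agent.Classification.QDW.FOneGroup
  Cfsg.Agent.Classification.QDW.FOneQuot

universe w v

variable {G : Type w} [Group G] [Finite G] {C : Type v} [Group C] {t : G} {z : C}
  {π : (Subgroup.centralizer ({t} : Set G)) →* C}
  {q : ℕ} {ε : ℤ} {Z T T' U : Subgroup C} {s s' u : C}

/-- The quotient of `X` by its odd core if all proper normal subgroups of `X` have odd order. -/
theorem simple_of_minimal {X : Subgroup G} (htX : t ∈ X) (ht2 : orderOf t = 2)
    (hmin : ∀ N : Subgroup G, N ≤ X → X ≤ normalizer (N : Set G) → 2 ∣ Nat.card N → N = X) :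
    IsSimpleGroup (X ⧸ pPrimeCore 2 X) := by
  have : Fact (Nat.Prime 2) := ⟨Nat.prime_two⟩
  have hodd : ¬ 2 ∣ Nat.card (pPrimeCore 2 X) :=
    (Nat.Prime.coprime_iff_not_dvd Nat.prime_two).1 (Lib.Cores.pPrimeCore_coprime 2).symm
  have hnt : Nontrivial (X ⧸ pPrimeCore 2 X) := by
    refine ⟨⟨QuotientGroup.mk' _ ⟨t, htX⟩, 1, fun h1 => ?_⟩⟩
    have h2 : (⟨t, htX⟩ : X) ∈ pPrimeCore 2 X := (QuotientGroup.eq_one_iff _).1 h1
    apply hodd
    have h3 : orderOf (⟨⟨t, htX⟩, h2⟩ : pPrimeCore 2 X) = 2 := by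
      rw [Subgroup.orderOf_mk, Subgroup.orderOf_mk]; exact ht2
    exact h3.symm.dvd.trans (orderOf_dvd_natCard _)
  refine ⟨fun K hK => ?_⟩
  set L : Subgroup X := K.comap (QuotientGroup.mk' (pPrimeCore 2 X)) with hL
  have hLn : L.Normal := hK.comap _
  have hKL : K = L.map (QuotientGroup.mk' (pPrimeCore 2 X)) := by
    rw [hL, Subgroup.map_comap_eq_self_of_surjective (QuotientGroup.mk'_surjective _)]
  have hcard : Nat.card (L.map X.subtype) = Nat.card L :=
    Subgroup.card_map_of_injective (Subgroup.subtype_injective _)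
  by_cases h2 : 2 ∣ Nat.card L
  · right
    have h3 := hmin (L.map X.subtype) (map_subtype_le _) (by
      have h1 : (L.map X.subtype).subgroupOf X = L := by
        rw [Subgroup.subgroupOf, Subgroup.comap_map_eq_self_of_injective
          (Subgroup.subtype_injective _)]
      rw [← normal_subgroupOf_iff_le_normalizer (map_subtype_le _), h1]
      exact hLn) (by rw [hcard]; exact h2)
    have h4 : L = ⊤ := by
      rw [eq_top_iff]
      intro x _
      have h5 : (x : G) ∈ L.map X.subtype := by rw [h3]; exact x.2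
      obtain ⟨y, hy, hyx⟩ := h5
      have h6 : y = x := Subtype.ext hyx
      rwa [h6] at hy
    rw [hKL, h4, ← MonoidHom.range_eq_map, MonoidHom.range_eq_top]
    exact QuotientGroup.mk'_surjective _
  · left
    have h3 : L ≤ pPrimeCore 2 X :=
      Lib.Cores.le_pPrimeCore hLn ((Nat.Prime.coprime_iff_not_dvd Nat.prime_two).2 h2).symm
    rw [hKL, eq_bot_iff]
    rintro _ ⟨x, hx, rfl⟩
    rw [Subgroup.mem_bot]
    exact (QuotientGroup.eq_one_iff x).2 (h3 hx)

/-- **The simple section.** -/
theorem exists_simple (H : Hyp t z π) (h : CHyp z q ε Z T T' U s s' u)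
    (hO : ∀ N : Subgroup C, N.Normal → Odd (Nat.card N) → N = ⊥)
    (hNm : ∀ N : Subgroup C, N.Normal → u ∈ N → N = ⊤)
    {X : Subgroup G} (hc : Covers π X) (hn : NonIso t X) :
    ∃ (X' : Subgroup G) (N : Subgroup X') (_ : N.Normal) (t₀ : X') (ht : (t₀ : G) = t)
      (π' : (Subgroup.centralizer ({(QuotientGroup.mk' N t₀)} : Set (X' ⧸ N))) →* C),
      X' ≤ X ∧ Odd (Nat.card N) ∧ IsSimpleGroup (X' ⧸ N) ∧
      Hyp (QuotientGroup.mk' N t₀) z π' ∧ ∀ x, π' (cmap t₀ N x) = res π X' t₀ ht x := by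
  induction hk : Nat.card X using Nat.strong_induction_on generalizing X with
  | _ k IH =>
    by_cases hmin : ∀ N : Subgroup G, N ≤ X → X ≤ normalizer (N : Set G) → 2 ∣ Nat.card N → N = X
    · have htX := hc.t_mem H
      have hodd : ¬ 2 ∣ Nat.card (pPrimeCore 2 X) := by
        have : Fact (Nat.Prime 2) := ⟨Nat.prime_two⟩
        exact (Nat.Prime.coprime_iff_not_dvd Nat.prime_two).1
          (Lib.Cores.pPrimeCore_coprime 2).symm
      have hN : (pPrimeCore 2 X).Normal := Lib.Cores.pPrimeCore_normal 2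
      obtain ⟨π', h1, h2⟩ := exists_quot (res_hyp H h hc hn ⟨t, htX⟩ rfl) (pPrimeCore 2 X) hodd
        (by
          intro n hn'
          exact ker_of_odd hO hc (le_normalizer_OO X) (OO_odd X) (incl X ⟨t, htX⟩ rfl n)
            ⟨(n : X), hn', rfl⟩)
      refine ⟨X, pPrimeCore 2 X, hN, ⟨t, htX⟩, rfl, π', le_refl _, ?_,
        simple_of_minimal htX H.orderOf_t hmin, h1, h2⟩
      rw [← Nat.not_even_iff_odd, even_iff_two_dvd]
      exact hodd
    · push Not at hmin
      obtain ⟨N, hNX, hN, h2, hne⟩ := hmin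
      obtain ⟨h3, h4⟩ := normal_of_even H h hO hNm hc hn hNX hN h2
      have hlt : Nat.card N < k := by
        rw [← hk]
        refine lt_of_le_of_ne (Subgroup.card_le_of_le hNX) fun h5 => ?_
        exact hne (Subgroup.eq_of_le_of_card_ge hNX h5.ge)
      obtain ⟨X', K, hK, t₀, ht, π', h5, h6⟩ := IH _ hlt h3 h4 rfl
      exact ⟨X', K, hK, t₀, ht, π', h5.trans hNX, h6⟩

end Cfsg.Agent.Classification.QDW.FOneMin
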