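import Mathlib
import Cfsg.Agent.Classification.QDW.CoreConst
import Cfsg.Agent.Classification.QDW.Coef
import Cfsg.Agent.Classification.InvCent.SDMain

/-!
# One class of involutions in a subgroup: the character argument

`X ≤ G`, `N` normal of odd order in `X`, `t ∈ X`, `π : C(t) → C` and the compatible
`π̄ : C(t N) → C` satisfy `Hyp`.

* `exists_theta`: the `N`-fixed part `Θ` of the restriction to `X` of an irreducible character of the
  principal 2-block of `G` satisfies `(Ind π̄ φ, Θ) = (Ind π φ, χ)`;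
* `char_false`: for `Ind π φ = 1 - X₂ + L`, `Ind π̄ φ = 1 - Y₂ + L'`, `Y₂(1) = (ε q)³`:
  `0 < X₂(1) < q³` is impossible.
-/

set_option autoImplicit false
set_option linter.unusedSectionVars false

namespace Cfsg.Agent.Classification.QDW.OneClassChar

open Subgroup Cfsg Cfsg.Agent.Characters Cfsg.Agent.Classification.RTwo.General
  Cfsg.Agent.Classification.InvCent Cfsg.Agent.Classification.BGOrder
  Cfsg.Agent.Classification.BGBlockB0 Cfsg.Agent.Classification.BGIsometry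
open scoped ComplexConjugate

universe w v

variable {G : Type w} [Group G] [Fintype G] {C : Type v} [Group C] [Fintype C] {t : G} {z : C}
  {π : (Subgroup.centralizer ({t} : Set G)) →* C}

/-- An element `g` of `X` above an element of `C(t N)` having `t N` as a power is conjugate by an
element of `N` to an element of `C(t)`. -/
theorem exists_conj_centralizer {X : Subgroup G} (N : Subgroup X) [N.Normal]
    (hN : Odd (Nat.card N)) (t0 : X) (ht2 : t0 * t0 = 1) (g : X)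
    (hg : (QuotientGroup.mk t0 : X ⧸ N) ∈ Subgroup.zpowers (QuotientGroup.mk g : X ⧸ N)) :
    ∃ c ∈ N, Commute t0 (c * g * c⁻¹) := by
  have hker : Odd (Nat.card (QuotientGroup.mk' N).ker) := by
    rw [QuotientGroup.ker_mk']; exact hN
  obtain ⟨j, hj⟩ := Subgroup.mem_zpowers_iff.1 hg
  have hj' : (QuotientGroup.mk (g ^ j) : X ⧸ N) = QuotientGroup.mk t0 := by
    rw [← hj]; exact QuotientGroup.mk_zpow N g j
  set m := Nat.card N with hm
  have hmem : g ^ j * g ^ j ∈ N := by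
    rw [← QuotientGroup.eq_one_iff, QuotientGroup.mk_mul, hj', ← QuotientGroup.mk_mul, ht2,
      QuotientGroup.mk_one]
  have h1 : (g ^ j * g ^ j) ^ m = 1 :=
    congrArg Subtype.val (pow_card_eq_one' (x := (⟨_, hmem⟩ : N)))
  have hw2 : ((g ^ j) ^ m) ^ 2 ^ 1 = 1 := by
    rw [pow_one, sq, ← (Commute.refl (g ^ j)).mul_pow, h1]
  have ht2' : t0 ^ 2 ^ 1 = 1 := by rw [pow_one, sq, ht2]
  have hmk : QuotientGroup.mk' N ((g ^ j) ^ m) = QuotientGroup.mk' N t0 := by
    rw [QuotientGroup.mk'_apply, QuotientGroup.mk'_apply, QuotientGroup.mk_pow, hj']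
    obtain ⟨k, hk⟩ := hN
    rw [hk, pow_succ, pow_mul, sq, ← QuotientGroup.mk_mul, ht2, QuotientGroup.mk_one, one_pow,
      one_mul]
  obtain ⟨c, hc1, hc2⟩ := CoreConst.exists_conj_ker (QuotientGroup.mk' N) hker _ _ 1 hw2 ht2' hmk
  refine ⟨c, (QuotientGroup.eq_one_iff c).1 hc1, ?_⟩
  have h2 : Commute ((g ^ j) ^ m) g := ((Commute.refl g).zpow_left j).pow_left m
  show t0 * (c * g * c⁻¹) = c * g * c⁻¹ * t0
  rw [← hc2]
  calc c * (g ^ j) ^ m * c⁻¹ * (c * g * c⁻¹) = c * ((g ^ j) ^ m * g) * c⁻¹ := by group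
    _ = c * (g * (g ^ j) ^ m) * c⁻¹ := by rw [h2.eq]
    _ = _ := by group

/-- **The fixed part.** -/
theorem exists_theta (H : Hyp t z π) {M : Ideal AlgInt} (hM : IsPModular 2 M) {φ : C → ℂ}
    (hφ : ∀ c, φ c ≠ 0 → z ∈ Subgroup.zpowers c) {χ : G → ℂ} (hB : InB (principalBlock M G) χ)
    (hχ : IsIrrCharacter G χ) {X : Subgroup G} (N : Subgroup X) [N.Normal]
    (hN : Odd (Nat.card N)) (t0 : X) (ht0 : (t0 : G) = t)
    (pb : (Subgroup.centralizer ({(QuotientGroup.mk t0 : X ⧸ N)} : Set (X ⧸ N))) →* C)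
    (Hb : Hyp (QuotientGroup.mk t0 : X ⧸ N) z pb)
    (hcomp : ∀ (x : X) (hx : (x : G) ∈ Subgroup.centralizer ({t} : Set G))
      (hx' : (QuotientGroup.mk x : X ⧸ N) ∈
        Subgroup.centralizer ({(QuotientGroup.mk t0 : X ⧸ N)} : Set (X ⧸ N))),
      pb ⟨QuotientGroup.mk x, hx'⟩ = π ⟨x, hx⟩) [Fintype (X ⧸ N)] :
    ∃ (Θ : X ⧸ N → ℂ) (χ₀ χ₁ : X → ℂ), IsCharacter X χ₀ ∧ IsCharacter X χ₁ ∧
      (∀ x : X, χ x = χ₀ x + χ₁ x) ∧ (∀ x : X, χ₀ x = Θ (QuotientGroup.mk x)) ∧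
      IsClassFunction (X ⧸ N) Θ ∧ classInner (Ind pb φ) Θ = classInner (Ind π φ) χ := by
  classical
  let _ : Fintype N := Fintype.ofFinite _
  obtain ⟨F, hFc, hF0, hF⟩ := CoreConst.exists_values H M hM hB
  obtain ⟨χ₀, χ₁, h0, h1, hadd, havg, hfix, -⟩ :=
    CoreConst.exists_fixed_moved N (Core.isCharacter_comp X.subtype (Core.isIrr_isCharacter hχ))
  have hdesc : ∀ x y : X, (QuotientGroup.mk x : X ⧸ N) = QuotientGroup.mk y → χ₀ x = χ₀ y := by
    intro x y hxy
    have h2 : y = x * (x⁻¹ * y) := by group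
    rw [h2, hfix x (x⁻¹ * y) (QuotientGroup.eq.1 hxy)]
  let Θ : X ⧸ N → ℂ := fun y => χ₀ y.out
  have hΘ : ∀ x : X, χ₀ x = Θ (QuotientGroup.mk x) := fun x =>
    hdesc _ _ (QuotientGroup.out_eq' _).symm
  have hΘc : IsClassFunction (X ⧸ N) Θ := by
    intro x y
    induction x using QuotientGroup.induction_on with
    | H x =>
      induction y using QuotientGroup.induction_on with
      | H y =>
        rw [← QuotientGroup.mk_inv, ← QuotientGroup.mk_mul, ← QuotientGroup.mk_mul, ← hΘ, ← hΘ]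
        exact Core.isCharacter_isClassFunction h0 x y
  have ht2 : t0 * t0 = 1 := Subtype.ext (by
    rw [Subgroup.coe_mul, ht0, Subgroup.coe_one]; exact t_mul_t H)
  have hχc : IsClassFunction G χ := Core.isIrr_isClassFunction hχ
  -- the values of `χ`
  have key : ∀ (g : X) (hg : (QuotientGroup.mk g : X ⧸ N) ∈
      Subgroup.centralizer ({(QuotientGroup.mk t0 : X ⧸ N)} : Set (X ⧸ N))),
      z ∈ Subgroup.zpowers (pb ⟨QuotientGroup.mk g, hg⟩) →
      χ g = F (pb ⟨QuotientGroup.mk g, hg⟩) := by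
    intro g hg hz
    have h2 : (QuotientGroup.mk t0 : X ⧸ N) ∈ Subgroup.zpowers (QuotientGroup.mk g : X ⧸ N) :=
      mem_zpowers_of_map Hb hz
    obtain ⟨c, hc, hcom⟩ := exists_conj_centralizer N hN t0 ht2 g h2
    have hmk : (QuotientGroup.mk (c * g * c⁻¹) : X ⧸ N) = QuotientGroup.mk g := by
      rw [QuotientGroup.mk_mul, QuotientGroup.mk_mul, QuotientGroup.mk_inv,
        (QuotientGroup.eq_one_iff c).2 hc, one_mul, inv_one, mul_one]
    have hx : ((c * g * c⁻¹ : X) : G) ∈ Subgroup.centralizer ({t} : Set G) := by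
      rw [Subgroup.mem_centralizer_singleton_iff, ← ht0]
      exact congrArg Subtype.val hcom.symm.eq
    have hx' : (QuotientGroup.mk (c * g * c⁻¹) : X ⧸ N) ∈
        Subgroup.centralizer ({(QuotientGroup.mk t0 : X ⧸ N)} : Set (X ⧸ N)) := by
      rw [hmk]; exact hg
    have h3 := hcomp _ hx hx'
    have h4 : (⟨QuotientGroup.mk (c * g * c⁻¹), hx'⟩ :
        Subgroup.centralizer ({(QuotientGroup.mk t0 : X ⧸ N)} : Set (X ⧸ N))) =
        ⟨QuotientGroup.mk g, hg⟩ := Subtype.ext hmk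
    rw [h4] at h3
    rw [h3] at hz ⊢
    rw [← hF _ hz]
    exact (hχc (g : G) (c : G)).symm
  refine ⟨Θ, χ₀, χ₁, h0, h1, fun x => congrFun hadd x, hΘ, hΘc, ?_⟩
  have e1 : classInner (Ind π φ) χ = classInner φ F :=
    classInner_ind_values H hχc (fun x hx => hF x (hφ _ hx))
  rw [e1]
  refine classInner_ind_values Hb hΘc ?_
  rintro ⟨x, hx⟩ hx0
  induction x using QuotientGroup.induction_on with
  | H x =>
    have hz := hφ _ hx0
    show Θ (QuotientGroup.mk x) = F (pb ⟨QuotientGroup.mk x, hx⟩)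
    rw [← hΘ, havg x]
    have h3 : ∀ k : N, ((χ : G → ℂ) ∘ X.subtype) (x * k) =
        F (pb ⟨QuotientGroup.mk x, hx⟩) := by
      intro k
      have hmk : (QuotientGroup.mk (x * k) : X ⧸ N) = QuotientGroup.mk x := by
        rw [QuotientGroup.mk_mul, (QuotientGroup.eq_one_iff (k : X)).2 k.2, mul_one]
      have h5 : (QuotientGroup.mk (x * k) : X ⧸ N) ∈
          Subgroup.centralizer ({(QuotientGroup.mk t0 : X ⧸ N)} : Set (X ⧸ N)) := by
        rw [hmk]; exact hx
      have h4 : (⟨QuotientGroup.mk (x * k), h5⟩ :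
          Subgroup.centralizer ({(QuotientGroup.mk t0 : X ⧸ N)} : Set (X ⧸ N))) =
          ⟨QuotientGroup.mk x, hx⟩ := Subtype.ext hmk
      have h6 := key (x * k) h5 (by rw [h4]; exact hz)
      rw [h4] at h6
      exact h6
    rw [Finset.sum_congr rfl (fun k _ => h3 k), Finset.sum_const, Finset.card_univ, nsmul_eq_mul,
      ← Nat.card_eq_fintype_card, ← mul_assoc, inv_mul_cancel₀ Core.card_ne_zero_complex, one_mul]

/-- Inner product of `Θ` with an irreducible character of the quotient: a natural number, and the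
degree is a bound if it is not zero. -/
theorem exists_mult {X : Type w} [Group X] [Fintype X] {N : Subgroup X} [N.Normal]
    [Fintype (X ⧸ N)] {Θ : X ⧸ N → ℂ} {χ₀ : X → ℂ} (h0 : IsCharacter X χ₀)
    (hΘ : ∀ x : X, χ₀ x = Θ (QuotientGroup.mk x)) {Y : X ⧸ N → ℂ} (hY : IsIrrCharacter (X ⧸ N) Y) :
    ∃ k : ℕ, classInner Y Θ = k ∧
      (k ≠ 0 → ∃ d e : ℕ, χ₀ 1 = d ∧ Y 1 = e ∧ e ≤ d) := by
  classical
  have hcomp := classInner_comp (QuotientGroup.mk' N) (QuotientGroup.mk'_surjective N) Y Θ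
  have e1 : (fun x => Θ (QuotientGroup.mk' N x)) = χ₀ := by
    funext x
    exact (hΘ x).symm
  rw [e1] at hcomp
  have hYi : IsIrrCharacter X (Y ∘ (QuotientGroup.mk' N)) :=
    Core.isIrr_comp _ (QuotientGroup.mk'_surjective N) hY
  obtain ⟨k, hk⟩ := Core.classInner_isNat (Core.isIrr_isCharacter hYi) h0
  have hk' : classInner Y Θ = k := by rw [← hcomp, ← hk]; rfl
  refine ⟨k, hk', fun hk0 => ?_⟩
  have h2 : classInner χ₀ (Y ∘ (QuotientGroup.mk' N)) ≠ 0 := by
    rw [← Core.classInner_conj_symm, hk, Complex.conj_natCast]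
    exact_mod_cast hk0
  obtain ⟨χ', hχ', hadd⟩ := Coef.exists_add_of_classInner h0 hYi h2
  obtain ⟨d, hd⟩ := Core.isCharacter_apply_one h0
  obtain ⟨e, -, he⟩ := Core.isIrr_apply_one hY
  obtain ⟨f, hf⟩ := Core.isCharacter_apply_one hχ'
  refine ⟨d, e, hd, he, ?_⟩
  have h3 := congrFun hadd 1
  rw [Pi.add_apply, hd, hf, Function.comp_apply, map_one, he] at h3
  have h4 : d = e + f := by exact_mod_cast h3
  omega

variable {q : ℕ} {ε : ℤ} {Z T T' U : Subgroup C} {s s' u : C}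

/-- **The character argument.** -/
theorem char_false (H : Hyp t z π) (h : CHyp z q ε Z T T' U s s' u) {M : Ideal AlgInt}
    (hM : IsPModular 2 M) {φ : C → ℂ} (hφ : ∀ c, φ c ≠ 0 → z ∈ Subgroup.zpowers c)
    {X₂ L : G → ℂ} (in₂ : InB (principalBlock M G) X₂) (sL : SignedIrr L) {f : ℤ}
    (one₂ : X₂ 1 = f) (h12 : X₂ ≠ 1) (h2L : X₂ ≠ L) (h2L' : X₂ ≠ -L)
    (hE : Ind π φ = 1 - X₂ + L) (hf0 : 0 < f) (hf : f < q ^ 3) {X : Subgroup G} (N : Subgroup X)
    [N.Normal] (hN : Odd (Nat.card N)) (t0 : X) (ht0 : (t0 : G) = t)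
    (pb : (Subgroup.centralizer ({(QuotientGroup.mk t0 : X ⧸ N)} : Set (X ⧸ N))) →* C)
    (Hb : Hyp (QuotientGroup.mk t0 : X ⧸ N) z pb)
    (hcomp : ∀ (x : X) (hx : (x : G) ∈ Subgroup.centralizer ({t} : Set G))
      (hx' : (QuotientGroup.mk x : X ⧸ N) ∈
        Subgroup.centralizer ({(QuotientGroup.mk t0 : X ⧸ N)} : Set (X ⧸ N))),
      pb ⟨QuotientGroup.mk x, hx'⟩ = π ⟨x, hx⟩) [Fintype (X ⧸ N)] {Y₂ L' : X ⧸ N → ℂ}
    (s₂' : SignedIrr Y₂) (sL' : SignedIrr L') (hE' : Ind pb φ = 1 - Y₂ + L')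
    (one₂' : Y₂ 1 = ((ε * q) ^ 3 : ℤ)) : False := by
  classical
  let _ : Fintype X := Fintype.ofFinite _
  -- `X₂` is a character
  have hirr : IsIrrCharacter G X₂ := by
    rcases in₂.signedIrr with h1 | h1
    · exact h1
    · exfalso
      obtain ⟨n, hn, h2⟩ := Core.isIrr_apply_one h1
      rw [Pi.neg_apply, one₂] at h2
      have h3 : -f = (n : ℤ) := by exact_mod_cast h2
      omega
  -- the inner product
  have i1 : classInner (1 : G → ℂ) X₂ = 0 := Core.classInner_irr_ne Core.isIrr_one hirr h12.symm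
  have i2 : classInner X₂ X₂ = 1 := Core.classInner_irr_self hirr
  have i3 : classInner L X₂ = 0 := by
    rcases sL with h1 | h1
    · exact Core.classInner_irr_ne h1 hirr h2L.symm
    · have h2 := Core.classInner_irr_ne h1 hirr h2L'.symm
      rw [Core.classInner_neg_left] at h2
      exact neg_eq_zero.1 h2
  obtain ⟨Θ, χ₀, χ₁, c0, c1, hadd, hΘ, hΘc, hin⟩ :=
    exists_theta H hM hφ in₂ hirr N hN t0 ht0 pb Hb hcomp
  rw [hE, Core.classInner_add_left, Core.classInner_sub_left, i1, i2, i3, hE',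
    Core.classInner_add_left, Core.classInner_sub_left] at hin
  -- degrees
  obtain ⟨d₁, hd₁⟩ := Core.isCharacter_apply_one c1
  obtain ⟨d, hd⟩ := Core.isCharacter_apply_one c0
  have hdf : (d : ℤ) ≤ f := by
    have h1 := hadd 1
    rw [OneMemClass.coe_one, one₂, hd, hd₁] at h1
    have h2 : f = (d : ℤ) + d₁ := by exact_mod_cast h1
    omega
  have hL1 : L' 1 = ((ε * q) ^ 3 - 1 : ℤ) := by
    have h1 := congrFun hE' 1
    have h2 : Ind pb φ 1 = 0 := ind_one Hb hφ
    rw [h2, Pi.add_apply, Pi.sub_apply, Pi.one_apply, one₂'] at h1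
    push_cast at h1 ⊢
    linear_combination -h1
  have hq := h.one_lt_q
  have hq3 : (1 : ℤ) < (q : ℤ) ^ 3 := by
    have : 1 < q ^ 3 := Nat.one_lt_pow (by norm_num) hq
    exact_mod_cast this
  obtain ⟨a, ha, -⟩ := exists_mult c0 hΘ (Core.isIrr_one (G := X ⧸ N))
  rw [ha] at hin
  -- signs
  have hsign : ∀ {Y : X ⧸ N → ℂ} {y : ℤ}, SignedIrr Y → Y 1 = y →
      (0 < y → IsIrrCharacter (X ⧸ N) Y) ∧ (y < 0 → IsIrrCharacter (X ⧸ N) (-Y)) := by
    intro Y y hY hy
    rcases hY with h1 | h1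
    · obtain ⟨n, hn, h2⟩ := Core.isIrr_apply_one h1
      rw [hy] at h2
      have h3 : y = (n : ℤ) := by exact_mod_cast h2
      exact ⟨fun _ => h1, fun h4 => by omega⟩
    · obtain ⟨n, hn, h2⟩ := Core.isIrr_apply_one h1
      rw [Pi.neg_apply, hy] at h2
      have h3 : -y = (n : ℤ) := by exact_mod_cast h2
      exact ⟨fun h4 => by omega, fun _ => h1⟩
  rcases h.eps with hε | hε
  · have e2 : ((ε * q) ^ 3 : ℤ) = (q : ℤ) ^ 3 := by rw [hε, one_mul]
    rw [e2] at one₂' hL1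
    have hY : IsIrrCharacter (X ⧸ N) Y₂ := (hsign s₂' one₂').1 (by omega)
    have hL : IsIrrCharacter (X ⧸ N) L' := (hsign sL' hL1).1 (by omega)
    obtain ⟨b, hb, hb'⟩ := exists_mult c0 hΘ hY
    obtain ⟨c, hc, -⟩ := exists_mult c0 hΘ hL
    rw [hb, hc] at hin
    have h1 : (a : ℤ) - b + c = -1 := by
      have : (((a : ℤ) - b + c : ℤ) : ℂ) = ((-1 : ℤ) : ℂ) := by
        push_cast
        rw [hin]
        ring
      exact_mod_cast this
    obtain ⟨d', e, hd', he, hle⟩ := hb' (by omega)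
    rw [one₂'] at he
    rw [hd] at hd'
    have h2 : (q : ℤ) ^ 3 = (e : ℤ) := by exact_mod_cast he
    have h3 : d = d' := by exact_mod_cast hd'
    omega
  · have e2 : ((ε * q) ^ 3 : ℤ) = -(q : ℤ) ^ 3 := by rw [hε]; ring
    rw [e2] at one₂' hL1
    have hY : IsIrrCharacter (X ⧸ N) (-Y₂) := (hsign s₂' one₂').2 (by omega)
    have hL : IsIrrCharacter (X ⧸ N) (-L') := (hsign sL' hL1).2 (by omega)
    obtain ⟨b, hb, -⟩ := exists_mult c0 hΘ hY
    obtain ⟨c, hc, hc'⟩ := exists_mult c0 hΘ hL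
    rw [Core.classInner_neg_left] at hb hc
    have h1 : (a : ℤ) + b - c = -1 := by
      have : (((a : ℤ) + b - c : ℤ) : ℂ) = ((-1 : ℤ) : ℂ) := by
        push_cast
        rw [← hb, ← hc]
        linear_combination hin
      exact_mod_cast this
    obtain ⟨d', e, hd', he, hle⟩ := hc' (by omega)
    rw [Pi.neg_apply, hL1] at he
    rw [hd] at hd'
    have h2 : (q : ℤ) ^ 3 + 1 = (e : ℤ) := by
      have : (((q : ℤ) ^ 3 + 1 : ℤ) : ℂ) = ((e : ℤ) : ℂ) := by
        push_cast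
        push_cast at he
        linear_combination he
      exact_mod_cast this
    have h3 : d = d' := by exact_mod_cast hd'
    omega

end Cfsg.Agent.Classification.QDW.OneClassChar
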