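import Mathlib
import Cfsg.Agent.Classification.QDW.FOneMin
import Cfsg.Agent.Classification.QDW.FOneStruct
import Cfsg.Agent.Classification.QDW.OneClassChar
import Cfsg.Agent.Classification.InvCent.SDFull
import Cfsg.Agent.Classification.InvCent.SDEnd

/-!
# The one-class exclusion ((3) of post 4737 of the board)

`G` has one class of involutions, `π : C(t) → C` as in `SDRes`, `0 < X₂(1) < q³`, and every smaller
simple group with the same `C` has `X₂(1) = (ε q)³` (`Ind3`). Then `t` is isolated in every proper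
subgroup covering `C`, so such a subgroup `X` factorises as `O(X) C_X(t)`.
-/

set_option autoImplicit false
set_option linter.unusedSectionVars false

namespace Cfsg.Agent.Classification.QDW.FOne

open Subgroup Cfsg Cfsg.Agent.Characters Cfsg.Agent.Classification.RTwo.General
  Cfsg.Agent.Classification.InvCent Cfsg.Agent.Classification.BGOrder
  Cfsg.Agent.Classification.BGBlockB0 Cfsg.Agent.Classification.BGIsometry
  Cfsg.Agent.Walter.OddCoreIn Cfsg.Agent.Walter.Cover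
  Cfsg.Agent.Classification.QDW.FOneGroup Cfsg.Agent.Classification.QDW.FOneQuot
  Cfsg.Agent.Classification.QDW.FOneMin Cfsg.Agent.Classification.QDW.FOneStruct

universe w v

section

variable {C : Type v} [Group C] [Fintype C] {z : C}
  {q : ℕ} {ε : ℤ} {Z T T' U : Subgroup C} {s s' u : C}

/-- The inductive hypothesis: all simple groups of order less than `N` with the same `C` have
`X₂(1) = (ε q)³`. -/
def Ind3 (h : CHyp z q ε Z T T' U s s' u) (μ : U →* ℂˣ) (N : ℕ) : Prop :=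
  ∀ (Y : Type w) [Group Y] [Fintype Y], IsSimpleGroup Y → Nat.card Y < N →
    ∀ (t' : Y) (π' : (Subgroup.centralizer ({t'} : Set Y)) →* C), Hyp t' z π' →
    ∀ (M : Ideal AlgInt) (X₂ X₃ X₄ X₅ L : Y → ℂ) (f x : ℤ), IsPModular 2 M →
    SDRes M h μ π' X₂ X₃ X₄ X₅ L f x → f = (ε * q) ^ 3

variable {G : Type w} [Group G] [Fintype G] {t : G}
  {π : (Subgroup.centralizer ({t} : Set G)) →* C}

theorem not_comm_of_hyp {Y : Type w} [Group Y] {t' : Y}
    {π' : (Subgroup.centralizer ({t'} : Set Y)) →* C} (H : Hyp t' z π')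
    (h : CHyp z q ε Z T T' U s s' u) : ∃ a b : Y, a * b ≠ b * a := by
  obtain ⟨x, hx⟩ := H.surj s
  obtain ⟨y, hy⟩ := H.surj u
  refine ⟨x, y, fun h1 => ?_⟩
  have h2 : x * y = y * x := Subtype.ext h1
  have h3 : s * u = u * s := by rw [← hx, ← hy, ← map_mul, h2, map_mul]
  have h4 := h.s_u
  rw [h3, mul_inv_cancel_right] at h4
  have h5 : z = 1 := mul_eq_right.1 h4.symm
  exact z_ne_one H h5

/-- **The one-class exclusion.** -/
theorem not_nonIso (H : Hyp t z π) {h : CHyp z q ε Z T T' U s s' u} {b : C →* ℂˣ}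
    (hD : DetHyp q ε T T' U s s' u 2 b) {M : Ideal AlgInt} (hM : IsPModular 2 M)
    {μ : U →* ℂˣ} (hμ : ∃ v : U, μ v ≠ 1) {θ : T' →* ℂˣ} {n : ℕ} {χ : T →* ℂˣ}
    (g : Gen h b θ n) (c : Chi h b χ)
    (hO : ∀ N : Subgroup C, N.Normal → Odd (Nat.card N) → N = ⊥)
    (hNm : ∀ N : Subgroup C, N.Normal → u ∈ N → N = ⊤)
    (IH : Ind3.{w} h μ (Nat.card G)) {X₂ X₃ X₄ X₅ L : G → ℂ} {f x : ℤ}
    (R : SDRes M h μ π X₂ X₃ X₄ X₅ L f x) (hE : Ind π (phi h μ θ 1) = 1 - X₂ + L)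
    (hf0 : 0 < f) (hf : f < (q : ℤ) ^ 3) {X : Subgroup G} (hX : X ≠ ⊤) (hc : Covers π X) :
    ¬ NonIso t X := by
  classical
  intro hn
  obtain ⟨X', N, hN, t₀, ht, π', hle, hodd, hs, H', hcomp⟩ := exists_simple H h hO hNm hc hn
  let _ : Fintype (X' ⧸ N) := Fintype.ofFinite _
  have hcard : Nat.card (X' ⧸ N) < Nat.card G := by
    have h1 : Nat.card (X' ⧸ N) ≤ Nat.card X' := by
      have h2 := Subgroup.card_eq_card_quotient_mul_card_subgroup N
      rw [h2]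
      exact Nat.le_mul_of_pos_right _ Nat.card_pos
    have h3 : Nat.card X' < Nat.card G := by
      refine lt_of_le_of_ne (Subgroup.card_le_card_group X') fun h4 => ?_
      have h5 : X' = ⊤ := Subgroup.eq_top_of_card_eq X' h4
      rw [h5] at hle
      exact hX (top_le_iff.1 hle)
    omega
  obtain ⟨Y₂, Y₃, Y₄, Y₅, L', f', x', R'⟩ := exists_sdFull H' g c hD hμ hM
    (fun Y hY h1 => SDEnd.eq_one_of_degree (not_comm_of_hyp H' h) hY h1)
  have hf' := IH (X' ⧸ N) hs hcard _ π' H' M Y₂ Y₃ Y₄ Y₅ (L' 1) f' x' hM R'.toSDRes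
  have hq := h.one_lt_q
  have ht2 := R.t₂
  refine OneClassChar.char_false H h hM (φ := phi h μ θ 1) (fun c hc => g.phi_supp hμ _ hc)
    R.in₂ R.inL.signedIrr R.one₂ ?_ ?_ ?_ hE hf0 hf N hodd t₀ ht π' H' ?_
    R'.in₂.signedIrr R'.inL.signedIrr (R'.eqΦ 1 ?_) ?_
  · intro h1
    rw [h1] at ht2
    have h2 : (1 : ℂ) = ((ε * q : ℤ) : ℂ) := by push_cast; exact ht2
    have h3 : (1 : ℤ) = ε * q := by exact_mod_cast h2
    rcases h.eps with h4 | h4 <;> rw [h4] at h3 <;> omega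
  · intro h1
    have h2 := R.tL
    rw [← h1, ht2] at h2
    have h3 : ((ε * q : ℤ) : ℂ) = ((1 - ε * q : ℤ) : ℂ) := by push_cast; exact h2
    have h4 : (ε * q : ℤ) = 1 - ε * q := by exact_mod_cast h3
    omega
  · intro h1
    have h2 := R.tL
    rw [h1, Pi.neg_apply, h2] at ht2
    have h3 : ((-(1 - ε * q) : ℤ) : ℂ) = ((ε * q : ℤ) : ℂ) := by push_cast; exact ht2
    have h4 : (-(1 - ε * q) : ℤ) = ε * q := by exact_mod_cast h3
    omega
  · intro y hy hy'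
    have h1 : y ∈ Subgroup.centralizer ({t₀} : Set X') := by
      rw [Subgroup.mem_centralizer_singleton_iff] at hy ⊢
      apply Subtype.ext
      rw [← ht] at hy
      exact hy
    exact hcomp ⟨y, h1⟩
  · intro h1
    have h2 := Nat.le_of_dvd one_pos h1
    have h3 : 1 < 2 ^ (n - 1) := Nat.one_lt_two_pow (by have := g.three_le; omega)
    omega
  · rw [R'.one₂, hf']

/-- **(F1)**, for a proper subgroup covering `C(t)/O(C(t))`. -/
theorem factor_t (H : Hyp t z π) {h : CHyp z q ε Z T T' U s s' u} {b : C →* ℂˣ}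
    (hD : DetHyp q ε T T' U s s' u 2 b) {M : Ideal AlgInt} (hM : IsPModular 2 M)
    {μ : U →* ℂˣ} (hμ : ∃ v : U, μ v ≠ 1) {θ : T' →* ℂˣ} {n : ℕ} {χ : T →* ℂˣ}
    (g : Gen h b θ n) (c : Chi h b χ)
    (hker : ∀ x : Subgroup.centralizer ({t} : Set G),
      (x : G) ∈ centralizerPPrimeCore 2 t → π x = 1)
    (hNm : ∀ N : Subgroup C, N.Normal → u ∈ N → N = ⊤)
    (IH : Ind3.{w} h μ (Nat.card G)) {X₂ X₃ X₄ X₅ L : G → ℂ} {f x : ℤ}
    (R : SDRes M h μ π X₂ X₃ X₄ X₅ L f x) (hE : Ind π (phi h μ θ 1) = 1 - X₂ + L)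
    (hf0 : 0 < f) (hf : f < (q : ℤ) ^ 3) (X : Subgroup G) (hc : Cov t X) (hX : X ≠ ⊤) :
    ∀ x ∈ X, ∃ o ∈ OO X, ∃ n ∈ X ⊓ Subgroup.centralizer ({t} : Set G), x = o * n := by
  have hc' := covers_of_cov H hker hc
  exact factor H.orderOf_t (hc'.t_mem H)
    (not_nonIso H hD hM hμ g c (odd_normal_eq_bot H hker) hNm IH R hE hf0 hf hX hc')

/-- **(F1)**, in the form of `Theta.Frame.factor`. -/
theorem factor_frame (H : Hyp t z π) {h : CHyp z q ε Z T T' U s s' u} {b : C →* ℂˣ}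
    (hD : DetHyp q ε T T' U s s' u 2 b) {M : Ideal AlgInt} (hM : IsPModular 2 M)
    {μ : U →* ℂˣ} (hμ : ∃ v : U, μ v ≠ 1) {θ : T' →* ℂˣ} {n : ℕ} {χ : T →* ℂˣ}
    (g : Gen h b θ n) (c : Chi h b χ)
    (hker : ∀ x : Subgroup.centralizer ({t} : Set G),
      (x : G) ∈ centralizerPPrimeCore 2 t → π x = 1)
    (hNm : ∀ N : Subgroup C, N.Normal → u ∈ N → N = ⊤)
    (IH : Ind3.{w} h μ (Nat.card G)) {X₂ X₃ X₄ X₅ L : G → ℂ} {f x : ℤ}
    (R : SDRes M h μ π X₂ X₃ X₄ X₅ L f x) (hE : Ind π (phi h μ θ 1) = 1 - X₂ + L)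
    (hf0 : 0 < f) (hf : f < (q : ℤ) ^ 3) (a : G) (haa : a * a = 1) (ha1 : a ≠ 1)
    (X : Subgroup G) (hc : Cov a X) (hX : X ≠ ⊤) :
    ∀ x ∈ X, ∃ o ∈ OO X, ∃ n ∈ X ⊓ Subgroup.centralizer ({a} : Set G), x = o * n := by
  obtain ⟨k, rfl⟩ := isConj_iff.1
    (H.one_class a (orderOf_eq_prime (by rw [sq]; exact haa) ha1))
  exact factor_conj (factor_t H hD hM hμ g c hker hNm IH R hE hf0 hf) k X hc hX

end

end Cfsg.Agent.Classification.QDW.FOne
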