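import Mathlib
import Cfsg.Agent.Classification.QDW.CDataInst
import Cfsg.Agent.Classification.QDW.EndMain
import Cfsg.Agent.Classification.QDW.FOne
import Cfsg.Agent.Classification.InvCent.GLSemi
import Cfsg.Agent.Classification.InvCentU.Main
import Cfsg.Agent.SmallSimple.Embed

/-!
# `X₂(1) = Q³` if the core of `C(t)` is central, and the induction

* `root`: the degree is determined by the index;
* `index_eq`: the index of `C(t)` if its core is central;
* `cube`: then `X₂(1) = Q³`;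
* `ind`: the induction discharging `FOne.Ind3`.
-/

set_option autoImplicit false
set_option linter.unusedSectionVars false

open Matrix

namespace Cfsg.Agent.Classification.QDW.Cube

open Cfsg Cfsg.Agent.Classification.RTwo.General Cfsg.Agent.Classification.InvCent
  Cfsg.Agent.Classification.QDW.InstC Cfsg.Agent.Classification.BGOrder
  Cfsg.Agent.Classification.QDW.EndLocal Cfsg.Agent.Classification.QDW.EndMain
  Cfsg.Agent.Classification.InvCent.GPair

universe w v

/-- The root of the quadratic equation. -/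
theorem root {Q n κ f : ℤ} (hQ : 3 ≤ |Q|) (hκ : κ ≠ 0)
    (hn : n = κ ^ 2 * (Q ^ 2 * (Q ^ 2 + Q + 1)))
    (eqA : n * (f - Q) ^ 2 = κ ^ 2 * (Q * (Q - 1) * (Q + 1) ^ 2 * f * (f - 1))) : f = Q ^ 3 := by
  have hQ0 : Q ≠ 0 := by
    rintro rfl
    norm_num at hQ
  have h1 : κ ^ 2 * (Q * ((f - Q ^ 3) * ((2 * Q + 1) * f - (Q ^ 2 + Q + 1)))) = 0 := by
    rw [hn] at eqA
    linear_combination eqA
  have h2 : (f - Q ^ 3) * ((2 * Q + 1) * f - (Q ^ 2 + Q + 1)) = 0 := by
    rcases mul_eq_zero.1 h1 with h | h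
    · exact absurd h (pow_ne_zero 2 hκ)
    · exact (mul_eq_zero.1 h).resolve_left hQ0
  rcases mul_eq_zero.1 h2 with h | h
  · linarith
  · exfalso
    have h3 : (2 * Q + 1) ∣ 3 := ⟨4 * f - (2 * Q + 1), by linear_combination -4 * h⟩
    have h4 := Int.le_of_dvd (by norm_num) h3
    have h5 := Int.le_of_dvd (by norm_num) ((neg_dvd).2 h3)
    rcases le_abs.1 hQ with h6 | h6 <;> omega

section Gen

variable {G : Type w} [Group G] [Finite G] {C : Type v} [Group C] {t : G} {z : C}
  {π : (Subgroup.centralizer ({t} : Set G)) →* C}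

/-- A central kernel: one involution over each involution. -/
theorem kap_one (h : Hyp t z π)
    (hKc : ∀ k, π k = 1 → ∀ c : Subgroup.centralizer ({t} : Set G), c * k = k * c) {u : C}
    (hu : orderOf u = 2) : kap π u = 1 := by
  have huu : u * u = 1 := by
    have := pow_orderOf_eq_one u
    rwa [hu, pow_two] at this
  have hu1 : u ≠ 1 := by
    rintro rfl
    rw [orderOf_one] at hu
    omega
  have h1 := (kap_odd' h huu hu1).pos
  rw [kap] at h1 ⊢
  refine Nat.card_eq_one_iff_unique.2 ⟨⟨?_⟩, (Nat.card_pos_iff.1 h1).1⟩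
  rintro ⟨x, hx, hxu⟩ ⟨y, hy, hyu⟩
  apply Subtype.ext
  have hxx : x * x = 1 := by
    have := pow_orderOf_eq_one x
    rwa [hx, pow_two] at this
  have hyy : y * y = 1 := by
    have := pow_orderOf_eq_one y
    rwa [hy, pow_two] at this
  exact eq_of_map_eq h hKc hxx hyy (hxu.trans hyu.symm)

/-- Sylow 2-subgroups of `G` and `C` are isomorphic. -/
theorem nonempty_sylow (H : Hyp t z π) (S₀ : Sylow 2 C) (P : Sylow 2 G) :
    Nonempty ((S₀ : Subgroup C) ≃* (P : Subgroup G)) := by
  have hp : Fact (Nat.Prime 2) := ⟨Nat.prime_two⟩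
  have hfC : Finite C := Finite.of_surjective π H.surj
  obtain ⟨R⟩ : Nonempty (Sylow 2 (Subgroup.centralizer ({t} : Set G))) := inferInstance
  have hker : (Nat.card π.ker).Coprime 2 := Nat.coprime_two_right.2 H.odd_ker
  obtain ⟨e1⟩ := Cfsg.Agent.TwoFusion.QGroupQuotient.nonempty_equiv_map π
    (R : Subgroup (Subgroup.centralizer ({t} : Set G))) (fun x hx hx1 =>
      Cfsg.Agent.TwoFusion.QGroupQuotient.eq_one_of_isPGroup_of_coprime R.2 hker hx
        (MonoidHom.mem_ker.2 hx1))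
  have e2 : (S₀ : Subgroup C) ≃* ((R.mapSurjective H.surj : Sylow 2 C) : Subgroup C) :=
    Sylow.equiv _ _
  have hodd : Odd (Subgroup.centralizer ({t} : Set G)).index := by
    let _ : Fintype G := Fintype.ofFinite G
    exact RTwo.SDChar.odd_index H.orderOf_t H.one_class
  have hnd : ¬ 2 ∣ ((R : Subgroup (Subgroup.centralizer ({t} : Set G))).map
      (Subgroup.centralizer ({t} : Set G)).subtype).index := by
    rw [Subgroup.index_map_subtype]
    intro h1
    rcases (Nat.Prime.dvd_mul Nat.prime_two).1 h1 with h2 | h2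
    · exact R.not_dvd_index h2
    · exact (Nat.not_even_iff_odd.2 hodd) (even_iff_two_dvd.2 h2)
  let P' : Sylow 2 G := (R.2.map (Subgroup.centralizer ({t} : Set G)).subtype).toSylow hnd
  have e3 : (P' : Subgroup G) ≃* (P : Subgroup G) := Sylow.equiv P' P
  have e4 : (R : Subgroup (Subgroup.centralizer ({t} : Set G))) ≃* (P' : Subgroup G) :=
    Subgroup.equivMapOfInjective _ _ (Subgroup.subtype_injective _)
  exact ⟨e2.trans (e1.symm.trans (e4.trans e3))⟩

/-- The kernel is the core. -/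
theorem map_eq_one_iff (H : Hyp t z π)
    (hO : ∀ N : Subgroup C, N.Normal → Odd (Nat.card N) → N = ⊥)
    (x : Subgroup.centralizer ({t} : Set G)) :
    π x = 1 ↔ (x : G) ∈ centralizerPPrimeCore 2 t := by
  have hp : Fact (Nat.Prime 2) := ⟨Nat.prime_two⟩
  constructor
  · intro h1
    refine ⟨x, ?_, rfl⟩
    exact Cfsg.Agent.Lib.Cores.le_pPrimeCore (N := π.ker) inferInstance
      (Nat.coprime_two_right.2 H.odd_ker) (MonoidHom.mem_ker.2 h1)
  · rintro ⟨x', hx', hx⟩
    have hx'' : x' = x := Subtype.ext hx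
    subst hx''
    have h1 : (pPrimeCore 2 (Subgroup.centralizer ({t} : Set G))).map π = ⊥ := by
      refine hO _ (Subgroup.Normal.map inferInstance π H.surj) ?_
      have h2 : Odd (Nat.card (pPrimeCore 2 (Subgroup.centralizer ({t} : Set G)))) :=
        Nat.coprime_two_right.1 (Cfsg.Agent.Lib.Cores.pPrimeCore_coprime 2)
      exact Odd.of_dvd_nat h2 (Subgroup.card_map_dvd _ _)
    have h3 : π x' ∈ (pPrimeCore 2 (Subgroup.centralizer ({t} : Set G))).map π := ⟨x', hx', rfl⟩
    rw [h1, Subgroup.mem_bot] at h3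
    exact h3

/-- Central elements of odd order are mapped to one. -/
theorem map_eq_one_of_center {M : Type*} [Group M] {ψ : M →* C}
    (hψ : Function.Surjective ψ)
    (hO : ∀ N : Subgroup C, N.Normal → Odd (Nat.card N) → N = ⊥) :
    ∀ x ∈ Subgroup.center M, Odd (orderOf x) → ψ x = 1 := by
  intro x hx hxo
  have h1 : (Subgroup.zpowers (ψ x)).Normal := by
    refine ⟨fun n hn g => ?_⟩
    obtain ⟨g', rfl⟩ := hψ g
    obtain ⟨k, rfl⟩ := Subgroup.mem_zpowers_iff.1 hn
    have h2 : g' * x ^ k = x ^ k * g' :=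
      (Subgroup.mem_center_iff.1 ((Subgroup.center M).zpow_mem hx k) g')
    rw [← map_zpow, ← map_mul, h2, map_mul, mul_inv_cancel_right, map_zpow]
    exact Subgroup.zpow_mem _ (Subgroup.mem_zpowers _) k
  have h2 : Subgroup.zpowers (ψ x) = ⊥ := by
    refine hO _ h1 ?_
    rw [Nat.card_zpowers]
    exact Odd.of_dvd_nat hxo (orderOf_map_dvd ψ x)
  exact Subgroup.zpowers_eq_bot.1 h2

end Gen

/-- The model of `C`. -/
def Model (C : Type v) [Group C] (q : ℕ) (ε : ℤ) : Prop :=
  (ε = 1 ∧ q % 4 = 3 ∧ ∃ (F : Type) (_ : Field F) (_ : Fintype F) (ψ : GL (Fin 2) F →* C),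
      InstGL.Setup ψ ∧ Fintype.card F = q) ∨
  (ε = -1 ∧ q % 4 = 1 ∧ ∃ (F : Type) (_ : Field F) (_ : Fintype F) (σ : F →+* F) (κ : Fˣ)
      (ψ : Cfsg.GU 2 F q →* C), InstGU.Setup q σ κ ψ ∧ Fintype.card F = q ^ 2)

section Index

variable {G : Type w} [Group G] [Finite G] [IsSimpleGroup G] {C : Type v} [Group C] {t : G} {z : C}
  {π : (Subgroup.centralizer ({t} : Set G)) →* C} {q : ℕ} {ε : ℤ}

/-- Numbers: `|C(t)|` is too large for a simple group of order `7920`. -/
theorem false_of_7920 (hna : ¬ IsMulCommutative G) (hq : q % 4 = 3) (hq5 : 5 ≤ q)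
    (hcard : Nat.card G = 7920) (M : Subgroup G) (hM : M ≠ ⊤)
    (hd : 2 * ((q - 1) * (q * (q + 1))) ∣ Nat.card M) : False := by
  have h5 := Cfsg.Agent.SmallSimple.Embed.five_le_index hna M hM
  have h1 := M.card_mul_index
  rw [hcard] at h1
  obtain ⟨j, hj⟩ := hd
  have hj0 : 0 < j := by
    rcases Nat.eq_zero_or_pos j with h | h
    · rw [h, mul_zero] at hj
      rw [hj, zero_mul] at h1
      omega
    · exact h
  rw [hj] at h1
  have h2 : 2 * ((q - 1) * (q * (q + 1))) * 5 ≤ 7920 := by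
    rw [← h1]
    calc 2 * ((q - 1) * (q * (q + 1))) * 5 ≤ 2 * ((q - 1) * (q * (q + 1))) * j * 5 :=
          Nat.mul_le_mul_right _ (Nat.le_mul_of_pos_right _ hj0)
      _ ≤ _ := Nat.mul_le_mul_left _ h5
  have h3 : q < 10 := by
    by_contra hcon
    push Not at hcon
    have h4 : 9 * (10 * 11) ≤ (q - 1) * (q * (q + 1)) :=
      Nat.mul_le_mul (by omega) (Nat.mul_le_mul (by omega) (by omega))
    omega
  have h7 : q = 7 := by omega
  subst h7
  have h8 : 672 ∣ 7920 := ⟨j * M.index, by rw [← h1]; ring⟩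
  norm_num at h8

/-- **The index of `C(t)`**, core central. -/
theorem index_eq (hm : Model C q ε) (hO : ∀ N : Subgroup C, N.Normal → Odd (Nat.card N) → N = ⊥)
    (hq : 5 ≤ q) (H : Hyp t z π) (hse : ∀ M : Subgroup G, ¬ IsStronglyEmbedded M)
    (hKc : ∀ k, π k = 1 → ∀ c : Subgroup.centralizer ({t} : Set G), c * k = k * c) :
    ((Subgroup.centralizer ({t} : Set G)).index : ℤ) =
      (ε * q) ^ 2 * ((ε * q) ^ 2 + (ε * q) + 1) := by
  rcases hm with ⟨rfl, hq4, F, _, _, ψ, hS, rfl⟩ | ⟨rfl, hq4, F, _, _, σ, κ, ψ, hS, hF⟩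
  · obtain ⟨Z₀, hZn, hZc, hZo, hC⟩ := exists_GL H.orderOf_t H.one_class hse π H.surj H.odd_ker
      hKc hS (map_eq_one_of_center hS.surj hO)
    rcases GLSemi.index_or hS.odd hq4 Z₀ hZc hZo t H.orderOf_t hC with h1 | h1
    · rw [h1, Nat.card_eq_fintype_card]
      push_cast
      ring
    · exfalso
      have hfC : Finite C := Finite.of_surjective π H.surj
      have hcC : 2 * ((Fintype.card F - 1) * (Fintype.card F * (Fintype.card F + 1))) ∣
          Nat.card (Subgroup.centralizer ({t} : Set G)) := by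
        have h2 : Nat.card C ∣ Nat.card (Subgroup.centralizer ({t} : Set G)) :=
          Subgroup.card_dvd_of_surjective π H.surj
        refine Dvd.dvd.trans ?_ h2
        have h3 := InstGL.card_F_eq (F := F)
        have h4 : Nat.card Fˣ = Fintype.card F - 1 := by
          rw [← Nat.card_eq_fintype_card, h3]
          omega
        rw [hS.card_G, h4, Nat.card_eq_fintype_card (α := F)]
        refine Nat.mul_dvd_mul_right ?_ _
        have h5 : InstGL.gt ψ ∈ InstGL.gZ ψ := hS.mem_gZ_scalar _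
        have h6 := Subgroup.orderOf_dvd_natCard (InstGL.gZ ψ) h5
        rwa [hS.orderOf_gt] at h6
      have hna : ∃ a b : G, a * b ≠ b * a := by
        obtain ⟨x, hx⟩ := H.surj (ψ GLTwo.wt)
        obtain ⟨y, hy⟩ := H.surj (ψ GLTwo.sg)
        refine ⟨x, y, fun h2 => ?_⟩
        have h3 : x * y = y * x := Subtype.ext h2
        have h4 : ψ GLTwo.wt * ψ GLTwo.sg = ψ GLTwo.sg * ψ GLTwo.wt := by
          rw [← hx, ← hy, ← map_mul, h3, map_mul]
        obtain ⟨d, hd⟩ := hS.exists_nonsquare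
        have h5 := (hS.cHyp hd).s_u
        rw [h4, mul_inv_cancel_right] at h5
        have h6 : InstGL.gt ψ = 1 := mul_eq_right.1 h5.symm
        have h7 := hS.orderOf_gt
        rw [h6, orderOf_one] at h7
        omega
      obtain ⟨a, b, hab⟩ := hna
      have hM : Subgroup.centralizer ({t} : Set G) ≠ ⊤ := by
        intro h2
        have h3 : t ∈ Subgroup.center G := by
          rw [Subgroup.mem_center_iff]
          intro g
          have h4 : g ∈ Subgroup.centralizer ({t} : Set G) := h2 ▸ Subgroup.mem_top g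
          exact Subgroup.mem_centralizer_singleton_iff.1 h4
        rcases (Subgroup.center G).normal_of_characteristic.eq_bot_or_eq_top with h4 | h4
        · rw [h4, Subgroup.mem_bot] at h3
          exact t_ne_one H h3
        · apply hab
          have h5 : a ∈ Subgroup.center G := h4 ▸ Subgroup.mem_top a
          exact ((Subgroup.mem_center_iff.1 h5) b).symm
      exact false_of_7920 (fun h => hab (h.is_comm.comm a b)) hq4 hq h1 _ hM hcC
  · obtain ⟨Z₀, hZn, hZc, hZo, hC⟩ := exists_GU H.orderOf_t H.one_class hse π H.surj H.odd_ker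
      hKc hS (map_eq_one_of_center hS.surj hO)
    have h1 := InvCentU.Main.index_of_centralizer q hq4 (by omega) hF Z₀ hZc hZo t H.orderOf_t hC
    have h2 : q ≤ q ^ 2 := by nlinarith
    rw [h1]
    push_cast [Nat.cast_sub h2]
    ring

/-- **The degree of `X₂`**, core central. -/
theorem cube (hm : Model C q ε) (hO : ∀ N : Subgroup C, N.Normal → Odd (Nat.card N) → N = ⊥)
    (hq : 5 ≤ q) (H : Hyp t z π) (hse : ∀ M : Subgroup G, ¬ IsStronglyEmbedded M)
    (hKc : ∀ k, π k = 1 → ∀ c : Subgroup.centralizer ({t} : Set G), c * k = k * c)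
    {Z T T' U : Subgroup C} {s s' u : C} {h : CHyp z q ε Z T T' U s s' u} {μ : U →* ℂˣ}
    {M : Ideal AlgInt} [Fintype G] [Fintype C] {X₂ X₃ X₄ X₅ L : G → ℂ} {f x : ℤ}
    (R : SDRes M h μ π X₂ X₃ X₄ X₅ L f x) : f = (ε * q) ^ 3 := by
  have h1 := index_eq hm hO hq H hse hKc
  have h2 := kap_one H hKc h.orderOf_u
  have h3 := R.eqA
  rw [h2] at h3
  refine root (κ := 1) (n := ((Subgroup.centralizer ({t} : Set G)).index : ℤ)) ?_ one_ne_zero ?_ ?_
  · rcases h.eps with rfl | rfl
    · rw [one_mul, abs_of_nonneg (by positivity)]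
      exact_mod_cast (by omega : 3 ≤ q)
    · rw [neg_one_mul, abs_neg, abs_of_nonneg (by positivity)]
      exact_mod_cast (by omega : 3 ≤ q)
  · rw [h1]
    ring
  · rw [h3]
    push_cast
    ring

end Index

section Ind

variable {C : Type v} [Group C] [Fintype C] {z : C} {q : ℕ} {ε : ℤ} {Z T T' U : Subgroup C}
  {s s' u : C}

/-- **The induction**: if `Ind3` below `|Y|` implies that the core of `C(t)` in `Y` is central, for
all simple groups `Y`, then `Ind3` holds. -/
theorem ind3 (hm : Model C q ε) (hO : ∀ N : Subgroup C, N.Normal → Odd (Nat.card N) → N = ⊥)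
    (hq : 5 ≤ q) (h : CHyp z q ε Z T T' U s s' u) (μ : U →* ℂˣ)
    (hse : ∀ (Y : Type w) [Group Y] [Finite Y] [IsSimpleGroup Y] (P : Sylow 2 Y),
      Cfsg.IsQuasiDihedral (P : Subgroup Y) → ∀ M : Subgroup Y, ¬ IsStronglyEmbedded M)
    (S₀ : Sylow 2 C) (hS₀ : Cfsg.IsQuasiDihedral (S₀ : Subgroup C))
    (step : ∀ (Y : Type w) [Group Y] [Fintype Y] [IsSimpleGroup Y] (t' : Y)
      (π' : (Subgroup.centralizer ({t'} : Set Y)) →* C), Hyp t' z π' →
      FOne.Ind3.{w} h μ (Nat.card Y) →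
      ∀ k, π' k = 1 → ∀ c : Subgroup.centralizer ({t'} : Set Y), c * k = k * c) (N : ℕ) :
    FOne.Ind3.{w} h μ N := by
  induction N using Nat.strong_induction_on with
  | _ N ih =>
    intro Y _ _ hY hlt t' π' H' M X₂ X₃ X₄ X₅ L f x _ R
    obtain ⟨P⟩ : Nonempty (Sylow 2 Y) := inferInstance
    obtain ⟨e⟩ := nonempty_sylow H' S₀ P
    have hP : Cfsg.IsQuasiDihedral (P : Subgroup Y) :=
      Cfsg.Agent.TwoFusion.SylowTypeTransfer.isQuasiDihedral_of_mulEquiv e hS₀
    exact cube hm hO hq H' (hse Y P hP) (step Y t' π' H' (ih _ hlt)) R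

/-- **The core of `C(t)` is central**, by induction. -/
theorem central_of_step (hm : Model C q ε)
    (hO : ∀ N : Subgroup C, N.Normal → Odd (Nat.card N) → N = ⊥)
    (hq : 5 ≤ q) (h : CHyp z q ε Z T T' U s s' u) (μ : U →* ℂˣ)
    (hse : ∀ (Y : Type w) [Group Y] [Finite Y] [IsSimpleGroup Y] (P : Sylow 2 Y),
      Cfsg.IsQuasiDihedral (P : Subgroup Y) → ∀ M : Subgroup Y, ¬ IsStronglyEmbedded M)
    (S₀ : Sylow 2 C) (hS₀ : Cfsg.IsQuasiDihedral (S₀ : Subgroup C))
    (step : ∀ (Y : Type w) [Group Y] [Fintype Y] [IsSimpleGroup Y] (t' : Y)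
      (π' : (Subgroup.centralizer ({t'} : Set Y)) →* C), Hyp t' z π' →
      FOne.Ind3.{w} h μ (Nat.card Y) →
      ∀ k, π' k = 1 → ∀ c : Subgroup.centralizer ({t'} : Set Y), c * k = k * c)
    {G : Type w} [Group G] [Fintype G] [IsSimpleGroup G] {t : G}
    {π : (Subgroup.centralizer ({t} : Set G)) →* C} (H : Hyp t z π) :
    ∀ k, π k = 1 → ∀ c : Subgroup.centralizer ({t} : Set G), c * k = k * c :=
  step G t π H (ind3 hm hO hq h μ hse S₀ hS₀ step _)

end Ind

section ModelOf

open Cfsg.Agent.Classification.QDW.StructQ Cfsg.Agent.Classification.QDW.StructMain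

variable {H : Type v} [Group H] [Finite H] {S : Sylow 2 H} {L : Subgroup H} [hLn : L.Normal]
  {F : Type} [Field F] [Fintype F] {e : L ≃* SpecialLinearGroup (Fin 2) F} {y : H}

/-- The model in the quasi-dihedral case. -/
theorem model_of (h : QD S L e y) (hH : H1 L e = ⊤) {ε : ℤ}
    (hε : ε = 1 ∧ Fintype.card F % 4 = 3 ∨ ε = -1 ∧ Fintype.card F % 4 = 1) :
    Model H (Fintype.card F) ε := by
  rcases hε with ⟨rfl, hq⟩ | ⟨rfl, hq⟩
  · obtain ⟨ψ, hψ, -, -⟩ := CDataInst.exists_setup_pos h hH hq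
    exact Or.inl ⟨rfl, hq, F, inferInstance, inferInstance, ψ, hψ, rfl⟩
  · obtain ⟨F', i1, i2, σ, κ, ψ, hψ, hF', -, -⟩ := CDataInst.exists_setup_neg h hH hq
    exact Or.inr ⟨rfl, hq, F', i1, i2, σ, κ, ψ, hψ, hF'⟩

end ModelOf

end Cfsg.Agent.Classification.QDW.Cube
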