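import Mathlib
import Cfsg.Agent.Classification.QDW.InstG
import Cfsg.Agent.Classification.InvCent.SDFull

/-!
# The lower bound for the characters `X₂`, `X₃`

`lb`: if `X` is plus or minus an irreducible character of `G` with values `c + ε St` on the elements
of `C(t)` having `t` as a power, `c = 0` or `1`, then `|X(1) - X(t)| ≥ q² - 1`. `lb₂`, `lb₃`: the
cases of `X₂`, `X₃`.
-/

set_option autoImplicit false
set_option linter.unusedSectionVars false

namespace Cfsg.Agent.Classification.QDW.InstMain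

open Cfsg Cfsg.Agent.Characters Cfsg.Agent.Classification.InvCent
open Cfsg.Agent.Classification.QDW.InstC Cfsg.Agent.Classification.QDW.InstGamma
open Cfsg.Agent.Classification.QDW.InstLB Cfsg.Agent.Classification.QDW.InstG
open Cfsg.Agent.Classification.QDW.RelH Cfsg.Agent.Classification.QDW.DegBound
open Cfsg.Agent.Classification.QDW.LowerBound
open Cfsg.Agent.Classification.RTwo
open Cfsg.Agent.Classification.BGOrder Cfsg.Agent.Classification.BGSplit
  Cfsg.Agent.Classification.BGBlockB0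

universe u v

section

variable {G : Type u} [Group G]

theorem exists_sign {X : G → ℂ} (h : SignedIrr X) :
    ∃ σ : ℤ, (σ = 1 ∨ σ = -1) ∧ IsIrrCharacter G ((σ : ℂ) • X) := by
  rcases h with h1 | h1
  · exact ⟨1, Or.inl rfl, by rw [Int.cast_one, one_smul]; exact h1⟩
  · exact ⟨-1, Or.inr rfl, by rw [Int.cast_neg, Int.cast_one, neg_smul, one_smul]; exact h1⟩

end

variable {G : Type u} [Group G] [Fintype G] {C : Type v} [Group C] [Fintype C] {z : C} {q : ℕ}
  {ε : ℤ} {Z T T' U : Subgroup C} {s s' u₀ : C} {b : C →* ℂˣ} {μ : U →* ℂˣ} {t : G}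
  {π : (Subgroup.centralizer ({t} : Set G)) →* C} {u w : Subgroup.centralizer ({t} : Set G)}
  {g : G}

theorem dval {h : CHyp z q ε Z T T' U s s' u₀} {X : G → ℂ} (hX : SignedIrr X) {σ c : ℤ}
    (hv : ∀ y : Subgroup.centralizer ({t} : Set G), z ∈ Subgroup.zpowers (π y) →
      X y = c + ε * St h μ (π y)) : DVal h μ π ((σ : ℂ) • X) σ c where
  cls := fun x y => by
    rw [Pi.smul_apply, Pi.smul_apply, isClassFunction_signed hX x y]
  val := fun y hy => by
    rw [Pi.smul_apply, hv y hy, smul_eq_mul]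

theorem restrict_isCharacter {X : G → ℂ} (hX : IsCharacter G X) (H : Subgroup G) :
    IsCharacter H (fun y => X y) :=
  Core.isCharacter_comp H.subtype hX

/-- **The lower bound.** -/
theorem lb (H : General.Hyp t z π) (hD : CData z q ε Z T T' U s s' u₀ b) (hq : 5 ≤ q)
    (hμ : ∃ v : U, μ v ≠ 1) {X : G → ℂ} (hX : SignedIrr X) {c : ℤ} (hc : c = 0 ∨ c = 1)
    (hv : ∀ y : Subgroup.centralizer ({t} : Set G), z ∈ Subgroup.zpowers (π y) →
      X y = c + ε * St hD.chyp μ (π y)) {d : ℤ} (hd : X 1 = d) :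
    (q : ℤ) ^ 2 - 1 ≤ |d - (c + ε * q)| := by
  classical
  obtain ⟨u, w, hG⟩ := exists_ghyp H hD.chyp
  obtain ⟨g, hs⟩ := exists_swap H hD hG
  obtain ⟨m, -, hm⟩ := hD.exists_m
  obtain ⟨σ, hσ, hY⟩ := exists_sign hX
  have hdv : DVal hD.chyp μ π ((σ : ℂ) • X) σ c := dval hX hv
  let _ : Fintype (Wg hD.chyp π u) := Fintype.ofFinite _
  have hvals := vals H hD hG hs hdv hσ
    (restrict_isCharacter (Core.isIrr_isCharacter hY) _) hm
  obtain ⟨N, hN0, hN⟩ := Core.isIrr_apply_one hY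
  obtain ⟨h1, -⟩ := bound hD hG hq hμ hvals hdv.val hc (N := N) hN
  have h2 : (N : ℤ) = σ * d := by
    rw [Pi.smul_apply, hd, smul_eq_mul] at hN
    exact_mod_cast hN.symm
  rw [h2] at h1
  refine h1.trans ?_
  have h3 : σ * d - σ * (c + ε * q) = σ * (d - (c + ε * q)) := by ring
  rw [h3]
  rcases hσ with rfl | rfl
  · rw [one_mul]
    exact le_abs_self _
  · rw [neg_one_mul]
    exact neg_le_abs _

variable {M : Ideal AlgInt} {θ : T' →* ℂˣ} {n : ℕ} {χ : T →* ℂˣ} {X₂ X₃ X₄ X₅ : G → ℂ}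
  {L : ℕ → G → ℂ} {f x : ℤ}

theorem val₂ {h : CHyp z q ε Z T T' U s s' u₀} (hμ : ∃ v : U, μ v ≠ 1)
    (S : SDFull M h b θ n χ μ π X₂ X₃ X₄ X₅ L f x)
    (y : Subgroup.centralizer ({t} : Set G)) (hy : z ∈ Subgroup.zpowers (π y)) :
    X₂ y = ((0 : ℤ) : ℂ) + ε * St h μ (π y) := by
  rw [S.valD₂ y hy, eps_St]
  have h1 := h.two_one hμ (π y)
  push_cast
  linear_combination h1

theorem val₃ {h : CHyp z q ε Z T T' U s s' u₀}
    (S : SDFull M h b θ n χ μ π X₂ X₃ X₄ X₅ L f x)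
    (y : Subgroup.centralizer ({t} : Set G)) (hy : z ∈ Subgroup.zpowers (π y)) :
    X₃ y = ((1 : ℤ) : ℂ) + ε * St h μ (π y) := by
  rw [S.valD₃ y hy, eps_St]
  push_cast
  ring

/-- The lower bound for `X₂`. -/
theorem lb₂ (H : General.Hyp t z π) (hD : CData z q ε Z T T' U s s' u₀ b) (hq : 5 ≤ q)
    (hμ : ∃ v : U, μ v ≠ 1) (S : SDFull M hD.chyp b θ n χ μ π X₂ X₃ X₄ X₅ L f x) :
    (q : ℤ) ^ 2 - 1 ≤ |f - ε * q| := by
  have h1 := lb H hD hq hμ S.in₂.signedIrr (Or.inl rfl) (val₂ hμ S) S.one₂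
  rwa [zero_add] at h1

/-- The lower bound for `X₃`. -/
theorem lb₃ (H : General.Hyp t z π) (hD : CData z q ε Z T T' U s s' u₀ b) (hq : 5 ≤ q)
    (hμ : ∃ v : U, μ v ≠ 1) (S : SDFull M hD.chyp b θ n χ μ π X₂ X₃ X₄ X₅ L f x) :
    (q : ℤ) ^ 2 - 1 ≤ |x + ε * q + 2| := by
  have h1 := lb H hD hq hμ S.in₃.signedIrr (Or.inr rfl) (val₃ S) (d := -1 - x) (by
    rw [S.one₃]
    push_cast
    ring)
  rw [← abs_neg] at h1
  have h2 : -(-1 - x - (1 + ε * q)) = x + ε * q + 2 := by ring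
  rwa [h2] at h1

end Cfsg.Agent.Classification.QDW.InstMain
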