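import Mathlib
import Cfsg.Agent.PermutationGroups.OddKlein
import Cfsg.Agent.Classification.QDW.ThetaDefs

/-!
# Solvable completeness for a four-group acting on a group of odd order

`S` is a solvable group of odd order acted on by the four-group `⟨t, u⟩`; for each of the three
involutions `v` a subgroup `θ v ≤ C_S(v)` is given, normalised by `C_S(v)`, `t`, `u`, with
`C_S(v) = θ v C_S(t, u)` and `θ v ∩ C(t, u) = A` for all `v`. If `S` is generated by the `θ v`, then
`C_S(t, u) ≤ A`.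
-/

set_option autoImplicit false

open Cfsg

namespace Cfsg.Agent.Classification.QDW.SolvComplete

open Subgroup
open scoped commutatorElement

section Defs

variable {G : Type*} [Group G]

/-- The three involutions. -/
def inv3 (t u : G) (i : Fin 3) : G := ![t, u, t * u] i

@[simp] theorem inv3_zero (t u : G) : inv3 t u 0 = t := rfl
@[simp] theorem inv3_one (t u : G) : inv3 t u 1 = u := rfl
@[simp] theorem inv3_two (t u : G) : inv3 t u 2 = t * u := rfl

/-- The data of the completeness lemma. -/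
structure Data (t u : G) (S A : Subgroup G) (θ : Fin 3 → Subgroup G) : Prop where
  tt : t * t = 1
  uu : u * u = 1
  comm : t * u = u * t
  odd : Odd (Nat.card S)
  norm_t : ∀ s ∈ S, t * s * t⁻¹ ∈ S
  norm_u : ∀ s ∈ S, u * s * u⁻¹ ∈ S
  le : ∀ i, θ i ≤ S
  cent : ∀ i, ∀ k ∈ θ i, inv3 t u i * k = k * inv3 t u i
  norm : ∀ i, ∀ y ∈ S, inv3 t u i * y = y * inv3 t u i → ∀ k ∈ θ i, y * k * y⁻¹ ∈ θ i
  nt : ∀ i, ∀ k ∈ θ i, t * k * t⁻¹ ∈ θ i
  nu : ∀ i, ∀ k ∈ θ i, u * k * u⁻¹ ∈ θ i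
  A_le : ∀ i, A ≤ θ i
  le_A : ∀ i, ∀ k ∈ θ i, t * k = k * t → u * k = k * u → k ∈ A
  prod : ∀ i, ∀ y ∈ S, inv3 t u i * y = y * inv3 t u i →
    ∃ k ∈ θ i, ∃ z ∈ S, t * z = z * t ∧ u * z = z * u ∧ y = k * z
  gen : S ≤ ⨆ i, θ i

/-- Subgroups of `S` normalised by `S`, `t`, `u`. -/
structure Nor (t u : G) (S N : Subgroup G) : Prop where
  le : N ≤ S
  nS : ∀ s ∈ S, ∀ n ∈ N, s * n * s⁻¹ ∈ N
  nt : ∀ n ∈ N, t * n * t⁻¹ ∈ N
  nu : ∀ n ∈ N, u * n * u⁻¹ ∈ N

end Defs

section Odd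

variable {G : Type*} [Group G]

theorem exists_sqrt {S : Subgroup G} (hS : Odd (Nat.card S)) {x : G} (hx : x ∈ S) :
    ∃ n : ℕ, x ^ n * x ^ n = x := by
  obtain ⟨m, hm⟩ := hS
  refine ⟨m + 1, ?_⟩
  have h1 : x ^ Nat.card S = 1 := by
    have h2 := pow_card_eq_one' (x := (⟨x, hx⟩ : S))
    exact congrArg Subtype.val h2
  rw [← pow_add, show m + 1 + (m + 1) = Nat.card S + 1 by omega, pow_succ, h1, one_mul]

/-- elements of odd order with square in a subgroup. -/
theorem mem_of_sq {S H : Subgroup G} (hS : Odd (Nat.card S)) {x : G} (hx : x ∈ S)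
    (h : x * x ∈ H) : x ∈ H := by
  obtain ⟨n, hn⟩ := exists_sqrt hS hx
  rw [← hn, ← pow_add, ← two_mul, pow_mul, sq]
  exact pow_mem h n

theorem conj_conj {w : G} (hw : w * w = 1) (x : G) : w * (w * x * w⁻¹) * w⁻¹ = x := by
  have h1 : w⁻¹ = w := inv_eq_of_mul_eq_one_left hw
  rw [h1]
  calc w * (w * x * w) * w = (w * w) * x * (w * w) := by group
    _ = x := by rw [hw, one_mul, mul_one]

theorem commute_iff {w x : G} : w * x = x * w ↔ w * x * w⁻¹ = x := by
  constructor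
  · intro h; rw [h]; group
  · intro h
    calc w * x = (w * x * w⁻¹) * w := by group
      _ = x * w := by rw [h]

/-- Lifting of fixed points of an involution. -/
theorem exists_lift {S : Subgroup G} (hS : Odd (Nat.card S)) {w : G} (hw : w * w = 1)
    {x : G} (hx : x⁻¹ * (w * x * w⁻¹) ∈ S) :
    ∃ n : ℕ, w * (x * (x⁻¹ * (w * x * w⁻¹)) ^ n) = (x * (x⁻¹ * (w * x * w⁻¹)) ^ n) * w := by
  obtain ⟨n, hn⟩ := exists_sqrt hS hx
  refine ⟨n, ?_⟩
  rw [commute_iff]
  set d := x⁻¹ * (w * x * w⁻¹) with hd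
  have h1 : w * d * w⁻¹ = d⁻¹ := by
    have h2 := conj_conj hw x
    calc w * d * w⁻¹ = (w * x * w⁻¹)⁻¹ * (w * (w * x * w⁻¹) * w⁻¹) := by rw [hd]; group
      _ = (w * x * w⁻¹)⁻¹ * x := by rw [h2]
      _ = d⁻¹ := by rw [hd]; group
  have h2 : w * d ^ n * w⁻¹ = (d ^ n)⁻¹ := by
    rw [← conj_pow, h1, inv_pow]
  calc w * (x * d ^ n) * w⁻¹ = (w * x * w⁻¹) * (w * d ^ n * w⁻¹) := by group
    _ = (x * d) * (d ^ n)⁻¹ := by rw [h2, hd]; group
    _ = (x * (d ^ n * d ^ n)) * (d ^ n)⁻¹ := by rw [hn]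
    _ = x * d ^ n := by group

end Odd

section Main

variable {G : Type*} [Group G] {t u : G} {S A : Subgroup G} {θ : Fin 3 → Subgroup G}

theorem Data.conj_mem (h : Data t u S A θ) (i j : Fin 3) {k : G} (hk : k ∈ θ i) :
    inv3 t u j * k * (inv3 t u j)⁻¹ ∈ θ i := by
  fin_cases j
  · exact h.nt i k hk
  · exact h.nu i k hk
  · have h1 := h.nt i _ (h.nu i k hk)
    have h2 : inv3 t u 2 * k * (inv3 t u 2)⁻¹ = t * (u * k * u⁻¹) * t⁻¹ := by
      rw [inv3_two]; group
    exact h2 ▸ h1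

theorem Nor.conj_mem {N : Subgroup G} (h : Nor t u S N) (j : Fin 3) {k : G} (hk : k ∈ N) :
    inv3 t u j * k * (inv3 t u j)⁻¹ ∈ N := by
  fin_cases j
  · exact h.nt k hk
  · exact h.nu k hk
  · have h1 := h.nt _ (h.nu k hk)
    have h2 : inv3 t u 2 * k * (inv3 t u 2)⁻¹ = t * (u * k * u⁻¹) * t⁻¹ := by
      rw [inv3_two]; group
    exact h2 ▸ h1

theorem Data.sq (h : Data t u S A θ) (i : Fin 3) : inv3 t u i * inv3 t u i = 1 := by
  fin_cases i
  · exact h.tt
  · exact h.uu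
  · change t * u * (t * u) = 1
    calc t * u * (t * u) = t * (u * t) * u := by group
      _ = (t * t) * (u * u) := by rw [← h.comm]; group
      _ = 1 := by rw [h.tt, h.uu, one_mul]

/-- an element commuting with two of the involutions commutes with all. -/
theorem Data.comm_of (h : Data t u S A θ) {i j : Fin 3} (hij : i ≠ j) {x : G}
    (h1 : inv3 t u i * x = x * inv3 t u i) (h2 : inv3 t u j * x = x * inv3 t u j) :
    t * x = x * t ∧ u * x = x * u := by
  have key : ∀ a b : G, a * a = 1 → a * x = x * a → a * b * x = x * (a * b) → b * x = x * b := by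
    intro a b ha h3 h4
    calc b * x = (a * a) * b * x := by rw [ha, one_mul]
      _ = a * (a * b * x) := by group
      _ = a * (x * (a * b)) := by rw [h4]
      _ = (a * x) * (a * b) := by group
      _ = x * (a * a) * b := by rw [h3]; group
      _ = x * b := by rw [ha, mul_one]
  fin_cases i <;> fin_cases j <;> simp only [Fin.zero_eta, Fin.mk_one, Fin.reduceFinMk, inv3_zero,
    inv3_one, inv3_two, ne_eq, not_true_eq_false, one_ne_zero, zero_ne_one, Fin.reduceEq,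
    not_false_eq_true] at hij h1 h2
  · exact ⟨h1, h2⟩
  · exact ⟨h1, key t u h.tt h1 h2⟩
  · exact ⟨h2, h1⟩
  · rw [h.comm] at h2
    exact ⟨key u t h.uu h1 h2, h1⟩
  · exact ⟨h2, key t u h.tt h2 h1⟩
  · rw [h.comm] at h1
    exact ⟨key u t h.uu h2 h1, h2⟩

/-- the third involution. -/
theorem Data.third (h : Data t u S A θ) {i j : Fin 3} (hij : i ≠ j) :
    ∃ l, inv3 t u l = inv3 t u i * inv3 t u j := by
  have h1 : t * (t * u) = u := by rw [← mul_assoc, h.tt, one_mul]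
  have h2 : u * (t * u) = t := by rw [h.comm, ← mul_assoc, h.uu, one_mul]
  have h3 : t * u * t = u := by rw [h.comm, mul_assoc, h.tt, mul_one]
  have h4 : t * u * u = t := by rw [mul_assoc, h.uu, mul_one]
  fin_cases i <;> fin_cases j
  · exact absurd rfl hij
  · exact ⟨2, rfl⟩
  · exact ⟨1, h1.symm⟩
  · exact ⟨2, h.comm⟩
  · exact absurd rfl hij
  · exact ⟨0, h2.symm⟩
  · exact ⟨1, h3.symm⟩
  · exact ⟨0, h4.symm⟩
  · exact absurd rfl hij

/-- `[y, v_j] ∈ θ i` for `y ∈ C_S(v_i)`. -/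
theorem Data.comm_mem (h : Data t u S A θ) (i j : Fin 3) {y : G} (hy : y ∈ S)
    (hc : inv3 t u i * y = y * inv3 t u i) :
    y * (inv3 t u j * y⁻¹ * (inv3 t u j)⁻¹) ∈ θ i := by
  obtain ⟨k, hk, z, hz, h1, h2, rfl⟩ := h.prod i y hy hc
  have h3 : inv3 t u j * z = z * inv3 t u j := by
    fin_cases j
    · exact h1
    · exact h2
    · change t * u * z = z * (t * u)
      rw [mul_assoc, h2, ← mul_assoc, h1, mul_assoc]
  have h4 : inv3 t u j * z⁻¹ = z⁻¹ * inv3 t u j := by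
    calc inv3 t u j * z⁻¹ = z⁻¹ * (z * inv3 t u j) * z⁻¹ := by group
      _ = z⁻¹ * inv3 t u j := by rw [← h3]; group
  have h5 : k * z * (inv3 t u j * (k * z)⁻¹ * (inv3 t u j)⁻¹) =
      k * (inv3 t u j * k⁻¹ * (inv3 t u j)⁻¹) := by
    calc k * z * (inv3 t u j * (k * z)⁻¹ * (inv3 t u j)⁻¹)
        = k * z * ((inv3 t u j * z⁻¹) * k⁻¹ * (inv3 t u j)⁻¹) := by group
      _ = k * (inv3 t u j * k⁻¹ * (inv3 t u j)⁻¹) := by rw [h4]; group
  rw [h5]
  exact mul_mem hk (h.conj_mem i j (inv_mem hk))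

/-- Generation of a `V`-invariant subgroup of odd order by its centralizers. -/
theorem Data.gen_of (h : Data t u S A θ) {B L : Subgroup G} (hB : B ≤ S)
    (hn : ∀ j, ∀ b ∈ B, inv3 t u j * b * (inv3 t u j)⁻¹ ∈ B)
    (hL : ∀ i, ∀ b ∈ B, inv3 t u i * b = b * inv3 t u i → b ∈ L) : B ≤ L := by
  have hfS : Finite S := Nat.finite_of_card_ne_zero fun h0 => by
    have := h.odd
    rw [h0] at this
    exact absurd this (by decide)
  have hfin : Finite B := Finite.of_injective (Subgroup.inclusion hB)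
    (Subgroup.inclusion_injective hB)
  have hodd : Odd (Nat.card B) := by
    have h1 := h.odd
    exact h1.of_dvd_nat (Subgroup.card_dvd_of_le hB)
  let f : Fin 3 → (B →* B) := fun j =>
    { toFun := fun b => ⟨inv3 t u j * b * (inv3 t u j)⁻¹, hn j b b.2⟩
      map_one' := by ext; simp
      map_mul' := fun a b => by ext; simp }
  have hf : ∀ j (b : B), ((f j b : B) : G) = inv3 t u j * b * (inv3 t u j)⁻¹ := fun _ _ => rfl
  have key := Cfsg.Agent.PermutationGroups.OddKlein.eq_top_of_fixed_le hodd (f 0) (f 1)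
    (fun x => Subtype.ext (by rw [hf, hf]; exact conj_conj (h.sq 0) _))
    (fun x => Subtype.ext (by rw [hf, hf]; exact conj_conj (h.sq 1) _))
    (fun x => Subtype.ext (by
      rw [hf, hf, hf, hf]
      change t * (u * x * u⁻¹) * t⁻¹ = u * (t * x * t⁻¹) * u⁻¹
      calc t * (u * x * u⁻¹) * t⁻¹ = (t * u) * x * (t * u)⁻¹ := by group
        _ = (u * t) * x * (u * t)⁻¹ := by rw [h.comm]
        _ = u * (t * x * t⁻¹) * u⁻¹ := by group))
    (L.subgroupOf B)
    (fun x hx => Subgroup.mem_subgroupOf.2 (hL 0 x x.2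
      (commute_iff.2 (congrArg Subtype.val hx))))
    (fun x hx => Subgroup.mem_subgroupOf.2 (hL 1 x x.2
      (commute_iff.2 (congrArg Subtype.val hx))))
    (fun x hx => Subgroup.mem_subgroupOf.2 (hL 2 x x.2
      (commute_iff.2 (by
        have h1 : t * (u * x * u⁻¹) * t⁻¹ = (x : G) := congrArg Subtype.val hx
        change t * u * x * (t * u)⁻¹ = x
        calc t * u * x * (t * u)⁻¹ = t * (u * x * u⁻¹) * t⁻¹ := by group
          _ = x := h1))))
  exact Subgroup.subgroupOf_eq_top.1 key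

/-- An element commuting with all `θ i` commutes with `S`. -/
theorem Data.comm_S (h : Data t u S A θ) {b : G} (hb : ∀ i, ∀ k ∈ θ i, b * k = k * b) :
    ∀ s ∈ S, b * s = s * b := by
  have h1 : (⨆ i, θ i) ≤ Subgroup.centralizer ({b} : Set G) := by
    rw [iSup_le_iff]
    intro i k hk
    rw [Subgroup.mem_centralizer_singleton_iff]
    exact (hb i k hk).symm
  intro s hs
  exact (Subgroup.mem_centralizer_singleton_iff.1 (h1 (h.gen hs))).symm

/-- **(∗∗)** A normal subgroup meeting all `θ i` trivially is central and centralised by `V`. -/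
theorem Data.central (h : Data t u S A θ) {B : Subgroup G} (hB : Nor t u S B)
    (h0 : ∀ i, θ i ⊓ B = ⊥) :
    (∀ b ∈ B, t * b = b * t ∧ u * b = b * u) ∧ (∀ b ∈ B, ∀ s ∈ S, b * s = s * b) := by
  have hbot : ∀ i, ∀ x ∈ θ i, x ∈ B → x = 1 := fun i x h1 h2 => by
    have h3 : x ∈ θ i ⊓ B := ⟨h1, h2⟩
    rw [h0 i] at h3
    exact Subgroup.mem_bot.1 h3
  have h1 : ∀ b ∈ B, t * b = b * t ∧ u * b = b * u := by
    have h2 : B ≤ Subgroup.centralizer ({t} : Set G) ⊓ Subgroup.centralizer ({u} : Set G) := by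
      refine h.gen_of hB.le (fun j b hb => hB.conj_mem j hb) fun i b hb hc => ?_
      have h3 : ∀ j, inv3 t u j * b = b * inv3 t u j := by
        intro j
        have h4 := hbot i _ (h.comm_mem i j (hB.le hb) hc)
          (mul_mem hb (hB.conj_mem j (inv_mem hb)))
        calc inv3 t u j * b = (b * (inv3 t u j * b⁻¹ * (inv3 t u j)⁻¹))⁻¹ * b * inv3 t u j * 1 := by
              group
          _ = b * inv3 t u j := by rw [h4]; group
      exact ⟨Subgroup.mem_centralizer_singleton_iff.2 (h3 0).symm,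
        Subgroup.mem_centralizer_singleton_iff.2 (h3 1).symm⟩
    intro b hb
    have h3 := h2 hb
    exact ⟨(Subgroup.mem_centralizer_singleton_iff.1 h3.1).symm,
      (Subgroup.mem_centralizer_singleton_iff.1 h3.2).symm⟩
  refine ⟨h1, fun b hb => h.comm_S fun i k hk => ?_⟩
  have h2 : inv3 t u i * b = b * inv3 t u i := by
    obtain ⟨h3, h4⟩ := h1 b hb
    fin_cases i
    · exact h3
    · exact h4
    · change t * u * b = b * (t * u)
      rw [mul_assoc, h4, ← mul_assoc, h3, mul_assoc]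
  have h3 : b * k * b⁻¹ * k⁻¹ = 1 := by
    refine hbot i _ (mul_mem (h.norm i b (hB.le hb) h2 k hk) (inv_mem hk)) ?_
    have h4 : b * k * b⁻¹ * k⁻¹ = b * (k * b⁻¹ * k⁻¹) := by group
    rw [h4]
    exact mul_mem hb (hB.nS k (h.le i hk) _ (inv_mem hb))
  calc b * k = (b * k * b⁻¹ * k⁻¹) * (k * b) := by group
    _ = k * b := by rw [h3, one_mul]

/-- the subgroup `B₁ = ∏ (θ i ∩ B)`. -/
def bOne (θ : Fin 3 → Subgroup G) (B : Subgroup G) : Subgroup G := ⨆ i, θ i ⊓ B

theorem le_bOne (B : Subgroup G) (i : Fin 3) : θ i ⊓ B ≤ bOne θ B :=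
  le_iSup (fun i => θ i ⊓ B) i

theorem bOne_le (B : Subgroup G) : bOne θ B ≤ B := iSup_le fun _ => inf_le_right

/-- the elements of `B` inverted by one of the involutions lie in `B₁`. -/
theorem Data.mem_bOne (h : Data t u S A θ) {B : Subgroup G} (hB : Nor t u S B)
    (hc : ∀ x ∈ B, ∀ y ∈ B, x * y = y * x) (j : Fin 3) {y : G} (hy : y ∈ B)
    (hi : inv3 t u j * y * (inv3 t u j)⁻¹ = y⁻¹) : y ∈ bOne θ B := by
  obtain ⟨i, hij⟩ : ∃ i : Fin 3, i ≠ j := exists_ne j
  obtain ⟨l, hl⟩ := h.third hij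
  set a := inv3 t u i with ha
  set w := inv3 t u j with hw
  have haa : a * a = 1 := h.sq i
  have hww : w * w = 1 := h.sq j
  set y' := a * y * a⁻¹ with hy'
  have hy'B : y' ∈ B := hB.conj_mem i hy
  have hay' : a * y' * a⁻¹ = y := conj_conj haa y
  have haw : a * w = w * a := by
    have h1 : ∀ i j : Fin 3, inv3 t u i * inv3 t u j = inv3 t u j * inv3 t u i := by
      intro i j
      have h2 : t * (t * u) = t * u * t := by rw [mul_assoc, ← h.comm]
      have h3 : u * (t * u) = t * u * u := by rw [← mul_assoc, ← h.comm]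
      fin_cases i <;> fin_cases j
      · rfl
      · exact h.comm
      · exact h2
      · exact h.comm.symm
      · rfl
      · exact h3
      · exact h2.symm
      · exact h3.symm
      · rfl
    exact h1 i j
  have hwy' : w * y' * w⁻¹ = y'⁻¹ := by
    calc w * y' * w⁻¹ = (w * a) * y * (w * a)⁻¹ := by rw [hy']; group
      _ = (a * w) * y * (a * w)⁻¹ := by rw [haw]
      _ = a * (w * y * w⁻¹) * a⁻¹ := by group
      _ = a * y⁻¹ * a⁻¹ := by rw [hi]
      _ = y'⁻¹ := by rw [hy']; group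
  -- `p = y y'` is fixed by `a`, inverted by `w`
  have hp : (y * y') * (y * y') ∈ θ i := by
    have h1 : a * (y * y') = (y * y') * a := by
      rw [commute_iff]
      calc a * (y * y') * a⁻¹ = (a * y * a⁻¹) * (a * y' * a⁻¹) := by group
        _ = y' * y := by rw [hay', ← hy']
        _ = y * y' := hc _ hy'B _ hy
    have h2 := h.comm_mem i j (hB.le (mul_mem hy hy'B)) h1
    rw [← hw] at h2
    have h3 : w * (y * y')⁻¹ * w⁻¹ = y * y' := by
      calc w * (y * y')⁻¹ * w⁻¹ = (w * y' * w⁻¹)⁻¹ * (w * y * w⁻¹)⁻¹ := by group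
        _ = y' * y := by rw [hwy', hi, inv_inv, inv_inv]
        _ = y * y' := hc _ hy'B _ hy
    rwa [h3] at h2
  have hp' : (y * y'⁻¹) * (y * y'⁻¹) ∈ θ l := by
    have h1 : inv3 t u l * (y * y'⁻¹) = (y * y'⁻¹) * inv3 t u l := by
      rw [hl, commute_iff]
      calc a * w * (y * y'⁻¹) * (a * w)⁻¹
          = a * ((w * y * w⁻¹) * (w * y' * w⁻¹)⁻¹) * a⁻¹ := by group
        _ = (a * y * a⁻¹)⁻¹ * (a * y' * a⁻¹) := by rw [hwy', hi]; group
        _ = y'⁻¹ * y := by rw [hay', ← hy']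
        _ = y * y'⁻¹ := hc _ (inv_mem hy'B) _ hy
    have h2 := h.comm_mem l j (hB.le (mul_mem hy (inv_mem hy'B))) h1
    rw [← hw] at h2
    have h3 : w * (y * y'⁻¹)⁻¹ * w⁻¹ = y * y'⁻¹ := by
      calc w * (y * y'⁻¹)⁻¹ * w⁻¹ = (w * y' * w⁻¹) * (w * y * w⁻¹)⁻¹ := by group
        _ = y'⁻¹ * y := by rw [hwy', hi, inv_inv]
        _ = y * y'⁻¹ := hc _ (inv_mem hy'B) _ hy
    rwa [h3] at h2
  have h4 : (y * y) * (y * y) ∈ bOne θ B := by
    have h5 : (y * y) * (y * y) = ((y * y') * (y * y')) * ((y * y'⁻¹) * (y * y'⁻¹)) := by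
      have c1 : y' * y = y * y' := hc _ hy'B _ hy
      have c2 : y'⁻¹ * y = y * y'⁻¹ := hc _ (inv_mem hy'B) _ hy
      calc (y * y) * (y * y) = y * y * (y' * y'⁻¹) * (y * y) := by group
        _ = y * (y * y') * (y'⁻¹ * y) * y := by group
        _ = y * (y' * y) * (y * y'⁻¹) * y := by rw [c1, c2]
        _ = y * y' * y * y * (y'⁻¹ * y) := by group
        _ = y * y' * y * (y' * y'⁻¹) * y * (y * y'⁻¹) := by rw [c2]; group
        _ = y * y' * (y * y') * (y'⁻¹ * y) * (y * y'⁻¹) := by group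
        _ = ((y * y') * (y * y')) * ((y * y'⁻¹) * (y * y'⁻¹)) := by rw [c2]; group
    rw [h5]
    have h6 : (y * y') * (y * y') ∈ B := mul_mem (mul_mem hy hy'B) (mul_mem hy hy'B)
    have h7 : (y * y'⁻¹) * (y * y'⁻¹) ∈ B :=
      mul_mem (mul_mem hy (inv_mem hy'B)) (mul_mem hy (inv_mem hy'B))
    exact mul_mem (le_bOne B i ⟨hp, h6⟩) (le_bOne B l ⟨hp', h7⟩)
  exact mem_of_sq h.odd (hB.le hy) (mem_of_sq h.odd (hB.le (mul_mem hy hy)) h4)

theorem Data.nor_bOne (h : Data t u S A θ) {B : Subgroup G} (hB : Nor t u S B)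
    (hc : ∀ x ∈ B, ∀ y ∈ B, x * y = y * x) : Nor t u S (bOne θ B) := by
  have hV : ∀ j, ∀ x ∈ bOne θ B, inv3 t u j * x * (inv3 t u j)⁻¹ ∈ bOne θ B := by
    intro j
    have h1 : bOne θ B ≤ (bOne θ B).comap (MulAut.conj (inv3 t u j)).toMonoidHom := by
      rw [bOne, iSup_le_iff]
      intro i x hx
      rw [Subgroup.mem_comap]
      exact le_bOne B i ⟨h.conj_mem i j hx.1, hB.conj_mem j hx.2⟩
    exact fun x hx => h1 hx
  have hθ : ∀ j, ∀ k ∈ θ j, ∀ x ∈ bOne θ B, k * x * k⁻¹ ∈ bOne θ B := by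
    intro j k hk
    have h1 : bOne θ B ≤ (bOne θ B).comap (MulAut.conj k).toMonoidHom := by
      conv_lhs => rw [bOne]
      rw [iSup_le_iff]
      intro i x hx
      rw [Subgroup.mem_comap]
      change k * x * k⁻¹ ∈ bOne θ B
      have hxB : k * x * k⁻¹ ∈ B := hB.nS k (h.le j hk) x hx.2
      by_cases hij : i = j
      · subst hij
        have h2 : k * x * k⁻¹ ∈ θ i := mul_mem (mul_mem hk hx.1) (inv_mem hk)
        exact le_bOne B i ⟨h2, hxB⟩
      set w := inv3 t u j with hw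
      have hww : w * w = 1 := h.sq j
      set x' := w * x * w⁻¹ with hx'
      have hx'θ : x' ∈ θ i := h.conj_mem i j hx.1
      have hx'B : x' ∈ B := hB.conj_mem j hx.2
      have hwx' : w * x' * w⁻¹ = x := conj_conj hww x
      have hcc : x' * x = x * x' := hc _ hx'B _ hx.2
      have hcc' : x'⁻¹ * x = x * x'⁻¹ := hc _ (inv_mem hx'B) _ hx.2
      have hkw : w * k = k * w := h.cent j k hk
      -- `x x' ∈ A`
      have hA : x * x' ∈ A := by
        have h2 : inv3 t u j * (x * x') = (x * x') * inv3 t u j := by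
          rw [← hw, commute_iff]
          calc w * (x * x') * w⁻¹ = (w * x * w⁻¹) * (w * x' * w⁻¹) := by group
            _ = x * x' := by rw [hwx', ← hx', hcc]
        have h3 := h.comm_of hij (h.cent i _ (mul_mem hx.1 hx'θ)) h2
        exact h.le_A i _ (mul_mem hx.1 hx'θ) h3.1 h3.2
      have h4 : k * (x * x') * k⁻¹ ∈ bOne θ B := by
        have h5 : k * (x * x') * k⁻¹ ∈ θ j := mul_mem (mul_mem hk (h.A_le j hA)) (inv_mem hk)
        exact le_bOne B j ⟨h5, hB.nS k (h.le j hk) _ (mul_mem hx.2 hx'B)⟩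
      have h5 : k * (x * x'⁻¹) * k⁻¹ ∈ bOne θ B := by
        refine h.mem_bOne hB hc j (hB.nS k (h.le j hk) _ (mul_mem hx.2 (inv_mem hx'B))) ?_
        rw [← hw]
        calc w * (k * (x * x'⁻¹) * k⁻¹) * w⁻¹
            = (w * k) * (x * x'⁻¹) * (w * k)⁻¹ := by group
          _ = (k * w) * (x * x'⁻¹) * (k * w)⁻¹ := by rw [hkw]
          _ = k * ((w * x * w⁻¹) * (w * x' * w⁻¹)⁻¹) * k⁻¹ := by group
          _ = k * (x' * x⁻¹) * k⁻¹ := by rw [hwx', ← hx']
          _ = (k * (x * x'⁻¹) * k⁻¹)⁻¹ := by group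
      refine mem_of_sq h.odd (hB.le hxB) ?_
      have h6 : k * x * k⁻¹ * (k * x * k⁻¹) = (k * (x * x') * k⁻¹) * (k * (x * x'⁻¹) * k⁻¹) := by
        calc k * x * k⁻¹ * (k * x * k⁻¹) = k * (x * x * (x' * x'⁻¹)) * k⁻¹ := by group
          _ = k * (x * (x * x') * x'⁻¹) * k⁻¹ := by group
          _ = k * (x * (x' * x) * x'⁻¹) * k⁻¹ := by rw [hcc]
          _ = (k * (x * x') * k⁻¹) * (k * (x * x'⁻¹) * k⁻¹) := by group
      rw [h6]
      exact mul_mem h4 h5
    exact fun x hx => h1 hx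
  refine ⟨(bOne_le B).trans hB.le, ?_, hV 0, hV 1⟩
  -- normalised by `S`
  have h1 : (⨆ i, θ i) ≤ Subgroup.normalizer ((bOne θ B : Subgroup G) : Set G) := by
    rw [iSup_le_iff]
    intro i k hk
    rw [Subgroup.mem_normalizer_iff]
    intro x
    refine ⟨fun hx => hθ i k hk x hx, fun hx => ?_⟩
    have h2 := hθ i k⁻¹ (inv_mem hk) _ hx
    have h3 : k⁻¹ * (k * x * k⁻¹) * k⁻¹⁻¹ = x := by group
    rwa [h3] at h2
  intro s hs n hn
  exact (Subgroup.mem_normalizer_iff.1 (h1 (h.gen hs)) n).1 hn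

/-- `C_{B₁}(V) ≤ A`. -/
theorem Data.bOne_inf (h : Data t u S A θ) {B : Subgroup G} (hB : Nor t u S B)
    (hc : ∀ x ∈ B, ∀ y ∈ B, x * y = y * x) {x : G} (hx : x ∈ bOne θ B) (h1 : t * x = x * t)
    (h2 : u * x = x * u) : x ∈ A := by
  have key : ∀ x ∈ bOne θ B,
      x * (t * x * t⁻¹) * (u * (x * (t * x * t⁻¹)) * u⁻¹) ∈ A := by
    let P : Subgroup G :=
      { carrier := {x | x ∈ B ∧ x * (t * x * t⁻¹) * (u * (x * (t * x * t⁻¹)) * u⁻¹) ∈ A}
        one_mem' := ⟨one_mem B, by simp⟩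
        mul_mem' := by
          rintro a b ⟨ha, ha'⟩ ⟨hb, hb'⟩
          refine ⟨mul_mem ha hb, ?_⟩
          have e1 := hB.nt a ha
          have e2 := hB.nt b hb
          have e3 := hB.nu _ (mul_mem ha e1)
          have c1 : (t * a * t⁻¹) * b = b * (t * a * t⁻¹) := hc _ e1 _ hb
          have h3 : a * b * (t * (a * b) * t⁻¹) =
              (a * (t * a * t⁻¹)) * (b * (t * b * t⁻¹)) := by
            calc a * b * (t * (a * b) * t⁻¹) = a * (b * (t * a * t⁻¹)) * (t * b * t⁻¹) := by group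
              _ = _ := by rw [← c1]; group
          have h4 : (b * (t * b * t⁻¹)) * (u * (a * (t * a * t⁻¹)) * u⁻¹) =
              (u * (a * (t * a * t⁻¹)) * u⁻¹) * (b * (t * b * t⁻¹)) :=
            hc _ (mul_mem hb e2) _ e3
          have h5 : a * b * (t * (a * b) * t⁻¹) * (u * (a * b * (t * (a * b) * t⁻¹)) * u⁻¹) =
              (a * (t * a * t⁻¹) * (u * (a * (t * a * t⁻¹)) * u⁻¹)) *
              (b * (t * b * t⁻¹) * (u * (b * (t * b * t⁻¹)) * u⁻¹)) := by
            rw [h3]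
            calc _ = (a * (t * a * t⁻¹)) * ((b * (t * b * t⁻¹)) *
                  (u * (a * (t * a * t⁻¹)) * u⁻¹)) * (u * (b * (t * b * t⁻¹)) * u⁻¹) := by group
              _ = _ := by rw [h4]; group
          rw [h5]
          exact mul_mem ha' hb'
        inv_mem' := by
          rintro a ⟨ha, ha'⟩
          refine ⟨inv_mem ha, ?_⟩
          have e1 := hB.nt a ha
          have e3 := hB.nu _ (mul_mem ha e1)
          have c1 : (t * a * t⁻¹) * a = a * (t * a * t⁻¹) := hc _ e1 _ ha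
          have c2 : (u * (a * (t * a * t⁻¹)) * u⁻¹) * (a * (t * a * t⁻¹)) =
              (a * (t * a * t⁻¹)) * (u * (a * (t * a * t⁻¹)) * u⁻¹) :=
            hc _ e3 _ (mul_mem ha e1)
          have h3 : a⁻¹ * (t * a⁻¹ * t⁻¹) = (a * (t * a * t⁻¹))⁻¹ := by
            rw [← c1]; group
          have h4 : a⁻¹ * (t * a⁻¹ * t⁻¹) * (u * (a⁻¹ * (t * a⁻¹ * t⁻¹)) * u⁻¹) =
              (a * (t * a * t⁻¹) * (u * (a * (t * a * t⁻¹)) * u⁻¹))⁻¹ := by
            rw [h3, ← c2]; group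
          rw [h4]
          exact inv_mem ha' }
    have hP : bOne θ B ≤ P := by
      rw [bOne, iSup_le_iff]
      intro i x hx
      refine ⟨hx.2, ?_⟩
      have e1 := hB.nt x hx.2
      have e3 := hB.nu _ (mul_mem hx.2 e1)
      have f1 := h.nt i x hx.1
      have f3 := h.nu i _ (mul_mem hx.1 f1)
      have c1 : (t * x * t⁻¹) * x = x * (t * x * t⁻¹) := hc _ e1 _ hx.2
      have c2 : (u * (x * (t * x * t⁻¹)) * u⁻¹) * (x * (t * x * t⁻¹)) =
          (x * (t * x * t⁻¹)) * (u * (x * (t * x * t⁻¹)) * u⁻¹) :=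
        hc _ e3 _ (mul_mem hx.2 e1)
      have g1 : t * (x * (t * x * t⁻¹)) * t⁻¹ = x * (t * x * t⁻¹) := by
        have h3 := conj_conj h.tt x
        calc t * (x * (t * x * t⁻¹)) * t⁻¹ = (t * x * t⁻¹) * (t * (t * x * t⁻¹) * t⁻¹) := by group
          _ = _ := by rw [h3, c1]
      refine h.le_A i _ (mul_mem (mul_mem hx.1 f1) f3) ?_ ?_
      · rw [commute_iff]
        calc t * (x * (t * x * t⁻¹) * (u * (x * (t * x * t⁻¹)) * u⁻¹)) * t⁻¹
            = (t * (x * (t * x * t⁻¹)) * t⁻¹) *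
              ((t * u) * (x * (t * x * t⁻¹)) * (t * u)⁻¹) := by group
          _ = (t * (x * (t * x * t⁻¹)) * t⁻¹) *
              ((u * t) * (x * (t * x * t⁻¹)) * (u * t)⁻¹) := by rw [h.comm]
          _ = (t * (x * (t * x * t⁻¹)) * t⁻¹) *
              (u * (t * (x * (t * x * t⁻¹)) * t⁻¹) * u⁻¹) := by group
          _ = _ := by rw [g1]
      · rw [commute_iff]
        have h3 := conj_conj h.uu (x * (t * x * t⁻¹))
        calc u * (x * (t * x * t⁻¹) * (u * (x * (t * x * t⁻¹)) * u⁻¹)) * u⁻¹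
            = (u * (x * (t * x * t⁻¹)) * u⁻¹) * (u * (u * (x * (t * x * t⁻¹)) * u⁻¹) * u⁻¹) := by
              group
          _ = _ := by rw [h3, c2]
    exact fun x hx => (hP hx).2
  have h3 := key x hx
  have h4 : t * x * t⁻¹ = x := commute_iff.1 h1
  have h5 : u * (x * x) * u⁻¹ = x * x := by
    have h6 : u * x * u⁻¹ = x := commute_iff.1 h2
    calc u * (x * x) * u⁻¹ = (u * x * u⁻¹) * (u * x * u⁻¹) := by group
      _ = x * x := by rw [h6]
  rw [h4, h5] at h3
  have hxS : x ∈ S := hB.le (bOne_le B hx)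
  exact mem_of_sq h.odd hxS (mem_of_sq h.odd (mul_mem hxS hxS) h3)

/-- The class two argument. -/
theorem Data.class_two (h : Data t u S A θ) {E Z₀ : Subgroup G} (hE : Nor t u S E)
    (hZ : Nor t u S Z₀) (hZ0 : ∀ i, θ i ⊓ Z₀ = ⊥)
    (hEZ : ∀ x ∈ E, ∀ y ∈ E, x * y * x⁻¹ * y⁻¹ ∈ Z₀)
    (hC : ∀ i, ∀ k ∈ θ i, k ∈ E → (∀ e ∈ E, k * e = e * k) → k = 1) : ∀ i, θ i ⊓ E = ⊥ := by
  intro i
  rw [eq_bot_iff]
  rintro k ⟨hk, hkE⟩
  rw [Subgroup.mem_bot]
  refine hC i k hk hkE fun e he => ?_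
  set w := inv3 t u i with hw
  set d := e⁻¹ * (w * e * w⁻¹) with hd
  have hdE : d ∈ E := mul_mem (inv_mem he) (hE.conj_mem i he)
  obtain ⟨n, hn⟩ := exists_lift h.odd (h.sq i) (x := e) (hE.le hdE)
  rw [← hw, ← hd] at hn
  have hcE : e * d ^ n ∈ E := mul_mem he (pow_mem hdE n)
  -- `k` commutes with `e d ^ n`
  have h1 : (e * d ^ n) * k = k * (e * d ^ n) := by
    set c := e * d ^ n with hc
    have h2 : c * k * c⁻¹ * k⁻¹ = 1 := by
      have h3 : c * k * c⁻¹ * k⁻¹ ∈ θ i ⊓ Z₀ := by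
        have h4 : c * k * c⁻¹ * k⁻¹ ∈ θ i :=
          mul_mem (h.norm i c (hE.le hcE) hn k hk) (inv_mem hk)
        exact ⟨h4, hEZ c hcE k hkE⟩
      rw [hZ0 i] at h3
      exact Subgroup.mem_bot.1 h3
    calc c * k = (c * k * c⁻¹ * k⁻¹) * (k * c) := by group
      _ = k * c := by rw [h2, one_mul]
  -- `k` commutes with `d`
  have hkd : k * d = d * k := by
    have h2 : k * e * k⁻¹ * e⁻¹ ∈ Z₀ := hEZ k hkE e he
    obtain ⟨h3, h4⟩ := (h.central hZ hZ0).1 _ h2
    have h5 : w * (k * e * k⁻¹ * e⁻¹) = (k * e * k⁻¹ * e⁻¹) * w := by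
      have : ∀ j, inv3 t u j * (k * e * k⁻¹ * e⁻¹) = (k * e * k⁻¹ * e⁻¹) * inv3 t u j := by
        intro j
        fin_cases j
        · exact h3
        · exact h4
        · change t * u * (k * e * k⁻¹ * e⁻¹) = (k * e * k⁻¹ * e⁻¹) * (t * u)
          rw [mul_assoc t u, h4, ← mul_assoc, h3, mul_assoc]
      exact this i
    have h6 := commute_iff.1 h5
    have h7 : w * k * w⁻¹ = k := commute_iff.1 (h.cent i k hk)
    have h8 : w * (k * e * k⁻¹ * e⁻¹) * w⁻¹ =
        (w * k * w⁻¹) * (w * e * w⁻¹) * (w * k * w⁻¹)⁻¹ * (w * e * w⁻¹)⁻¹ := by group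
    rw [h6, h7] at h8
    have h9 : e * k⁻¹ * e⁻¹ = (w * e * w⁻¹) * k⁻¹ * (w * e * w⁻¹)⁻¹ := by
      calc e * k⁻¹ * e⁻¹ = k⁻¹ * (k * e * k⁻¹ * e⁻¹) := by group
        _ = k⁻¹ * (k * (w * e * w⁻¹) * k⁻¹ * (w * e * w⁻¹)⁻¹) := by rw [h8]
        _ = _ := by group
    have h10 : w * e * w⁻¹ = e * d := by rw [hd]; group
    rw [h10] at h9
    have h11 : k⁻¹ = d * k⁻¹ * d⁻¹ := by
      calc k⁻¹ = e⁻¹ * (e * k⁻¹ * e⁻¹) * e := by group
        _ = e⁻¹ * (e * d * k⁻¹ * (e * d)⁻¹) * e := by rw [h9]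
        _ = _ := by group
    have h12 : k = d * k * d⁻¹ := by
      calc k = (k⁻¹)⁻¹ := by group
        _ = (d * k⁻¹ * d⁻¹)⁻¹ := by rw [← h11]
        _ = _ := by group
    calc k * d = (d * k * d⁻¹) * d := by rw [← h12]
      _ = d * k := by group
  have h2 : Commute k d := hkd
  have h3 : k * (d ^ n)⁻¹ = (d ^ n)⁻¹ * k := (h2.pow_right n).inv_right
  calc k * e = (k * (e * d ^ n)) * (d ^ n)⁻¹ := by group
    _ = (e * d ^ n) * (k * (d ^ n)⁻¹) := by rw [← h1]; group
    _ = e * k := by rw [h3]; group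

theorem Nor.self (h : Data t u S A θ) : Nor t u S S :=
  ⟨le_rfl, fun _ hs _ hn => mul_mem (mul_mem hs hn) (inv_mem hs), h.norm_t, h.norm_u⟩

/-- If no nontrivial normal subgroup `N` satisfies `C_N(V) ≤ A`, then abelian normal subgroups
meet `θ i` trivially. -/
theorem Data.inf_eq_bot (h : Data t u S A θ)
    (hM : ∀ N, Nor t u S N → (∀ x ∈ N, t * x = x * t → u * x = x * u → x ∈ A) → N = ⊥)
    {B : Subgroup G} (hB : Nor t u S B) (hc : ∀ x ∈ B, ∀ y ∈ B, x * y = y * x) (i : Fin 3) :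
    θ i ⊓ B = ⊥ := by
  have h1 := hM _ (h.nor_bOne hB hc) fun x hx h1 h2 => h.bOne_inf hB hc hx h1 h2
  rw [eq_bot_iff, ← h1]
  exact le_bOne B i

theorem conj_mem_center {E : Subgroup G} {g : G} (hg1 : ∀ s ∈ E, g⁻¹ * s * g ∈ E)
    (hg : ∀ s ∈ E, g * s * g⁻¹ ∈ E) {n : G} (hn : n ∈ E ⊓ Subgroup.centralizer (E : Set G)) :
    g * n * g⁻¹ ∈ E ⊓ Subgroup.centralizer (E : Set G) := by
  obtain ⟨hn1, hn2⟩ := Subgroup.mem_inf.1 hn
  rw [Subgroup.mem_inf]
  refine ⟨hg n hn1, ?_⟩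
  rw [Subgroup.mem_centralizer_iff] at hn2 ⊢
  intro s hs
  have h1 := hn2 _ (hg1 s hs)
  calc s * (g * n * g⁻¹) = g * ((g⁻¹ * s * g) * n) * g⁻¹ := by group
    _ = g * (n * (g⁻¹ * s * g)) * g⁻¹ := by rw [h1]
    _ = g * n * g⁻¹ * s := by group

/-- `Z(E)` for `E` normal. -/
theorem Data.nor_center (h : Data t u S A θ) {E : Subgroup G} (hE : Nor t u S E) :
    Nor t u S (E ⊓ Subgroup.centralizer (E : Set G)) := by
  have ht : t⁻¹ = t := inv_eq_of_mul_eq_one_left h.tt
  have hu : u⁻¹ = u := inv_eq_of_mul_eq_one_left h.uu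
  refine ⟨inf_le_left.trans hE.le, fun s hs n hn => conj_mem_center ?_ (hE.nS s hs) hn,
    fun n hn => conj_mem_center ?_ hE.nt hn, fun n hn => conj_mem_center ?_ hE.nu hn⟩
  · intro x hx
    have h1 := hE.nS s⁻¹ (inv_mem hs) x hx
    rwa [inv_inv] at h1
  · intro x hx
    have h1 := hE.nt x hx
    rw [ht] at h1 ⊢
    exact h1
  · intro x hx
    have h1 := hE.nu x hx
    rw [hu] at h1 ⊢
    exact h1

theorem Data.nor_derived (h : Data t u S A θ) (n : ℕ) :
    Nor t u S ((derivedSeries S n).map S.subtype) := by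
  have key : ∀ g : G, (∀ s ∈ S, g * s * g⁻¹ ∈ S) →
      ∀ x ∈ (derivedSeries S n).map S.subtype, g * x * g⁻¹ ∈ (derivedSeries S n).map S.subtype := by
    intro g hg
    let f : S →* S :=
      { toFun := fun s => ⟨g * s * g⁻¹, hg s s.2⟩
        map_one' := by ext; simp
        map_mul' := fun a b => by ext; simp }
    rintro _ ⟨x, hx, rfl⟩
    exact ⟨f x, map_derivedSeries_le_derivedSeries f n ⟨x, hx, rfl⟩, rfl⟩
  refine ⟨?_, fun s hs => key s ?_, key t h.norm_t, key u h.norm_u⟩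
  · rintro _ ⟨x, -, rfl⟩
    exact x.2
  · exact fun x hx => mul_mem (mul_mem hs hx) (inv_mem hs)

theorem Data.eq_bot (h : Data t u S A θ) (hsol : Group.IsSolvable S)
    (hM : ∀ N, Nor t u S N → (∀ x ∈ N, t * x = x * t → u * x = x * u → x ∈ A) → N = ⊥) :
    S = ⊥ := by
  set Z₀ := S ⊓ Subgroup.centralizer (S : Set G) with hZ₀
  have hZ : Nor t u S Z₀ := h.nor_center (Nor.self h)
  have hZc : ∀ x ∈ Z₀, ∀ y ∈ Z₀, x * y = y * x := fun x hx y hy =>
    Subgroup.mem_centralizer_iff.1 hy.2 x hx.1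
  have hZ0 := h.inf_eq_bot hM hZ hZc
  -- all terms of the derived series lie in `Z₀`
  obtain ⟨m, hm⟩ := hsol.solvable
  have hstep : ∀ n, (derivedSeries S (n + 1)).map S.subtype ≤ Z₀ →
      (derivedSeries S n).map S.subtype ≤ Z₀ := by
    intro n hn
    set E := (derivedSeries S n).map S.subtype with hE
    have hEN : Nor t u S E := h.nor_derived n
    have hEZ : ∀ x ∈ E, ∀ y ∈ E, x * y * x⁻¹ * y⁻¹ ∈ Z₀ := by
      rintro _ ⟨x, hx, rfl⟩ _ ⟨y, hy, rfl⟩
      apply hn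
      refine ⟨⁅x, y⁆, ?_, by simp [commutatorElement_def]⟩
      rw [derivedSeries_succ]
      exact Subgroup.commutator_mem_commutator hx hy
    have hC : ∀ i, ∀ k ∈ θ i, k ∈ E → (∀ e ∈ E, k * e = e * k) → k = 1 := by
      intro i k hk hkE hkc
      have hZE := h.nor_center hEN
      have h1 := h.inf_eq_bot hM hZE (fun x hx y hy =>
        Subgroup.mem_centralizer_iff.1 hy.2 x hx.1) i
      have h2 : k ∈ θ i ⊓ (E ⊓ Subgroup.centralizer (E : Set G)) :=
        ⟨hk, hkE, Subgroup.mem_centralizer_iff.2 fun e he => (hkc e he).symm⟩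
      rw [h1] at h2
      exact Subgroup.mem_bot.1 h2
    have hE0 := h.class_two hEN hZ hZ0 hEZ hC
    have h2 := (h.central hEN hE0).2
    intro e he
    exact ⟨hEN.le he, Subgroup.mem_centralizer_iff.2 fun s hs => (h2 e he s hs).symm⟩
  have hall : ∀ j n, n + j = m → (derivedSeries S n).map S.subtype ≤ Z₀ := by
    intro j
    induction j with
    | zero =>
      intro n hn
      have h1 : n = m := by omega
      rw [h1, hm, Subgroup.map_bot]
      exact bot_le
    | succ j ih =>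
      intro n hn
      exact hstep n (ih (n + 1) (by omega))
  have hSZ : S ≤ Z₀ := by
    have h1 := hall m 0 (by omega)
    intro s hs
    exact h1 ⟨⟨s, hs⟩, by rw [derivedSeries_zero]; trivial, rfl⟩
  have hSc : ∀ x ∈ S, ∀ y ∈ S, x * y = y * x := fun x hx y hy => hZc x (hSZ hx) y (hSZ hy)
  have h1 := h.inf_eq_bot hM (Nor.self h) hSc
  rw [eq_bot_iff]
  refine h.gen.trans (iSup_le fun i => ?_)
  rw [← h1 i]
  exact le_inf le_rfl (h.le i)

end Main

section Quot

variable {G : Type*} [Group G] {t u : G} {S A : Subgroup G} {θ : Fin 3 → Subgroup G}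

theorem map_inv3 {H : Type*} [Group H] (f : G →* H) (i : Fin 3) :
    inv3 (f t) (f u) i = f (inv3 t u i) := by
  fin_cases i
  · rfl
  · rfl
  · exact (map_mul f t u).symm

/-- The data modulo a normal subgroup contained in `S`. -/
theorem Data.quot (h : Data t u S A θ) {N : Subgroup G} [N.Normal] (hN : N ≤ S) :
    Data (QuotientGroup.mk' N t) (QuotientGroup.mk' N u) (S.map (QuotientGroup.mk' N))
      (A.map (QuotientGroup.mk' N)) (fun i => (θ i).map (QuotientGroup.mk' N)) := by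
  set π := QuotientGroup.mk' N with hπ
  have hmem : ∀ x y : G, π x = π y → x⁻¹ * y ∈ N := fun x y hxy => by
    rw [hπ, QuotientGroup.mk'_apply, QuotientGroup.mk'_apply] at hxy
    exact QuotientGroup.eq.1 hxy
  have hone : ∀ x ∈ N, π x = 1 := fun x hx => by
    rw [hπ, QuotientGroup.mk'_apply]
    exact (QuotientGroup.eq_one_iff x).2 hx
  -- lifting
  have lift : ∀ (w x : G), w * w = 1 → π w * π x = π x * π w →
      ∃ n : ℕ, w * (x * (x⁻¹ * (w * x * w⁻¹)) ^ n) = (x * (x⁻¹ * (w * x * w⁻¹)) ^ n) * w ∧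
        x⁻¹ * (w * x * w⁻¹) ∈ N := by
    intro w x hw hx
    have h1 : x⁻¹ * (w * x * w⁻¹) ∈ N := by
      apply hmem
      rw [map_mul, map_mul, map_inv, hx]
      group
    obtain ⟨n, hn⟩ := exists_lift h.odd hw (hN h1)
    exact ⟨n, hn, h1⟩
  refine
    { tt := by rw [← map_mul, h.tt, map_one]
      uu := by rw [← map_mul, h.uu, map_one]
      comm := by rw [← map_mul, h.comm, map_mul]
      odd := h.odd.of_dvd_nat (Subgroup.card_map_dvd S π)
      norm_t := ?_
      norm_u := ?_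
      le := fun i => Subgroup.map_mono (h.le i)
      cent := ?_
      norm := ?_
      nt := ?_
      nu := ?_
      A_le := fun i => Subgroup.map_mono (h.A_le i)
      le_A := ?_
      prod := ?_
      gen := ?_ }
  · rintro _ ⟨s, hs, rfl⟩
    exact ⟨t * s * t⁻¹, h.norm_t s hs, by simp⟩
  · rintro _ ⟨s, hs, rfl⟩
    exact ⟨u * s * u⁻¹, h.norm_u s hs, by simp⟩
  · rintro i _ ⟨k, hk, rfl⟩
    rw [map_inv3, ← map_mul, h.cent i k hk, map_mul]
  · rintro i _ ⟨x, hx, rfl⟩ hc _ ⟨k, hk, rfl⟩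
    rw [map_inv3] at hc
    obtain ⟨n, hn, hd⟩ := lift _ x (h.sq i) hc
    have hx' : x * (x⁻¹ * (inv3 t u i * x * (inv3 t u i)⁻¹)) ^ n ∈ S :=
      mul_mem hx (pow_mem (hN hd) n)
    refine ⟨_, h.norm i _ hx' hn k hk, ?_⟩
    rw [map_mul, map_mul, map_inv, map_mul π x, map_pow, hone _ hd, one_pow, mul_one]
  · rintro i _ ⟨k, hk, rfl⟩
    exact ⟨t * k * t⁻¹, h.nt i k hk, by simp⟩
  · rintro i _ ⟨k, hk, rfl⟩
    exact ⟨u * k * u⁻¹, h.nu i k hk, by simp⟩
  · rintro i _ ⟨k, hk, rfl⟩ h1 h2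
    obtain ⟨n, hn, hd⟩ := lift t k h.tt h1
    have hdθ : k⁻¹ * (t * k * t⁻¹) ∈ θ i := mul_mem (inv_mem hk) (h.nt i k hk)
    set k₁ := k * (k⁻¹ * (t * k * t⁻¹)) ^ n with hk₁
    have hk₁θ : k₁ ∈ θ i := mul_mem hk (pow_mem hdθ n)
    have hπ₁ : π k₁ = π k := by rw [hk₁, map_mul, map_pow, hone _ hd, one_pow, mul_one]
    rw [← hπ₁] at h2
    obtain ⟨m, hm, he⟩ := lift u k₁ h.uu h2
    have heθ : k₁⁻¹ * (u * k₁ * u⁻¹) ∈ θ i := mul_mem (inv_mem hk₁θ) (h.nu i k₁ hk₁θ)
    have hte : Commute t (k₁⁻¹ * (u * k₁ * u⁻¹)) := by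
      have h3 : Commute t k₁ := hn
      have h4 : Commute t u := h.comm
      exact h3.inv_right.mul_right ((h4.mul_right h3).mul_right h4.inv_right)
    have hk₂ : k₁ * (k₁⁻¹ * (u * k₁ * u⁻¹)) ^ m ∈ θ i := mul_mem hk₁θ (pow_mem heθ m)
    have hk₂t : Commute t (k₁ * (k₁⁻¹ * (u * k₁ * u⁻¹)) ^ m) := by
      have h3 : Commute t k₁ := hn
      exact h3.mul_right (hte.pow_right m)
    refine ⟨_, h.le_A i _ hk₂ hk₂t hm, ?_⟩
    rw [map_mul, map_pow, hone _ he, one_pow, mul_one, hπ₁]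
  · rintro i _ ⟨x, hx, rfl⟩ hc
    rw [map_inv3] at hc
    obtain ⟨n, hn, hd⟩ := lift _ x (h.sq i) hc
    have hx' : x * (x⁻¹ * (inv3 t u i * x * (inv3 t u i)⁻¹)) ^ n ∈ S :=
      mul_mem hx (pow_mem (hN hd) n)
    obtain ⟨k, hk, z, hz, hz1, hz2, he⟩ := h.prod i _ hx' hn
    refine ⟨π k, ⟨k, hk, rfl⟩, π z, ⟨z, hz, rfl⟩, ?_, ?_, ?_⟩
    · rw [← map_mul, hz1, map_mul]
    · rw [← map_mul, hz2, map_mul]
    · rw [← map_mul, ← he, map_mul, map_pow, hone _ hd, one_pow, mul_one]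
  · rw [← Subgroup.map_iSup]
    exact Subgroup.map_mono h.gen

theorem isSolvable_map {H : Type*} [Group H] (f : G →* H) (hsol : Group.IsSolvable S) :
    Group.IsSolvable (S.map f) :=
  Group.isSolvable_of_surjective (f := f.subgroupMap S) (f.subgroupMap_surjective S)

end Quot

/-- The induction. -/
theorem main (n : ℕ) : ∀ (G : Type*) [Group G] [Finite G] (t u : G) (S A : Subgroup G)
    (θ : Fin 3 → Subgroup G), Nat.card G ≤ n → Data t u S A θ → Group.IsSolvable S →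
    S ⊔ Subgroup.zpowers t ⊔ Subgroup.zpowers u = ⊤ →
    ∀ x ∈ S, t * x = x * t → u * x = x * u → x ∈ A := by
  induction n with
  | zero =>
    intro G _ _ t u S A θ hn
    have := Nat.card_pos (α := G)
    omega
  | succ n ih =>
    intro G _ _ t u S A θ hn h hsol htop x hx hxt hxu
    by_cases hM : ∀ N, Nor t u S N → (∀ x ∈ N, t * x = x * t → u * x = x * u → x ∈ A) → N = ⊥
    · have h1 := h.eq_bot hsol hM
      rw [h1, Subgroup.mem_bot] at hx
      rw [hx]
      exact one_mem A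
    · push Not at hM
      obtain ⟨N, hN, hNA, hN1⟩ := hM
      have hnorm : N.Normal := by
        have h1 : (⊤ : Subgroup G) ≤ Subgroup.normalizer (N : Set G) := by
          rw [← htop, sup_le_iff, sup_le_iff, Subgroup.zpowers_le, Subgroup.zpowers_le]
          refine ⟨⟨fun s hs => ?_, ?_⟩, ?_⟩
          · exact Subgroup.mem_normalizer_fintype (S := (N : Set G)) (fun n hn => hN.nS s hs n hn)
          · exact Subgroup.mem_normalizer_fintype (S := (N : Set G)) (fun n hn => hN.nt n hn)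
          · exact Subgroup.mem_normalizer_fintype (S := (N : Set G)) (fun n hn => hN.nu n hn)
        exact Subgroup.normalizer_eq_top_iff.1 (top_le_iff.1 h1)
      have hlt : Nat.card (G ⧸ N) ≤ n := by
        have h1 := Subgroup.card_eq_card_quotient_mul_card_subgroup N
        have h2 : 1 < Nat.card N := Subgroup.one_lt_card_iff_ne_bot N |>.2 hN1
        have h3 := Nat.card_pos (α := G ⧸ N)
        nlinarith
      have h1 := ih (G ⧸ N) (QuotientGroup.mk' N t) (QuotientGroup.mk' N u)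
        (S.map (QuotientGroup.mk' N)) (A.map (QuotientGroup.mk' N))
        (fun i => (θ i).map (QuotientGroup.mk' N)) hlt (h.quot hN.le) (isSolvable_map _ hsol)
        (by
          rw [← MonoidHom.map_zpowers, ← MonoidHom.map_zpowers, ← Subgroup.map_sup,
            ← Subgroup.map_sup, htop, Subgroup.map_top_of_surjective _
              (QuotientGroup.mk'_surjective N)])
        (QuotientGroup.mk' N x) ⟨x, hx, rfl⟩ (by rw [← map_mul, hxt, map_mul])
        (by rw [← map_mul, hxu, map_mul])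
      obtain ⟨a, ha, hax⟩ := h1
      have h2 : a⁻¹ * x ∈ N := by
        rw [QuotientGroup.mk'_apply, QuotientGroup.mk'_apply] at hax
        exact QuotientGroup.eq.1 hax
      have ht : Commute t a := h.cent 0 a (h.A_le 0 ha)
      have hu : Commute u a := h.cent 1 a (h.A_le 1 ha)
      have hxt' : Commute t x := hxt
      have hxu' : Commute u x := hxu
      have h3 := hNA _ h2 (ht.inv_right.mul_right hxt') (hu.inv_right.mul_right hxu')
      have h4 : x = a * (a⁻¹ * x) := by group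
      rw [h4]
      exact mul_mem ha h3

/-- **Solvable completeness**, general form. -/
theorem Data.complete {G : Type*} [Group G] [Finite G] {t u : G} {S A : Subgroup G}
    {θ : Fin 3 → Subgroup G} (h : Data t u S A θ) (hsol : Group.IsSolvable S) {x : G}
    (hx : x ∈ S) (hxt : t * x = x * t) (hxu : u * x = x * u) : x ∈ A := by
  set H := S ⊔ Subgroup.zpowers t ⊔ Subgroup.zpowers u with hH
  have hSH : S ≤ H := le_sup_left.trans le_sup_left
  have htH : t ∈ H := (le_sup_right.trans le_sup_left : Subgroup.zpowers t ≤ H)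
    (Subgroup.mem_zpowers t)
  have huH : u ∈ H := (le_sup_right : Subgroup.zpowers u ≤ H) (Subgroup.mem_zpowers u)
  have hθH : ∀ i, θ i ≤ H := fun i => (h.le i).trans hSH
  have hv : ∀ i, ((inv3 (⟨t, htH⟩ : H) ⟨u, huH⟩ i : H) : G) = inv3 t u i := by
    intro i
    fin_cases i <;> rfl
  have hD : Data (⟨t, htH⟩ : H) ⟨u, huH⟩ (S.subgroupOf H) (A.subgroupOf H)
      (fun i => (θ i).subgroupOf H) := by
    refine
      { tt := Subtype.ext h.tt
        uu := Subtype.ext h.uu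
        comm := Subtype.ext h.comm
        odd := ?_
        norm_t := fun s hs => h.norm_t s hs
        norm_u := fun s hs => h.norm_u s hs
        le := fun i x hx => h.le i hx
        cent := fun i k hk => Subtype.ext ?_
        norm := fun i y hy hc k hk => ?_
        nt := fun i k hk => h.nt i k hk
        nu := fun i k hk => h.nu i k hk
        A_le := fun i x hx => h.A_le i hx
        le_A := fun i k hk h1 h2 => h.le_A i k hk (congrArg Subtype.val h1) (congrArg Subtype.val h2)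
        prod := fun i y hy hc => ?_
        gen := ?_ }
    · rw [Nat.card_congr (Subgroup.subgroupOfEquivOfLe hSH).toEquiv]
      exact h.odd
    · rw [Subgroup.coe_mul, Subgroup.coe_mul, hv]
      exact h.cent i k hk
    · have h1 := congrArg Subtype.val hc
      rw [Subgroup.coe_mul, Subgroup.coe_mul, hv] at h1
      exact h.norm i y hy h1 k hk
    · have h1 := congrArg Subtype.val hc
      rw [Subgroup.coe_mul, Subgroup.coe_mul, hv] at h1
      obtain ⟨k, hk, z, hz, hz1, hz2, he⟩ := h.prod i y hy h1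
      exact ⟨⟨k, hθH i hk⟩, hk, ⟨z, hSH hz⟩, hz, Subtype.ext hz1, Subtype.ext hz2, Subtype.ext he⟩
    · have h1 : (⨆ i, (θ i).subgroupOf H) = (⨆ i, θ i).subgroupOf H := by
        apply Subgroup.map_injective H.subtype_injective
        rw [Subgroup.map_iSup]
        simp only [Subgroup.subgroupOf_map_subtype]
        rw [inf_eq_left.2 (iSup_le hθH)]
        exact iSup_congr fun i => inf_eq_left.2 (hθH i)
      rw [h1]
      exact fun y hy => h.gen hy
  have htop : (S.subgroupOf H) ⊔ Subgroup.zpowers (⟨t, htH⟩ : H) ⊔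
      Subgroup.zpowers (⟨u, huH⟩ : H) = ⊤ := by
    apply Subgroup.map_injective H.subtype_injective
    rw [Subgroup.map_sup, Subgroup.map_sup, MonoidHom.map_zpowers, MonoidHom.map_zpowers,
      Subgroup.subgroupOf_map_subtype, inf_eq_left.2 hSH, ← MonoidHom.range_eq_map,
      Subgroup.range_subtype]
    exact hH.symm
  have hs : Group.IsSolvable (S.subgroupOf H) :=
    Group.isSolvable_of_isSolvable_injective
      (f := (Subgroup.subgroupOfEquivOfLe hSH).toMonoidHom)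
      (Subgroup.subgroupOfEquivOfLe hSH).injective
  exact main (Nat.card H) H _ _ _ _ _ le_rfl hD hs htop ⟨x, hSH hx⟩ hx (Subtype.ext hxt)
    (Subtype.ext hxu)

open Cfsg.Agent.Classification.QDW.Theta in
/-- **Lemma (SC)** of post 4737: solvable completeness. -/
theorem solv_complete {G : Type*} [Group G] [Finite G] {t u : G} (hV : Four t u)
    {S A θt θu θv : Subgroup G} (hS : ¬ 2 ∣ Nat.card S) (hsol : Group.IsSolvable S)
    (ht : t ∈ Subgroup.normalizer (S : Set G)) (hu : u ∈ Subgroup.normalizer (S : Set G))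
    (lt : θt ≤ S ⊓ Subgroup.centralizer {t}) (lu : θu ≤ S ⊓ Subgroup.centralizer {u})
    (lv : θv ≤ S ⊓ Subgroup.centralizer {t * u})
    (nt : S ⊓ Subgroup.centralizer {t} ≤ Subgroup.normalizer (θt : Set G))
    (nu : S ⊓ Subgroup.centralizer {u} ≤ Subgroup.normalizer (θu : Set G))
    (nv : S ⊓ Subgroup.centralizer {t * u} ≤ Subgroup.normalizer (θv : Set G))
    (tt : t ∈ Subgroup.normalizer (θt : Set G)) (tu : u ∈ Subgroup.normalizer (θt : Set G))
    (ut : t ∈ Subgroup.normalizer (θu : Set G)) (uu : u ∈ Subgroup.normalizer (θu : Set G))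
    (vt : t ∈ Subgroup.normalizer (θv : Set G)) (vu : u ∈ Subgroup.normalizer (θv : Set G))
    (At : θt ⊓ Subgroup.centralizer {t} ⊓ Subgroup.centralizer {u} = A)
    (Au : θu ⊓ Subgroup.centralizer {t} ⊓ Subgroup.centralizer {u} = A)
    (Av : θv ⊓ Subgroup.centralizer {t} ⊓ Subgroup.centralizer {u} = A)
    (pt : ∀ y ∈ S, y ∈ Subgroup.centralizer {t} → ∃ k ∈ θt, ∃ z ∈ S,
      z ∈ Subgroup.centralizer {t} ∧ z ∈ Subgroup.centralizer {u} ∧ y = k * z)
    (pu : ∀ y ∈ S, y ∈ Subgroup.centralizer {u} → ∃ k ∈ θu, ∃ z ∈ S,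
      z ∈ Subgroup.centralizer {t} ∧ z ∈ Subgroup.centralizer {u} ∧ y = k * z)
    (pv : ∀ y ∈ S, y ∈ Subgroup.centralizer {t * u} → ∃ k ∈ θv, ∃ z ∈ S,
      z ∈ Subgroup.centralizer {t} ∧ z ∈ Subgroup.centralizer {u} ∧ y = k * z)
    (gen : S ≤ θt ⊔ θu ⊔ θv) :
    S ⊓ Subgroup.centralizer {t} ⊓ Subgroup.centralizer {u} ≤ A := by
  have hmem : ∀ {w x : G}, x ∈ Subgroup.centralizer {w} ↔ w * x = x * w := fun {w x} => by
    rw [Subgroup.mem_centralizer_singleton_iff]
    exact eq_comm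
  have hD : Data t u S A ![θt, θu, θv] := by
    refine
      { tt := hV.tt
        uu := hV.uu
        comm := hV.comm
        odd := Nat.not_even_iff_odd.1 fun h => hS (even_iff_two_dvd.1 h)
        norm_t := fun s hs => (Subgroup.mem_normalizer_iff.1 ht s).1 hs
        norm_u := fun s hs => (Subgroup.mem_normalizer_iff.1 hu s).1 hs
        le := ?_
        cent := ?_
        norm := ?_
        nt := ?_
        nu := ?_
        A_le := ?_
        le_A := ?_
        prod := ?_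
        gen := ?_ }
    · intro i
      fin_cases i
      · exact lt.trans inf_le_left
      · exact lu.trans inf_le_left
      · exact lv.trans inf_le_left
    · intro i k hk
      fin_cases i
      · exact hmem.1 (lt hk).2
      · exact hmem.1 (lu hk).2
      · exact hmem.1 (lv hk).2
    · intro i y hy hc k hk
      fin_cases i
      · exact (Subgroup.mem_normalizer_iff.1 (nt ⟨hy, hmem.2 hc⟩) k).1 hk
      · exact (Subgroup.mem_normalizer_iff.1 (nu ⟨hy, hmem.2 hc⟩) k).1 hk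
      · exact (Subgroup.mem_normalizer_iff.1 (nv ⟨hy, hmem.2 hc⟩) k).1 hk
    · intro i k hk
      fin_cases i
      · exact (Subgroup.mem_normalizer_iff.1 tt k).1 hk
      · exact (Subgroup.mem_normalizer_iff.1 ut k).1 hk
      · exact (Subgroup.mem_normalizer_iff.1 vt k).1 hk
    · intro i k hk
      fin_cases i
      · exact (Subgroup.mem_normalizer_iff.1 tu k).1 hk
      · exact (Subgroup.mem_normalizer_iff.1 uu k).1 hk
      · exact (Subgroup.mem_normalizer_iff.1 vu k).1 hk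
    · intro i
      fin_cases i
      · exact At ▸ inf_le_left.trans inf_le_left
      · exact Au ▸ inf_le_left.trans inf_le_left
      · exact Av ▸ inf_le_left.trans inf_le_left
    · intro i k hk h1 h2
      fin_cases i
      · rw [← At]; exact ⟨⟨hk, hmem.2 h1⟩, hmem.2 h2⟩
      · rw [← Au]; exact ⟨⟨hk, hmem.2 h1⟩, hmem.2 h2⟩
      · rw [← Av]; exact ⟨⟨hk, hmem.2 h1⟩, hmem.2 h2⟩
    · intro i y hy hc
      fin_cases i
      · obtain ⟨k, hk, z, hz, h1, h2, h3⟩ := pt y hy (hmem.2 hc)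
        exact ⟨k, hk, z, hz, hmem.1 h1, hmem.1 h2, h3⟩
      · obtain ⟨k, hk, z, hz, h1, h2, h3⟩ := pu y hy (hmem.2 hc)
        exact ⟨k, hk, z, hz, hmem.1 h1, hmem.1 h2, h3⟩
      · obtain ⟨k, hk, z, hz, h1, h2, h3⟩ := pv y hy (hmem.2 hc)
        exact ⟨k, hk, z, hz, hmem.1 h1, hmem.1 h2, h3⟩
    · refine gen.trans (sup_le (sup_le ?_ ?_) ?_)
      · exact le_iSup (![θt, θu, θv] : Fin 3 → Subgroup G) 0
      · exact le_iSup (![θt, θu, θv] : Fin 3 → Subgroup G) 1
      · exact le_iSup (![θt, θu, θv] : Fin 3 → Subgroup G) 2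
  rintro x ⟨⟨hx, hxt⟩, hxu⟩
  exact hD.complete hsol hx (hmem.1 hxt) (hmem.1 hxu)

end Cfsg.Agent.Classification.QDW.SolvComplete
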