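import Mathlib
import Cfsg.Agent.Lib.CoprimeHyperplane
import Cfsg.Agent.Solvable.Glauberman
import Cfsg.Agent.Classification.QDW.ThetaFour

/-!
# Invariant Sylow subgroups

Sylow subgroups of groups of odd order invariant under a 2-group.
-/

set_option autoImplicit false

namespace Cfsg.Agent.Classification.QDW.Theta

open Subgroup Cfsg
open Cfsg.Agent.Walter.SylowIn Cfsg.Agent.Walter.OddCoreIn Cfsg.Agent.Walter.Cover

variable {G : Type*} [Group G]

section Conj

/-- conjugate of a subgroup -/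
abbrev cj (g : G) (D : Subgroup G) : Subgroup G := D.map (MulAut.conj g).toMonoidHom

theorem mem_cj {g x : G} {D : Subgroup G} : x ∈ cj g D ↔ g⁻¹ * x * g ∈ D := by
  constructor
  · rintro ⟨y, hy, rfl⟩
    show g⁻¹ * (g * y * g⁻¹) * g ∈ D
    have h1 : g⁻¹ * (g * y * g⁻¹) * g = y := by group
    rwa [h1]
  · intro h
    refine ⟨g⁻¹ * x * g, h, ?_⟩
    show g * (g⁻¹ * x * g) * g⁻¹ = x
    group

theorem conj_mem_cj {g x : G} {D : Subgroup G} (hx : x ∈ D) : g * x * g⁻¹ ∈ cj g D :=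
  ⟨x, hx, rfl⟩

theorem cj_mul (a b : G) (D : Subgroup G) : cj (a * b) D = cj a (cj b D) := by
  ext x
  rw [mem_cj, mem_cj, mem_cj]
  rw [show (a * b)⁻¹ * x * (a * b) = b⁻¹ * (a⁻¹ * x * a) * b by group]

theorem cj_one (D : Subgroup G) : cj 1 D = D := by
  ext x
  rw [mem_cj]
  simp

theorem cj_inv_cj (a : G) (D : Subgroup G) : cj a⁻¹ (cj a D) = D := by
  rw [← cj_mul, inv_mul_cancel, cj_one]

theorem cj_cj_inv (a : G) (D : Subgroup G) : cj a (cj a⁻¹ D) = D := by
  rw [← cj_mul, mul_inv_cancel, cj_one]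

theorem cj_eq_of_mem_normalizer {g : G} {D : Subgroup G} (h : g ∈ normalizer (D : Set G)) :
    cj g D = D := by
  ext x
  rw [mem_cj]
  have := (mem_normalizer_iff.1 (inv_mem h)) x
  rw [inv_inv] at this
  exact this.symm

theorem mem_normalizer_of_cj_eq {g : G} {D : Subgroup G} (h : cj g D = D) :
    g ∈ normalizer (D : Set G) := by
  rw [mem_normalizer_iff]
  intro x
  constructor
  · intro hx
    rw [← h]
    exact conj_mem_cj hx
  · intro hx
    rw [← h, mem_cj] at hx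
    have h1 : g⁻¹ * (g * x * g⁻¹) * g = x := by group
    rwa [h1] at hx

theorem mem_normalizer_cj {g x : G} {D : Subgroup G} (h : x ∈ normalizer (D : Set G)) :
    g * x * g⁻¹ ∈ normalizer ((cj g D : Subgroup G) : Set G) := by
  apply mem_normalizer_of_cj_eq
  rw [← cj_mul]
  have h1 : g * x * g⁻¹ * g = g * x := by group
  rw [h1, cj_mul, cj_eq_of_mem_normalizer h]

theorem card_cj (g : G) (D : Subgroup G) : Nat.card (cj g D) = Nat.card D :=
  card_map_of_injective (MulAut.conj g).injective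

theorem cj_mono {g : G} {D E : Subgroup G} (h : D ≤ E) : cj g D ≤ cj g E := map_mono h

theorem cj_sup (g : G) (D E : Subgroup G) : cj g (D ⊔ E) = cj g D ⊔ cj g E := map_sup _ _ _

theorem cj_ne_bot {g : G} {D : Subgroup G} (h : D ≠ ⊥) : cj g D ≠ ⊥ := by
  intro h1
  apply h
  rw [← cj_inv_cj g D, h1]
  exact map_bot _

theorem cj_C (g x : G) : cj g (C x) = C (g * x * g⁻¹) := by
  ext y
  rw [mem_cj, mem_C, mem_C]
  constructor
  · intro h
    calc y * (g * x * g⁻¹) = g * ((g⁻¹ * y * g) * x) * g⁻¹ := by group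
      _ = g * (x * (g⁻¹ * y * g)) * g⁻¹ := by rw [h]
      _ = g * x * g⁻¹ * y := by group
  · intro h
    calc g⁻¹ * y * g * x = g⁻¹ * (y * (g * x * g⁻¹)) * g := by group
      _ = g⁻¹ * ((g * x * g⁻¹) * y) * g := by rw [h]
      _ = x * (g⁻¹ * y * g) := by group

theorem mem_K_conj [Finite G] (g x y : G) : y ∈ K (g * x * g⁻¹) ↔ g⁻¹ * y * g ∈ K x :=
  Cfsg.Agent.StandardComponent.CentCore.mem_core_conj g x y

theorem cj_K [Finite G] (g x : G) : cj g (K x) = K (g * x * g⁻¹) := by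
  ext y
  rw [mem_cj, mem_K_conj]

end Conj

section Syl

variable [Finite G] {r : ℕ} [Fact r.Prime]

theorem SylIn.cj {P H : Subgroup G} (hP : SylIn r P H) (g : G) : SylIn r (cj g P) (cj g H) :=
  hP.map_conj g

/-- an invariant Sylow subgroup -/
theorem exists_inv_syl {A Y : Subgroup G} (hA : IsPGroup 2 A) (hY : ¬ 2 ∣ Nat.card Y)
    (hAY : A ≤ normalizer (Y : Set G)) : ∃ P, SylIn r P Y ∧ A ≤ normalizer (P : Set G) := by
  have : Fact (Nat.Prime 2) := ⟨Nat.prime_two⟩
  obtain ⟨P, hP⟩ := Lib.CoprimeHyperplane.exists_invariant_sylow hA hAY hY r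
  exact ⟨_, ⟨P, rfl⟩, hP⟩

/-- invariant Sylow subgroups are conjugate under fixed elements -/
theorem exists_conj_inv_syl {A Y P Q : Subgroup G} (hA : IsPGroup 2 A) (hY : ¬ 2 ∣ Nat.card Y)
    (hAY : A ≤ normalizer (Y : Set G)) (hP : SylIn r P Y) (hQ : SylIn r Q Y)
    (hAP : A ≤ normalizer (P : Set G)) (hAQ : A ≤ normalizer (Q : Set G)) :
    ∃ m ∈ Y, m ∈ centralizer (A : Set G) ∧ Theta.cj m P = Q := by
  have : Fact (Nat.Prime 2) := ⟨Nat.prime_two⟩
  let act : MulAction G (Subgroup G) :=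
    { smul := fun g D => Theta.cj g D
      one_smul := cj_one
      mul_smul := cj_mul }
  have hsmul : ∀ (g : G) (D : Subgroup G), g • D = Theta.cj g D := fun g D => rfl
  have hcop : (Nat.card A).Coprime (Nat.card Y) := by
    obtain ⟨n, hn⟩ := IsPGroup.iff_card.1 hA
    rw [hn]
    exact Nat.Coprime.pow_left _ ((Nat.Prime.coprime_iff_not_dvd Nat.prime_two).2 hY)
  have hsol : Group.IsSolvable A := by
    have := hA.isNilpotent
    infer_instance
  obtain ⟨k, hk, hk'⟩ := hP.exists_conj hQ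
  obtain ⟨c, hc, hcA, hcc⟩ := Solvable.Glauberman.exists_centralizer_smul A Y hAY hcop (Or.inl hsol)
    P Q (fun a ha => cj_eq_of_mem_normalizer (hAP ha))
    (fun a ha => cj_eq_of_mem_normalizer (hAQ ha)) hk hk'
  exact ⟨c, hc, hcA, hcc⟩

/-- a normal `r`-subgroup lies in every Sylow `r`-subgroup. -/
theorem SylIn.le_of_normal {P H R : Subgroup G} (hP : SylIn r P H) (hR : IsPGroup r R)
    (hRH : R ≤ H) (hn : H ≤ normalizer (R : Set G)) : R ≤ P := by
  obtain ⟨g, hg, h1⟩ := hP.conj_le hRH hR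
  intro x hx
  have h2 : g⁻¹ * x * g ∈ R := mem_norm_conj' (hn hg) hx
  have h3 := h1 _ h2
  rwa [show g * (g⁻¹ * x * g) * g⁻¹ = x by group] at h3

/-- Proper subgroups of an `r`-group are smaller than their normalizers. -/
theorem exists_mem_normalizer {P R : Subgroup G} (hP : IsPGroup r P) (hRP : R ≤ P) (hne : R ≠ P) :
    ∃ x ∈ P, x ∈ normalizer (R : Set G) ∧ x ∉ R := by
  have hlt : R < P := lt_of_le_of_ne hRP hne
  have hnil : Group.IsNilpotent P := hP.isNilpotent
  have hTP' : R.subgroupOf P < ⊤ := by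
    rw [lt_top_iff_ne_top]
    intro h
    rw [subgroupOf_eq_top] at h
    exact hlt.not_ge h
  have h2 := Group.normalizerCondition_of_isNilpotent (R.subgroupOf P) hTP'
  obtain ⟨x, hx, hxT⟩ := SetLike.exists_of_lt h2
  refine ⟨x, x.2, ?_, fun h => hxT (mem_subgroupOf.2 h)⟩
  rw [mem_normalizer_iff]
  intro y
  constructor
  · intro hy
    have := (mem_normalizer_iff.1 hx ⟨y, hRP hy⟩).1 (mem_subgroupOf.2 hy)
    exact mem_subgroupOf.1 this
  · intro hy
    have hyP : y ∈ P := by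
      have := mul_mem (mul_mem (inv_mem x.2) (hRP hy)) x.2
      convert this using 1
      group
    exact mem_subgroupOf.1 ((mem_normalizer_iff.1 hx ⟨y, hyP⟩).2 (mem_subgroupOf.2 hy))

/-- A Sylow subgroup of its normalizer in `S` is a Sylow subgroup of `S`. -/
theorem sylIn_of_normalizer {R S : Subgroup G} (h : SylIn r R (S ⊓ normalizer (R : Set G))) :
    SylIn r R S := by
  have hRS : R ≤ S := h.le.trans inf_le_left
  obtain ⟨P, hP, hRP⟩ := exists_sylIn_ge hRS h.isPGroup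
  by_cases hne : R = P
  · rw [hne]; exact hP
  exfalso
  obtain ⟨x, hxP, hxN, hxR⟩ := exists_mem_normalizer hP.isPGroup hRP hne
  have h2 := h.eq_of_le (R := P ⊓ normalizer (R : Set G)) (le_inf hRP Subgroup.le_normalizer)
    (inf_le_inf_right _ hP.le) (hP.isPGroup.to_le inf_le_left)
  apply hxR
  rw [← h2]
  exact mem_inf.2 ⟨hxP, hxN⟩

theorem zpowers_isPGroup {t : G} (h : t * t = 1) : IsPGroup 2 (zpowers t) := by
  rintro ⟨x, hx⟩
  refine ⟨1, Subtype.ext ?_⟩
  obtain ⟨n, rfl⟩ := mem_zpowers_iff.1 hx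
  show (t ^ n) ^ 2 ^ 1 = 1
  rw [pow_one, ← zpow_natCast, ← zpow_mul, mul_comm, zpow_mul, zpow_natCast, sq, h, one_zpow]

/-- The normalizer of a `t`-invariant Sylow subgroup of a `C(t)`-invariant odd order subgroup `D`
with `C_D(t) ≤ K t` covers `C(t)/K t`. -/
theorem cov_normalizer_syl {t : G} (ht : t * t = 1) {D R : Subgroup G} (hD : ¬ 2 ∣ Nat.card D)
    (hn : C t ≤ normalizer (D : Set G)) (hK : D ⊓ C t ≤ K t) (hR : SylIn r R D)
    (htR : t ∈ normalizer (R : Set G)) : Cov t (normalizer (R : Set G)) := by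
  refine ⟨htR, fun c hc => ?_⟩
  have hA := zpowers_isPGroup ht
  have h1 : SylIn r (Theta.cj c R) D := by
    have := SylIn.cj hR c
    rwa [cj_eq_of_mem_normalizer (hn hc)] at this
  have h2 : t ∈ normalizer ((Theta.cj c R : Subgroup G) : Set G) := by
    have := mem_normalizer_cj (g := c) htR
    rwa [show c * t * c⁻¹ = t by rw [mem_C.1 hc]; group] at this
  obtain ⟨m, hm, hmc, hmR⟩ := exists_conj_inv_syl hA hD
    (zpowers_le.2 (hn (self_mem_C t))) hR h1 (zpowers_le.2 htR) (zpowers_le.2 h2)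
  have hmt : m ∈ C t := centralizer_le (Set.singleton_subset_iff.2 (mem_zpowers t)) hmc
  refine ⟨m, hK (mem_inf.2 ⟨hm, hmt⟩), m⁻¹ * c, mem_inf.2 ⟨?_, mul_mem (inv_mem hmt) hc⟩, by group⟩
  apply mem_normalizer_of_cj_eq
  rw [cj_mul, ← hmR, cj_inv_cj]

end Syl

end Cfsg.Agent.Classification.QDW.Theta
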