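import Mathlib
import Cfsg.Agent.Classification.QDW.ThetaRep
import Cfsg.Agent.Classification.QDW.ThetaSyl
import Cfsg.Agent.Classification.QDW.SolvComplete

/-!
# The core is trivial: abstract form

`Frame.core_eq_bot`: in the situation of `Frame`, `K t = ⊥`.
-/

set_option autoImplicit false

namespace Cfsg.Agent.Classification.QDW.Theta

open Subgroup Cfsg Module
open Cfsg.Agent.Walter.SylowIn Cfsg.Agent.Walter.OddCoreIn Cfsg.Agent.Walter.Cover

variable {G : Type*} [Group G]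

section Basic

theorem Gen3.mono_sup {t u : G} {E₁ E₂ : Subgroup G} (h1 : Gen3 t u E₁) (h2 : Gen3 t u E₂) :
    Gen3 t u (E₁ ⊔ E₂) := by
  refine sup_le (h1.trans ?_) (h2.trans ?_)
  · exact sup_le_sup (sup_le_sup (inf_le_inf_right _ le_sup_left) (inf_le_inf_right _ le_sup_left))
      (inf_le_inf_right _ le_sup_left)
  · exact sup_le_sup (sup_le_sup (inf_le_inf_right _ le_sup_right)
      (inf_le_inf_right _ le_sup_right)) (inf_le_inf_right _ le_sup_right)

variable [Finite G]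

theorem Small.gen3 {t u : G} (h : Four t u) {Y : Subgroup G} (hY : Small t u Y) : Gen3 t u Y := by
  refine (le_sup_three h hY.odd hY.norm_t hY.norm_u).trans ?_
  exact sup_le_sup (sup_le_sup (le_inf inf_le_left (hY.le t mem3_t))
    (le_inf inf_le_left (hY.le u mem3_u))) (le_inf inf_le_left (hY.le _ mem3_tu))

theorem Small.conj {t u : G} {Y : Subgroup G} (hY : Small t u Y) (g : G) :
    Small (g * t * g⁻¹) (g * u * g⁻¹) (cj g Y) := by
  refine ⟨by rw [card_cj]; exact hY.odd, mem_normalizer_cj hY.norm_t, mem_normalizer_cj hY.norm_u,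
    ?_⟩
  intro x hx y hy
  obtain ⟨hy1, hy2⟩ := mem_inf.1 hy
  have hx' : Mem3 t u (g⁻¹ * x * g) := by
    rcases hx with rfl | rfl | rfl
    · left; group
    · right; left; group
    · right; right; group
  have hx2 : x = g * (g⁻¹ * x * g) * g⁻¹ := by group
  rw [hx2, mem_K_conj]
  refine hY.le _ hx' (mem_inf.2 ⟨mem_cj.1 hy1, ?_⟩)
  rw [mem_C]
  have h3 : y * x = x * y := mem_C.1 hy2
  calc g⁻¹ * y * g * (g⁻¹ * x * g) = g⁻¹ * (y * x) * g := by group
    _ = g⁻¹ * (x * y) * g := by rw [h3]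
    _ = _ := by group

theorem cov_conj {t : G} {M : Subgroup G} (h : Cov t M) (g : G) : Cov (g * t * g⁻¹) (cj g M) := by
  refine ⟨conj_mem_cj h.1, fun c hc => ?_⟩
  have hc' : g⁻¹ * c * g ∈ C t := by
    rw [← mem_cj, cj_C]; exact hc
  obtain ⟨x, hx, y, hy, hxy⟩ := h.2 _ hc'
  refine ⟨g * x * g⁻¹, ?_, g * y * g⁻¹, ?_, ?_⟩
  · show g * x * g⁻¹ ∈ K (g * t * g⁻¹)
    rw [← cj_K]; exact conj_mem_cj hx
  · refine mem_inf.2 ⟨conj_mem_cj (mem_inf.1 hy).1, ?_⟩
    rw [← cj_C]; exact conj_mem_cj (mem_inf.1 hy).2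
  · calc c = g * (g⁻¹ * c * g) * g⁻¹ := by group
      _ = g * (x * y) * g⁻¹ := by rw [hxy]
      _ = _ := by group

/-- If `t` is central modulo `O(M)` then elements of odd order of `M` inverted by `t` lie in
`O(M)`. -/
theorem mem_OO_of_inv {t : G} {M : Subgroup G} (htM : t ∈ M)
    (hf : ∀ x ∈ M, ∃ o ∈ OO M, ∃ n ∈ M ⊓ C t, x = o * n) {i : G} (hi : i ∈ M)
    (hodd : ¬ 2 ∣ orderOf i) (hinv : t * i * t⁻¹ = i⁻¹) : i ∈ OO M := by
  obtain ⟨o, ho, n, hn, hon⟩ := hf i hi
  have hn' : n * t = t * n := mem_C.1 (mem_inf.1 hn).2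
  have h1 : i * i = o * (t * o⁻¹ * t⁻¹) := by
    calc i * i = i * (i⁻¹)⁻¹ := by rw [inv_inv]
      _ = i * (t * i * t⁻¹)⁻¹ := by rw [hinv]
      _ = i * t * i⁻¹ * t⁻¹ := by group
      _ = o * (n * t) * n⁻¹ * o⁻¹ * t⁻¹ := by rw [hon]; group
      _ = o * (t * n) * n⁻¹ * o⁻¹ * t⁻¹ := by rw [hn']
      _ = o * (t * o⁻¹ * t⁻¹) := by group
  have h2 : i * i ∈ OO M := by
    rw [h1]
    exact mul_mem ho (mem_norm_conj (le_normalizer_OO M htM) (inv_mem ho))
  have hodd' : Odd (orderOf i) := by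
    rw [← Nat.not_even_iff_odd, even_iff_two_dvd]; exact hodd
  obtain ⟨j, hj⟩ := hodd'
  have h3 : i = (i * i) ^ (j + 1) := by
    rw [← pow_two, ← pow_mul, show 2 * (j + 1) = orderOf i + 1 by omega, pow_succ,
      pow_orderOf_eq_one, one_mul]
  rw [h3]
  exact pow_mem h2 _

/-- `t` and `u` cannot both be central modulo `O(M)` if `M` fuses `u` and `tu`. -/
theorem false_of_central {t u : G} (h : Four t u) {M : Subgroup G} (htM : t ∈ M) (huM : u ∈ M)
    (hf : ∀ x ∈ M, ∃ o ∈ OO M, ∃ n ∈ M ⊓ C u, x = o * n) {w : G} (hw : w ∈ M)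
    (hwu : w * u * w⁻¹ = t * u) : False := by
  obtain ⟨o, ho, n, hn, hon⟩ := hf w hw
  have hn' : n * u = u * n := mem_C.1 (mem_inf.1 hn).2
  have h1 : t = o * (u * o⁻¹ * u⁻¹) := by
    calc t = t * u * u⁻¹ := by group
      _ = w * u * w⁻¹ * u⁻¹ := by rw [hwu]
      _ = o * (n * u) * n⁻¹ * o⁻¹ * u⁻¹ := by rw [hon]; group
      _ = o * (u * n) * n⁻¹ * o⁻¹ * u⁻¹ := by rw [hn']
      _ = _ := by group
  have h2 : t ∈ OO M := by
    rw [h1]
    exact mul_mem ho (mem_norm_conj (le_normalizer_OO M huM) (inv_mem ho))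
  have h3 := not_two_dvd_orderOf (OO_odd M) h2
  apply h3
  rw [orderOf_eq_prime (by rw [sq]; exact h.tt) h.t1]

end Basic

/-- `D` is the largest `C(t)`-invariant small subgroup. -/
structure IsD (t u : G) (D : Subgroup G) : Prop where
  small : Small t u D
  norm : C t ≤ normalizer (D : Set G)
  core : K t ≤ D
  max : ∀ Y : Subgroup G, Small t u Y → Cov t (normalizer (Y : Set G)) → Y ≤ D

variable [Finite G] {X : Type*} [AddCommGroup X] [Module ℂ X] [FiniteDimensional ℂ X]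
  {ρ : Representation ℂ G X} {p d n' : ℕ} {c : ℤ}

omit [Finite G] in
theorem cov_of_le {t : G} {M : Subgroup G} (h : C t ≤ M) : Cov t M := (cov_C t).mono h

section

variable (F : Frame ρ p d n' c) {t u : G} (h : Four t u)
include F h

omit [FiniteDimensional ℂ X] in
theorem Frame.small_K : Small t u (K t) := by
  refine ⟨Cfsg.Agent.Walter.Cover.core_odd t, C_le_normalizer_core t (self_mem_C t),
    C_le_normalizer_core t (mem3_u.mem_C h mem3_t), ?_⟩
  rintro x (rfl | rfl | rfl)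
  · exact inf_le_left
  · exact F.balance t x h
  · exact F.balance t (t * u) h.mulRight

omit [FiniteDimensional ℂ X] in
/-- The package applied to an odd order subgroup `E` generated by its parts in the cores. -/
theorem Frame.small_of_gen {E : Subgroup G} (hE : ¬ 2 ∣ Nat.card E)
    (ht : t ∈ normalizer (E : Set G)) (hu : u ∈ normalizer (E : Set G)) (hgen : Gen3 t u E)
    (hcov : Cov t (normalizer (E : Set G))) : Small t u E := by
  by_cases hb : E = ⊥
  · subst hb
    refine ⟨hE, ht, hu, fun x _ => ?_⟩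
    rw [bot_inf_eq]
    exact bot_le
  have hM : normalizer (E : Set G) ≠ ⊤ := by
    intro h1
    exact hb (F.core_bot E (normalizer_eq_top_iff.1 h1) hE)
  have hEO : E ≤ OO (normalizer (E : Set G)) := le_OO Subgroup.le_normalizer le_rfl hE
  obtain ⟨N, hN⟩ := F.pkg t u _ h hu hcov hM
  have hEN := hN.gen E hEO le_rfl hgen
  exact ⟨hE, ht, hu, fun x hx => (inf_le_inf_right _ hEN).trans (hN.small.le x hx)⟩

/-- The join with `K t` of a small full subgroup. -/
theorem Frame.sup_mem {E₁ E₂ : Subgroup G} (h1 : Small t u E₁) (h2 : Small t u E₂)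
    (hn1 : C t ≤ normalizer (E₁ : Set G)) (hn2 : C t ≤ normalizer (E₂ : Set G)) :
    Small t u (E₁ ⊔ E₂) ∧ C t ≤ normalizer ((E₁ ⊔ E₂ : Subgroup G) : Set G) := by
  have hn : C t ≤ normalizer ((E₁ ⊔ E₂ : Subgroup G) : Set G) :=
    fun x hx => sup_mem_normalizer (hn1 hx) (hn2 hx)
  refine ⟨F.small_of_gen h ?_ ?_ ?_ ((h1.gen3 h).mono_sup (h2.gen3 h)) (cov_of_le hn), hn⟩
  · exact F.odd_sup h h1 h2 (Or.inl (cov_of_le hn1)) (Or.inl (cov_of_le hn2))
  · exact hn (self_mem_C t)
  · exact hn (mem3_u.mem_C h mem3_t)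

theorem Frame.exists_D : ∃ D, IsD t u D := by
  set S : Set (Subgroup G) := {E | Small t u E ∧ C t ≤ normalizer (E : Set G)} with hS
  have hKS : K t ∈ S := ⟨F.small_K h, C_le_normalizer_core t⟩
  have hbot : (⊥ : Subgroup G) ∈ S := by
    have hn : C t ≤ normalizer ((⊥ : Subgroup G) : Set G) := by
      intro x _
      rw [mem_normalizer_iff]
      intro y
      rw [mem_bot, mem_bot, mul_inv_eq_one]
      exact ⟨fun hy => by rw [hy, mul_one], fun hy => mul_eq_left.1 hy⟩
    refine ⟨⟨?_, hn (self_mem_C t), hn (mem3_u.mem_C h mem3_t), fun x _ => ?_⟩, hn⟩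
    · rw [card_bot]; omega
    · rw [bot_inf_eq]; exact bot_le
  have hD : sSup S ∈ S := Cfsg.Agent.Lib.Cores.sSup_induction_of_finite (P := fun E => E ∈ S) S hbot
    (fun N hN => hN) (fun A B hA hB => F.sup_mem h hA.1 hB.1 hA.2 hB.2)
  refine ⟨sSup S, hD.1, hD.2, le_sSup hKS, fun Y hY hcov => ?_⟩
  refine le_trans (le_sup_left : Y ≤ Y ⊔ K t) (le_sSup ?_)
  have hn : C t ≤ normalizer ((Y ⊔ K t : Subgroup G) : Set G) := by
    intro x hx
    obtain ⟨k, hk, y, hy, rfl⟩ := hcov.2 x hx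
    refine mul_mem (Subgroup.le_normalizer (mem_sup_right hk)) ?_
    exact sup_mem_normalizer (mem_inf.1 hy).1 (C_le_normalizer_core t (mem_inf.1 hy).2)
  refine ⟨F.small_of_gen h ?_ (hn (self_mem_C t)) (hn (mem3_u.mem_C h mem3_t))
    ((hY.gen3 h).mono_sup ((F.small_K h).gen3 h)) (cov_of_le hn), hn⟩
  exact F.odd_sup h hY (F.small_K h) (Or.inl hcov) (Or.inl (cov_of_le (C_le_normalizer_core t)))

end

omit [FiniteDimensional ℂ X] in
theorem IsD.conj {t u : G} {D : Subgroup G} (hD : IsD t u D) (g : G) :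
    IsD (g * t * g⁻¹) (g * u * g⁻¹) (cj g D) := by
  refine ⟨hD.small.conj g, ?_, ?_, ?_⟩
  · rw [← cj_C]
    rintro _ ⟨x, hx, rfl⟩
    exact mem_normalizer_cj (hD.norm hx)
  · show K (g * t * g⁻¹) ≤ _
    rw [← cj_K]
    exact cj_mono hD.core
  · intro Y hY hcov
    have h1 := hY.conj g⁻¹
    have h2 := cov_conj hcov g⁻¹
    have e1 : ∀ x : G, g⁻¹ * (g * x * g⁻¹) * g⁻¹⁻¹ = x := fun x => by group
    rw [e1, e1] at h1
    rw [e1] at h2
    have h3 : cj g⁻¹ Y ≤ D := by
      refine hD.max _ h1 (h2.mono ?_)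
      rintro _ ⟨x, hx, rfl⟩
      exact mem_normalizer_cj hx
    have h4 := cj_mono (g := g) h3
    rwa [cj_cj_inv] at h4

omit [FiniteDimensional ℂ X] in
theorem IsD.unique {t u : G} {D D' : Subgroup G} (hD : IsD t u D) (hD' : IsD t u D') : D = D' :=
  le_antisymm (hD'.max _ hD.small (cov_of_le hD.norm)) (hD.max _ hD'.small (cov_of_le hD'.norm))

omit [FiniteDimensional ℂ X] in
theorem IsD.small_symm {t u : G} (h : Four t u) {D : Subgroup G} (hD : IsD t u D) : Small u t D :=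
  hD.small.symm h

section Sigma

variable (F : Frame ρ p d n' c) {t u : G} (h : Four t u)
include F h

omit [FiniteDimensional ℂ X] in
theorem Frame.K_inf_eq : K t ⊓ C t ⊓ C u = K u ⊓ C t ⊓ C u := by
  refine le_antisymm ?_ ?_
  · refine le_inf (le_inf ?_ (inf_le_left.trans inf_le_right)) inf_le_right
    exact (inf_le_inf_right _ inf_le_left).trans (F.balance t u h)
  · refine le_inf (le_inf ?_ (inf_le_left.trans inf_le_right)) inf_le_right
    exact inf_le_left.trans (F.balance u t h.symm)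

omit [FiniteDimensional ℂ X] in
theorem Frame.K_inf_eq' : K (t * u) ⊓ C t ⊓ C u = K t ⊓ C t ⊓ C u := by
  have h1 := F.K_inf_eq h.mulRight
  have h2 : ∀ A : Subgroup G, A ⊓ C t ⊓ C (t * u) = A ⊓ C t ⊓ C u := by
    intro A
    ext x
    simp only [mem_inf, mem_C]
    constructor
    · rintro ⟨⟨h3, h4⟩, h5⟩
      refine ⟨⟨h3, h4⟩, ?_⟩
      calc x * u = x * (t * (t * u)) := by rw [h.t_mul_tu]
        _ = (x * t) * (t * u) := by group
        _ = t * (x * (t * u)) := by rw [h4]; group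
        _ = t * (t * u) * x := by rw [h5]; group
        _ = u * x := by rw [h.t_mul_tu]
    · rintro ⟨⟨h3, h4⟩, h5⟩
      refine ⟨⟨h3, h4⟩, ?_⟩
      calc x * (t * u) = (x * t) * u := by group
        _ = t * (x * u) := by rw [h4]; group
        _ = t * u * x := by rw [h5]; group
  rw [h2, h2] at h1
  exact h1.symm

/-- `Σ = ⟨D_t, D_u⟩` is small. -/
theorem Frame.small_sigma {D : Subgroup G} (hD : IsD t u D) {g : G} (hg1 : g * t * g⁻¹ = u)
    (hg2 : g * u * g⁻¹ = t) : Small t u (D ⊔ cj g D) := by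
  set D' := cj g D with hD'd
  have hD' : IsD u t D' := by
    have := hD.conj g
    rwa [hg1, hg2] at this
  have hD's : Small t u D' := hD'.small_symm h.symm
  have hgD' : cj g D' = D := by
    have h1 := hD'.conj g
    rw [hg1, hg2] at h1
    exact h1.unique hD
  set S := D ⊔ D' with hS
  have hodd : ¬ 2 ∣ Nat.card S :=
    F.odd_sup h hD.small hD's (Or.inl (cov_of_le hD.norm)) (Or.inr (cov_of_le hD'.norm))
  have htS : t ∈ normalizer (S : Set G) := sup_mem_normalizer hD.small.norm_t hD's.norm_t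
  have huS : u ∈ normalizer (S : Set G) := sup_mem_normalizer hD.small.norm_u hD's.norm_u
  have hWS : C t ⊓ C u ≤ normalizer (S : Set G) := fun x hx =>
    sup_mem_normalizer (hD.norm (mem_inf.1 hx).1) (hD'.norm (mem_inf.1 hx).2)
  have hgS : g ∈ normalizer (S : Set G) := by
    apply mem_normalizer_of_cj_eq
    rw [hS, cj_sup, hgD', sup_comm]
  have hfix : fixed ρ S = fixed ρ D ⊓ fixed ρ D' := by
    refine le_antisymm ?_ ?_
    · intro v hv
      exact Submodule.mem_inf.2 ⟨fun y hy => hv y (mem_sup_left hy),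
        fun y hy => hv y (mem_sup_right hy)⟩
    · intro v hv y hy
      obtain ⟨h1, h2⟩ := Submodule.mem_inf.1 hv
      have h3 : D ⊔ D' ≤ ({ carrier := {g | ρ g v = v}
                            one_mem' := by show ρ 1 v = v; rw [map_one]; rfl
                            mul_mem' := by
                              intro a b ha hb
                              show ρ (a * b) v = v
                              rw [map_mul, Module.End.mul_apply, show ρ b v = v from hb,
                                show ρ a v = v from ha]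
                            inv_mem' := by
                              intro a ha
                              show ρ a⁻¹ v = v
                              calc ρ a⁻¹ v = ρ a⁻¹ (ρ a v) := by rw [show ρ a v = v from ha]
                                _ = v := by
                                  rw [← Module.End.mul_apply, ← map_mul, inv_mul_cancel, map_one]
                                  rfl } : Subgroup G) :=
        sup_le (fun y hy => h1 y hy) (fun y hy => h2 y hy)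
      exact h3 hy
  have hlbD := F.lb t u D h hD.small (cov_of_le hD.norm)
  have hlbD' := F.lb u t D' h.symm hD'.small (cov_of_le hD'.norm)
  have hsum := Submodule.finrank_sup_add_finrank_inf_eq (fixed ρ D) (fixed ρ D')
  have hsup : finrank ℂ (fixed ρ D ⊔ fixed ρ D' : Submodule ℂ X) ≤ finrank ℂ X :=
    Submodule.finrank_le _
  have hdS : finrank ℂ (fixed ρ D) ≤ finrank ℂ (fixed ρ S) + n' := by
    rw [hfix]; omega
  have hdS' : finrank ℂ (fixed ρ D') ≤ finrank ℂ (fixed ρ S) + n' := by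
    rw [hfix]; omega
  have hWu : C u ⊓ C t ≤ normalizer (S : Set G) := by rw [inf_comm]; exact hWS
  have hWtu : C (t * u) ⊓ C t ≤ normalizer (S : Set G) := by
    refine le_trans ?_ hWS
    intro x hx
    obtain ⟨h1, h2⟩ := mem_inf.1 hx
    refine mem_inf.2 ⟨h2, ?_⟩
    rw [mem_C] at h1 h2 ⊢
    calc x * u = x * (t * (t * u)) := by rw [h.t_mul_tu]
      _ = (x * t) * (t * u) := by group
      _ = t * (x * (t * u)) := by rw [h2]; group
      _ = t * (t * u) * x := by rw [h1]; group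
      _ = u * x := by rw [h.t_mul_tu]
  have ht1 : ∀ y ∈ S, y ∈ C t → ∃ k ∈ K t, ∃ z ∈ S, z ∈ C t ∧ z ∈ C u ∧ y = k * z :=
    F.img t u D S h hD.small hD.norm hD.core le_sup_left hodd htS huS hWS hdS
  have hu1 : ∀ y ∈ S, y ∈ C u → ∃ k ∈ K u, ∃ z ∈ S, z ∈ C t ∧ z ∈ C u ∧ y = k * z := by
    intro y hy hyu
    obtain ⟨k, hk, z, hz, hz1, hz2, hz3⟩ := F.img u t D' S h.symm hD'.small hD'.norm hD'.core
      le_sup_right hodd huS htS hWu hdS' y hy hyu
    exact ⟨k, hk, z, hz, hz2, hz1, hz3⟩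
  have htu1 : ∀ y ∈ S, y ∈ C (t * u) → ∃ k ∈ K (t * u), ∃ z ∈ S, z ∈ C t ∧ z ∈ C u ∧
      y = k * z := by
    intro y hy hyu
    obtain ⟨k, hk, z, hz, hz1, hz2, hz3⟩ := F.img' (t * u) t g S h.mulLeft
      (by rw [show g * (t * u) * g⁻¹ = (g * t * g⁻¹) * (g * u * g⁻¹) by group, hg1, hg2, h.comm])
      (by rw [hg1, h.tu_mul_t]) hodd (mul_mem htS huS) htS hgS hWtu y hy hyu
    refine ⟨k, hk, z, hz, hz2, ?_, hz3⟩
    rw [mem_C] at hz1 hz2 ⊢
    calc z * u = z * (t * (t * u)) := by rw [h.t_mul_tu]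
      _ = (z * t) * (t * u) := by group
      _ = t * (z * (t * u)) := by rw [hz2]; group
      _ = t * (t * u) * z := by rw [hz1]; group
      _ = u * z := by rw [h.t_mul_tu]
  -- solvable completeness
  have hKn : ∀ x, Mem3 t u x → ∀ y, y ∈ C x → y ∈ normalizer (S : Set G) →
      y ∈ normalizer ((K x ⊓ S : Subgroup G) : Set G) := by
    intro x _ y hy hyS
    rw [mem_normalizer_iff]
    intro z
    rw [mem_inf, mem_inf]
    exact and_congr ((mem_normalizer_iff.1 (C_le_normalizer_core x hy)) z)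
      ((mem_normalizer_iff.1 hyS) z)
  have hKS : ∀ x, Mem3 t u x → K x ⊓ S ≤ S ⊓ C x := fun x _ =>
    le_inf inf_le_right (inf_le_left.trans (core_le_C x))
  have hA := SolvComplete.solv_complete (S := S) (A := K t ⊓ S ⊓ C t ⊓ C u) (θt := K t ⊓ S)
    (θu := K u ⊓ S) (θv := K (t * u) ⊓ S) h hodd (F.solvable S hodd) htS huS
    (hKS t mem3_t) (hKS u mem3_u) (hKS _ mem3_tu)
    (fun y hy => hKn t mem3_t y (mem_inf.1 hy).2 (Subgroup.le_normalizer (mem_inf.1 hy).1))
    (fun y hy => hKn u mem3_u y (mem_inf.1 hy).2 (Subgroup.le_normalizer (mem_inf.1 hy).1))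
    (fun y hy => hKn _ mem3_tu y (mem_inf.1 hy).2 (Subgroup.le_normalizer (mem_inf.1 hy).1))
    (hKn t mem3_t t (self_mem_C t) htS) (hKn t mem3_t u (mem3_u.mem_C h mem3_t) huS)
    (hKn u mem3_u t (mem3_t.mem_C h mem3_u) htS) (hKn u mem3_u u (self_mem_C u) huS)
    (hKn _ mem3_tu t (mem3_t.mem_C h mem3_tu) htS) (hKn _ mem3_tu u (mem3_u.mem_C h mem3_tu) huS)
    rfl
    (by
      have h1 : K t ⊓ C t ⊓ C u ⊓ S = K u ⊓ C t ⊓ C u ⊓ S := by rw [F.K_inf_eq h]
      calc K u ⊓ S ⊓ C t ⊓ C u = K u ⊓ C t ⊓ C u ⊓ S := by ac_rfl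
        _ = K t ⊓ C t ⊓ C u ⊓ S := h1.symm
        _ = _ := by ac_rfl)
    (by
      have h1 : K (t * u) ⊓ C t ⊓ C u ⊓ S = K t ⊓ C t ⊓ C u ⊓ S := by rw [F.K_inf_eq' h]
      calc K (t * u) ⊓ S ⊓ C t ⊓ C u = K (t * u) ⊓ C t ⊓ C u ⊓ S := by ac_rfl
        _ = K t ⊓ C t ⊓ C u ⊓ S := h1
        _ = _ := by ac_rfl)
    (by
      intro y hy hyt
      obtain ⟨k, hk, z, hz, hz1, hz2, hz3⟩ := ht1 y hy hyt
      refine ⟨k, mem_inf.2 ⟨hk, ?_⟩, z, hz, hz1, hz2, hz3⟩
      have : k = y * z⁻¹ := by rw [hz3]; group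
      rw [this]; exact mul_mem hy (inv_mem hz))
    (by
      intro y hy hyt
      obtain ⟨k, hk, z, hz, hz1, hz2, hz3⟩ := hu1 y hy hyt
      refine ⟨k, mem_inf.2 ⟨hk, ?_⟩, z, hz, hz1, hz2, hz3⟩
      have : k = y * z⁻¹ := by rw [hz3]; group
      rw [this]; exact mul_mem hy (inv_mem hz))
    (by
      intro y hy hyt
      obtain ⟨k, hk, z, hz, hz1, hz2, hz3⟩ := htu1 y hy hyt
      refine ⟨k, mem_inf.2 ⟨hk, ?_⟩, z, hz, hz1, hz2, hz3⟩
      have : k = y * z⁻¹ := by rw [hz3]; group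
      rw [this]; exact mul_mem hy (inv_mem hz))
    (by
      have h1 : Gen3 t u S := (hD.small.gen3 h).mono_sup (hD's.gen3 h)
      have h2 : S ≤ (S ⊓ K t) ⊔ (S ⊓ K u) ⊔ (S ⊓ K (t * u)) := h1
      rwa [inf_comm S, inf_comm S, inf_comm S] at h2)
  refine ⟨hodd, htS, huS, ?_⟩
  intro x hx y hy
  obtain ⟨hyS, hyx⟩ := mem_inf.1 hy
  have hz : ∀ z ∈ S, z ∈ C t → z ∈ C u → z ∈ K x := by
    intro z hz1 hz2 hz3
    have h1 := hA (mem_inf.2 ⟨mem_inf.2 ⟨hz1, hz2⟩, hz3⟩)
    have h2 : z ∈ K t := (mem_inf.1 (mem_inf.1 (mem_inf.1 h1).1).1).1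
    exact (F.small_K h).le x hx (mem_inf.2 ⟨h2, by
      rcases hx with rfl | rfl | rfl
      · exact hz2
      · exact hz3
      · rw [mem_C] at hz2 hz3 ⊢
        calc z * (t * u) = (z * t) * u := by group
          _ = t * (z * u) := by rw [hz2]; group
          _ = t * u * z := by rw [hz3]; group⟩)
  rcases hx with rfl | rfl | rfl
  · obtain ⟨k, hk, z, hz0, hz1, hz2, rfl⟩ := ht1 y hyS hyx
    exact mul_mem hk (hz z hz0 hz1 hz2)
  · obtain ⟨k, hk, z, hz0, hz1, hz2, rfl⟩ := hu1 y hyS hyx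
    exact mul_mem hk (hz z hz0 hz1 hz2)
  · obtain ⟨k, hk, z, hz0, hz1, hz2, rfl⟩ := htu1 y hyS hyx
    exact mul_mem hk (hz z hz0 hz1 hz2)

end Sigma

theorem mem_C_of_VV {G : Type*} [Group G] {t u : G} (h : Four t u) {m x : G}
    (hm : m ∈ centralizer (VV h : Set G)) (hx : Mem3 t u x) : m ∈ C x := by
  rw [mem_C]
  exact ((mem_centralizer_iff.1 hm) x (Or.inr hx)).symm

section Final

variable (F : Frame ρ p d n' c) {t u : G} (h : Four t u)
include F h

omit [FiniteDimensional ℂ X] in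
/-- Step (9), first part: a nontrivial invariant Sylow `r`-subgroup of `D_t`, `r ≠ p`, is a Sylow
subgroup of every small overgroup of `D_t`. -/
theorem Frame.sylow_step {D S R : Subgroup G} (hD : IsD t u D) (hS : Small t u S) (hDS : D ≤ S)
    {r : ℕ} [Fact r.Prime] (hrp : r ≠ p) (hR : SylIn r R D) (htR : t ∈ normalizer (R : Set G))
    (huR : u ∈ normalizer (R : Set G)) (hRne : R ≠ ⊥) : SylIn r R S := by
  apply sylIn_of_normalizer
  set M := normalizer (R : Set G) with hM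
  have hRodd : ¬ 2 ∣ Nat.card R := not_dvd_of_le hR.le hD.small.odd
  have hMtop : M ≠ ⊤ := by
    intro h1
    exact hRne (F.core_bot R (normalizer_eq_top_iff.1 h1) hRodd)
  have hcov : Cov t M := cov_normalizer_syl h.tt hD.small.odd hD.norm (hD.small.le t mem3_t) hR htR
  have hROO : R ≤ OO M := le_OO Subgroup.le_normalizer le_rfl hRodd
  have hfac := F.factor t u M h huR hcov hMtop
  have hNodd : ¬ 2 ∣ Nat.card (S ⊓ M : Subgroup G) := not_dvd_of_le inf_le_left hS.odd
  have hnorm_inf : ∀ x, x ∈ normalizer (S : Set G) → x ∈ M →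
      x ∈ normalizer ((S ⊓ M : Subgroup G) : Set G) := by
    intro x hx hxM
    rw [mem_normalizer_iff]
    intro z
    rw [mem_inf, mem_inf]
    exact and_congr ((mem_normalizer_iff.1 hx) z)
      ((mem_normalizer_iff.1 (Subgroup.le_normalizer hxM)) z)
  obtain ⟨Y, hY, hVY⟩ := exists_inv_syl (r := r) (VV_isPGroup h) hNodd
    (VV_le h (hnorm_inf t hS.norm_t htR) (hnorm_inf u hS.norm_u huR))
  have htY : t ∈ normalizer (Y : Set G) := hVY (Or.inr mem3_t)
  have huY : u ∈ normalizer (Y : Set G) := hVY (Or.inr mem3_u)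
  have hRY : R ≤ Y := SylIn.le_of_normal hY hR.isPGroup (le_inf (hR.le.trans hDS)
    Subgroup.le_normalizer) inf_le_right
  have hDY : D ⊓ Y = R := hR.eq_of_le (le_inf hR.le hRY) inf_le_left
    (hY.isPGroup.to_le inf_le_right)
  have hYodd : ¬ 2 ∣ Nat.card Y := not_dvd_of_le hY.le hNodd
  -- `Y ≤ O(M)`
  have hYO : Y ≤ OO M := by
    intro y hy
    obtain ⟨a, ha, i, hi, hinv, rfl⟩ := exists_fixed_mul_inv h.tt hYodd htY hy
    refine mul_mem ?_ (mem_OO_of_inv htR hfac (mem_inf.1 (hY.le hi)).2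
      (not_two_dvd_orderOf hYodd hi) hinv)
    obtain ⟨ha1, ha2⟩ := mem_inf.1 ha
    have h1 : a ∈ K t := hS.le t mem3_t (mem_inf.2 ⟨(mem_inf.1 (hY.le ha1)).1, ha2⟩)
    have h2 : a ∈ D ⊓ Y := mem_inf.2 ⟨hD.core h1, ha1⟩
    rw [hDY] at h2
    exact hROO h2
  obtain ⟨N, hN⟩ := F.pkg t u M h huR hcov hMtop
  have hYN : Y ≤ N := hN.quot r (Fact.out) hrp Y hYO hY.isPGroup
  have hND : N ≤ D := hD.max N hN.small (hcov.mono hN.normal)
  have hYR : Y = R := by
    rw [← hDY]
    exact (inf_eq_right.2 (hYN.trans hND)).symm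
  rw [← hYR]
  exact hY

/-- Step (9): `D_t` is a `p`-group. -/
theorem Frame.isPGroup_D {D : Subgroup G} (hD : IsD t u D) {g : G} (hg1 : g * t * g⁻¹ = u)
    (hg2 : g * u * g⁻¹ = t) (hS : Small t u (D ⊔ cj g D)) {r : ℕ} [Fact r.Prime] (hrp : r ≠ p) :
    ¬ r ∣ Nat.card D := by
  intro hdvd
  set D' := cj g D with hD'd
  have hD' : IsD u t D' := by
    have := hD.conj g
    rwa [hg1, hg2] at this
  have hVD : VV h ≤ normalizer (D : Set G) := VV_le h hD.small.norm_t hD.small.norm_u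
  obtain ⟨R, hR, hVR⟩ := exists_inv_syl (r := r) (VV_isPGroup h) hD.small.odd hVD
  have htR : t ∈ normalizer (R : Set G) := hVR (Or.inr mem3_t)
  have huR : u ∈ normalizer (R : Set G) := hVR (Or.inr mem3_u)
  have hRne : R ≠ ⊥ := by
    rintro rfl
    apply hR.not_dvd
    rw [relIndex_bot_left]
    exact hdvd
  set R' := cj g R with hR'd
  have hR' : SylIn r R' D' := SylIn.cj hR g
  have htR' : t ∈ normalizer (R' : Set G) := by
    have := mem_normalizer_cj (g := g) huR
    rwa [hg2] at this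
  have huR' : u ∈ normalizer (R' : Set G) := by
    have := mem_normalizer_cj (g := g) htR
    rwa [hg1] at this
  have hRS : SylIn r R (D ⊔ D') := F.sylow_step h hD hS le_sup_left hrp hR htR huR hRne
  have hRS' : SylIn r R' (D ⊔ D') := F.sylow_step h.symm hD' (hS.symm h) le_sup_right hrp hR' huR'
    htR' (cj_ne_bot hRne)
  obtain ⟨m, hm, hmV, hmR⟩ := exists_conj_inv_syl (VV_isPGroup h) hS.odd
    (VV_le h hS.norm_t hS.norm_u) hRS' hRS (VV_le h htR' huR') hVR
  have hmt : m ∈ C t := mem_C_of_VV h hmV mem3_t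
  have hmu : m ∈ C u := mem_C_of_VV h hmV mem3_u
  have hmD' : m ∈ D' := hD'.core (hS.le u mem3_u (mem_inf.2 ⟨hm, hmu⟩))
  have hRD' : SylIn r R D' := by
    have h1 := SylIn.cj hR' m
    rwa [hmR, cj_eq_of_mem_normalizer (Subgroup.le_normalizer hmD')] at h1
  -- `N(R)` covers both
  have hMtop : normalizer (R : Set G) ≠ ⊤ := by
    intro h1
    exact hRne (F.core_bot R (normalizer_eq_top_iff.1 h1) (not_dvd_of_le hR.le hD.small.odd))
  have hcovu : Cov u (normalizer (R : Set G)) :=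
    cov_normalizer_syl h.uu hD'.small.odd hD'.norm (hD'.small.le u mem3_t) hRD' huR
  obtain ⟨w, hw1, hw2⟩ := F.flip t u h
  have hwC : w ∈ C t := by
    rw [mem_C]
    rw [mul_inv_eq_iff_eq_mul] at hw1
    exact hw1
  -- correct `w` by an element of `D ∩ C(V)`
  have h1 : SylIn r (cj w R) D := by
    have := SylIn.cj hR w
    rwa [cj_eq_of_mem_normalizer (hD.norm hwC)] at this
  have h2 : VV h ≤ normalizer ((cj w R : Subgroup G) : Set G) := by
    refine VV_le h ?_ ?_
    · have := mem_normalizer_cj (g := w) htR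
      rwa [hw1] at this
    · have h3 := mem_normalizer_cj (g := w) (mul_mem htR huR)
      rwa [show w * (t * u) * w⁻¹ = (w * t * w⁻¹) * (w * u * w⁻¹) by group, hw1, hw2,
        h.t_mul_tu] at h3
  obtain ⟨a, ha, haV, haR⟩ := exists_conj_inv_syl (VV_isPGroup h) hD.small.odd hVD hR h1 hVR h2
  have hat : a ∈ C t := mem_C_of_VV h haV mem3_t
  have hau : a ∈ C u := mem_C_of_VV h haV mem3_u
  have hwM : a⁻¹ * w ∈ normalizer (R : Set G) := by
    apply mem_normalizer_of_cj_eq
    rw [cj_mul, ← haR, cj_inv_cj]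
  refine false_of_central h htR huR (F.factor u t _ h.symm htR hcovu hMtop) hwM ?_
  have h3 : a * (t * u) = t * u * a := by
    rw [mem_C] at hat hau
    calc a * (t * u) = (a * t) * u := by group
      _ = t * (a * u) := by rw [hat]; group
      _ = t * u * a := by rw [hau]; group
  calc a⁻¹ * w * u * (a⁻¹ * w)⁻¹ = a⁻¹ * (w * u * w⁻¹) * a := by group
    _ = a⁻¹ * (t * u * a) := by rw [hw2]; group
    _ = a⁻¹ * (a * (t * u)) := by rw [h3]
    _ = t * u := by group

/-- **The core of `C(t)` is trivial.** -/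
theorem Frame.core_eq_bot (hp : p.Prime) : K t = ⊥ := by
  by_contra hK
  obtain ⟨D, hD⟩ := F.exists_D h
  obtain ⟨g, hg1, hg2⟩ := F.swap t u h
  have hS := F.small_sigma h hD hg1 hg2
  set D' := cj g D with hD'd
  have hD' : IsD u t D' := by
    have := hD.conj g
    rwa [hg1, hg2] at this
  set S := D ⊔ D' with hSd
  have : Fact p.Prime := ⟨hp⟩
  have hDne : D ≠ ⊥ := by
    intro h1
    apply hK
    rw [eq_bot_iff, ← h1]
    exact hD.core
  have hprime : ∀ r : ℕ, r.Prime → r ≠ p → ¬ r ∣ Nat.card D := by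
    intro r hr hrp
    have : Fact r.Prime := ⟨hr⟩
    exact F.isPGroup_D h hD hg1 hg2 hS hrp
  -- all cores have orders prime to `r`
  obtain ⟨w, hw1, hw2⟩ := F.flip t u h
  have hcardK : ∀ x, Mem3 t u x → Nat.card (K x) = Nat.card (K t) := by
    rintro x (rfl | rfl | rfl)
    · rfl
    · rw [← hg1, ← cj_K, card_cj]
    · have h1 : (w * g) * t * (w * g)⁻¹ = t * u := by
        calc (w * g) * t * (w * g)⁻¹ = w * (g * t * g⁻¹) * w⁻¹ := by group
          _ = t * u := by rw [hg1, hw2]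
      rw [← h1, ← cj_K, card_cj]
  have hrK : ∀ r : ℕ, r.Prime → r ≠ p → ∀ x, Mem3 t u x → ¬ r ∣ Nat.card (K x) := by
    intro r hr hrp x hx h1
    rw [hcardK x hx] at h1
    exact hprime r hr hrp (h1.trans (card_dvd_of_le hD.core))
  -- `S` is a `p`-group
  have hSr : ∀ r : ℕ, r.Prime → r ≠ p → ¬ r ∣ Nat.card S := by
    intro r hr hrp hdvd
    have : Fact r.Prime := ⟨hr⟩
    obtain ⟨R, hR, hVR⟩ := exists_inv_syl (r := r) (VV_isPGroup h) hS.odd
      (VV_le h hS.norm_t hS.norm_u)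
    have hRodd : ¬ 2 ∣ Nat.card R := not_dvd_of_le hR.le hS.odd
    have hRx : ∀ x, Mem3 t u x → R ⊓ C x = ⊥ := by
      intro x hx
      have h1 : R ⊓ C x ≤ K x := (inf_le_inf_right _ hR.le).trans (hS.le x hx)
      have h2 : IsPGroup r (R ⊓ C x : Subgroup G) := hR.isPGroup.to_le inf_le_left
      obtain ⟨n, hn⟩ := IsPGroup.iff_card.1 h2
      rcases Nat.eq_zero_or_pos n with h0 | h0
      · rw [h0, pow_zero] at hn
        exact card_eq_one.1 hn
      · exfalso
        apply hrK r hr hrp x hx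
        refine dvd_trans ?_ (card_dvd_of_le h1)
        rw [hn]
        exact dvd_pow_self r h0.ne'
    have h1 := le_sup_three h hRodd (hVR (Or.inr mem3_t)) (hVR (Or.inr mem3_u))
    rw [hRx t mem3_t, hRx u mem3_u, hRx _ mem3_tu, bot_sup_eq, bot_sup_eq, le_bot_iff] at h1
    apply hR.not_dvd
    rw [h1, relIndex_bot_left]
    exact hdvd
  have hSp : IsPGroup p S := by
    rw [IsPGroup.iff_card]
    exact ⟨_, Nat.eq_prime_pow_of_unique_prime_dvd Nat.card_pos.ne' (fun {r} hr hd => by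
      by_contra hrp
      exact hSr r hr hrp hd)⟩
  -- `M = N(D)`
  set M := normalizer (D : Set G) with hM
  have hCM : C t ≤ M := hD.norm
  have htM : t ∈ M := hD.small.norm_t
  have huM : u ∈ M := hD.small.norm_u
  have hMtop : M ≠ ⊤ := by
    intro h1
    exact hDne (F.core_bot D (normalizer_eq_top_iff.1 h1) hD.small.odd)
  have hcov : Cov t M := cov_of_le hCM
  obtain ⟨N, hN⟩ := F.pkg t u M h huM hcov hMtop
  have hDO : D ≤ OO M := le_OO Subgroup.le_normalizer le_rfl hD.small.odd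
  have hDN : D ≤ N := hN.gen D hDO le_rfl (hD.small.gen3 h)
  have hND : N ≤ D := hD.max N hN.small (hcov.mono hN.normal)
  have hclaim : ∀ x, Mem3 t u x → K x ⊓ OO M ≤ D := fun x hx =>
    (hN.claim hCM (hD.core.trans hDN) x hx).trans hND
  have hfac := F.factor t u M h huM hcov hMtop
  -- `N_S(D) = D`
  have hYD : S ⊓ M ≤ D := by
    have hYodd : ¬ 2 ∣ Nat.card (S ⊓ M : Subgroup G) := not_dvd_of_le inf_le_left hS.odd
    have hnorm_inf : ∀ x, x ∈ normalizer (S : Set G) → x ∈ M →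
        x ∈ normalizer ((S ⊓ M : Subgroup G) : Set G) := by
      intro x hx hxM
      rw [mem_normalizer_iff]
      intro z
      rw [mem_inf, mem_inf]
      exact and_congr ((mem_normalizer_iff.1 hx) z)
        ((mem_normalizer_iff.1 (Subgroup.le_normalizer hxM)) z)
    have hYO : S ⊓ M ≤ OO M := by
      intro y hy
      obtain ⟨a, ha, i, hi, hinv, rfl⟩ := exists_fixed_mul_inv h.tt hYodd
        (hnorm_inf t hS.norm_t htM) hy
      refine mul_mem ?_ (mem_OO_of_inv htM hfac (mem_inf.1 hi).2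
        (not_two_dvd_orderOf hYodd hi) hinv)
      obtain ⟨ha1, ha2⟩ := mem_inf.1 ha
      exact hDO (hD.core (hS.le t mem3_t (mem_inf.2 ⟨(mem_inf.1 ha1).1, ha2⟩)))
    refine (le_sup_three h hYodd (hnorm_inf t hS.norm_t htM) (hnorm_inf u hS.norm_u huM)).trans ?_
    have h1 : ∀ x, Mem3 t u x → S ⊓ M ⊓ C x ≤ D := by
      intro x hx
      refine le_trans ?_ (hclaim x hx)
      refine le_inf ?_ (inf_le_left.trans hYO)
      exact (inf_le_inf_right _ inf_le_left).trans (hS.le x hx)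
    exact sup_le (sup_le (h1 t mem3_t) (h1 u mem3_u)) (h1 _ mem3_tu)
  have hDS : D = S := by
    by_contra hne
    obtain ⟨x, hxS, hxM, hxD⟩ := exists_mem_normalizer hSp le_sup_left hne
    exact hxD (hYD (mem_inf.2 ⟨hxS, hxM⟩))
  have hD'D : D' = D := by
    refine eq_of_le_of_card_ge ?_ ?_
    · rw [hDS]; exact le_sup_right
    · rw [hD'd, card_cj]
  have hCu : C u ≤ M := by
    have := hD'.norm
    rwa [hD'D] at this
  have hwM : w ∈ M := by
    apply hCM
    rw [mem_C]
    rw [mul_inv_eq_iff_eq_mul] at hw1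
    exact hw1
  exact false_of_central h htM huM (F.factor u t M h.symm htM (cov_of_le hCu) hMtop) hwM hw2

end Final

end Cfsg.Agent.Classification.QDW.Theta
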