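import Mathlib
import Cfsg.Agent.Characters.Core
import Cfsg.Agent.Classification.QDW.CoreConst
import Cfsg.Agent.Classification.QDW.ThetaMain

/-!
# The lower bound for fixed spaces of small full subgroups

`Const ρ`: the character of `ρ` is constant on `g K(v)` if the involution `v` is a power of `g`.
Under `Const`, type D and the transitivity of `C(t)` on its involutions `≠ t`, the module
`C_X(Y (K t ∩ N(Y)))` of a small subgroup `Y`, full at `t`, is a module of `C(t)/K t` whose character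
agrees with that of `X` at the elements of even order (`exists_character`), so the lower bound for
such characters gives the field `lb` of `Frame` (`lb_of`).
-/

set_option autoImplicit false

namespace Cfsg.Agent.Classification.QDW.Theta

open Subgroup Cfsg Module
open Cfsg.Agent.Walter.SylowIn Cfsg.Agent.Walter.OddCoreIn Cfsg.Agent.Walter.Cover

variable {G : Type*} [Group G]

/-- Constancy on cosets of the cores. -/
def Const {X : Type*} [AddCommGroup X] [Module ℂ X] (ρ : Representation ℂ G X) : Prop :=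
  ∀ v g k : G, v * v = 1 → v ≠ 1 → k ∈ K v → v ∈ zpowers g → ρ.character (g * k) = ρ.character g

section GroupPart

variable [Finite G]

/-- two involutions congruent modulo an odd order group are conjugate under it -/
theorem exists_conj_inv {v u : G} (hv : v * v = 1) (hu : u * u = 1) {A : Subgroup G}
    (hA : ¬ 2 ∣ Nat.card A) (hn : u ∈ normalizer (A : Set G)) (h : u⁻¹ * v ∈ A) :
    ∃ a ∈ A, a * v * a⁻¹ = u := by
  obtain ⟨g, hg, y', hy', he⟩ := exists_conj_coset hu hA hn h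
  refine ⟨g, hg, ?_⟩
  have h1 : u * (u⁻¹ * v) = v := by group
  rw [h1] at he
  obtain ⟨hy1, hy2⟩ := mem_inf.1 hy'
  have h2 : y' * y' = 1 := by
    have h3 : (g * v * g⁻¹) * (g * v * g⁻¹) = 1 := by
      rw [show (g * v * g⁻¹) * (g * v * g⁻¹) = g * (v * v) * g⁻¹ by group, hv]; group
    rw [he] at h3
    have h4 : y' * u = u * y' := mem_C.1 hy2
    calc y' * y' = (u * u) * (y' * y') := by rw [hu, one_mul]
      _ = u * (u * y') * y' := by group
      _ = u * (y' * u) * y' := by rw [h4]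
      _ = u * y' * (u * y') := by group
      _ = 1 := h3
  have h3 := eq_one_of_inv_order h2 (not_two_dvd_orderOf hA hy1)
  rw [he, h3, mul_one]

/-- Two 2-elements congruent modulo an odd order group normalised by them are conjugate under
it. -/
theorem exists_conj_two {a a' : G} {m : ℕ} (ha : a ^ 2 ^ m = 1) (ha' : a' ^ 2 ^ m = 1)
    {Y : Subgroup G} (hY : ¬ 2 ∣ Nat.card Y) (hn : a ∈ normalizer (Y : Set G))
    (h : a⁻¹ * a' ∈ Y) : ∃ c ∈ Y, c * a' * c⁻¹ = a := by
  set H : Subgroup G := zpowers a ⊔ Y with hH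
  have hHn : H ≤ normalizer (Y : Set G) := sup_le (zpowers_le.2 hn) Subgroup.le_normalizer
  have hYH : Y ≤ H := le_sup_right
  have haH : a ∈ H := mem_sup_left (mem_zpowers a)
  have ha'H : a' ∈ H := by
    have : a' = a * (a⁻¹ * a') := by group
    rw [this]; exact mul_mem haH (hYH h)
  have hN : (Y.subgroupOf H).Normal := (normal_subgroupOf_iff_le_normalizer hYH).2 hHn
  have hodd : Odd (Nat.card (QuotientGroup.mk' (Y.subgroupOf H)).ker) := by
    rw [QuotientGroup.ker_mk', Nat.card_congr (Subgroup.subgroupOfEquivOfLe hYH).toEquiv,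
      ← Nat.not_even_iff_odd, even_iff_two_dvd]
    exact hY
  obtain ⟨c, hc, hcc⟩ := CoreConst.exists_conj_ker (QuotientGroup.mk' (Y.subgroupOf H)) hodd
    (⟨a', ha'H⟩ : H) (⟨a, haH⟩ : H) m (Subtype.ext ha') (Subtype.ext ha) (by
      refine QuotientGroup.eq.2 ?_
      rw [mem_subgroupOf]
      show a'⁻¹ * a ∈ Y
      have := inv_mem h
      rwa [mul_inv_rev, inv_inv] at this)
  refine ⟨c, ?_, congrArg Subtype.val hcc⟩
  have h1 : c ∈ (QuotientGroup.mk' (Y.subgroupOf H)).ker := hc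
  rw [QuotientGroup.ker_mk', mem_subgroupOf] at h1
  exact h1

/-- If `Y` is normalised by `g`, `v` an involution in `⟨g⟩` with `C_Y(v) ≤ K v`, then every element
of `g Y` is conjugate to an element of `g (K v ∩ C(v))`. -/
theorem exists_conj_mul {g v : G} (hv : v * v = 1) (hvg : v ∈ zpowers g) {Y : Subgroup G}
    (hY : ¬ 2 ∣ Nat.card Y) (hn : g ∈ normalizer (Y : Set G)) (hYv : Y ⊓ C v ≤ K v) {y : G}
    (hy : y ∈ Y) : ∃ c ∈ Y, ∃ k ∈ K v, c * (g * y) * c⁻¹ = g * k := by
  obtain ⟨m, r, k, hr, hk, h2, hodd⟩ := CoreConst.exists_exponent G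
  have hcong : ∀ j : ℕ, (g ^ j)⁻¹ * (g * y) ^ j ∈ Y := by
    intro j
    induction j with
    | zero => simp
    | succ j ih =>
      have h3 : (g ^ (j + 1))⁻¹ * (g * y) ^ (j + 1) =
          (g⁻¹ * ((g ^ j)⁻¹ * (g * y) ^ j) * g) * y := by
        rw [pow_succ, pow_succ]; group
      rw [h3]
      exact mul_mem (mem_norm_conj' hn ih) hy
  obtain ⟨c, hc, hca⟩ := exists_conj_two (h2 g) (h2 (g * y)) hY (pow_mem hn k) (hcong k)
  set a := g ^ k with ha
  set g' := c * (g * y) * c⁻¹ with hg'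
  have hg'a : g' ^ k = a := by rw [hg', conj_pow]; exact hca
  -- `v` is a power of `a`
  have hva : v ∈ zpowers a := by
    obtain ⟨s, hs⟩ := mem_zpowers_iff.1 hvg
    refine mem_zpowers_iff.2 ⟨s, ?_⟩
    obtain ⟨l, hl⟩ := hk
    have h1 : v ^ k = v := by rw [hl, pow_succ, pow_mul, sq, hv, one_pow, one_mul]
    rw [ha, ← zpow_natCast, ← zpow_mul, mul_comm, zpow_mul, hs, zpow_natCast, h1]
  have hcomm : ∀ x : G, x * a = a * x → x * v = v * x := by
    intro x hx
    obtain ⟨s, hs⟩ := mem_zpowers_iff.1 hva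
    rw [← hs]
    exact ((show Commute x a from hx).zpow_right s).eq
  refine ⟨c, hc, g⁻¹ * g', ?_, (mul_inv_cancel_left g g').symm⟩
  have h4 : g⁻¹ * g' ∈ Y := by
    rw [hg', show g⁻¹ * (c * (g * y) * c⁻¹) = (g⁻¹ * c * g) * (y * c⁻¹) by group]
    exact mul_mem (mem_norm_conj' hn hc) (mul_mem hy (inv_mem hc))
  refine hYv (mem_inf.2 ⟨h4, mem_C.2 (hcomm _ ?_)⟩)
  have h5 : g * a = a * g := ((Commute.refl g).pow_right k).eq
  have h6 : g' * a = a * g' := by
    rw [← hg'a]; exact ((Commute.refl g').pow_right k).eq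
  have h7 : g⁻¹ * a = a * g⁻¹ := ((show Commute g a from h5).inv_left).eq
  calc g⁻¹ * g' * a = g⁻¹ * (g' * a) := by group
    _ = g⁻¹ * a * g' := by rw [h6]; group
    _ = a * (g⁻¹ * g') := by rw [h7]; group

theorem Const.eq_of_mem {X : Type*} [AddCommGroup X] [Module ℂ X] {ρ : Representation ℂ G X}
    (hc : Const ρ) {g v : G} (hv : v * v = 1) (hv1 : v ≠ 1) (hvg : v ∈ zpowers g) {Y : Subgroup G}
    (hY : ¬ 2 ∣ Nat.card Y) (hn : g ∈ normalizer (Y : Set G)) (hYv : Y ⊓ C v ≤ K v) {y : G}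
    (hy : y ∈ Y) : ρ.character (g * y) = ρ.character g := by
  obtain ⟨c, -, k, hk, he⟩ := exists_conj_mul hv hvg hY hn hYv hy
  rw [← hc v g k hv hv1 hk hvg, ← he, Representation.char_conj]

omit [Finite G] in
/-- an involution among the powers of an element of even order -/
theorem exists_inv_pow [Finite G] {g : G} (hg : 2 ∣ orderOf g) :
    ∃ v ∈ zpowers g, v * v = 1 ∧ v ≠ 1 := by
  obtain ⟨s, hs⟩ := hg
  have hpos : 0 < orderOf g := orderOf_pos g
  refine ⟨g ^ s, Subgroup.npow_mem_zpowers _ _, ?_, ?_⟩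
  · rw [← pow_add, ← two_mul, ← hs, pow_orderOf_eq_one]
  · intro h1
    have h2 := orderOf_dvd_of_pow_eq_one h1
    have h3 : 0 < s := by
      rcases Nat.eq_zero_or_pos s with h0 | h0
      · rw [h0] at hs; omega
      · exact h0
    have := Nat.le_of_dvd h3 h2
    omega

/-- The join of two small subgroups, one normalising the other. -/
theorem Small.sup {t u : G} (h : Four t u) {A Y : Subgroup G} (hA : Small t u A)
    (hY : Small t u Y) (hn : A ≤ normalizer (Y : Set G)) : Small t u (A ⊔ Y) := by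
  refine ⟨not_dvd_sup Nat.prime_two hn hA.odd hY.odd, sup_mem_normalizer hA.norm_t hY.norm_t,
    sup_mem_normalizer hA.norm_u hY.norm_u, ?_⟩
  intro x hx z hz
  obtain ⟨hz1, hz2⟩ := mem_inf.1 hz
  obtain ⟨k, hk, y, hy, rfl⟩ := (mem_sup_iff_mul hn).1 hz1
  have hxA : x ∈ normalizer (A : Set G) := hx.mem h hA.norm_t hA.norm_u
  have hxY : x ∈ normalizer (Y : Set G) := hx.mem h hY.norm_t hY.norm_u
  have hcomm : (k * y) * x = x * (k * y) := mem_C.1 hz2
  obtain ⟨m, hm, hmk⟩ := exists_commute_coset (M := Y ⊓ A) (hx.sq h)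
    (not_dvd_of_le inf_le_left hY.odd) k
    (fun m hm => mem_inf.2 ⟨mem_norm_conj hxY (mem_inf.1 hm).1, mem_norm_conj hxA (mem_inf.1 hm).2⟩)
    (by
      refine mem_inf.2 ⟨?_, mul_mem (inv_mem hk) (mem_norm_conj hxA hk)⟩
      have h1 : k⁻¹ * (x * k * x⁻¹) = y * (x * y * x⁻¹)⁻¹ := by
        have h2 : (x * k * x⁻¹) * (x * y * x⁻¹) = k * y := by
          calc (x * k * x⁻¹) * (x * y * x⁻¹) = x * (k * y) * x⁻¹ := by group
            _ = (k * y) * x * x⁻¹ := by rw [hcomm]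
            _ = k * y := by group
        calc k⁻¹ * (x * k * x⁻¹) = k⁻¹ * ((x * k * x⁻¹) * (x * y * x⁻¹)) * (x * y * x⁻¹)⁻¹ := by
              group
          _ = k⁻¹ * (k * y) * (x * y * x⁻¹)⁻¹ := by rw [h2]
          _ = _ := by group
      rw [h1]
      exact mul_mem hy (inv_mem (mem_norm_conj hxY hy)))
  obtain ⟨hmY, hmA⟩ := mem_inf.1 hm
  have h3 : k * y = (k * m) * (m⁻¹ * y) := by group
  rw [h3]
  refine mul_mem (hA.le x hx (mem_inf.2 ⟨mul_mem hk hmA, hmk⟩))
    (hY.le x hx (mem_inf.2 ⟨mul_mem (inv_mem hmY) hy, ?_⟩))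
  have h4 : m⁻¹ * y = (k * m)⁻¹ * (k * y) := by group
  rw [h4]
  exact mul_mem (inv_mem hmk) hz2

end GroupPart

section Main

variable [Finite G] {t u : G}

/-- transitivity of `C(t)` on its involutions `≠ t` -/
def Trans (t : G) : Prop :=
  ∀ u v : G, Four t u → Four t v → ∃ c ∈ C t, c * u * c⁻¹ = v

/-- The part of `K t` normalising `Y`. -/
theorem small_part (h : Four t u) (hb1 : K t ⊓ C u ≤ K u) (hb2 : K t ⊓ C (t * u) ≤ K (t * u))
    {Y : Subgroup G} (hY : Small t u Y) : Small t u (K t ⊓ normalizer (Y : Set G)) := by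
  have hn : ∀ x, Mem3 t u x → x ∈ normalizer ((K t ⊓ normalizer (Y : Set G) : Subgroup G) : Set G) := by
    intro x hx
    rw [mem_normalizer_iff]
    intro z
    rw [mem_inf, mem_inf]
    exact and_congr ((mem_normalizer_iff.1 (C_le_normalizer_core t (hx.mem_C h mem3_t))) z)
      ((mem_normalizer_iff.1 (Subgroup.le_normalizer (hx.mem h hY.norm_t hY.norm_u))) z)
  refine ⟨not_dvd_of_le inf_le_left (Cfsg.Agent.Walter.Cover.core_odd t), hn t mem3_t,
    hn u mem3_u, ?_⟩
  rintro x (rfl | rfl | rfl)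
  · exact inf_le_left.trans inf_le_left
  · exact (inf_le_inf_right _ inf_le_left).trans hb1
  · exact (inf_le_inf_right _ inf_le_left).trans hb2

/-- Involutions of `C(t) ∩ N(Y)` are conjugate to `t` or `u` in `C(t) ∩ N(Y)`. -/
theorem le_K_of_inv (h : Four t u) (htr : Trans t) {Y Y' : Subgroup G}
    (hcov : Cov t (normalizer (Y : Set G))) (huY : u ∈ normalizer (Y : Set G))
    (hY' : normalizer (Y : Set G) ⊓ C t ≤ normalizer (Y' : Set G)) (hs : Small t u Y') {v : G}
    (hv : v * v = 1) (hv1 : v ≠ 1) (hvt : v ∈ C t) (hvY : v ∈ normalizer (Y : Set G)) :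
    Y' ⊓ C v ≤ K v := by
  by_cases hvt' : v = t
  · rw [hvt']; exact hs.le t mem3_t
  have h4 : Four t v := ⟨h.tt, hv, (mem_C.1 hvt).symm, h.t1, hv1, fun e => hvt' e.symm⟩
  obtain ⟨c, hc, hcv⟩ := htr u v h h4
  obtain ⟨k, hk, b, hb, rfl⟩ := hcov.2 c hc
  obtain ⟨hbY, hbC⟩ := mem_inf.1 hb
  -- `u₁ = b u b⁻¹`
  have huC : u ∈ C t := mem3_u.mem_C h mem3_t
  have hu1C : b * u * b⁻¹ ∈ C t := mul_mem (mul_mem hbC huC) (inv_mem hbC)
  have hu1Y : b * u * b⁻¹ ∈ normalizer (Y : Set G) := mul_mem (mul_mem hbY huY) (inv_mem hbY)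
  have hu1sq : (b * u * b⁻¹) * (b * u * b⁻¹) = 1 := by
    rw [show (b * u * b⁻¹) * (b * u * b⁻¹) = b * (u * u) * b⁻¹ by group, h.uu]; group
  have hmem : (b * u * b⁻¹)⁻¹ * v ∈ K t ⊓ normalizer (Y : Set G) := by
    refine mem_inf.2 ⟨?_, mul_mem (inv_mem hu1Y) hvY⟩
    have h5 : (b * u * b⁻¹)⁻¹ * v = ((b * u * b⁻¹)⁻¹ * k * (b * u * b⁻¹)) * k⁻¹ := by
      rw [← hcv]; group
    rw [h5]
    exact mul_mem (mem_norm_conj' (C_le_normalizer_core t hu1C) hk) (inv_mem hk)
  obtain ⟨a, ha, hav⟩ := exists_conj_inv hv hu1sq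
    (A := K t ⊓ normalizer (Y : Set G))
    (not_dvd_of_le inf_le_left (Cfsg.Agent.Walter.Cover.core_odd t)) (by
      rw [mem_normalizer_iff]
      intro z
      rw [mem_inf, mem_inf]
      exact and_congr ((mem_normalizer_iff.1 (C_le_normalizer_core t hu1C)) z)
        ((mem_normalizer_iff.1 (Subgroup.le_normalizer hu1Y)) z)) hmem
  -- `v = e u e⁻¹` with `e = a⁻¹ b`
  have heY : a⁻¹ * b ∈ normalizer (Y : Set G) := mul_mem (inv_mem (mem_inf.1 ha).2) hbY
  have heC : a⁻¹ * b ∈ C t := mul_mem (inv_mem (core_le_C t (mem_inf.1 ha).1)) hbC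
  have hev : v = (a⁻¹ * b) * u * (a⁻¹ * b)⁻¹ := by
    calc v = a⁻¹ * (a * v * a⁻¹) * a := by group
      _ = _ := by rw [hav]; group
  have heY' : a⁻¹ * b ∈ normalizer (Y' : Set G) := hY' (mem_inf.2 ⟨heY, heC⟩)
  intro z hz
  obtain ⟨hz1, hz2⟩ := mem_inf.1 hz
  rw [hev, mem_K_conj]
  refine hs.le u mem3_u (mem_inf.2 ⟨mem_norm_conj' heY' hz1, ?_⟩)
  have h6 : z ∈ cj (a⁻¹ * b) (C u) := by rw [cj_C, ← hev]; exact hz2
  exact mem_cj.1 h6

variable {X : Type*} [AddCommGroup X] [Module ℂ X] [FiniteDimensional ℂ X]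
  {ρ : Representation ℂ G X}

omit [FiniteDimensional ℂ X] in
/-- The character is constant on the cosets of `K t` of even order elements. -/
theorem Const.mul_K (hc : Const ρ) (h : Four t u) (htr : Trans t) (hb1 : K t ⊓ C u ≤ K u)
    (hb2 : K t ⊓ C (t * u) ≤ K (t * u)) {g k : G} (hg : g ∈ C t) (hg2 : 2 ∣ orderOf g)
    (hk : k ∈ K t) : ρ.character (g * k) = ρ.character g := by
  obtain ⟨v, hvg, hv, hv1⟩ := exists_inv_pow hg2
  have hKs : Small t u (K t) := by
    refine ⟨Cfsg.Agent.Walter.Cover.core_odd t, C_le_normalizer_core t (self_mem_C t),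
      C_le_normalizer_core t (mem3_u.mem_C h mem3_t), ?_⟩
    rintro x (rfl | rfl | rfl)
    · exact inf_le_left
    · exact hb1
    · exact hb2
  have hvt : v ∈ C t := (zpowers_le.2 hg) hvg
  refine hc.eq_of_mem hv hv1 hvg (Cfsg.Agent.Walter.Cover.core_odd t)
    (C_le_normalizer_core t hg) ?_ hk
  exact le_K_of_inv h htr (Y := K t) (cov_of_le (C_le_normalizer_core t))
    (C_le_normalizer_core t (mem3_u.mem_C h mem3_t)) inf_le_left hKs hv hv1 hvt
    (C_le_normalizer_core t hvt)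

/-- The action on the fixed space. -/
noncomputable def fixRep (ρ : Representation ℂ G X) (Y : Subgroup G) (H : Subgroup G)
    (hH : H ≤ normalizer (Y : Set G)) : Representation ℂ H (fixed ρ Y) where
  toFun x := (ρ (x : G)).restrict fun _ hv => map_fixed (hH x.2) hv
  map_one' := by
    ext v
    show ρ ((1 : H) : G) (v : X) = v
    rw [coe_one, map_one]
    rfl
  map_mul' x y := by
    ext v
    show ρ ((x * y : H) : G) (v : X) = ρ x (ρ y v)
    rw [coe_mul, map_mul]
    rfl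

theorem fixRep_apply {Y H : Subgroup G} (hH : H ≤ normalizer (Y : Set G)) (x : H)
    (v : fixed ρ Y) : ((fixRep ρ Y H hH x v : fixed ρ Y) : X) = ρ (x : G) v := rfl

theorem fixRep_character {Y H : Subgroup G} (hH : H ≤ normalizer (Y : Set G)) (x : H)
    (hx : ∀ y ∈ Y, ρ.character (x * y) = ρ.character (x : G)) :
    (fixRep ρ Y H hH).character x = ρ.character (x : G) := by
  classical
  have : Fintype Y := Fintype.ofFinite _
  have h1 : ∀ v, (ρ (x : G) * proj ρ Y) v ∈ fixed ρ Y := fun v =>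
    map_fixed (hH x.2) ((proj_isProj ρ Y).map_mem v)
  have h2 := LinearMap.trace_restrict_eq_of_forall_mem (fixed ρ Y) (ρ (x : G) * proj ρ Y) h1
  have h3 : (ρ (x : G) * proj ρ Y).restrict (fun v _ => h1 v) = fixRep ρ Y H hH x := by
    ext v
    show ρ (x : G) (proj ρ Y v) = ρ (x : G) v
    rw [(proj_isProj ρ Y).map_id v v.2]
  show LinearMap.trace ℂ _ (fixRep ρ Y H hH x) = _
  rw [← h3, h2, trace_mul_proj, Finset.sum_congr rfl (fun y _ => hx y.1 y.2), Finset.sum_const,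
    Finset.card_univ, nsmul_eq_mul, ← Nat.card_eq_fintype_card, ← mul_assoc,
    inv_mul_cancel₀ (card_ne Y), one_mul]

/-- **The fixed space of a small full subgroup carries a character of `C(t)/K t` agreeing with that
of `X` at elements of even order.** -/
theorem exists_character (hc : Const ρ) (h : Four t u) (htr : Trans t) (hb1 : K t ⊓ C u ≤ K u)
    (hb2 : K t ⊓ C (t * u) ≤ K (t * u)) {Y : Subgroup G} (hY : Small t u Y)
    (hcov : Cov t (normalizer (Y : Set G))) {Q : Type*} [Group Q] (π : C t →* Q)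
    (hπ : Function.Surjective π) (hker : ∀ x : C t, π x = 1 ↔ (x : G) ∈ K t) :
    ∃ θ : Q → ℂ, IsCharacter Q θ ∧
      (∀ y : C t, 2 ∣ orderOf (π y) → θ (π y) = ρ.character (y : G)) ∧
      ∃ N : ℕ, θ 1 = N ∧ N ≤ finrank ℂ (fixed ρ Y) := by
  set A := K t ⊓ normalizer (Y : Set G) with hA
  have hAs : Small t u A := small_part h hb1 hb2 hY
  have hs : Small t u (A ⊔ Y) := hAs.sup h hY inf_le_right
  set H := normalizer (Y : Set G) ⊓ C t with hH
  have hHn : H ≤ normalizer ((A ⊔ Y : Subgroup G) : Set G) := by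
    intro x hx
    obtain ⟨hx1, hx2⟩ := mem_inf.1 hx
    refine sup_mem_normalizer ?_ hx1
    rw [mem_normalizer_iff]
    intro z
    rw [hA, mem_inf, mem_inf]
    exact and_congr ((mem_normalizer_iff.1 (C_le_normalizer_core t hx2)) z)
      ((mem_normalizer_iff.1 (Subgroup.le_normalizer hx1)) z)
  have hHC : H ≤ C t := inf_le_right
  set π₁ : H →* Q := π.comp (Subgroup.inclusion hHC) with hπ₁
  have hsurj : Function.Surjective π₁ := by
    intro q
    obtain ⟨y, rfl⟩ := hπ q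
    obtain ⟨k, hk, b, hb, hy⟩ := hcov.2 y y.2
    refine ⟨⟨b, hb⟩, ?_⟩
    show π ⟨b, hHC hb⟩ = π y
    have hkC : k ∈ C t := core_le_C t hk
    have h1 : y = (⟨k, hkC⟩ : C t) * ⟨b, hHC hb⟩ := Subtype.ext hy
    rw [h1, map_mul, (hker ⟨k, hkC⟩).2 hk, one_mul]
  have hK : ∀ x : H, π₁ x = 1 → (x : G) ∈ A ⊔ Y := by
    intro x hx
    have h1 : (x : G) ∈ K t := (hker (Subgroup.inclusion hHC x)).1 hx
    exact mem_sup_left (mem_inf.2 ⟨h1, (mem_inf.1 x.2).1⟩)
  set τ := fixRep ρ (A ⊔ Y) H hHn with hτ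
  have hle : π₁.ker ≤ τ.asGroupHom.ker := by
    intro x hx
    rw [MonoidHom.mem_ker]
    refine Units.ext ?_
    rw [Representation.asGroupHom_apply]
    refine LinearMap.ext fun v => Subtype.ext ?_
    exact v.2 (x : G) (hK x hx)
  set σ : Q →* (fixed ρ (A ⊔ Y) →ₗ[ℂ] fixed ρ (A ⊔ Y))ˣ :=
    π₁.liftOfSurjective hsurj ⟨τ.asGroupHom, hle⟩ with hσ
  have hσ1 : ∀ x : H, ((σ (π₁ x) : (fixed ρ (A ⊔ Y) →ₗ[ℂ] fixed ρ (A ⊔ Y))ˣ) :
      fixed ρ (A ⊔ Y) →ₗ[ℂ] fixed ρ (A ⊔ Y)) = τ x := by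
    intro x
    rw [hσ, MonoidHom.liftOfRightInverse_comp_apply]
    rfl
  let σ' : Representation ℂ Q (fixed ρ (A ⊔ Y)) :=
    (Units.coeHom (fixed ρ (A ⊔ Y) →ₗ[ℂ] fixed ρ (A ⊔ Y))).comp σ
  have hσ' : ∀ x : H, σ' (π₁ x) = τ x := hσ1
  refine ⟨σ'.character, Cfsg.Agent.Characters.Core.isCharacter_of_rep σ', ?_,
    finrank ℂ (fixed ρ (A ⊔ Y)), ?_, ?_⟩
  · intro y hy
    obtain ⟨x, hx⟩ := hsurj (π y)
    have hx' : π (Subgroup.inclusion hHC x) = π y := hx
    have h1 : σ'.character (π y) = τ.character x := by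
      show LinearMap.trace ℂ _ (σ' (π y)) = LinearMap.trace ℂ _ (τ x)
      rw [← hx, hσ']
    -- the order of `x` is even
    have hxe : 2 ∣ orderOf (x : G) := by
      have h2 : orderOf (π y) ∣ orderOf (Subgroup.inclusion hHC x) := by
        rw [← hx']
        exact orderOf_map_dvd π _
      have h3 : orderOf (Subgroup.inclusion hHC x) = orderOf (x : G) := by
        rw [← Subgroup.orderOf_coe]
        rfl
      rw [h3] at h2
      exact hy.trans h2
    have h2 : τ.character x = ρ.character (x : G) := by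
      refine fixRep_character hHn x fun z hz => ?_
      obtain ⟨v, hvg, hv, hv1⟩ := exists_inv_pow hxe
      have hvH : v ∈ H := (zpowers_le.2 x.2) hvg
      refine hc.eq_of_mem hv hv1 hvg hs.odd (hHn x.2) ?_ hz
      exact le_K_of_inv h htr hcov hY.norm_u hHn hs hv hv1 (mem_inf.1 hvH).2 (mem_inf.1 hvH).1
    rw [h1, h2]
    -- compare `x` and `y`
    have hk : (y : G)⁻¹ * (x : G) ∈ K t := by
      have h3 : π (y⁻¹ * Subgroup.inclusion hHC x) = 1 := by
        rw [map_mul, map_inv, hx', inv_mul_cancel]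
      exact (hker _).1 h3
    have hye : 2 ∣ orderOf (y : G) := by
      rw [Subgroup.orderOf_coe]
      exact hy.trans (orderOf_map_dvd π y)
    have h3 := hc.mul_K h htr hb1 hb2 y.2 hye hk
    rw [show (y : G) * ((y : G)⁻¹ * (x : G)) = x by group] at h3
    exact h3
  · rw [Representation.char_one]
  · refine Submodule.finrank_mono ?_
    intro v hv y hy
    exact hv y (mem_sup_right hy)

/-- **The field `lb` of `Frame`.** -/
theorem lb_of (hc : Const ρ) (h : Four t u) (htr : Trans t) (hb1 : K t ⊓ C u ≤ K u)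
    (hb2 : K t ⊓ C (t * u) ≤ K (t * u)) {Q : Type*} [Group Q] (π : C t →* Q)
    (hπ : Function.Surjective π) (hker : ∀ x : C t, π x = 1 ↔ (x : G) ∈ K t) {d n' : ℕ} {c : ℤ}
    (hdim : (finrank ℂ X : ℤ) = d + c + n')
    (hlbq : ∀ θ : Q → ℂ, IsCharacter Q θ →
      (∀ y : C t, 2 ∣ orderOf (π y) → θ (π y) = ρ.character (y : G)) →
      ∀ N : ℕ, θ 1 = N → (d : ℤ) + c ≤ N)
    {Y : Subgroup G} (hY : Small t u Y) (hcov : Cov t (normalizer (Y : Set G))) :
    finrank ℂ X ≤ finrank ℂ (fixed ρ Y) + n' := by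
  obtain ⟨θ, hθ, hval, N, hN, hle⟩ := exists_character hc h htr hb1 hb2 hY hcov π hπ hker
  have := hlbq θ hθ hval N hN
  omega

end Main

end Cfsg.Agent.Classification.QDW.Theta
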