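import Mathlib
import Cfsg.Agent.Classification.QDW.InstMain
import Cfsg.Agent.Classification.QDW.ThetaLB

/-!
# The lower bound for characters of `C(t)/K t`, type D

`lbq`: if `W ∩ K_t ≤ K_u` and `θ` is a character of `C` agreeing on the elements of even order with
a class function of `G` with values `σ (c + ε St)`, then `θ(1) - θ(z) ≥ q² - 1`.
-/

set_option autoImplicit false
set_option linter.unusedSectionVars false

namespace Cfsg.Agent.Classification.QDW.InstTypeD

open Cfsg Cfsg.Agent.Characters Cfsg.Agent.Classification.InvCent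
open Cfsg.Agent.Classification.QDW.InstC Cfsg.Agent.Classification.QDW.InstGamma
open Cfsg.Agent.Classification.QDW.InstLB Cfsg.Agent.Classification.QDW.InstG
open Cfsg.Agent.Classification.QDW.RelH Cfsg.Agent.Classification.QDW.DegBound
open Cfsg.Agent.Classification.QDW.LowerBound Cfsg.Agent.Classification.QDW.InstMain
open Cfsg.Agent.Classification.RTwo

universe u v

section Id

variable {C : Type v} [Group C] [Fintype C] {z : C} {q : ℕ}
  {ε : ℤ} {Z T T' U : Subgroup C} {s s' u₀ : C} {b : C →* ℂˣ} {μ : U →* ℂˣ}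

/-- A linear character of the odd part of `T`, fixed by `s`, is trivial. -/
theorem lin_id (hD : CData z q ε Z T T' U s s' u₀ b)
    (l : Wg hD.chyp (MonoidHom.id C) u₀ →* ℂˣ)
    (hl : ∀ y, l (aW (ghyp_id hD.chyp) hD.chyp y) = l y) : l = 1 := by
  have hG := ghyp_id hD.chyp
  have h3 : ∀ y, l y * l y = 1 := by
    intro y
    have h1 := inv_mod hD hG y
    have h2 : aW hG hD.chyp y * y = 1 := Subtype.ext h1
    have h4 : l (aW hG hD.chyp y) * l y = 1 := by rw [← map_mul, h2, map_one]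
    rwa [hl] at h4
  ext y
  obtain ⟨k, hk⟩ := hG.odd_W hD.chyp
  have h4 : l y ^ Nat.card (Wg hD.chyp (MonoidHom.id C) u₀) = 1 := by
    rw [← map_pow, pow_card_eq_one', map_one]
  rw [hk, pow_succ, pow_mul, sq, h3, one_pow, one_mul] at h4
  rw [h4]
  rfl

/-- **The lower bound for characters of `C`.** -/
theorem bound_id (hD : CData z q ε Z T T' U s s' u₀ b) (hq : 5 ≤ q) (hμ : ∃ v : U, μ v ≠ 1)
    {θ : C → ℂ} (hθ : IsCharacter C θ) {σ c : ℤ} (hσ : σ = 1 ∨ σ = -1) (hc : c = 0 ∨ c = 1)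
    {m : ℕ} (hm : 2 * (m : ℤ) = q - ε)
    (hv : ∀ x, z ∈ Subgroup.zpowers x → θ x = σ * (c + ε * St hD.chyp μ x))
    (h1 : θ u₀ = σ * (c + 1 + 2 * ε * m))
    (h1' : ∀ y ∈ Wg hD.chyp (MonoidHom.id C) u₀, y ≠ 1 → θ (u₀ * y) = σ * (c + 1))
    (h2 : θ (z * u₀) = σ * (c + 1 + 2 * ε * m))
    (h2' : ∀ y ∈ Wg hD.chyp (MonoidHom.id C) u₀, y ≠ 1 → θ (z * (u₀ * y)) = σ * (c + 1))
    {N : ℕ} (hN : θ 1 = N) : (q : ℤ) ^ 2 - 1 ≤ N - σ * (c + ε * q) := by
  classical
  let _ : Fintype (Wg hD.chyp (MonoidHom.id C) u₀) := Fintype.ofFinite _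
  have hG := ghyp_id hD.chyp
  have hmem : ∀ y : Wg hD.chyp (MonoidHom.id C) u₀,
      y ∉ (⊥ : Subgroup (Wg hD.chyp (MonoidHom.id C) u₀)) → (y : C) ≠ 1 := by
    intro y hy h3
    exact hy (Subgroup.mem_bot.2 (Subtype.ext h3))
  have hidx : (⊥ : Subgroup (Wg hD.chyp (MonoidHom.id C) u₀)).index = m := by
    rw [Subgroup.index_bot]
    exact card_Todd hD hm
  have hcomm : ∀ x y : Wg hD.chyp (MonoidHom.id C) u₀,
      x * y * x⁻¹ * y⁻¹ ∈ (⊥ : Subgroup (Wg hD.chyp (MonoidHom.id C) u₀)) := by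
    intro x y
    rw [Subgroup.mem_bot]
    apply Subtype.ext
    have h3 := hD.chyp.T_comm _ x.2.1 _ y.2.1
    have h4 : (x : C) * y = y * x := h3
    show (x : C) * y * (x : C)⁻¹ * (y : C)⁻¹ = 1
    rw [h4]; group
  have hreg : ∀ l : Wg hD.chyp (MonoidHom.id C) u₀ →* ℂˣ, l ≠ 1 →
      conjL (aW hG hD.chyp) l ≠ l := by
    intro l hl he
    refine hl (lin_id hD l fun y => ?_)
    have h3 : conjL (aW hG hD.chyp) l (aW hG hD.chyp y) = l y := by
      show l ((aW hG hD.chyp).symm (aW hG hD.chyp y)) = l y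
      rw [MulEquiv.symm_apply_apply]
    rw [← h3, he]
  have hvals : Vals q ε (Wg hD.chyp (MonoidHom.id C) u₀).subtype (aW hG hD.chyp) z u₀ θ σ c m
      ⊥ ⊥ :=
    { char := hθ
      sig := hσ
      two_m := hm
      normal₁ := inferInstance
      normal₂ := inferInstance
      comm₁ := hcomm
      comm₂ := hcomm
      index₁ := hidx
      index₂ := hidx
      reg₁ := fun l _ hl => hreg l hl
      reg₂ := fun l _ hl => hreg l hl
      val₁ := fun y hy => by
        rw [Subgroup.mem_bot.1 hy, map_one, mul_one]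
        exact h1
      val₁' := fun y hy => h1' y y.2 (hmem y hy)
      val₂ := fun y hy => by
        rw [Subgroup.mem_bot.1 hy, map_one, mul_one]
        exact h2
      val₂' := fun y hy => h2' y y.2 (hmem y hy)
      val_t := by
        rw [hv z (Subgroup.mem_zpowers z), St_Z hD.chyp μ hD.chyp.t_mem] }
  exact (bound hD hG hq hμ hvals hv hc hN).1

end Id

section Group

variable {G : Type u} [Group G] [Fintype G] {C : Type v} [Group C] [Fintype C] {z : C} {q : ℕ}
  {ε : ℤ} {Z T T' U : Subgroup C} {s s' u₀ : C} {b : C →* ℂˣ} {μ : U →* ℂˣ} {t : G}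
  {π : (Subgroup.centralizer ({t} : Set G)) →* C} {u w : Subgroup.centralizer ({t} : Set G)}
  {g : G}

theorem two_dvd_u (hD : CData z q ε Z T T' U s s' u₀ b)
    (y : C) (hy : y ∈ Wg hD.chyp (MonoidHom.id C) u₀) :
    2 ∣ orderOf (u₀ * y) ∧ 2 ∣ orderOf (z * (u₀ * y)) := by
  have h := hD.chyp
  have hG := ghyp_id h
  have hu1 : u₀ ≠ 1 := by
    intro h1
    have := h.orderOf_u
    rw [h1, orderOf_one] at this
    omega
  have hzu1 : z * u₀ ≠ 1 := by
    intro h1
    refine h.u_ne ?_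
    rw [eq_inv_of_mul_eq_one_right h1]
    exact inv_eq_of_mul_eq_one_left hG.tt
  have key : ∀ v : C, v * v = 1 → v ≠ 1 → Commute v y → 2 ∣ orderOf (v * y) := by
    intro v hv hv1 hvy
    have h1 := hG.four h (v := v) hv hy hvy
    by_contra h2
    have h3 : Odd (orderOf (v * y)) := by
      rw [← Nat.not_even_iff_odd, even_iff_two_dvd]
      exact h2
    have h4 : orderOf v ∣ orderOf (v * y) := by
      conv_lhs => rw [← h1]
      exact orderOf_pow_dvd _
    have h5 : orderOf v = 2 := orderOf_eq_prime (by rw [sq, hv]) hv1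
    rw [h5] at h4
    exact h2 h4
  refine ⟨key u₀ hG.uu hu1 hy.2.2, ?_⟩
  rw [← mul_assoc]
  refine key (z * u₀) ?_ hzu1 ((hG.t_comm y).mul_left hy.2.2)
  calc z * u₀ * (z * u₀) = z * (u₀ * z) * u₀ := by group
    _ = (z * z) * (u₀ * u₀) := by rw [(hG.t_comm u₀).symm.eq]; group
    _ = 1 := by rw [hG.tt, hG.uu, one_mul]

/-- In type D the three subgroups of `W` coincide. -/
theorem mem_A1_iff (hD : CData z q ε Z T T' U s s' u₀ b)
    (hG : GHyp π z u₀ s (General.tt t) u w) (hs : Swap t u g)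
    (htd : ∀ y : Wg hD.chyp π u, π y = 1 → y ∈ A1 hD hG hs) (y : Wg hD.chyp π u) :
    y ∈ A1 hD hG hs ↔ π y = 1 := by
  obtain ⟨m, -, hm⟩ := hD.exists_m
  have h1 : Aker hD π u (MulEquiv.refl _) ≤ A1 hD hG hs := fun x hx => htd x hx
  have h2 : (Aker hD π u (MulEquiv.refl _)).index = (A1 hD hG hs).index := by
    rw [Aker_index hD hG _ hm]
    exact (Aker_index hD hG _ hm).symm
  have h3 : Aker hD π u (MulEquiv.refl _) = A1 hD hG hs := by
    have h4 := Subgroup.relIndex_mul_index h1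
    rw [h2] at h4
    have h5 : (A1 hD hG hs).index ≠ 0 := Subgroup.index_ne_zero_of_finite
    have h6 : (Aker hD π u (MulEquiv.refl _)).relIndex (A1 hD hG hs) = 1 :=
      (mul_eq_right₀ h5).1 h4
    exact le_antisymm h1 (Subgroup.relIndex_eq_one.1 h6)
  rw [← h3]
  exact Iff.rfl

/-- **The lower bound, type D.** -/
theorem lbq (hD : CData z q ε Z T T' U s s' u₀ b) (hq : 5 ≤ q)
    (hμ : ∃ v : U, μ v ≠ 1) (hG : GHyp π z u₀ s (General.tt t) u w) (hs : Swap t u g)
    {X : G → ℂ} {σ c : ℤ} (hX : DVal hD.chyp μ π X σ c) (hσ : σ = 1 ∨ σ = -1)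
    (hc : c = 0 ∨ c = 1) (htd : ∀ y : Wg hD.chyp π u, π y = 1 → y ∈ A1 hD hG hs)
    {θ : C → ℂ} (hθ : IsCharacter C θ)
    (hval : ∀ y : Subgroup.centralizer ({t} : Set G), 2 ∣ orderOf (π y) → θ (π y) = X y)
    {N : ℕ} (hN : θ 1 = N) : (q : ℤ) ^ 2 - 1 + σ * (c + ε * q) ≤ N := by
  obtain ⟨m, -, hm⟩ := hD.exists_m
  have hm' : (2 : ℂ) * m = q - ε := by exact_mod_cast hm
  have k1 : (σ : ℂ) * (c + ε * q) = σ * (c + 1 + 2 * ε * m) := by
    linear_combination (-(σ : ℂ) * ε) * hm' + (σ : ℂ) * eps_sq hD.chyp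
  have hu : ∀ y : Wg hD.chyp π u, X (u * y) = X (t * bW hD hG hs y) := by
    intro y
    rw [bW_apply, ← hX.cls ((u : G) * y) g]
    congr 1
    calc g * ((u : G) * y) * g⁻¹ = (g * u * g⁻¹) * (g * y * g⁻¹) := by group
      _ = t * (g * y * g⁻¹) := by rw [hs.g_u]
  have htu : ∀ y : Wg hD.chyp π u, X (t * (u * y)) = X (u * (aW hG hD.chyp).symm y) := by
    intro y
    have h1 : (((aW hG hD.chyp).symm y : Wg hD.chyp π u) : G) = (w : G)⁻¹ * y * w := rfl
    rw [h1, ← hX.cls ((t : G) * (u * y)) (w : G)⁻¹]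
    congr 1
    have h2 : (w : G) * u * (w : G)⁻¹ = t * u := congrArg Subtype.val hG.wu
    calc (w : G)⁻¹ * (t * (u * y)) * (w : G)⁻¹⁻¹ = (w : G)⁻¹ * (t * u) * y * w := by group
      _ = u * ((w : G)⁻¹ * y * w) := by rw [← h2]; group
  have hu1 : ∀ y : Wg hD.chyp π u, π y = 1 → X (u * y) = σ * (c + 1 + 2 * ε * m) := by
    intro y hy
    rw [hu, (hX.at_tW hD hG (bW hD hG hs y)).1 (htd y hy), k1]
  have hu2 : ∀ y : Wg hD.chyp π u, π y ≠ 1 → X (u * y) = σ * (c + 1) := by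
    intro y hy
    rw [hu, (hX.at_tW hD hG (bW hD hG hs y)).2 fun h1 => hy ((mem_A1_iff hD hG hs htd y).1 h1)]
  have hker : ∀ y : Wg hD.chyp π u, π ((aW hG hD.chyp).symm y : Wg hD.chyp π u) = 1 ↔ π y = 1 := by
    intro y
    have h1 : (((aW hG hD.chyp).symm y : Wg hD.chyp π u) : Subgroup.centralizer ({t} : Set G)) =
      w⁻¹ * y * w := rfl
    rw [h1, map_mul, map_mul, map_inv]
    constructor
    · intro h2
      calc π (y : Subgroup.centralizer ({t} : Set G)) =
          π w * ((π w)⁻¹ * π y * π w) * (π w)⁻¹ := by group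
        _ = 1 := by rw [h2]; group
    · intro h2
      rw [h2]; group
  have hone : (1 : C) ∈ Wg hD.chyp (MonoidHom.id C) u₀ := one_mem _
  have h1 : θ u₀ = X u := by
    rw [← hG.map_u]
    refine hval u ?_
    rw [hG.map_u, hD.chyp.orderOf_u]
  have h2 : θ (z * u₀) = X (t * u) := by
    have h3 := hval (General.tt t * u) (by
      rw [map_mul, hG.map_t, hG.map_u]
      have := (two_dvd_u hD 1 hone).2
      rwa [mul_one] at this)
    rw [map_mul, hG.map_t, hG.map_u] at h3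
    exact h3
  have e1 : X u = σ * (c + 1 + 2 * ε * m) := by
    have := hu1 1 (map_one π)
    rw [show ((u : G) * ((1 : Wg hD.chyp π u) : G)) = u by
      show (u : G) * 1 = u
      rw [mul_one]] at this
    exact this
  have e2 : X (t * u) = σ * (c + 1 + 2 * ε * m) := by
    have h3 := htu 1
    have h4 := hu1 ((aW hG hD.chyp).symm 1) ((hker 1).2 (map_one π))
    rw [← h3] at h4
    rw [show ((t : G) * (u * ((1 : Wg hD.chyp π u) : G))) = t * u by
      show t * ((u : G) * 1) = t * u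
      rw [mul_one]] at h4
    exact h4
  have key := bound_id hD hq hμ hθ hσ hc hm (μ := μ)
    (fun x hx => by
      obtain ⟨y, rfl⟩ := hG.surj x
      rw [hval y ?_, hX.val y hx]
      rw [← hD.chyp.orderOf_t]
      exact orderOf_dvd_of_mem_zpowers hx)
    (by rw [h1, e1])
    (fun y hy hy1 => by
      obtain ⟨x, hx, rfl⟩ := exists_W hD hG hy
      have h3 : u₀ * π x = π (u * x) := by rw [map_mul, hG.map_u]
      rw [h3, hval (u * x) (by rw [← h3]; exact (two_dvd_u hD _ hy).1)]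
      exact hu2 ⟨x, hx⟩ hy1)
    (by rw [h2, e2])
    (fun y hy hy1 => by
      obtain ⟨x, hx, rfl⟩ := exists_W hD hG hy
      have h3 : z * (u₀ * π x) = π (General.tt t * (u * x)) := by
        rw [map_mul, map_mul, hG.map_u, hG.map_t]
      rw [h3, hval _ (by rw [← h3]; exact (two_dvd_u hD _ hy).2)]
      have h4 := htu ⟨x, hx⟩
      have h5 := hu2 ((aW hG hD.chyp).symm ⟨x, hx⟩) (fun h6 => hy1 ((hker ⟨x, hx⟩).1 h6))
      rw [← h4] at h5
      exact h5)
    hN
  linarith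

/-- Type D in terms of the cores of the centralizers. -/
theorem typeD (hD : CData z q ε Z T T' U s s' u₀ b)
    (hG : GHyp π z u₀ s (General.tt t) u w) (hs : Swap t u g)
    (hker : ∀ x : Subgroup.centralizer ({t} : Set G), π x = 1 ↔ (x : G) ∈ Theta.K t)
    (hbal : Theta.K t ⊓ Subgroup.centralizer ({(u : G)} : Set G) ≤ Theta.K (u : G))
    (y : Wg hD.chyp π u) (hy : π y = 1) : y ∈ A1 hD hG hs := by
  have h1 : ((y : Subgroup.centralizer ({t} : Set G)) : G) ∈ Theta.K (u : G) := by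
    refine hbal (Subgroup.mem_inf.2 ⟨(hker _).1 hy, Subgroup.mem_centralizer_singleton_iff.2 ?_⟩)
    exact (congrArg Subtype.val ((mem_Wg_iff hD hG).1 y.2).1.eq).symm
  show π (bW hD hG hs y : Wg hD.chyp π u) = 1
  rw [hker, bW_apply]
  have h2 : (u : G) = g⁻¹ * t * g⁻¹⁻¹ := by
    have h3 : g⁻¹ * (g * u * g⁻¹) * g = g⁻¹ * t * g := congrArg (fun a => g⁻¹ * a * g) hs.g_u
    rw [inv_inv, ← h3]; group
  rw [h2, Theta.mem_K_conj, inv_inv] at h1
  exact h1

end Group

end Cfsg.Agent.Classification.QDW.InstTypeD
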