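import Mathlib
import Cfsg.Agent.Classification.QDW.ThetaLB
import Cfsg.Agent.Classification.QDW.InstTypeD
import Cfsg.Agent.Classification.QDW.CoreConst

/-!
# The field `lb` of `Frame`

Data: one involution `t₀` with `π₀ : C(t₀) → Q` onto, kernel `K t₀`, `CData` for `Q`.

* `exists_pi`: for every `Four t u` there is `π : C(t) → Q` onto with kernel `K t`, `π t = z`,
  `π u = u₀`, conjugate to `π₀`;
* `const_of`: a character of the principal 2-block satisfies `Const`;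
* `trans_of`: `C(t)` is transitive on its involutions `≠ t`;
* `flip_of`, `swap_of`: the elements `w`, `g`;
* `lb_of_data`: the field `lb`.
-/

set_option autoImplicit false
set_option linter.unusedSectionVars false

namespace Cfsg.Agent.Classification.QDW.FrameLB

open Subgroup Cfsg Module
open Cfsg.Agent.Walter.SylowIn Cfsg.Agent.Walter.OddCoreIn Cfsg.Agent.Walter.Cover
open Cfsg.Agent.Characters Cfsg.Agent.Classification.InvCent
open Cfsg.Agent.Classification.QDW.InstC Cfsg.Agent.Classification.QDW.InstGamma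
open Cfsg.Agent.Classification.QDW.InstLB Cfsg.Agent.Classification.QDW.InstG
open Cfsg.Agent.Classification.QDW.RelH Cfsg.Agent.Classification.QDW.Theta
open Cfsg.Agent.Classification.RTwo
open Cfsg.Agent.Classification.BGBlockB0

universe u v

variable {G : Type u} [Group G] {Q : Type v} [Group Q]

/-- Conjugation by `a⁻¹` as a map `C(t) → C(t₀)`. -/
def cmap {t₀ t : G} (a : G) (h : a * t₀ * a⁻¹ = t) : C t →* C t₀ where
  toFun y := ⟨a⁻¹ * y * a, by
    rw [Subgroup.mem_centralizer_singleton_iff]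
    have h1 : (y : G) * t = t * y := Subgroup.mem_centralizer_singleton_iff.1 y.2
    calc a⁻¹ * y * a * t₀ = a⁻¹ * (y * (a * t₀ * a⁻¹)) * a := by group
      _ = a⁻¹ * ((a * t₀ * a⁻¹) * y) * a := by rw [h, h1]
      _ = t₀ * (a⁻¹ * y * a) := by group⟩
  map_one' := Subtype.ext (by
    show a⁻¹ * ((1 : C t) : G) * a = 1
    rw [coe_one]; group)
  map_mul' x y := Subtype.ext (by
    show a⁻¹ * ((x * y : C t) : G) * a = a⁻¹ * x * a * (a⁻¹ * y * a)
    rw [coe_mul]; group)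

theorem cmap_apply {t₀ t : G} (a : G) (h : a * t₀ * a⁻¹ = t) (y : C t) :
    ((cmap a h y : C t₀) : G) = a⁻¹ * y * a := rfl

/-- Inner automorphism as a homomorphism. -/
def inn (c : Q) : Q →* Q := (MulAut.conj c).toMonoidHom

theorem inn_apply (c x : Q) : inn c x = c * x * c⁻¹ := rfl

/-- `π` is conjugate to `π₀`. -/
def Rel {t₀ t : G} (π₀ : C t₀ →* Q) (π : C t →* Q) : Prop :=
  ∃ (a : G) (h : a * t₀ * a⁻¹ = t) (c : Q), ∀ y : C t, π y = c * π₀ (cmap a h y) * c⁻¹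

theorem mem_K_iff [Finite G] {t₀ t : G} (a : G) (h : a * t₀ * a⁻¹ = t) (y : C t) :
    (y : G) ∈ K t ↔ ((cmap a h y : C t₀) : G) ∈ K t₀ := by
  rw [cmap_apply, ← mem_K_conj, h]

section Transport

variable [Finite G] {z : Q} {t₀ t : G} {π₀ : C t₀ →* Q} {π : C t →* Q}

theorem Rel.ker (hr : Rel π₀ π) (hk : ∀ x : C t₀, π₀ x = 1 ↔ (x : G) ∈ K t₀) (x : C t) :
    π x = 1 ↔ (x : G) ∈ K t := by
  obtain ⟨a, h, c, hc⟩ := hr
  rw [mem_K_iff a h, ← hk, hc]
  constructor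
  · intro h1
    calc π₀ (cmap a h x) = c⁻¹ * (c * π₀ (cmap a h x) * c⁻¹) * c := by group
      _ = 1 := by rw [h1]; group
  · intro h1
    rw [h1]; group

theorem Rel.surj (hr : Rel π₀ π) (hs : Function.Surjective π₀) : Function.Surjective π := by
  obtain ⟨a, h, c, hc⟩ := hr
  intro q
  obtain ⟨y, hy⟩ := hs (c⁻¹ * q * c)
  have h0 : a⁻¹ * t * a = t₀ := by rw [← h]; group
  have h1 : a * (y : G) * a⁻¹ ∈ C t := by
    rw [Subgroup.mem_centralizer_singleton_iff]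
    have h2 : (y : G) * t₀ = t₀ * y := Subgroup.mem_centralizer_singleton_iff.1 y.2
    calc a * (y : G) * a⁻¹ * t = a * (y * (a⁻¹ * t * a)) * a⁻¹ := by group
      _ = a * ((a⁻¹ * t * a) * y) * a⁻¹ := by rw [h0, h2]
      _ = t * (a * y * a⁻¹) := by group
  refine ⟨⟨_, h1⟩, ?_⟩
  have h2 : cmap a h ⟨_, h1⟩ = y := Subtype.ext (by
    rw [cmap_apply]
    show a⁻¹ * (a * (y : G) * a⁻¹) * a = y
    group)
  rw [hc, h2, hy]; group

theorem Rel.hyp (hr : Rel π₀ π) (H : General.Hyp t₀ z π₀)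
    (hk : ∀ x : C t₀, π₀ x = 1 ↔ (x : G) ∈ K t₀) : General.Hyp t z π := by
  obtain ⟨a, h, c, hc⟩ := id hr
  refine ⟨?_, ?_, hr.surj H.surj, ?_, ?_⟩
  · rw [← h, FusionCore.orderOf_conj, H.orderOf_t]
  · intro x hx
    refine IsConj.trans (isConj_iff.2 ⟨a⁻¹, ?_⟩) (H.one_class x hx)
    rw [← h]; group
  · have h1 : Nat.card π.ker = Nat.card (K t) := by
      refine Nat.card_congr ⟨fun x => ⟨(x : C t), (hr.ker hk _).1 x.2⟩,
        fun x => ⟨⟨x, core_le_C t x.2⟩, (hr.ker hk ⟨(x : G), core_le_C t x.2⟩).2 x.2⟩, ?_, ?_⟩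
      · intro x; rfl
      · intro x; rfl
    rw [h1, ← Nat.not_even_iff_odd, even_iff_two_dvd]
    exact Cfsg.Agent.Walter.Cover.core_odd t
  · intro h1
    rw [hc]
    have h2 : cmap a h ⟨t, h1⟩ = General.tt t₀ := Subtype.ext (by
      rw [cmap_apply]
      show a⁻¹ * t * a = t₀
      rw [← h]; group)
    rw [h2, General.map_tt H, ← (General.z_comm H c).eq]
    group

theorem Rel.trans_inn (hr : Rel π₀ π) (c : Q) : Rel π₀ ((inn c).comp π) := by
  obtain ⟨a, h, c', hc⟩ := hr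
  refine ⟨a, h, c * c', fun y => ?_⟩
  show c * π y * c⁻¹ = _
  rw [hc]; group

end Transport

section Main

variable [Finite G] {z : Q} {q : ℕ} {ε : ℤ} {Z T T' U : Subgroup Q} {s s' u₀ : Q}
  {t₀ : G} {π₀ : C t₀ →* Q}

/-- Involutions of `C(t)` different from `t` are mapped to involutions different from `z`. -/
theorem eq_or_conj_map {t : G} {π : C t →* Q} (H : General.Hyp t z π)
    (h : CHyp z q ε Z T T' U s s' u₀) {u : G} (h4 : Four t u) (hu : u ∈ C t) :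
    ∃ c : Q, c * π ⟨u, hu⟩ * c⁻¹ = u₀ := by
  set x : C t := ⟨u, hu⟩ with hx
  have hxx : x * x = 1 := Subtype.ext h4.uu
  have hx1 : x ≠ 1 := fun e => h4.u1 (congrArg Subtype.val e)
  have hxt : x ≠ General.tt t := fun e => h4.ne (congrArg Subtype.val e).symm
  have hπxx : π x * π x = 1 := by rw [← map_mul, hxx, map_one]
  have hπx1 : π x ≠ 1 := by
    intro h1
    exact hx1 (General.eq_one_of_ker H h1 (m := 1) (by rw [pow_one, sq, hxx]))
  have hπxz : π x ≠ z := by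
    intro h1
    have h2 : π (x * General.tt t) = 1 := by
      rw [map_mul, h1, General.map_tt H, General.z_mul_z H]
    have h3 : x * General.tt t = 1 := by
      refine General.eq_one_of_ker H h2 (m := 1) ?_
      rw [pow_one, (General.tt_comm x).symm.mul_pow, sq, sq, hxx, General.tt_mul_tt H, one_mul]
    apply hxt
    rw [eq_inv_of_mul_eq_one_left h3]
    exact inv_eq_of_mul_eq_one_left (General.tt_mul_tt H)
  have hox : orderOf (π x) = 2 := orderOf_eq_prime (by rw [sq, hπxx]) hπx1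
  rcases FusionCore.eq_or_conj h hox with h1 | h1
  · exact absurd h1 hπxz
  · exact h1

/-- For every involution `t` there is a map `π : C(t) → Q` conjugate to `π₀`. -/
theorem exists_rel (H : General.Hyp t₀ z π₀) {t : G} (htt : t * t = 1) (ht1 : t ≠ 1) :
    ∃ π : C t →* Q, Rel π₀ π := by
  have ho : orderOf t = 2 := orderOf_eq_prime (by rw [sq, htt]) ht1
  obtain ⟨a, ha⟩ := isConj_iff.1 (H.one_class t ho)
  refine ⟨π₀.comp (cmap a ha), a, ha, 1, fun y => ?_⟩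
  show π₀ (cmap a ha y) = _
  group

/-- **The map `π : C(t) → Q` with `π u = u₀`.** -/
theorem exists_pi (H : General.Hyp t₀ z π₀) (hk : ∀ x : C t₀, π₀ x = 1 ↔ (x : G) ∈ K t₀)
    (h : CHyp z q ε Z T T' U s s' u₀) {t u : G} (h4 : Four t u) (hu : u ∈ C t) :
    ∃ π : C t →* Q, Rel π₀ π ∧ General.Hyp t z π ∧ (∀ x : C t, π x = 1 ↔ (x : G) ∈ K t) ∧
      π ⟨u, hu⟩ = u₀ := by
  obtain ⟨π, hr⟩ := exists_rel H h4.tt h4.t1
  obtain ⟨c, hc⟩ := eq_or_conj_map (hr.hyp H hk) h h4 hu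
  have hr' := hr.trans_inn c
  exact ⟨(inn c).comp π, hr', hr'.hyp H hk, hr'.ker hk, hc⟩

/-- **Transitivity of `C(t)` on its involutions different from `t`.** -/
theorem trans_of (H : General.Hyp t₀ z π₀) (hk : ∀ x : C t₀, π₀ x = 1 ↔ (x : G) ∈ K t₀)
    (h : CHyp z q ε Z T T' U s s' u₀) (t : G) : Theta.Trans t := by
  intro u v hu hv
  have hu' : u ∈ C t := mem3_u.mem_C hu mem3_t
  have hv' : v ∈ C t := mem3_u.mem_C hv mem3_t
  obtain ⟨π, hr, Hπ, hker, hπu⟩ := exists_pi H hk h hu hu'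
  obtain ⟨c, hc⟩ := eq_or_conj_map Hπ h hv hv'
  obtain ⟨y, rfl⟩ := Hπ.surj c
  -- `y v y⁻¹` and `u` have the same image
  obtain ⟨k, -, hkk⟩ := exists_conj_of_map (π := π) Hπ.odd_ker
    (x := y * ⟨v, hv'⟩ * y⁻¹) (y := ⟨u, hu'⟩)
    (by
      have h1 : (⟨v, hv'⟩ : C t) * ⟨v, hv'⟩ = 1 := Subtype.ext hv.uu
      calc y * (⟨v, hv'⟩ : C t) * y⁻¹ * (y * ⟨v, hv'⟩ * y⁻¹) =
            y * ((⟨v, hv'⟩ : C t) * ⟨v, hv'⟩) * y⁻¹ := by group
        _ = 1 := by rw [h1]; group)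
    (Subtype.ext hu.uu) (by rw [map_mul, map_mul, map_inv, hc, hπu])
  have h2 : (k : G) * (y * v * (y : G)⁻¹) * (k : G)⁻¹ = u := congrArg Subtype.val hkk
  refine ⟨((k * y : C t) : G)⁻¹, inv_mem (k * y).2, ?_⟩
  rw [← h2, coe_mul]; group

/-- The elements `u, w` of `GHyp` with given `u`. -/
theorem exists_ghyp_of {t u : G} {π : C t →* Q} (H : General.Hyp t z π)
    (h : CHyp z q ε Z T T' U s s' u₀) (h4 : Four t u) (hu : u ∈ C t) (hπu : π ⟨u, hu⟩ = u₀) :
    ∃ w : C t, GHyp π z u₀ s (General.tt t) ⟨u, hu⟩ w := by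
  obtain ⟨w₀, hw₀⟩ := H.surj s
  set x : C t := ⟨u, hu⟩ with hx
  have huu : x * x = 1 := Subtype.ext h4.uu
  have htt := General.tt_mul_tt H
  have htu : General.tt t * x * (General.tt t * x) = 1 := by
    calc General.tt t * x * (General.tt t * x) = General.tt t * (x * General.tt t) * x := by group
      _ = (General.tt t * General.tt t) * (x * x) := by
        rw [(General.tt_comm x).symm.eq]; group
      _ = 1 := by rw [htt, huu, one_mul]
  obtain ⟨k, hk, hku⟩ := exists_conj_of_map H.odd_ker (x := w₀ * x * w₀⁻¹)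
    (y := General.tt t * x)
    (by
      calc w₀ * x * w₀⁻¹ * (w₀ * x * w₀⁻¹) = w₀ * (x * x) * w₀⁻¹ := by group
        _ = 1 := by rw [huu]; group) htu
    (by rw [map_mul, map_mul, map_inv, map_mul, hw₀, hπu, General.map_tt H, h.s_u])
  refine ⟨k * w₀, H.surj, H.odd_ker, htt, General.tt_comm, General.map_tt H, huu, hπu, ?_, ?_⟩
  · rw [← hku]; group
  · rw [map_mul, MonoidHom.mem_ker.1 hk, one_mul, hw₀]

/-- **The field `flip` of `Frame`.** -/
theorem flip_of (H : General.Hyp t₀ z π₀) (hk : ∀ x : C t₀, π₀ x = 1 ↔ (x : G) ∈ K t₀)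
    (h : CHyp z q ε Z T T' U s s' u₀) (t u : G) (h4 : Four t u) :
    ∃ w, w * t * w⁻¹ = t ∧ w * u * w⁻¹ = t * u := by
  have hu : u ∈ C t := mem3_u.mem_C h4 mem3_t
  obtain ⟨π, hr, Hπ, hker, hπu⟩ := exists_pi H hk h h4 hu
  obtain ⟨w, hw⟩ := exists_ghyp_of Hπ h h4 hu hπu
  refine ⟨w, ?_, congrArg Subtype.val hw.wu⟩
  have h1 : (w : G) * t = t * w := Subgroup.mem_centralizer_singleton_iff.1 w.2
  rw [h1]; group

/-- **The field `swap` of `Frame`.** -/
theorem swap_of {b : Q →* ℂˣ} (H : General.Hyp t₀ z π₀)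
    (hk : ∀ x : C t₀, π₀ x = 1 ↔ (x : G) ∈ K t₀) [Finite Q]
    (hD : CData z q ε Z T T' U s s' u₀ b) (t u : G) (h4 : Four t u) :
    ∃ g, g * t * g⁻¹ = u ∧ g * u * g⁻¹ = t := by
  have hu : u ∈ C t := mem3_u.mem_C h4 mem3_t
  let _ : Fintype Q := Fintype.ofFinite Q
  obtain ⟨π, hr, Hπ, hker, hπu⟩ := exists_pi H hk hD.chyp h4 hu
  obtain ⟨w, hw⟩ := exists_ghyp_of Hπ hD.chyp h4 hu hπu
  obtain ⟨g, hg⟩ := exists_swap Hπ hD hw
  exact ⟨g, hg.g_t, hg.g_u⟩

/-- **`Const` for characters of the principal 2-block.** -/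
theorem const_of {X : Type*} [AddCommGroup X] [Module ℂ X] (ρ : Representation ℂ G X)
    (H : General.Hyp t₀ z π₀) (hk : ∀ x : C t₀, π₀ x = 1 ↔ (x : G) ∈ K t₀)
    {M : Ideal AlgInt} (hM : IsPModular 2 M) (hX : InB (principalBlock M G) ρ.character) :
    Const ρ := by
  intro v g k hv hv1 hkv hvg
  obtain ⟨π, hr⟩ := exists_rel H hv hv1
  have Hπ := hr.hyp H hk
  have hg : g ∈ C v := by
    rw [Subgroup.mem_centralizer_singleton_iff]
    obtain ⟨n, hn⟩ := mem_zpowers_iff.1 hvg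
    rw [← hn]
    exact ((Commute.refl g).zpow_right n).eq
  have hkC : k ∈ C v := core_le_C v hkv
  have h1 : π ⟨k, hkC⟩ = 1 := (hr.ker hk _).2 hkv
  have h2 := CoreConst.inB_eq_of_map Hπ M hM hX (⟨g, hg⟩ * ⟨k, hkC⟩) ⟨g, hg⟩
    (by
      rw [map_mul, h1, mul_one]
      exact (General.mem_zpowers_iff_map Hπ).1 hvg)
    (by rw [map_mul, h1, mul_one])
  exact h2

end Main

section Final

variable [Fintype G] [Fintype Q] {z : Q} {q : ℕ} {ε : ℤ} {Z T T' U : Subgroup Q} {s s' u₀ : Q}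
  {b : Q →* ℂˣ} {μ : U →* ℂˣ} {t₀ : G} {π₀ : C t₀ →* Q}

/-- Transport of the values. -/
theorem dval_rel {h : CHyp z q ε Z T T' U s s' u₀} {X : G → ℂ} {σ c : ℤ}
    (hX : DVal h μ π₀ X σ c) (H : General.Hyp t₀ z π₀) {t : G} {π : C t →* Q} (hr : Rel π₀ π) :
    DVal h μ π X σ c := by
  obtain ⟨a, h1, d, hd⟩ := hr
  refine ⟨hX.cls, fun y hy => ?_⟩
  have h2 : z ∈ zpowers (π₀ (cmap a h1 y)) := by
    obtain ⟨n, hn⟩ := mem_zpowers_iff.1 hy
    rw [hd, conj_zpow] at hn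
    refine mem_zpowers_iff.2 ⟨n, ?_⟩
    calc (π₀ (cmap a h1 y)) ^ n = d⁻¹ * (d * (π₀ (cmap a h1 y)) ^ n * d⁻¹) * d := by group
      _ = d⁻¹ * (z * d) := by rw [hn]; group
      _ = z := by rw [(General.z_comm H d).eq]; group
  have h3 := hX.val _ h2
  have h4 : X y = X ((cmap a h1 y : C t₀) : G) := by
    rw [cmap_apply]
    have := hX.cls (y : G) a⁻¹
    rw [← this, inv_inv]
  have h5 : St h μ (π y) = St h μ (π₀ (cmap a h1 y)) := by
    rw [hd]
    unfold St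
    rw [Torus.R_isClassFunction h.base _ _ d]
  rw [h4, h3, h5]

/-- **The field `lb` of `Frame`.** -/
theorem lb_of_data (H : General.Hyp t₀ z π₀) (hk : ∀ x : C t₀, π₀ x = 1 ↔ (x : G) ∈ K t₀)
    (hD : CData z q ε Z T T' U s s' u₀ b) (hq : 5 ≤ q) (hμ : ∃ v : U, μ v ≠ 1)
    {X : Type*} [AddCommGroup X] [Module ℂ X] [FiniteDimensional ℂ X] {ρ : Representation ℂ G X}
    {σ c : ℤ} (hX : DVal hD.chyp μ π₀ ρ.character σ c) (hσ : σ = 1 ∨ σ = -1)
    (hc : c = 0 ∨ c = 1) (hconst : Const ρ)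
    (hbal : ∀ t u : G, Four t u → K t ⊓ C u ≤ K u) {n' : ℕ}
    (hdim : (finrank ℂ X : ℤ) = ((q ^ 2 - 1 : ℕ) : ℤ) + σ * (c + ε * q) + n')
    (t u : G) (Y : Subgroup G) (h4 : Four t u) (hY : Small t u Y)
    (hcov : Cov t (normalizer (Y : Set G))) :
    finrank ℂ X ≤ finrank ℂ (fixed ρ Y) + n' := by
  have hu : u ∈ C t := mem3_u.mem_C h4 mem3_t
  obtain ⟨π, hr, Hπ, hker, hπu⟩ := exists_pi H hk hD.chyp h4 hu
  obtain ⟨w, hG⟩ := exists_ghyp_of Hπ hD.chyp h4 hu hπu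
  obtain ⟨g, hs⟩ := exists_swap Hπ hD hG
  have hv := dval_rel hX H hr
  have htd := InstTypeD.typeD hD hG hs hker (hbal t u h4)
  have h4' : Four t (t * u) := h4.mulRight
  refine lb_of (Q := Q) hconst h4 (trans_of H hk hD.chyp t) (hbal t u h4) (hbal t (t * u) h4') π
    Hπ.surj hker (d := q ^ 2 - 1) (c := σ * (c + ε * q)) hdim ?_ hY hcov
  intro θ hθ hval N hN
  have h1 := InstTypeD.lbq hD hq hμ hG hs hv hσ hc htd hθ hval hN
  have h2 : ((q ^ 2 - 1 : ℕ) : ℤ) = (q : ℤ) ^ 2 - 1 := by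
    rw [Nat.cast_sub (Nat.one_le_pow _ _ (by omega))]
    push_cast
    ring
  rw [h2]
  exact h1

end Final

end Cfsg.Agent.Classification.QDW.FrameLB
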