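import Mathlib
import Cfsg.Prelude.Def_Characters
import Cfsg.Agent.Characters.Core
import Cfsg.Agent.Characters.Clifford
import Cfsg.Agent.Classification.QDW.FrobLift

/-!
# Characters over an invariant character: Frobenius groups of order `q h`

`B` has normal subgroups `K ≤ X` and a subgroup `T ≥ K` with `T / K` cyclic of order `h`, such that
`B / K` is a Frobenius group with kernel `X / K` of order `q` and complement `T / K`; `h ≥ 5` and
`q < (h - 1)²`. An irreducible character of `B` over a `B`-invariant irreducible character `θ` of `K`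
has degree `θ(1)` or at least `h θ(1)` (`frobH_degree`). (Variation of helper843's `FrobLift`, used
with `h = (q - 1) / 2`; for `q = 9`, `h = 4` the statement is false.)
-/

set_option autoImplicit false
set_option linter.unusedSectionVars false

namespace Cfsg.Agent.Classification.QDW.NearFrob

open Cfsg Cfsg.Agent.Characters
open Cfsg.Agent.Classification.QDW.FrobLift (le_norm sum_ite_mem isClassFunction_mul_conj
  norm_eq_sum_normSq)
open scoped ComplexConjugate

universe u

section Frobenius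

variable {B : Type u} [Group B]

/-- `B / K` is a Frobenius group with kernel `X / K` of order `q` and cyclic complement `T / K` of
order `n`. -/
structure FrobH (q n : ℕ) (K X T : Subgroup B) : Prop where
  normal : K.Normal
  normal_X : X.Normal
  K_le_X : K ≤ X
  K_le_T : K ≤ T
  inf : ∀ x ∈ X, x ∈ T → x ∈ K
  card_X : Nat.card X = q * Nat.card K
  card_T : Nat.card T = n * Nat.card K
  card_B : Nat.card B = q * n * Nat.card K
  tI : ∀ x ∈ X, ∀ g ∈ T, x * g * x⁻¹ ∈ T → x ∈ K ∨ g ∈ K
  cyc : ∀ (_ : (K.subgroupOf T).Normal), IsCyclic (T ⧸ K.subgroupOf T)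
  q_pos : 0 < q
  n_ge : 5 ≤ n
  lt : q < (n - 1) ^ 2

variable {q n : ℕ} {K X T : Subgroup B}

open scoped Classical in
/-- The number of elements `x` of `X` conjugating `b` into `T - K`. -/
noncomputable def cnt [Fintype B] (K X T : Subgroup B) (b : B) : ℕ :=
  (Finset.univ.filter fun x : B => x ∈ X ∧ x⁻¹ * b * x ∈ T ∧ x⁻¹ * b * x ∉ K).card

open scoped Classical in
theorem cnt_le [Fintype B] (h : FrobH q n K X T) (b : B) : cnt K X T b ≤ Nat.card K := by
  unfold cnt
  by_cases h0 : (Finset.univ.filter fun x : B => x ∈ X ∧ x⁻¹ * b * x ∈ T ∧ x⁻¹ * b * x ∉ K) = ∅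
  · rw [h0, Finset.card_empty]
    exact Nat.zero_le _
  obtain ⟨y, hy⟩ := Finset.nonempty_iff_ne_empty.2 h0
  rw [Finset.mem_filter] at hy
  obtain ⟨-, hyX, hyT, hyK⟩ := hy
  let _ : Fintype K := Fintype.ofFinite _
  have h1 : (Finset.univ.filter fun x : B => x ∈ X ∧ x⁻¹ * b * x ∈ T ∧ x⁻¹ * b * x ∉ K) ⊆
      (Finset.univ : Finset K).image (fun k : K => y * (k : B)) := by
    intro x hx
    rw [Finset.mem_filter] at hx
    obtain ⟨-, hxX, hxT, hxK⟩ := hx
    rw [Finset.mem_image]
    have h2 : y⁻¹ * x * (x⁻¹ * b * x) * (y⁻¹ * x)⁻¹ = y⁻¹ * b * y := by group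
    rcases h.tI (y⁻¹ * x) (X.mul_mem (X.inv_mem hyX) hxX) (x⁻¹ * b * x) hxT
      (by rw [h2]; exact hyT) with h3 | h3
    · exact ⟨⟨y⁻¹ * x, h3⟩, Finset.mem_univ _, by show y * (y⁻¹ * x) = x; group⟩
    · exact absurd h3 hxK
  refine (Finset.card_le_card h1).trans (Finset.card_image_le.trans ?_)
  rw [Finset.card_univ, Nat.card_eq_fintype_card]

open scoped Classical in
theorem cnt_of_mem [Fintype B] (h : FrobH q n K X T) {b : B} (hb : b ∈ X) : cnt K X T b = 0 := by
  unfold cnt
  rw [Finset.card_eq_zero, Finset.filter_eq_empty_iff]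
  rintro x - ⟨hxX, hxT, hxK⟩
  exact hxK (h.inf _ (X.mul_mem (X.mul_mem (X.inv_mem hxX) hb) hxX) hxT)

open scoped Classical in
/-- Counting with a class function. -/
theorem sum_cnt [Fintype B] [Fintype T] [Fintype K] (h : FrobH q n K X T) {f : B → ℂ}
    (hf : IsClassFunction B f) :
    ∑ b : B, (cnt K X T b : ℂ) * f b = Nat.card X * (∑ g : T, f g - ∑ k : K, f k) := by
  have h1 : ∀ b : B, (cnt K X T b : ℂ) * f b = ∑ x : B,
      if x ∈ X then (if x⁻¹ * b * x ∈ T ∧ x⁻¹ * b * x ∉ K then f (x⁻¹ * b * x) else 0) else 0 := by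
    intro b
    unfold cnt
    rw [Finset.card_filter]
    push_cast
    rw [Finset.sum_mul]
    refine Finset.sum_congr rfl fun x _ => ?_
    have h2 : f (x⁻¹ * b * x) = f b := by
      have := hf b x⁻¹
      rwa [inv_inv] at this
    by_cases hx : x ∈ X
    · by_cases hx2 : x⁻¹ * b * x ∈ T ∧ x⁻¹ * b * x ∉ K
      · rw [if_pos ⟨hx, hx2⟩, if_pos hx, if_pos hx2, one_mul, h2]
      · rw [if_neg (fun h3 => hx2 h3.2), if_pos hx, if_neg hx2, zero_mul]
    · rw [if_neg (fun h3 => hx h3.1), if_neg hx, zero_mul]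
  rw [Finset.sum_congr rfl fun b _ => h1 b, Finset.sum_comm]
  have h2 : ∀ x : B, ∑ b : B, (if x ∈ X then
      (if x⁻¹ * b * x ∈ T ∧ x⁻¹ * b * x ∉ K then f (x⁻¹ * b * x) else 0) else 0) =
      if x ∈ X then (∑ g : T, f g - ∑ k : K, f k) else 0 := by
    intro x
    by_cases hx : x ∈ X
    · simp only [if_pos hx]
      have h3 : ∑ b : B, (if x⁻¹ * b * x ∈ T ∧ x⁻¹ * b * x ∉ K then f (x⁻¹ * b * x) else 0) =
          ∑ b : B, (if b ∈ T ∧ b ∉ K then f b else 0) := by
        refine Fintype.sum_equiv (MulAut.conj x⁻¹).toEquiv _ _ fun b => ?_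
        have h4 : (MulAut.conj x⁻¹).toEquiv b = x⁻¹ * b * x := by
          show x⁻¹ * b * x⁻¹⁻¹ = _
          rw [inv_inv]
        rw [h4]
      rw [h3, ← sum_ite_mem T, ← sum_ite_mem K, ← Finset.sum_sub_distrib]
      refine Finset.sum_congr rfl fun b _ => ?_
      by_cases hbK : b ∈ K
      · rw [if_neg (fun h5 => h5.2 hbK), if_pos (h.K_le_T hbK), if_pos hbK, sub_self]
      · by_cases hbT : b ∈ T
        · rw [if_pos ⟨hbT, hbK⟩, if_pos hbT, if_neg hbK, sub_zero]
        · rw [if_neg (fun h5 => hbT h5.1), if_neg hbT, if_neg hbK, sub_zero]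
    · simp only [if_neg hx, Finset.sum_const_zero]
  rw [Finset.sum_congr rfl fun x _ => h2 x]
  let _ : Fintype X := Fintype.ofFinite _
  rw [← Finset.sum_filter, Finset.sum_const, nsmul_eq_mul]
  congr 2
  rw [Nat.card_eq_fintype_card, Fintype.card_subtype]

open scoped Classical in
theorem cnt_of_notMem [Fintype B] (h : FrobH q n K X T) {b : B} (hb : b ∉ X) :
    cnt K X T b = Nat.card K := by
  let _ : Fintype X := Fintype.ofFinite _
  let _ : Fintype T := Fintype.ofFinite _
  let _ : Fintype K := Fintype.ofFinite _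
  have hn := h.n_ge
  -- the total number
  have h1 : ∑ b : B, cnt K X T b = Nat.card X * (Nat.card T - Nat.card K) := by
    have h2 := sum_cnt h (f := fun _ => (1 : ℂ)) (fun _ _ => rfl)
    simp only [mul_one, Finset.sum_const, Finset.card_univ, nsmul_eq_mul] at h2
    have hle : Nat.card K ≤ Nat.card T := Nat.card_le_card_of_injective
      (Subgroup.inclusion h.K_le_T) (Subgroup.inclusion_injective _)
    have h3 : ((∑ b : B, cnt K X T b : ℕ) : ℂ) =
        ((Nat.card X * (Nat.card T - Nat.card K) : ℕ) : ℂ) := by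
      push_cast [Nat.cast_sub hle]
      rw [h2, Nat.card_eq_fintype_card (α := T), Nat.card_eq_fintype_card (α := K)]
    exact_mod_cast h3
  have hXB : (Finset.univ.filter fun b : B => b ∉ X).card = Nat.card B - Nat.card X := by
    have h3 := Finset.card_filter_add_card_filter_not (s := (Finset.univ : Finset B)) (fun b => b ∈ X)
    have h4 : (Finset.univ.filter fun b : B => b ∈ X).card = Nat.card X := by
      rw [Nat.card_eq_fintype_card, Fintype.card_subtype]
    rw [h4, Finset.card_univ, ← Nat.card_eq_fintype_card] at h3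
    omega
  have h2 : ∑ b ∈ Finset.univ.filter (fun b : B => b ∉ X), cnt K X T b =
      ∑ b ∈ Finset.univ.filter (fun b : B => b ∉ X), Nat.card K := by
    have h3 : ∑ b ∈ Finset.univ.filter (fun b : B => b ∉ X), cnt K X T b = ∑ b : B, cnt K X T b := by
      refine Finset.sum_subset (Finset.filter_subset _ _) fun b _ hb => ?_
      rw [Finset.mem_filter, not_and, not_not] at hb
      exact cnt_of_mem h (hb (Finset.mem_univ _))
    rw [h3, h1, Finset.sum_const, hXB, smul_eq_mul, h.card_X, h.card_T, h.card_B]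
    obtain ⟨r, rfl⟩ : ∃ r, n = r + 5 := ⟨n - 5, by omega⟩
    have e2 : (r + 5) * Nat.card K - Nat.card K = (r + 4) * Nat.card K := by
      have : (r + 5) * Nat.card K = (r + 4) * Nat.card K + Nat.card K := by ring
      omega
    have e3 : q * (r + 5) * Nat.card K - q * Nat.card K = q * (r + 4) * Nat.card K := by
      have : q * (r + 5) * Nat.card K = q * (r + 4) * Nat.card K + q * Nat.card K := by ring
      omega
    rw [e2, e3]
    ring
  have h3 := (Finset.sum_eq_sum_iff_of_le (fun b _ => cnt_le h b)).1 h2 b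
  exact h3 (Finset.mem_filter.2 ⟨Finset.mem_univ _, hb⟩)

open scoped Classical in
/-- The decomposition of a sum over `B`. -/
theorem sum_identity [Fintype B] [Fintype X] [Fintype T] [Fintype K] (h : FrobH q n K X T) {f : B → ℂ}
    (hf : IsClassFunction B f) :
    ∑ b : B, f b = ∑ x : X, f x + q * (∑ g : T, f g - ∑ k : K, f k) := by
  have hK0 : (Nat.card K : ℂ) ≠ 0 := Core.card_ne_zero_complex
  have h1 := sum_cnt h hf
  have h2 : ∑ b : B, (cnt K X T b : ℂ) * f b =
      Nat.card K * (∑ b : B, f b - ∑ x : X, f x) := by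
    rw [← sum_ite_mem X, ← Finset.sum_sub_distrib, Finset.mul_sum]
    refine Finset.sum_congr rfl fun b _ => ?_
    by_cases hb : b ∈ X
    · rw [cnt_of_mem h hb, if_pos hb, sub_self, mul_zero, Nat.cast_zero, zero_mul]
    · rw [cnt_of_notMem h hb, if_neg hb, sub_zero]
  rw [h2, h.card_X] at h1
  have h3 : (Nat.card K : ℂ) * (∑ b : B, f b - ∑ x : X, f x) =
      Nat.card K * (q * (∑ g : T, f g - ∑ k : K, f k)) := by
    rw [h1]
    push_cast
    ring
  have h4 := mul_left_cancel₀ hK0 h3
  linear_combination h4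

/-- The norm identity. -/
theorem norm_identity [Fintype B] [Fintype X] [Fintype T] [Fintype K] (h : FrobH q n K X T)
    {f g : B → ℂ} (hf : IsClassFunction B f) (hg : IsClassFunction B g) :
    (n : ℂ) * classInner f g = classInner (fun x : X => f x) (fun x : X => g x) +
      (n : ℂ) * classInner (fun x : T => f x) (fun x : T => g x) -
      classInner (fun x : K => f x) (fun x : K => g x) := by
  have h1 := sum_identity h (isClassFunction_mul_conj hf hg)
  have hK0 : (Nat.card K : ℂ) ≠ 0 := Core.card_ne_zero_complex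
  have hn := h.n_ge
  have hq0 : (q : ℂ) ≠ 0 := by
    have : q ≠ 0 := h.q_pos.ne'
    exact_mod_cast this
  have hn1 : (n : ℂ) ≠ 0 := by
    have : n ≠ 0 := by omega
    exact_mod_cast this
  simp only [Core.classInner_def]
  rw [h1, h.card_B, h.card_X, h.card_T]
  push_cast
  field_simp
  ring

end Frobenius

section Main

variable {B : Type u} [Group B] {q n : ℕ} {K X T : Subgroup B}

/-- The degrees of the irreducible characters over an invariant character of `K`. -/
theorem frobH_degree [Finite B] (h : FrobH q n K X T) {θ : K → ℂ} (hθ : IsIrrCharacter K θ)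
    (hinv : ∀ (g : B) (n : K), θ ⟨g * n * g⁻¹, h.normal.conj_mem n n.2 g⟩ = θ n)
    {η : B → ℂ} (hη : IsIrrCharacter B η) {d : ℕ} (hd : ∀ k : K, η k = d * θ k) :
    d = 1 ∨ n ≤ d := by
  classical
  let _ : Fintype B := Fintype.ofFinite _
  let _ : Fintype X := Fintype.ofFinite _
  let _ : Fintype T := Fintype.ofFinite _
  let _ : Fintype K := Fintype.ofFinite _
  have hn5 := h.n_ge
  have hKn := h.normal
  have hcl := Core.isIrr_isClassFunction hη
  -- the norm on `K`
  have hKnorm : classInner (fun x : K => η x) (fun x : K => η x) = (d : ℂ) ^ 2 := by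
    have h1 : (fun x : K => η x) = (d : ℂ) • θ := by
      funext k
      rw [hd k]
      simp
    rw [h1, Core.classInner_smul_left, Core.classInner_smul_right, Core.classInner_irr_self hθ,
      map_natCast]
    ring
  -- the norm on `T`
  have hKT : (K.subgroupOf T).Normal := inferInstance
  let e : K.subgroupOf T ≃* K := Subgroup.subgroupOfEquivOfLe h.K_le_T
  obtain ⟨S, hS, hdS⟩ := le_norm (K.subgroupOf T) (h.cyc hKT)
    (θ := fun k => θ (e k)) (Core.isIrr_comp e.toMonoidHom e.surjective hθ)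
    (fun g n => hinv (g : B) (e n))
    (Ψ := fun x : T => η x)
    (Core.isCharacter_comp T.subtype (Core.isIrr_isCharacter hη)) (d := d)
    (fun k => hd (e k))
  -- the norm on `X`
  obtain ⟨N, hN⟩ := Core.classInner_isNat
    (Core.isCharacter_comp X.subtype (Core.isIrr_isCharacter hη))
    (Core.isCharacter_comp X.subtype (Core.isIrr_isCharacter hη))
  have hNX : classInner (fun x : X => η x) (fun x : X => η x) = N := hN
  have hid := norm_identity h hcl hcl
  rw [Core.classInner_irr_self hη, hNX, hS, hKnorm] at hid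
  -- `N_X ≥ d² / q`
  have hNge : d ^ 2 ≤ q * N := by
    have h1 := norm_eq_sum_normSq (fun x : X => η x)
    have h2 := norm_eq_sum_normSq (fun x : K => η x)
    rw [hNX] at h1
    rw [hKnorm] at h2
    have h1' : (N : ℝ) = (Nat.card X : ℝ)⁻¹ * ∑ x : X, ‖η x‖ ^ 2 := by exact_mod_cast h1
    have h2' : (d : ℝ) ^ 2 = (Nat.card K : ℝ)⁻¹ * ∑ x : K, ‖η x‖ ^ 2 := by exact_mod_cast h2
    have h3 : ∑ x : K, ‖η x‖ ^ 2 ≤ ∑ x : X, ‖η x‖ ^ 2 := by
      have h4 : ∑ x : K, ‖η x‖ ^ 2 =
          ∑ x ∈ Finset.univ.map ⟨Subgroup.inclusion h.K_le_X,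
            Subgroup.inclusion_injective h.K_le_X⟩, ‖η (x : X)‖ ^ 2 := by
        rw [Finset.sum_map]
        rfl
      rw [h4]
      exact Finset.sum_le_sum_of_subset_of_nonneg (Finset.subset_univ _)
        fun _ _ _ => by positivity
    have hK0 : (0 : ℝ) < Nat.card K := by exact_mod_cast Nat.card_pos
    have hX0 : (Nat.card X : ℝ) = q * Nat.card K := by rw [h.card_X]; push_cast; rfl
    have hq0 : (0 : ℝ) < q := by exact_mod_cast h.q_pos
    have h5 : (d : ℝ) ^ 2 ≤ q * N := by
      rw [h2', h1', hX0]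
      have h6 : (q : ℝ) * ((q * Nat.card K : ℝ)⁻¹ * ∑ x : X, ‖η x‖ ^ 2) =
          (Nat.card K : ℝ)⁻¹ * ∑ x : X, ‖η x‖ ^ 2 := by
        field_simp
      rw [h6]
      exact mul_le_mul_of_nonneg_left h3 (by positivity)
    exact_mod_cast h5
  -- positivity of the sum over `T - K`
  have hTK : ((Nat.card K : ℝ)) * ((n : ℝ) * S - d ^ 2) =
      ∑ x : T, (if (x : B) ∈ K then 0 else ‖η x‖ ^ 2) := by
    have h1 := norm_eq_sum_normSq (fun x : T => η x)
    have h2 := norm_eq_sum_normSq (fun x : K => η x)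
    rw [hS] at h1
    rw [hKnorm] at h2
    have h1' : (S : ℝ) = (Nat.card T : ℝ)⁻¹ * ∑ x : T, ‖η x‖ ^ 2 := by exact_mod_cast h1
    have h2' : (d : ℝ) ^ 2 = (Nat.card K : ℝ)⁻¹ * ∑ x : K, ‖η x‖ ^ 2 := by exact_mod_cast h2
    have hK0 : (0 : ℝ) < Nat.card K := by exact_mod_cast Nat.card_pos
    have hq1 : (0 : ℝ) < (n : ℝ) := by
      have : (5 : ℝ) ≤ n := by exact_mod_cast hn5
      linarith
    have hT0 : (Nat.card T : ℝ) = (n : ℝ) * Nat.card K := by rw [h.card_T]; push_cast; rfl
    have h3 : ∑ x : T, ‖η x‖ ^ 2 = (n : ℝ) * Nat.card K * S := by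
      rw [h1', hT0]
      field_simp
    have h4 : ∑ x : K, ‖η x‖ ^ 2 = Nat.card K * (d : ℝ) ^ 2 := by
      rw [h2']
      field_simp
    have h5 : ∑ x : K, ‖η x‖ ^ 2 = ∑ x : T, (if (x : B) ∈ K then ‖η x‖ ^ 2 else 0) := by
      rw [← Finset.sum_filter]
      have h6 : (Finset.univ.filter fun x : T => (x : B) ∈ K) =
          Finset.univ.map ⟨Subgroup.inclusion h.K_le_T,
            Subgroup.inclusion_injective h.K_le_T⟩ := by
        ext x
        rw [Finset.mem_filter, Finset.mem_map]
        constructor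
        · rintro ⟨-, hx⟩
          exact ⟨⟨x, hx⟩, Finset.mem_univ _, rfl⟩
        · rintro ⟨k, -, rfl⟩
          exact ⟨Finset.mem_univ _, k.2⟩
      rw [h6, Finset.sum_map]
      rfl
    have h7 : ∑ x : T, (if (x : B) ∈ K then 0 else ‖η x‖ ^ 2) =
        ∑ x : T, ‖η x‖ ^ 2 - ∑ x : K, ‖η x‖ ^ 2 := by
      rw [h5, ← Finset.sum_sub_distrib]
      refine Finset.sum_congr rfl fun x _ => ?_
      split_ifs <;> ring
    rw [h7, h3, h4]
    ring
  have hTKnn : (0 : ℝ) ≤ ∑ x : T, (if (x : B) ∈ K then 0 else ‖η x‖ ^ 2) :=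
    Finset.sum_nonneg fun x _ => by split_ifs <;> positivity
  have hSge : (d : ℝ) ^ 2 ≤ (n : ℝ) * S := by
    have hK0 : (0 : ℝ) < Nat.card K := by exact_mod_cast Nat.card_pos
    rw [← hTK] at hTKnn
    have := nonneg_of_mul_nonneg_right hTKnn hK0
    linarith
  -- integers
  have hidZ : (n : ℤ) = N + (n : ℤ) * S - d ^ 2 := by
    have : (((n : ℤ) : ℤ) : ℂ) = ((N + (n : ℤ) * S - d ^ 2 : ℤ) : ℂ) := by
      push_cast
      linear_combination hid
    exact_mod_cast this
  have hdS' : (d : ℤ) ≤ S := by exact_mod_cast hdS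
  have hNge' : (d : ℤ) ^ 2 ≤ q * N := by exact_mod_cast hNge
  have hn' : (5 : ℤ) ≤ n := by exact_mod_cast hn5
  have hd0 : (1 : ℤ) ≤ d := by
    have h1 : η 1 = d * θ 1 := hd 1
    rcases Nat.eq_zero_or_pos d with h2 | h2
    · exfalso
      rw [h2, Nat.cast_zero, zero_mul] at h1
      exact Core.isIrr_apply_one_ne_zero hη h1
    · exact_mod_cast h2
  by_cases hd1 : d = 1
  · exact Or.inl hd1
  right
  by_contra hcon
  push Not at hcon
  have hd2 : (2 : ℤ) ≤ d := by
    have : 2 ≤ d := by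
      have : 1 ≤ d := by exact_mod_cast hd0
      omega
    exact_mod_cast this
  have hlt : (d : ℤ) ≤ n - 1 := by
    have : (d : ℤ) < n := by exact_mod_cast hcon
    linarith
  have hNnn : (0 : ℤ) ≤ N := by positivity
  have hNeq : (N : ℤ) = n + d ^ 2 - n * S := by linarith
  have hNle : (N : ℤ) ≤ n + d ^ 2 - n * d := by
    rw [hNeq]
    nlinarith
  rcases eq_or_lt_of_le hlt with h1 | h1
  · -- `d = n - 1`
    have hN1 : (N : ℤ) ≤ 1 := by
      rw [h1] at hNle
      nlinarith
    have hlt2 : (q : ℤ) < (n - 1) ^ 2 := by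
      have h2 := h.lt
      have h3 : ((n - 1 : ℕ) : ℤ) = (n : ℤ) - 1 := by
        rw [Nat.cast_sub (by omega), Nat.cast_one]
      have h4 : (q : ℤ) < (((n - 1) ^ 2 : ℕ) : ℤ) := by exact_mod_cast h2
      rwa [Nat.cast_pow, h3] at h4
    have hq0 : (0 : ℤ) ≤ q := by positivity
    rw [h1] at hNge'
    nlinarith
  · have h2 : (d : ℤ) ≤ n - 2 := by linarith
    nlinarith [mul_nonneg (by linarith : (0 : ℤ) ≤ (d : ℤ) - 2)
      (by linarith : (0 : ℤ) ≤ (n : ℤ) - 2 - d)]

end Main

end Cfsg.Agent.Classification.QDW.NearFrob
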