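import Mathlib
import Cfsg.Agent.ClassificationK.SLTwoAction
import Cfsg.Agent.Classification.QDW.NearFrob
import Cfsg.Agent.Classification.QDW.NearBig

/-!
# The Borel subgroup of an extension of `SL(2, F)` by a group of odd order

`exists_bigN`: if `φ : L → SL(2, F)` is onto with kernel `K` of odd order, `|F| ≥ 13`,
`|F| ≡ 1 mod 4`, and `t` is a central involution with `φ t = -1`, then the preimage of the group
of upper triangular matrices satisfies `NearBig.BigN`.
-/

set_option autoImplicit false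

namespace Cfsg.Agent.Classification.QDW.NearInst

open Matrix

section SL

variable {F : Type*} [Field F]

/-- The matrices `[[a, b], [0, a⁻¹]]`. -/
def ma (a : Fˣ) (b : F) : SpecialLinearGroup (Fin 2) F :=
  ⟨!![(a : F), b; 0, ((a⁻¹ : Fˣ) : F)], by simp [Matrix.det_fin_two]⟩

theorem ma_coe (a : Fˣ) (b : F) : (ma a b).1 = !![(a : F), b; 0, ((a⁻¹ : Fˣ) : F)] := rfl

theorem ma_zero_zero (a : Fˣ) (b : F) : (ma a b).1 0 0 = a := rfl
theorem ma_zero_one (a : Fˣ) (b : F) : (ma a b).1 0 1 = b := rfl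
theorem ma_one_zero (a : Fˣ) (b : F) : (ma a b).1 1 0 = 0 := rfl

theorem ma_inj {a a' : Fˣ} {b b' : F} (h : ma a b = ma a' b') : a = a' ∧ b = b' := by
  constructor
  · apply Units.ext
    rw [← ma_zero_zero a b, h, ma_zero_zero]
  · rw [← ma_zero_one a b, h, ma_zero_one]

theorem ma_mul (a c : Fˣ) (b d : F) :
    ma a b * ma c d = ma (a * c) (a * d + b * ((c⁻¹ : Fˣ) : F)) := by
  apply Subtype.ext
  show (ma a b).1 * (ma c d).1 = (ma (a * c) (a * d + b * ((c⁻¹ : Fˣ) : F))).1
  rw [ma_coe, ma_coe, ma_coe]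
  ext i j
  fin_cases i <;> fin_cases j <;> simp [Matrix.mul_apply, Fin.sum_univ_two, mul_comm]

theorem ma_one : ma (1 : Fˣ) (0 : F) = 1 := by
  apply Subtype.ext
  rw [ma_coe]
  ext i j
  fin_cases i <;> fin_cases j <;> simp

theorem ma_neg_one : ma (-1 : Fˣ) (0 : F) = -1 := by
  apply Subtype.ext
  rw [ma_coe]
  ext i j
  fin_cases i <;> fin_cases j <;> simp

theorem ma_inv (a : Fˣ) (b : F) : (ma a b)⁻¹ = ma a⁻¹ (-b) := by
  rw [inv_eq_iff_mul_eq_one, ma_mul, ← ma_one]
  congr 1
  · rw [mul_inv_cancel]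
  · rw [inv_inv]
    ring

theorem exists_ma {g : SpecialLinearGroup (Fin 2) F} (h : g.1 1 0 = 0) :
    ∃ (a : Fˣ) (b : F), g = ma a b := by
  have hdet := g.2
  rw [Matrix.det_fin_two, h, mul_zero, sub_zero] at hdet
  have ha : g.1 0 0 ≠ 0 := by
    intro h0
    rw [h0, zero_mul] at hdet
    exact zero_ne_one hdet
  refine ⟨Units.mk0 (g.1 0 0) ha, g.1 0 1, ?_⟩
  apply Subtype.ext
  rw [ma_coe]
  ext i j
  fin_cases i <;> fin_cases j
  · rfl
  · rfl
  · exact h
  · show g.1 1 1 = _
    simp only [Units.val_inv_eq_inv_val, Units.val_mk0]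
    show g.1 1 1 = (g.1 0 0)⁻¹
    exact (eq_inv_of_mul_eq_one_right hdet)

/-- The upper triangular matrices. -/
def Bor (F : Type*) [Field F] : Subgroup (SpecialLinearGroup (Fin 2) F) where
  carrier := {g | ∃ a b, g = ma a b}
  one_mem' := ⟨1, 0, ma_one.symm⟩
  mul_mem' := by
    rintro _ _ ⟨a, b, rfl⟩ ⟨c, d, rfl⟩
    exact ⟨_, _, ma_mul a c b d⟩
  inv_mem' := by
    rintro _ ⟨a, b, rfl⟩
    exact ⟨_, _, ma_inv a b⟩

/-- The diagonal matrices. -/
def Dg (F : Type*) [Field F] : Subgroup (SpecialLinearGroup (Fin 2) F) where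
  carrier := {g | ∃ a, g = ma a 0}
  one_mem' := ⟨1, ma_one.symm⟩
  mul_mem' := by
    rintro _ _ ⟨a, rfl⟩ ⟨c, rfl⟩
    exact ⟨a * c, by rw [ma_mul, mul_zero, zero_mul, add_zero]⟩
  inv_mem' := by
    rintro _ ⟨a, rfl⟩
    exact ⟨a⁻¹, by rw [ma_inv, neg_zero]⟩

/-- The group `±U`. -/
def Ux (F : Type*) [Field F] : Subgroup (SpecialLinearGroup (Fin 2) F) where
  carrier := {g | ∃ a b, a * a = 1 ∧ g = ma a b}
  one_mem' := ⟨1, 0, one_mul 1, ma_one.symm⟩
  mul_mem' := by
    rintro _ _ ⟨a, b, ha, rfl⟩ ⟨c, d, hc, rfl⟩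
    refine ⟨a * c, _, ?_, ma_mul a c b d⟩
    rw [mul_mul_mul_comm, ha, hc, one_mul]
  inv_mem' := by
    rintro _ ⟨a, b, ha, rfl⟩
    refine ⟨a⁻¹, _, ?_, ma_inv a b⟩
    rw [← mul_inv, ha, inv_one]

/-- The group `±1`. -/
def Zs (F : Type*) [Field F] : Subgroup (SpecialLinearGroup (Fin 2) F) where
  carrier := {g | ∃ a : Fˣ, a * a = 1 ∧ g = ma a 0}
  one_mem' := ⟨1, one_mul 1, ma_one.symm⟩
  mul_mem' := by
    rintro _ _ ⟨a, ha, rfl⟩ ⟨c, hc, rfl⟩
    refine ⟨a * c, ?_, by rw [ma_mul, mul_zero, zero_mul, add_zero]⟩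
    rw [mul_mul_mul_comm, ha, hc, one_mul]
  inv_mem' := by
    rintro _ ⟨a, ha, rfl⟩
    refine ⟨a⁻¹, ?_, by rw [ma_inv, neg_zero]⟩
    rw [← mul_inv, ha, inv_one]

theorem sq_one {a : Fˣ} (h : a * a = 1) : a = 1 ∨ a = -1 := by
  have h1 : (a : F) * a = 1 := by
    have := congrArg Units.val h
    simpa using this
  rcases mul_self_eq_one_iff.1 h1 with h2 | h2
  · left
    exact Units.ext h2
  · right
    exact Units.ext h2

theorem mem_Zs {g : SpecialLinearGroup (Fin 2) F} : g ∈ Zs F ↔ g = 1 ∨ g = -1 := by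
  constructor
  · rintro ⟨a, ha, rfl⟩
    rcases sq_one ha with rfl | rfl
    · left; exact ma_one
    · right; exact ma_neg_one
  · rintro (rfl | rfl)
    · exact (Zs F).one_mem
    · exact ⟨-1, by rw [neg_mul_neg, one_mul], ma_neg_one.symm⟩

variable [Fintype F]

theorem card_Bor : Nat.card (Bor F) = Fintype.card F * (Fintype.card F - 1) := by
  have h1 : Function.Bijective (fun p : Fˣ × F => (⟨ma p.1 p.2, p.1, p.2, rfl⟩ : Bor F)) := by
    constructor
    · rintro ⟨a, b⟩ ⟨c, d⟩ h
      obtain ⟨h2, h3⟩ := ma_inj (congrArg Subtype.val h)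
      exact Prod.ext h2 h3
    · rintro ⟨_, a, b, rfl⟩
      exact ⟨(a, b), rfl⟩
  classical
  rw [← Nat.card_congr (Equiv.ofBijective _ h1), Nat.card_prod, Nat.card_eq_fintype_card,
    Nat.card_eq_fintype_card, Fintype.card_units, mul_comm]

theorem card_Dg : Nat.card (Dg F) = Fintype.card F - 1 := by
  have h1 : Function.Bijective (fun a : Fˣ => (⟨ma a 0, a, rfl⟩ : Dg F)) := by
    constructor
    · intro a c h
      exact (ma_inj (congrArg Subtype.val h)).1
    · rintro ⟨_, a, rfl⟩
      exact ⟨a, rfl⟩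
  classical
  rw [← Nat.card_congr (Equiv.ofBijective _ h1), Nat.card_eq_fintype_card, Fintype.card_units]

omit [Fintype F] in
theorem card_sq_one (h2 : (2 : F) ≠ 0) : Nat.card {a : Fˣ // a * a = 1} = 2 := by
  rw [Nat.card_eq_two_iff]
  refine ⟨⟨1, one_mul 1⟩, ⟨-1, by rw [neg_mul_neg, one_mul]⟩, ?_, ?_⟩
  · intro h
    have h3 := congrArg (fun x : {a : Fˣ // a * a = 1} => ((x : Fˣ) : F)) h
    simp only [Units.val_one, Units.val_neg] at h3
    apply h2
    linear_combination h3
  · ext ⟨a, ha⟩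
    simp only [Set.mem_insert_iff, Set.mem_singleton_iff, Set.mem_univ, iff_true, Subtype.ext_iff]
    exact sq_one ha

omit [Fintype F] in
theorem card_Zs (h2 : (2 : F) ≠ 0) : Nat.card (Zs F) = 2 := by
  have h1 : Function.Bijective
      (fun a : {a : Fˣ // a * a = 1} => (⟨ma a.1 0, a.1, a.2, rfl⟩ : Zs F)) := by
    constructor
    · intro a c h
      exact Subtype.ext (ma_inj (congrArg Subtype.val h)).1
    · rintro ⟨_, a, ha, rfl⟩
      exact ⟨⟨a, ha⟩, rfl⟩
  rw [← Nat.card_congr (Equiv.ofBijective _ h1), card_sq_one h2]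

theorem card_Ux (h2 : (2 : F) ≠ 0) : Nat.card (Ux F) = 2 * Fintype.card F := by
  have h1 : Function.Bijective
      (fun p : {a : Fˣ // a * a = 1} × F => (⟨ma p.1.1 p.2, p.1.1, p.2, p.1.2, rfl⟩ : Ux F)) := by
    constructor
    · rintro ⟨a, b⟩ ⟨c, d⟩ h
      obtain ⟨h3, h4⟩ := ma_inj (congrArg Subtype.val h)
      exact Prod.ext (Subtype.ext h3) h4
    · rintro ⟨_, a, b, ha, rfl⟩
      exact ⟨(⟨a, ha⟩, b), rfl⟩
  rw [← Nat.card_congr (Equiv.ofBijective _ h1), Nat.card_prod, card_sq_one h2,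
    Nat.card_eq_fintype_card]

end SL

universe u

theorem card_comap {G : Type*} {H : Type*} [Group G] [Group H] [Finite G] (π : G →* H)
    (hπ : Function.Surjective π) (S : Subgroup H) :
    Nat.card (S.comap π) = Nat.card S * Nat.card π.ker := by
  have hle : π.ker ≤ S.comap π := by
    intro y hy
    rw [Subgroup.mem_comap, MonoidHom.mem_ker.mp hy]
    exact one_mem _
  have h1 := (π.ker.subgroupOf (S.comap π)).index_mul_card
  rw [Nat.card_congr (Subgroup.subgroupOfEquivOfLe hle).toEquiv] at h1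
  have h2 : (π.ker.subgroupOf (S.comap π)).index = π.ker.relIndex (S.comap π) := rfl
  rw [h2, Subgroup.relIndex_ker, Subgroup.map_comap_eq_self_of_surjective hπ] at h1
  exact h1.symm

/-- **The Borel subgroup.** -/
theorem exists_bigN {F : Type*} [Field F] [Fintype F] (hq4 : Fintype.card F % 4 = 1)
    (h13 : 13 ≤ Fintype.card F) {L : Type u} [Group L] [Finite L] (K : Subgroup L) [K.Normal]
    (hodd : Odd (Nat.card K)) (φ : L →* SpecialLinearGroup (Fin 2) F)
    (hφ : Function.Surjective φ) (hker : φ.ker = K) (t : L) (htt : t * t = 1) (t_ne : t ≠ 1)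
    (htc : ∀ x, Commute t x) (hφt : φ t = -1) :
    ∃ (B : Subgroup L) (K₁ X T : Subgroup B),
      NearBig.BigN (Fintype.card F) ((Fintype.card F - 1) / 2) K B K₁ X T t := by
  classical
  have h2 : (2 : F) ≠ 0 := by
    intro h
    have h3 : (Fintype.card F : F) = 0 := FiniteField.cast_card_eq_zero F
    have h4 : Fintype.card F = 2 * (Fintype.card F / 2) + 1 := by omega
    rw [h4] at h3
    push_cast at h3
    rw [h, zero_mul, zero_add] at h3
    exact one_ne_zero h3
  have hKφ : ∀ k, k ∈ K ↔ φ k = 1 := fun k => by rw [← hker, MonoidHom.mem_ker]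
  set B : Subgroup L := (Bor F).comap φ with hB
  have hZB : Zs F ≤ Bor F := by
    rintro _ ⟨a, ha, rfl⟩
    exact ⟨a, 0, rfl⟩
  have hUB : Ux F ≤ Bor F := by
    rintro _ ⟨a, b, ha, rfl⟩
    exact ⟨a, b, rfl⟩
  have hDB : Dg F ≤ Bor F := by
    rintro _ ⟨a, rfl⟩
    exact ⟨a, 0, rfl⟩
  have hcard : ∀ S : Subgroup (SpecialLinearGroup (Fin 2) F), S ≤ Bor F →
      Nat.card ((S.comap φ).subgroupOf B) = Nat.card S * Nat.card K := by
    intro S hS
    rw [Nat.card_congr (Subgroup.subgroupOfEquivOfLe (Subgroup.comap_mono hS)).toEquiv,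
      card_comap φ hφ, hker]
  refine ⟨B, ((Zs F).comap φ).subgroupOf B, ((Ux F).comap φ).subgroupOf B,
    ((Dg F).comap φ).subgroupOf B, ?_⟩
  have mZ : ∀ b : B, b ∈ ((Zs F).comap φ).subgroupOf B ↔ φ b ∈ Zs F := fun b => Iff.rfl
  have mU : ∀ b : B, b ∈ ((Ux F).comap φ).subgroupOf B ↔ φ b ∈ Ux F := fun b => Iff.rfl
  have mD : ∀ b : B, b ∈ ((Dg F).comap φ).subgroupOf B ↔ φ b ∈ Dg F := fun b => Iff.rfl
  have hB' : ∀ b : B, ∃ a c, φ b = ma a c := fun b => b.2
  refine
    { normal := inferInstance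
      oddK := hodd
      tt := htt
      t_ne := t_ne
      t_comm := htc
      KB := ?_
      tB := ?_
      mem := ?_
      frob := ?_
      gen := ?_ }
  · intro k hk
    show φ k ∈ Bor F
    rw [(hKφ k).1 hk]
    exact one_mem _
  · show φ t ∈ Bor F
    rw [hφt]
    exact hZB (mem_Zs.2 (Or.inr rfl))
  · intro b
    rw [mZ, mem_Zs, hKφ, hKφ, map_mul, hφt]
    refine or_congr Iff.rfl ?_
    constructor
    · intro h
      rw [h, neg_mul_neg, one_mul]
    · intro h
      rw [neg_mul, one_mul] at h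
      rw [← h, neg_neg]
  · -- the Frobenius group
    have hn : 2 * ((Fintype.card F - 1) / 2) = Fintype.card F - 1 := by omega
    refine
      { normal := ?_
        normal_X := ?_
        K_le_X := ?_
        K_le_T := ?_
        inf := ?_
        card_X := ?_
        card_T := ?_
        card_B := ?_
        tI := ?_
        cyc := ?_
        q_pos := by omega
        n_ge := by omega
        lt := ?_ }
    · constructor
      intro x hx g
      rw [mZ, mem_Zs] at hx ⊢
      rw [Subgroup.coe_mul, Subgroup.coe_mul, Subgroup.coe_inv, map_mul, map_mul, map_inv]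
      rcases hx with h | h <;> rw [h]
      · left
        rw [mul_one, mul_inv_cancel]
      · right
        rw [mul_neg, mul_one, neg_mul, mul_inv_cancel]
    · constructor
      intro x hx g
      rw [mU] at hx ⊢
      obtain ⟨a, b, ha, hx⟩ := hx
      obtain ⟨c, d, hg⟩ := hB' g
      rw [Subgroup.coe_mul, Subgroup.coe_mul, Subgroup.coe_inv, map_mul, map_mul, map_inv, hx, hg,
        ma_mul, ma_inv, ma_mul]
      refine ⟨_, _, ?_, rfl⟩
      rw [mul_inv_cancel_comm, ha]
    · intro x hx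
      rw [mU]
      rw [mZ] at hx
      obtain ⟨a, ha, hx⟩ := hx
      exact ⟨a, 0, ha, hx⟩
    · intro x hx
      rw [mD]
      rw [mZ] at hx
      obtain ⟨a, ha, hx⟩ := hx
      exact ⟨a, hx⟩
    · intro x hx hx'
      rw [mU] at hx
      rw [mD] at hx'
      rw [mZ]
      obtain ⟨a, b, ha, hx⟩ := hx
      obtain ⟨c, hx'⟩ := hx'
      rw [hx] at hx'
      obtain ⟨-, hb⟩ := ma_inj hx'
      exact ⟨a, ha, by rw [hx, hb]⟩
    · rw [hcard _ hUB, hcard _ hZB, card_Ux h2, card_Zs h2]
      ring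
    · rw [hcard _ hDB, hcard _ hZB, card_Dg, card_Zs h2]
      calc (Fintype.card F - 1) * Nat.card K = 2 * ((Fintype.card F - 1) / 2) * Nat.card K := by
            rw [hn]
        _ = _ := by ring
    · rw [hcard _ hZB, card_Zs h2, hB, card_comap φ hφ, card_Bor, hker]
      calc Fintype.card F * (Fintype.card F - 1) * Nat.card K =
          Fintype.card F * (2 * ((Fintype.card F - 1) / 2)) * Nat.card K := by rw [hn]
        _ = _ := by ring
    · intro x hx g hg hxg
      rw [mU] at hx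
      rw [mD] at hg hxg
      rw [mZ, mZ]
      obtain ⟨a, b, ha, hx⟩ := hx
      obtain ⟨c, hg⟩ := hg
      obtain ⟨d, hxg⟩ := hxg
      rw [Subgroup.coe_mul, Subgroup.coe_mul, Subgroup.coe_inv, map_mul, map_mul, map_inv, hx, hg,
        ma_mul, ma_inv, ma_mul] at hxg
      obtain ⟨-, h0⟩ := ma_inj hxg
      rw [mul_zero, zero_add, inv_inv] at h0
      have h1 : b * (a : F) * (((c⁻¹ : Fˣ) : F) - c) = 0 := by
        rw [← h0]
        push_cast
        ring
      rcases mul_eq_zero.1 h1 with h3 | h3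
      · rcases mul_eq_zero.1 h3 with h4 | h4
        · left
          exact ⟨a, ha, by rw [hx, h4]⟩
        · exact absurd h4 a.ne_zero
      · right
        refine ⟨c, ?_, hg⟩
        have h4 : c⁻¹ = c := Units.ext (by linear_combination h3)
        rw [← mul_inv_cancel c, h4]
    · intro hN
      -- the embedding in the units
      have hD : ∀ x : ((Dg F).comap φ).subgroupOf B, ∃ a : Fˣ, φ ((x : B) : L) = ma a 0 :=
        fun x => x.2
      choose g hg using hD
      let f : ((Dg F).comap φ).subgroupOf B →* Fˣ :=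
        { toFun := fun x => g x ^ 2
          map_one' := by
            have h1 := hg 1
            have h3 : φ (((1 : ((Dg F).comap φ).subgroupOf B) : B) : L) = 1 := map_one φ
            rw [h3, ← ma_one] at h1
            rw [← (ma_inj h1).1, one_pow]
          map_mul' := by
            intro x y
            have h3 : φ (((x * y : ((Dg F).comap φ).subgroupOf B) : B) : L) =
                φ ((x : B) : L) * φ ((y : B) : L) := map_mul φ _ _
            have hxy := hg (x * y)
            rw [h3, hg x, hg y, ma_mul, mul_zero, zero_mul, add_zero] at hxy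
            rw [← (ma_inj hxy).1, mul_pow] }
      have hf : f.ker = (((Zs F).comap φ).subgroupOf B).subgroupOf
          (((Dg F).comap φ).subgroupOf B) := by
        ext x
        rw [MonoidHom.mem_ker, Subgroup.mem_subgroupOf, mZ]
        show g x ^ 2 = 1 ↔ _
        constructor
        · intro h
          exact ⟨g x, by rw [← sq]; exact h, hg x⟩
        · rintro ⟨a, ha, h⟩
          rw [hg x] at h
          rw [(ma_inj h).1, sq, ha]
      have h1 : IsCyclic (((((Dg F).comap φ).subgroupOf B)) ⧸ f.ker) :=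
        isCyclic_of_injective (QuotientGroup.kerLift f) (QuotientGroup.kerLift_injective f)
      have e' := QuotientGroup.quotientMulEquivOfEq hf
      exact isCyclic_of_surjective e'.toMonoidHom e'.surjective
    · obtain ⟨n, hn'⟩ : ∃ n, Fintype.card F = 2 * n + 1 := ⟨Fintype.card F / 2, by omega⟩
      rw [hn'] at h13 ⊢
      have h5 : (2 * n + 1 - 1) / 2 = n := by omega
      rw [h5]
      obtain ⟨m, rfl⟩ : ∃ m, n = m + 6 := ⟨n - 6, by omega⟩
      have h6 : m + 6 - 1 = m + 5 := by omega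
      rw [h6]
      nlinarith
  · -- generation
    intro N hN hX
    have hS : (N.map φ).Normal := hN.map φ hφ
    have hU : ∀ c : F, ClassificationK.SLTwoAction.U c ∈ N.map φ := by
      intro c
      obtain ⟨x, hx⟩ := hφ (ClassificationK.SLTwoAction.U c)
      have h1 : ClassificationK.SLTwoAction.U c = ma 1 c := by
        apply Subtype.ext
        rw [ma_coe]
        show !![1, c; 0, 1] = _
        simp
      have h3 : φ x ∈ Ux F := by
        rw [hx, h1]
        exact ⟨1, c, one_mul 1, rfl⟩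
      have h4 := hX ⟨x, hUB h3⟩ h3
      exact ⟨x, h4, hx⟩
    have hLo : ∀ c : F, ClassificationK.SLTwoAction.L c ∈ N.map φ := by
      intro c
      let w : SpecialLinearGroup (Fin 2) F := ⟨!![0, -1; 1, 0], by simp [Matrix.det_fin_two]⟩
      have h1 := hS.conj_mem _ (hU (-c)) w
      have h3 : w * ClassificationK.SLTwoAction.U (-c) * w⁻¹ =
          ClassificationK.SLTwoAction.L c := by
        rw [mul_inv_eq_iff_eq_mul]
        apply Subtype.ext
        show !![0, -1; 1, 0] * !![1, -c; 0, 1] = !![1, 0; c, 1] * !![0, -1; 1, 0]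
        ext i j
        fin_cases i <;> fin_cases j <;> simp [Matrix.mul_apply, Fin.sum_univ_two]
      rwa [h3] at h1
    rw [eq_top_iff]
    intro y _
    obtain ⟨n, hn, hny⟩ := ClassificationK.SLTwoAction.mem_of_elem (N.map φ) hU hLo (φ y)
    have h1 : n⁻¹ * y ∈ K := by
      rw [hKφ, map_mul, map_inv, hny, inv_mul_cancel]
    have h3 : n⁻¹ * y ∈ N := by
      have h4 : φ (n⁻¹ * y) ∈ Ux F := by
        rw [(hKφ _).1 h1]
        exact one_mem _
      exact hX ⟨n⁻¹ * y, hUB h4⟩ h4
    have h4 := N.mul_mem hn h3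
    rwa [mul_inv_cancel_left] at h4

end Cfsg.Agent.Classification.QDW.NearInst
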