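import Mathlib
import Cfsg.Agent.Lib.PSL2Mult
import Cfsg.Agent.TwoFusion.SLTwoFacts

/-!
# Central extensions of `SL(2, q)` with odd kernel split

`exists_section`: `K ≤ Z(L)` of odd order, `L / K ≅ SL(2, F)`, `|F|` odd, `|F| > 3`, `|F| ≠ 9`:
`L = K × [L, L]`.
-/

set_option autoImplicit false

namespace Cfsg.Agent.Classification.QDW.NearSplit

open Subgroup
open scoped commutatorElement

universe u

section General

variable {L : Type*} [Group L] {H : Type*} [Group H] {φ : L →* H}

/-- `[L, L]` maps onto a perfect group. -/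
theorem exists_mem_commutator (hφ : Function.Surjective φ) (hH : commutator H = ⊤) (h : H) :
    ∃ m ∈ commutator L, φ m = h := by
  have h1 : (commutator L).map φ = ⊤ := by
    rw [eq_top_iff, ← hH, commutator_def, commutator_def, map_commutator]
    exact commutator_mono (by rw [← MonoidHom.range_eq_map, MonoidHom.range_eq_top.2 hφ])
      (by rw [← MonoidHom.range_eq_map, MonoidHom.range_eq_top.2 hφ])
  have h2 : h ∈ (commutator L).map φ := by rw [h1]; exact mem_top h
  obtain ⟨m, hm, he⟩ := h2
  exact ⟨m, hm, he⟩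

/-- The derived group of a central extension of a perfect group is perfect. -/
theorem commutator_eq_top (hφ : Function.Surjective φ) (hH : commutator H = ⊤)
    (hK : φ.ker ≤ center L) : commutator (commutator L) = ⊤ := by
  have h1 : ⁅(⊤ : Subgroup L), (⊤ : Subgroup L)⁆ ≤ ⁅commutator L, commutator L⁆ := by
    rw [commutator_le]
    intro x _ y _
    obtain ⟨m, hm, hmx⟩ := exists_mem_commutator hφ hH (φ x)
    obtain ⟨n, hn, hny⟩ := exists_mem_commutator hφ hH (φ y)
    rw [Lib.PSL2Mult.comm_eq hK hmx.symm hny.symm]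
    exact commutator_mem_commutator hm hn
  have h2 : (commutator (commutator L)).map (commutator L).subtype =
      (⊤ : Subgroup (commutator L)).map (commutator L).subtype := by
    rw [map_subtype_commutator, ← MonoidHom.range_eq_map, range_subtype]
    exact le_antisymm (commutator_le_left _ _) h1
  exact map_injective (subtype_injective _) h2

/-- In a perfect group an element whose commutators are all central is central. -/
theorem mem_center_of {M : Type*} [Group M] (hM : commutator M = ⊤) {x : M}
    (hx : ∀ y : M, ⁅x, y⁆ ∈ center M) : x ∈ center M := by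
  let ψ : M →* center M :=
    { toFun := fun y => ⟨⁅x, y⁆, hx y⟩
      map_one' := Subtype.ext (commutatorElement_one_right x)
      map_mul' := fun y z => by
        refine Subtype.ext ?_
        show ⁅x, y * z⁆ = ⁅x, y⁆ * ⁅x, z⁆
        have h1 : y * ⁅x, z⁆ = ⁅x, z⁆ * y := mem_center_iff.1 (hx z) y
        calc ⁅x, y * z⁆ = ⁅x, y⁆ * (y * ⁅x, z⁆) * y⁻¹ := by
              rw [commutatorElement_def, commutatorElement_def, commutatorElement_def]; group
          _ = ⁅x, y⁆ * ⁅x, z⁆ := by rw [h1]; group }
  have h1 : ⁅(⊤ : Subgroup M), (⊤ : Subgroup M)⁆ ≤ ψ.ker := by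
    rw [commutator_le]
    intro a _ b _
    rw [MonoidHom.mem_ker, map_commutatorElement, commutatorElement_eq_one_iff_mul_comm]
    exact Subtype.ext (mem_center_iff.1 (ψ b).2 _)
  rw [mem_center_iff]
  intro y
  have h2 : y ∈ ψ.ker := h1 (by
    have h4 : y ∈ commutator M := by rw [hM]; exact mem_top y
    exact h4)
  have h3 : ⁅x, y⁆ = 1 := congrArg Subtype.val (MonoidHom.mem_ker.1 h2)
  exact (commutatorElement_eq_one_iff_mul_comm.1 h3).symm

end General

/-- **Splitting.** -/
theorem exists_section {F : Type*} [Field F] [Fintype F] (hodd : Odd (Fintype.card F))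
    (h3 : 3 < Fintype.card F) (h9 : Fintype.card F ≠ 9) {L : Type u} [Group L] [Finite L]
    (K : Subgroup L) (hK : K ≤ center L) (hKodd : Odd (Nat.card K))
    (φ : L →* Matrix.SpecialLinearGroup (Fin 2) F) (hφ : Function.Surjective φ)
    (hker : φ.ker = K) :
    ∃ σ : Matrix.SpecialLinearGroup (Fin 2) F →* L, (∀ x, φ (σ x) = x) ∧
      ∀ x, σ x ∈ commutator L := by
  have hSL := TwoFusion.SLTwoFacts.commutator_eq_top h3
  have hkc : φ.ker ≤ center L := by rw [hker]; exact hK
  have hM := commutator_eq_top hφ hSL hkc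
  let φM : commutator L →* Matrix.SpecialLinearGroup (Fin 2) F := φ.comp (commutator L).subtype
  have hφM : Function.Surjective φM := by
    intro x
    obtain ⟨m, hm, he⟩ := exists_mem_commutator hφ hSL x
    exact ⟨⟨m, hm⟩, he⟩
  let f : commutator L →* Matrix.ProjectiveSpecialLinearGroup (Fin 2) F :=
    (QuotientGroup.mk' (center (Matrix.SpecialLinearGroup (Fin 2) F))).comp φM
  have hf : Function.Surjective f :=
    (QuotientGroup.mk'_surjective _).comp hφM
  have hcM : ∀ x : commutator L, φM x = 1 → x ∈ center (commutator L) := by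
    intro x hx
    have h1 : (x : L) ∈ center L := hkc (MonoidHom.mem_ker.2 hx)
    rw [mem_center_iff]
    intro y
    exact Subtype.ext (mem_center_iff.1 h1 y)
  have hfc : f.ker ≤ center (commutator L) := by
    intro x hx
    refine mem_center_of hM fun y => hcM _ ?_
    have h1 : φM x ∈ center (Matrix.SpecialLinearGroup (Fin 2) F) := by
      rw [MonoidHom.mem_ker] at hx
      exact (QuotientGroup.eq_one_iff _).1 hx
    rw [map_commutatorElement, commutatorElement_eq_one_iff_mul_comm]
    exact (mem_center_iff.1 h1 _).symm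
  have hle : φM.ker ≤ f.ker := by
    intro x hx
    rw [MonoidHom.mem_ker] at hx ⊢
    show QuotientGroup.mk' _ (φM x) = 1
    rw [hx, map_one]
  have hKM : Nat.card φM.ker ∣ Nat.card K := by
    have h1 : Nat.card (φM.ker.map (commutator L).subtype) = Nat.card φM.ker :=
      Nat.card_congr (φM.ker.equivMapOfInjective _ (subtype_injective _)).symm.toEquiv
    rw [← h1]
    refine card_dvd_of_le ?_
    rintro _ ⟨x, hx, rfl⟩
    rw [← hker, MonoidHom.mem_ker]
    exact MonoidHom.mem_ker.1 hx
  have hinj : Function.Injective φM := by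
    rw [← MonoidHom.ker_eq_bot_iff]
    by_contra hne
    have h1 : Nat.card φM.ker ≠ 1 := fun h => hne (Subgroup.card_eq_one.1 h)
    obtain ⟨p, hp, hpd⟩ := Nat.exists_prime_and_dvd h1
    have := Fact.mk hp
    refine Lib.PSL2Mult.not_dvd_ker hodd h3 h9 hf hfc hM (p := p) ?_
      (hpd.trans (card_dvd_of_le hle))
    rintro rfl
    exact (Nat.not_even_iff_odd.2 (hKodd.of_dvd_nat hKM)) (even_iff_two_dvd.2 hpd)
  let e : commutator L ≃* Matrix.SpecialLinearGroup (Fin 2) F :=
    MulEquiv.ofBijective φM ⟨hinj, hφM⟩
  refine ⟨(commutator L).subtype.comp e.symm.toMonoidHom, fun x => ?_, fun x => (e.symm x).2⟩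
  exact e.apply_symm_apply x

end Cfsg.Agent.Classification.QDW.NearSplit
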