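import Mathlib
import Cfsg.Prelude.Def_Characters
import Cfsg.Agent.Characters.Core
import Cfsg.Agent.Characters.Clifford
import Cfsg.Agent.Characters.Linear
import Cfsg.Agent.Classification.QDW.Coef
import Cfsg.Agent.TwoFusion.SLTwoFacts

/-!
# Auxiliary facts for the near-tight theorem

* `mem_commutator`: `L` over `SL₂(F)` with odd kernel, `t` a central involution over `-1`, then
  `t` is a commutator product;
* `even_degree`: characters on which such an involution is `-1` have even degree;
* `card_dvd`: if a character of `C` vanishes on the elements of even order, the order of a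
  `2`-subgroup fixing the linear character `l` of the normal odd subgroup `K` divides the multiplicity of `l`.
-/

set_option autoImplicit false
set_option linter.unusedSectionVars false

namespace Cfsg.Agent.Classification.QDW.NearCount

open Cfsg Cfsg.Agent.Characters
open scoped ComplexConjugate

universe u

section Parity

variable {L : Type u} [Group L] [Finite L]

theorem mem_commutator {F : Type*} [Field F] [Fintype F] (h3 : 3 < Fintype.card F)
    {K : Subgroup L} (hodd : Odd (Nat.card K))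
    {φ : L →* Matrix.SpecialLinearGroup (Fin 2) F} (hφ : Function.Surjective φ) (hker : φ.ker = K)
    {t : L} (htt : t * t = 1) (htc : ∀ x, Commute t x) : t ∈ commutator L := by
  have h1 : (commutator L).map φ = ⊤ := by
    rw [commutator_def, Subgroup.map_commutator, ← MonoidHom.range_eq_map,
      MonoidHom.range_eq_top.2 hφ, ← commutator_def]
    exact TwoFusion.SLTwoFacts.commutator_eq_top h3
  have h2 : φ t ∈ (commutator L).map φ := by rw [h1]; exact Subgroup.mem_top _
  obtain ⟨x, hx, hxt⟩ := h2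
  have h3 : t⁻¹ * x ∈ K := by
    rw [← hker, MonoidHom.mem_ker, map_mul, map_inv, hxt, inv_mul_cancel]
  have h4 : (t⁻¹ * x) ^ Nat.card K = 1 :=
    congrArg Subtype.val (pow_card_eq_one' (x := (⟨t⁻¹ * x, h3⟩ : K)))
  have h5 : x ^ Nat.card K = t := by
    have h6 : x = t * (t⁻¹ * x) := by group
    rw [h6, (htc _).mul_pow, h4, mul_one]
    obtain ⟨k, hk⟩ := hodd
    rw [hk, pow_succ, pow_mul, sq, htt, one_pow, one_mul]
  rw [← h5]
  exact Subgroup.pow_mem _ hx _

theorem even_degree {t : L} (htt : t * t = 1) (hc : t ∈ commutator L) {χ : L → ℂ}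
    (hχ : IsCharacter L χ) (ht : χ t = -χ 1) {d : ℕ} (h1 : χ 1 = d) : Even d := by
  obtain ⟨n, ρ, rfl⟩ := hχ
  have hn : n = d := by
    have h2 : ρ.character 1 = (n : ℂ) := by
      rw [Representation.char_one]
      simp
    rw [h2] at h1
    exact_mod_cast h1
  subst hn
  have hρ : ρ t = -1 := by
    have hsq : ρ t * ρ t = 1 := by
      rw [← map_mul, htt, map_one]
    set P : Module.End ℂ (Fin n → ℂ) := (2 : ℂ)⁻¹ • (1 + ρ t) with hP
    have hPP : IsIdempotentElem P := by
      show P * P = P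
      have h3 : (1 + ρ t) * (1 + ρ t) = (2 : ℂ) • (1 + ρ t) := by
        rw [add_mul, mul_add, mul_add, hsq, one_mul, one_mul, mul_one, two_smul]
        abel
      rw [hP, smul_mul_smul_comm, h3, smul_smul]
      norm_num
    have htr : LinearMap.trace ℂ _ P = 0 := by
      have h3 : LinearMap.trace ℂ _ (ρ t) = - LinearMap.trace ℂ _ (ρ 1) := ht
      rw [hP, map_smul, map_add, h3, map_one ρ, add_neg_cancel, smul_zero]
    have hP0 : P = 0 := (LinearMap.IsIdempotentElem.trace_eq_zero_iff hPP).1 htr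
    have h4 : (2 : ℂ) • P = 1 + ρ t := by
      rw [hP, smul_smul]
      norm_num
    rw [hP0, smul_zero] at h4
    exact (neg_eq_of_add_eq_zero_right h4.symm).symm
  -- the determinant
  let δ : L →* ℂˣ := (MonoidHom.toHomUnits (LinearMap.det.comp ρ))
  have h5 : δ t = 1 := by
    have h6 : commutator L ≤ δ.ker := Abelianization.commutator_subset_ker δ
    exact h6 hc
  have h6 : LinearMap.det (ρ t) = 1 := by
    have h7 := congrArg Units.val h5
    exact h7
  rw [hρ, ← neg_one_smul ℂ (1 : Module.End ℂ (Fin n → ℂ)), LinearMap.det_smul, map_one, mul_one,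
    Module.finrank_fin_fun] at h6
  by_contra hodd
  rw [Nat.not_even_iff_odd] at hodd
  rw [hodd.neg_one_pow] at h6
  norm_num at h6

end Parity

section Count

variable {C : Type u} [Group C] [Finite C]

theorem even_orderOf_mul {K : Subgroup C} [hN : K.Normal] (hodd : Odd (Nat.card K)) {H : Subgroup C}
    (hH : IsPGroup 2 H) {k h : C} (hk : k ∈ K) (hh : h ∈ H) (h1 : h ≠ 1) : Even (orderOf (k * h)) := by
  by_contra hcon
  rw [Nat.not_even_iff_odd] at hcon
  set m := orderOf (k * h) with hm
  have h2 : (k * h) ^ m = 1 := pow_orderOf_eq_one _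
  have h3 : h ^ m ∈ K := by
    rw [← QuotientGroup.eq_one_iff, QuotientGroup.mk_pow]
    have h4 : ((k * h : C) : C ⧸ K) = (h : C ⧸ K) := by
      rw [QuotientGroup.mk_mul, (QuotientGroup.eq_one_iff k).2 hk, one_mul]
    rw [← h4, ← QuotientGroup.mk_pow, h2, QuotientGroup.mk_one]
  obtain ⟨e, he⟩ := hH ⟨h, hh⟩
  have he' : h ^ 2 ^ e = 1 := congrArg Subtype.val he
  have h5 : h ^ m = 1 := by
    have h6 : (h ^ m) ^ Nat.card K = 1 :=
      congrArg Subtype.val (pow_card_eq_one' (x := (⟨h ^ m, h3⟩ : K)))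
    have h7 : (h ^ m) ^ 2 ^ e = 1 := by
      rw [← pow_mul, mul_comm, pow_mul, he', one_pow]
    have h8 : Nat.Coprime (Nat.card K) (2 ^ e) :=
      Nat.Coprime.pow_right e (Nat.coprime_two_right.2 hodd)
    have h9 : orderOf (h ^ m) ∣ Nat.gcd (Nat.card K) (2 ^ e) :=
      Nat.dvd_gcd (orderOf_dvd_of_pow_eq_one h6) (orderOf_dvd_of_pow_eq_one h7)
    rw [h8.gcd_eq_one, Nat.dvd_one] at h9
    exact orderOf_eq_one_iff.1 h9
  have h8 : Nat.Coprime m (2 ^ e) := Nat.Coprime.pow_right e (Nat.coprime_two_right.2 hcon)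
  have h9 : orderOf h ∣ Nat.gcd m (2 ^ e) :=
    Nat.dvd_gcd (orderOf_dvd_of_pow_eq_one h5) (orderOf_dvd_of_pow_eq_one he')
  rw [h8.gcd_eq_one, Nat.dvd_one] at h9
  exact h1 (orderOf_eq_one_iff.1 h9)

theorem card_dvd {K : Subgroup C} [hN : K.Normal] [Fintype K] (hodd : Odd (Nat.card K))
    {H : Subgroup C} (hH : IsPGroup 2 H) {Y : C → ℂ} (hY : IsCharacter C Y)
    (h0 : ∀ g, Even (orderOf g) → Y g = 0) (l : K →* ℂˣ)
    (hl : ∀ h ∈ H, ∀ k : K, l ⟨h * k * h⁻¹, hN.conj_mem k k.2 h⟩ = l k) {m : ℕ}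
    (hm : classInner (fun k : K => Y k) (fun k => (l k : ℂ)) = m) : Nat.card H ∣ m := by
  classical
  let _ : Fintype H := Fintype.ofFinite _
  let ψ : H →* MulAut K := (MulAut.conjNormal (H := K)).comp H.subtype
  have hψ : ∀ (h : H) (k : K), ((ψ h k : K) : C) = h * k * (h : C)⁻¹ := fun h k => rfl
  let e : (K ⋊[ψ] H) ≃ K × H := SemidirectProduct.equivProd
  let _ : Fintype (K ⋊[ψ] H) := Fintype.ofEquiv _ e.symm
  let π : (K ⋊[ψ] H) →* C := SemidirectProduct.lift K.subtype H.subtype (by
    intro h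
    ext k
    simp [hψ])
  let Λ : (K ⋊[ψ] H) →* ℂˣ := SemidirectProduct.lift l 1 (by
    intro h
    ext k
    simp only [MonoidHom.comp_apply, MonoidHom.one_apply, map_one, MulEquiv.coe_toMonoidHom]
    exact congrArg Units.val (hl h h.2 k))
  obtain ⟨n, hn⟩ := Core.classInner_isNat (Core.isCharacter_comp π hY) (Linear.isCharacter_hom Λ)
  have hsum : ∑ p : K ⋊[ψ] H, Y (π p) * conj (Λ p : ℂ) = ∑ k : K, Y k * conj (l k : ℂ) := by
    have h1 : ∑ p : K ⋊[ψ] H, Y (π p) * conj (Λ p : ℂ) =
        ∑ p : K × H, Y ((p.1 : C) * p.2) * conj (l p.1 : ℂ) := by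
      refine Fintype.sum_equiv e _ _ fun p => ?_
      have h2 : π p = (p.left : C) * p.right := rfl
      have h3 : Λ p = l p.left := by
        show l p.left * 1 = _
        rw [mul_one]
      rw [h2, h3]
      rfl
    rw [h1, Fintype.sum_prod_type]
    refine Finset.sum_congr rfl fun k _ => ?_
    rw [Finset.sum_eq_single (1 : H)]
    · simp
    · intro h _ hne
      rw [h0 _ (even_orderOf_mul hodd hH k.2 h.2 (fun h3 => hne (Subtype.ext h3))), zero_mul]
    · intro h
      exact absurd (Finset.mem_univ _) h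
  have hcard : (Nat.card (K ⋊[ψ] H) : ℂ) = Nat.card K * Nat.card H := by
    rw [Nat.card_congr e, Nat.card_prod]
    push_cast
    rfl
  have hK0 : (Nat.card K : ℂ) ≠ 0 := Core.card_ne_zero_complex
  have hH0 : (Nat.card H : ℂ) ≠ 0 := Core.card_ne_zero_complex
  rw [Core.classInner_def, hcard] at hn
  rw [Core.classInner_def, ← hsum] at hm
  have h1 : (m : ℂ) = Nat.card H * n := by
    have h2 : (∑ p : K ⋊[ψ] H, Y (π p) * conj (Λ p : ℂ)) = Nat.card K * Nat.card H * n := by
      rw [← hn]
      field_simp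
      rfl
    rw [← hm, h2]
    field_simp
  exact ⟨n, by exact_mod_cast h1⟩

end Count

end Cfsg.Agent.Classification.QDW.NearCount
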