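import Mathlib
import Cfsg.Agent.Lib.SL2Hom

/-!
# Fixed points of a root group of `SL₂(q)` in a module on which `-1` inverts everything

`F` a finite field with `q` elements, `N` a finite-dimensional module of `SL₂(F)` in characteristic zero
on which `-1` acts as `-1`, `U` the upper unitriangular group. Then
`(q + 1) * dim C_N(U) ≤ 2 * dim N` (`finrank_fixed_le`).

Proof: with `e`, `f` the averages of the upper and of the lower root group, `e f e = q⁻¹ e` and
`f e f = q⁻¹ f` (the sum of the antidiagonal elements is zero), so `P = e + ∑ U(a) f U(-a)` (the sum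
of the `q + 1` projections) satisfies `P * P = 2 P`, and `trace P = (q + 1) dim C_N(U)`.
-/

set_option autoImplicit false

namespace Cfsg.Agent.Classification.QDW.UFix

open Matrix Cfsg.Agent.Lib.SL2Hom

variable {F : Type*} [Field F]

/-- the antidiagonal element with lower entry `b` -/
def ad (b : F) (hb : b ≠ 0) : SpecialLinearGroup (Fin 2) F :=
  ⟨!![0, -b⁻¹; b, 0], by simp [Matrix.det_fin_two, hb]⟩

theorem up_zero : (up 0 : SpecialLinearGroup (Fin 2) F) = 1 := by
  ext i j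
  fin_cases i <;> fin_cases j <;> simp [up]

theorem lo_zero : (lo 0 : SpecialLinearGroup (Fin 2) F) = 1 := by
  ext i j
  fin_cases i <;> fin_cases j <;> simp [lo]

theorem up_add (a b : F) : up (a + b) = up a * up b := by
  ext i j
  change (up (a + b)).1 i j = ((up a).1 * (up b).1) i j
  fin_cases i <;> fin_cases j <;> simp [up, Matrix.mul_apply, Fin.sum_univ_two, add_comm]

theorem lo_add (a b : F) : lo (a + b) = lo a * lo b := by
  ext i j
  change (lo (a + b)).1 i j = ((lo a).1 * (lo b).1) i j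
  fin_cases i <;> fin_cases j <;> simp [lo, Matrix.mul_apply, Fin.sum_univ_two, add_comm]

theorem ad_neg (b : F) (hb : b ≠ 0) : ad (-b) (neg_ne_zero.2 hb) = -1 * ad b hb := by
  ext i j
  change (ad (-b) (neg_ne_zero.2 hb)).1 i j = ((-1 : Matrix (Fin 2) (Fin 2) F) * (ad b hb).1) i j
  fin_cases i <;> fin_cases j <;> simp [ad, Matrix.mul_apply, Fin.sum_univ_two, inv_neg]

/-- `L(b) = U(b⁻¹) n(b) U(b⁻¹)` -/
theorem lo_eq (b : F) (hb : b ≠ 0) : lo b = up b⁻¹ * ad b hb * up b⁻¹ := by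
  ext i j
  change (lo b).1 i j = ((up b⁻¹).1 * (ad b hb).1 * (up b⁻¹).1) i j
  fin_cases i <;> fin_cases j <;> simp [up, lo, ad, Matrix.mul_apply, Fin.sum_univ_two, hb]

/-- `U(b) = L(b⁻¹) n(-b⁻¹) L(b⁻¹)` -/
theorem up_eq (b : F) (hb : b ≠ 0) :
    up b = lo b⁻¹ * ad (-b⁻¹) (neg_ne_zero.2 (inv_ne_zero hb)) * lo b⁻¹ := by
  ext i j
  change (up b).1 i j =
    ((lo b⁻¹).1 * (ad (-b⁻¹) (neg_ne_zero.2 (inv_ne_zero hb))).1 * (lo b⁻¹).1) i j
  fin_cases i <;> fin_cases j <;> simp [up, lo, ad, Matrix.mul_apply, Fin.sum_univ_two, hb, inv_neg]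

/-- `U(b) n(b⁻¹) = L(b⁻¹) U(-b)` -/
theorem up_mul_ad (b : F) (hb : b ≠ 0) :
    up b * ad b⁻¹ (inv_ne_zero hb) = lo b⁻¹ * up (-b) := by
  ext i j
  change ((up b).1 * (ad b⁻¹ (inv_ne_zero hb)).1) i j = ((lo b⁻¹).1 * (up (-b)).1) i j
  fin_cases i <;> fin_cases j <;> simp [up, lo, ad, Matrix.mul_apply, Fin.sum_univ_two, hb]

/-- conjugation of the lower by the antidiagonal element -/
theorem lo_mul_ad (a b : F) (hb : b ≠ 0) : lo a * ad b hb = ad b hb * up (-(a * b⁻¹ * b⁻¹)) := by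
  ext i j
  change ((lo a).1 * (ad b hb).1) i j = ((ad b hb).1 * (up (-(a * b⁻¹ * b⁻¹))).1) i j
  fin_cases i <;> fin_cases j <;> simp [up, lo, ad, Matrix.mul_apply, Fin.sum_univ_two]
  field_simp

section Alg

variable [Fintype F] {k : Type*} [Field k] {A : Type*} [Ring A] [Algebra k A]
  (ρ : SpecialLinearGroup (Fin 2) F →* A)

variable (k) in
/-- the average of the upper root group -/
noncomputable def eU : A := (Fintype.card F : k)⁻¹ • ∑ a : F, ρ (up a)

variable (k) in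
/-- the average of the lower root group -/
noncomputable def eL : A := (Fintype.card F : k)⁻¹ • ∑ a : F, ρ (lo a)


theorem up_mul_eU (b : F) : ρ (up b) * eU k ρ = eU k ρ := by
  rw [eU, mul_smul_comm, Finset.mul_sum]
  congr 1
  simp only [← map_mul, ← up_add]
  exact Fintype.sum_equiv (Equiv.addLeft b) _ _ fun a => rfl

theorem eU_mul_up (b : F) : eU k ρ * ρ (up b) = eU k ρ := by
  rw [eU, smul_mul_assoc, Finset.sum_mul]
  congr 1
  simp only [← map_mul, ← up_add]
  exact Fintype.sum_equiv (Equiv.addRight b) _ _ fun a => rfl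

theorem lo_mul_eL (b : F) : ρ (lo b) * eL k ρ = eL k ρ := by
  rw [eL, mul_smul_comm, Finset.mul_sum]
  congr 1
  simp only [← map_mul, ← lo_add]
  exact Fintype.sum_equiv (Equiv.addLeft b) _ _ fun a => rfl

theorem eL_mul_lo (b : F) : eL k ρ * ρ (lo b) = eL k ρ := by
  rw [eL, smul_mul_assoc, Finset.sum_mul]
  congr 1
  simp only [← map_mul, ← lo_add]
  exact Fintype.sum_equiv (Equiv.addRight b) _ _ fun a => rfl

theorem conj_sum (a b : F) : ρ (up b) * (ρ (up a) * eL k ρ * ρ (up (-a))) =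
    ρ (up (b + a)) * eL k ρ * ρ (up (-(b + a))) * ρ (up b) := by
  rw [mul_assoc _ (ρ (up (-(b + a)))), ← map_mul, ← up_add, ← mul_assoc, ← mul_assoc, ← map_mul,
    ← up_add]
  congr 3
  ring

variable [CharZero k]

theorem card_ne : (Fintype.card F : k) ≠ 0 := by
  exact_mod_cast Fintype.card_ne_zero

theorem eU_mul_eU : eU k ρ * eU k ρ = eU k ρ := by
  conv_lhs => enter [1]; rw [eU]
  rw [smul_mul_assoc, Finset.sum_mul, Finset.sum_congr rfl fun a _ => up_mul_eU ρ a, Finset.sum_const,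
    Finset.card_univ, ← Nat.cast_smul_eq_nsmul k, smul_smul, inv_mul_cancel₀ card_ne, one_smul]

theorem eL_mul_eL : eL k ρ * eL k ρ = eL k ρ := by
  conv_lhs => enter [1]; rw [eL]
  rw [smul_mul_assoc, Finset.sum_mul, Finset.sum_congr rfl fun a _ => lo_mul_eL ρ a, Finset.sum_const,
    Finset.card_univ, ← Nat.cast_smul_eq_nsmul k, smul_smul, inv_mul_cancel₀ card_ne, one_smul]

open Classical in
variable (k) in
include k in
/-- the sum of the antidiagonal elements is zero if `-1` acts as `-1` -/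
theorem sum_ad (hρ : ρ (-1) = -1) (g : F → F) (hg : ∀ b, g (-b) = - g b) (hg0 : ∀ b, b ≠ 0 → g b ≠ 0) :
    ∑ b : F, (if hb : b ≠ 0 then ρ (ad (g b) (hg0 b hb)) else 0) = 0 := by
  set h : F → A := fun b => if hb : b ≠ 0 then ρ (ad (g b) (hg0 b hb)) else 0 with hh
  have h1 : ∀ b, h (-b) = - h b := by
    intro b
    by_cases hb : b ≠ 0
    · have hb' : -b ≠ 0 := neg_ne_zero.2 hb
      have h2 : h (-b) = ρ (ad (g (-b)) (hg0 _ hb')) := dif_pos hb'
      have h3 : h b = ρ (ad (g b) (hg0 _ hb)) := dif_pos hb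
      have h4 : ad (g (-b)) (hg0 _ hb') = ad (-(g b)) (neg_ne_zero.2 (hg0 b hb)) := by
        congr 1
        exact hg b
      rw [h2, h3, h4, ad_neg, map_mul, hρ, neg_one_mul]
    · have hb0 : b = 0 := not_not.1 hb
      subst hb0
      simp [hh]
  have h2 : ∑ b : F, h b = ∑ b : F, h (-b) := (Fintype.sum_equiv (Equiv.neg F) _ _ fun a => rfl).symm
  have h3 : ∑ b : F, h b = - ∑ b : F, h b := by
    conv_lhs => rw [h2]
    rw [← Finset.sum_neg_distrib]
    exact Finset.sum_congr rfl fun b _ => h1 b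
  have h4 : (2 : k) • ∑ b : F, h b = 0 := by
    rw [two_smul]
    nth_rewrite 1 [h3]
    exact neg_add_cancel _
  have h5 := congrArg (fun x => (2 : k)⁻¹ • x) h4
  simpa [smul_smul] using h5

theorem eU_eL_eU (hρ : ρ (-1) = -1) : eU k ρ * eL k ρ * eU k ρ = (Fintype.card F : k)⁻¹ • eU k ρ := by
  classical
  have h1 : eU k ρ * eL k ρ * eU k ρ =
      (Fintype.card F : k)⁻¹ • ∑ b : F, eU k ρ * ρ (lo b) * eU k ρ := by
    conv_lhs => enter [1, 2]; rw [eL]
    rw [mul_smul_comm, smul_mul_assoc, Finset.mul_sum, Finset.sum_mul]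
  have h2 : ∀ b : F, eU k ρ * ρ (lo b) * eU k ρ =
      (if b = 0 then eU k ρ else 0) +
      eU k ρ * (if hb : b ≠ 0 then ρ (ad (id b) hb) else 0) * eU k ρ := by
    intro b
    by_cases hb : b = 0
    · subst hb
      simp [lo_zero, eU_mul_eU]
    · rw [if_neg hb, dif_pos hb, zero_add, lo_eq b hb, map_mul, map_mul, ← mul_assoc, ← mul_assoc,
        eU_mul_up, mul_assoc, up_mul_eU]
      rfl
  rw [h1, Finset.sum_congr rfl fun b _ => h2 b, Finset.sum_add_distrib, ← Finset.sum_mul,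
    ← Finset.mul_sum, sum_ad k ρ hρ id (fun b => rfl) (fun b hb => hb)]
  simp

theorem eL_eU_eL (hρ : ρ (-1) = -1) : eL k ρ * eU k ρ * eL k ρ = (Fintype.card F : k)⁻¹ • eL k ρ := by
  classical
  have h1 : eL k ρ * eU k ρ * eL k ρ =
      (Fintype.card F : k)⁻¹ • ∑ b : F, eL k ρ * ρ (up b) * eL k ρ := by
    conv_lhs => enter [1, 2]; rw [eU]
    rw [mul_smul_comm, smul_mul_assoc, Finset.mul_sum, Finset.sum_mul]
  have h2 : ∀ b : F, eL k ρ * ρ (up b) * eL k ρ =
      (if b = 0 then eL k ρ else 0) +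
      eL k ρ * (if hb : b ≠ 0 then ρ (ad (-b⁻¹) (neg_ne_zero.2 (inv_ne_zero hb))) else 0) * eL k ρ := by
    intro b
    by_cases hb : b = 0
    · subst hb
      simp [up_zero, eL_mul_eL]
    · rw [if_neg hb, dif_pos hb, zero_add, up_eq b hb, map_mul, map_mul, ← mul_assoc, ← mul_assoc,
        eL_mul_lo, mul_assoc, lo_mul_eL]
  rw [h1, Finset.sum_congr rfl fun b _ => h2 b, Finset.sum_add_distrib, ← Finset.sum_mul,
    ← Finset.mul_sum, sum_ad k ρ hρ (fun b => -b⁻¹) (fun b => by simp [inv_neg])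
      (fun b hb => neg_ne_zero.2 (inv_ne_zero hb))]
  simp

variable (k) in
/-- the sum of the `q + 1` root projections -/
noncomputable def pr : A := eU k ρ + ∑ a : F, ρ (up a) * eL k ρ * ρ (up (-a))

theorem up_mul_pr (b : F) : ρ (up b) * pr k ρ = pr k ρ * ρ (up b) := by
  rw [pr, mul_add, add_mul, up_mul_eU, eU_mul_up, Finset.mul_sum, Finset.sum_mul]
  congr 1
  rw [Finset.sum_congr rfl fun a _ => conj_sum ρ a b]
  exact Fintype.sum_equiv (Equiv.addLeft b) _ _ fun a => rfl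

theorem sum_up_mul (x : A) : ∑ a : F, ρ (up a) * x = (Fintype.card F : k) • (eU k ρ * x) := by
  rw [eU, smul_mul_assoc, smul_smul, mul_inv_cancel₀ card_ne, one_smul, Finset.sum_mul]

theorem sum_lo_mul (x : A) : ∑ a : F, ρ (lo a) * x = (Fintype.card F : k) • (eL k ρ * x) := by
  rw [eL, smul_mul_assoc, smul_smul, mul_inv_cancel₀ card_ne, one_smul, Finset.sum_mul]

theorem pr_mul_eU (hρ : ρ (-1) = -1) : pr k ρ * eU k ρ = (2 : k) • eU k ρ := by
  rw [pr, add_mul, eU_mul_eU, Finset.sum_mul]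
  have h1 : ∀ a : F, ρ (up a) * eL k ρ * ρ (up (-a)) * eU k ρ = ρ (up a) * (eL k ρ * eU k ρ) := by
    intro a
    rw [mul_assoc _ (ρ (up (-a))), up_mul_eU, mul_assoc]
  rw [Finset.sum_congr rfl fun a _ => h1 a, sum_up_mul (k := k), ← mul_assoc, eU_eL_eU ρ hρ, smul_smul,
    mul_inv_cancel₀ card_ne, one_smul, two_smul]

/-- `f n(b) = n(b) e` -/
theorem eL_mul_ad (b : F) (hb : b ≠ 0) : eL k ρ * ρ (ad b hb) = ρ (ad b hb) * eU k ρ := by
  rw [eL, eU, smul_mul_assoc, mul_smul_comm, Finset.sum_mul, Finset.mul_sum]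
  congr 1
  have h1 : ∀ a : F, ρ (lo a) * ρ (ad b hb) = ρ (ad b hb) * ρ (up (-(a * b⁻¹ * b⁻¹))) := by
    intro a
    rw [← map_mul, lo_mul_ad, map_mul]
  rw [Finset.sum_congr rfl fun a _ => h1 a]
  have hu : (-(b⁻¹ * b⁻¹)) ≠ 0 := neg_ne_zero.2 (mul_ne_zero (inv_ne_zero hb) (inv_ne_zero hb))
  refine Fintype.sum_equiv (Equiv.mulRight₀ _ hu) _ _ fun a => ?_
  have : -(a * b⁻¹ * b⁻¹) = a * -(b⁻¹ * b⁻¹) := by ring
  rw [this]
  rfl

theorem pr_mul_eL (hρ : ρ (-1) = -1) : pr k ρ * eL k ρ = (2 : k) • eL k ρ := by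
  classical
  rw [pr, add_mul, Finset.sum_mul]
  have h1 : ∀ a : F, ρ (up a) * eL k ρ * ρ (up (-a)) * eL k ρ =
      (if a = 0 then eL k ρ - eU k ρ * eL k ρ else 0) + ρ (lo a⁻¹) * (eU k ρ * eL k ρ) := by
    intro a
    by_cases ha : a = 0
    · subst ha
      simp [up_zero, lo_zero, eL_mul_eL]
    · have ha' : -a ≠ 0 := neg_ne_zero.2 ha
      have h2 : ad (-(-a)⁻¹) (neg_ne_zero.2 (inv_ne_zero ha')) = ad a⁻¹ (inv_ne_zero ha) := by
        congr 1
        simp [inv_neg]
      rw [if_neg ha, zero_add, up_eq (-a) ha', h2, map_mul, map_mul]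
      rw [show ρ (up a) * eL k ρ * (ρ (lo (-a)⁻¹) * ρ (ad a⁻¹ (inv_ne_zero ha)) * ρ (lo (-a)⁻¹)) * eL k ρ =
        ρ (up a) * (eL k ρ * ρ (lo (-a)⁻¹)) * ρ (ad a⁻¹ (inv_ne_zero ha)) * (ρ (lo (-a)⁻¹) * eL k ρ) by
          simp only [mul_assoc], eL_mul_lo, lo_mul_eL, mul_assoc (ρ (up a)) (eL k ρ), eL_mul_ad,
        ← mul_assoc (ρ (up a)), ← map_mul, up_mul_ad a ha, map_mul, mul_assoc (ρ (lo a⁻¹)), up_mul_eU,
        mul_assoc]
  rw [Finset.sum_congr rfl fun a _ => h1 a, Finset.sum_add_distrib]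
  have h3 : ∑ a : F, ρ (lo a⁻¹) * (eU k ρ * eL k ρ) = ∑ a : F, ρ (lo a) * (eU k ρ * eL k ρ) :=
    Fintype.sum_equiv (Equiv.inv F) _ _ fun a => rfl
  rw [h3, sum_lo_mul (k := k), ← mul_assoc, eL_eU_eL ρ hρ, smul_smul, mul_inv_cancel₀ card_ne, one_smul,
    two_smul, Finset.sum_ite_eq' Finset.univ (0 : F), if_pos (Finset.mem_univ _)]
  abel

theorem pr_mul_pr (hρ : ρ (-1) = -1) : pr k ρ * pr k ρ = (2 : k) • pr k ρ := by
  conv_lhs => enter [2]; rw [pr]
  rw [mul_add, pr_mul_eU ρ hρ, Finset.mul_sum]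
  have h1 : ∀ a : F, pr k ρ * (ρ (up a) * eL k ρ * ρ (up (-a))) =
      (2 : k) • (ρ (up a) * eL k ρ * ρ (up (-a))) := by
    intro a
    rw [← mul_assoc, ← mul_assoc, ← up_mul_pr, mul_assoc (ρ (up a)), pr_mul_eL ρ hρ, mul_smul_comm,
      smul_mul_assoc]
  rw [Finset.sum_congr rfl fun a _ => h1 a, ← Finset.smul_sum, ← smul_add, ← pr]

end Alg

section Rep

variable [Fintype F] {k : Type*} [Field k] [CharZero k] {N : Type*} [AddCommGroup N] [Module k N]

/-- the fixed points of the upper root group -/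
def fixU (ρ : Representation k (SpecialLinearGroup (Fin 2) F) N) : Submodule k N where
  carrier := {v | ∀ a : F, ρ (up a) v = v}
  add_mem' := fun {x y} hx hy a => by rw [map_add, hx a, hy a]
  zero_mem' := fun a => map_zero _
  smul_mem' := fun c x hx a => by rw [map_smul, hx a]

theorem mem_fixU (ρ : Representation k (SpecialLinearGroup (Fin 2) F) N) (v : N) :
    v ∈ fixU ρ ↔ ∀ a : F, ρ (up a) v = v := Iff.rfl

theorem isProj_eU (ρ : Representation k (SpecialLinearGroup (Fin 2) F) N) :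
    LinearMap.IsProj (fixU ρ) (eU k ρ : Module.End k N) where
  map_mem := fun x a => by
    change (ρ (up a) * eU k ρ) x = _
    rw [up_mul_eU]
  map_id := fun x hx => by
    rw [eU, LinearMap.smul_apply, LinearMap.sum_apply, Finset.sum_congr rfl fun a _ => hx a,
      Finset.sum_const, Finset.card_univ, ← Nat.cast_smul_eq_nsmul k, smul_smul,
      inv_mul_cancel₀ card_ne, one_smul]

variable [FiniteDimensional k N]

theorem trace_eU (ρ : Representation k (SpecialLinearGroup (Fin 2) F) N) :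
    LinearMap.trace k N (eU k ρ) = Module.finrank k (fixU ρ) :=
  (isProj_eU ρ).trace

theorem trace_eL (ρ : Representation k (SpecialLinearGroup (Fin 2) F) N) :
    LinearMap.trace k N (eL k ρ) = Module.finrank k (fixU ρ) := by
  rw [← trace_eU]
  have h1 : ρ (ad 1 one_ne_zero)⁻¹ * ρ (ad (1 : F) one_ne_zero) = 1 := by
    rw [← map_mul, inv_mul_cancel, map_one]
  have h2 : ρ (ad (1 : F) one_ne_zero) * ρ (ad 1 one_ne_zero)⁻¹ = 1 := by
    rw [← map_mul, mul_inv_cancel, map_one]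
  have h3 : (eL k ρ : Module.End k N) =
      ρ (ad (1 : F) one_ne_zero) * eU k ρ * ρ (ad 1 one_ne_zero)⁻¹ := by
    rw [← eL_mul_ad, mul_assoc, h2, mul_one]
  rw [h3, LinearMap.trace_mul_comm, ← mul_assoc, h1, one_mul]

theorem trace_pr (ρ : Representation k (SpecialLinearGroup (Fin 2) F) N) :
    LinearMap.trace k N (pr k ρ) = (Fintype.card F + 1) * Module.finrank k (fixU ρ) := by
  have h1 : ∀ a : F, LinearMap.trace k N (ρ (up a) * eL k ρ * ρ (up (-a))) =
      Module.finrank k (fixU ρ) := by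
    intro a
    rw [LinearMap.trace_mul_comm, ← mul_assoc, ← map_mul, ← up_add, neg_add_cancel, up_zero, map_one,
      one_mul, trace_eL]
  rw [pr, map_add, map_sum, Finset.sum_congr rfl fun a _ => h1 a, trace_eU, Finset.sum_const,
    Finset.card_univ, nsmul_eq_mul]
  ring

/-- the dimension of the fixed space of a root group -/
theorem finrank_fixed_le (ρ : Representation k (SpecialLinearGroup (Fin 2) F) N)
    (hρ : ∀ v, ρ (-1) v = -v) :
    (Fintype.card F + 1) * Module.finrank k (fixU ρ) ≤ 2 * Module.finrank k N := by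
  have hρ' : ρ (-1) = -1 := LinearMap.ext fun v => hρ v
  have h2 : (2 : k) ≠ 0 := two_ne_zero
  set p : Module.End k N := (2 : k)⁻¹ • pr k ρ with hp
  have hpp : p * p = p := by
    rw [hp, smul_mul_smul_comm, pr_mul_pr ρ hρ', smul_smul]
    congr 1
    field_simp
  have hproj : LinearMap.IsProj (LinearMap.range p) p := by
    refine ⟨fun x => LinearMap.mem_range_self p x, fun x hx => ?_⟩
    obtain ⟨y, rfl⟩ := hx
    exact congrArg (fun g : Module.End k N => g y) hpp
  have h3 := hproj.trace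
  rw [hp, map_smul, trace_pr, smul_eq_mul, ← hp] at h3
  have h4 : ((Fintype.card F : k) + 1) * Module.finrank k (fixU ρ) =
      2 * Module.finrank k (LinearMap.range p) := by
    rw [← h3]
    field_simp
  have h5 : (Fintype.card F + 1) * Module.finrank k (fixU ρ) =
      2 * Module.finrank k (LinearMap.range p) := by exact_mod_cast h4
  rw [h5]
  exact Nat.mul_le_mul_left 2 (Submodule.finrank_le _)

end Rep

end Cfsg.Agent.Classification.QDW.UFix
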