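import Mathlib
import Cfsg.Prelude.Def_Characters
import Cfsg.Agent.Characters.Core
import Cfsg.Agent.Characters.GaloisBasic
import Cfsg.Agent.Classification.QDW.UFix

/-!
# Degrees of small modules of `SL₂(q)` on which `-1` acts as `-1`

`F` a finite field with `q = 1 mod 4` elements, `N` a complex module of `SL₂(F)` of dimension `d ≤ q` on
which `-1` acts as `-1`. Then `q - 1` divides `2 d`, or `d` is odd (`dims`). Proof: the fixed space of the
root group has dimension `f ≤ 2 d / (q + 1) < 2`, and `q f = d + (q - 1)(c₁ + c₂)/2` with the two values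
`c₁`, `c₂` of the character on the nontrivial elements of the root group.
-/

set_option autoImplicit false

namespace Cfsg.Agent.Classification.QDW.NearDim

open Matrix Cfsg Cfsg.Agent.Characters
open Cfsg.Agent.Lib.SL2Hom Cfsg.Agent.Classification.QDW.UFix

variable {F : Type*} [Field F] [Fintype F]

omit [Fintype F] in
theorem dg_up (s a : F) (hs : s ≠ 0) : dg s hs * up a * (dg s hs)⁻¹ = up (s ^ 2 * a) := by
  rw [mul_inv_eq_iff_eq_mul]
  ext i j
  change ((dg s hs).1 * (up a).1) i j = ((up (s ^ 2 * a)).1 * (dg s hs).1) i j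
  fin_cases i <;> fin_cases j <;> simp [up, dg, Matrix.mul_apply, Fin.sum_univ_two]
  field_simp

section

variable {N : Type*} [AddCommGroup N] [Module ℂ N] [FiniteDimensional ℂ N]
  (ρ : Representation ℂ (SpecialLinearGroup (Fin 2) F) N)

theorem sum_trace :
    ∑ a : F, LinearMap.trace ℂ N (ρ (up a)) = Fintype.card F * Module.finrank ℂ (fixU ρ) := by
  have h1 := trace_eU ρ
  rw [eU, map_smul, map_sum, smul_eq_mul] at h1
  have h2 : (Fintype.card F : ℂ) ≠ 0 := card_ne
  rw [← h1, ← mul_assoc, mul_inv_cancel₀ h2, one_mul]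

theorem trace_sq (s a : F) (hs : s ≠ 0) :
    LinearMap.trace ℂ N (ρ (up (s ^ 2 * a))) = LinearMap.trace ℂ N (ρ (up a)) := by
  rw [← dg_up s a hs, map_mul ρ, map_mul ρ, LinearMap.trace_mul_comm, ← mul_assoc, ← map_mul ρ,
    inv_mul_cancel, map_one ρ, one_mul]

theorem isIntegral_trace (g : SpecialLinearGroup (Fin 2) F) :
    IsIntegral ℤ (LinearMap.trace ℂ N (ρ g)) :=
  GaloisBasic.isIntegral_apply (Core.isCharacter_of_rep ρ) g

theorem exists_int (hodd : ringChar F ≠ 2) :
    ∃ z : ℤ, (2 : ℤ) * (Fintype.card F * Module.finrank ℂ (fixU ρ) - Module.finrank ℂ N) =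
      ((Fintype.card F : ℤ) - 1) * z := by
  classical
  obtain ⟨v, hv⟩ := quadraticChar_exists_neg_one' hodd
  set T : F → ℂ := fun a => LinearMap.trace ℂ N (ρ (up a)) with hT
  have hv0 : (v : F) ≠ 0 := v.ne_zero
  have hsq : ∀ a b : F, a ≠ 0 → b ≠ 0 → quadraticChar F a = quadraticChar F b → T a = T b := by
    intro a b ha hb hab
    have h1 : quadraticChar F (a * b⁻¹) = 1 := by
      rw [map_mul, hab, ← map_mul, mul_inv_cancel₀ hb, map_one]
    obtain ⟨s, hs⟩ := (quadraticChar_one_iff_isSquare (mul_ne_zero ha (inv_ne_zero hb))).1 h1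
    have hs0 : s ≠ 0 := by
      rintro rfl
      rw [mul_zero] at hs
      exact mul_ne_zero ha (inv_ne_zero hb) hs
    have h2 : a = s ^ 2 * b := by
      rw [sq, ← hs]
      field_simp
    have h3 := trace_sq ρ s b hs0
    rw [← h2] at h3
    exact h3
  have hTa : ∀ a : F, a ≠ 0 → 2 * T a = (T 1 + T v) + (quadraticChar F a : ℂ) * (T 1 - T v) := by
    intro a ha
    rcases quadraticChar_dichotomy ha with h1 | h1
    · have h2 : T a = T 1 := hsq a 1 ha one_ne_zero (by rw [h1, map_one])
      rw [h1, h2]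
      push_cast
      ring
    · have h2 : T a = T v := hsq a v ha hv0 (by rw [h1, hv])
      rw [h1, h2]
      push_cast
      ring
  have hT0 : T 0 = Module.finrank ℂ N := by
    rw [hT]
    show LinearMap.trace ℂ N (ρ (up 0)) = _
    rw [up_zero, map_one]
    exact LinearMap.trace_one ℂ N
  have hsum : 2 * ∑ a : F, T a = 2 * Module.finrank ℂ N +
      ((Fintype.card F : ℂ) - 1) * (T 1 + T v) := by
    have h1 : ∀ a : F, 2 * T a = (if a = 0 then 2 * (Module.finrank ℂ N : ℂ) - (T 1 + T v) else 0) +
        ((T 1 + T v) + (quadraticChar F a : ℂ) * (T 1 - T v)) := by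
      intro a
      by_cases ha : a = 0
      · subst ha
        rw [if_pos rfl, hT0, quadraticChar_zero]
        push_cast
        ring
      · rw [if_neg ha, zero_add]
        exact hTa a ha
    rw [Finset.mul_sum, Finset.sum_congr rfl fun a _ => h1 a, Finset.sum_add_distrib,
      Finset.sum_add_distrib, Finset.sum_ite_eq' Finset.univ (0 : F), if_pos (Finset.mem_univ _),
      ← Finset.sum_mul, Finset.sum_const, Finset.card_univ, nsmul_eq_mul]
    have h2 : ∑ a : F, (quadraticChar F a : ℂ) = 0 := by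
      have h3 := quadraticChar_sum_zero hodd
      exact_mod_cast h3
    rw [h2]
    ring
  rw [show ∑ a : F, T a = _ from sum_trace ρ] at hsum
  have hq1 : ((Fintype.card F : ℂ) - 1) ≠ 0 := by
    have h1 : 1 < Fintype.card F := Fintype.one_lt_card
    intro h2
    have h3 : (Fintype.card F : ℂ) = 1 := by linear_combination h2
    have h4 : Fintype.card F = 1 := by exact_mod_cast h3
    omega
  have hrat : ∃ r : ℚ, T 1 + T v = r := by
    refine ⟨(2 * (Fintype.card F * Module.finrank ℂ (fixU ρ) - Module.finrank ℂ N)) /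
      ((Fintype.card F : ℚ) - 1), ?_⟩
    push_cast
    field_simp
    linear_combination -hsum
  obtain ⟨z, hz⟩ := GaloisBasic.exists_int_of_isIntegral
    ((isIntegral_trace ρ (up 1)).add (isIntegral_trace ρ (up v))) hrat
  refine ⟨z, ?_⟩
  have h1 : ((2 * (Fintype.card F * Module.finrank ℂ (fixU ρ) - Module.finrank ℂ N) : ℤ) : ℂ) =
      (((Fintype.card F : ℤ) - 1) * z : ℤ) := by
    push_cast
    rw [← hz]
    linear_combination hsum
  exact_mod_cast h1

/-- **The degrees.** -/
theorem dims (hq4 : Fintype.card F % 4 = 1) (hρ : ρ (-1) = -1)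
    (hd : Module.finrank ℂ N ≤ Fintype.card F) :
    (Fintype.card F - 1) ∣ 2 * Module.finrank ℂ N ∨ Odd (Module.finrank ℂ N) := by
  have hodd : ringChar F ≠ 2 := by
    intro h
    have h1 := FiniteField.even_card_iff_char_two.1 h
    omega
  obtain ⟨z, hz⟩ := exists_int ρ hodd
  have hle := finrank_fixed_le ρ (fun v => by rw [hρ]; rfl)
  have h2q : 2 ≤ Fintype.card F := Fintype.one_lt_card
  set q := Fintype.card F with hqdef
  set f := Module.finrank ℂ (fixU ρ) with hfdef
  set d := Module.finrank ℂ N with hddef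
  have hf : f ≤ 1 := by
    by_contra hcon
    have h3 : 2 ≤ f := by omega
    have h4 : (q + 1) * 2 ≤ (q + 1) * f := Nat.mul_le_mul_left _ h3
    omega
  rcases Nat.eq_zero_or_pos f with h0 | h0
  · left
    rw [h0] at hz
    have h1 : ((q - 1 : ℕ) : ℤ) ∣ ((2 * d : ℕ) : ℤ) := by
      refine ⟨-z, ?_⟩
      push_cast [Nat.cast_sub (by omega : 1 ≤ q)]
      push_cast at hz
      linarith
    exact Int.natCast_dvd_natCast.1 h1
  · right
    have hf1 : f = 1 := by omega
    rw [hf1] at hz hle
    have h1 : (q : ℤ) + 1 ≤ 2 * d := by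
      have : q + 1 ≤ 2 * d := by omega
      exact_mod_cast this
    have h2 : (d : ℤ) ≤ q := by exact_mod_cast hd
    have h3 : (2 : ℤ) ≤ q := by exact_mod_cast h2q
    have hz0 : 0 ≤ z := by
      by_contra hcon
      push Not at hcon
      push_cast at hz
      nlinarith
    have hz1 : z ≤ 1 := by
      by_contra hcon
      push Not at hcon
      push_cast at hz
      nlinarith
    have hz2 : z = 0 ∨ z = 1 := by omega
    rcases hz2 with h4 | h4
    · rw [h4] at hz
      have h5 : d = q := by
        push_cast at hz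
        have : (d : ℤ) = q := by linarith
        exact_mod_cast this
      rw [h5]
      exact Nat.odd_iff.2 (by omega)
    · rw [h4] at hz
      have h5 : 2 * d = q + 1 := by
        push_cast at hz
        have : (2 * d : ℤ) = q + 1 := by linarith
        exact_mod_cast this
      exact Nat.odd_iff.2 (by omega)

end

/-- The version for characters. -/
theorem dims_char (hq4 : Fintype.card F % 4 = 1) {χ : SpecialLinearGroup (Fin 2) F → ℂ}
    (hχ : IsCharacter (SpecialLinearGroup (Fin 2) F) χ) {d : ℕ} (h1 : χ 1 = d) (ht : χ (-1) = -χ 1)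
    (hd : d ≤ Fintype.card F) : (Fintype.card F - 1) ∣ 2 * d ∨ Odd d := by
  obtain ⟨n, ρ, rfl⟩ := hχ
  have hn : Module.finrank ℂ (Fin n → ℂ) = d := by
    have h2 : ρ.character 1 = (Module.finrank ℂ (Fin n → ℂ) : ℂ) := by
      rw [Representation.character]
      show LinearMap.trace ℂ _ (ρ 1) = _
      rw [map_one]
      exact LinearMap.trace_one ℂ _
    rw [h2] at h1
    exact_mod_cast h1
  have hρ : ρ (-1) = -1 := by
    have hsq : ρ (-1) * ρ (-1) = 1 := by
      rw [← map_mul, neg_one_mul, neg_neg, map_one]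
    set P : Module.End ℂ (Fin n → ℂ) := (2 : ℂ)⁻¹ • (1 + ρ (-1)) with hP
    have hPP : IsIdempotentElem P := by
      show P * P = P
      have h3 : (1 + ρ (-1)) * (1 + ρ (-1)) = (2 : ℂ) • (1 + ρ (-1)) := by
        rw [add_mul, mul_add, mul_add, hsq, one_mul, one_mul, mul_one, two_smul]
        abel
      rw [hP, smul_mul_smul_comm, h3, smul_smul]
      norm_num
    have htr : LinearMap.trace ℂ _ P = 0 := by
      have h3 : LinearMap.trace ℂ _ (ρ (-1)) = - LinearMap.trace ℂ _ (ρ 1) := ht
      rw [hP, map_smul, map_add, h3, map_one ρ, add_neg_cancel, smul_zero]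
    have hP0 : P = 0 := (LinearMap.IsIdempotentElem.trace_eq_zero_iff hPP).1 htr
    have h4 : (2 : ℂ) • P = 1 + ρ (-1) := by
      rw [hP, smul_smul]
      norm_num
    rw [hP0, smul_zero] at h4
    exact (neg_eq_of_add_eq_zero_right h4.symm).symm
  rw [← hn] at hd ⊢
  exact dims ρ hq4 hρ hd

end Cfsg.Agent.Classification.QDW.NearDim
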