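import Mathlib
import Cfsg.Prelude.Def_Characters
import Cfsg.Agent.Characters.Core
import Cfsg.Agent.Characters.Clifford
import Cfsg.Agent.Characters.Linear
import Cfsg.Agent.Characters.DegreeBounds
import Cfsg.Agent.S0806
import Cfsg.Agent.S0276
import Cfsg.Agent.Classification.QDW.Coef
import Cfsg.Agent.Classification.QDW.Inertia
import Cfsg.Agent.Classification.QDW.NearBig
import Cfsg.Agent.Classification.QDW.NearCount
import Cfsg.Agent.Classification.QDW.NearDim

/-!
# The near-tight theorem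
-/

set_option autoImplicit false
set_option linter.unusedSectionVars false

namespace Cfsg.Agent.Classification.QDW.NearTight

open Cfsg Cfsg.Agent.Characters
open Cfsg.Agent.Classification.QDW.Coef Cfsg.Agent.Classification.QDW.Inertia
open Matrix (SpecialLinearGroup ProjectiveSpecialLinearGroup)
open scoped ComplexConjugate

universe u

section Irr

variable {F : Type*} [Field F] [Fintype F] {L : Type u} [Group L] [Finite L]

theorem center_cases {A : SpecialLinearGroup (Fin 2) F}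
    (hA : A ∈ Subgroup.center (SpecialLinearGroup (Fin 2) F)) : A = 1 ∨ A = -1 := by
  obtain ⟨r, hr, h⟩ := Matrix.SpecialLinearGroup.mem_center_iff.1 hA
  rw [Fintype.card_fin] at hr
  rcases (mul_self_eq_one_iff.1 (by rw [← sq]; exact hr) : r = 1 ∨ r = -1) with h1 | h1
  · left
    rw [h1, map_one] at h
    exact Subtype.ext h.symm
  · right
    rw [h1, map_neg, map_one] at h
    exact Subtype.ext h.symm

theorem eq_top_of_index_le (h13 : 13 ≤ Fintype.card F) {K : Subgroup L}
    {φ : L →* SpecialLinearGroup (Fin 2) F} (hφ : Function.Surjective φ) (hker : φ.ker = K)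
    {t : L} (hφt : φ t = -1) {H : Subgroup L} (hKH : K ≤ H) (htH : t ∈ H)
    (hi : H.index ≤ Fintype.card F) : H = ⊤ := by
  let π : L →* ProjectiveSpecialLinearGroup (Fin 2) F :=
    (QuotientGroup.mk' (Subgroup.center (SpecialLinearGroup (Fin 2) F))).comp φ
  have hπ : Function.Surjective π := (QuotientGroup.mk'_surjective _).comp hφ
  have hle : π.ker ≤ H := by
    intro x hx
    have h1 : φ x ∈ Subgroup.center (SpecialLinearGroup (Fin 2) F) := by
      have h2 : QuotientGroup.mk' (Subgroup.center (SpecialLinearGroup (Fin 2) F)) (φ x) = 1 := hx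
      rwa [QuotientGroup.mk'_apply, QuotientGroup.eq_one_iff] at h2
    rcases center_cases h1 with h2 | h2
    · exact hKH (by rw [← hker]; exact h2)
    · have h3 : t⁻¹ * x ∈ K := by
        rw [← hker, MonoidHom.mem_ker, map_mul, map_inv, h2, hφt, inv_mul_cancel]
      have h4 : x = t * (t⁻¹ * x) := by group
      rw [h4]
      exact H.mul_mem htH (hKH h3)
  have h1 : (H.map π).comap π = H := Subgroup.comap_map_eq_self hle
  have h2 : (H.map π).index = H.index := by
    rw [← Subgroup.index_comap_of_surjective (H.map π) hπ, h1]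
  by_contra hne
  have h3 : H.map π ≠ ⊤ := by
    intro h4
    rw [h4, Subgroup.comap_top] at h1
    exact hne h1.symm
  have h4 := (Cfsg.Agent.S0806.result (F := F) (q := Fintype.card F) rfl (by
    simp only [Finset.mem_insert, Finset.mem_singleton]
    omega)).1 _ h3
  omega

open Classical in
/-- The irreducible characters of `L` of degree at most `q`, with `-1` at `t`: on `K` they are multiples
of an invariant linear character. -/
theorem irr_over (hq4 : Fintype.card F % 4 = 1) (h13 : 13 ≤ Fintype.card F) {K : Subgroup L}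
    [hN : K.Normal] (hodd : Odd (Nat.card K)) {φ : L →* SpecialLinearGroup (Fin 2) F}
    (hφ : Function.Surjective φ) (hker : φ.ker = K) {t : L} (htt : t * t = 1)
    (htc : ∀ x, Commute t x) (hφt : φ t = -1) {B : Subgroup L} {K₁ X T : Subgroup B}
    (hB : NearBig.BigN (Fintype.card F) ((Fintype.card F - 1) / 2) K B K₁ X T t)
    {ψ : L → ℂ} (hψ : IsIrrCharacter L ψ) (hψt : ψ t = -ψ 1) {b : ℕ} (hb : ψ 1 = b)
    (hbq : b ≤ Fintype.card F) :
    ∃ (l : K →* ℂˣ) (d : ℕ), 1 ≤ d ∧ (∀ k : K, ψ k = d * (l k : ℂ)) ∧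
      ∀ (x : L) (k : K), l ⟨x * k * x⁻¹, hN.conj_mem k k.2 x⟩ = l k := by
  let _ : Fintype K := Fintype.ofFinite _
  obtain ⟨lam, χ, hlam, hχ, hadd, -⟩ := exists_constituent (LinearMap.proj (1 : K))
    (Clifford.isCharacter_restrict K (Core.isIrr_isCharacter hψ))
    (Core.isIrr_apply_one_ne_zero hψ)
  have hadd' : ∀ k : K, ψ k = lam k + χ k := fun k => congrFun hadd k
  obtain ⟨a, ha0, ha⟩ := Core.isIrr_apply_one hlam
  have hst : stab K lam = ⊤ := by
    refine eq_top_of_index_le h13 hφ hker hφt (le_stab (Core.isIrr_isClassFunction hlam))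
      (center_le_stab htc) ?_
    have h1 := index_mul_le hlam (Core.isIrr_isCharacter hψ) hχ hadd' ha hb
    calc (stab K lam).index = (stab K lam).index * 1 := (mul_one _).symm
      _ ≤ (stab K lam).index * a := Nat.mul_le_mul_left _ ha0
      _ ≤ b := h1
      _ ≤ Fintype.card F := hbq
  obtain ⟨d, hd1, hd⟩ := exists_mult hlam hst hψ hχ hadd'
  have hbda : b = d * a := by
    have h1 := hd 1
    have h2 : ψ ((1 : K) : L) = b := hb
    rw [h2, ha] at h1
    exact_mod_cast h1
  have hbe : Even b := NearCount.even_degree htt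
    (NearCount.mem_commutator (by omega) hodd hφ hker htt htc) (Core.isIrr_isCharacter hψ) hψt hb
  have hao : Odd a := by
    obtain ⟨n, ρ, hρ, hρl⟩ := hlam
    have h1 := DegreeBounds.finrank_dvd_card ρ
    have h2 : (Module.finrank ℂ (Fin n → ℂ) : ℂ) = a := by
      rw [← ha, ← hρl, Representation.char_one]
    have h3 : Module.finrank ℂ (Fin n → ℂ) = a := by exact_mod_cast h2
    rw [h3] at h1
    exact Odd.of_dvd_nat hodd h1
  have hde : Even d := by
    rw [hbda, Nat.even_mul] at hbe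
    rcases hbe with h1 | h1
    · exact h1
    · exact absurd h1 (Nat.not_even_iff_odd.2 hao)
  have hd2 : 2 ≤ d := by
    obtain ⟨r, hr⟩ := hde
    omega
  have hdeg := NearBig.degree_ge hB hψ hlam hd2 hd ha hb
  have ha1 : a = 1 := by
    by_contra hne
    have h3 : 3 ≤ a := by
      obtain ⟨r, hr⟩ := hao
      omega
    have h4 : (Fintype.card F - 1) / 2 * 3 ≤ (Fintype.card F - 1) / 2 * a :=
      Nat.mul_le_mul_left _ h3
    omega
  have hlam1 : lam 1 = 1 := by rw [ha, ha1, Nat.cast_one]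
  obtain ⟨l, hl⟩ := Linear.exists_hom_of_isIrrCharacter hlam hlam1
  refine ⟨l, d, hd1, fun k => ?_, fun x k => ?_⟩
  · rw [hd k]
    congr 1
    exact congrFun hl k
  · have h1 : x ∈ stab K lam := by rw [hst]; exact Subgroup.mem_top x
    have h2 := mem_stab.1 h1 k
    rw [hl] at h2
    exact Units.ext h2

end Irr

section Mult

variable {K : Type u} [Group K] [Finite K]

theorem two_mult_le [Fintype K] {Y : K → ℂ} (hY : IsCharacter K Y) {y : ℕ} (hy : Y 1 = y)
    {l l' : K →* ℂˣ} (hne : l ≠ l') {m m' : ℕ} (hm : classInner Y (fun k => (l k : ℂ)) = m)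
    (hm' : classInner Y (fun k => (l' k : ℂ)) = m') : m + m' ≤ y := by
  classical
  have := Core.finite_irr (G := K)
  let _ : Fintype (IrrCharacter K) := Fintype.ofFinite _
  obtain ⟨c, hc⟩ := Core.exists_nat_comb hY
  have hdeg : ∀ ζ : IrrCharacter K, ∃ n : ℕ, 0 < n ∧ (ζ : K → ℂ) 1 = n :=
    fun ζ => Core.isIrr_apply_one ζ.2
  choose n hn0 hn using hdeg
  have h1 : y = ∑ ζ : IrrCharacter K, c ζ * n ζ := by
    have h2 : (y : ℂ) = ((∑ ζ : IrrCharacter K, c ζ * n ζ : ℕ) : ℂ) := by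
      rw [← hy, hc, Finset.sum_apply]
      push_cast
      refine Finset.sum_congr rfl fun ζ _ => ?_
      rw [Pi.smul_apply, nsmul_eq_mul, hn]
    exact_mod_cast h2
  set ζ : IrrCharacter K := ⟨fun k => (l k : ℂ), Linear.isIrrCharacter_hom l⟩ with hζ
  set ζ' : IrrCharacter K := ⟨fun k => (l' k : ℂ), Linear.isIrrCharacter_hom l'⟩ with hζ'
  have hcm : ∀ (ξ : IrrCharacter K) (a : ℕ), classInner Y (ξ : K → ℂ) = a → c ξ = a := by
    intro ξ a ha
    rw [hc, Core.classInner_sum_nsmul_irr] at ha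
    exact_mod_cast ha
  have h2 : c ζ = m := hcm ζ m hm
  have h3 : c ζ' = m' := hcm ζ' m' hm'
  have hne' : ζ ≠ ζ' := by
    intro h4
    refine hne ?_
    ext k
    exact congrFun (congrArg Subtype.val h4) k
  rw [h1, ← h2, ← h3, ← Finset.sum_pair hne']
  refine (Finset.sum_le_sum_of_subset (Finset.subset_univ _)).trans
    (Finset.sum_le_sum fun ξ _ => Nat.le_mul_of_pos_right _ (hn0 ξ))

theorem mult_le [Fintype K] {Y : K → ℂ} (hY : IsCharacter K Y) {y : ℕ} (hy : Y 1 = y)
    {l : K →* ℂˣ} {m : ℕ} (hm : classInner Y (fun k => (l k : ℂ)) = m) : m ≤ y := by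
  classical
  have := Core.finite_irr (G := K)
  let _ : Fintype (IrrCharacter K) := Fintype.ofFinite _
  obtain ⟨c, hc⟩ := Core.exists_nat_comb hY
  have hdeg : ∀ ζ : IrrCharacter K, ∃ n : ℕ, 0 < n ∧ (ζ : K → ℂ) 1 = n :=
    fun ζ => Core.isIrr_apply_one ζ.2
  choose n hn0 hn using hdeg
  have h1 : y = ∑ ζ : IrrCharacter K, c ζ * n ζ := by
    have h2 : (y : ℂ) = ((∑ ζ : IrrCharacter K, c ζ * n ζ : ℕ) : ℂ) := by
      rw [← hy, hc, Finset.sum_apply]
      push_cast
      refine Finset.sum_congr rfl fun ζ _ => ?_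
      rw [Pi.smul_apply, nsmul_eq_mul, hn]
    exact_mod_cast h2
  set ζ : IrrCharacter K := ⟨fun k => (l k : ℂ), Linear.isIrrCharacter_hom l⟩ with hζ
  have h2 : c ζ = m := by
    have ha : classInner Y (ζ : K → ℂ) = m := hm
    rw [hc, Core.classInner_sum_nsmul_irr] at ha
    exact_mod_cast ha
  rw [h1, ← h2]
  exact (Nat.le_mul_of_pos_right _ (hn0 ζ)).trans
    (Finset.single_le_sum (f := fun ξ => c ξ * n ξ) (fun _ _ => Nat.zero_le _)
      (Finset.mem_univ ζ))

end Mult

section Sect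

variable {L : Type u} [Group L] [Finite L] {S : Type*} [Group S]

/-- The projection on a central kernel of a split epimorphism. -/
def proj {K : Subgroup L} (hK : K ≤ Subgroup.center L) {φ : L →* S} (hker : φ.ker = K)
    {σ : S →* L} (hσ : ∀ x, φ (σ x) = x) : L →* K :=
  MonoidHom.mk' (fun x => ⟨(σ (φ x))⁻¹ * x, by
    rw [← hker, MonoidHom.mem_ker, map_mul, map_inv, hσ, inv_mul_cancel]⟩) (by
    intro x y
    apply Subtype.ext
    show (σ (φ (x * y)))⁻¹ * (x * y) = (σ (φ x))⁻¹ * x * ((σ (φ y))⁻¹ * y)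
    have h1 : (σ (φ x))⁻¹ * x ∈ Subgroup.center L := hK (by
      rw [← hker, MonoidHom.mem_ker, map_mul, map_inv, hσ, inv_mul_cancel])
    have h2 := Subgroup.mem_center_iff.1 h1 (σ (φ y))⁻¹
    calc (σ (φ (x * y)))⁻¹ * (x * y) = (σ (φ y))⁻¹ * ((σ (φ x))⁻¹ * x) * y := by
          rw [map_mul, map_mul, mul_inv_rev]
          group
      _ = (σ (φ x))⁻¹ * x * (σ (φ y))⁻¹ * y := by rw [h2]
      _ = _ := by group)

theorem exists_nu {K : Subgroup L} [hN : K.Normal] [Fintype K] (hK : K ≤ Subgroup.center L)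
    {φ : L →* S} (hker : φ.ker = K) {σ : S →* L} (hσ : ∀ x, φ (σ x) = x) {Y : L → ℂ}
    (hY : IsCharacter L Y) (l : K →* ℂˣ) :
    ∃ ν : S → ℂ, IsCharacter S ν ∧
      ∀ x, ν x = (Nat.card K : ℂ)⁻¹ * ∑ k : K, Y (σ x * k) * conj (l k : ℂ) := by
  have hZ : IsCharacter L (fun x => Y x * conj ((l.comp (proj hK hker hσ)) x : ℂ)) :=
    Core.isCharacter_mul hY (Core.isCharacter_conj (Linear.isCharacter_hom _))
  obtain ⟨χ₀, χ₁, h0, -, -, havg, -, -⟩ := CoreConst.exists_fixed_moved K hZ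
  refine ⟨fun x => χ₀ (σ x), Core.isCharacter_comp σ h0, fun x => ?_⟩
  refine (havg (σ x)).trans ?_
  congr 1
  refine Finset.sum_congr rfl fun k _ => ?_
  have h1 : proj hK hker hσ (σ x * k) = k := by
    apply Subtype.ext
    show (σ (φ (σ x * k)))⁻¹ * (σ x * k) = k
    have h2 : φ k = 1 := by
      rw [← MonoidHom.mem_ker, hker]
      exact k.2
    rw [map_mul, hσ, h2, mul_one, inv_mul_cancel_left]
  rw [MonoidHom.comp_apply, h1]

end Sect

section Main

variable {F : Type*} [Field F] [Fintype F]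

theorem card_L {L : Type u} [Group L] [Finite L] {K : Subgroup L}
    {φ : L →* SpecialLinearGroup (Fin 2) F} (hφ : Function.Surjective φ) (hker : φ.ker = K) :
    Nat.card L = Nat.card K * (Fintype.card F * (Fintype.card F ^ 2 - 1)) := by
  rw [← K.card_mul_index, ← hker, Subgroup.index_ker, MonoidHom.range_eq_top.2 hφ,
    Nat.card_congr Subgroup.topEquiv.toEquiv, Cfsg.Agent.S0276.card_sl_two rfl]

/-- the final arithmetic -/
theorem arith {q e r d : ℕ} (hr : Odd r) (he : 1 ≤ e) (hq : q - 1 = 2 ^ e * r) (hq5 : 5 ≤ q)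
    (hd0 : 1 ≤ d) (h : (q - 1) ∣ 2 * d ∨ Odd d) (h1 : 2 ^ (e + 1) ∣ 2 * d)
    (h2 : 2 * d ≤ q ∨ (2 ^ (e + 2) ∣ 2 * d ∧ 2 * d ≤ 2 * q)) : False := by
  have hde : Even d := by
    obtain ⟨c, hc⟩ := h1
    rw [pow_succ] at hc
    have h3 : d = 2 ^ e * c := by linarith
    rw [h3]
    exact (Nat.even_pow.2 ⟨even_two, by omega⟩).mul_right c
  have h3 : (q - 1) ∣ 2 * d := by
    rcases h with h | h
    · exact h
    · exact absurd hde (Nat.not_even_iff_odd.2 h)
  obtain ⟨j, hj⟩ := h3
  have hj0 : j ≠ 0 := by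
    rintro rfl
    omega
  have h2e : 0 < 2 ^ e := by positivity
  rcases h2 with h2 | ⟨h2, h4⟩
  · have hj1 : j = 1 := by
      by_contra hne
      have h5 : 2 ≤ j := by omega
      have h6 : (q - 1) * 2 ≤ (q - 1) * j := Nat.mul_le_mul_left _ h5
      omega
    rw [hj, hj1, mul_one, hq, pow_succ] at h1
    have h5 : 2 ∣ r := Nat.dvd_of_mul_dvd_mul_left h2e h1
    exact (Nat.not_even_iff_odd.2 hr) (even_iff_two_dvd.2 h5)
  · have hj2 : j ≤ 2 := by
      by_contra hne
      have h5 : 3 ≤ j := by omega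
      have h6 : (q - 1) * 3 ≤ (q - 1) * j := Nat.mul_le_mul_left _ h5
      omega
    rw [hj, hq, pow_add, mul_assoc] at h2
    have h5 : 2 ^ 2 ∣ r * j := Nat.dvd_of_mul_dvd_mul_left h2e h2
    have h6 : Nat.Coprime (2 ^ 2) r := Nat.Coprime.pow_left 2 (Nat.coprime_two_left.2 hr)
    have h7 : 2 ^ 2 ∣ j := h6.dvd_of_dvd_mul_left h5
    have h8 := Nat.le_of_dvd (by omega) h7
    omega

/-- A character vanishing on the elements of even order: its degree is divisible by the order of
every `2`-subgroup. -/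
theorem card_dvd_degree {C : Type u} [Group C] [Finite C] {H : Subgroup C} (hH : IsPGroup 2 H)
    {Y : C → ℂ} (hY : IsCharacter C Y) (h0 : ∀ g, Even (orderOf g) → Y g = 0) {y : ℕ}
    (hy : Y 1 = y) : Nat.card H ∣ y := by
  classical
  let _ : Fintype (⊥ : Subgroup C) := Fintype.ofFinite _
  refine NearCount.card_dvd (K := (⊥ : Subgroup C)) (by rw [Subgroup.card_bot]; exact odd_one) hH hY h0
    (1 : (⊥ : Subgroup C) →* ℂˣ) (fun h _ k => rfl) ?_
  rw [Core.classInner_def, Subgroup.card_bot, Finset.sum_eq_single (1 : (⊥ : Subgroup C))]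
  · simp [hy]
  · intro b _ hb
    exact absurd (Subtype.ext (Subgroup.mem_bot.1 b.2)) hb
  · intro h
    exact absurd (Finset.mem_univ _) h

variable {L : Type u} [Group L] [Finite L]

open Classical in
/-- Centrality: the `t = -1` part `Z` of a character whose irreducible constituents have degree at
most `q`; the commutators `[x, k]`, `k` in `K`, are in the kernel. -/
theorem comm_in_ker (hq4 : Fintype.card F % 4 = 1) (h13 : 13 ≤ Fintype.card F) {K : Subgroup L}
    [hN : K.Normal] (hodd : Odd (Nat.card K)) {φ : L →* SpecialLinearGroup (Fin 2) F}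
    (hφ : Function.Surjective φ) (hker : φ.ker = K) {t : L} (htt : t * t = 1)
    (htc : ∀ x, Commute t x) (hφt : φ t = -1) {B : Subgroup L} {K₁ X T : Subgroup B}
    (hB : NearBig.BigN (Fintype.card F) ((Fintype.card F - 1) / 2) K B K₁ X T t)
    {Z : L → ℂ} (hZ : IsCharacter L Z) (hZt : ∀ x, Z (t * x) = -Z x) {z : ℕ} (hz : Z 1 = z)
    (hzq : z ≤ Fintype.card F) :
    (∀ (x k : L), k ∈ K → Z (x * k * x⁻¹ * k⁻¹) = Z 1) ∧ (z ≠ 0 → ∃ (l : K →* ℂˣ) (d : ℕ),
      (∀ (x : L) (k : K), l ⟨x * k * x⁻¹, hN.conj_mem k k.2 x⟩ = l k) ∧ 1 ≤ d ∧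
      (let _ : Fintype K := Fintype.ofFinite _
       classInner (fun k : K => Z k) (fun k => (l k : ℂ)) = d)) := by
  let _ : Fintype L := Fintype.ofFinite _
  let _ : Fintype K := Fintype.ofFinite _
  have := Core.finite_irr (G := L)
  let _ : Fintype (IrrCharacter L) := Fintype.ofFinite _
  obtain ⟨c, hc⟩ := Core.exists_nat_comb hZ
  have key : ∀ ψ : IrrCharacter L, c ψ ≠ 0 → ∃ (l : K →* ℂˣ) (d : ℕ), 1 ≤ d ∧
      (∀ k : K, (ψ : L → ℂ) k = d * (l k : ℂ)) ∧
      ∀ (x : L) (k : K), l ⟨x * k * x⁻¹, hN.conj_mem k k.2 x⟩ = l k := by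
    intro ψ hψ0
    have h1 : classInner Z (ψ : L → ℂ) ≠ 0 := by
      rw [hc, Core.classInner_sum_nsmul_irr]
      exact Nat.cast_ne_zero.2 hψ0
    obtain ⟨χ, hχ, hadd⟩ := exists_add_of_classInner hZ ψ.2 h1
    obtain ⟨τ, hτ, hτ'⟩ := central_sign htt htc ψ.2
    have h2 := BigDeg.classInner_shift t (f := Z) (g := (ψ : L → ℂ)) (τ := -1) (ω := τ)
      (fun x => by rw [hZt]; ring) hτ'
    have h3 : τ = -1 := by
      have h4 : (-1 : ℂ) * conj τ = 1 := (mul_eq_right₀ h1).1 h2.symm
      exact (BigDeg.sign_eq_of_mul (Or.inr rfl) hτ h4).symm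
    obtain ⟨b, -, hb⟩ := Core.isIrr_apply_one ψ.2
    obtain ⟨b', hb'⟩ := Core.isCharacter_apply_one hχ
    have h5 : z = b + b' := by
      have h6 := congrFun hadd 1
      rw [Pi.add_apply, hz, hb, hb'] at h6
      exact_mod_cast h6
    refine irr_over hq4 h13 hodd hφ hker htt htc hφt hB ψ.2 ?_ hb (by omega)
    have h6 := hτ' 1
    rw [mul_one, h3] at h6
    rw [h6]
    ring
  constructor
  · intro x k hk
    have h1 : ∀ ψ : IrrCharacter L, c ψ ≠ 0 →
        (ψ : L → ℂ) (x * k * x⁻¹ * k⁻¹) = (ψ : L → ℂ) 1 := by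
      intro ψ hψ0
      obtain ⟨l, d, -, hd, hl⟩ := key ψ hψ0
      have h2 := hd (⟨x * k * x⁻¹, hN.conj_mem k hk x⟩ * (⟨k, hk⟩ : K)⁻¹)
      rw [map_mul, hl x ⟨k, hk⟩, map_inv, mul_inv_cancel] at h2
      have h3 := hd 1
      rw [map_one] at h3
      exact h2.trans h3.symm
    rw [hc, Finset.sum_apply, Finset.sum_apply]
    refine Finset.sum_congr rfl fun ψ _ => ?_
    rw [Pi.smul_apply, Pi.smul_apply]
    by_cases h2 : c ψ = 0
    · rw [h2, zero_smul, zero_smul]
    · rw [h1 ψ h2]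
  · intro hz0
    have h1 : ∃ ψ : IrrCharacter L, c ψ ≠ 0 := by
      by_contra hcon
      push Not at hcon
      refine hz0 ?_
      have h2 : Z 1 = 0 := by
        rw [hc, Finset.sum_apply]
        refine Finset.sum_eq_zero fun ψ _ => ?_
        rw [hcon ψ, zero_smul, Pi.zero_apply]
      rw [hz] at h2
      exact_mod_cast h2
    obtain ⟨ψ, hψ⟩ := h1
    obtain ⟨l, d, hd1, hd, hl⟩ := key ψ hψ
    have h2 : classInner Z (ψ : L → ℂ) ≠ 0 := by
      rw [hc, Core.classInner_sum_nsmul_irr]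
      exact Nat.cast_ne_zero.2 hψ
    obtain ⟨χ, hχ, hadd⟩ := exists_add_of_classInner hZ ψ.2 h2
    obtain ⟨n, hn⟩ := Core.classInner_isNat (Clifford.isCharacter_restrict K hχ)
      (Linear.isCharacter_hom l)
    refine ⟨l, d + n, hl, by omega, ?_⟩
    have h3 : (fun k : K => Z k) = (d : ℂ) • (fun k : K => (l k : ℂ)) + fun k : K => χ k := by
      funext k
      rw [hadd, Pi.add_apply, Pi.add_apply, hd k, Pi.smul_apply, smul_eq_mul]
    show classInner (fun k : K => Z k) (fun k => (l k : ℂ)) = ((d + n : ℕ) : ℂ)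
    rw [h3, Core.classInner_add_left, Core.classInner_smul_left,
      Core.classInner_irr_self (Linear.isIrrCharacter_hom l), hn]
    push_cast
    ring

variable {C : Type u} [Group C] [Finite C]

open Classical in
/-- **The near-tight theorem**, with the Frobenius instance and the section as hypotheses. -/
theorem core_eq_bot_aux (hq4 : Fintype.card F % 4 = 1) (hq5 : 5 ≤ Fintype.card F) {K L : Subgroup C}
    [hN : K.Normal] (hodd : Odd (Nat.card K)) (hLi : L.index = 2) (hKL : K ≤ L)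
    {φ : L →* SpecialLinearGroup (Fin 2) F} (hφ : Function.Surjective φ)
    (hker : φ.ker = K.subgroupOf L) {t : C} (htt : t * t = 1) (htc : ∀ x, Commute t x)
    (htL : t ∈ L) (hφt : φ ⟨t, htL⟩ = -1)
    (hBig : 13 ≤ Fintype.card F → ∃ (B : Subgroup L) (K₁ X T : Subgroup B),
      NearBig.BigN (Fintype.card F) ((Fintype.card F - 1) / 2) (K.subgroupOf L) B K₁ X T ⟨t, htL⟩)
    (hSec : 13 ≤ Fintype.card F → K.subgroupOf L ≤ Subgroup.center L →
      ∃ σ : SpecialLinearGroup (Fin 2) F →* L, ∀ x, φ (σ x) = x)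
    {Y : C → ℂ} (hY : IsCharacter C Y) (h0 : ∀ g, Even (orderOf g) → Y g = 0)
    (hf : ∀ k ∈ K, Y k = Y 1 → k = 1) {y : ℕ} (hy : Y 1 = y) (hyq : y ≤ 2 * Fintype.card F) :
    K = ⊥ := by
  set q := Fintype.card F with hq
  let _ : Fintype C := Fintype.ofFinite _
  let _ : Fintype K := Fintype.ofFinite _
  let _ : Fintype L := Fintype.ofFinite _
  have hfin2 : Fact (Nat.Prime 2) := ⟨Nat.prime_two⟩
  have hcK' : Nat.card (K.subgroupOf L) = Nat.card K :=
    Nat.card_congr (Subgroup.subgroupOfEquivOfLe hKL).toEquiv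
  have hodd' : Odd (Nat.card (K.subgroupOf L)) := by rw [hcK']; exact hodd
  have hcL : Nat.card L = Nat.card K * (q * (q ^ 2 - 1)) := by rw [card_L hφ hker, hcK']
  have hcC : Nat.card C = 2 * Nat.card L := by rw [← L.index_mul_card, hLi]
  -- the case of degree zero
  by_cases hy0 : y = 0
  · have h1 : Y = 0 := eq_zero_of_apply_one hY (by rw [hy, hy0, Nat.cast_zero])
    rw [Subgroup.eq_bot_iff_forall]
    intro k hk
    exact hf k hk (by rw [h1]; rfl)
  exfalso
  have hSyl : ∀ n : ℕ, 2 ^ n ∣ Nat.card C → 2 ^ n ∣ y := by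
    intro n hn
    obtain ⟨H, hH⟩ := Sylow.exists_subgroup_card_pow_prime 2 hn
    rw [← hH]
    exact card_dvd_degree (IsPGroup.of_card hH) hY h0 hy
  -- `q ≥ 13`
  have h13 : 13 ≤ q := by
    by_contra hcon
    have h1 : q = 5 ∨ q = 9 := by omega
    rcases h1 with h1 | h1
    · have h2 : 2 ^ 4 ∣ y := hSyl 4 ⟨15 * Nat.card K, by rw [hcC, hcL, h1]; norm_num; ring⟩
      have h3 := Nat.le_of_dvd (by omega) h2
      omega
    · have h2 : 2 ^ 5 ∣ y := hSyl 5 ⟨45 * Nat.card K, by rw [hcC, hcL, h1]; norm_num; ring⟩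
      have h3 := Nat.le_of_dvd (by omega) h2
      omega
  obtain ⟨B, K₁, X, T, hB⟩ := hBig h13
  -- the involution `t` in `L`
  set tL : L := ⟨t, htL⟩ with htLdef
  have htt' : tL * tL = 1 := Subtype.ext htt
  have htc' : ∀ x : L, Commute tL x := fun x => Subtype.ext (htc x).eq
  have ht1 : t ≠ 1 := by
    intro h1
    have h2 : tL = 1 := Subtype.ext h1
    rw [h2, map_one] at hφt
    have h3 := congrArg (fun A : SpecialLinearGroup (Fin 2) F => A.1 0 0) hφt
    have h4 : (1 : F) = -1 := by simpa using h3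
    have h5 : (2 : F) = 0 := by linear_combination h4
    have h6 : ringChar F = 2 := by
      have h7 := (ringChar.spec F 2).1 (by exact_mod_cast h5)
      rcases (Nat.dvd_prime Nat.prime_two).1 h7 with h8 | h8
      · exfalso
        have := CharP.ringChar_ne_one (R := F)
        exact this h8
      · exact h8
    have h7 := FiniteField.even_card_iff_char_two.1 h6
    omega
  have hzt : IsPGroup 2 (Subgroup.zpowers t) := by
    refine IsPGroup.of_card (n := 1) ?_
    rw [Nat.card_zpowers, pow_one]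
    exact orderOf_eq_prime (by rw [sq]; exact htt) ht1
  have hYt : ∀ k ∈ K, Y (t * k) = 0 := by
    intro k hk
    rw [(htc k).eq]
    exact h0 _ (NearCount.even_orderOf_mul hodd hzt hk (Subgroup.mem_zpowers t) ht1)
  -- the two parts of `Y` on `L`
  obtain ⟨Z₀, Z, hZ₀, hZ, hadd, hZ₀t, hZt⟩ :=
    GlauberTwo.exists_sign_split htt' htc' (Clifford.isCharacter_restrict L hY)
  have hYK : ∀ x : L, (x : C) ∈ K → Y x = 2 * Z x := by
    intro x hx
    have h1 : Y x = Z₀ x + Z x := congrFun hadd x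
    have h2 : Y ((tL * x : L) : C) = Z₀ (tL * x) + Z (tL * x) := congrFun hadd (tL * x)
    have h3 : Y ((tL * x : L) : C) = 0 := hYt _ hx
    rw [h3, hZ₀t, hZt] at h2
    rw [h1]
    linear_combination -h2
  obtain ⟨z, hz⟩ := Core.isCharacter_apply_one hZ
  have hyz : y = 2 * z := by
    have h1 : Y ((1 : L) : C) = 2 * Z 1 := hYK 1 K.one_mem
    have h2 : Y ((1 : L) : C) = y := hy
    rw [h2, hz] at h1
    exact_mod_cast h1
  have hzq : z ≤ q := by omega
  have hNL : (K.subgroupOf L).Normal := inferInstance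
  obtain ⟨hcomm, hex⟩ := comm_in_ker hq4 h13 hodd' hφ hker htt' htc' hφt hB hZ hZt hz hzq
  -- `K` is central in `L`
  have hcent : K.subgroupOf L ≤ Subgroup.center L := by
    intro k hk
    rw [Subgroup.mem_center_iff]
    intro x
    have h1 := hcomm x k hk
    have h2 : ((x * k * x⁻¹ * k⁻¹ : L) : C) ∈ K :=
      K.mul_mem (hN.conj_mem _ hk _) (K.inv_mem hk)
    have h3 : Y ((x * k * x⁻¹ * k⁻¹ : L) : C) = Y 1 := by
      have h4 : Y ((1 : L) : C) = 2 * Z 1 := hYK 1 K.one_mem
      have h5 : Y ((1 : L) : C) = Y 1 := rfl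
      rw [hYK _ h2, h1, ← h5, h4]
    have h4 : x * k * x⁻¹ * k⁻¹ = 1 := Subtype.ext (hf _ h2 h3)
    calc x * k = (x * k * x⁻¹ * k⁻¹) * (k * x) := by group
      _ = k * x := by rw [h4, one_mul]
  obtain ⟨σ, hσ⟩ := hSec h13 hcent
  obtain ⟨l, d, hl, hd1, hd⟩ := hex (by omega)
  -- the character of `SL(2, F)`
  let _ : Fintype (K.subgroupOf L) := Fintype.ofFinite _
  have hd' : classInner (fun k : K.subgroupOf L => Z k) (fun k => (l k : ℂ)) = d := by
    convert hd
  obtain ⟨ν, hν, hνx⟩ := exists_nu hcent hker hσ hZ l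
  have hν1 : ν 1 = d := by
    rw [hνx, map_one, ← hd', Core.classInner_def]
    simp only [one_mul]
  have hσt : σ (-1) = tL := by
    have h1 : tL⁻¹ * σ (-1) ∈ K.subgroupOf L := by
      rw [← hker, MonoidHom.mem_ker, map_mul, map_inv, hσ, hφt, inv_mul_cancel]
    set k := tL⁻¹ * σ (-1) with hk
    have h2 : σ (-1) = tL * k := by rw [hk]; group
    have h3 : σ (-1) * σ (-1) = 1 := by
      rw [← map_mul, neg_one_mul, neg_neg, map_one]
    have h4 : k ^ 2 = 1 := by
      rw [h2] at h3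
      have h5 : tL * k * (tL * k) = (tL * tL) * (k * k) := by
        rw [mul_assoc, ← mul_assoc k, ← (htc' k).eq]
        group
      rw [h5, htt', one_mul] at h3
      rw [sq, h3]
    have h5 : k ^ Nat.card (K.subgroupOf L) = 1 :=
      congrArg Subtype.val (pow_card_eq_one' (x := (⟨k, h1⟩ : K.subgroupOf L)))
    have h6 : orderOf k ∣ Nat.gcd 2 (Nat.card (K.subgroupOf L)) :=
      Nat.dvd_gcd (orderOf_dvd_of_pow_eq_one h4) (orderOf_dvd_of_pow_eq_one h5)
    rw [(Nat.coprime_two_left.2 hodd').gcd_eq_one, Nat.dvd_one] at h6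
    rw [h2, orderOf_eq_one_iff.1 h6, mul_one]
  have hνt : ν (-1) = -ν 1 := by
    rw [hνx, hνx, hσt, map_one, ← mul_neg, ← Finset.sum_neg_distrib]
    congr 1
    refine Finset.sum_congr rfl fun k _ => ?_
    rw [hZt, one_mul, neg_mul]
  -- multiplicities
  have hm' : classInner (fun k : K.subgroupOf L => Y (k : L)) (fun k => (l k : ℂ)) =
      ((2 * d : ℕ) : ℂ) := by
    have h1 : (fun k : K.subgroupOf L => Y (k : L)) =
        (2 : ℂ) • fun k : K.subgroupOf L => Z k := by
      funext k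
      rw [Pi.smul_apply, smul_eq_mul]
      exact hYK k k.2
    rw [h1, Core.classInner_smul_left, hd']
    push_cast
    rfl
  let eK : K.subgroupOf L ≃* K := Subgroup.subgroupOfEquivOfLe hKL
  let lK : K →* ℂˣ := l.comp eK.symm.toMonoidHom
  have hm : classInner (fun k : K => Y k) (fun k => (lK k : ℂ)) = ((2 * d : ℕ) : ℂ) := by
    rw [← hm', Core.classInner_def, Core.classInner_def, hcK']
    congr 1
    refine Fintype.sum_equiv eK.symm.toEquiv _ _ fun k => ?_
    rfl
  have hresK : IsCharacter K (fun k : K => Y k) := Clifford.isCharacter_restrict K hY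
  have hyK : (fun k : K => Y k) 1 = y := hy
  -- the two-part of `q - 1`
  obtain ⟨e, r, hr, her⟩ := Nat.exists_eq_two_pow_mul_odd (n := q - 1) (by omega)
  have he : 1 ≤ e := by
    by_contra hcon
    have h1 : e = 0 := by omega
    rw [h1, pow_zero, one_mul] at her
    rw [← her] at hr
    exact (Nat.not_even_iff_odd.2 hr) (Nat.even_iff.2 (by omega))
  have h2q : q ^ 2 - 1 = (q - 1) * (q + 1) := by
    obtain ⟨s, hs⟩ : ∃ s, q = s + 1 := ⟨q - 1, by omega⟩
    rw [hs]
    have : (s + 1) ^ 2 = (s + 1 - 1) * (s + 1 + 1) + 1 := by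
      rw [Nat.add_sub_cancel]
      ring
    omega
  obtain ⟨c, hc⟩ : 2 ∣ q + 1 := by omega
  have hdvdL : 2 ^ (e + 1) ∣ Nat.card L :=
    ⟨Nat.card K * (q * (r * c)), by rw [hcL, h2q, her, hc, pow_succ]; ring⟩
  have hdvdC : 2 ^ (e + 2) ∣ Nat.card C := by
    rw [hcC, pow_succ, mul_comm]
    exact Nat.mul_dvd_mul_left 2 hdvdL
  have h0L : ∀ g : L, Even (orderOf g) → (fun x : L => Y x) g = 0 := by
    intro g hg
    refine h0 _ ?_
    rwa [Subgroup.orderOf_coe]
  have hdv1 : 2 ^ (e + 1) ∣ 2 * d := by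
    obtain ⟨H, hH⟩ := Sylow.exists_subgroup_card_pow_prime 2 hdvdL
    rw [← hH]
    exact NearCount.card_dvd hodd' (IsPGroup.of_card hH) (Clifford.isCharacter_restrict L hY) h0L l
      (fun h _ k => hl h k) hm'
  have hdims : (q - 1) ∣ 2 * d ∨ Odd d := by
    refine NearDim.dims_char hq4 hν hν1 hνt ?_
    have h1 : 2 * d ≤ y := mult_le hresK hyK hm
    omega
  refine arith hr he her (by omega) hd1 hdims hdv1 ?_
  by_cases hinv : ∀ (c : C) (k : K), lK ⟨c * k * c⁻¹, hN.conj_mem k k.2 c⟩ = lK k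
  · right
    refine ⟨?_, (mult_le hresK hyK hm).trans hyq⟩
    obtain ⟨H, hH⟩ := Sylow.exists_subgroup_card_pow_prime 2 hdvdC
    rw [← hH]
    exact NearCount.card_dvd hodd (IsPGroup.of_card hH) hY h0 lK (fun h _ k => hinv h k) hm
  · left
    push Not at hinv
    obtain ⟨c, k₀, hk₀⟩ := hinv
    let f : K →* K := (MulAut.conjNormal (H := K) c).toMonoidHom
    have hfk : ∀ k : K, f k = ⟨c * k * c⁻¹, hN.conj_mem k k.2 c⟩ := fun k => Subtype.ext rfl
    have hne : lK ≠ lK.comp f := by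
      intro h1
      refine hk₀ ?_
      have h2 : lK k₀ = lK (f k₀) := DFunLike.congr_fun h1 k₀
      rw [hfk] at h2
      exact h2.symm
    have hm2 : classInner (fun k : K => Y k) (fun k => ((lK.comp f) k : ℂ)) =
        ((2 * d : ℕ) : ℂ) := by
      rw [← hm, Core.classInner_def, Core.classInner_def]
      congr 1
      refine Fintype.sum_equiv (MulAut.conjNormal (H := K) c).toEquiv _ _ fun k => ?_
      have h1 : Y (c * k * c⁻¹) = Y k := Core.isCharacter_isClassFunction hY k c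
      show Y k * conj ((lK (f k) : ℂˣ) : ℂ) = Y ((f k : K) : C) * conj ((lK (f k) : ℂˣ) : ℂ)
      rw [hfk k, h1]
    have h3 := two_mult_le hresK hyK hne hm hm2
    omega

end Main

end Cfsg.Agent.Classification.QDW.NearTight
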