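import Mathlib
import Cfsg.Agent.Characters.Core
import Cfsg.Agent.Classification.QDW.CoreConst
import Cfsg.Agent.Classification.QDW.NearTight
import Cfsg.Agent.Classification.QDW.NearInst
import Cfsg.Agent.Classification.QDW.NearSplit
import Cfsg.Agent.Classification.QDW.ThetaLB

/-!
# The near-tight theorem, final forms

* `core_eq_bot_char`: a group `C` with `C / K ≅ SL(2, q)⟨u⟩`, `|K|` odd, and a character `X` of `C`
  constant on `g K` for `g` of even order, with `dim [X, K] ≤ 2 q` and `C_K(X) = 1`: `K = 1`.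
* `core_eq_bot`: the same for `C = C(t)` in a group `G` of type D, in the language of `Theta`.
-/

set_option autoImplicit false
set_option linter.unusedSectionVars false

namespace Cfsg.Agent.Classification.QDW.NearMain

open Cfsg Cfsg.Agent.Characters Module
open scoped ComplexConjugate

universe u

section Char

variable {F : Type*} [Field F] [Fintype F] {C : Type u} [Group C] [Finite C]

/-- **The near-tight theorem.** -/
theorem core_eq_bot_char (hq4 : Fintype.card F % 4 = 1) {K : Subgroup C} [hN : K.Normal]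
    (hodd : Odd (Nat.card K)) {Q : Type*} [Group Q] {π : C →* Q} (hπ : Function.Surjective π)
    (hker : ∀ x, π x = 1 ↔ x ∈ K) {L₀ : Subgroup Q} (hL₀ : L₀.index = 2)
    (e : L₀ ≃* Matrix.SpecialLinearGroup (Fin 2) F) {t : C} (htt : t * t = 1)
    (htc : ∀ x, Commute t x) {htL : π t ∈ L₀} (het : e ⟨π t, htL⟩ = -1) {X : C → ℂ}
    (hX : IsCharacter C X)
    (hconst : ∀ g, Even (orderOf g) → ∀ k ∈ K, X (g * k) = X g)
    (hf : ∀ k ∈ K, X k = X 1 → k = 1) {N n' : ℕ} (hN1 : X 1 = N)
    (hfix : ∀ (_ : Fintype K) (M : ℕ), (Nat.card K : ℂ)⁻¹ * ∑ k : K, X k = M → N ≤ M + n')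
    (hn : n' ≤ 2 * Fintype.card F) : K = ⊥ := by
  have hq5 : 5 ≤ Fintype.card F := by
    have h1 := Fintype.one_lt_card (α := F)
    omega
  let _ : Fintype K := Fintype.ofFinite _
  obtain ⟨χ₀, χ₁, h0, h1, hadd, havg, hinv, hsum⟩ := CoreConst.exists_fixed_moved K hX
  have hadd' : ∀ x, X x = χ₀ x + χ₁ x := fun x => congrFun hadd x
  have hK0 : (Nat.card K : ℂ) ≠ 0 := Nat.cast_ne_zero.2 Nat.card_pos.ne'
  have h2 : ∀ g, Even (orderOf g) → χ₁ g = 0 := by
    intro g hg
    have h3 : χ₀ g = X g := by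
      rw [havg g, Finset.sum_congr rfl (fun (k : K) _ => hconst g hg k k.2), Finset.sum_const,
        Finset.card_univ, nsmul_eq_mul, ← Nat.card_eq_fintype_card, ← mul_assoc,
        inv_mul_cancel₀ hK0, one_mul]
    have h4 := hadd' g
    rw [h3] at h4
    linear_combination -h4
  have h3 : ∀ k ∈ K, χ₁ k = χ₁ 1 → k = 1 := by
    intro k hk h4
    refine hf k hk ?_
    have h5 := hinv 1 k hk
    rw [one_mul] at h5
    rw [hadd', hadd', h4, h5]
  obtain ⟨M, hM⟩ := Core.isCharacter_apply_one h0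
  obtain ⟨y, hy⟩ := Core.isCharacter_apply_one h1
  have h4 : N = M + y := by
    have h5 := hadd' 1
    rw [hN1, hM, hy] at h5
    exact_mod_cast h5
  have h5 : N ≤ M + n' := by
    refine hfix inferInstance M ?_
    rw [← hM, havg 1]
    congr 1
    exact Finset.sum_congr rfl fun k _ => by rw [one_mul]
  -- the subgroup of index two
  set L : Subgroup C := L₀.comap π with hL
  have hKL : K ≤ L := by
    intro k hk
    rw [hL, Subgroup.mem_comap, (hker k).2 hk]
    exact L₀.one_mem
  have hLi : L.index = 2 := by rw [hL, Subgroup.index_comap_of_surjective _ hπ, hL₀]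
  let φ : L →* Matrix.SpecialLinearGroup (Fin 2) F :=
    e.toMonoidHom.comp ((π.comp L.subtype).codRestrict L₀ fun x => x.2)
  have hφx : ∀ x : L, φ x = e ⟨π x, x.2⟩ := fun x => rfl
  have hφs : Function.Surjective φ := by
    intro s
    obtain ⟨c, hc⟩ := hπ (e.symm s)
    have hcL : c ∈ L := by
      rw [hL, Subgroup.mem_comap, hc]
      exact (e.symm s).2
    refine ⟨⟨c, hcL⟩, ?_⟩
    rw [hφx]
    have h6 : (⟨π c, hcL⟩ : L₀) = e.symm s := Subtype.ext hc
    exact (congrArg e h6).trans (e.apply_symm_apply s)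
  have hφk : φ.ker = K.subgroupOf L := by
    ext x
    rw [MonoidHom.mem_ker, hφx, map_eq_one_iff _ e.injective, Subgroup.mem_subgroupOf, ← hker]
    exact ⟨fun h6 => congrArg Subtype.val h6, fun h6 => Subtype.ext h6⟩
  have hodd' : Odd (Nat.card (K.subgroupOf L)) := by
    rw [Nat.card_congr (Subgroup.subgroupOfEquivOfLe hKL).toEquiv]
    exact hodd
  have htt' : (⟨t, htL⟩ : L) * ⟨t, htL⟩ = 1 := Subtype.ext htt
  have htc' : ∀ x : L, Commute (⟨t, htL⟩ : L) x := fun x => Subtype.ext (htc x).eq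
  have ht1 : (⟨t, htL⟩ : L) ≠ 1 := by
    intro h6
    have h7 : φ ⟨t, htL⟩ = -1 := het
    rw [h6, map_one] at h7
    have h8 := congrArg (fun A : Matrix.SpecialLinearGroup (Fin 2) F => A.1 0 0) h7
    have h9 : (1 : F) = -1 := by simpa using h8
    have h10 : (2 : F) = 0 := by linear_combination h9
    have h11 : ringChar F = 2 := by
      have h12 := (ringChar.spec F 2).1 (by exact_mod_cast h10)
      rcases (Nat.dvd_prime Nat.prime_two).1 h12 with h13 | h13
      · exact absurd h13 (CharP.ringChar_ne_one (R := F))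
      · exact h13
    have h12 := FiniteField.even_card_iff_char_two.1 h11
    omega
  exact NearTight.core_eq_bot_aux hq4 hq5 hodd hLi hKL hφs hφk htt htc htL het
    (fun h13 => NearInst.exists_bigN hq4 h13 _ hodd' φ hφs hφk _ htt' ht1 htc' het)
    (fun h13 hc => by
      obtain ⟨σ, hσ, -⟩ := NearSplit.exists_section (F := F) (by rw [Nat.odd_iff]; omega)
        (by omega) (by omega) (K.subgroupOf L) hc hodd' φ hφs hφk
      exact ⟨σ, hσ⟩)
    h1 h2 h3 hy (by omega)

end Char

section Main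

open Subgroup
open Cfsg.Agent.Walter.SylowIn Cfsg.Agent.Walter.OddCoreIn Cfsg.Agent.Walter.Cover
open Cfsg.Agent.Classification.QDW.Theta

variable {F : Type*} [Field F] [Fintype F] {G : Type u} [Group G] [Finite G]
  {X : Type*} [AddCommGroup X] [Module ℂ X] [FiniteDimensional ℂ X]
  {ρ : Representation ℂ G X} {t v : G}

theorem small_core (h : Four t v) (hb1 : K t ⊓ C v ≤ K v)
    (hb2 : K t ⊓ C (t * v) ≤ K (t * v)) : Small t v (K t) := by
  refine ⟨Cfsg.Agent.Walter.Cover.core_odd t, C_le_normalizer_core t (self_mem_C t),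
    C_le_normalizer_core t (mem3_u.mem_C h mem3_t), ?_⟩
  rintro x (rfl | rfl | rfl)
  · exact inf_le_left
  · exact hb1
  · exact hb2

theorem cov_normalizer_core (t : G) : Cov t (normalizer (K t : Set G)) :=
  ⟨C_le_normalizer_core t (self_mem_C t), fun c hc => ⟨1, one_mem _, c,
    mem_inf.2 ⟨C_le_normalizer_core t hc, hc⟩, (one_mul c).symm⟩⟩

/-- **The near-tight theorem in `G`**, with the lower bound as a hypothesis. -/
theorem core_eq_bot (hq4 : Fintype.card F % 4 = 1) (hc : Const ρ) (h : Four t v) (htr : Trans t)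
    (hb1 : K t ⊓ C v ≤ K v) (hb2 : K t ⊓ C (t * v) ≤ K (t * v)) {Q : Type*} [Group Q]
    {π : C t →* Q} (hπ : Function.Surjective π) (hker : ∀ x : C t, π x = 1 ↔ (x : G) ∈ K t)
    {L₀ : Subgroup Q} (hL₀ : L₀.index = 2) (e : L₀ ≃* Matrix.SpecialLinearGroup (Fin 2) F)
    {htC : t ∈ C t} {htL : π ⟨t, htC⟩ ∈ L₀} (het : e ⟨π ⟨t, htC⟩, htL⟩ = -1) {n' : ℕ}
    (hlb : finrank ℂ X ≤ finrank ℂ (fixed ρ (K t)) + n') (hn : n' ≤ 2 * Fintype.card F)
    (hf : ∀ g ∈ K t, ρ.character g = ρ.character 1 → g = 1) : K t = ⊥ := by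
  have hle : K t ≤ C t := fun x hx => core_le_C t hx
  have hNn : ((K t).subgroupOf (C t)).Normal :=
    (normal_subgroupOf_iff_le_normalizer hle).2 (C_le_normalizer_core t)
  have hodd : Odd (Nat.card ((K t).subgroupOf (C t))) := by
    rw [Nat.card_congr (Subgroup.subgroupOfEquivOfLe hle).toEquiv, ← Nat.not_even_iff_odd,
      even_iff_two_dvd]
    exact Cfsg.Agent.Walter.Cover.core_odd t
  have h1 : (K t).subgroupOf (C t) = ⊥ := by
    refine core_eq_bot_char hq4 hodd hπ (fun x => by rw [hker, mem_subgroupOf]) hL₀ e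
      (t := ⟨t, htC⟩) (Subtype.ext h.tt) (fun x => Subtype.ext (mem_C.1 x.2).symm) het
      (Core.isCharacter_comp (C t).subtype (Core.isCharacter_of_rep ρ)) ?_ ?_
      (N := finrank ℂ X) (n' := n') ?_ ?_ hn
    · intro g hg k hk
      refine hc.mul_K h htr hb1 hb2 g.2 ?_ (mem_subgroupOf.1 hk)
      rw [Subgroup.orderOf_coe]
      exact even_iff_two_dvd.1 hg
    · intro k hk h2
      exact Subtype.ext (hf k (mem_subgroupOf.1 hk) h2)
    · show ρ.character 1 = _
      rw [Representation.char_one]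
    · intro _ M hM
      classical
      have : Fintype (K t) := Fintype.ofFinite _
      have h2 := trace_proj ρ (K t)
      have h3 := trace_mul_proj ρ (K t) 1
      rw [map_one, one_mul, h2] at h3
      have h4 : (M : ℂ) = (finrank ℂ (fixed ρ (K t)) : ℂ) := by
        rw [← hM, h3, Nat.card_congr (Subgroup.subgroupOfEquivOfLe hle).toEquiv]
        congr 1
        refine Fintype.sum_equiv (Subgroup.subgroupOfEquivOfLe hle).toEquiv _ _ fun k => ?_
        show ρ.character (k : C t) = ρ.character (1 * _)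
        rw [one_mul]
        rfl
      have h5 : M = finrank ℂ (fixed ρ (K t)) := by exact_mod_cast h4
      rw [h5]
      exact hlb
  rw [subgroupOf_eq_bot, disjoint_iff, inf_of_le_left hle] at h1
  exact h1

/-- **The near-tight theorem in `G`**, with the lower bound for characters of `C(t)/K t`. -/
theorem core_eq_bot' (hq4 : Fintype.card F % 4 = 1) (hc : Const ρ) (h : Four t v) (htr : Trans t)
    (hb1 : K t ⊓ C v ≤ K v) (hb2 : K t ⊓ C (t * v) ≤ K (t * v)) {Q : Type*} [Group Q]
    {π : C t →* Q} (hπ : Function.Surjective π) (hker : ∀ x : C t, π x = 1 ↔ (x : G) ∈ K t)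
    {L₀ : Subgroup Q} (hL₀ : L₀.index = 2) (e : L₀ ≃* Matrix.SpecialLinearGroup (Fin 2) F)
    {htC : t ∈ C t} {htL : π ⟨t, htC⟩ ∈ L₀} (het : e ⟨π ⟨t, htC⟩, htL⟩ = -1) {d n' : ℕ} {c : ℤ}
    (hdim : (finrank ℂ X : ℤ) = d + c + n')
    (hlbq : ∀ θ : Q → ℂ, IsCharacter Q θ →
      (∀ y : C t, 2 ∣ orderOf (π y) → θ (π y) = ρ.character (y : G)) →
      ∀ N : ℕ, θ 1 = N → (d : ℤ) + c ≤ N)
    (hn : n' ≤ 2 * Fintype.card F)
    (hf : ∀ g ∈ K t, ρ.character g = ρ.character 1 → g = 1) : K t = ⊥ :=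
  core_eq_bot hq4 hc h htr hb1 hb2 hπ hker hL₀ e het
    (lb_of hc h htr hb1 hb2 π hπ hker hdim hlbq (small_core h hb1 hb2) (cov_normalizer_core t))
    hn hf

end Main

end Cfsg.Agent.Classification.QDW.NearMain
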