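import Mathlib
import Cfsg.Agent.Classification.QDW.NearMain
import Cfsg.Agent.Classification.QDW.FrameLB
import Cfsg.Agent.Classification.QDW.NumBridgeG
import Cfsg.Agent.Classification.QDW.InstMain

/-!
# The case `ε = -1`: application of the near-tight theorem

`near_or`: type D, `ε = -1`: `K t = 1`, or `q² < f < q³`, `n₂, n₃ > 2 q` and one of them is
`< q² - 1`. This removes the cases (a), (b), (c) with nonintegral `k`.
-/

set_option autoImplicit false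
set_option linter.unusedSectionVars false

namespace Cfsg.Agent.Classification.QDW.NearApp

open Subgroup Cfsg Module
open Cfsg.Agent.Walter.SylowIn Cfsg.Agent.Walter.OddCoreIn Cfsg.Agent.Walter.Cover
open Cfsg.Agent.Characters Cfsg.Agent.Classification.InvCent
open Cfsg.Agent.Classification.QDW.InstC Cfsg.Agent.Classification.QDW.InstGamma
open Cfsg.Agent.Classification.QDW.InstLB Cfsg.Agent.Classification.QDW.InstG
open Cfsg.Agent.Classification.QDW.InstMain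
open Cfsg.Agent.Classification.QDW.RelH Cfsg.Agent.Classification.QDW.Theta
open Cfsg.Agent.Classification.RTwo
open Cfsg.Agent.Classification.BGBlockB0
open Cfsg.Agent.Classification.QDW.FrameLB

universe u v

variable {G : Type u} [Group G] [Fintype G] {Q : Type v} [Group Q] [Fintype Q] {z : Q} {q : ℕ}
  {Z T T' U : Subgroup Q} {s s' u₀ : Q} {b : Q →* ℂˣ} {μ : U →* ℂˣ} {t₀ : G} {π₀ : C t₀ →* Q}
  {F : Type*} [Field F] [Fintype F] {L₀ : Subgroup Q}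

/-- In a simple group, a character nontrivial at some element is faithful. -/
theorem eq_one_of_apply [hs : IsSimpleGroup G] {χ : G → ℂ} (hχ : IsCharacter G χ) {t : G}
    (ht : χ t ≠ χ 1) {x : G} (hx : χ x = χ 1) : x = 1 := by
  obtain ⟨n, ρ, rfl⟩ := hχ
  have h1 : ρ.character 1 = (Module.finrank ℂ (Fin n → ℂ) : ℂ) := by
    rw [Values.character_eq_finrank_iff, map_one]
    rfl
  have key : ∀ g : G, ρ.character g = ρ.character 1 ↔ g ∈ MonoidHom.ker ρ := by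
    intro g
    rw [h1, Values.character_eq_finrank_iff, MonoidHom.mem_ker]
    rfl
  rcases (inferInstance : (MonoidHom.ker ρ).Normal).eq_bot_or_eq_top with h2 | h2
  · have h3 := (key x).1 hx
    rw [h2, Subgroup.mem_bot] at h3
    exact h3
  · exact absurd ((key t).2 (by rw [h2]; exact Subgroup.mem_top t)) ht

/-- There is an involution `u` with `Four t₀ u`. -/
theorem exists_four {ε : ℤ} (H : General.Hyp t₀ z π₀) (h : CHyp z q ε Z T T' U s s' u₀) :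
    ∃ u : G, Four t₀ u := by
  obtain ⟨u, w, hG⟩ := exists_ghyp H h
  have htt : t₀ * t₀ = 1 := congrArg Subtype.val hG.tt
  have h1 : (t₀ : G) ≠ 1 := fun e => hG.t_ne h (Subtype.ext e)
  have huu : (u : G) * u = 1 := congrArg Subtype.val hG.uu
  have hou : orderOf u₀ = 2 := h.orderOf_u
  refine ⟨u, htt, huu, (Subgroup.mem_centralizer_singleton_iff.1 u.2).symm, h1, ?_, ?_⟩
  · intro e
    have h2 : u = 1 := Subtype.ext e
    have h3 := hG.map_u
    rw [h2, map_one] at h3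
    rw [← h3, orderOf_one] at hou
    omega
  · intro e
    have h2 : u = General.tt t₀ := Subtype.ext e.symm
    have h3 := hG.map_u
    rw [h2, hG.map_t] at h3
    exact h.u_ne h3.symm

/-- **The near-tight theorem from the data.** -/
theorem core_eq_bot_of_data (H : General.Hyp t₀ z π₀)
    (hk : ∀ x : C t₀, π₀ x = 1 ↔ (x : G) ∈ K t₀)
    (hD : CData z q (-1) Z T T' U s s' u₀ b) (hq : 5 ≤ q) (hμ : ∃ v : U, μ v ≠ 1)
    {X : Type*} [AddCommGroup X] [Module ℂ X] [FiniteDimensional ℂ X] {ρ : Representation ℂ G X}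
    {σ c : ℤ} (hX : DVal hD.chyp μ π₀ ρ.character σ c) (hσ : σ = 1 ∨ σ = -1)
    (hc : c = 0 ∨ c = 1) (hconst : Const ρ)
    (hbal : ∀ t u : G, Four t u → K t ⊓ C u ≤ K u) {n' : ℕ}
    (hdim : (finrank ℂ X : ℤ) = ((q ^ 2 - 1 : ℕ) : ℤ) + σ * (c + -1 * q) + n')
    (hn : n' ≤ 2 * q) (hF : Fintype.card F = q) (hq4 : q % 4 = 1) (hL₀ : L₀.index = 2)
    (e : L₀ ≃* Matrix.SpecialLinearGroup (Fin 2) F) {hzL : z ∈ L₀} (hez : e ⟨z, hzL⟩ = -1)
    (hf : ∀ g, ρ.character g = ρ.character 1 → g = 1) : K t₀ = ⊥ := by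
  obtain ⟨v, h4⟩ := exists_four H hD.chyp
  have hb1 := hbal t₀ v h4
  have hb2 := hbal t₀ (t₀ * v) h4.mulRight
  have hlb := lb_of_data H hk hD hq hμ hX hσ hc hconst hbal hdim t₀ v (K t₀) h4
    (NearMain.small_core h4 hb1 hb2) (NearMain.cov_normalizer_core t₀)
  have hz : π₀ ⟨t₀, self_mem_C t₀⟩ = z := General.map_tt H
  have hzL' : π₀ ⟨t₀, self_mem_C t₀⟩ ∈ L₀ := by rw [hz]; exact hzL
  refine NearMain.core_eq_bot (F := F) (by rw [hF]; exact hq4) hconst h4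
    (trans_of H hk hD.chyp t₀) hb1 hb2 H.surj hk hL₀ e (htC := self_mem_C t₀) (htL := hzL') ?_ hlb
    (by rw [hF]; exact hn) (fun g _ hg => hf g hg)
  rw [← hez]
  congr 1
  exact Subtype.ext hz

/-- The same for a signed irreducible character of positive degree in the principal block. -/
theorem core_eq_bot_of_signed [IsSimpleGroup G] (H : General.Hyp t₀ z π₀)
    (hk : ∀ x : C t₀, π₀ x = 1 ↔ (x : G) ∈ K t₀)
    (hD : CData z q (-1) Z T T' U s s' u₀ b) (hq : 5 ≤ q) (hμ : ∃ v : U, μ v ≠ 1)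
    {M : Ideal AlgInt} (hM : IsPModular 2 M) {X : G → ℂ} (hX : InB (principalBlock M G) X)
    {c : ℤ} (hc : c = 0 ∨ c = 1)
    (hv : ∀ y : Subgroup.centralizer ({t₀} : Set G), z ∈ Subgroup.zpowers (π₀ y) →
      X y = c + ((-1 : ℤ) : ℂ) * St hD.chyp μ (π₀ y))
    (hbal : ∀ t u : G, Four t u → K t ⊓ C u ≤ K u) {d : ℤ} (hd : X 1 = d) (hd0 : 0 < d)
    (hn : d - (c - q) ≤ (q : ℤ) ^ 2 - 1 + 2 * q) (hF : Fintype.card F = q) (hq4 : q % 4 = 1)
    (hL₀ : L₀.index = 2) (e : L₀ ≃* Matrix.SpecialLinearGroup (Fin 2) F) {hzL : z ∈ L₀}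
    (hez : e ⟨z, hzL⟩ = -1) : K t₀ = ⊥ := by
  have hS := hX.signedIrr
  have hlb := lb H hD hq hμ hS hc hv hd
  have hq' : (5 : ℤ) ≤ q := by exact_mod_cast hq
  have hpos : 0 < d - (c + -1 * q) := by
    rcases hc with rfl | rfl <;> linarith
  rw [abs_of_pos hpos] at hlb
  have hI : IsIrrCharacter G X := by
    rcases hS with h1 | h1
    · exact h1
    · exfalso
      obtain ⟨n, -, hn⟩ := Core.isIrr_apply_one h1
      rw [Pi.neg_apply, hd] at hn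
      have h2 : -d = (n : ℤ) := by exact_mod_cast hn
      omega
  have hDV : DVal hD.chyp μ π₀ X 1 c :=
    ⟨isClassFunction_signed hS, fun y hy => by rw [hv y hy, Int.cast_one, one_mul]⟩
  have hXt : X t₀ = ((c - q : ℤ) : ℂ) := by
    rw [hDV.at_t H]
    push_cast
    ring
  have hne : X t₀ ≠ X 1 := by
    rw [hXt, hd]
    intro h1
    have h2 : c - (q : ℤ) = d := by exact_mod_cast h1
    rcases hc with rfl | rfl <;> linarith
  have hf : ∀ g, X g = X 1 → g = 1 := fun g hg =>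
    eq_one_of_apply (Core.isIrr_isCharacter hI) hne hg
  obtain ⟨m, ρ, hρ, rfl⟩ := hI
  have hconst := const_of ρ H hk hM hX
  have hdim : (finrank ℂ (Fin m → ℂ) : ℤ) = d := by
    have h1 : ρ.character 1 = (finrank ℂ (Fin m → ℂ) : ℂ) := Representation.char_one ρ
    rw [hd] at h1
    exact_mod_cast h1.symm
  obtain ⟨n', hn'⟩ := Int.eq_ofNat_of_zero_le (sub_nonneg.2 hlb)
  have h2 : ((q ^ 2 - 1 : ℕ) : ℤ) = (q : ℤ) ^ 2 - 1 := by
    rw [Nat.cast_sub (Nat.one_le_pow _ _ (by omega))]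
    push_cast
    ring
  refine core_eq_bot_of_data H hk hD hq hμ (σ := 1) (c := c) (n' := n') hDV
    (Or.inl rfl) hc hconst hbal ?_ ?_ hF hq4 hL₀ e hez hf
  · rw [hdim, h2]
    linarith
  · have h3 : (n' : ℤ) ≤ 2 * q := by linarith
    exact_mod_cast h3

variable {M : Ideal AlgInt} {θ : T' →* ℂˣ} {n : ℕ} {χ : T →* ℂˣ} {X₂ X₃ X₄ X₅ : G → ℂ}
  {L : ℕ → G → ℂ} {f x : ℤ}

/-- **`ε = -1`, type D**: `K t = 1` or we are in the intermediate case. -/
theorem near_or [IsSimpleGroup G] (H : General.Hyp t₀ z π₀)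
    (hk : ∀ x : C t₀, π₀ x = 1 ↔ (x : G) ∈ K t₀)
    (hD : CData z q (-1) Z T T' U s s' u₀ b) (hq : 5 ≤ q) (hpp : IsPrimePow q)
    (hμ : ∃ v : U, μ v ≠ 1) (hM : IsPModular 2 M)
    (S : SDFull M hD.chyp b θ n χ μ π₀ X₂ X₃ X₄ X₅ L f x)
    (hbal : ∀ t u : G, Four t u → K t ⊓ C u ≤ K u) (hF : Fintype.card F = q)
    (hL₀ : L₀.index = 2) (e : L₀ ≃* Matrix.SpecialLinearGroup (Fin 2) F) {hzL : z ∈ L₀}
    (hez : e ⟨z, hzL⟩ = -1) :
    K t₀ = ⊥ ∨ (0 < f ∧ (q : ℤ) ^ 2 < f ∧ f < (q : ℤ) ^ 3 ∧ x < -1 ∧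
      (q : ℤ) ^ 2 - 1 + 2 * q < f + q ∧ (q : ℤ) ^ 2 - 1 + 2 * q < -x + q - 2 ∧
      (f + q < 2 * ((q : ℤ) ^ 2 - 1) ∨ -x + q - 2 < 2 * ((q : ℤ) ^ 2 - 1))) := by
  have h4 : ¬ (4 : ℤ) ∣ q - -1 := by
    intro h1
    obtain ⟨z₀, ⟨k, hk0⟩, h3⟩ := hD.chyp.card_Z
    rw [hD.card_Z, hk0] at h3
    push_cast at h3
    omega
  have hN := NumBridgeG.num H h4 S.toSDRes
  have hq4 : q % 4 = 1 := by
    rcases hN.q_cases with ⟨h1, -⟩ | ⟨-, h1⟩
    · exact absurd h1 (by norm_num)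
    · exact_mod_cast h1
  have hq' : (5 : ℤ) ≤ q := by exact_mod_cast hq
  have lb₂ := InstMain.lb₂ H hD hq hμ S
  have lb₃ := InstMain.lb₃ H hD hq hμ S
  -- the two applications
  have app₂ : 0 < f → f + q ≤ (q : ℤ) ^ 2 - 1 + 2 * q → K t₀ = ⊥ := by
    intro h0 h1
    refine core_eq_bot_of_signed H hk hD hq hμ hM S.in₂ (c := 0) (Or.inl rfl) (val₂ hμ S) hbal
      S.one₂ h0 (by linarith) hF hq4 hL₀ e hez
  have app₃ : x < -1 → -x + q - 2 ≤ (q : ℤ) ^ 2 - 1 + 2 * q → K t₀ = ⊥ := by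
    intro h0 h1
    refine core_eq_bot_of_signed H hk hD hq hμ hM S.in₃ (c := 1) (Or.inr rfl) (val₃ S) hbal
      (d := -1 - x) ?_ (by linarith) (by linarith) hF hq4 hL₀ e hez
    rw [S.one₃]
    push_cast
    ring
  rcases hN.neg hpp lb₂ lb₃ with ⟨h1, -, -, h2⟩ | ⟨h1, h2, h3⟩ | ⟨h1, h2, h3⟩
  · exact Or.inl (app₂ h1 (by linarith))
  · have hf0 : 0 < f := by nlinarith
    have hx : x < -1 := by nlinarith
    by_cases h5 : f + q ≤ (q : ℤ) ^ 2 - 1 + 2 * q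
    · exact Or.inl (app₂ hf0 h5)
    by_cases h6 : -x + q - 2 ≤ (q : ℤ) ^ 2 - 1 + 2 * q
    · exact Or.inl (app₃ hx h6)
    push Not at h5 h6
    refine Or.inr ⟨hf0, h1, ?_, hx, h5, h6, h3⟩
    have hp := hN.prod
    -- `(f - q²) (q + 1) < q² (q² - 1)`
    have h7 : (q : ℤ) + 1 < -x - (q : ℤ) ^ 2 := by linarith
    have h8 : (f - (q : ℤ) ^ 2) * (q + 1) < (q : ℤ) ^ 2 * ((q : ℤ) ^ 2 - 1) := by
      rw [← hp]
      exact mul_lt_mul_of_pos_left h7 (by linarith)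
    have h9 : (f - (q : ℤ) ^ 2) * (q + 1) < (q : ℤ) ^ 2 * (q - 1) * (q + 1) := by
      calc (f - (q : ℤ) ^ 2) * (q + 1) < (q : ℤ) ^ 2 * ((q : ℤ) ^ 2 - 1) := h8
        _ = _ := by ring
    have h10 : f - (q : ℤ) ^ 2 < (q : ℤ) ^ 2 * (q - 1) :=
      lt_of_mul_lt_mul_right h9 (by linarith)
    linarith
  · refine Or.inl (app₃ (by nlinarith) (by linarith))

/-- **`ε = -1`, type D, near-tight**: `n₂ ≤ 2 q` or `n₃ ≤ 2 q` implies `K t = 1`. -/
theorem near [IsSimpleGroup G] (H : General.Hyp t₀ z π₀)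
    (hk : ∀ x : C t₀, π₀ x = 1 ↔ (x : G) ∈ K t₀)
    (hD : CData z q (-1) Z T T' U s s' u₀ b) (hq : 5 ≤ q) (hpp : IsPrimePow q)
    (hμ : ∃ v : U, μ v ≠ 1) (hM : IsPModular 2 M)
    (S : SDFull M hD.chyp b θ n χ μ π₀ X₂ X₃ X₄ X₅ L f x)
    (hbal : ∀ t u : G, Four t u → K t ⊓ C u ≤ K u) (hF : Fintype.card F = q)
    (hL₀ : L₀.index = 2) (e : L₀ ≃* Matrix.SpecialLinearGroup (Fin 2) F) {hzL : z ∈ L₀}
    (hez : e ⟨z, hzL⟩ = -1)
    (hn : f + q - ((q : ℤ) ^ 2 - 1) ≤ 2 * q ∨ -x + q - 2 - ((q : ℤ) ^ 2 - 1) ≤ 2 * q) :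
    K t₀ = ⊥ := by
  rcases near_or H hk hD hq hpp hμ hM S hbal hF hL₀ e hez with h1 | ⟨-, -, -, -, h2, h3, -⟩
  · exact h1
  · exfalso
    rcases hn with h4 | h4 <;> linarith

end Cfsg.Agent.Classification.QDW.NearApp
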