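import Mathlib
import Cfsg.Agent.Classification.RTwo.Structure
import Cfsg.Agent.StrongEmb.Split

/-!
# Simple groups with quasi-dihedral or wreathed Sylow 2-subgroups: no strongly embedded subgroup
-/

set_option autoImplicit false

open Cfsg

namespace Cfsg.Agent.Classification.QDW.NoSE

open Cfsg.Agent.TwoFusion Subgroup Cfsg.Agent.TwoFusion.StronglyEmbeddedBasic
open Cfsg.Agent.StrongEmb.TwoRank Cfsg.Agent.StrongEmb.Split

theorem orderOf_eq_two {S : Type*} [Group S] {x : S} (h : x * x = 1) (h1 : x ≠ 1) :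
    orderOf x = 2 := orderOf_eq_prime (by rw [pow_two, h]) h1

/-- A quasi-dihedral or wreathed group has two different involutions. -/
theorem exists_two {S : Type*} [Group S] [Finite S]
    (h : Cfsg.IsQuasiDihedral S ∨ Cfsg.IsWreathed S) :
    ∃ a b : S, orderOf a = 2 ∧ orderOf b = 2 ∧ a ≠ b := by
  rcases h with h | h
  · obtain ⟨n, u, y, h⟩ := QDBasic.exists_qdcoord h
    have hn : 1 ≤ n := h.one_le
    refine ⟨y, u (2 ^ (n - 1)), orderOf_eq_two h.y_y ?_, orderOf_eq_two ?_ ?_, ?_⟩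
    · intro h1
      refine h.u_ne 0 0 ?_
      rw [h.u_zero, h1, one_mul]
    · rw [h.u_mul, ← two_mul, QDBasic.two_mul_half n hn, h.u_zero]
    · intro h1
      rw [← h.u_zero] at h1
      exact QDBasic.half_ne_zero n hn (h.u_inj _ _ h1)
    · intro h1
      refine h.u_ne (2 ^ (n - 1)) 0 ?_
      rw [h.u_zero, ← h1, one_mul]
  · obtain ⟨n, u, z, h⟩ := WreathedBasic.exists_wcoord h
    have hn : 1 ≤ n := by have := h.two_le; omega
    refine ⟨z, u (2 ^ (n - 1)) 0, h.orderOf_z, orderOf_eq_two ?_ ?_, ?_⟩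
    · rw [h.u_mul, ← two_mul, QDBasic.two_mul_half n hn, add_zero, h.u_zero]
    · intro h1
      rw [← h.u_zero] at h1
      exact QDBasic.half_ne_zero n hn (h.u_inj _ _ _ _ h1).1
    · intro h1
      refine h.u_ne (2 ^ (n - 1)) 0 0 0 ?_
      rw [h.u_zero, ← h1, one_mul]

theorem nontrivial {S : Type*} [Group S] [Finite S]
    (h : Cfsg.IsQuasiDihedral S ∨ Cfsg.IsWreathed S) (hp : IsPGroup 2 S) :
    ∃ z : S, z ∈ center S ∧ orderOf z = 2 := by
  have hp2 : Fact (Nat.Prime 2) := ⟨Nat.prime_two⟩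
  obtain ⟨a, b, ha, hb, hab⟩ := exists_two h
  have : Nontrivial S := ⟨⟨a, b, hab⟩⟩
  have h1 := hp.center_nontrivial
  obtain ⟨n, hn, h2⟩ := (hp.to_subgroup (center S)).nontrivial_iff_card.mp h1
  have h3 : 2 ∣ Nat.card (center S) := by rw [h2]; exact dvd_pow_self _ (by omega)
  obtain ⟨z, hz⟩ := exists_prime_orderOf_dvd_card' (G := center S) 2 h3
  exact ⟨z, z.2, by rwa [Subgroup.orderOf_coe]⟩

variable {G : Type*} [Group G] [Finite G]

theorem commPair (S : Sylow 2 G)
    (hS : Cfsg.IsQuasiDihedral (S : Subgroup G) ∨ Cfsg.IsWreathed (S : Subgroup G)) :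
    CommPair G := by
  obtain ⟨a, b, ha, hb, hab⟩ := exists_two hS
  obtain ⟨z, hz, hz2⟩ := nontrivial hS S.2
  refine CommPair.of_subgroup (K := (S : Subgroup G)) ?_
  by_cases haz : a = z
  · refine ⟨b, z, hb, hz2, fun h => hab (haz.trans h.symm), ?_⟩
    exact (Subgroup.mem_center_iff.mp hz b)
  · exact ⟨a, z, ha, hz2, haz, Subgroup.mem_center_iff.mp hz a⟩

/-- A simple group with quasi-dihedral or wreathed Sylow `2`-subgroups has no strongly embedded
subgroup. -/
theorem not_isStronglyEmbedded_of [IsSimpleGroup G]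
    (hB : ∀ H : Subgroup G, IsStronglyEmbedded H → CommPair G → H.normalCore = ⊥ →
      ∃ Q, IsSplit H Q ∧ IsPGroup 2 Q) (S : Sylow 2 G)
    (hS : Cfsg.IsQuasiDihedral (S : Subgroup G) ∨ Cfsg.IsWreathed (S : Subgroup G))
    (H : Subgroup G) : ¬ IsStronglyEmbedded H := by
  intro hH
  have hp2 : Fact (Nat.Prime 2) := ⟨Nat.prime_two⟩
  have hr := commPair S hS
  obtain ⟨Q, hQ, hQp⟩ := hB H hH hr (normalCore_eq_bot_of_simple hH.1)
  obtain ⟨t, ht, ht2⟩ := exists_involution_notMem hH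
  have hset := setup_of_isSplit hH hQ ht ht2
  have hidx : Odd Q.index := Cfsg.Agent.SuzukiRankOne.Reduction.odd_index_of_le hset le_rfl
  have h2 : ∀ x ∈ H, (∃ n : ℕ, orderOf x = 2 ^ n) → x ∈ Q :=
    (isPGroup_of_isSplit hH hQ hr).2
  -- `Q` is a Sylow subgroup
  let T : Sylow 2 G := hQp.toSylow (fun hd => by
    exact (Nat.not_even_iff_odd.mpr hidx) (even_iff_two_dvd.mpr hd))
  have e : (S : Subgroup G) ≃* (T : Subgroup G) := Sylow.equiv S T
  have eQ : (S : Subgroup G) ≃* Q := e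
  -- every involution of `Q` is central
  have hcen : ∀ x : Q, orderOf x = 2 → x ∈ center Q := by
    obtain ⟨z, hz, hz2⟩ := nontrivial hS S.2
    have hz' : eQ z ∈ center Q := by
      rw [Subgroup.mem_center_iff]
      intro y
      obtain ⟨s, rfl⟩ := eQ.surjective y
      rw [← map_mul, ← map_mul, Subgroup.mem_center_iff.mp hz s]
    have hz2' : orderOf ((eQ z : Q) : G) = 2 := by
      rw [Subgroup.orderOf_coe, MulEquiv.orderOf_eq]; exact hz2
    intro x hx
    have hx2 : orderOf (x : G) = 2 := by rw [Subgroup.orderOf_coe]; exact hx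
    obtain ⟨g, hg⟩ := isConj_iff.mp (isConj_of_involutions hH _ _ hz2' hx2)
    have hgH : g ∈ H := mem_of_conj_mem hH (hQ.le (eQ z).2) hz2' (by rw [hg]; exact hQ.le x.2)
    rw [Subgroup.mem_center_iff]
    intro y
    apply Subtype.ext
    show (y : G) * x = x * y
    have hy : g⁻¹ * (y : G) * g ∈ Q := by
      have := hQ.conj_mem (H.inv_mem hgH) y.2
      simpa using this
    have h3 := congrArg Subtype.val (Subgroup.mem_center_iff.mp hz' ⟨g⁻¹ * (y : G) * g, hy⟩)
    have h4 : g⁻¹ * (y : G) * g * ((eQ z : Q) : G) = ((eQ z : Q) : G) * (g⁻¹ * (y : G) * g) := h3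
    rw [← hg]
    calc (y : G) * (g * ((eQ z : Q) : G) * g⁻¹)
        = g * (g⁻¹ * (y : G) * g * ((eQ z : Q) : G)) * g⁻¹ := by group
      _ = g * (((eQ z : Q) : G) * (g⁻¹ * (y : G) * g)) * g⁻¹ := by rw [h4]
      _ = g * ((eQ z : Q) : G) * g⁻¹ * (y : G) := by group
  have hcenS : ∀ x : (S : Subgroup G), orderOf x = 2 → x ∈ center (S : Subgroup G) := by
    intro x hx
    have h3 := hcen (eQ x) (by rw [MulEquiv.orderOf_eq]; exact hx)
    rw [Subgroup.mem_center_iff] at h3 ⊢
    intro s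
    apply eQ.injective
    rw [map_mul, map_mul, h3 (eQ s)]
  obtain ⟨a, b, ha, hb, hab⟩ := exists_two hS
  exact hab (RTwo.Structure.eq_of_center hS (hcenS a ha) (hcenS b hb) ha hb)

end Cfsg.Agent.Classification.QDW.NoSE
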