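import Mathlib
import Cfsg.Prelude.Def_Characters
import Cfsg.Agent.Characters.Core
import Cfsg.Agent.Characters.Clifford
import Cfsg.Agent.Characters.Linear
import Cfsg.Agent.CharDeep.CliffordCorr
import Cfsg.Agent.Classification.QDW.BigDeg
import Cfsg.Agent.Classification.QDW.WrDeg

/-!
# The values on the torus of the characters of degree `q + 1`

Let `ψ` be an irreducible character of `C` of degree `q + 1`, lying over a linear character `lam` of `K`. If `lam` is
invariant in `C`, or if its stabilizer has index `q + 1` and contains the preimage `T` of the torus, then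
`ψ = a + b` on `T - K₁` for linear characters `a`, `b` of `T` whose restrictions to `K` occur in `ψ`.
-/

set_option autoImplicit false
set_option linter.unusedSectionVars false

namespace Cfsg.Agent.Classification.QDW.TorusVal

open Cfsg Cfsg.Agent.Characters Cfsg.Agent.Classification.QDW.BigDeg
  Cfsg.Agent.Classification.QDW.Coef Cfsg.Agent.Classification.QDW.Inertia
open scoped ComplexConjugate

universe u

variable {C : Type u} [Group C] [Finite C] {q : ℕ} {K L B : Subgroup C} {K₁ X T : Subgroup B}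
  {t : C}

/-- The case of an invariant linear character. -/
theorem val_inv (h : Big q K L B K₁ X T t) {ψ : C → ℂ} (hψ : IsIrrCharacter C ψ)
    {μ : K₁ → ℂ} (hμ : IsIrrCharacter K₁ μ) (hμ1 : μ 1 = 1)
    (hd : ∀ x : K₁, ψ (x : B) = ((q + 1 : ℕ) : ℂ) * μ x) :
    ∃ a b : B →* ℂˣ, (∀ x : K₁, (a x : ℂ) = μ x) ∧ (∀ x : K₁, (b x : ℂ) = μ x) ∧
      ∀ y ∈ T, y ∉ K₁ → ψ (y : C) = a y + b y := by
  classical
  have hq := h.frob.q_ge
  obtain ⟨η, χ, hη, hχ, hadd, hηK, hηT⟩ := exists_big h hψ hμ (by omega) hd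
  have hχK : ∀ x : K₁, χ x = 2 * μ x := by
    intro x
    have h1 := hadd x
    rw [hd x, hηK x] at h1
    have h2 : ((q - 1 : ℕ) : ℂ) = (q : ℂ) - 1 := by
      rw [Nat.cast_sub (by omega), Nat.cast_one]
    rw [h2] at h1
    push_cast at h1
    linear_combination -h1
  have hχ1 : χ 1 = 2 := by
    have := hχK 1
    rw [hμ1, mul_one] at this
    exact this
  obtain ⟨ζ, χ', hζ, hχ', hadd', -⟩ := exists_constituent (LinearMap.proj (1 : B)) hχ
    (by show χ 1 ≠ 0; rw [hχ1]; norm_num)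
  -- the constituent `ζ` is linear
  have hadd'' : ∀ b : B, ψ b = ζ b + (χ' + η) b := by
    intro b
    rw [hadd b, hadd', Pi.add_apply, Pi.add_apply]
    ring
  obtain ⟨m, hm, hm2⟩ := constituent h hψ hμ (d := q + 1) (by omega) hd hζ
    (Core.isCharacter_add hχ' (Core.isIrr_isCharacter hη)) hadd''
  obtain ⟨n, hn⟩ := Core.isCharacter_apply_one hχ'
  have hζ1 : ζ 1 = m := by
    have := hm 1
    rw [hμ1, mul_one] at this
    exact this
  have hmn : m + n = 2 := by
    have h1 : χ 1 = ζ 1 + χ' 1 := by rw [hadd', Pi.add_apply]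
    rw [hχ1, hζ1, hn] at h1
    exact_mod_cast h1.symm
  have hm1 : m = 1 := by
    rcases hm2 with h1 | ⟨h1, -⟩
    · exact h1
    · omega
  have hn1 : n = 1 := by omega
  subst hm1
  subst hn1
  obtain ⟨a, ha⟩ := Linear.exists_hom_of_isIrrCharacter hζ (by rw [hζ1, Nat.cast_one])
  obtain ⟨b, hb⟩ := Linear.exists_hom_of_isCharacter hχ' (by rw [hn, Nat.cast_one])
  refine ⟨a, b, fun x => ?_, fun x => ?_, fun y hy hyK => ?_⟩
  · have := hm x
    rw [ha, Nat.cast_one, one_mul] at this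
    exact this
  · have h1 := congrFun hadd' x
    rw [Pi.add_apply, hχK x, hm x, Nat.cast_one, one_mul, hb] at h1
    linear_combination -h1
  · rw [hadd y, hηT y hy hyK, zero_add, hadd', Pi.add_apply, ha, hb]

/-- A linear character of a subgroup as a function. -/
theorem hom_irr {A : Type*} [Group A] (l : A →* ℂˣ) : IsIrrCharacter A (fun x => (l x : ℂ)) :=
  Linear.isIrrCharacter_hom l

open scoped Classical in
/-- The case of a stabilizer of index `q + 1`: the Clifford correspondent is linear. -/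
theorem exists_linear [Fintype C] [hN : K.Normal] [Fintype K] {ψ : C → ℂ}
    (hψ : IsIrrCharacter C ψ) (l : K →* ℂˣ)
    (hl : classInner (fun k : K => ψ k) (fun k => (l k : ℂ)) ≠ 0) {H : Subgroup C}
    (hH : H = stab K (fun k => (l k : ℂ))) (hdeg : ψ 1 = H.index) :
    ∃ (η : H →* ℂˣ) (hKH : K ≤ H), (∀ k : K, η ⟨k, hKH k.2⟩ = l k) ∧
      ψ = indFun H (fun x => (η x : ℂ)) := by
  have hKH : K ≤ H := by
    rw [hH]
    exact le_stab (Core.isIrr_isClassFunction (hom_irr l))
  obtain ⟨η, hη, hind, hin⟩ := CharDeep.CliffordCorr.clifford_correspondence K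
    (fun k => (l k : ℂ)) (hom_irr l) H (fun g => by rw [hH]; rfl) hKH ψ hψ hl
  have h1 : indFun H η 1 = H.index * η 1 := by
    have h2 := Core.indFun_apply H η 1
    have h3 : ∀ x : C, extendByZero H η (x⁻¹ * 1 * x) = η 1 := by
      intro x
      have : x⁻¹ * 1 * x = ((1 : H) : C) := by simp
      rw [this, Core.extendByZero_of_mem H η (1 : H).2]
    rw [h2, Finset.sum_congr rfl fun x _ => h3 x, Finset.sum_const, Finset.card_univ, nsmul_eq_mul,
      ← Nat.card_eq_fintype_card, ← H.card_mul_index]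
    have h0 : (Nat.card H : ℂ) ≠ 0 := Core.card_ne_zero_complex
    push_cast
    field_simp
  have hidx : (H.index : ℂ) ≠ 0 := Nat.cast_ne_zero.2 Subgroup.index_ne_zero_of_finite
  have hη1 : η 1 = 1 := by
    rw [hind, hdeg] at h1
    exact (mul_eq_left₀ hidx).1 h1.symm
  obtain ⟨η', hη'⟩ := Linear.exists_hom_of_isIrrCharacter hη hη1
  refine ⟨η', hKH, fun k => ?_, ?_⟩
  · -- the restriction of `η'` to `K` is `l`
    have h2 : classInner (fun n : K => ((η'.comp (Subgroup.inclusion hKH)) n : ℂ))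
        (fun k => (l k : ℂ)) ≠ 0 := by
      have h3 : (fun n : K => η ⟨(n : C), hKH n.2⟩) =
          fun n : K => ((η'.comp (Subgroup.inclusion hKH)) n : ℂ) := by
        funext n
        rw [hη']
        rfl
      rw [← h3, hin]
      exact hl
    have h4 : (fun n : K => ((η'.comp (Subgroup.inclusion hKH)) n : ℂ)) =
        (fun k => (l k : ℂ)) := by
      by_contra hne
      exact h2 (Core.classInner_irr_ne (hom_irr _) (hom_irr l) hne)
    have h5 := congrFun h4 k
    exact Units.ext h5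
  · rw [← hη']
    exact hind.symm

/-- The values on the torus, in the case of a stabilizer of index `q + 1`. -/
theorem val_ind [Fintype C] [hN : K.Normal] [Fintype K] {ψ : C → ℂ}
    (hψ : IsIrrCharacter C ψ) (l : K →* ℂˣ)
    (hl : classInner (fun k : K => ψ k) (fun k => (l k : ℂ)) ≠ 0) {H : Subgroup C}
    (hH : H = stab K (fun k => (l k : ℂ))) (hdeg : ψ 1 = H.index) {T₀ : Subgroup C}
    (hT : T₀ ≤ H) (hKT : K ≤ T₀) {w : C} (hwT : ∀ y ∈ T₀, w⁻¹ * y * w ∈ T₀) (hw : w ∉ H) :
    ∃ a b : T₀ →* ℂˣ, (∀ k : K, a ⟨k, hKT k.2⟩ = l k) ∧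
      (∀ k : K, b ⟨k, hKT k.2⟩ = l (MulAut.conjNormal w⁻¹ k)) ∧
      ∀ y (hy : y ∈ T₀), (∀ g : C, g⁻¹ * y * g ∈ H → g ∈ H ∨ w⁻¹ * g ∈ H) →
        ψ y = a ⟨y, hy⟩ + b ⟨y, hy⟩ := by
  obtain ⟨η, hKH, hη, hind⟩ := exists_linear hψ l hl hH hdeg
  let c : T₀ →* H :=
    { toFun := fun y => ⟨w⁻¹ * y * w, hT (hwT y y.2)⟩
      map_one' := Subtype.ext (by simp)
      map_mul' := fun x y => Subtype.ext (by simp [mul_assoc]) }
  refine ⟨η.comp (Subgroup.inclusion hT), η.comp c, fun k => hη k, fun k => ?_,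
    fun y hy hfix => ?_⟩
  · have h1 := hη (MulAut.conjNormal w⁻¹ k)
    rw [← h1]
    show η (c ⟨k, hKT k.2⟩) = _
    congr 1
    apply Subtype.ext
    show w⁻¹ * (k : C) * w = ((MulAut.conjNormal w⁻¹ k : K) : C)
    rw [MulAut.conjNormal_apply, inv_inv]
  · rw [hind, WrDeg.indFun_two hw (Core.isIrr_isClassFunction (hom_irr η)) (hT hy)
      (hT (hwT y hy)) hfix]
    rfl

/-- The geometric hypotheses: `T₀` is the preimage of the torus, contained in the two Borel subgroups `B` and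
`w B w⁻¹`, and its elements outside `K₁` fix exactly two points. -/
structure Geo (K B : Subgroup C) (T : Subgroup B) (t w : C) (T₀ : Subgroup C) : Prop where
  mem : ∀ y, y ∈ T₀ ↔ ∃ hy : y ∈ B, (⟨y, hy⟩ : B) ∈ T
  conj_mem : ∀ y ∈ T₀, w⁻¹ * y * w ∈ T₀
  notMem : w ∉ B
  fix : ∀ y ∈ T₀, y ∉ K → t * y ∉ K → ∀ g : C, g⁻¹ * y * g ∈ B → g ∈ B ∨ w⁻¹ * g ∈ B

theorem K_le (h : Big q K L B K₁ X T t) {w : C} {T₀ : Subgroup C} (hG : Geo K B T t w T₀) :
    K ≤ T₀ := by
  intro k hk
  exact (hG.mem k).2 ⟨h.KB hk, h.frob.K_le_T ((h.mem _).2 (Or.inl hk))⟩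

/-- The opposite Borel subgroup. -/
def opp (B : Subgroup C) (w : C) : Subgroup C := B.comap (MulAut.conj w⁻¹).toMonoidHom

theorem mem_opp {w g : C} : g ∈ opp B w ↔ w⁻¹ * g * w ∈ B := by
  rw [opp, Subgroup.mem_comap]
  show w⁻¹ * g * w⁻¹⁻¹ ∈ B ↔ _
  rw [inv_inv]

/-- **The values on the torus.** -/
theorem exists_ab [Fintype C] [hN : K.Normal] [Fintype K] (h : Big q K L B K₁ X T t) {w : C}
    {T₀ : Subgroup C} (hG : Geo K B T t w T₀) {ψ : C → ℂ} (hψ : IsIrrCharacter C ψ)
    (hdeg : ψ 1 = (q + 1 : ℕ)) {lam χ : K → ℂ} (hlam : IsIrrCharacter K lam)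
    (hχ : IsCharacter K χ) (hadd : ∀ k : K, ψ k = lam k + χ k) (hlam1 : lam 1 = 1)
    (hst : stab K lam = ⊤ ∨ ((stab K lam).index = q + 1 ∧
      (stab K lam = B ∨ stab K lam = opp B w))) :
    ∃ a b : T₀ →* ℂˣ,
      (∀ y (hy : y ∈ T₀), y ∉ K → t * y ∉ K → ψ y = a ⟨y, hy⟩ + b ⟨y, hy⟩) ∧
      ∃ la lb : K →* ℂˣ, (∀ k : K, la k = a ⟨k, K_le h hG k.2⟩) ∧
        (∀ k : K, lb k = b ⟨k, K_le h hG k.2⟩) ∧
        classInner (fun k : K => ψ k) (fun k => (la k : ℂ)) ≠ 0 ∧
        classInner (fun k : K => ψ k) (fun k => (lb k : ℂ)) ≠ 0 := by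
  classical
  obtain ⟨l, rfl⟩ := Linear.exists_hom_of_isIrrCharacter hlam hlam1
  have hl : classInner (fun k : K => ψ k) (fun k => (l k : ℂ)) ≠ 0 :=
    inner_ne_zero_of_add (χ := χ) hlam hχ (funext hadd)
  rcases hst with hst | ⟨hidx, hst⟩
  · -- the invariant case
    obtain ⟨d, hd0, hd⟩ := exists_mult hlam hst hψ hχ hadd
    have hdq : d = q + 1 := by
      have h1 := hd 1
      rw [Subgroup.coe_one, hdeg, map_one, Units.val_one, mul_one] at h1
      exact_mod_cast h1.symm
    subst hdq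
    obtain ⟨μ, hμ, hμψ, hμl⟩ := exists_mu h hlam hψ hd
    have hμ1 : μ 1 = 1 := by
      have := hμl 1
      rw [map_one] at this
      simpa using this
    obtain ⟨a, b, ha, hb, hab⟩ := val_inv h hψ hμ hμ1 hμψ
    have hTB : T₀ ≤ B := fun y hy => ((hG.mem y).1 hy).1
    have hal : ∀ k : K, a ⟨k, h.KB k.2⟩ = l k := by
      intro k
      apply Units.ext
      exact (ha (emb h k)).trans (hμl k)
    have hbl : ∀ k : K, b ⟨k, h.KB k.2⟩ = l k := by
      intro k
      apply Units.ext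
      exact (hb (emb h k)).trans (hμl k)
    refine ⟨a.comp (Subgroup.inclusion hTB), b.comp (Subgroup.inclusion hTB), ?_, l, l,
      fun k => (hal k).symm, fun k => (hbl k).symm, hl, hl⟩
    intro y hy hyK hytK
    obtain ⟨hyB, hyT⟩ := (hG.mem y).1 hy
    refine hab ⟨y, hyB⟩ hyT fun h1 => ?_
    rcases (h.mem _).1 h1 with h2 | h2
    · exact hyK h2
    · exact hytK h2
  · -- the induced case
    set H := stab K (fun k => (l k : ℂ)) with hH
    have hTB : T₀ ≤ B := fun y hy => ((hG.mem y).1 hy).1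
    have hTH : T₀ ≤ H := by
      rcases hst with h1 | h1
      · rw [h1]
        exact hTB
      · rw [h1]
        intro y hy
        rw [mem_opp]
        exact hTB (hG.conj_mem y hy)
    have hwH : w ∉ H := by
      rcases hst with h1 | h1
      · rw [h1]
        exact hG.notMem
      · rw [h1, mem_opp, inv_mul_cancel, one_mul]
        exact hG.notMem
    have hfix : ∀ y ∈ T₀, y ∉ K → t * y ∉ K → ∀ g : C, g⁻¹ * y * g ∈ H → g ∈ H ∨ w⁻¹ * g ∈ H := by
      intro y hy hyK hytK g hg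
      rcases hst with h1 | h1
      · rw [h1] at hg ⊢
        exact hG.fix y hy hyK hytK g hg
      · rw [h1, mem_opp] at hg
        rw [h1, mem_opp, mem_opp]
        have h2 : w⁻¹ * (g⁻¹ * y * g) * w =
            (w⁻¹ * g * w)⁻¹ * (w⁻¹ * y * w) * (w⁻¹ * g * w) := by group
        rw [h2] at hg
        have h3 : w⁻¹ * y * w ∉ K := by
          intro h4
          apply hyK
          have h5 := hN.conj_mem _ h4 w
          have h6 : w * (w⁻¹ * y * w) * w⁻¹ = y := by group
          rwa [h6] at h5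
        have h3' : t * (w⁻¹ * y * w) ∉ K := by
          intro h4
          apply hytK
          have h5 := hN.conj_mem _ h4 w
          have h6 : w * (t * (w⁻¹ * y * w)) * w⁻¹ = t * y := by
            rw [← mul_assoc w t, ← (h.t_comm w).eq]
            group
          rwa [h6] at h5
        rcases hG.fix _ (hG.conj_mem y hy) h3 h3' _ hg with h4 | h4
        · exact Or.inl h4
        · right
          have h5 : w⁻¹ * (w⁻¹ * g) * w = w⁻¹ * (w⁻¹ * g * w) := by group
          rw [h5]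
          exact h4
    obtain ⟨a, b, ha, hb, hab⟩ := val_ind hψ l hl hH (by rw [hdeg, hidx]) hTH (K_le h hG)
      hG.conj_mem hwH
    refine ⟨a, b, fun y hy hyK hytK => hab y hy (hfix y hy hyK hytK), l,
      l.comp ((MulAut.conjNormal w⁻¹ : MulAut K) : K →* K), fun k => (ha k).symm,
      fun k => (hb k).symm, hl, ?_⟩
    have h1 := Clifford.classInner_restrict_conjNormal (N := K) (Core.isIrr_isClassFunction hψ)
      (fun k => (l k : ℂ)) w⁻¹
    have h2 : (fun k : K => ((l.comp ((MulAut.conjNormal w⁻¹ : MulAut K) : K →* K)) k : ℂ)) =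
        (fun k : K => (l k : ℂ)) ∘ (MulAut.conjNormal w⁻¹ : MulAut K) := rfl
    rw [h2, h1]
    exact hl

end Cfsg.Agent.Classification.QDW.TorusVal
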