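import Mathlib
import Cfsg.Agent.Classification.QDW.InstGamma
import Cfsg.Agent.Classification.QDW.TorusVal

/-!
# The geometric hypotheses of the tight case, `ε = 1`

`geo`: the instance of `TorusVal.Geo`. `gen`: the two Borel subgroups generate. `line`: they are the
subgroups of index `q + 1` containing the preimage of the torus.
-/

set_option autoImplicit false
set_option linter.unusedSectionVars false

namespace Cfsg.Agent.Classification.QDW.InstGeo

open Cfsg Cfsg.Agent.Classification.InvCent Cfsg.Agent.Classification.QDW.LineC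
open Cfsg.Agent.Classification.QDW.InstC Cfsg.Agent.Classification.QDW.InstGamma
open Cfsg.Agent.Classification.QDW.TorusVal MulAction

universe u v

section CLevel

variable {C : Type*} [Group C] [Finite C] {q : ℕ} {Z T U : Subgroup C} {s : C}

/-- An element of `T` outside `Z` fixes exactly two points. -/
theorem fix_two (hb : Base q Z U) (h₁ : Torus q 1 Z T s) (hn : ∀ τ ∈ T, ∀ v ∈ U, τ * v * τ⁻¹ ∈ U)
    (hq : 3 ≤ q) {τ x : C} (hτ : τ ∈ T) (hτZ : τ ∉ Z) (hx : x⁻¹ * τ * x ∈ N U) :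
    x ∈ N U ∨ s⁻¹ * x ∈ N U := by
  have h1 : τ • ((x : C) : C ⧸ N U) = ((x : C) : C ⧸ N U) := by
    change ((τ * x : C) : C ⧸ N U) = ((x : C) : C ⧸ N U)
    rw [eq_comm, QuotientGroup.eq, ← mul_assoc]
    exact hx
  by_cases h2 : ((x : C) : C ⧸ N U) = inf U
  · left
    have h3 := QuotientGroup.eq.1 h2.symm
    rwa [inv_one, one_mul] at h3
  by_cases h3 : ((x : C) : C ⧸ N U) = zer U s
  · right
    exact QuotientGroup.eq.1 h3.symm
  exact absurd (mem_Z_of_fix hb h₁ hn hτ hq h2 h3 h1) hτZ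

theorem mem_stab_zer {g : C} : g ∈ stabilizer C (zer U s) ↔ s⁻¹ * g * s ∈ N U := by
  rw [mem_stabilizer_iff]
  change ((g * s : C) : C ⧸ N U) = ((s : C) : C ⧸ N U) ↔ _
  rw [eq_comm, QuotientGroup.eq, ← mul_assoc]

/-- `s` does not normalise the Borel subgroup. -/
theorem not_le (hb : Base q Z U) (h₁ : Torus q 1 Z T s) (hn : ∀ τ ∈ T, ∀ v ∈ U, τ * v * τ⁻¹ ∈ U)
    (hq : 3 ≤ q) (h : ∀ x ∈ N U, s * x * s⁻¹ ∈ N U) : False := by
  refine s₁_notMem hb h₁ hn hq (mem_N_of fun v hv => ?_)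
  exact mem_U_of_pow hb h₁ hn (h v (U_le_N hv)) (conj_pow_q hb hv s)

end CLevel

section Gamma

variable {C : Type*} [Group C] [Finite C] {z : C} {q : ℕ} {Z T T' U : Subgroup C}
  {s s' u₀ : C} {b : C →* ℂˣ} {Γ : Type u} [Group Γ] [Finite Γ] {π : Γ →* C} {t u w : Γ}

theorem split_one (hD : CData z q 1 Z T T' U s s' u₀ b) : Split q Z T U s :=
  ⟨hD.chyp.torus, hD.norm₁ rfl, gen_split hD.chyp.base hD.chyp.torus (hD.norm₁ rfl)⟩

theorem five_lt (hD : CData z q 1 Z T T' U s s' u₀ b) (hq : 5 ≤ q) : 5 < q := by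
  obtain ⟨m, hm, h1⟩ := hD.exists_m
  obtain ⟨k, hk⟩ := hm
  omega

/-- The geometric hypotheses. -/
theorem geo (hD : CData z q 1 Z T T' U s s' u₀ b) (hG : GHyp π z u₀ s t u w) :
    Geo π.ker (Bg U π) (inB U π T) t w (T.comap π) where
  mem := by
    intro y
    constructor
    · intro hy
      exact ⟨T₁_le_N hD.chyp.base hD.chyp.torus (hD.norm₁ rfl) hy, hy⟩
    · rintro ⟨_, hy⟩
      exact hy
  conj_mem := by
    intro y hy
    rw [Subgroup.mem_comap] at hy ⊢
    rw [map_mul, map_mul, map_inv, hG.map_w]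
    have h1 : s⁻¹ = s := inv_eq_of_mul_eq_one_left hD.chyp.s_sq
    have h2 := hD.chyp.s_conj _ hy
    rwa [h1] at h2 ⊢
  notMem := by
    rw [Subgroup.mem_comap, hG.map_w]
    exact s₁_notMem hD.chyp.base hD.chyp.torus (hD.norm₁ rfl) hD.three_le
  fix := by
    intro y hy hyK htyK g hg
    rw [Subgroup.mem_comap] at hy hg ⊢
    rw [map_mul, map_mul, map_inv] at hg
    rw [Subgroup.mem_comap, map_mul, map_inv, hG.map_w]
    refine fix_two hD.chyp.base hD.chyp.torus (hD.norm₁ rfl) hD.three_le hy (fun h1 => ?_) hg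
    rcases hD.mem_Z.1 h1 with h2 | h2
    · exact hyK h2
    · apply htyK
      rw [MonoidHom.mem_ker, map_mul, h2, hG.map_t, ← hG.map_t, ← map_mul, hG.tt, map_one]

theorem ker_le_of {H : Subgroup Γ} (hT : T.comap π ≤ H) : π.ker ≤ H := by
  intro x hx
  apply hT
  rw [Subgroup.mem_comap, MonoidHom.mem_ker.1 hx]
  exact one_mem T

theorem map_index (hπ : Function.Surjective π) {H : Subgroup Γ} (hK : π.ker ≤ H) :
    (H.map π).index = H.index := by
  have h2 := Subgroup.index_comap_of_surjective (H.map π) hπ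
  rw [Subgroup.comap_map_eq_self hK] at h2
  exact h2.symm

theorem T_le_map (hπ : Function.Surjective π) {H : Subgroup Γ} (hT : T.comap π ≤ H) :
    T ≤ H.map π := by
  intro x hx
  obtain ⟨y, rfl⟩ := hπ x
  exact ⟨y, hT hx, rfl⟩

theorem index_ge (hD : CData z q 1 Z T T' U s s' u₀ b) (hG : GHyp π z u₀ s t u w) (hq : 5 ≤ q)
    {H : Subgroup Γ} (hT : T.comap π ≤ H) (hH : H ≠ ⊤) :
    q + 1 ≤ H.index ∧ (H.index = q + 1 → H = Bg U π ∨ H = opp (Bg U π) w) := by
  have hK := ker_le_of hT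
  have hne : H.map π ≠ ⊤ := by
    intro h4
    apply hH
    rw [← Subgroup.comap_map_eq_self hK, h4, Subgroup.comap_top]
  obtain ⟨h1, h2⟩ := index_eps_one hD.chyp (hD.norm₁ rfl) (five_lt hD hq) (T_le_map hG.surj hT) hne
  rw [map_index hG.surj hK] at h1 h2
  refine ⟨h1, fun h3 => ?_⟩
  rcases h2 h3 with h4 | h4
  · left
    rw [← Subgroup.comap_map_eq_self hK, h4]
  · right
    rw [← Subgroup.comap_map_eq_self hK, h4]
    ext g
    rw [Subgroup.mem_comap, mem_stab_zer, mem_opp, Subgroup.mem_comap, map_mul, map_mul, map_inv,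
      hG.map_w]

/-- The subgroups of index `q + 1` containing the preimage of the torus. -/
theorem line (hD : CData z q 1 Z T T' U s s' u₀ b) (hG : GHyp π z u₀ s t u w) (hq : 5 ≤ q)
    (H : Subgroup Γ) (hT : T.comap π ≤ H) (hH : H.index = q + 1) :
    H = Bg U π ∨ H = opp (Bg U π) w := by
  refine (index_ge hD hG hq hT ?_).2 hH
  rintro rfl
  rw [Subgroup.index_top] at hH
  omega

/-- The two Borel subgroups generate. -/
theorem gen (hD : CData z q 1 Z T T' U s s' u₀ b) (hG : GHyp π z u₀ s t u w) (hq : 5 ≤ q) :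
    Bg U π ⊔ opp (Bg U π) w = ⊤ := by
  by_contra hne
  have hTB : T.comap π ≤ Bg U π :=
    Subgroup.comap_mono (T₁_le_N hD.chyp.base hD.chyp.torus (hD.norm₁ rfl))
  have h1 := (index_ge hD hG hq (hTB.trans le_sup_left) hne).1
  have h2 : (Bg U π).index = q + 1 := by
    rw [Subgroup.index_comap_of_surjective _ hG.surj]
    exact index_N hD.chyp.base hD.chyp.torus (hD.norm₁ rfl)
  have h3 := Subgroup.relIndex_mul_index (le_sup_left : Bg U π ≤ Bg U π ⊔ opp (Bg U π) w)
  have h4 : (Bg U π).relIndex (Bg U π ⊔ opp (Bg U π) w) = 1 := by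
    rw [h2] at h3
    have h5 : (Bg U π).relIndex (Bg U π ⊔ opp (Bg U π) w) ≠ 0 := by
      intro h6
      rw [h6, zero_mul] at h3
      omega
    have h6 : 1 ≤ (Bg U π).relIndex (Bg U π ⊔ opp (Bg U π) w) := Nat.one_le_iff_ne_zero.2 h5
    nlinarith
  have h5 : opp (Bg U π) w ≤ Bg U π :=
    le_sup_right.trans (Subgroup.relIndex_eq_one.1 h4)
  refine not_le hD.chyp.base hD.chyp.torus (hD.norm₁ rfl) hD.three_le fun x hx => ?_
  obtain ⟨y, rfl⟩ := hG.surj x
  have h6 : w * y * w⁻¹ ∈ opp (Bg U π) w := by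
    rw [mem_opp]
    have : w⁻¹ * (w * y * w⁻¹) * w = y := by group
    rw [this]
    exact hx
  have h7 := h5 h6
  rw [Subgroup.mem_comap, map_mul, map_mul, map_inv, hG.map_w] at h7
  exact h7

theorem ww (hD : CData z q 1 Z T T' U s s' u₀ b) (hG : GHyp π z u₀ s t u w) :
    w * w ∈ Bg U π := by
  rw [Subgroup.mem_comap, map_mul, hG.map_w, hD.chyp.s_sq]
  exact one_mem _

theorem wT (hD : CData z q 1 Z T T' U s s' u₀ b) (hG : GHyp π z u₀ s t u w) (g : Γ)
    (hg : g ∈ T.comap π) : w * g * w⁻¹ ∈ T.comap π := by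
  rw [Subgroup.mem_comap] at hg ⊢
  rw [map_mul, map_mul, map_inv, hG.map_w]
  exact hD.chyp.s_conj _ hg

end Gamma

end Cfsg.Agent.Classification.QDW.InstGeo
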