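import Mathlib
import Cfsg.Prelude.Def_Characters
import Cfsg.Agent.Characters.Core
import Cfsg.Agent.Characters.Clifford
import Cfsg.Agent.Characters.Linear
import Cfsg.Agent.Characters.SchurBound
import Cfsg.Agent.Classification.QDW.LowerBound
import Cfsg.Agent.Classification.QDW.TorusVal
import Cfsg.Agent.Classification.QDW.BorelOrb
import Cfsg.Agent.Classification.QDW.WrEnd

/-!
# The tight case of the quasi-dihedral core-killing, `ε = 1`

`TightHyp`: the equality case of the lower bound (`k = 1` and `k = q` together), inside `C = C(t)`.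
`TightHyp.le_center`: `K` is central. `TightHyp.inf_eq_bot`: `K ∩ A₁ = 1`.
-/

set_option autoImplicit false
set_option linter.unusedSectionVars false

namespace Cfsg.Agent.Classification.QDW.QDTight

open Cfsg Cfsg.Agent.Characters Cfsg.Agent.Classification.QDW.BigDeg
  Cfsg.Agent.Classification.QDW.Coef Cfsg.Agent.Classification.QDW.DegBound
  Cfsg.Agent.Classification.QDW.LowerBound Cfsg.Agent.Classification.QDW.TorusVal
open scoped ComplexConjugate

universe u v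

variable {C : Type u} [Group C] [Finite C] {W : Type v} [Group W] [Finite W] [Fintype W]
  {q : ℕ} {K L B : Subgroup C} {K₁ X T : Subgroup B} {e : W →* C} {α : W ≃* W} {t u w : C}
  {T₀ : Subgroup C} {Y : C → ℂ} {c : ℤ} {m : ℕ} {A₁ A₂ : Subgroup W} {φ : Fin 4 → C → ℂ}
  {n : Fin 4 → ℕ}

/-- The degrees `1, 1, q, q` of the special characters `1, s, St, s St`. -/
def sdeg (q : ℕ) : Fin 4 → ℕ := ![1, 1, q, q]

/-- The values `1, -1, 1, -1` of the special characters at `u`. -/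
def sval : Fin 4 → ℤ := ![1, -1, 1, -1]

/-- The equality case. -/
structure TightHyp (q : ℕ) (K L B : Subgroup C) [K.Normal] (K₁ X T : Subgroup B) (e : W →* C)
    (α : W ≃* W) (t u w : C) (T₀ : Subgroup C) (Y : C → ℂ) (c : ℤ) (m : ℕ) (A₁ A₂ : Subgroup W)
    (φ : Fin 4 → C → ℂ) (n : Fin 4 → ℕ) [Fintype C] : Prop where
  lb : LBHyp q 1 K L B K₁ X T e α t u w
  geo : Geo K B T t w T₀
  ww : w * w ∈ B
  gen : B ⊔ opp B w = ⊤
  wT : ∀ g ∈ T₀, w * g * w⁻¹ ∈ T₀
  cover : ∀ g ∈ T₀, ∃ k ∈ K, ∃ v, (v = 1 ∨ v = t ∨ v = u ∨ v = t * u) ∧ ∃ y : W, g = k * (v * e y)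
  line : ∀ H : Subgroup C, T₀ ≤ H → H.index = q + 1 → H = B ∨ H = opp B w
  vals : Vals q 1 e α t u Y 1 c m A₁ A₂
  hc : c = 0 ∨ c = 1
  one : Y 1 = (q : ℂ) ^ 2 + q - 1 + c
  faith : ∀ k ∈ K, Y k = Y 1 → k = 1
  Yt : ∀ k ∈ K, Y (t * k) = Y t
  valt : ∀ y : W, e y ∉ K → Y (t * e y) = c + 1
  alpha : ∀ y, α y ∈ A₂ ↔ y ∈ A₁
  swap : ∀ y : W, e y ∈ K → ∃ y' : W, Y (e y') = Y (e y) ∧ (e y' ∈ K ↔ y ∈ A₁) ∧ y' ∈ A₁ ∧
    (y' ∈ A₂ ↔ y ∈ A₂)
  swap' : ∀ y : W, e y ∈ K → ∃ y' : W, Y (e y') = Y (e y) ∧ (e y' ∈ K ↔ y ∈ A₂) ∧ y' ∈ A₂ ∧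
    (y' ∈ A₁ ↔ y ∈ A₁)
  irr : ∀ i, IsIrrCharacter C (φ i)
  inj : Function.Injective φ
  deg : ∀ i, φ i 1 = sdeg q i
  val_t : ∀ i, φ i t = φ i 1
  val_K : ∀ i, ∀ k ∈ K, φ i k = φ i 1
  val_e : ∀ i (y : W), e y ∉ K → φ i (e y) = 1
  val_u : ∀ i (y : W), φ i (u * e y) = sval i
  mult : ∀ i, classInner Y (φ i) = n i
  rel12 : (n 0 : ℤ) - n 1 + n 2 - n 3 = c + 3
  rel3 : (n 0 : ℤ) + 1 ≤ n 2 + c
  eq : ∀ ψ : C → ℂ, IsIrrCharacter C ψ → classInner Y ψ ≠ 0 → ψ t = ψ 1 → (∀ i, ψ ≠ φ i) →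
    ψ 1 = (q + 1 : ℕ) ∧ ∃ lam χ : K → ℂ, IsIrrCharacter K lam ∧
      IsCharacter K χ ∧ (∀ k : K, ψ k = lam k + χ k) ∧ lam 1 = 1 ∧
      (Inertia.stab K lam = ⊤ ∨ ((Inertia.stab K lam).index = q + 1 ∧ u ∈ Inertia.stab K lam ∧
        ∀ y, e y ∈ Inertia.stab K lam))

theorem t_mem (h : LBHyp q 1 K L B K₁ X T e α t u w) (hG : Geo K B T t w T₀) : t ∈ T₀ := by
  refine (hG.mem t).2 ⟨h.big.tB, h.big.frob.K_le_T ?_⟩
  exact BigDeg.t_mem h.big

theorem u_mem (h : LBHyp q 1 K L B K₁ X T e α t u w) (hG : Geo K B T t w T₀) : u ∈ T₀ := by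
  obtain ⟨hu, huT, -⟩ := h.epsT rfl
  exact (hG.mem u).2 ⟨hu, huT⟩

theorem e_mem (h : LBHyp q 1 K L B K₁ X T e α t u w) (hG : Geo K B T t w T₀) (y : W) :
    e y ∈ T₀ := by
  obtain ⟨hu, -, h1⟩ := h.epsT rfl
  obtain ⟨hy, hyT⟩ := h1 y
  exact (hG.mem _).2 ⟨hy, hyT⟩

open scoped Classical in
/-- The decomposition of the `t = 1` part. -/
theorem exists_decomp [Fintype C] [K.Normal]
    (h : TightHyp q K L B K₁ X T e α t u w T₀ Y c m A₁ A₂ φ n) :
    ∃ (S : Finset (IrrCharacter C)) (k : IrrCharacter C → ℕ),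
      (∀ ψ ∈ S, classInner Y (ψ : C → ℂ) ≠ 0 ∧ (ψ : C → ℂ) t = (ψ : C → ℂ) 1 ∧
        ∀ i, (ψ : C → ℂ) ≠ φ i) ∧
      (∀ ψ ∈ S, k ψ ≠ 0) ∧
      ∀ g, Y g + Y (t * g) = 2 * (∑ i, (n i : ℂ) * φ i g + ∑ ψ ∈ S, (k ψ : ℂ) * (ψ : C → ℂ) g) := by
  have := Core.finite_irr (G := C)
  let _ : Fintype (IrrCharacter C) := Fintype.ofFinite _
  obtain ⟨k, hk⟩ := Core.exists_nat_comb h.vals.char
  choose τ hτ hτ' using fun ψ : IrrCharacter C =>
    central_sign h.lb.big.tt h.lb.big.t_comm ψ.2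
  have hkin : ∀ ψ : IrrCharacter C, classInner Y (ψ : C → ℂ) = k ψ := by
    intro ψ
    rw [hk, Core.classInner_sum_nsmul_irr]
  set Φ : Fin 4 → IrrCharacter C := fun i => ⟨φ i, h.irr i⟩ with hΦ
  have hΦi : Function.Injective Φ := fun i j hij => h.inj (congrArg Subtype.val hij)
  have hkΦ : ∀ i, k (Φ i) = n i := by
    intro i
    have h1 := hkin (Φ i)
    rw [h.mult i] at h1
    exact_mod_cast h1.symm
  have hτt : ∀ ψ : IrrCharacter C, (ψ : C → ℂ) t = (ψ : C → ℂ) 1 ↔ τ ψ = 1 := by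
    intro ψ
    have h1 := hτ' ψ 1
    rw [mul_one] at h1
    rw [h1]
    constructor
    · intro h2
      exact (mul_eq_right₀ (Core.isIrr_apply_one_ne_zero ψ.2)).1 h2
    · intro h2
      rw [h2, one_mul]
  refine ⟨Finset.univ.filter fun ψ => (ψ : C → ℂ) t = (ψ : C → ℂ) 1 ∧ k ψ ≠ 0 ∧
    ψ ∉ Finset.univ.image Φ, k, ?_, ?_, ?_⟩
  · intro ψ hψ
    obtain ⟨-, h1, h2, h3⟩ := Finset.mem_filter.1 hψ
    refine ⟨by rw [hkin]; exact_mod_cast h2, h1, fun i hi => h3 ?_⟩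
    exact Finset.mem_image.2 ⟨i, Finset.mem_univ _, Subtype.ext hi.symm⟩
  · intro ψ hψ
    exact (Finset.mem_filter.1 hψ).2.2.1
  · intro g
    have h1 : ∀ x, Y x = ∑ ψ : IrrCharacter C, (k ψ : ℂ) * (ψ : C → ℂ) x := by
      intro x
      have := congrFun hk x
      simpa [Finset.sum_apply, nsmul_eq_mul] using this
    have h2 : Y g + Y (t * g) = ∑ ψ : IrrCharacter C,
        (if (ψ : C → ℂ) t = (ψ : C → ℂ) 1 then 2 * ((k ψ : ℂ) * (ψ : C → ℂ) g) else 0) := by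
      rw [h1 g, h1 (t * g), ← Finset.sum_add_distrib]
      refine Finset.sum_congr rfl fun ψ _ => ?_
      rw [hτ' ψ g]
      by_cases h3 : (ψ : C → ℂ) t = (ψ : C → ℂ) 1
      · rw [if_pos h3, (hτt ψ).1 h3]
        ring
      · rw [if_neg h3]
        have h4 : τ ψ = -1 := (hτ ψ).resolve_left fun h5 => h3 ((hτt ψ).2 h5)
        rw [h4]
        ring
    rw [h2, ← Finset.sum_filter, ← Finset.mul_sum]
    congr 1
    rw [← Finset.sum_filter_add_sum_filter_not _ (fun ψ => ψ ∈ Finset.univ.image Φ)]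
    congr 1
    · have h3 : (Finset.univ.filter fun ψ : IrrCharacter C =>
          (ψ : C → ℂ) t = (ψ : C → ℂ) 1).filter (fun ψ => ψ ∈ Finset.univ.image Φ) =
          Finset.univ.image Φ := by
        ext ψ
        rw [Finset.mem_filter, Finset.mem_filter]
        constructor
        · exact fun h4 => h4.2
        · intro h4
          refine ⟨⟨Finset.mem_univ _, ?_⟩, h4⟩
          obtain ⟨i, -, rfl⟩ := Finset.mem_image.1 h4
          exact h.val_t i
      rw [h3, Finset.sum_image fun i _ j _ hij => hΦi hij]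
      refine Finset.sum_congr rfl fun i _ => ?_
      rw [hkΦ]
    · rw [Finset.filter_filter]
      symm
      refine Finset.sum_subset ?_ ?_
      · intro ψ hψ
        obtain ⟨-, h1, h2, h3⟩ := Finset.mem_filter.1 hψ
        exact Finset.mem_filter.2 ⟨Finset.mem_univ _, h1, h3⟩
      · intro ψ hψ hψ'
        obtain ⟨-, h3, h4⟩ := Finset.mem_filter.1 hψ
        have h5 : k ψ = 0 := by
          by_contra h6
          exact hψ' (Finset.mem_filter.2 ⟨Finset.mem_univ _, h3, h6, h4⟩)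
        rw [h5, Nat.cast_zero, zero_mul]

theorem e_notMem_t (h : LBHyp q 1 K L B K₁ X T e α t u w) (y : W) : t * e y ∉ K := by
  intro h1
  obtain ⟨r, hr⟩ := h.cent.oddW
  obtain ⟨s, hs⟩ := h.big.oddK
  have h2 : (t * e y) ^ (Nat.card K * Nat.card W) = 1 := by
    rw [pow_mul]
    have h3 : (t * e y) ^ Nat.card K = 1 :=
      congrArg Subtype.val (pow_card_eq_one' (x := (⟨t * e y, h1⟩ : K)))
    rw [h3, one_pow]
  have h3 : (t * e y) ^ (Nat.card K * Nat.card W) = t := by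
    rw [(h.big.t_comm (e y)).mul_pow, mul_comm (Nat.card K), pow_mul (e y), ← map_pow,
      pow_card_eq_one', map_one, one_pow, mul_one, hr, hs]
    have h4 : (2 * r + 1) * (2 * s + 1) = 2 * (2 * r * s + r + s) + 1 := by ring
    rw [h4, pow_succ, pow_mul, sq, h.big.tt, one_pow, one_mul]
  rw [h2] at h3
  exact h.big.t_ne h3.symm

theorem t_mem_L (h : LBHyp q 1 K L B K₁ X T e α t u w) : t ∈ L := by
  have hN : L.Normal := Subgroup.normal_of_index_eq_two h.cent.index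
  have h1 : w * u * w⁻¹ * u⁻¹ ∈ L := by
    rcases Subgroup.mul_mem_iff_of_index_two h.cent.index (a := w * u * w⁻¹) (b := u⁻¹) with h2
    refine h2.2 ⟨fun h3 => ?_, fun h3 => ?_⟩
    · exfalso
      have := hN.conj_mem _ h3 w⁻¹
      have h4 : w⁻¹ * (w * u * w⁻¹) * w⁻¹⁻¹ = u := by group
      rw [h4] at this
      exact h.cent.not_mem this
    · exact absurd (by simpa using L.inv_mem h3) h.cent.not_mem
  rw [h.wu, mul_inv_cancel_right] at h1
  exact h1

theorem u_notMem (h : LBHyp q 1 K L B K₁ X T e α t u w) (y : W) :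
    u * e y ∉ K ∧ t * (u * e y) ∉ K := by
  have h1 := NormBound.mul_not_mem h.cent y
  refine ⟨fun h2 => h1 (h.big.KL h2), fun h2 => h1 ?_⟩
  have h3 := L.mul_mem (L.inv_mem (t_mem_L h)) (h.big.KL h2)
  rwa [inv_mul_cancel_left] at h3

/-- The linear characters of the torus attached to the constituents. -/
theorem exists_ab [Fintype C] [hN : K.Normal] [Fintype K]
    (h : TightHyp q K L B K₁ X T e α t u w T₀ Y c m A₁ A₂ φ n) {ψ : C → ℂ}
    (hψ : IsIrrCharacter C ψ) (h0 : classInner Y ψ ≠ 0) (ht : ψ t = ψ 1) (hne : ∀ i, ψ ≠ φ i) :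
    ∃ a b : T₀ →* ℂˣ,
      (∀ y (hy : y ∈ T₀), y ∉ K → t * y ∉ K → ψ y = a ⟨y, hy⟩ + b ⟨y, hy⟩) ∧
      ∃ la lb : K →* ℂˣ, (∀ k : K, la k = a ⟨k, K_le h.lb.big h.geo k.2⟩) ∧
        (∀ k : K, lb k = b ⟨k, K_le h.lb.big h.geo k.2⟩) ∧
        classInner (fun k : K => ψ k) (fun k => (la k : ℂ)) ≠ 0 ∧
        classInner (fun k : K => ψ k) (fun k => (lb k : ℂ)) ≠ 0 := by
  obtain ⟨hdeg, lam, χ, hlam, hχ, hadd, hlam1, hst⟩ := h.eq ψ hψ h0 ht hne
  refine TorusVal.exists_ab h.lb.big h.geo hψ hdeg hlam hχ hadd hlam1 ?_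
  rcases hst with hst | ⟨hidx, hu, he⟩
  · exact Or.inl hst
  · refine Or.inr ⟨hidx, h.line _ ?_ hidx⟩
    intro g hg
    obtain ⟨k, hk, v, hv, y, rfl⟩ := h.cover g hg
    have hKs : K ≤ Inertia.stab K lam := Inertia.le_stab (Core.isIrr_isClassFunction hlam)
    have hts : t ∈ Inertia.stab K lam := Inertia.center_le_stab h.lb.big.t_comm
    refine Subgroup.mul_mem _ (hKs hk) (Subgroup.mul_mem _ ?_ (he y))
    rcases hv with rfl | rfl | rfl | rfl
    · exact Subgroup.one_mem _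
    · exact hts
    · exact hu
    · exact Subgroup.mul_mem _ hts hu

theorem hom_u {A : Type*} [Group A] (a : A →* ℂˣ) {x : A} (hx : x * x = 1) :
    (a x : ℂ) = 1 ∨ (a x : ℂ) = -1 := by
  have h1 : (a x : ℂ) * a x = 1 := by
    rw [← Units.val_mul, ← map_mul, hx, map_one, Units.val_one]
  exact mul_self_eq_one_iff.1 h1

/-- The arithmetic of the multiplicities. -/
theorem arith {q m M : ℕ} {c s : ℤ} {n0 n1 n2 n3 : ℕ} (hq : 5 ≤ q) (hc : c = 0 ∨ c = 1)
    (h12 : (n0 : ℤ) - n1 + n2 - n3 = c + 3) (h3 : (n0 : ℤ) + 1 ≤ n2 + c)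
    (hs : s = 2 * m - 2) (hsM : s ≤ 2 * M)
    (hdim : (n0 : ℤ) + n1 + q * (n2 + n3) + (q + 1) * M = (q + 1) * m + q + c) :
    (n0 : ℤ) = c + 1 ∧ n1 = 0 ∧ n2 = 2 ∧ n3 = 0 ∧ (M : ℤ) = m - 1 := by
  have hM : (m : ℤ) - 1 ≤ M := by omega
  have hle : (n0 : ℤ) + n1 + q * (n2 + n3) ≤ 2 * q + 1 + c := by nlinarith
  have h23 : (n2 : ℤ) + n3 ≤ 2 := by
    by_contra hcon
    push Not at hcon
    have h4 : (3 : ℤ) ≤ n2 + n3 := by omega
    have h5 : (q : ℤ) * 3 ≤ q * (n2 + n3) := mul_le_mul_of_nonneg_left h4 (by positivity)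
    have h6 : (5 : ℤ) ≤ q := by exact_mod_cast hq
    rcases hc with rfl | rfl <;> linarith
  have hcases : (n2 : ℤ) = 2 ∧ (n3 : ℤ) = 0 ∧ (n0 : ℤ) = c + 1 ∧ (n1 : ℤ) = 0 := by
    rcases (by omega : (n2 : ℤ) + n3 = 2 ∨ (n2 : ℤ) + n3 ≤ 1) with h4 | h4
    · rw [h4] at hle
      refine ⟨?_, ?_, ?_, ?_⟩ <;> rcases hc with rfl | rfl <;> omega
    · exfalso
      rcases hc with rfl | rfl <;> omega
  obtain ⟨e2, e3, e0, e1⟩ := hcases
  refine ⟨e0, by exact_mod_cast e1, by exact_mod_cast e2, by exact_mod_cast e3, ?_⟩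
  rw [e0, e1, e2, e3] at hdim
  have h4 : ((q : ℤ) + 1) * (M - (m - 1)) = 0 := by linarith
  have h5 : (0 : ℤ) < q + 1 := by positivity
  rcases mul_eq_zero.1 h4 with h6 | h6
  · omega
  · linarith

open scoped Classical in
/-- The decomposition with the linear characters of the torus. -/
theorem key [Fintype C] [hN : K.Normal] [Fintype K]
    (h : TightHyp q K L B K₁ X T e α t u w T₀ Y c m A₁ A₂ φ n) :
    ∃ (S : Finset (IrrCharacter C)) (k : IrrCharacter C → ℕ)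
      (a b : IrrCharacter C → (T₀ →* ℂˣ)),
      (∀ ψ ∈ S, classInner Y (ψ : C → ℂ) ≠ 0 ∧ (ψ : C → ℂ) t = (ψ : C → ℂ) 1 ∧
        (∀ i, (ψ : C → ℂ) ≠ φ i) ∧ (ψ : C → ℂ) 1 = (q + 1 : ℕ) ∧ k ψ ≠ 0) ∧
      (∀ ψ ∈ S, (∀ y (hy : y ∈ T₀), y ∉ K → t * y ∉ K →
          (ψ : C → ℂ) y = a ψ ⟨y, hy⟩ + b ψ ⟨y, hy⟩) ∧
        ∃ la lb : K →* ℂˣ, (∀ k : K, la k = a ψ ⟨k, K_le h.lb.big h.geo k.2⟩) ∧
          (∀ k : K, lb k = b ψ ⟨k, K_le h.lb.big h.geo k.2⟩) ∧
          classInner (fun k : K => (ψ : C → ℂ) k) (fun k => (la k : ℂ)) ≠ 0 ∧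
          classInner (fun k : K => (ψ : C → ℂ) k) (fun k => (lb k : ℂ)) ≠ 0) ∧
      (∑ ψ ∈ S, (k ψ : ℤ) = m - 1) ∧
      (∀ y : W, ∑ ψ ∈ S, (k ψ : ℂ) * (a ψ ⟨e y, e_mem h.lb h.geo y⟩ +
          b ψ ⟨e y, e_mem h.lb h.geo y⟩) =
        m * ((if y ∈ A₁ then 1 else 0) + (if y ∈ A₂ then 1 else 0)) - 2) ∧
      ∀ g, Y g + Y (t * g) = 2 * (((c : ℂ) + 1) * φ 0 g + 2 * φ 2 g +
        ∑ ψ ∈ S, (k ψ : ℂ) * (ψ : C → ℂ) g) := by
  obtain ⟨S, k, hS, hk0, hdec⟩ := exists_decomp h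
  have hch : ∀ ψ : IrrCharacter C, ψ ∈ S → ∃ a b : T₀ →* ℂˣ,
      (∀ y (hy : y ∈ T₀), y ∉ K → t * y ∉ K →
          (ψ : C → ℂ) y = a ⟨y, hy⟩ + b ⟨y, hy⟩) ∧
        ∃ la lb : K →* ℂˣ, (∀ k : K, la k = a ⟨k, K_le h.lb.big h.geo k.2⟩) ∧
          (∀ k : K, lb k = b ⟨k, K_le h.lb.big h.geo k.2⟩) ∧
          classInner (fun k : K => (ψ : C → ℂ) k) (fun k => (la k : ℂ)) ≠ 0 ∧
          classInner (fun k : K => (ψ : C → ℂ) k) (fun k => (lb k : ℂ)) ≠ 0 :=
    fun ψ hψ => exists_ab h ψ.2 (hS ψ hψ).1 (hS ψ hψ).2.1 (hS ψ hψ).2.2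
  choose! a b hab using hch
  have hdeg : ∀ ψ ∈ S, (ψ : C → ℂ) 1 = (q + 1 : ℕ) := fun ψ hψ =>
    (h.eq ψ ψ.2 (hS ψ hψ).1 (hS ψ hψ).2.1 (hS ψ hψ).2.2).1
  have hq := h.lb.big.frob.q_ge
  have humem := u_mem h.lb h.geo
  -- the signs
  have huu : (⟨u, humem⟩ : T₀) * ⟨u, humem⟩ = 1 := Subtype.ext h.lb.cent.sq
  have hsgn : ∀ ψ : IrrCharacter C, ∃ s₁ s₂ : ℤ, (s₁ = 1 ∨ s₁ = -1) ∧ (s₂ = 1 ∨ s₂ = -1) ∧
      (a ψ ⟨u, humem⟩ : ℂ) = s₁ ∧ (b ψ ⟨u, humem⟩ : ℂ) = s₂ := by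
    intro ψ
    obtain ⟨s₁, h1, h1'⟩ : ∃ s₁ : ℤ, (s₁ = 1 ∨ s₁ = -1) ∧ (a ψ ⟨u, humem⟩ : ℂ) = s₁ := by
      rcases hom_u (a ψ) huu with h1 | h1
      · exact ⟨1, Or.inl rfl, by rw [h1]; norm_num⟩
      · exact ⟨-1, Or.inr rfl, by rw [h1]; norm_num⟩
    obtain ⟨s₂, h2, h2'⟩ : ∃ s₂ : ℤ, (s₂ = 1 ∨ s₂ = -1) ∧ (b ψ ⟨u, humem⟩ : ℂ) = s₂ := by
      rcases hom_u (b ψ) huu with h1 | h1
      · exact ⟨1, Or.inl rfl, by rw [h1]; norm_num⟩
      · exact ⟨-1, Or.inr rfl, by rw [h1]; norm_num⟩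
    exact ⟨s₁, s₂, h1, h2, h1', h2'⟩
  choose s₁ s₂ hs₁ hs₂ has hbs using hsgn
  -- the values at `u (e y)`
  have hue : ∀ y : W, u * e y ∈ T₀ := fun y => T₀.mul_mem humem (e_mem h.lb h.geo y)
  have hψu : ∀ ψ ∈ S, ∀ y : W, (ψ : C → ℂ) (u * e y) =
      s₁ ψ * a ψ ⟨e y, e_mem h.lb h.geo y⟩ + s₂ ψ * b ψ ⟨e y, e_mem h.lb h.geo y⟩ := by
    intro ψ hψ y
    rw [(hab ψ hψ).1 _ (hue y) (u_notMem h.lb y).1 (u_notMem h.lb y).2, ← has, ← hbs,
      ← Units.val_mul, ← Units.val_mul, ← map_mul, ← map_mul]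
    rfl
  have hvalu : ∀ y : W, Y (u * e y) + Y (t * (u * e y)) =
      2 * ((c : ℂ) + 1 + m * ((if y ∈ A₁ then 1 else 0) + (if y ∈ A₂ then 1 else 0))) := by
    intro y
    have h1 : Y (u * e y) = (c : ℂ) + 1 + 2 * m * (if y ∈ A₁ then 1 else 0) := by
      by_cases hy : y ∈ A₁
      · rw [h.vals.val₁ y hy, if_pos hy]
        push_cast
        ring
      · rw [h.vals.val₁' y hy, if_neg hy]
        push_cast
        ring
    have h2 : Y (t * (u * e y)) = (c : ℂ) + 1 + 2 * m * (if y ∈ A₂ then 1 else 0) := by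
      by_cases hy : y ∈ A₂
      · rw [h.vals.val₂ y hy, if_pos hy]
        push_cast
        ring
      · rw [h.vals.val₂' y hy, if_neg hy]
        push_cast
        ring
    rw [h1, h2]
    ring
  -- the sum at `u (e y)`
  have hsumu : ∀ y : W, ((n 0 : ℂ) - n 1 + n 2 - n 3) + ∑ ψ ∈ S, (k ψ : ℂ) *
      (s₁ ψ * a ψ ⟨e y, e_mem h.lb h.geo y⟩ + s₂ ψ * b ψ ⟨e y, e_mem h.lb h.geo y⟩) =
      (c : ℂ) + 1 + m * ((if y ∈ A₁ then 1 else 0) + (if y ∈ A₂ then 1 else 0)) := by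
    intro y
    have h1 := hdec (u * e y)
    rw [hvalu y, Fin.sum_univ_four, h.val_u 0, h.val_u 1, h.val_u 2, h.val_u 3,
      Finset.sum_congr rfl fun ψ hψ => by rw [hψu ψ hψ y]] at h1
    have e0 : ((sval 0 : ℤ) : ℂ) = 1 := by rw [show sval 0 = 1 from rfl, Int.cast_one]
    have e1 : ((sval 1 : ℤ) : ℂ) = -1 := by
      rw [show sval 1 = -1 from rfl, Int.cast_neg, Int.cast_one]
    have e2 : ((sval 2 : ℤ) : ℂ) = 1 := by rw [show sval 2 = 1 from rfl, Int.cast_one]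
    have e3 : ((sval 3 : ℤ) : ℂ) = -1 := by
      rw [show sval 3 = -1 from rfl, Int.cast_neg, Int.cast_one]
    rw [e0, e1, e2, e3] at h1
    linear_combination -h1 / 2
  -- `y = 1`
  have hrel : ((n 0 : ℂ) - n 1 + n 2 - n 3) = c + 3 := by exact_mod_cast h.rel12
  have hs : ∑ ψ ∈ S, (k ψ : ℤ) * (s₁ ψ + s₂ ψ) = 2 * m - 2 := by
    have h1 := hsumu 1
    have h2 : ∀ ψ : IrrCharacter C, (a ψ ⟨e 1, e_mem h.lb h.geo 1⟩ : ℂ) = 1 := by
      intro ψ
      have : (⟨e 1, e_mem h.lb h.geo 1⟩ : T₀) = 1 := Subtype.ext (map_one e)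
      rw [this, map_one, Units.val_one]
    have h3 : ∀ ψ : IrrCharacter C, (b ψ ⟨e 1, e_mem h.lb h.geo 1⟩ : ℂ) = 1 := by
      intro ψ
      have : (⟨e 1, e_mem h.lb h.geo 1⟩ : T₀) = 1 := Subtype.ext (map_one e)
      rw [this, map_one, Units.val_one]
    rw [hrel, if_pos A₁.one_mem, if_pos A₂.one_mem,
      Finset.sum_congr rfl fun ψ _ => by rw [h2 ψ, h3 ψ, mul_one, mul_one]] at h1
    have h4 : ((∑ ψ ∈ S, (k ψ : ℤ) * (s₁ ψ + s₂ ψ) : ℤ) : ℂ) = ((2 * m - 2 : ℤ) : ℂ) := by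
      push_cast
      linear_combination h1
    exact_mod_cast h4
  have hsle : ∀ ψ, s₁ ψ + s₂ ψ ≤ 2 := by
    intro ψ
    rcases hs₁ ψ with h1 | h1 <;> rcases hs₂ ψ with h2 | h2 <;> omega
  set M : ℕ := ∑ ψ ∈ S, k ψ with hM
  have hMZ : (M : ℤ) = ∑ ψ ∈ S, (k ψ : ℤ) := by rw [hM]; push_cast; rfl
  have hsM : ∑ ψ ∈ S, (k ψ : ℤ) * (s₁ ψ + s₂ ψ) ≤ 2 * M := by
    rw [hMZ, Finset.mul_sum]
    refine Finset.sum_le_sum fun ψ _ => ?_
    rw [mul_comm (2 : ℤ)]
    exact mul_le_mul_of_nonneg_left (hsle ψ) (by positivity)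
  -- the dimension
  have hdim : (n 0 : ℤ) + n 1 + q * (n 2 + n 3) + (q + 1) * M = (q + 1) * m + q + c := by
    have h1 := hdec 1
    rw [mul_one, h.one, h.vals.val_t, Fin.sum_univ_four, h.deg 0, h.deg 1, h.deg 2, h.deg 3,
      Finset.sum_congr rfl fun ψ hψ => by rw [hdeg ψ hψ]] at h1
    have d0 : sdeg q 0 = 1 := rfl
    have d1 : sdeg q 1 = 1 := rfl
    have d2 : sdeg q 2 = q := rfl
    have d3 : sdeg q 3 = q := rfl
    rw [d0, d1, d2, d3, ← Finset.sum_mul] at h1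
    have hm2 : (q : ℂ) = 2 * m + 1 := by
      have h2 := h.vals.two_m
      have h3 : (q : ℤ) = 2 * m + 1 := by linarith
      exact_mod_cast h3
    have h4 : ((n 0 : ℤ) + n 1 + q * (n 2 + n 3) + (q + 1) * M : ℂ) =
        (((q + 1) * m + q + c : ℤ) : ℂ) := by
      rw [hM]
      push_cast
      push_cast at h1
      rw [Nat.cast_sum] at *
      linear_combination (-1 / 2 : ℂ) * h1 + (q + 1) / 2 * hm2
    exact_mod_cast h4
  obtain ⟨e0, e1, e2, e3, eM⟩ := arith hq h.hc h.rel12 h.rel3 hs hsM hdim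
  -- all signs are one
  have hs1 : ∀ ψ ∈ S, s₁ ψ = 1 ∧ s₂ ψ = 1 := by
    have h1 : ∑ ψ ∈ S, (k ψ : ℤ) * (2 - (s₁ ψ + s₂ ψ)) = 0 := by
      have h2 : ∑ ψ ∈ S, (k ψ : ℤ) * (2 - (s₁ ψ + s₂ ψ)) =
          2 * M - ∑ ψ ∈ S, (k ψ : ℤ) * (s₁ ψ + s₂ ψ) := by
        rw [hMZ, Finset.mul_sum, ← Finset.sum_sub_distrib]
        exact Finset.sum_congr rfl fun ψ _ => by ring
      rw [h2, hs, eM]
      ring
    intro ψ hψ
    have h2 := (Finset.sum_eq_zero_iff_of_nonneg (fun ψ _ =>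
      mul_nonneg (by positivity) (by linarith [hsle ψ]))).1 h1 ψ hψ
    have h3 : (k ψ : ℤ) ≠ 0 := by exact_mod_cast hk0 ψ hψ
    have h4 : 2 - (s₁ ψ + s₂ ψ) = 0 := (mul_eq_zero.1 h2).resolve_left h3
    rcases hs₁ ψ with h5 | h5 <;> rcases hs₂ ψ with h6 | h6 <;> constructor <;> omega
  refine ⟨S, k, a, b, fun ψ hψ => ⟨(hS ψ hψ).1, (hS ψ hψ).2.1, (hS ψ hψ).2.2, hdeg ψ hψ,
    hk0 ψ hψ⟩, hab, by rw [← hMZ, eM], fun y => ?_, fun g => ?_⟩
  · have h1 := hsumu y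
    rw [hrel, Finset.sum_congr rfl fun ψ hψ => by
      rw [(hs1 ψ hψ).1, (hs1 ψ hψ).2, Int.cast_one, one_mul, one_mul]] at h1
    linear_combination h1
  · rw [hdec g, Fin.sum_univ_four, e1, e2, e3]
    have e0' : (n 0 : ℂ) = c + 1 := by exact_mod_cast e0
    rw [e0']
    push_cast
    ring

theorem mem_stab_iff {K : Subgroup C} [hN : K.Normal] {l : K →* ℂˣ} {g : C} :
    g ∈ BorelOrb.stab K l ↔ g ∈ Inertia.stab K (fun k => (l k : ℂ)) := by
  rw [BorelOrb.mem_stab, Inertia.mem_stab]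
  have h1 : ∀ k : K, (MulAut.conjNormal g k : K) = ⟨g * k * g⁻¹, hN.conj_mem k k.2 g⟩ := fun k =>
    Subtype.ext (by rw [MulAut.conjNormal_apply])
  constructor
  · intro h k
    have := h k
    rw [h1 k] at this
    rw [this]
  · intro h k
    rw [h1 k]
    exact Units.ext (h k)

section Main

variable [Fintype C] [hN : K.Normal] [Fintype K]
  (h : TightHyp q K L B K₁ X T e α t u w T₀ Y c m A₁ A₂ φ n)
include h

/-- An element of `K` in the kernels of all the constituents of the `t = 1` part is trivial. -/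
theorem eq_one_of_forall {x : C} (hx : x ∈ K)
    (hψ : ∀ ψ : C → ℂ, IsIrrCharacter C ψ → classInner Y ψ ≠ 0 → ψ t = ψ 1 → (∀ i, ψ ≠ φ i) →
      ψ x = ψ 1) : x = 1 := by
  classical
  obtain ⟨S, k, hS, hk0, hdec⟩ := exists_decomp h
  apply h.faith x hx
  have h1 := hdec x
  have h2 := hdec 1
  rw [h.Yt x hx] at h1
  rw [mul_one] at h2
  have h3 : ∑ i, (n i : ℂ) * φ i x + ∑ ψ ∈ S, (k ψ : ℂ) * (ψ : C → ℂ) x =
      ∑ i, (n i : ℂ) * φ i 1 + ∑ ψ ∈ S, (k ψ : ℂ) * (ψ : C → ℂ) 1 := by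
    congr 1
    · exact Finset.sum_congr rfl fun i _ => by rw [h.val_K i x hx]
    · exact Finset.sum_congr rfl fun ψ hψS => by
        rw [hψ ψ ψ.2 (hS ψ hψS).1 (hS ψ hψS).2.1 (hS ψ hψS).2.2]
  rw [h3, ← h2] at h1
  linear_combination h1

/-- `K` is abelian. -/
theorem comm_K : ∀ x ∈ K, ∀ y ∈ K, x * y = y * x := by
  intro x hx y hy
  have h1 : x * y * x⁻¹ * y⁻¹ = 1 := by
    refine eq_one_of_forall h (K.mul_mem (K.mul_mem (K.mul_mem hx hy) (K.inv_mem hx)) (K.inv_mem hy))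
      fun ψ hψ h0 ht hne => ?_
    obtain ⟨a, b, -, la, lb, -, -, hla, -⟩ := exists_ab h hψ h0 ht hne
    have h2 := BorelOrb.apply_eq_of_conj K hψ hla
      (x := ⟨x, hx⟩ * ⟨y, hy⟩ * ⟨x, hx⟩⁻¹ * ⟨y, hy⟩⁻¹) fun g => by
        simp only [map_mul, map_inv]
        rw [mul_right_comm (la _) (la _) (la _)⁻¹, mul_inv_cancel, one_mul, mul_inv_cancel]
    exact h2
  rw [mul_inv_eq_one, mul_inv_eq_iff_eq_mul] at h1
  exact h1

/-- The restriction to `K` of a linear character of the torus is `u`-invariant. -/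
theorem u_mem_stab (a : T₀ →* ℂˣ) (la : K →* ℂˣ)
    (hla : ∀ k : K, la k = a ⟨k, K_le h.lb.big h.geo k.2⟩) : u ∈ BorelOrb.stab K la := by
  intro k
  rw [hla, hla]
  have h1 : (⟨((MulAut.conjNormal u k : K) : C), K_le h.lb.big h.geo (MulAut.conjNormal u k).2⟩ :
      T₀) = ⟨u, u_mem h.lb h.geo⟩ * ⟨k, K_le h.lb.big h.geo k.2⟩ * ⟨u, u_mem h.lb h.geo⟩⁻¹ :=
    Subtype.ext (by rw [MulAut.conjNormal_apply]; rfl)
  rw [h1, map_mul, map_mul, map_inv, mul_right_comm, mul_inv_cancel, one_mul]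

/-- A constituent one of whose torus characters is trivial on `C_K(u)` is trivial on `K`. -/
theorem trivial_of_one {ψ : C → ℂ} (hψ : IsIrrCharacter C ψ) (a : T₀ →* ℂˣ) (la : K →* ℂˣ)
    (hla : ∀ k : K, la k = a ⟨k, K_le h.lb.big h.geo k.2⟩)
    (hocc : classInner (fun k : K => ψ k) (fun k => (la k : ℂ)) ≠ 0)
    (h1 : ∀ y : W, e y ∈ K → a ⟨e y, e_mem h.lb h.geo y⟩ = 1) : ∀ k ∈ K, ψ k = ψ 1 := by
  have h2 : la = 1 := by
    refine BorelOrb.eq_one_of_fix K (comm_K h) h.lb.big.oddK h.lb.cent.sq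
      (u_mem_stab h a la hla) fun k hk => ?_
    obtain ⟨y, hy⟩ := h.lb.fixK k k.2 hk
    have hy' : (k : C) = e y := hy.symm
    rw [hla]
    have h3 : (⟨(k : C), K_le h.lb.big h.geo k.2⟩ : T₀) = ⟨e y, e_mem h.lb h.geo y⟩ :=
      Subtype.ext hy'
    rw [h3]
    exact h1 y (hy' ▸ k.2)
  intro k hk
  refine BorelOrb.apply_eq_of_conj K hψ hocc (x := ⟨k, hk⟩) fun g => ?_
  rw [h2, MonoidHom.one_apply]

/-- A linear character of `K` under an irreducible character trivial on `K` is trivial. -/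
theorem one_of_trivial {ψ : C → ℂ} (hψ : ∀ k ∈ K, ψ k = ψ 1) (l : K →* ℂˣ)
    (hocc : classInner (fun k : K => ψ k) (fun k => (l k : ℂ)) ≠ 0) : l = 1 := by
  by_contra hne
  apply hocc
  have h1 : (fun k : K => ψ k) = ψ 1 • (fun k : K => ((1 : K →* ℂˣ) k : ℂ)) := by
    funext k
    rw [hψ k k.2, Pi.smul_apply, MonoidHom.one_apply, Units.val_one, smul_eq_mul, mul_one]
  rw [h1, Core.classInner_smul_left, Core.classInner_irr_ne (Linear.isIrrCharacter_hom _)
    (Linear.isIrrCharacter_hom _), mul_zero]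
  intro h2
  apply hne
  ext k
  exact (congrFun h2 k).symm

open scoped Classical in
/-- The values on `W - K`. -/
theorem val_off {y : W} (hy : e y ∉ K) :
    Y (e y) = c + 1 + 2 * m * ((if y ∈ A₁ then 1 else 0) + (if y ∈ A₂ then 1 else 0)) := by
  obtain ⟨S, k, a, b, hS, hab, -, hsum, hdec⟩ := key h
  have h1 := hdec (e y)
  rw [h.valt y hy, h.val_e 0 y hy, h.val_e 2 y hy, Finset.sum_congr rfl fun ψ hψ => by
    rw [(hab ψ hψ).1 _ (e_mem h.lb h.geo y) hy (e_notMem_t h.lb y)], hsum y] at h1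
  linear_combination h1

open scoped Classical in
/-- The values on `W ∩ K`. -/
theorem val_on {y : W} (hy : e y ∈ K) (hn : ¬ (y ∈ A₁ ∧ y ∈ A₂)) :
    Y (e y) = c + 1 + 2 * m * (1 + (if y ∈ A₁ then 1 else 0) + (if y ∈ A₂ then 1 else 0)) := by
  by_cases h1 : y ∈ A₁
  · have h2 : y ∉ A₂ := fun h2 => hn ⟨h1, h2⟩
    obtain ⟨y', e1, e2, e3, e4⟩ := h.swap' y hy
    rw [← e1, val_off h (fun h5 => h2 (e2.1 h5)), if_pos (e4.2 h1), if_pos e3, if_pos h1, if_neg h2]
    ring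
  · obtain ⟨y', e1, e2, e3, e4⟩ := h.swap y hy
    rw [← e1, val_off h (fun h5 => h1 (e2.1 h5)), if_pos e3, if_neg h1]
    by_cases h2 : y ∈ A₂
    · rw [if_pos h2, if_pos (e4.2 h2)]
      ring
    · rw [if_neg h2, if_neg fun h5 => h2 (e4.1 h5)]
      ring

theorem card_inf : Nat.card (K.comap e ⊓ A₂ : Subgroup W) =
    Nat.card (K.comap e ⊓ A₁ : Subgroup W) := by
  have hwe : ∀ y : W, e (α y) ∈ K ↔ e y ∈ K := by
    intro y
    rw [← h.lb.we y]
    constructor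
    · intro h1
      have h2 := hN.conj_mem _ h1 w⁻¹
      have h3 : w⁻¹ * (w * e y * w⁻¹) * w⁻¹⁻¹ = e y := by group
      rwa [h3] at h2
    · exact fun h1 => hN.conj_mem _ h1 w
  have h1 : (K.comap e ⊓ A₂ : Subgroup W) =
      (K.comap e ⊓ A₁ : Subgroup W).map α.toMonoidHom := by
    ext y
    rw [Subgroup.mem_map]
    constructor
    · rintro ⟨h2, h3⟩
      refine ⟨α.symm y, ⟨?_, ?_⟩, α.apply_symm_apply y⟩
      · show e (α.symm y) ∈ K
        rw [← hwe, α.apply_symm_apply]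
        exact h2
      · show α.symm y ∈ A₁
        rw [← h.alpha, α.apply_symm_apply]
        exact h3
    · rintro ⟨z, ⟨h2, h3⟩, rfl⟩
      exact ⟨(hwe z).2 h2, (h.alpha z).2 h3⟩
  rw [h1]
  exact Nat.card_congr ((K.comap e ⊓ A₁ : Subgroup W).equivMapOfInjective α.toMonoidHom
    α.injective).symm.toEquiv

open scoped Classical in
/-- The count. -/
theorem count (A : Subgroup W) [Fintype A] (hA : A = K.comap e) :
    (q + 1 : ℝ) * (Nat.card A + (q - 1) * Nat.card (A ⊓ A₁ : Subgroup W)) ≤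
      ∑ y : A, ((Y (e y)).re + 1 - c) := by
  obtain ⟨S, k, a, b, hS, hab, -, hsum, hdec⟩ := key h
  have hAle : A ≤ K.comap e := hA.le
  have hAK : ∀ y : A, e (y : W) ∈ K := fun y => hAle y.2
  have hmem : ∀ y : W, e y ∈ K → y ∈ A := fun y hy => by rw [hA]; exact hy
  have hcardA : (Fintype.card A : ℂ) = Nat.card A := by rw [Nat.card_eq_fintype_card]
  -- restriction to `A`
  set res : (T₀ →* ℂˣ) → (A →* ℂˣ) := fun f =>
    { toFun := fun y => f ⟨e y, e_mem h.lb h.geo y⟩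
      map_one' := by
        have : (⟨e ((1 : A) : W), e_mem h.lb h.geo _⟩ : T₀) = 1 := Subtype.ext (map_one e)
        rw [this, map_one]
      map_mul' := fun x y => by
        rw [← map_mul]
        congr 1
        exact Subtype.ext (map_mul e (x : W) (y : W)) } with hres
  have hres_apply : ∀ (f : T₀ →* ℂˣ) (y : A), res f y = f ⟨e y, e_mem h.lb h.geo y⟩ :=
    fun _ _ => rfl
  -- `K`-trivial constituents
  have htriv : ∀ ψ ∈ S, (res (a ψ) = 1 ∨ res (b ψ) = 1) → ∀ x ∈ K, (ψ : C → ℂ) x = (ψ : C → ℂ) 1 := by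
    intro ψ hψ h1
    obtain ⟨-, la, lb, hla, hlb, hla0, hlb0⟩ := hab ψ hψ
    rcases h1 with h1 | h1
    · exact trivial_of_one h ψ.2 (a ψ) la hla hla0 fun y hy =>
        DFunLike.congr_fun h1 ⟨y, hmem y hy⟩
    · exact trivial_of_one h ψ.2 (b ψ) lb hlb hlb0 fun y hy =>
        DFunLike.congr_fun h1 ⟨y, hmem y hy⟩
  have hba : ∀ ψ ∈ S, res (b ψ) = 1 → res (a ψ) = 1 := by
    intro ψ hψ h1
    have h2 := htriv ψ hψ (Or.inr h1)
    obtain ⟨-, la, lb, hla, hlb, hla0, hlb0⟩ := hab ψ hψ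
    have h3 := one_of_trivial h h2 la hla0
    ext y
    rw [hres_apply, MonoidHom.one_apply]
    have h4 := hla ⟨e y, hAK y⟩
    rw [h3, MonoidHom.one_apply] at h4
    exact congrArg Units.val h4.symm
  set N : ℕ := ∑ ψ ∈ S.filter (fun ψ => res (a ψ) = 1), k ψ with hN'
  -- the number `N`
  have hN2 : (2 : ℝ) * (m * Nat.card (A ⊓ A₁ : Subgroup W) - Nat.card A) ≤ 2 * (Nat.card A * N) := by
    have e1 : ∑ y : A, ∑ ψ ∈ S, (k ψ : ℂ) * (a ψ ⟨e y, e_mem h.lb h.geo y⟩ +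
        b ψ ⟨e y, e_mem h.lb h.geo y⟩) =
        ((∑ ψ ∈ S, (k ψ : ℝ) * ((if res (a ψ) = 1 then (Nat.card A : ℝ) else 0) +
          (if res (b ψ) = 1 then (Nat.card A : ℝ) else 0)) : ℝ) : ℂ) := by
      rw [Finset.sum_comm]
      push_cast
      refine Finset.sum_congr rfl fun ψ _ => ?_
      rw [← Finset.mul_sum, Finset.sum_add_distrib]
      congr 2
      · by_cases h1 : res (a ψ) = 1
        · rw [if_pos h1]
          have h2 : ∀ y : A, (a ψ ⟨e y, e_mem h.lb h.geo y⟩ : ℂ) = 1 := fun y => by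
            rw [← hres_apply, h1, MonoidHom.one_apply, Units.val_one]
          rw [Finset.sum_congr rfl fun y _ => h2 y]
          simp
        · rw [if_neg h1, Complex.ofReal_zero]
          exact WrEnd.sum_hom_eq_zero (res (a ψ)) h1
      · by_cases h1 : res (b ψ) = 1
        · rw [if_pos h1]
          have h2 : ∀ y : A, (b ψ ⟨e y, e_mem h.lb h.geo y⟩ : ℂ) = 1 := fun y => by
            rw [← hres_apply, h1, MonoidHom.one_apply, Units.val_one]
          rw [Finset.sum_congr rfl fun y _ => h2 y]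
          simp
        · rw [if_neg h1, Complex.ofReal_zero]
          exact WrEnd.sum_hom_eq_zero (res (b ψ)) h1
    have hsub : ∀ A' : Subgroup W, ∑ y : A, (if (y : W) ∈ A' then (1 : ℂ) else 0) =
        Nat.card (A ⊓ A' : Subgroup W) := by
      intro A'
      rw [← Finset.sum_filter, Finset.sum_const, nsmul_eq_mul, mul_one]
      congr 1
      rw [← Fintype.card_subtype, ← Nat.card_eq_fintype_card]
      exact Nat.card_congr
        { toFun := fun x => ⟨x.1.1, x.1.2, x.2⟩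
          invFun := fun x => ⟨⟨x.1, x.2.1⟩, x.2.2⟩
          left_inv := fun _ => rfl
          right_inv := fun _ => rfl }
    have e2 : ∑ y : A, ∑ ψ ∈ S, (k ψ : ℂ) * (a ψ ⟨e y, e_mem h.lb h.geo y⟩ +
        b ψ ⟨e y, e_mem h.lb h.geo y⟩) =
        ((2 * (m * Nat.card (A ⊓ A₁ : Subgroup W) - Nat.card A) : ℝ) : ℂ) := by
      rw [Finset.sum_congr rfl fun (y : A) _ => hsum (y : W), Finset.sum_sub_distrib,
        ← Finset.mul_sum, Finset.sum_add_distrib, hsub, hsub, Finset.sum_const, Finset.card_univ,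
        nsmul_eq_mul, hcardA]
      have h1 : Nat.card (A ⊓ A₂ : Subgroup W) = Nat.card (A ⊓ A₁ : Subgroup W) := by
        rw [hA]
        exact card_inf h
      rw [h1]
      push_cast
      ring
    rw [e1] at e2
    have e3 : ∑ ψ ∈ S, (k ψ : ℝ) * ((if res (a ψ) = 1 then (Nat.card A : ℝ) else 0) +
          (if res (b ψ) = 1 then (Nat.card A : ℝ) else 0)) =
        2 * (m * Nat.card (A ⊓ A₁ : Subgroup W) - Nat.card A) := Complex.ofReal_injective e2
    rw [← e3, hN', Nat.cast_sum, Finset.sum_filter, Finset.mul_sum, Finset.mul_sum]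
    refine Finset.sum_le_sum fun ψ hψ => ?_
    have hk : (0 : ℝ) ≤ k ψ := Nat.cast_nonneg _
    have hA0 : (0 : ℝ) ≤ Nat.card A := Nat.cast_nonneg _
    by_cases h1 : res (a ψ) = 1
    · rw [if_pos h1, if_pos h1]
      split_ifs <;> nlinarith [mul_nonneg hk hA0]
    · rw [if_neg h1, if_neg h1, if_neg fun h2 => h1 (hba ψ hψ h2)]
      simp
  -- the sums of the constituents
  have hpos : ∀ ψ : IrrCharacter C, 0 ≤ ∑ y : A, ((ψ : C → ℂ) (e y)).re := by
    intro ψ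
    have hc : IsCharacter A (fun y : A => (ψ : C → ℂ) (e y)) :=
      Core.isCharacter_comp (e.comp A.subtype) (Core.isIrr_isCharacter ψ.2)
    obtain ⟨r, hr⟩ := Core.classInner_isNat hc Core.isCharacter_one
    rw [Core.classInner_def] at hr
    have h1 : ∑ y : A, (ψ : C → ℂ) (e y) = Nat.card A * r := by
      have h0 : (Nat.card A : ℂ) ≠ 0 := Core.card_ne_zero_complex
      rw [← hr, ← mul_assoc, mul_inv_cancel₀ h0, one_mul]
      refine Finset.sum_congr rfl fun y _ => ?_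
      simp
    have h2 := congrArg Complex.re h1
    rw [Complex.re_sum] at h2
    rw [h2]
    have h3 : ((Nat.card A : ℂ) * r).re = (Nat.card A * r : ℕ) := by
      rw [← Nat.cast_mul]
      exact Complex.natCast_re _
    rw [h3]
    exact Nat.cast_nonneg _
  have hfull : ∀ ψ ∈ S, res (a ψ) = 1 →
      ∑ y : A, ((ψ : C → ℂ) (e y)).re = (q + 1) * Nat.card A := by
    intro ψ hψ h1
    have h2 : ∀ y : A, ((ψ : C → ℂ) (e y)).re = q + 1 := by
      intro y
      rw [htriv ψ hψ (Or.inl h1) _ (hAK y), (hS ψ hψ).2.2.2.1]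
      simp
    rw [Finset.sum_congr rfl fun y _ => h2 y, Finset.sum_const, nsmul_eq_mul, Finset.card_univ,
      Nat.card_eq_fintype_card]
    ring
  have hsumψ : (N : ℝ) * ((q + 1) * Nat.card A) ≤
      ∑ ψ ∈ S, (k ψ : ℝ) * ∑ y : A, ((ψ : C → ℂ) (e y)).re := by
    rw [hN', Nat.cast_sum, Finset.sum_filter, Finset.sum_mul]
    refine Finset.sum_le_sum fun ψ hψ => ?_
    by_cases h1 : res (a ψ) = 1
    · rw [if_pos h1, hfull ψ hψ h1]
    · rw [if_neg h1, zero_mul]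
      exact mul_nonneg (Nat.cast_nonneg _) (hpos ψ)
  -- the values of `Y` on `A`
  have hY : ∀ y : A, (Y (e y)).re + 1 - c = 3 * (q + 1) +
      2 * ∑ ψ ∈ S, (k ψ : ℝ) * ((ψ : C → ℂ) (e y)).re := by
    intro y
    have h1 := hdec (e y)
    have d0 : sdeg q 0 = 1 := rfl
    have d2 : sdeg q 2 = q := rfl
    rw [h.Yt _ (hAK y), h.vals.val_t, h.val_K 0 _ (hAK y), h.val_K 2 _ (hAK y), h.deg 0,
      h.deg 2, d0, d2] at h1
    have h2 : Y (e y) = ((2 * (c + 1 + 2 * q) - (c + q) : ℤ) : ℂ) +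
        2 * ∑ ψ ∈ S, (k ψ : ℂ) * (ψ : C → ℂ) (e y) := by
      push_cast at h1 ⊢
      linear_combination h1
    rw [h2, Complex.add_re, Complex.intCast_re]
    have h3 : (2 * ∑ ψ ∈ S, (k ψ : ℂ) * (ψ : C → ℂ) (e y)).re =
        2 * ∑ ψ ∈ S, (k ψ : ℝ) * ((ψ : C → ℂ) (e y)).re := by
      rw [show (2 : ℂ) = ((2 : ℝ) : ℂ) by norm_num, Complex.re_ofReal_mul, Complex.re_sum]
      congr 1
      refine Finset.sum_congr rfl fun ψ _ => ?_
      rw [show ((k ψ : ℕ) : ℂ) = ((k ψ : ℝ) : ℂ) by norm_num, Complex.re_ofReal_mul]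
    rw [h3]
    push_cast
    ring
  rw [Finset.sum_congr rfl fun y _ => hY y, Finset.sum_add_distrib, Finset.sum_const,
    nsmul_eq_mul, Finset.card_univ, ← Finset.mul_sum, Finset.sum_comm]
  simp only [← Finset.mul_sum]
  have h0 : (Fintype.card A : ℝ) = Nat.card A := by rw [Nat.card_eq_fintype_card]
  rw [h0]
  have hm2 : (q : ℝ) = 2 * m + 1 := by
    have h2 := h.vals.two_m
    have h3 : (q : ℤ) = 2 * m + 1 := by linarith
    exact_mod_cast h3
  have hq0 : (0 : ℝ) ≤ q + 1 := by positivity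
  have h4 := mul_le_mul_of_nonneg_left hN2 hq0
  have h5 : (q + 1 : ℝ) * (Nat.card A + (q - 1) * Nat.card (A ⊓ A₁ : Subgroup W)) =
      3 * (q + 1) * Nat.card A +
        (q + 1) * (2 * (m * Nat.card (A ⊓ A₁ : Subgroup W) - Nat.card A)) := by
    rw [hm2]
    ring
  rw [h5]
  nlinarith [h4, hsumψ]

/-- `K ∩ A₁ = 1`. -/
theorem inf_eq_bot : K.comap e ⊓ A₁ = ⊥ := by
  classical
  set A : Subgroup W := K.comap e with hA
  let _ : Fintype A := Fintype.ofFinite _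
  have hm2 : (q : ℝ) = 2 * m + 1 := by
    have h2 := h.vals.two_m
    have h3 : (q : ℤ) = 2 * m + 1 := by linarith
    exact_mod_cast h3
  have hq1 : (1 : ℝ) < q := by
    have := h.lb.big.frob.q_ge
    exact_mod_cast (by omega : 1 < q)
  have hc0 : (0 : ℝ) < Nat.card (A ⊓ A₁ : Subgroup W) := by exact_mod_cast Nat.card_pos
  have hcA0 : (0 : ℝ) < Nat.card A := by exact_mod_cast Nat.card_pos
  set j : ℝ := Nat.card A / Nat.card (A ⊓ A₁ : Subgroup W) with hj
  have hj0 : 0 < j := div_pos hcA0 hc0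
  have h12 : (Nat.card A : ℝ) = j * Nat.card (A ⊓ A₁ : Subgroup W) := by
    rw [hj]
    field_simp
  have h13 : (Nat.card A : ℝ) = j * Nat.card (A ⊓ A₂ : Subgroup W) := by
    rw [hA, card_inf h, ← hA]
    exact h12
  -- the degree
  obtain ⟨N, hN⟩ := Core.isCharacter_apply_one h.vals.char
  have hNR : (N : ℝ) = (q : ℝ) ^ 2 + q - 1 + c := by
    have h1 := h.one
    rw [hN] at h1
    have h2 : ((N : ℤ) : ℂ) = ((q ^ 2 + q - 1 + c : ℤ) : ℂ) := by
      push_cast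
      exact h1
    have h3 : (N : ℤ) = q ^ 2 + q - 1 + c := by exact_mod_cast h2
    have h4 : ((N : ℤ) : ℝ) = ((q ^ 2 + q - 1 + c : ℤ) : ℝ) := by rw [h3]
    push_cast at h4
    exact h4
  have hnorm : ∀ y, ‖Y y‖ ≤ N := fun y => SchurBound.norm_le h.vals.char hN y
  have hcount := count h A hA
  have key := BorelOrb.inf_le_of_count A A₁ A₂ (R := fun y => (Y (e y)).re + 1 - c) (q := q)
    (j := j) hq1 hj0
    (fun y _ => by
      have := (Complex.re_le_norm (Y (e y))).trans (hnorm _)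
      rw [hNR] at this
      linarith)
    (fun y hy hn => by
      have h1 := val_on h (y := y) hy hn
      have h2 : Y (e y) = (((c : ℝ) + 1 + 2 * m * (1 + (if y ∈ A₁ then 1 else 0) +
          (if y ∈ A₂ then 1 else 0)) : ℝ) : ℂ) := by
        rw [h1]
        push_cast
        split_ifs <;> simp
      change (Y (e y)).re + 1 - c = _
      rw [h2, Complex.ofReal_re, hm2]
      ring) h12 h13 (by
      have e1 : (Nat.card A : ℝ) * ((q + 1) * (q - 1 + j)) =
          j * ((q + 1) * (Nat.card A + (q - 1) * Nat.card (A ⊓ A₁ : Subgroup W))) := by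
        have : j * ((q + 1) * (Nat.card A + (q - 1) * Nat.card (A ⊓ A₁ : Subgroup W))) =
            (q + 1) * (j * Nat.card A + (q - 1) * (j * Nat.card (A ⊓ A₁ : Subgroup W))) := by ring
        rw [this, ← h12]
        ring
      rw [e1]
      exact mul_le_mul_of_nonneg_left hcount hj0.le)
  refine (Subgroup.eq_bot_iff_forall _).2 fun y hy => ?_
  have h1 : (Y (e y)).re + 1 - c = (q : ℝ) ^ 2 + q := key.2 y hy
  have h1' : (Y (e y)).re = N := by rw [hNR]; linarith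
  have h2 : Y (e y) = Y 1 := by
    have h3 : ‖Y (e y)‖ = (Y (e y)).re :=
      le_antisymm (by rw [h1']; exact hnorm _) (Complex.re_le_norm _)
    rw [hN]
    apply Complex.ext
    · rw [h1', Complex.natCast_re]
    · have h4 : (Y (e y)).im = 0 := by
        have h5 := Complex.sq_norm (Y (e y))
        rw [h3, Complex.normSq_apply] at h5
        nlinarith [h5]
      rw [h4, Complex.natCast_im]
  have h3 := h.faith (e y) hy.1 h2
  rw [← map_one e] at h3
  exact h.lb.cent.inj h3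

open scoped Classical in
/-- A `u`-invariant linear character of `K` occurs in `Y`. -/
theorem occurs {l : K →* ℂˣ} (hl : u ∈ BorelOrb.stab K l) (hl1 : l ≠ 1) :
    classInner (fun k : K => Y k) (fun k => (l k : ℂ)) ≠ 0 := by
  refine BorelOrb.occurs_of_sum_ne_zero K (comm_K h) h.lb.big.oddK h.lb.cent.sq h.vals.char hl ?_
  set A : Subgroup W := K.comap e with hA
  let _ : Fintype A := Fintype.ofFinite _
  have hfix : ∀ k : K, u * (k : C) = k * u ↔ ∃ y : A, e y = k := by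
    intro k
    constructor
    · intro h1
      obtain ⟨y, hy⟩ := h.lb.fixK k k.2 h1
      exact ⟨⟨y, by show e y ∈ K; rw [hy]; exact k.2⟩, hy⟩
    · rintro ⟨y, hy⟩
      rw [← hy]
      exact h.lb.cent.comm y
  -- the homomorphism on `A`
  let f : A →* ℂˣ := l.comp
    { toFun := fun y => ⟨e y, y.2⟩
      map_one' := Subtype.ext (map_one e)
      map_mul' := fun x y => Subtype.ext (map_mul e (x : W) (y : W)) }
  have hf : ∀ y : A, f y = l ⟨e y, y.2⟩ := fun _ => rfl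
  have hf1 : f ≠ 1 := by
    intro h1
    refine hl1 (BorelOrb.eq_one_of_fix K (comm_K h) h.lb.big.oddK h.lb.cent.sq hl fun k hk => ?_)
    obtain ⟨y, hy⟩ := (hfix k).1 hk
    have h2 := DFunLike.congr_fun h1 y
    rw [hf, MonoidHom.one_apply] at h2
    rw [← h2]
    congr 1
    exact Subtype.ext hy.symm
  have hsum : ∑ k : K, (if u * (k : C) = k * u then Y (u * k) * conj (l k : ℂ) else 0) =
      ∑ y : A, Y (u * e y) * conj (f y : ℂ) := by
    rw [← Finset.sum_filter]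
    symm
    refine Finset.sum_bij (fun (y : A) _ => (⟨e y, y.2⟩ : K)) ?_ ?_ ?_ ?_
    · intro y _
      exact Finset.mem_filter.2 ⟨Finset.mem_univ _, (hfix _).2 ⟨y, rfl⟩⟩
    · intro x _ y _ hxy
      have h1 : e x = e y := congrArg Subtype.val hxy
      exact Subtype.ext (h.lb.cent.inj h1)
    · intro k hk
      obtain ⟨y, hy⟩ := (hfix k).1 (Finset.mem_filter.1 hk).2
      exact ⟨y, Finset.mem_univ _, Subtype.ext hy⟩
    · intro y _
      rfl
  have hconj : ∀ y : A, conj (f y : ℂ) = (f⁻¹ y : ℂ) := by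
    intro y
    rw [BorelOrb.conj_hom, MonoidHom.inv_apply]
  have hval : ∀ y : A, Y (u * e y) * conj (f y : ℂ) =
      ((c : ℂ) + 1) * (f⁻¹ y : ℂ) + (if y = 1 then 2 * (m : ℂ) else 0) := by
    intro y
    rw [hconj]
    by_cases hy : (y : W) ∈ A₁
    · have h1 : y = 1 := by
        have h2 : (y : W) ∈ K.comap e ⊓ A₁ := ⟨y.2, hy⟩
        rw [inf_eq_bot h, Subgroup.mem_bot] at h2
        exact Subtype.ext h2
      rw [h.vals.val₁ y hy, if_pos h1, h1, map_one, Units.val_one]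
      push_cast
      ring
    · rw [h.vals.val₁' y hy, if_neg fun h1 => hy (by rw [h1]; exact A₁.one_mem)]
      push_cast
      ring
  rw [hsum, Finset.sum_congr rfl fun y _ => hval y, Finset.sum_add_distrib, ← Finset.mul_sum,
    WrEnd.sum_hom_eq_zero f⁻¹ (fun h1 => hf1 (MonoidHom.ext fun y => by
      have h2 := DFunLike.congr_fun h1 y
      rw [MonoidHom.inv_apply, MonoidHom.one_apply, inv_eq_one] at h2
      rw [h2, MonoidHom.one_apply])), mul_zero, zero_add, Finset.sum_ite_eq',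
    if_pos (Finset.mem_univ _)]
  have hm : m ≠ 0 := by
    have h2 := h.vals.two_m
    have := h.lb.big.frob.q_ge
    omega
  exact mul_ne_zero two_ne_zero (Nat.cast_ne_zero.2 hm)

/-- **The tight case**: `K` is central. -/
theorem le_center : K ≤ Subgroup.center C := by
  classical
  have hbot := inf_eq_bot h
  have hab := comm_K h
  have hu' : u⁻¹ = u := inv_eq_of_mul_eq_one_left h.lb.cent.sq
  have hvu : ∀ v, (v = 1 ∨ v = t ∨ v = u ∨ v = t * u) → ∀ y : W, (v * e y) * u = u * (v * e y) := by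
    intro v hv y
    have h1 : e y * u = u * e y := (h.lb.cent.comm y).symm.eq
    have h2 : v * u = u * v := by
      rcases hv with rfl | rfl | rfl | rfl
      · rw [one_mul, mul_one]
      · exact (h.lb.big.t_comm u).eq
      · rfl
      · rw [(h.lb.big.t_comm u).eq, mul_assoc, (h.lb.big.t_comm u).eq]
    rw [mul_assoc, h1, ← mul_assoc, h2, mul_assoc]
  refine BorelOrb.le_center K hab h.lb.big.oddK h.lb.cent.sq h.vals.char h.faith (T := T₀)
    (B₀ := B) (B₁ := opp B w) (w := w) (u_mem h.lb h.geo) ?_ ?_ h.wT (fun g hg => mem_opp.1 hg)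
    ?_ h.gen (fun l hl hl1 => occurs h hl hl1) ?_ ?_
  · intro g hg
    obtain ⟨k, hk, v, hv, y, rfl⟩ := h.cover g hg
    have h1 : k * (v * e y) * u * (k * (v * e y))⁻¹ * u⁻¹ = k * (u * k⁻¹ * u⁻¹) := by
      rw [mul_assoc k, hvu v hv y]
      group
    rw [h1]
    exact K.mul_mem hk (hN.conj_mem _ (K.inv_mem hk) u)
  · intro g hg k hk huk
    obtain ⟨k', hk', v, hv, y, rfl⟩ := h.cover g hg
    obtain ⟨z, rfl⟩ := h.lb.fixK k hk huk
    have h1 : e y * e z = e z * e y := by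
      have h2 : y * z * y⁻¹ * z⁻¹ ∈ K.comap e ⊓ A₁ := by
        refine ⟨?_, h.vals.comm₁ y z⟩
        show e (y * z * y⁻¹ * z⁻¹) ∈ K
        rw [map_mul, map_mul, map_mul, map_inv, map_inv]
        exact K.mul_mem (hN.conj_mem _ hk _) (K.inv_mem hk)
      rw [hbot, Subgroup.mem_bot, mul_inv_eq_one, mul_inv_eq_iff_eq_mul] at h2
      rw [← map_mul, ← map_mul, h2]
    have h2 : v * e z = e z * v := by
      rcases hv with rfl | rfl | rfl | rfl
      · rw [one_mul, mul_one]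
      · exact (h.lb.big.t_comm _).eq
      · exact huk
      · rw [mul_assoc, huk, ← mul_assoc, (h.lb.big.t_comm (e z)).eq, mul_assoc]
    calc k' * (v * e y) * e z = k' * (v * (e y * e z)) := by group
      _ = k' * (v * (e z * e y)) := by rw [h1]
      _ = k' * ((v * e z) * e y) := by group
      _ = k' * ((e z * v) * e y) := by rw [h2]
      _ = (k' * e z) * (v * e y) := by group
      _ = (e z * k') * (v * e y) := by rw [hab k' hk' (e z) hk]
      _ = e z * (k' * (v * e y)) := by group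
  · intro g hg
    rw [mem_opp]
    have h1 : w⁻¹ * (w⁻¹ * g * w) * w = (w * w)⁻¹ * g * (w * w) := by group
    rw [h1]
    exact B.mul_mem (B.mul_mem (B.inv_mem h.ww) hg) h.ww
  · intro l hl hT
    by_cases hl1 : l = 1
    · left
      rw [hl1]
      intro g _ k
      rfl
    · have hne : (fun k : K => (l k : ℂ)) ≠ 1 := by
        intro h1
        apply hl1
        ext k
        exact congrFun h1 k
      obtain ⟨ψ, hψ, h0, ht, hψl⟩ := exists_plus_over h.lb.big.tt h.lb.big.t_comm h.vals.char h.Yt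
        (Linear.isIrrCharacter_hom l) hne hl
      have hne' : ∀ i, ψ ≠ φ i := by
        intro i hi
        refine hl1 (one_of_trivial h (ψ := ψ) (fun k hk => ?_) l hψl)
        rw [hi]
        exact h.val_K i k hk
      obtain ⟨hdeg, lam, χ, hlam, hχ, hadd, hlam1, hst⟩ := h.eq ψ hψ h0 ht hne'
      have hlamψ : classInner (fun k : K => ψ k) lam ≠ 0 :=
        inner_ne_zero_of_add hlam hχ (funext hadd)
      obtain ⟨g, hg⟩ := Clifford.exists_conj_of_constituents K hψ hlam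
        (Linear.isIrrCharacter_hom l) hlamψ hψl
      -- the stabilizer of `l` is conjugate to that of `lam`
      have hcomap : Inertia.stab K (fun k => (l k : ℂ)) =
          (Inertia.stab K lam).comap (MulAut.conj g).toMonoidHom := by
        ext x
        rw [Subgroup.mem_comap, Inertia.mem_stab, Inertia.mem_stab]
        have hl' : ∀ k : K, (l k : ℂ) = lam ⟨g * k * g⁻¹, hN.conj_mem k k.2 g⟩ := by
          intro k
          rw [congrFun hg k, Function.comp_apply]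
          congr 1
        constructor
        · intro hx k
          have h1 := hx ⟨g⁻¹ * k * g, by
            have := hN.conj_mem k k.2 g⁻¹
            rwa [inv_inv] at this⟩
          rw [hl', hl'] at h1
          convert h1 using 2
          · apply Subtype.ext
            show (g * x * g⁻¹) * (k : C) * (g * x * g⁻¹)⁻¹ =
              g * (x * (g⁻¹ * k * g) * x⁻¹) * g⁻¹
            group
          · apply Subtype.ext
            show (k : C) = g * (g⁻¹ * k * g) * g⁻¹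
            group
        · intro hx k
          rw [hl', hl']
          have h1 := hx ⟨g * k * g⁻¹, hN.conj_mem k k.2 g⟩
          convert h1 using 2
          apply Subtype.ext
          show g * (x * (k : C) * x⁻¹) * g⁻¹ = (g * x * g⁻¹) * (g * k * g⁻¹) * (g * x * g⁻¹)⁻¹
          group
      have hTs : T₀ ≤ Inertia.stab K (fun k => (l k : ℂ)) := fun x hx => mem_stab_iff.1 (hT hx)
      have hgoal : B ≤ Inertia.stab K (fun k => (l k : ℂ)) ∨
          opp B w ≤ Inertia.stab K (fun k => (l k : ℂ)) := by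
        rcases hst with h1 | ⟨h1, -⟩
        · left
          rw [hcomap, h1, Subgroup.comap_top]
          exact le_top
        · have hidx : (Inertia.stab K (fun k => (l k : ℂ))).index = q + 1 := by
            rw [hcomap, Subgroup.index_comap_of_surjective _ (MulAut.conj g).surjective]
            exact h1
          rcases h.line _ hTs hidx with h2 | h2
          · exact Or.inl h2.ge
          · exact Or.inr h2.ge
      rcases hgoal with h1 | h1
      · exact Or.inl fun x hx => mem_stab_iff.2 (h1 hx)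
      · exact Or.inr fun x hx => mem_stab_iff.2 (h1 hx)
  · intro l hl
    by_cases hl1 : l = 1
    · refine ⟨1, ?_⟩
      rw [hl1]
      intro k
      rfl
    · have hne : (fun k : K => (l k : ℂ)) ≠ 1 := by
        intro h1
        apply hl1
        ext k
        exact congrFun h1 k
      obtain ⟨ψ, hψ, h0, ht, hψl⟩ := exists_plus_over h.lb.big.tt h.lb.big.t_comm h.vals.char h.Yt
        (Linear.isIrrCharacter_hom l) hne hl
      have hne' : ∀ i, ψ ≠ φ i := by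
        intro i hi
        refine hl1 (one_of_trivial h (ψ := ψ) (fun k hk => ?_) l hψl)
        rw [hi]
        exact h.val_K i k hk
      obtain ⟨a, b, -, la, lb, hla, -, hla0, -⟩ := exists_ab h hψ h0 ht hne'
      obtain ⟨g, hg⟩ := Clifford.exists_conj_of_constituents K hψ (Linear.isIrrCharacter_hom l)
        (Linear.isIrrCharacter_hom la) hψl hla0
      refine ⟨g, ?_⟩
      have h1 : BorelOrb.cj K g l = la := by
        ext k
        exact (congrFun hg k).symm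
      rw [h1]
      exact u_mem_stab h a la hla

end Main

end Cfsg.Agent.Classification.QDW.QDTight
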