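import Mathlib
import Cfsg.Agent.Classification.QDW.InstMain
import Cfsg.Agent.Classification.QDW.InstGeo
import Cfsg.Agent.Classification.QDW.QDTight

/-!
# The tight case: `K` is central

`X` is a character of `G`, plus or minus the restriction of `X₂` or `X₃`, faithful, with equality in
the lower bound. `tightHyp`: for `ε = 1` the hypotheses of `QDTight.TightHyp`. `le_center`: the
kernel of `C(t) → C` is central, `ε = ± 1`.
-/

set_option autoImplicit false
set_option linter.unusedSectionVars false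

namespace Cfsg.Agent.Classification.QDW.InstTight

open Cfsg Cfsg.Agent.Characters Cfsg.Agent.Classification.InvCent
open Cfsg.Agent.Classification.QDW.InstC Cfsg.Agent.Classification.QDW.InstGamma
open Cfsg.Agent.Classification.QDW.InstLB Cfsg.Agent.Classification.QDW.InstG
open Cfsg.Agent.Classification.QDW.RelH Cfsg.Agent.Classification.QDW.DegBound
open Cfsg.Agent.Classification.QDW.LowerBound Cfsg.Agent.Classification.QDW.InstMain
open Cfsg.Agent.Classification.QDW.InstGeo Cfsg.Agent.Classification.QDW.TorusVal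
open Cfsg.Agent.Classification.QDW.QDTight Cfsg.Agent.Classification.QDW.Inertia
open Cfsg.Agent.Classification.RTwo

universe u v

section Swap

variable {G : Type u} [Group G] [Fintype G] {C : Type v} [Group C] [Fintype C] {z : C} {q : ℕ}
  {ε : ℤ} {Z T T' U : Subgroup C} {s s' u₀ : C} {b : C →* ℂˣ} {μ : U →* ℂˣ} {t : G}
  {π : (Subgroup.centralizer ({t} : Set G)) →* C} {u w : Subgroup.centralizer ({t} : Set G)}
  {g : G}

/-- Conjugation by an element of `C(t)` preserves the kernel. -/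
theorem ker_conj {x y : Subgroup.centralizer ({t} : Set G)} {n : G} (hn : n * t = t * n)
    (h : (x : G) = n * y * n⁻¹) : π x = 1 ↔ π y = 1 := by
  have h1 : x = ⟨n, Subgroup.mem_centralizer_singleton_iff.2 hn⟩ * y *
      (⟨n, Subgroup.mem_centralizer_singleton_iff.2 hn⟩)⁻¹ := Subtype.ext h
  rw [h1, map_mul, map_mul, map_inv]
  constructor
  · intro h2
    set a := π ⟨n, Subgroup.mem_centralizer_singleton_iff.2 hn⟩
    calc π y = a⁻¹ * (a * π y * a⁻¹) * a := by group
      _ = 1 := by rw [h2]; group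
  · intro h2
    rw [h2]; group

/-- Conjugation by `g`, interchanging `t` and `u`. -/
theorem swap_one (hD : CData z q ε Z T T' U s s' u₀ b)
    (hG : GHyp π z u₀ s (General.tt t) u w) (hs : Swap t u g) {X : G → ℂ}
    (hX : IsClassFunction G X) (y : Wg hD.chyp π u) (hy : π y = 1) :
    ∃ y' : Wg hD.chyp π u, X y' = X y ∧ (π y' = 1 ↔ y ∈ A1 hD hG hs) ∧ y' ∈ A1 hD hG hs ∧
      (y' ∈ A2 hD hG hs ↔ y ∈ A2 hD hG hs) := by
  have htt : t * t = 1 := congrArg Subtype.val hG.tt
  have hggt : g * g * t = t * (g * g) := by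
    have h1 : g * g * t * (g * g)⁻¹ = t := by
      calc g * g * t * (g * g)⁻¹ = g * (g * t * g⁻¹) * g⁻¹ := by group
        _ = t := by rw [hs.g_t, hs.g_u]
    calc g * g * t = (g * g * t * (g * g)⁻¹) * (g * g) := by group
      _ = t * (g * g) := by rw [h1]
  have wu : (w : G) * u * (w : G)⁻¹ = t * u := congrArg Subtype.val hG.wu
  have hwt : (w : G) * t = t * w := Subgroup.mem_centralizer_singleton_iff.1 w.2
  have wu' : (w : G)⁻¹ * (t * u) * w = u := by rw [← wu]; group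
  have wt' : (w : G)⁻¹ * t * w = t := by
    calc (w : G)⁻¹ * t * w = (w : G)⁻¹ * (t * w) := by group
      _ = t := by rw [← hwt]; group
  have wu'' : (w : G)⁻¹ * u * w = t * u := by
    calc (w : G)⁻¹ * u * w = ((w : G)⁻¹ * t * w) * ((w : G)⁻¹ * (t * u) * w) := by
          have : (w : G)⁻¹ * u * w = (w : G)⁻¹ * ((t * t) * u) * w := by rw [htt, one_mul]
          rw [this]; group
      _ = t * u := by rw [wt', wu']
  have gtu := hs.tu
  have gut' : g⁻¹ * t * g = u := by
    have h3 : g⁻¹ * (g * u * g⁻¹) * g = g⁻¹ * t * g := congrArg (fun a => g⁻¹ * a * g) hs.g_u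
    rw [← h3]; group
  have gtu' : g⁻¹ * (t * u) * g = t * u := by
    calc g⁻¹ * (t * u) * g = g⁻¹ * (g * (t * u) * g⁻¹) * g := by rw [gtu]
      _ = t * u := by group
  refine ⟨bW hD hG hs y, ?_, Iff.rfl, ?_, ?_⟩
  · rw [bW_apply, hX]
  · show π (bW hD hG hs (bW hD hG hs y) : Wg hD.chyp π u) = 1
    refine (ker_conj (n := g * g) hggt ?_).2 hy
    rw [bW_apply, bW_apply]; group
  · rw [mem_A2, mem_A2]
    show π (bW hD hG hs ((aW hG hD.chyp).symm (bW hD hG hs y)) : Wg hD.chyp π u) = 1 ↔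
      π (bW hD hG hs ((aW hG hD.chyp).symm y) : Wg hD.chyp π u) = 1
    set n : G := g * (w : G)⁻¹ * g * w * g⁻¹ with hn
    have hnt : n * t = t * n := by
      have h1 : n * t * n⁻¹ = t := by
        calc n * t * n⁻¹ = g * ((w : G)⁻¹ * (g * (w * (g⁻¹ * t * g) * (w : G)⁻¹) * g⁻¹) * w) *
              g⁻¹ := by rw [hn]; group
          _ = t := by rw [gut', wu, gtu, wu', hs.g_u]
      calc n * t = (n * t * n⁻¹) * n := by group
        _ = t * n := by rw [h1]
    refine ker_conj (n := n) hnt ?_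
    have h1 : ∀ x : Wg hD.chyp π u, (((aW hG hD.chyp).symm x : Wg hD.chyp π u) : G) =
        (w : G)⁻¹ * x * w := fun x => rfl
    rw [bW_apply, h1, bW_apply, bW_apply, h1, hn]
    group

/-- Conjugation by `w g w⁻¹`, interchanging `t` and `t u`. -/
theorem swap_two (hD : CData z q ε Z T T' U s s' u₀ b)
    (hG : GHyp π z u₀ s (General.tt t) u w) (hs : Swap t u g) {X : G → ℂ}
    (hX : IsClassFunction G X) (y : Wg hD.chyp π u) (hy : π y = 1) :
    ∃ y' : Wg hD.chyp π u, X y' = X y ∧ (π y' = 1 ↔ y ∈ A2 hD hG hs) ∧ y' ∈ A2 hD hG hs ∧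
      (y' ∈ A1 hD hG hs ↔ y ∈ A1 hD hG hs) := by
  have hwt : (w : G) * t = t * w := Subgroup.mem_centralizer_singleton_iff.1 w.2
  have hwt' : (w : G)⁻¹ * t = t * (w : G)⁻¹ := by
    calc (w : G)⁻¹ * t = (w : G)⁻¹ * (t * w) * (w : G)⁻¹ := by group
      _ = t * (w : G)⁻¹ := by rw [← hwt]; group
  have htt : t * t = 1 := congrArg Subtype.val hG.tt
  have hggt : g * g * t = t * (g * g) := by
    have h1 : g * g * t * (g * g)⁻¹ = t := by
      calc g * g * t * (g * g)⁻¹ = g * (g * t * g⁻¹) * g⁻¹ := by group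
        _ = t := by rw [hs.g_t, hs.g_u]
    calc g * g * t = (g * g * t * (g * g)⁻¹) * (g * g) := by group
      _ = t * (g * g) := by rw [h1]
  have wu : (w : G) * u * (w : G)⁻¹ = t * u := congrArg Subtype.val hG.wu
  have wt : (w : G) * t * (w : G)⁻¹ = t := by rw [hwt]; group
  have wtu : (w : G) * (t * u) * (w : G)⁻¹ = u := by
    calc (w : G) * (t * u) * (w : G)⁻¹ = (w * t * (w : G)⁻¹) * (w * u * (w : G)⁻¹) := by group
      _ = t * (t * u) := by rw [wt, wu]
      _ = u := by rw [← mul_assoc, htt, one_mul]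
  have wu' : (w : G)⁻¹ * (t * u) * w = u := by rw [← wu]; group
  have wt' : (w : G)⁻¹ * t * w = t := by rw [hwt']; group
  have wu'' : (w : G)⁻¹ * u * w = t * u := by
    calc (w : G)⁻¹ * u * w = ((w : G)⁻¹ * t * w) * ((w : G)⁻¹ * (t * u) * w) := by
          have : (w : G)⁻¹ * u * w = (w : G)⁻¹ * ((t * t) * u) * w := by rw [htt, one_mul]
          rw [this]; group
      _ = t * u := by rw [wt', wu']
  have gtu := hs.tu
  have gut' : g⁻¹ * t * g = u := by
    have h3 : g⁻¹ * (g * u * g⁻¹) * g = g⁻¹ * t * g := congrArg (fun a => g⁻¹ * a * g) hs.g_u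
    rw [← h3]; group
  have ha : ∀ x : Wg hD.chyp π u, (((aW hG hD.chyp) x : Wg hD.chyp π u) : G) =
      (w : G) * x * (w : G)⁻¹ := fun x => rfl
  have ha' : ∀ x : Wg hD.chyp π u, (((aW hG hD.chyp).symm x : Wg hD.chyp π u) : G) =
      (w : G)⁻¹ * x * w := fun x => rfl
  have hy' : π ((aW hG hD.chyp).symm y : Wg hD.chyp π u) = 1 := by
    refine (ker_conj (n := (w : G)⁻¹) hwt' ?_).2 hy
    rw [ha']; group
  refine ⟨aW hG hD.chyp (bW hD hG hs ((aW hG hD.chyp).symm y)), ?_, ?_, ?_, ?_⟩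
  · rw [ha, hX, bW_apply, hX, ha']
    have : (w : G)⁻¹ * y * w = (w : G)⁻¹ * y * (w : G)⁻¹⁻¹ := by rw [inv_inv]
    rw [this, hX]
  · exact ker_conj (n := (w : G)) hwt (ha _)
  · rw [mem_A2, MulEquiv.symm_apply_apply]
    show π (bW hD hG hs (bW hD hG hs ((aW hG hD.chyp).symm y)) : Wg hD.chyp π u) = 1
    refine (ker_conj (n := g * g) hggt ?_).2 hy'
    rw [bW_apply, bW_apply]; group
  · show π (bW hD hG hs (aW hG hD.chyp (bW hD hG hs ((aW hG hD.chyp).symm y))) :
      Wg hD.chyp π u) = 1 ↔ π (bW hD hG hs y : Wg hD.chyp π u) = 1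
    set n : G := g * w * g * (w : G)⁻¹ * g⁻¹ with hn
    have hnt : n * t = t * n := by
      have h1 : n * t * n⁻¹ = t := by
        calc n * t * n⁻¹ = g * (w * (g * ((w : G)⁻¹ * (g⁻¹ * t * g) * w) * g⁻¹) * (w : G)⁻¹) *
              g⁻¹ := by rw [hn]; group
          _ = t := by rw [gut', wu'', gtu, wtu, hs.g_u]
      calc n * t = (n * t * n⁻¹) * n := by group
        _ = t * n := by rw [h1]
    refine ker_conj (n := n) hnt ?_
    rw [bW_apply, ha, bW_apply, ha', bW_apply, hn]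
    group

end Swap

section One

variable {C : Type v} [Group C] [Fintype C] {z : C} {q : ℕ} {Z T T' U : Subgroup C}
  {s s' u₀ : C} {b : C →* ℂˣ} {μ : U →* ℂˣ} {Γ : Type u} [Group Γ] [Fintype Γ] {π : Γ →* C}
  {t u w : Γ}

/-- The four special characters. -/
noncomputable def phi {ε : ℤ} (h : CHyp z q ε Z T T' U s s' u₀) (b : C →* ℂˣ) (μ : U →* ℂˣ)
    (π : Γ →* C) : Fin 4 → Γ → ℂ :=
  ![fun _ => 1, fun y => bF b (π y), fun y => St h μ (π y), fun y => bSt h b μ (π y)]

theorem cover {ε : ℤ} (hD : CData z q ε Z T T' U s s' u₀ b) (hG : GHyp π z u₀ s t u w) (g : Γ)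
    (hg : g ∈ T.comap π) :
    ∃ k ∈ π.ker, ∃ v, (v = 1 ∨ v = t ∨ v = u ∨ v = t * u) ∧ ∃ y : Wg hD.chyp π u,
      g = k * (v * (Wg hD.chyp π u).subtype y) := by
  obtain ⟨v, y, hv, hy, hyo, he⟩ := hD.decomp (Subgroup.mem_comap.1 hg)
  obtain ⟨v', hv', hvv'⟩ : ∃ v', (v' = 1 ∨ v' = t ∨ v' = u ∨ v' = t * u) ∧ π v' = v := by
    rcases hv with rfl | rfl | rfl | rfl
    · exact ⟨1, Or.inl rfl, map_one π⟩
    · exact ⟨t, Or.inr (Or.inl rfl), hG.map_t⟩
    · exact ⟨u, Or.inr (Or.inr (Or.inl rfl)), hG.map_u⟩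
    · exact ⟨t * u, Or.inr (Or.inr (Or.inr rfl)), by rw [map_mul, hG.map_t, hG.map_u]⟩
  obtain ⟨x, hx, hxy⟩ := exists_W hD hG (y := y)
    ⟨hy, hyo, hD.chyp.T_comm _ hD.chyp.u_mem _ hy⟩
  refine ⟨g * (v' * x)⁻¹, ?_, v', hv', ⟨x, hx⟩, ?_⟩
  · rw [MonoidHom.mem_ker, map_mul, map_inv, map_mul, hvv', hxy, he, mul_inv_cancel]
  · show g = g * (v' * x)⁻¹ * (v' * x)
    group

/-- The value of the Steinberg character at elements of odd order of `T`. -/
theorem St_odd {ε : ℤ} (hD : CData z q ε Z T T' U s s' u₀ b) (y : Wg hD.chyp π u)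
    (hy : π y ≠ 1) : St hD.chyp μ (π y) = ε := by
  have h2 : π (y : Γ) ∉ Z := by
    intro h4
    rcases hD.mem_Z.1 h4 with h5 | h5
    · exact hy h5
    · have h6 := y.2.2.1
      rw [h5, hD.chyp.orderOf_t] at h6
      norm_num at h6
  unfold St
  rw [hD.chyp.torus.R_T hD.chyp.base _ y.2.1 h2]
  ring

theorem bF_odd {ε : ℤ} (hD : CData z q ε Z T T' U s s' u₀ b) (y : Wg hD.chyp π u) :
    bF b (π y) = 1 := by
  unfold bF
  have h2 : b (π (y : Γ)) ^ orderOf (π (y : Γ)) = 1 := by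
    rw [← map_pow, pow_orderOf_eq_one, map_one]
  have h3 := hD.b_sq (π (y : Γ))
  obtain ⟨k, hk⟩ := y.2.2.1
  rw [hk, pow_succ, pow_mul, sq, h3, one_pow, one_mul] at h2
  rw [h2, Units.val_one]

end One

section Main

variable {G : Type u} [Group G] [Fintype G] {C : Type v} [Group C] [Fintype C] {z : C} {q : ℕ}
  {Z T T' U : Subgroup C} {s s' u₀ : C} {b : C →* ℂˣ} {μ : U →* ℂˣ} {t : G}
  {π : (Subgroup.centralizer ({t} : Set G)) →* C} {u w : Subgroup.centralizer ({t} : Set G)}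
  {g : G}

open scoped Classical in
/-- **The hypotheses of the tight case, `ε = 1`.** -/
theorem tightHyp (H : General.Hyp t z π) (hD : CData z q 1 Z T T' U s s' u₀ b) (hq : 5 ≤ q)
    (hμ : ∃ v : U, μ v ≠ 1) (hG : GHyp π z u₀ s (General.tt t) u w) (hs : Swap t u g)
    {X : G → ℂ} {c : ℤ} (hX : DVal hD.chyp μ π X 1 c) (hXc : IsCharacter G X)
    (hc : c = 0 ∨ c = 1) (hX1 : X 1 = (q : ℂ) ^ 2 + q - 1 + c) (hf : ∀ x, X x = X 1 → x = 1)
    {m : ℕ} (hm : 2 * (m : ℤ) = q - 1) [Fintype (Wg hD.chyp π u)] :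
    ∃ n : Fin 4 → ℕ, TightHyp q π.ker (b.comp π).ker (Bg U π) (inB U π Z)
      (inB U π hD.chyp.base.ZU) (inB U π T) (Wg hD.chyp π u).subtype (aW hG hD.chyp)
      (General.tt t) u w (T.comap π) (fun y => X y) c m (A1 hD hG hs) (A2 hD hG hs)
      (phi hD.chyp b μ π) n := by
  have h := hD.chyp
  have hv := vals H hD hG hs hX (Or.inl rfl) (restrict_isCharacter hXc _) hm
  obtain ⟨n1, ns, nSt, nsSt, nρ, nρ', I⟩ := exists_inputs hD hG hμ hv.char hv.sig hX.val
    (average (f := fun y : Wg hD.chyp π u => X (u * y)) hv.index₁ hv.val₁ hv.val₁')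
  have hN : X 1 = ((q ^ 2 + q - 1 + c.toNat : ℕ) : ℂ) := by
    rw [hX1]
    have h1 : 1 ≤ q ^ 2 + q := by nlinarith
    rcases hc with rfl | rfl
    · rw [Int.toNat_zero, Nat.add_zero, Nat.cast_sub h1]
      push_cast
      ring
    · rw [Int.toNat_one, Nat.cast_add, Nat.cast_sub h1]
      push_cast
      ring
  have hbound := bound' hD hG hq hμ hv hX.val hc hN
  have hε1 : ((1 : ℤ) : ℂ) = 1 := Int.cast_one
  have hR1 := I.R1
  have hR2 := I.R2
  have hR3 := I.R3
  refine ⟨![n1, ns, nSt, nsSt], ?_⟩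
  refine
    { lb := lbHyp_of hD hG hq (split_one hD) fun _ => rfl
      geo := geo hD hG
      ww := ww hD hG
      gen := gen hD hG hq
      wT := wT hD hG
      cover := cover hD hG
      line := line hD hG hq
      vals := hv
      hc := hc
      one := hX1
      faith := fun k _ hk => Subtype.ext (hf _ hk)
      Yt := fun k hk => ?_
      valt := fun y hy => ?_
      alpha := fun y => ?_
      swap := fun y hy => swap_one hD hG hs hX.cls y hy
      swap' := fun y hy => swap_two hD hG hs hX.cls y hy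
      irr := fun i => ?_
      inj := ?_
      deg := fun i => ?_
      val_t := fun i => ?_
      val_K := fun i k hk => ?_
      val_e := fun i y hy => ?_
      val_u := fun i y => ?_
      mult := fun i => ?_
      rel12 := ?_
      rel3 := ?_
      eq := fun ψ hψ h1 h2 h3 => ?_ }
  · have h1 : π (General.tt t * k) = z := by
      rw [map_mul, MonoidHom.mem_ker.1 hk, mul_one, General.map_tt H]
    have h2 := hX.val (General.tt t * k) (by rw [h1]; exact Subgroup.mem_zpowers z)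
    have h3 := hX.val (General.tt t) (by
      rw [General.map_tt H]; exact Subgroup.mem_zpowers z)
    rw [h1] at h2
    rw [General.map_tt H] at h3
    rw [h2, h3]
  · have h1 := (hX.at_tW hD hG y).2 hy
    show X (t * y) = _
    rw [h1, hε1, one_mul]
  · rw [mem_A2, MulEquiv.symm_apply_apply]
  · fin_cases i
    · exact I.i1
    · exact I.is
    · exact I.iSt
    · exact I.isSt
  · -- injectivity, from the values at `1` and `u`
    have hv1 : ∀ i, phi h b μ π i 1 = sdeg q i := by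
      intro i
      fin_cases i
      · simp [phi, sdeg]
      · show bF b (π 1) = ((1 : ℕ) : ℂ)
        rw [map_one, b_one, Nat.cast_one]
      · show St h μ (π 1) = (q : ℂ)
        rw [map_one, St_one]
      · show bSt h b μ (π 1) = (q : ℂ)
        rw [map_one, bSt_one]
    have hvu : ∀ i, phi h b μ π i (u * (1 : Wg hD.chyp π u)) = sval i := by
      intro i
      fin_cases i
      · simp [phi, sval]
      · show bF b (π (u * ((1 : Wg hD.chyp π u) : _))) = ((-1 : ℤ) : ℂ)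
        rw [bF_val hD hG]
        norm_num
      · show St h μ (π (u * ((1 : Wg hD.chyp π u) : _))) = ((1 : ℤ) : ℂ)
        rw [St_val hD hG]
      · show bF b (π (u * ((1 : Wg hD.chyp π u) : _))) *
          St h μ (π (u * ((1 : Wg hD.chyp π u) : _))) = ((-1 : ℤ) : ℂ)
        rw [bF_val hD hG, St_val hD hG]
        norm_num
    intro i j hij
    have e1 : (sdeg q i : ℂ) = sdeg q j := by rw [← hv1, ← hv1, hij]
    have e2 : (sval i : ℂ) = sval j := by rw [← hvu, ← hvu, hij]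
    have e1' : sdeg q i = sdeg q j := by exact_mod_cast e1
    have e2' : sval i = sval j := by exact_mod_cast e2
    fin_cases i <;> fin_cases j <;> simp [sdeg, sval] at e1' e2' ⊢ <;> omega
  · fin_cases i
    · simp [phi, sdeg]
    · show bF b (π 1) = ((1 : ℕ) : ℂ)
      rw [map_one, b_one, Nat.cast_one]
    · show St h μ (π 1) = (q : ℂ)
      rw [map_one, St_one]
    · show bSt h b μ (π 1) = (q : ℂ)
      rw [map_one, bSt_one]
  · fin_cases i
    · rfl
    · exact I.ss.1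
    · exact I.sSt.1
    · exact I.ssSt.1
  · have hk' : π k = 1 := hk
    fin_cases i
    · rfl
    · show bF b (π k) = bF b (π 1)
      rw [hk', map_one]
    · show St h μ (π k) = St h μ (π 1)
      rw [hk', map_one]
    · show bSt h b μ (π k) = bSt h b μ (π 1)
      rw [hk', map_one]
  · have hy' : π (y : Subgroup.centralizer ({t} : Set G)) ≠ 1 := hy
    fin_cases i
    · rfl
    · show bF b (π (y : Subgroup.centralizer ({t} : Set G))) = 1
      exact bF_odd hD y
    · show St h μ (π (y : Subgroup.centralizer ({t} : Set G))) = 1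
      rw [St_odd hD y hy', hε1]
    · show bF b (π (y : Subgroup.centralizer ({t} : Set G))) *
        St h μ (π (y : Subgroup.centralizer ({t} : Set G))) = 1
      rw [bF_odd hD y, St_odd hD y hy', hε1, mul_one]
  · fin_cases i
    · simp [phi, sval]
    · show bF b (π (u * (y : Subgroup.centralizer ({t} : Set G)))) = ((-1 : ℤ) : ℂ)
      rw [bF_val hD hG]
      norm_num
    · show St h μ (π (u * (y : Subgroup.centralizer ({t} : Set G)))) = ((1 : ℤ) : ℂ)
      rw [St_val hD hG]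
    · show bF b (π (u * (y : Subgroup.centralizer ({t} : Set G)))) *
        St h μ (π (u * (y : Subgroup.centralizer ({t} : Set G)))) = ((-1 : ℤ) : ℂ)
      rw [bF_val hD hG, St_val hD hG]
      norm_num
  · fin_cases i
    · exact I.e1
    · exact I.es
    · exact I.eSt
    · exact I.esSt
  · show (n1 : ℤ) - ns + nSt - nsSt = c + 3
    linarith
  · show (n1 : ℤ) + 1 ≤ nSt + c
    have : (0 : ℤ) ≤ nρ' := by positivity
    linarith
  · have hq1 : 1 ≤ q ^ 2 + q := by nlinarith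
    have htight : (((q ^ 2 + q - 1 + c.toNat : ℕ) : ℤ)) - 1 * (c + 1 * q) = (q : ℤ) ^ 2 - 1 := by
      rcases hc with rfl | rfl
      · rw [Int.toNat_zero, Nat.add_zero, Nat.cast_sub hq1]
        push_cast
        ring
      · rw [Int.toNat_one, Nat.cast_add, Nat.cast_sub hq1]
        push_cast
        ring
    obtain ⟨h4, lam, χ, h5, h6, h7, h8, h9⟩ := hbound.2 htight ψ hψ h1 h2 (h3 0) (h3 1) (h3 2) (h3 3)
    refine ⟨by rw [h4]; push_cast; ring, lam, χ, h5, h6, h7, h8, ?_⟩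
    exact h9.imp id fun h10 => ⟨h10.2.1, h10.2.2.1, h10.2.2.2⟩

/-- **The tight case, `ε = 1`.** -/
theorem le_center_one (H : General.Hyp t z π) (hD : CData z q 1 Z T T' U s s' u₀ b) (hq : 5 ≤ q)
    (hμ : ∃ v : U, μ v ≠ 1) {X : G → ℂ} {c : ℤ} (hX : DVal hD.chyp μ π X 1 c)
    (hXc : IsCharacter G X) (hc : c = 0 ∨ c = 1) (hX1 : X 1 = (q : ℂ) ^ 2 + q - 1 + c)
    (hf : ∀ x, X x = X 1 → x = 1) : π.ker ≤ Subgroup.center _ := by
  classical
  obtain ⟨u, w, hG⟩ := exists_ghyp H hD.chyp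
  obtain ⟨g, hs⟩ := exists_swap H hD hG
  obtain ⟨m, -, hm⟩ := hD.exists_m
  let _ : Fintype (Wg hD.chyp π u) := Fintype.ofFinite _
  obtain ⟨n, hT⟩ := tightHyp H hD hq hμ hG hs hX hXc hc hX1 hf hm
  let _ : Fintype π.ker := Fintype.ofFinite _
  exact QDTight.le_center hT

end Main

section Neg

variable {C : Type v} [Group C] [Fintype C] {z : C} {q : ℕ} {Z T T' U : Subgroup C}
  {s s' u₀ : C} {b : C →* ℂˣ} {μ : U →* ℂˣ} {Γ : Type u} [Group Γ] [Fintype Γ] {π : Γ →* C}
  {t u w : Γ}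

/-- **The tight case, `ε = -1`**: any `Γ`. -/
theorem le_center_neg (hD : CData z q (-1) Z T T' U s s' u₀ b) (hG : GHyp π z u₀ s t u w)
    (hq : 5 ≤ q) (hμ : ∃ v : U, μ v ≠ 1) {Y : Γ → ℂ} {σ c : ℤ} {m : ℕ}
    [Fintype (Wg hD.chyp π u)] {A₁ A₂ : Subgroup (Wg hD.chyp π u)}
    (hY : Vals q (-1) (Wg hD.chyp π u).subtype (aW hG hD.chyp) t u Y σ c m A₁ A₂)
    (hv : ∀ y, z ∈ Subgroup.zpowers (π y) → Y y = σ * (c + ((-1 : ℤ) : ℂ) * St hD.chyp μ (π y)))
    (hc : c = 0 ∨ c = 1) {N : ℕ} (hN : Y 1 = N)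
    (htight : (N : ℤ) - σ * (c + (-1) * q) = (q : ℤ) ^ 2 - 1)
    (hf : ∀ k ∈ π.ker, Y k = Y 1 → k = 1) : π.ker ≤ Subgroup.center Γ := by
  classical
  let _ : Fintype π.ker := Fintype.ofFinite _
  have h := hD.chyp
  have heq := (InstLB.bound hD hG hq hμ hY hv hc hN).2 htight
  -- `Y (t k) = Y t`
  have hYt : ∀ k ∈ π.ker, Y (t * k) = Y t := by
    intro k hk
    have h1 : π (t * k) = z := by rw [map_mul, MonoidHom.mem_ker.1 hk, mul_one, hG.map_t]
    have h2 := hv (t * k) (by rw [h1]; exact Subgroup.mem_zpowers z)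
    have h3 := hv t (by rw [hG.map_t]; exact Subgroup.mem_zpowers z)
    rw [h1] at h2
    rw [hG.map_t] at h3
    rw [h2, h3]
  -- every constituent of `Y` on `K` is linear and invariant
  have key : ∀ l : π.ker → ℂ, IsIrrCharacter π.ker l →
      classInner (fun k : π.ker => Y k) l ≠ 0 → l 1 = 1 ∧ stab π.ker l = ⊤ := by
    intro l hl hne
    by_cases hl1 : l = 1
    · rw [hl1]
      refine ⟨rfl, ?_⟩
      rw [eq_top_iff]
      intro g _ k
      rfl
    obtain ⟨ψ, hψ, hYψ, hψt, hψl⟩ := exists_plus_over hG.tt hG.t_comm hY.char hYt hl hl1 hne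
    -- `ψ` is not special
    have hspec : (∀ k : π.ker, ψ k = ψ 1) → False := by
      intro h1
      apply hψl
      have h2 : (fun k : π.ker => ψ k) = (ψ 1) • (1 : π.ker → ℂ) := by
        funext k
        rw [h1, Pi.smul_apply, Pi.one_apply, smul_eq_mul, mul_one]
      rw [h2, Core.classInner_smul_left, Core.classInner_irr_ne Core.isIrr_one hl (Ne.symm hl1),
        mul_zero]
    have hk1 : ∀ k : π.ker, π (k : Γ) = π 1 := fun k => by
      rw [MonoidHom.mem_ker.1 k.2, map_one]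
    obtain ⟨-, lam, χ, hlam, hχ, hadd, hlam1, hst⟩ := heq ψ hψ hYψ hψt
      (fun h1 => hspec fun k => by rw [h1])
      (fun h1 => hspec fun k => by rw [h1]; simp only [hk1])
      (fun h1 => hspec fun k => by rw [h1]; simp only [hk1])
      (fun h1 => hspec fun k => by rw [h1]; simp only [hk1])
    have hst' : stab π.ker lam = ⊤ := by
      rcases hst with h1 | ⟨h1, -⟩
      · exact h1
      · norm_num at h1
    obtain ⟨d, hd1, hd⟩ := exists_mult hlam hst' hψ hχ hadd
    have h2 : (fun k : π.ker => ψ k) = (d : ℂ) • lam := by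
      funext k
      rw [hd, Pi.smul_apply, smul_eq_mul]
    have h3 : lam = l := by
      by_contra hne'
      apply hψl
      rw [h2, Core.classInner_smul_left, Core.classInner_irr_ne hlam hl hne', mul_zero]
    rw [← h3]
    exact ⟨hlam1, hst'⟩
  -- the commutators
  have hYK : IsCharacter π.ker (fun k : π.ker => Y k) := Core.isCharacter_comp π.ker.subtype hY.char
  have := Core.finite_irr (G := π.ker)
  let _ : Fintype (IrrCharacter π.ker) := Fintype.ofFinite _
  obtain ⟨n, hn⟩ := Core.exists_nat_comb hYK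
  intro k hk
  rw [Subgroup.mem_center_iff]
  intro g
  have hkK : g * k * g⁻¹ * k⁻¹ ∈ π.ker :=
    mul_mem ((inferInstance : π.ker.Normal).conj_mem k hk g) (inv_mem hk)
  have h1 : g * k * g⁻¹ * k⁻¹ = 1 := by
    apply hf _ hkK
    have h2 := congrFun hn ⟨_, hkK⟩
    have h3 := congrFun hn 1
    have h4 : Y (g * k * g⁻¹ * k⁻¹) = Y ((1 : π.ker) : Γ) := by
      change Y (g * k * g⁻¹ * k⁻¹) = _ at h2
      change Y ((1 : π.ker) : Γ) = _ at h3
      rw [h2, h3, Finset.sum_apply, Finset.sum_apply]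
      refine Finset.sum_congr rfl fun l _ => ?_
      rw [Pi.smul_apply, Pi.smul_apply]
      by_cases h5 : n l = 0
      · rw [h5, zero_smul, zero_smul]
      congr 1
      have h6 : classInner (fun k : π.ker => Y k) (l : π.ker → ℂ) ≠ 0 := by
        rw [hn, Core.classInner_sum_nsmul_irr]
        exact_mod_cast h5
      obtain ⟨h7, h8⟩ := key l l.2 h6
      obtain ⟨l', hl'⟩ := Linear.exists_hom_of_isIrrCharacter l.2 h7
      have h9 : g ∈ stab π.ker (l : π.ker → ℂ) := by rw [h8]; trivial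
      have h10 := h9 ⟨k, hk⟩
      have h11 : (⟨g * k * g⁻¹ * k⁻¹, hkK⟩ : π.ker) =
          ⟨g * k * g⁻¹, (inferInstance : π.ker.Normal).conj_mem k hk g⟩ * ⟨k, hk⟩⁻¹ := rfl
      rw [h11, h7]
      rw [hl'] at h10 ⊢
      have h12 : l' ⟨g * k * g⁻¹, (inferInstance : π.ker.Normal).conj_mem k hk g⟩ = l' ⟨k, hk⟩ :=
        Units.ext h10
      show ((l' (⟨g * k * g⁻¹, _⟩ * ⟨k, hk⟩⁻¹) : ℂˣ) : ℂ) = 1
      rw [map_mul, map_inv, h12, mul_inv_cancel, Units.val_one]
    exact h4
  calc g * k = (g * k * g⁻¹ * k⁻¹) * (k * g) := by group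
    _ = k * g := by rw [h1, one_mul]

end Neg

section Both

variable {G : Type u} [Group G] [Fintype G] {C : Type v} [Group C] [Fintype C] {z : C} {q : ℕ}
  {ε : ℤ} {Z T T' U : Subgroup C} {s s' u₀ : C} {b : C →* ℂˣ} {μ : U →* ℂˣ} {t : G}
  {π : (Subgroup.centralizer ({t} : Set G)) →* C}

/-- **The tight case**, both signs. `X` is plus or minus an irreducible faithful character of `G`
with values `c + ε St`, and `|X(1) - X(t)| = q² - 1`; for `ε = 1`, `X(1) > 0`. -/
theorem le_center (H : General.Hyp t z π) (hD : CData z q ε Z T T' U s s' u₀ b) (hq : 5 ≤ q)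
    (hμ : ∃ v : U, μ v ≠ 1) {X : G → ℂ} (hX : BGOrder.SignedIrr X) {c : ℤ} (hc : c = 0 ∨ c = 1)
    (hv : ∀ y : Subgroup.centralizer ({t} : Set G), z ∈ Subgroup.zpowers (π y) →
      X y = c + ε * St hD.chyp μ (π y)) {d : ℤ} (hd : X 1 = d)
    (htight : |d - (c + ε * q)| = (q : ℤ) ^ 2 - 1) (hpos : ε = 1 → 0 < d)
    (hf : ∀ x, X x = X 1 → x = 1) : π.ker ≤ Subgroup.center _ := by
  classical
  obtain ⟨σ, hσ, hY⟩ := exists_sign hX
  have hdv : DVal hD.chyp μ π ((σ : ℂ) • X) σ c := dval hX hv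
  obtain ⟨N, hN0, hN⟩ := Core.isIrr_apply_one hY
  have h2 : (N : ℤ) = σ * d := by
    rw [Pi.smul_apply, hd, smul_eq_mul] at hN
    exact_mod_cast hN.symm
  have hN0' : (0 : ℤ) < N := by exact_mod_cast hN0
  have hσ0 : (σ : ℂ) ≠ 0 := by
    rcases hσ with h1 | h1 <;> rw [h1] <;> norm_num
  have hf' : ∀ x, ((σ : ℂ) • X) x = ((σ : ℂ) • X) 1 → x = 1 := by
    intro x hx
    rw [Pi.smul_apply, Pi.smul_apply, smul_eq_mul, smul_eq_mul] at hx
    exact hf x (mul_left_cancel₀ hσ0 hx)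
  obtain ⟨u, w, hG⟩ := exists_ghyp H hD.chyp
  obtain ⟨g, hs⟩ := exists_swap H hD hG
  obtain ⟨m, -, hm⟩ := hD.exists_m
  let _ : Fintype (Wg hD.chyp π u) := Fintype.ofFinite _
  have hvals := vals H hD hG hs hdv hσ
    (restrict_isCharacter (Core.isIrr_isCharacter hY) _) hm
  have hlb := (InstLB.bound hD hG hq hμ hvals hdv.val hc (N := N) hN).1
  have hq' : (5 : ℤ) ≤ q := by exact_mod_cast hq
  -- the sign
  have ht : (N : ℤ) - σ * (c + ε * q) = (q : ℤ) ^ 2 - 1 := by
    rw [h2] at hlb ⊢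
    have h3 : σ * d - σ * (c + ε * q) = σ * (d - (c + ε * q)) := by ring
    rw [h3] at hlb ⊢
    have h4 : |σ * (d - (c + ε * q))| = (q : ℤ) ^ 2 - 1 := by
      rw [abs_mul, htight]
      rcases hσ with h5 | h5 <;> rw [h5] <;> norm_num
    have h5 : 0 ≤ σ * (d - (c + ε * q)) := le_trans (by nlinarith) hlb
    rwa [abs_of_nonneg h5] at h4
  rcases hD.chyp.eps with hε | hε
  · subst hε
    have hd0 := hpos rfl
    have hσ1 : σ = 1 := by
      rcases hσ with h3 | h3
      · exact h3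
      · exfalso
        rw [h3] at h2
        linarith
    subst hσ1
    refine le_center_one H hD hq hμ hdv (Core.isIrr_isCharacter hY) hc ?_ hf'
    rw [hN]
    have h3 : (N : ℤ) = (q : ℤ) ^ 2 + q - 1 + c := by linarith
    have h4 : (N : ℂ) = ((N : ℤ) : ℂ) := by push_cast; rfl
    rw [h4, h3]
    push_cast
    ring
  · subst hε
    exact le_center_neg hD hG hq hμ hvals hdv.val hc hN ht fun k _ hk =>
      Subtype.ext (hf' _ hk)

variable {M : Ideal AlgInt} {θ : T' →* ℂˣ} {n : ℕ} {χ : T →* ℂˣ} {X₂ X₃ X₄ X₅ : G → ℂ}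
  {L : ℕ → G → ℂ} {f x : ℤ}

/-- The tight case for `X₂`. -/
theorem le_center₂ (H : General.Hyp t z π) (hD : CData z q ε Z T T' U s s' u₀ b) (hq : 5 ≤ q)
    (hμ : ∃ v : U, μ v ≠ 1) (S : SDFull M hD.chyp b θ n χ μ π X₂ X₃ X₄ X₅ L f x)
    (htight : |f - ε * q| = (q : ℤ) ^ 2 - 1) (hpos : ε = 1 → 0 < f)
    (hf : ∀ x, X₂ x = X₂ 1 → x = 1) : π.ker ≤ Subgroup.center _ :=
  le_center H hD hq hμ S.in₂.signedIrr (Or.inl rfl) (val₂ hμ S) S.one₂ (by rwa [zero_add]) hpos hf

/-- The tight case for `X₃`. -/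
theorem le_center₃ (H : General.Hyp t z π) (hD : CData z q ε Z T T' U s s' u₀ b) (hq : 5 ≤ q)
    (hμ : ∃ v : U, μ v ≠ 1) (S : SDFull M hD.chyp b θ n χ μ π X₂ X₃ X₄ X₅ L f x)
    (htight : |x + ε * q + 2| = (q : ℤ) ^ 2 - 1) (hpos : ε = 1 → x < -1)
    (hf : ∀ x, X₃ x = X₃ 1 → x = 1) : π.ker ≤ Subgroup.center _ := by
  refine le_center H hD hq hμ S.in₃.signedIrr (Or.inr rfl) (val₃ S) (d := -1 - x) (by
    rw [S.one₃]
    push_cast
    ring) ?_ (fun h1 => by linarith [hpos h1]) hf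
  have h2 : -1 - x - (1 + ε * q) = -(x + ε * q + 2) := by ring
  rw [h2, abs_neg, htight]

end Both

end Cfsg.Agent.Classification.QDW.InstTight
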