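import Mathlib
import Cfsg.Agent.Classification.QDW.NumBridgeG
import Cfsg.Agent.Classification.QDW.InstTight
import Cfsg.Agent.Classification.QDW.WrAssembly
import Cfsg.Agent.Classification.QDW.FOneStruct
import Cfsg.Agent.Walter.Cover

/-!
# Quasi-dihedral, no field automorphisms: `f = (ε q)³` implies that the core is central

* `le_center_of_cube`: `X₂(1) = (ε q)³` is the tight case for `X₃`;
* `ker_iff`: the kernel of `π` is the core of `C(t)`;
* `le_center_of_core`: `O(C(t)) = 1`.
-/

set_option autoImplicit false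
set_option linter.unusedSectionVars false

namespace Cfsg.Agent.Classification.QDW.QDCube

open Cfsg Cfsg.Agent.Characters Cfsg.Agent.Classification.InvCent
open Cfsg.Agent.Classification.QDW.InstC Cfsg.Agent.Classification.QDW.InstTight
open Cfsg.Agent.Classification.QDW.InstMain Cfsg.Agent.Classification.QDW.NumBridge
open Cfsg.Agent.Classification.RTwo Cfsg.Agent.Classification.BGOrder
open Cfsg.Agent.Classification.BGBlockB0

universe u v

section Signed

variable {G : Type u} [Group G] [Finite G]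

/-- In a simple group, a signed character nontrivial at some element is faithful. -/
theorem eq_one_of_signed [IsSimpleGroup G] {X : G → ℂ} (hX : SignedIrr X) {t : G}
    (ht : X t ≠ X 1) {x : G} (hx : X x = X 1) : x = 1 := by
  obtain ⟨σ, hσ, h⟩ := exists_sign hX
  have hσ0 : (σ : ℂ) ≠ 0 := by
    rcases hσ with rfl | rfl <;> norm_num
  refine WrAssembly.eq_one_of_apply (Core.isIrr_isCharacter h) (t := t) ?_ ?_
  · intro h1
    rw [Pi.smul_apply, Pi.smul_apply, smul_eq_mul, smul_eq_mul] at h1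
    exact ht (mul_left_cancel₀ hσ0 h1)
  · rw [Pi.smul_apply, Pi.smul_apply, hx]

end Signed

section Core

variable {G : Type u} [Group G] [Finite G] {C : Type v} [Group C] {z : C} {t : G}
  {π : (Subgroup.centralizer ({t} : Set G)) →* C}

/-- The kernel of `π` is the core if `C` has no normal subgroup of odd order. -/
theorem ker_iff (H : General.Hyp t z π)
    (hO : ∀ N : Subgroup C, N.Normal → Odd (Nat.card N) → N = ⊥)
    (x : Subgroup.centralizer ({t} : Set G)) :
    π x = 1 ↔ (x : G) ∈ centralizerPPrimeCore 2 t := by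
  have : Fact (Nat.Prime 2) := ⟨Nat.prime_two⟩
  constructor
  · intro hx
    refine ⟨x, ?_, rfl⟩
    have hle : π.ker ≤ pPrimeCore 2 (Subgroup.centralizer ({t} : Set G)) :=
      Lib.Cores.le_pPrimeCore inferInstance (Nat.coprime_two_right.2 H.odd_ker)
    exact hle (MonoidHom.mem_ker.2 hx)
  · rintro ⟨x', hx', e⟩
    obtain rfl : x' = x := Subtype.ext e
    let N : Subgroup C := (pPrimeCore 2 (Subgroup.centralizer ({t} : Set G))).map π
    have hN : N.Normal := (inferInstance :
      (pPrimeCore 2 (Subgroup.centralizer ({t} : Set G))).Normal).map π H.surj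
    have hodd : Odd (Nat.card N) := by
      refine Odd.of_dvd_nat (Nat.coprime_two_right.1
        (Cfsg.Agent.Lib.Cores.pPrimeCore_coprime (G := Subgroup.centralizer ({t} : Set G)) 2)) ?_
      exact Subgroup.card_map_dvd _ _
    have h1 := hO N hN hodd
    have h2 : π x' ∈ N := ⟨x', hx', rfl⟩
    rw [h1] at h2
    exact Subgroup.mem_bot.1 h2

theorem le_center_of_core (H : General.Hyp t z π)
    (hO : ∀ N : Subgroup C, N.Normal → Odd (Nat.card N) → N = ⊥)
    (hK : centralizerPPrimeCore 2 t = ⊥) : π.ker ≤ Subgroup.center _ := by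
  intro x hx
  have h1 := (ker_iff H hO x).1 (MonoidHom.mem_ker.1 hx)
  rw [hK] at h1
  have h2 : x = 1 := Subtype.ext (Subgroup.mem_bot.1 h1)
  rw [h2]
  exact one_mem _

end Core

section Cube

variable {G : Type u} [Group G] [Fintype G] {C : Type v} [Group C] [Fintype C] {z : C} {q : ℕ}
  {ε : ℤ} {Z T T' U : Subgroup C} {s s' u₀ : C} {b : C →* ℂˣ} {μ : U →* ℂˣ} {t : G}
  {π : (Subgroup.centralizer ({t} : Set G)) →* C}
  {M : Ideal AlgInt} {θ : T' →* ℂˣ} {n : ℕ} {χ : T →* ℂˣ} {X₂ X₃ X₄ X₅ : G → ℂ}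
  {L : ℕ → G → ℂ} {f x : ℤ}

theorem not_four (hD : CData z q ε Z T T' U s s' u₀ b) : ¬ (4 : ℤ) ∣ q - ε := by
  intro h1
  obtain ⟨z₀, ⟨k, hk0⟩, h3⟩ := hD.chyp.card_Z
  rw [hD.card_Z, hk0] at h3
  push_cast at h3
  omega

/-- **`f = (ε q)³`: the tight case for `X₃`.** -/
theorem le_center_of_cube [IsSimpleGroup G] (H : General.Hyp t z π)
    (hD : CData z q ε Z T T' U s s' u₀ b) (hq : 5 ≤ q) (hμ : ∃ v : U, μ v ≠ 1)
    (S : SDFull M hD.chyp b θ n χ μ π X₂ X₃ X₄ X₅ L f x) (hf : f = (ε * q) ^ 3) :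
    π.ker ≤ Subgroup.center _ := by
  have hN := NumBridgeG.num H (not_four hD) S.toSDRes
  have h1 := hN.slack₃_eq_zero.2 hf
  have hq' : (5 : ℤ) ≤ q := by exact_mod_cast hq
  have hx : x + ε * q + 2 = -((q : ℤ) ^ 2 - 1) := by linear_combination -h1
  refine le_center₃ H hD hq hμ S ?_ ?_ ?_
  · rw [hx, abs_neg, abs_of_nonneg]
    nlinarith
  · intro hε
    rw [hε] at hx
    nlinarith
  · intro y hy
    refine eq_one_of_signed S.in₃.signedIrr (t := t) ?_ hy
    rw [S.t₃, S.one₃]
    intro h2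
    have h3 : 1 + ε * (q : ℤ) = -1 - x := by exact_mod_cast h2
    nlinarith

end Cube

end Cfsg.Agent.Classification.QDW.QDCube
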