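import Mathlib
import Cfsg.Agent.Classification.QDW.QDCube
import Cfsg.Agent.Classification.QDW.ThetaDefs

/-!
# The step of the quasi-dihedral case without field automorphisms: the case distinction

`step_of`: if the type D case (`K t ⊓ C u ≤ K u` for all commuting involutions) gives `K t = ⊥` or
`f = (ε q)³`, and its negation gives `f = (ε q)³`, then the kernel of `π` is central.
-/

set_option autoImplicit false

namespace Cfsg.Agent.Classification.QDW.QDStep

open Cfsg Cfsg.Agent.Characters Cfsg.Agent.Classification.InvCent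
open Cfsg.Agent.Classification.QDW.InstC Cfsg.Agent.Classification.QDW.Theta
open Cfsg.Agent.Classification.RTwo Cfsg.Agent.Walter.OddCoreIn Cfsg.Agent.Walter.Cover

universe u v

variable {G : Type u} [Group G] [Fintype G] {C₀ : Type v} [Group C₀] [Fintype C₀] {z : C₀} {q : ℕ}
  {ε : ℤ} {Z T T' U : Subgroup C₀} {s s' u₀ : C₀} {b : C₀ →* ℂˣ} {μ : U →* ℂˣ} {t : G}
  {π : (Subgroup.centralizer ({t} : Set G)) →* C₀}
  {M : Ideal AlgInt} {θ : T' →* ℂˣ} {n : ℕ} {χ : T →* ℂˣ} {X₂ X₃ X₄ X₅ : G → ℂ}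
  {L : ℕ → G → ℂ} {f x : ℤ}

theorem step_of [IsSimpleGroup G] (H : General.Hyp t z π)
    (hO : ∀ N : Subgroup C₀, N.Normal → Odd (Nat.card N) → N = ⊥)
    (hD : CData z q ε Z T T' U s s' u₀ b) (hq : 5 ≤ q) (hμ : ∃ v : U, μ v ≠ 1)
    (S : SDFull M hD.chyp b θ n χ μ π X₂ X₃ X₄ X₅ L f x)
    (hTD : (∀ t u : G, Four t u → K t ⊓ C u ≤ K u) → K t = ⊥ ∨ f = (ε * q) ^ 3)
    (hRed : ¬ (∀ t u : G, Four t u → K t ⊓ C u ≤ K u) → f = (ε * q) ^ 3) :
    ∀ k, π k = 1 → ∀ c, c * k = k * c := by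
  have hmain : π.ker ≤ Subgroup.center (Subgroup.centralizer ({t} : Set G)) := by
    by_cases hbal : ∀ t u : G, Four t u → K t ⊓ C u ≤ K u
    · rcases hTD hbal with h1 | h1
      · exact QDCube.le_center_of_core H hO h1
      · exact QDCube.le_center_of_cube H hD hq hμ S h1
    · exact QDCube.le_center_of_cube H hD hq hμ S (hRed hbal)
  intro k hk c
  exact Subgroup.mem_center_iff.1 (hmain (MonoidHom.mem_ker.2 hk)) c

end Cfsg.Agent.Classification.QDW.QDStep
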