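import Mathlib
import Cfsg.Agent.Classification.QDW.NumBridge

/-!
# The choice of `X₂` or `X₃` in the quasi-dihedral case

From `NumBridge.Num` and the lower bounds for `|X₂(1) - X₂(t)|`, `|X₃(1) - X₃(t)|`.
-/

set_option autoImplicit false

namespace Cfsg.Agent.Classification.QDW.NumChoice

open Cfsg.Agent.Classification.QDW.NumBridge

variable {q : ℕ} {n κ f x : ℤ}

/-- `ε = 1`. -/
theorem choice_pos (h : Num q 1 n κ f x) (lb₂ : (q : ℤ) ^ 2 - 1 ≤ |f - 1 * q|)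
    (lb₃ : (q : ℤ) ^ 2 - 1 ≤ |x + 1 * q + 2|) (hf : f ≠ (q : ℤ) ^ 3) :
    0 < f ∧ f < (q : ℤ) ^ 3 ∧
      ((∃ n' : ℕ, f = (q : ℤ) ^ 2 - 1 + (0 + 1 * q) + n' ∧ (n' : ℤ) < (q : ℤ) ^ 2 - q) ∨
        (∃ n' : ℕ, -1 - x = (q : ℤ) ^ 2 - 1 + (1 + 1 * q) + n' ∧
          (n' : ℤ) < (q : ℤ) ^ 2 - q)) := by
  obtain ⟨h1, h2, h3⟩ := h.pos lb₂ lb₃
  have hq : (3 : ℤ) ≤ q := by exact_mod_cast h.q_ge
  have hp := h.prod
  have hf0 : 0 < f := by nlinarith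
  have hle : f ≤ (q : ℤ) ^ 3 := by
    by_contra hcon
    rw [not_le] at hcon
    have h4 : (q : ℤ) + 1 ≤ -x - (q : ℤ) ^ 2 := by linarith
    have h5 : (q : ℤ) ^ 3 - (q : ℤ) ^ 2 < f - (q : ℤ) ^ 2 := by linarith
    have h6 : (0 : ℤ) ≤ (q : ℤ) ^ 3 - (q : ℤ) ^ 2 := by nlinarith [sq_nonneg (q : ℤ)]
    have h7 : ((q : ℤ) ^ 3 - (q : ℤ) ^ 2) * ((q : ℤ) + 1) <
        (f - (q : ℤ) ^ 2) * (-x - (q : ℤ) ^ 2) :=
      calc ((q : ℤ) ^ 3 - (q : ℤ) ^ 2) * ((q : ℤ) + 1) <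
          (f - (q : ℤ) ^ 2) * ((q : ℤ) + 1) := mul_lt_mul_of_pos_right h5 (by linarith)
        _ ≤ _ := mul_le_mul_of_nonneg_left h4 (by linarith)
    rw [hp] at h7
    have h8 : ((q : ℤ) ^ 3 - (q : ℤ) ^ 2) * ((q : ℤ) + 1) = (q : ℤ) ^ 2 * ((q : ℤ) ^ 2 - 1) := by
      ring
    linarith
  refine ⟨hf0, lt_of_le_of_ne hle hf, ?_⟩
  rcases h3 with h4 | h4
  · left
    obtain ⟨m, hm⟩ := Int.eq_ofNat_of_zero_le (a := f - q - ((q : ℤ) ^ 2 - 1)) (by linarith)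
    refine ⟨m, by linarith, ?_⟩
    have : ((m : ℕ) : ℤ) = f - q - ((q : ℤ) ^ 2 - 1) := hm.symm
    rw [this]
    linarith
  · right
    obtain ⟨m, hm⟩ := Int.eq_ofNat_of_zero_le (a := -x - q - 2 - ((q : ℤ) ^ 2 - 1)) (by linarith)
    refine ⟨m, by linarith, ?_⟩
    have : ((m : ℕ) : ℤ) = -x - q - 2 - ((q : ℤ) ^ 2 - 1) := hm.symm
    rw [this]
    linarith

/-- `ε = -1`. -/
theorem choice_neg (h : Num q (-1) n κ f x) (hpp : IsPrimePow q) (hq5 : 5 ≤ q)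
    (lb₂ : (q : ℤ) ^ 2 - 1 ≤ |f - -1 * q|) (lb₃ : (q : ℤ) ^ 2 - 1 ≤ |x + -1 * q + 2|) :
    (0 < f ∧ f < (q : ℤ) ^ 3 ∧
      ((∃ n' : ℕ, f = (q : ℤ) ^ 2 - 1 + (0 + -1 * q) + n' ∧ (n' : ℤ) < (q : ℤ) ^ 2 - 1) ∨
        (∃ n' : ℕ, -1 - x = (q : ℤ) ^ 2 - 1 + (1 + -1 * q) + n' ∧
          (n' : ℤ) < (q : ℤ) ^ 2 - 1))) ∨
    (∃ n' : ℕ, -1 - x = (q : ℤ) ^ 2 - 1 + (1 + -1 * q) + n' ∧ n' ≤ 2 * q) := by
  have hq : (5 : ℤ) ≤ q := by exact_mod_cast hq5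
  have hp := h.prod
  have key₂ : ∀ B : ℤ, (q : ℤ) ^ 2 - 1 ≤ f + q → f + q - ((q : ℤ) ^ 2 - 1) < B →
      ∃ n' : ℕ, f = (q : ℤ) ^ 2 - 1 + (0 + -1 * q) + n' ∧ (n' : ℤ) < B := by
    intro B h1 h2
    obtain ⟨m, hm⟩ := Int.eq_ofNat_of_zero_le (a := f + q - ((q : ℤ) ^ 2 - 1)) (by linarith)
    refine ⟨m, by linarith, ?_⟩
    have : ((m : ℕ) : ℤ) = f + q - ((q : ℤ) ^ 2 - 1) := hm.symm
    rw [this]
    linarith
  have key₃ : ∀ B : ℤ, (q : ℤ) ^ 2 - 1 ≤ -x + q - 2 → -x + q - 2 - ((q : ℤ) ^ 2 - 1) < B →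
      ∃ n' : ℕ, -1 - x = (q : ℤ) ^ 2 - 1 + (1 + -1 * q) + n' ∧ (n' : ℤ) < B := by
    intro B h1 h2
    obtain ⟨m, hm⟩ := Int.eq_ofNat_of_zero_le (a := -x + q - 2 - ((q : ℤ) ^ 2 - 1)) (by linarith)
    refine ⟨m, by linarith, ?_⟩
    have : ((m : ℕ) : ℤ) = -x + q - 2 - ((q : ℤ) ^ 2 - 1) := hm.symm
    rw [this]
    linarith
  rcases h.neg hpp lb₂ lb₃ with ⟨h1, h2, h3, h4⟩ | ⟨h1, h2, h3⟩ | ⟨h1, h2, h3⟩
  · left
    refine ⟨h1, by nlinarith, Or.inl (key₂ _ h3 (by nlinarith))⟩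
  · by_cases hf : f < (q : ℤ) ^ 3
    · left
      refine ⟨by nlinarith, hf, ?_⟩
      rcases h3 with h4 | h4
      · exact Or.inl (key₂ _ (by nlinarith) (by linarith))
      · exact Or.inr (key₃ _ h2 (by linarith))
    · right
      rw [not_lt] at hf
      obtain ⟨m, hm, hm'⟩ := key₃ (2 * q + 1) h2 (by
        -- `(-x - q²) ≤ q + 1`
        have h5 : -x - (q : ℤ) ^ 2 ≤ q + 1 := by
          by_contra hcon
          rw [not_le] at hcon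
          have h6 : ((q : ℤ) ^ 3 - (q : ℤ) ^ 2) * ((q : ℤ) + 1) <
              (f - (q : ℤ) ^ 2) * (-x - (q : ℤ) ^ 2) :=
            calc ((q : ℤ) ^ 3 - (q : ℤ) ^ 2) * ((q : ℤ) + 1) <
                ((q : ℤ) ^ 3 - (q : ℤ) ^ 2) * (-x - (q : ℤ) ^ 2) :=
                  mul_lt_mul_of_pos_left hcon (by nlinarith [sq_nonneg (q : ℤ)])
              _ ≤ _ := mul_le_mul_of_nonneg_right (by linarith) (by linarith)
          rw [hp] at h6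
          have h8 : ((q : ℤ) ^ 3 - (q : ℤ) ^ 2) * ((q : ℤ) + 1) =
              (q : ℤ) ^ 2 * ((q : ℤ) ^ 2 - 1) := by ring
          linarith
        linarith)
      exact ⟨m, hm, by omega⟩
  · right
    obtain ⟨m, hm, hm'⟩ := key₃ (2 * q + 1) h2 (by linarith)
    exact ⟨m, hm, by omega⟩

end Cfsg.Agent.Classification.QDW.NumChoice
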