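import Mathlib
import Cfsg.Prelude.Def_Blocks
import Cfsg.Agent.Characters.Core
import Cfsg.Agent.Blocks.Local
import Cfsg.Agent.Blocks.Basic
import Cfsg.Agent.Blocks.ConvCentral
import Cfsg.Agent.Blocks.OrbitSum
import Cfsg.Agent.Blocks.ExtendedFMT
import Cfsg.Agent.TwoFusion.DihedralFusion

/-!
# A four-group `V` with `C(V) = V × W`, `W` of odd order: regular characters of `W`

`Reg h ω`: no element of `N(V)` outside `C(V)` fixes `ω ∈ Irr(W)`.
-/

set_option autoImplicit false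
set_option linter.unusedSectionVars false

open Cfsg
open scoped ComplexConjugate

namespace Cfsg.Agent.Classification.QDW.RegBase

open Cfsg.Agent.Characters Cfsg.Agent.Characters.Core Cfsg.Agent.Blocks.Local
open Cfsg.Agent.Blocks.ExtendedFMT (conjL conjL_coe compIrr compIrr_apply)
open Cfsg.Agent.TwoFusion.DihedralFusion

universe w

/-- `C(⟨t,u⟩) = ⟨t,u⟩ × W`, `W` of odd order. -/
structure VW {H : Type w} [Group H] (t u : H) (W : Subgroup H) : Prop where
  t_sq : t * t = 1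
  u_sq : u * u = 1
  comm : t * u = u * t
  t_ne : t ≠ 1
  u_ne : u ≠ 1
  ne : t ≠ u
  odd_W : Odd (Nat.card W)
  W_t : ∀ y ∈ W, y * t = t * y
  W_u : ∀ y ∈ W, y * u = u * y
  cent : ∀ x, x * t = t * x → x * u = u * x →
    ∃ y ∈ W, x = y ∨ x = t * y ∨ x = u * y ∨ x = t * u * y

section

variable {H : Type w} [Group H] {t u : H} {W : Subgroup H}

/-- The four-group. -/
def VW.V (h : VW t u W) : Subgroup H := fourGroup t u h.t_sq h.u_sq h.comm

theorem VW.mem_V (h : VW t u W) {x : H} : x ∈ h.V ↔ x = 1 ∨ x = t ∨ x = u ∨ x = t * u := Iff.rfl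

theorem VW.t_mem (h : VW t u W) : t ∈ h.V := h.mem_V.2 (Or.inr (Or.inl rfl))
theorem VW.u_mem (h : VW t u W) : u ∈ h.V := h.mem_V.2 (Or.inr (Or.inr (Or.inl rfl)))

theorem VW.sq (h : VW t u W) {x : H} (hx : x ∈ h.V) : x * x = 1 :=
  sq_of_mem_fourGroup h.t_sq h.u_sq h.comm hx

theorem VW.klein (h : VW t u W) : IsKleinFour h.V :=
  isKleinFour_fourGroup h.t_sq h.u_sq h.comm h.t_ne h.u_ne h.ne

theorem VW.card_V (h : VW t u W) : Nat.card h.V = 4 := h.klein.card_four

theorem VW.isPGroup (h : VW t u W) : IsPGroup 2 h.V :=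
  IsPGroup.of_card (n := 2) (by rw [h.card_V]; norm_num)

theorem VW.mem_cent (h : VW t u W) {x : H} :
    x ∈ Subgroup.centralizer (h.V : Set H) ↔ x * t = t * x ∧ x * u = u * x := by
  rw [Subgroup.mem_centralizer_iff]
  constructor
  · intro h1
    exact ⟨(h1 t h.t_mem).symm, (h1 u h.u_mem).symm⟩
  · rintro ⟨h1, h2⟩ v hv
    rcases h.mem_V.1 hv with rfl | rfl | rfl | rfl
    · rw [one_mul, mul_one]
    · exact h1.symm
    · exact h2.symm
    · rw [mul_assoc, ← h2, ← mul_assoc, ← h1, mul_assoc]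

theorem VW.W_le (h : VW t u W) : W ≤ Subgroup.centralizer (h.V : Set H) := fun y hy =>
  h.mem_cent.2 ⟨h.W_t y hy, h.W_u y hy⟩

theorem VW.V_le (h : VW t u W) : h.V ≤ Subgroup.centralizer (h.V : Set H) := by
  intro v hv
  rw [h.mem_cent]
  rcases h.mem_V.1 hv with rfl | rfl | rfl | rfl
  · simp
  · exact ⟨rfl, h.comm⟩
  · exact ⟨h.comm.symm, rfl⟩
  · refine ⟨?_, ?_⟩
    · rw [mul_assoc, ← h.comm]
    · rw [h.comm, mul_assoc, ← h.comm]

theorem VW.comm_V (h : VW t u W) {v y : H} (hv : v ∈ h.V) (hy : y ∈ W) : v * y = y * v :=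
  Subgroup.mem_centralizer_iff.1 (h.W_le hy) v hv

/-- Every element of `C(V)` is `v y`, `v ∈ V`, `y ∈ W`. -/
theorem VW.exists_mul (h : VW t u W) {x : H} (hx : x ∈ Subgroup.centralizer (h.V : Set H)) :
    ∃ v ∈ h.V, ∃ y ∈ W, x = v * y := by
  obtain ⟨h1, h2⟩ := h.mem_cent.1 hx
  obtain ⟨y, hy, rfl | rfl | rfl | rfl⟩ := h.cent x h1 h2
  · exact ⟨1, h.V.one_mem, x, hy, (one_mul x).symm⟩
  · exact ⟨t, h.t_mem, y, hy, rfl⟩
  · exact ⟨u, h.u_mem, y, hy, rfl⟩
  · exact ⟨t * u, h.V.mul_mem h.t_mem h.u_mem, y, hy, rfl⟩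

theorem VW.pow_card (h : VW t u W) {y : H} (hy : y ∈ W) : y ^ Nat.card W = 1 := by
  have h1 : (⟨y, hy⟩ : W) ^ Nat.card W = 1 := pow_card_eq_one'
  exact congrArg Subtype.val h1

theorem VW.V_inf_W (h : VW t u W) {x : H} (hx : x ∈ h.V) (hy : x ∈ W) : x = 1 := by
  obtain ⟨k, hk⟩ := h.odd_W
  have h1 := h.pow_card hy
  rw [hk, pow_succ, pow_mul, _root_.sq, h.sq hx, one_pow, one_mul] at h1
  exact h1

/-- An element of `C(V)` of odd order lies in `W`. -/
theorem VW.mem_W (h : VW t u W) {x : H} (hx : x ∈ Subgroup.centralizer (h.V : Set H))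
    (ho : Odd (orderOf x)) : x ∈ W := by
  obtain ⟨v, hv, y, hy, rfl⟩ := h.exists_mul hx
  have hc : Commute v y := h.comm_V hv hy
  have h1 : (v * y) ^ (orderOf (v * y) * Nat.card W) = 1 := by
    rw [pow_mul, pow_orderOf_eq_one, one_pow]
  rw [hc.mul_pow, mul_comm (orderOf (v * y)) (Nat.card W), pow_mul y, h.pow_card hy, one_pow,
    mul_one] at h1
  obtain ⟨k, hk⟩ := h.odd_W.mul ho
  rw [hk, pow_succ, pow_mul, _root_.sq, h.sq hv, one_pow, one_mul] at h1
  rw [h1, one_mul]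
  exact hy

theorem VW.odd_of_mem (h : VW t u W) {y : H} (hy : y ∈ W) : Odd (orderOf y) :=
  Odd.of_dvd_nat h.odd_W (orderOf_dvd_of_pow_eq_one (h.pow_card hy))

theorem VW.mem_cent_conj (h : VW t u W) {n x : H} (hn : n ∈ Subgroup.normalizer (h.V : Set H))
    (hx : x ∈ Subgroup.centralizer (h.V : Set H)) :
    n * x * n⁻¹ ∈ Subgroup.centralizer (h.V : Set H) := by
  rw [Subgroup.mem_centralizer_iff] at hx ⊢
  intro v hv
  have h1 : n⁻¹ * v * n ∈ h.V := by
    have := (Subgroup.mem_normalizer_iff.1 (Subgroup.inv_mem _ hn) v).1 hv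
    rwa [inv_inv] at this
  have h2 := hx _ h1
  calc v * (n * x * n⁻¹) = n * (n⁻¹ * v * n * x) * n⁻¹ := by group
    _ = n * (x * (n⁻¹ * v * n)) * n⁻¹ := by rw [h2]
    _ = n * x * n⁻¹ * v := by group

/-- `N(V)` normalizes `W`. -/
theorem VW.conj_mem (h : VW t u W) {n y : H} (hn : n ∈ Subgroup.normalizer (h.V : Set H))
    (hy : y ∈ W) : n * y * n⁻¹ ∈ W := by
  refine h.mem_W (h.mem_cent_conj hn (h.W_le hy)) ?_
  have : orderOf (n * y * n⁻¹) = orderOf y :=
    orderOf_injective (MulAut.conj n).toMonoidHom (MulAut.conj n).injective y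
  rw [this]
  exact h.odd_of_mem hy

theorem VW.conj_mem' (h : VW t u W) {n y : H} (hn : n ∈ Subgroup.normalizer (h.V : Set H))
    (hy : y ∈ W) : n⁻¹ * y * n ∈ W := by
  have := h.conj_mem (Subgroup.inv_mem _ hn) hy
  rwa [inv_inv] at this

/-- Conjugation of `W` by `n ∈ N(V)`. -/
def VW.conj (h : VW t u W) (n : Subgroup.normalizer (h.V : Set H)) : W ≃* W :=
  conjL W n (fun _ hx => h.conj_mem n.2 hx) (fun _ hx => h.conj_mem' n.2 hx)

theorem VW.conj_coe (h : VW t u W) (n : Subgroup.normalizer (h.V : Set H)) (y : W) :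
    ((h.conj n y : W) : H) = n * y * (n : H)⁻¹ := rfl

theorem VW.conj_mul (h : VW t u W) (m n : Subgroup.normalizer (h.V : Set H)) (y : W) :
    h.conj (m * n) y = h.conj m (h.conj n y) := by
  apply Subtype.ext
  rw [h.conj_coe, h.conj_coe, h.conj_coe]
  push_cast
  group

/-- `ω` is regular: fixed by no element of `N(V)` outside `C(V)`. -/
def VW.Reg (h : VW t u W) (ω : IrrCharacter W) : Prop :=
  ∀ n : Subgroup.normalizer (h.V : Set H), (n : H) ∉ Subgroup.centralizer (h.V : Set H) →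
    compIrr (h.conj n) ω ≠ ω

/-- `C(V)` as a subgroup of `N(V)`. -/
def VW.L (h : VW t u W) : Subgroup (Subgroup.normalizer (h.V : Set H)) :=
  (Subgroup.centralizer (h.V : Set H)).subgroupOf (Subgroup.normalizer (h.V : Set H))

theorem VW.mem_L (h : VW t u W) {n : Subgroup.normalizer (h.V : Set H)} :
    n ∈ h.L ↔ (n : H) ∈ Subgroup.centralizer (h.V : Set H) := Iff.rfl

theorem VW.cent_le (h : VW t u W) :
    Subgroup.centralizer (h.V : Set H) ≤ Subgroup.normalizer (h.V : Set H) :=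
  Subgroup.centralizer_le_normalizer _

theorem VW.L_normal (h : VW t u W) : h.L.Normal :=
  ⟨fun n hn g => h.mem_cent_conj g.2 hn⟩

/-- Elements of `C(V)` do not change class functions of `W`. -/
theorem VW.compIrr_L (h : VW t u W) {n : Subgroup.normalizer (h.V : Set H)} (hn : n ∈ h.L)
    (ω : IrrCharacter W) : compIrr (h.conj n) ω = ω := by
  apply Subtype.ext
  funext y
  rw [compIrr_apply]
  obtain ⟨v, hv, x, hx, hnx'⟩ := h.exists_mul hn
  have hnx : (n : H) = v * x := hnx'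
  have h1 : h.conj n y = ⟨x, hx⟩ * y * (⟨x, hx⟩ : W)⁻¹ := by
    apply Subtype.ext
    rw [h.conj_coe, hnx]
    push_cast
    have h2 : x * y * x⁻¹ ∈ W := W.mul_mem (W.mul_mem hx y.2) (W.inv_mem hx)
    have h3 := h.comm_V hv h2
    calc v * x * y * (v * x)⁻¹ = v * (x * y * x⁻¹) * v⁻¹ := by group
      _ = x * y * x⁻¹ * v * v⁻¹ := by rw [h3]
      _ = x * y * x⁻¹ := by group
  rw [h1]
  exact Cfsg.Agent.Blocks.Basic.irr_conj ω.2 y ⟨x, hx⟩

theorem VW.card_L [Finite H] (h : VW t u W) : Nat.card h.L = 4 * Nat.card W := by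
  have h1 : Nat.card h.L = Nat.card (Subgroup.centralizer (h.V : Set H)) :=
    Nat.card_congr (Subgroup.subgroupOfEquivOfLe h.cent_le).toEquiv
  rw [h1, ← h.card_V, ← Nat.card_prod]
  symm
  refine Nat.card_congr (Equiv.ofBijective
    (fun p : h.V × W => (⟨(p.1 : H) * p.2, Subgroup.mul_mem _ (h.V_le p.1.2) (h.W_le p.2.2)⟩ :
      Subgroup.centralizer (h.V : Set H))) ⟨?_, ?_⟩)
  · rintro ⟨⟨v, hv⟩, ⟨y, hy⟩⟩ ⟨⟨v', hv'⟩, ⟨y', hy'⟩⟩ h2
    have h3 : v * y = v' * y' := congrArg Subtype.val h2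
    have h4 : v'⁻¹ * v = y' * y⁻¹ := by
      rw [inv_mul_eq_iff_eq_mul, ← mul_assoc, ← h3]; group
    have h5 : v'⁻¹ * v = 1 := h.V_inf_W (h.V.mul_mem (h.V.inv_mem hv') hv)
      (by rw [h4]; exact W.mul_mem hy' (W.inv_mem hy))
    have h6 : v = v' := by rw [inv_mul_eq_one] at h5; exact h5.symm
    subst h6
    have h7 : y = y' := mul_left_cancel h3
    subst h7
    rfl
  · rintro ⟨x, hx⟩
    obtain ⟨v, hv, y, hy, rfl⟩ := h.exists_mul hx
    exact ⟨⟨⟨v, hv⟩, ⟨y, hy⟩⟩, rfl⟩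

end

/-- A group is the product of a transversal and the subgroup. -/
noncomputable def quotProd {N : Type*} [Group N] (K : Subgroup N) : (N ⧸ K) × K ≃ N :=
  Equiv.ofBijective (fun p => p.1.out * p.2) ⟨by
    rintro ⟨q, k⟩ ⟨q', k'⟩ h
    have h1 : q.out * (k : N) = q'.out * k' := h
    have h2 : ((q.out * (k : N) : N) : N ⧸ K) = q := by
      rw [QuotientGroup.mk_mul_of_mem _ k.2, QuotientGroup.out_eq']
    have h3 : ((q'.out * (k' : N) : N) : N ⧸ K) = q' := by
      rw [QuotientGroup.mk_mul_of_mem _ k'.2, QuotientGroup.out_eq']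
    have h4 : q = q' := by rw [← h2, ← h3, h1]
    subst h4
    have h5 : k = k' := Subtype.ext (mul_left_cancel h1)
    rw [h5], by
    intro n
    have h1 : ((n : N ⧸ K).out)⁻¹ * n ∈ K := by
      rw [← QuotientGroup.eq, QuotientGroup.out_eq']
    exact ⟨((n : N ⧸ K), ⟨_, h1⟩), by simp⟩⟩

theorem quotProd_apply {N : Type*} [Group N] (K : Subgroup N) (q : N ⧸ K) (k : K) :
    quotProd K (q, k) = q.out * k := rfl

/-- Sums over a group of a function constant on the left cosets of a subgroup. -/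
theorem sum_eq_card_mul {N : Type*} [Group N] [Fintype N] (K : Subgroup N) [Fintype (N ⧸ K)]
    (f : N → ℂ) (hf : ∀ n, ∀ k ∈ K, f (n * k) = f n) :
    ∑ n, f n = (Nat.card K : ℂ) * ∑ q : N ⧸ K, f q.out := by
  classical
  have : Fintype K := Fintype.ofFinite K
  rw [← Equiv.sum_comp (quotProd K), Fintype.sum_prod_type, Finset.mul_sum]
  refine Finset.sum_congr rfl fun q _ => ?_
  have h1 : ∀ k : K, f (quotProd K (q, k)) = f q.out := by
    intro k
    rw [quotProd_apply]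
    exact hf _ _ k.2
  rw [Finset.sum_congr rfl fun k _ => h1 k, Finset.sum_const, nsmul_eq_mul, Finset.card_univ,
    Nat.card_eq_fintype_card]

end Cfsg.Agent.Classification.QDW.RegBase
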