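import Mathlib
import Cfsg.Agent.Classification.QDW.RegBase
import Cfsg.Agent.Blocks.SylowIn
import Cfsg.Agent.Characters.AverageRoots
import Cfsg.Agent.S0916

/-!
# The `2`-part of the degrees of the characters over a regular `ω ∈ Irr(W)`

`RegDeg.dvd_four_mul`: if `⟨X|_W, ω⟩` is odd then `|H|₂` divides `4 X(1)`.
-/

set_option autoImplicit false
set_option linter.unusedSectionVars false

open Cfsg
open scoped ComplexConjugate

namespace Cfsg.Agent.Classification.QDW.RegDeg

open Cfsg.Agent.Characters Cfsg.Agent.Characters.Core Cfsg.Agent.Blocks.Local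
open Cfsg.Agent.Blocks.ExtendedFMT (conjL conjL_coe compIrr compIrr_apply)
open Cfsg.Agent.Blocks.ConvCentral
open Cfsg.Agent.Blocks.SylowIn
open RegBase

universe w

variable {H : Type w} [Group H] {t u : H} {W : Subgroup H}

/-- Values of characters at `n y n⁻¹` depend only on the coset `n C(V)`. -/
theorem conj_mul_L (h : VW t u W) (ω : IrrCharacter W) (y : W)
    (n l : Subgroup.normalizer (h.V : Set H)) (hl : l ∈ h.L) :
    (ω : W → ℂ) (h.conj (n * l) y) = (ω : W → ℂ) (h.conj n y) := by
  rw [h.conj_mul]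
  have h1 := congrArg (fun α : IrrCharacter W => (α : W → ℂ) y)
    (h.compIrr_L hl (compIrr (h.conj n) ω))
  exact h1

/-- `Σ_{n ∈ N(V)/C(V)} ω(n y n⁻¹)`. -/
noncomputable def fsum [Finite H] (h : VW t u W) (ω : IrrCharacter W) (y : W) : ℂ :=
  haveI := Fintype.ofFinite (Subgroup.normalizer (h.V : Set H) ⧸ h.L)
  ∑ q : Subgroup.normalizer (h.V : Set H) ⧸ h.L, (ω : W → ℂ) (h.conj q.out y)

theorem fsum_def [Finite H] (h : VW t u W)
    [I : Fintype (Subgroup.normalizer (h.V : Set H) ⧸ h.L)] (ω : IrrCharacter W) (y : W) :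
    fsum h ω y =
      ∑ q : Subgroup.normalizer (h.V : Set H) ⧸ h.L, (ω : W → ℂ) (h.conj q.out y) := by
  unfold fsum
  congr 1
  exact congrArg (fun J => @Finset.univ _ J) (Subsingleton.elim _ _)

theorem sum_N [Finite H] (h : VW t u W) [Fintype (Subgroup.normalizer (h.V : Set H))]
    (ω : IrrCharacter W) (y : W) :
    ∑ n : Subgroup.normalizer (h.V : Set H), (ω : W → ℂ) (h.conj n y) =
      (4 * Nat.card W : ℂ) * fsum h ω y := by
  have := Fintype.ofFinite (Subgroup.normalizer (h.V : Set H) ⧸ h.L)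
  rw [sum_eq_card_mul h.L (fun n => (ω : W → ℂ) (h.conj n y))
    (fun n l hl => conj_mul_L h ω y n l hl), h.card_L, fsum_def]
  push_cast
  rfl

/-- Fourier coefficient of `fsum`. -/
theorem sum_fsum [Finite H] (h : VW t u W) [Fintype W] {ω : IrrCharacter W} (hω : h.Reg ω) :
    ∑ y : W, fsum h ω y * conj ((ω : W → ℂ) y) = (Nat.card W : ℂ) := by
  classical
  have := Fintype.ofFinite (Subgroup.normalizer (h.V : Set H) ⧸ h.L)
  have hL := h.L_normal
  simp_rw [fsum_def, Finset.sum_mul]
  rw [Finset.sum_comm]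
  have h1 : ∀ q : Subgroup.normalizer (h.V : Set H) ⧸ h.L,
      ∑ y : W, (ω : W → ℂ) (h.conj q.out y) * conj ((ω : W → ℂ) y) =
        if q = 1 then (Nat.card W : ℂ) else 0 := by
    intro q
    have h2 : ∑ y : W, (ω : W → ℂ) (h.conj q.out y) * conj ((ω : W → ℂ) y) =
        (Nat.card W : ℂ) * classInner (compIrr (h.conj q.out) ω : W → ℂ) (ω : W → ℂ) := by
      rw [classInner_def, ← mul_assoc, mul_inv_cancel₀ (card_ne_zero_complex (G := W)), one_mul]
      rfl
    rw [h2, classInner_irr (compIrr (h.conj q.out) ω).2 ω.2]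
    by_cases hq : q = 1
    · rw [if_pos hq]
      have h3 : q.out ∈ h.L := by
        rw [← QuotientGroup.eq_one_iff, QuotientGroup.out_eq']
        exact hq
      rw [h.compIrr_L h3, if_pos rfl, mul_one]
    · rw [if_neg hq]
      have h3 : q.out ∉ h.L := by
        rw [← QuotientGroup.eq_one_iff, QuotientGroup.out_eq']
        exact hq
      rw [if_neg, mul_zero]
      intro h4
      exact hω q.out h3 (Subtype.ext h4)
  rw [Finset.sum_congr rfl fun q _ => h1 q, Finset.sum_ite_eq' Finset.univ 1]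
  simp

theorem isIntegral_irr {K : Type*} [Group K] [Finite K] {χ : K → ℂ}
    (hχ : IsIrrCharacter K χ) (y : K) : IsIntegral ℤ (χ y) := by
  obtain ⟨n, ρ, -, rfl⟩ := hχ
  exact Cfsg.Agent.Characters.AverageRoots.isIntegral_character ρ y

theorem isIntegral_conj {z : ℂ} (h : IsIntegral ℤ z) : IsIntegral ℤ (conj z) :=
  h.map (Complex.conjAe.restrictScalars ℤ)

variable {M : Ideal AlgInt}

theorem memLocalRing_irr {K : Type*} [Group K] [Finite K] [M.IsPrime]
    {χ : K → ℂ} (hχ : IsIrrCharacter K χ) (y : K) : MemLocalRing M (χ y) :=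
  memLocalRing_of_isIntegral (isIntegral_irr hχ y)

theorem memLocalRing_irr_conj {K : Type*} [Group K] [Finite K] [M.IsPrime]
    {χ : K → ℂ} (hχ : IsIrrCharacter K χ) (y : K) : MemLocalRing M (conj (χ y)) :=
  memLocalRing_of_isIntegral (isIntegral_conj (isIntegral_irr hχ y))

/-- Some `y ∈ W` has `fsum ω y ∉ M`. -/
theorem exists_fsum [Finite H] (h : VW t u W) (hM : IsPModular 2 M) {ω : IrrCharacter W}
    (hω : h.Reg ω) : ∃ y : W, ¬ MemLocalIdeal M (fsum h ω y) := by
  classical
  have := isPrime_of_isPModular hM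
  have := Fintype.ofFinite W
  have h1 : ¬ MemLocalIdeal M (∑ y : W, fsum h ω y * conj ((ω : W → ℂ) y)) := by
    rw [sum_fsum h hω, memLocalIdeal_natCast_iff hM]
    exact h.odd_W.not_two_dvd_nat
  obtain ⟨y, -, hy⟩ := exists_not_memLocalIdeal_of_sum h1
  exact ⟨y, fun h2 => hy (memLocalIdeal_mul_right h2 (memLocalRing_irr_conj ω.2 y))⟩

/-- A `2`-element of `C(V)` lies in `V`. -/
theorem mem_V_of_pow (h : VW t u W) {x : H} (hx : x ∈ Subgroup.centralizer (h.V : Set H))
    {k : ℕ} (hk : x ^ 2 ^ k = 1) : x ∈ h.V := by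
  obtain ⟨v, hv, y, hy, rfl⟩ := h.exists_mul hx
  have hc : Commute v y := h.comm_V hv hy
  have h1 : (v * y) ^ (2 ^ (k + 1)) = 1 := by rw [pow_succ, pow_mul, hk, one_pow]
  have h2 : v ^ 2 ^ (k + 1) = 1 := by
    rw [pow_succ, mul_comm, pow_mul, _root_.sq, h.sq hv, one_pow]
  rw [hc.mul_pow, h2, one_mul] at h1
  have h3 : orderOf y ∣ 2 ^ (k + 1) := orderOf_dvd_of_pow_eq_one h1
  have h4 : orderOf y = 1 := by
    have h5 : Nat.Coprime (orderOf y) (2 ^ (k + 1)) :=
      (Nat.coprime_two_right.2 (h.odd_of_mem hy)).pow_right _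
    exact Nat.Coprime.eq_one_of_dvd h5 h3
  rw [orderOf_eq_one_iff] at h4
  rw [h4, mul_one]
  exact hv

/-- If an element of `N(V)` outside `C(V)`, of `2`-power order, centralizes `y`, then
`fsum ω y ∈ 2 O`. -/
theorem fsum_mem_of_comm [Finite H] (h : VW t u W) (hM : IsPModular 2 M) (ω : IrrCharacter W)
    (y : W) (n₀ : Subgroup.normalizer (h.V : Set H)) (hn₀ : n₀ ∉ h.L) {k : ℕ}
    (hk : n₀ ^ 2 ^ k = 1) (hy : (n₀ : H) * y * (n₀ : H)⁻¹ = y) :
    MemLocalIdeal M (fsum h ω y) := by
  classical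
  have := isPrime_of_isPModular hM
  have hLn := h.L_normal
  have := Fintype.ofFinite (Subgroup.normalizer (h.V : Set H) ⧸ h.L)
  let N := Subgroup.normalizer (h.V : Set H)
  have hy' : h.conj n₀ y = y := Subtype.ext hy
  let g : N ⧸ h.L → ℂ := fun q => (ω : W → ℂ) (h.conj q.out y)
  have hg : ∀ n : N, g (n : N ⧸ h.L) = (ω : W → ℂ) (h.conj n y) := by
    intro n
    obtain ⟨⟨l, hl⟩, hl'⟩ := QuotientGroup.mk_out_eq_mul h.L n
    change (ω : W → ℂ) (h.conj (n : N ⧸ h.L).out y) = _
    rw [hl']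
    exact conj_mul_L h ω y n l hl
  let c : N ⧸ h.L := (n₀ : N ⧸ h.L)
  have hc1 : c ≠ 1 := fun h1 => hn₀ ((QuotientGroup.eq_one_iff n₀).1 h1)
  have hck : c ^ 2 ^ k = 1 := by
    change ((n₀ : N ⧸ h.L)) ^ 2 ^ k = 1
    rw [← QuotientGroup.mk_pow, hk, QuotientGroup.mk_one]
  have hgc : ∀ q : N ⧸ h.L, g (q * c) = g q := by
    intro q
    induction q using QuotientGroup.induction_on with
    | H n =>
      have h1 : ((n : N ⧸ h.L)) * c = ((n * n₀ : N) : N ⧸ h.L) := rfl
      rw [h1, hg, hg, h.conj_mul, hy']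
  have hgz : ∀ q : N ⧸ h.L, ∀ k ∈ Subgroup.zpowers c, g (q * k) = g q := by
    intro q k hk
    obtain ⟨m, rfl⟩ := hk
    have h2 : ∀ (j : ℕ) (q : N ⧸ h.L), g (q * c ^ j) = g q := by
      intro j
      induction j with
      | zero => intro q; rw [pow_zero, mul_one]
      | succ j ih => intro q; rw [pow_succ, ← mul_assoc, hgc, ih]
    obtain ⟨j, rfl | rfl⟩ := m.eq_nat_or_neg
    · simpa using h2 j q
    · have := h2 j (q * c ^ (-(j : ℤ)))
      rw [← this, mul_assoc, ← zpow_natCast, ← zpow_add]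
      simp
  have := Fintype.ofFinite ((N ⧸ h.L) ⧸ Subgroup.zpowers c)
  have h3 : fsum h ω y = (Nat.card (Subgroup.zpowers c) : ℂ) *
      ∑ q : (N ⧸ h.L) ⧸ Subgroup.zpowers c, g q.out := by
    rw [fsum_def]
    exact sum_eq_card_mul (Subgroup.zpowers c) g hgz
  rw [h3]
  refine memLocalIdeal_mul_right ?_ ?_
  · rw [memLocalIdeal_natCast_iff hM, Nat.card_zpowers]
    obtain ⟨j, -, hj⟩ := (Nat.dvd_prime_pow Nat.prime_two).1 (orderOf_dvd_of_pow_eq_one hck)
    rw [hj]
    rcases Nat.eq_zero_or_pos j with rfl | h0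
    · rw [pow_zero, orderOf_eq_one_iff] at hj
      exact absurd hj hc1
    · exact dvd_pow_self 2 h0.ne'
  · exact memLocalRing_sum fun q _ => memLocalRing_irr ω.2 _

/-- If `fsum ω y ∉ M` then `V` is a Sylow `2`-subgroup of `C(y)`. -/
theorem sylow_of_fsum [Finite H] (h : VW t u W) (hM : IsPModular 2 M) (ω : IrrCharacter W)
    (y : W) (hy : ¬ MemLocalIdeal M (fsum h ω y)) :
    ∃ S : Sylow 2 (Subgroup.centralizer ({(y : H)} : Set H)),
      (S : Subgroup (Subgroup.centralizer ({(y : H)} : Set H))).map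
        (Subgroup.centralizer ({(y : H)} : Set H)).subtype = h.V := by
  rw [exists_sylow_map_eq_iff]
  refine ⟨?_, h.isPGroup, ?_⟩
  · intro v hv
    rw [Subgroup.mem_centralizer_singleton_iff]
    exact h.comm_V hv y.2
  · intro Q hQ hQp hVQ
    have : Fact (Nat.Prime 2) := ⟨Nat.prime_two⟩
    refine eq_of_normalizer_inf_le hQp hVQ ?_
    rintro x ⟨hx1, hx2⟩
    by_contra hx
    obtain ⟨k, hk⟩ := hQp ⟨x, hx2⟩
    have hk' : x ^ 2 ^ k = 1 := congrArg Subtype.val hk
    apply hy
    refine fsum_mem_of_comm h hM ω y ⟨x, hx1⟩ ?_ (Subtype.ext hk') ?_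
    · intro h1
      exact hx (mem_V_of_pow h h1 hk')
    · have h2 := hQ hx2
      rw [Subgroup.mem_centralizer_singleton_iff] at h2
      change x * y * x⁻¹ = y
      rw [h2, mul_inv_cancel_right]

/-- `|W| fsum ω y` is an integral multiple of the sum of `ω` over `y^H ∩ W`. -/
theorem exists_card_mul_fsum [Finite H] (h : VW t u W) [Fintype W] (ω : IrrCharacter W)
    (y : W) (hS : ∃ S : Sylow 2 (Subgroup.centralizer ({(y : H)} : Set H)),
      (S : Subgroup (Subgroup.centralizer ({(y : H)} : Set H))).map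
        (Subgroup.centralizer ({(y : H)} : Set H)).subtype = h.V)
    [DecidablePred fun x : W => IsConj (y : H) (x : H)] :
    ∃ c : ℕ, (Nat.card W : ℂ) * fsum h ω y =
      (c : ℂ) * ∑ x : W, if IsConj (y : H) (x : H) then (ω : W → ℂ) x else 0 := by
  classical
  have hF2 : Fact (Nat.Prime 2) := ⟨Nat.prime_two⟩
  have hn := (Cfsg.Agent.S0916.result 2 h.V h.isPGroup).1 (y : H) hS
  have := Fintype.ofFinite (Subgroup.normalizer (h.V : Set H))
  let S : Subgroup (Subgroup.normalizer (h.V : Set H)) :=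
    (Subgroup.centralizer ({(y : H)} : Set H)).subgroupOf (Subgroup.normalizer (h.V : Set H))
  have hmemS : ∀ n : Subgroup.normalizer (h.V : Set H), n ∈ S ↔ h.conj n y = y := by
    intro n
    rw [Subgroup.mem_subgroupOf, Subgroup.mem_centralizer_singleton_iff, Subtype.ext_iff,
      h.conj_coe, mul_inv_eq_iff_eq_mul]
  have h4 : 4 ∣ Nat.card S := by
    have h5 : (h.V.subgroupOf (Subgroup.normalizer (h.V : Set H))) ≤ S := by
      intro v hv
      rw [Subgroup.mem_subgroupOf] at hv ⊢
      rw [Subgroup.mem_centralizer_singleton_iff]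
      exact h.comm_V hv y.2
    have h6 := Subgroup.card_dvd_of_le h5
    rwa [Nat.card_congr (Subgroup.subgroupOfEquivOfLe Subgroup.le_normalizer).toEquiv,
      h.card_V] at h6
  obtain ⟨c, hc⟩ := h4
  refine ⟨c, ?_⟩
  have h1 := sum_N h ω y
  have h2 : ∑ n : Subgroup.normalizer (h.V : Set H), (ω : W → ℂ) (h.conj n y) =
      (Nat.card S : ℂ) * ∑ x : W, if IsConj (y : H) (x : H) then (ω : W → ℂ) x else 0 := by
    have h3 : ∀ n : Subgroup.normalizer (h.V : Set H), (ω : W → ℂ) (h.conj n y) =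
        ∑ x : W, if h.conj n y = x then (ω : W → ℂ) x else 0 := by
      intro n
      rw [Finset.sum_ite_eq Finset.univ (h.conj n y)]
      simp
    rw [Finset.sum_congr rfl fun n _ => h3 n, Finset.sum_comm, Finset.mul_sum]
    refine Finset.sum_congr rfl fun x _ => ?_
    rw [← Finset.sum_filter, Finset.sum_const, nsmul_eq_mul]
    by_cases hx : IsConj (y : H) (x : H)
    · rw [if_pos hx]
      congr 1
      obtain ⟨n₀, hn₀, hn₀'⟩ := hn.2 (y : H) (x : H) (IsConj.refl _) hx (h.W_le y.2) (h.W_le x.2)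
      have h7 : h.conj ⟨n₀, hn₀⟩ y = x := Subtype.ext hn₀'
      rw [← Fintype.card_subtype, ← Nat.card_eq_fintype_card]
      congr 1
      refine Nat.card_congr
        { toFun := fun n => ⟨(⟨n₀, hn₀⟩ : Subgroup.normalizer (h.V : Set H))⁻¹ * n, ?_⟩
          invFun := fun n => ⟨⟨n₀, hn₀⟩ * n, ?_⟩
          left_inv := fun n => ?_
          right_inv := fun n => ?_ }
      · rw [hmemS, h.conj_mul, n.2, ← h7, ← h.conj_mul, inv_mul_cancel]
        exact Subtype.ext (by rw [h.conj_coe]; simp)
      · rw [h.conj_mul, (hmemS n).1 n.2, h7]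
      · exact Subtype.ext (by simp)
      · exact Subtype.ext (by simp)
    · rw [if_neg hx, mul_zero]
      have h8 : (Finset.univ.filter fun n : Subgroup.normalizer (h.V : Set H) =>
          h.conj n y = x) = ∅ := by
        rw [Finset.filter_eq_empty_iff]
        intro n _ hn'
        apply hx
        rw [isConj_iff]
        exact ⟨n, congrArg Subtype.val hn'⟩
      rw [h8]
      simp
  rw [h1, hc] at h2
  push_cast at h2
  have h9 : (4 : ℂ) ≠ 0 := by norm_num
  apply mul_left_cancel₀ h9
  rw [← mul_assoc, h2]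
  ring

/-- The class sum of `y` acts as a scalar. -/
theorem sum_class_mul [Fintype H] {X : H → ℂ} (hX : IsIrrCharacter H X) (y y' : H)
    [DecidablePred fun x : H => IsConj y x] :
    ∑ x : H, (if IsConj y x then X (x * y') else 0) = centralChar X y * X y' := by
  classical
  have h1 := lin_conv hX (isClassFunction_classInd y) (f' := Pi.single y' 1)
  have h2 : lin X (Pi.single y' 1) = X y' := by
    rw [lin_def, Finset.sum_eq_single y']
    · rw [Pi.single_eq_same, one_mul]
    · intro b _ hb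
      rw [Pi.single_eq_of_ne hb, zero_mul]
    · intro h3
      exact absurd (Finset.mem_univ _) h3
  have h3 : ∀ g : H, conv (fun x => (classInd y x : ℂ)) (Pi.single y' 1) g =
      (classInd y (g * y'⁻¹) : ℂ) := by
    intro g
    rw [conv_apply, Finset.sum_eq_single (g * y'⁻¹)]
    · rw [mul_inv_rev, inv_inv, mul_assoc, inv_mul_cancel, mul_one, Pi.single_eq_same, mul_one]
    · intro b _ hb
      rw [Pi.single_eq_of_ne, mul_zero]
      intro h4
      apply hb
      rw [← h4]
      group
    · intro h4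
      exact absurd (Finset.mem_univ _) h4
  have h4 : lin X (conv (fun x => (classInd y x : ℂ)) (Pi.single y' 1)) =
      ∑ x : H, (if IsConj y x then X (x * y') else 0) := by
    rw [lin_def, ← Equiv.sum_comp (Equiv.mulRight y')]
    refine Finset.sum_congr rfl fun x _ => ?_
    rw [Equiv.coe_mulRight, h3, mul_inv_cancel_right]
    by_cases hx : IsConj y x
    · rw [if_pos hx, classInd_of_isConj hx]
      push_cast
      ring
    · rw [if_neg hx, classInd_of_not hx]
      push_cast
      ring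
  rw [h4, h2] at h1
  have h5 : X 1 ≠ 0 := isIrr_apply_one_ne_zero hX
  rw [← lin_classInd (isIrr_isClassFunction hX) y]
  field_simp
  exact h1

/-- ... and modulo `2` only the elements of `W` count. -/
theorem sum_class_mod [Fintype H] (h : VW t u W) [Fintype W] (hM : IsPModular 2 M) {X : H → ℂ}
    (hX : IsIrrCharacter H X) (y y' : W) [DecidablePred fun x : W => IsConj (y : H) (x : H)] :
    MemLocalIdeal M (centralChar X (y : H) * X (y' : H) -
      ∑ x : W, if IsConj (y : H) (x : H) then X ((x : H) * y') else 0) := by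
  classical
  have := isPrime_of_isPModular hM
  have hF2 : Fact (Nat.Prime 2) := ⟨Nat.prime_two⟩
  rw [← sum_class_mul hX]
  have hcl := isIrr_isClassFunction hX
  let f : H → AlgInt := fun x =>
    if IsConj (y : H) x then ⟨X (x * y'), isIntegral_irr hX _⟩ else 0
  have hf : ∀ x, ((f x : AlgInt) : ℂ) = if IsConj (y : H) x then X (x * y') else 0 := by
    intro x
    by_cases hx : IsConj (y : H) x
    · simp only [f, if_pos hx]
    · simp only [f, if_neg hx]
      rfl
  obtain ⟨a, ha⟩ := Cfsg.Agent.Blocks.OrbitSum.sum_eq_sum_centralizer_add_smul h.V h.isPGroup f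
    (by
      intro v hv x
      apply Subtype.ext
      rw [hf, hf]
      have h1 : v * x * v⁻¹ * y' = v * (x * y') * v⁻¹ := by
        have h2 := h.comm_V (h.V.inv_mem hv) y'.2
        calc v * x * v⁻¹ * y' = v * x * (v⁻¹ * y') := by group
          _ = v * x * (y' * v⁻¹) := by rw [h2]
          _ = v * (x * y') * v⁻¹ := by group
      rw [h1, hcl]
      by_cases hx : IsConj (y : H) x
      · rw [if_pos hx, if_pos (isConj_conj_iff.2 hx)]
      · rw [if_neg hx, if_neg fun h3 => hx (isConj_conj_iff.1 h3)])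
  have h1 : (∑ x : H, if IsConj (y : H) x then X (x * y') else 0) = ((∑ x : H, f x : AlgInt) : ℂ) := by
    push_cast
    exact Finset.sum_congr rfl fun x _ => (hf x).symm
  have h2 : (∑ x : W, if IsConj (y : H) (x : H) then X ((x : H) * y') else 0) =
      ((∑ x ∈ Finset.univ.filter (· ∈ Subgroup.centralizer (h.V : Set H)), f x : AlgInt) : ℂ) := by
    push_cast
    rw [Finset.sum_congr rfl fun x _ => hf x, ← Finset.sum_filter, ← Finset.sum_filter,
      Finset.filter_filter]
    refine Finset.sum_nbij (fun x : W => (x : H)) ?_ ?_ ?_ ?_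
    · intro x hx
      rw [Finset.mem_filter] at hx ⊢
      exact ⟨Finset.mem_univ _, h.W_le x.2, hx.2⟩
    · intro a _ b _ hab
      exact Subtype.ext hab
    · intro x hx
      rw [Finset.mem_coe, Finset.mem_filter] at hx
      have h3 : x ∈ W := by
        refine h.mem_W hx.2.1 ?_
        obtain ⟨c, hc⟩ := isConj_iff.1 hx.2.2
        have h4 : orderOf x = orderOf (y : H) := by
          rw [← hc]
          exact orderOf_injective (MulAut.conj c).toMonoidHom (MulAut.conj c).injective _
        rw [h4]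
        exact h.odd_of_mem y.2
      exact ⟨⟨x, h3⟩, Finset.mem_coe.2 (Finset.mem_filter.2 ⟨Finset.mem_univ _, hx.2.2⟩), rfl⟩
    · intro x _
      rfl
  rw [h1, h2, ha]
  have h3 : (((∑ x ∈ Finset.univ.filter (· ∈ Subgroup.centralizer (h.V : Set H)), f x) + 2 • a :
      AlgInt) : ℂ) - ((∑ x ∈ Finset.univ.filter (· ∈ Subgroup.centralizer (h.V : Set H)), f x :
      AlgInt) : ℂ) = ((2 : ℕ) : ℂ) * (a : ℂ) := by
    push_cast
    ring
  rw [h3]
  exact memLocalIdeal_mul_right ((memLocalIdeal_natCast_iff hM 2).2 dvd_rfl) (memLocalRing_algInt a)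

/-- Convolution of a class function with an irreducible character. -/
theorem sum_mul_conj {K : Type*} [Group K] [Fintype K] {X ω : K → ℂ}
    (hX : IsClassFunction K X) (hω : IsIrrCharacter K ω) (c : K) :
    (∑ y : K, X (c * y) * conj (ω y)) * ω 1 = (∑ y : K, X y * conj (ω y)) * ω c := by
  classical
  have hcl : IsClassFunction K fun y => X y⁻¹ := by
    intro y g
    have h1 : (g * y * g⁻¹)⁻¹ = g * y⁻¹ * g⁻¹ := by group
    change X (g * y * g⁻¹)⁻¹ = X y⁻¹
    rw [h1, hX]
  have h1 := lin_conv hω hcl (f' := Pi.single c 1)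
  have h2 : lin ω (Pi.single c 1) = ω c := by
    rw [lin_def, Finset.sum_eq_single c]
    · rw [Pi.single_eq_same, one_mul]
    · intro b _ hb
      rw [Pi.single_eq_of_ne hb, zero_mul]
    · intro h3
      exact absurd (Finset.mem_univ _) h3
  have h3 : ∀ g : K, conv (fun y => X y⁻¹) (Pi.single c 1) g = X (c * g⁻¹) := by
    intro g
    rw [conv_apply, Finset.sum_eq_single (g * c⁻¹)]
    · rw [mul_inv_rev, inv_inv, mul_assoc, inv_mul_cancel, mul_one, Pi.single_eq_same, mul_one]
    · intro b _ hb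
      rw [Pi.single_eq_of_ne, mul_zero]
      intro h4
      apply hb
      rw [← h4]
      group
    · intro h4
      exact absurd (Finset.mem_univ _) h4
  have h4 : lin ω (conv (fun y => X y⁻¹) (Pi.single c 1)) =
      ∑ y : K, X (c * y) * conj (ω y) := by
    rw [lin_def, ← Equiv.sum_comp (Equiv.inv K)]
    refine Finset.sum_congr rfl fun y _ => ?_
    rw [Equiv.inv_apply, h3, inv_inv, isCharacter_apply_inv (isIrr_isCharacter hω)]
  have h5 : lin ω (fun y => X y⁻¹) = ∑ y : K, X y * conj (ω y) := by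
    rw [lin_def, ← Equiv.sum_comp (Equiv.inv K)]
    refine Finset.sum_congr rfl fun y _ => ?_
    rw [Equiv.inv_apply, inv_inv, isCharacter_apply_inv (isIrr_isCharacter hω)]
  rw [h4, h5, h2] at h1
  exact h1

/-- The central character of `X` at `y` is congruent to `Σ_{x ∈ y^H ∩ W} ω(x) / ω(1)`. -/
theorem centralChar_mod [Fintype H] (h : VW t u W) [Fintype W] (hM : IsPModular 2 M)
    {X : H → ℂ} (hX : IsIrrCharacter H X) (ω : IrrCharacter W) {m : ℤ}
    (hm : ∑ y : W, X y * conj ((ω : W → ℂ) y) = Nat.card W * m) (hodd : Odd m) (y : W)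
    [DecidablePred fun x : W => IsConj (y : H) (x : H)] :
    MemLocalIdeal M (centralChar X (y : H) * (ω : W → ℂ) 1 -
      ∑ x : W, if IsConj (y : H) (x : H) then (ω : W → ℂ) x else 0) := by
  have := isPrime_of_isPModular hM
  have hXW : IsClassFunction W fun x : W => X x := by
    intro x g
    exact isIrr_isClassFunction hX (x : H) (g : H)
  have h1 : MemLocalIdeal M (∑ y' : W, (conj ((ω : W → ℂ) y') * (ω : W → ℂ) 1) *
      (centralChar X (y : H) * X (y' : H) -
      ∑ x : W, if IsConj (y : H) (x : H) then X ((x : H) * y') else 0)) :=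
    memLocalIdeal_sum fun y' _ => memLocalIdeal_mul_left
      (memLocalRing_mul (memLocalRing_irr_conj ω.2 y') (memLocalRing_irr ω.2 1))
      (sum_class_mod h hM hX y y')
  have h2 : ∑ y' : W, (conj ((ω : W → ℂ) y') * (ω : W → ℂ) 1) *
      (centralChar X (y : H) * X (y' : H) -
      ∑ x : W, if IsConj (y : H) (x : H) then X ((x : H) * y') else 0) =
      ((Nat.card W : ℤ) * m : ℤ) * (centralChar X (y : H) * (ω : W → ℂ) 1 -
        ∑ x : W, if IsConj (y : H) (x : H) then (ω : W → ℂ) x else 0) := by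
    have h3 : ∀ x : W, (∑ y' : W, X ((x : H) * y') * conj ((ω : W → ℂ) y')) * (ω : W → ℂ) 1 =
        (Nat.card W * m) * (ω : W → ℂ) x := by
      intro x
      rw [← hm]
      exact sum_mul_conj hXW ω.2 x
    have h4 : ∀ y' : W, (conj ((ω : W → ℂ) y') * (ω : W → ℂ) 1) *
        (centralChar X (y : H) * X (y' : H) -
        ∑ x : W, if IsConj (y : H) (x : H) then X ((x : H) * y') else 0) =
        centralChar X (y : H) * (ω : W → ℂ) 1 * (X (y' : H) * conj ((ω : W → ℂ) y')) -
        ∑ x : W, if IsConj (y : H) (x : H) then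
          (X ((x : H) * y') * conj ((ω : W → ℂ) y')) * (ω : W → ℂ) 1 else 0 := by
      intro y'
      rw [mul_sub, Finset.mul_sum]
      congr 1
      · ring
      · refine Finset.sum_congr rfl fun x _ => ?_
        split_ifs
        · ring
        · rw [mul_zero]
    rw [Finset.sum_congr rfl fun y' _ => h4 y', Finset.sum_sub_distrib, ← Finset.mul_sum, hm,
      Finset.sum_comm]
    have h5 : ∀ x : W, (∑ y' : W, if IsConj (y : H) (x : H) then
        (X ((x : H) * y') * conj ((ω : W → ℂ) y')) * (ω : W → ℂ) 1 else 0) =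
        if IsConj (y : H) (x : H) then (Nat.card W * m) * (ω : W → ℂ) x else 0 := by
      intro x
      split_ifs with hx
      · rw [← Finset.sum_mul, h3]
      · simp
    rw [Finset.sum_congr rfl fun x _ => h5 x, mul_sub, Finset.mul_sum]
    push_cast
    congr 1
    · ring
    · refine Finset.sum_congr rfl fun x _ => ?_
      split_ifs
      · ring
      · rw [mul_zero]
  rw [h2] at h1
  have hr : MemLocalRing M (centralChar X (y : H) * (ω : W → ℂ) 1 -
      ∑ x : W, if IsConj (y : H) (x : H) then (ω : W → ℂ) x else 0) := by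
    refine memLocalRing_sub (memLocalRing_mul (memLocalRing_of_isIntegral
      (isIntegral_centralChar hX _)) (memLocalRing_irr ω.2 1)) (memLocalRing_sum fun x _ => ?_)
    split_ifs
    · exact memLocalRing_irr ω.2 x
    · exact memLocalRing_zero
  rcases memLocalIdeal_or_of_mul (memLocalRing_intCast _) hr h1 with h3 | h3
  · rw [memLocalIdeal_intCast_iff hM] at h3
    exfalso
    have h4 : Odd ((Nat.card W : ℤ) * m) := (by exact_mod_cast h.odd_W : Odd (Nat.card W : ℤ)).mul hodd
    obtain ⟨k, hk⟩ := h4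
    obtain ⟨j, hj⟩ := h3
    push_cast at hj
    omega
  · exact h3

/-- **The degree lemma.** -/
theorem dvd_four_mul [Fintype H] (h : VW t u W) [Fintype W] (hM : IsPModular 2 M)
    {X : H → ℂ} (hX : IsIrrCharacter H X) {ω : IrrCharacter W} (hω : h.Reg ω) {m : ℤ}
    (hm : ∑ y : W, X y * conj ((ω : W → ℂ) y) = Nat.card W * m) (hodd : Odd m)
    {d : ℕ} (hd : X 1 = d) {k : ℕ} (hk : 2 ^ k ∣ Nat.card H) : 2 ^ k ∣ 4 * d := by
  classical
  have := isPrime_of_isPModular hM
  obtain ⟨y, hy⟩ := exists_fsum h hM hω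
  have hS := sylow_of_fsum h hM ω y hy
  obtain ⟨c, hc⟩ := exists_card_mul_fsum h ω y hS
  -- the central character is not in `M`
  have h1 : ¬ MemLocalIdeal M (∑ x : W, if IsConj (y : H) (x : H) then (ω : W → ℂ) x else 0) := by
    intro h2
    have h3 : MemLocalIdeal M ((Nat.card W : ℂ) * fsum h ω y) := by
      rw [hc]
      exact memLocalIdeal_mul_left (memLocalRing_natCast c) h2
    have hr : MemLocalRing M (fsum h ω y) := by
      rw [fsum_def (I := Fintype.ofFinite _)]
      exact memLocalRing_sum fun q _ => memLocalRing_irr ω.2 _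
    rcases memLocalIdeal_or_of_mul (memLocalRing_natCast _) hr h3 with h4 | h4
    · rw [memLocalIdeal_natCast_iff hM] at h4
      exact h.odd_W.not_two_dvd_nat h4
    · exact hy h4
  have h2 : ¬ MemLocalIdeal M (centralChar X (y : H)) := by
    intro h3
    apply h1
    have h4 := memLocalIdeal_sub
      (memLocalIdeal_mul_right h3 (memLocalRing_irr ω.2 1)) (centralChar_mod h hM hX ω hm hodd y)
    rwa [sub_sub_cancel] at h4
  -- the index
  have hd0 : d ≠ 0 := by
    rintro rfl
    exact isIrr_apply_one_ne_zero hX (by rw [hd]; simp)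
  have hF2 : Fact (Nat.Prime 2) := ⟨Nat.prime_two⟩
  have h3 : centralChar X (y : H) * d =
      ((Subgroup.centralizer ({(y : H)} : Set H)).index : ℂ) * X y := by
    rw [Cfsg.Agent.Blocks.Basic.centralChar_def, hd]
    have : (d : ℂ) ≠ 0 := by exact_mod_cast hd0
    field_simp
  have hcard := card_of_sylow_map_eq hS
  rw [h.card_V] at hcard
  have hfac : (Nat.card (Subgroup.centralizer ({(y : H)} : Set H))).factorization 2 = 2 := by
    have : (2 : ℕ) ^ 2 = 2 ^ (Nat.card (Subgroup.centralizer ({(y : H)} : Set H))).factorization 2 :=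
      hcard
    exact (Nat.pow_right_injective (le_refl 2) this).symm
  obtain ⟨o, ho, ho'⟩ : ∃ o : ℕ, Odd o ∧
      Nat.card (Subgroup.centralizer ({(y : H)} : Set H)) = 4 * o := by
    refine ⟨Nat.card (Subgroup.centralizer ({(y : H)} : Set H)) / 4, ?_, ?_⟩
    · have h4 := Nat.not_dvd_ordCompl Nat.prime_two
        (Nat.card_pos (α := Subgroup.centralizer ({(y : H)} : Set H))).ne'
      rw [hfac] at h4
      rw [← Nat.not_even_iff_odd, even_iff_two_dvd]
      exact h4
    · have h4 := Nat.ordProj_mul_ordCompl_eq_self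
        (Nat.card (Subgroup.centralizer ({(y : H)} : Set H))) 2
      rw [hfac] at h4
      exact h4.symm
  have h5 : 2 ^ k ∣ 4 * (Subgroup.centralizer ({(y : H)} : Set H)).index := by
    rw [← (Subgroup.centralizer ({(y : H)} : Set H)).card_mul_index, ho'] at hk
    have h6 : 4 * o * (Subgroup.centralizer ({(y : H)} : Set H)).index =
        4 * (Subgroup.centralizer ({(y : H)} : Set H)).index * o := by ring
    rw [h6] at hk
    refine Nat.Coprime.dvd_of_dvd_mul_right ?_ hk
    exact (Nat.coprime_two_left.2 ho).pow_left k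
  obtain ⟨j, hj⟩ := h5
  obtain ⟨e, d', hd', he⟩ := Nat.exists_eq_two_pow_mul_odd (n := 4 * d) (by omega)
  rcases le_or_gt k e with hke | hke
  · rw [he]
    exact (pow_dvd_pow 2 hke).trans (dvd_mul_right _ _)
  · exfalso
    obtain ⟨i, rfl⟩ := Nat.exists_eq_add_of_lt hke
    have h6 : centralChar X (y : H) * (d' : ℂ) = (2 : ℕ) * (((2 ^ i * j : ℕ) : ℂ) * X y) := by
      have h7 : ((4 * d : ℕ) : ℂ) = ((2 ^ e * d' : ℕ) : ℂ) := by rw [he]
      have h8 : ((4 * (Subgroup.centralizer ({(y : H)} : Set H)).index : ℕ) : ℂ) =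
        ((2 ^ (e + i + 1) * j : ℕ) : ℂ) := by rw [hj]
      push_cast at h7 h8
      have h9 : (2 : ℂ) ^ e ≠ 0 := pow_ne_zero _ (by norm_num)
      apply mul_left_cancel₀ h9
      push_cast
      calc (2 : ℂ) ^ e * (centralChar X (y : H) * (d' : ℂ)) =
          centralChar X (y : H) * (2 ^ e * (d' : ℂ)) := by ring
        _ = 4 * (centralChar X (y : H) * d) := by rw [← h7]; ring
        _ = (4 * ((Subgroup.centralizer ({(y : H)} : Set H)).index : ℂ)) * X y := by
            rw [h3]; ring
        _ = _ := by rw [h8]; ring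
    have h7 : MemLocalIdeal M (centralChar X (y : H) * (d' : ℂ)) := by
      rw [h6]
      exact memLocalIdeal_mul_right ((memLocalIdeal_natCast_iff hM 2).2 dvd_rfl)
        (memLocalRing_mul (memLocalRing_natCast _) (memLocalRing_irr hX _))
    rcases memLocalIdeal_or_of_mul (memLocalRing_of_isIntegral (isIntegral_centralChar hX _))
      (memLocalRing_natCast _) h7 with h8 | h8
    · exact h2 h8
    · rw [memLocalIdeal_natCast_iff hM] at h8
      exact hd'.not_two_dvd_nat h8

end Cfsg.Agent.Classification.QDW.RegDeg
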