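import Mathlib
import Cfsg.Agent.Classification.QDW.RegBase
import Cfsg.Agent.Classification.QDW.GlauberTwo
import Cfsg.Agent.Classification.QDW.Coef
import Cfsg.Agent.Classification.BGIsometry

/-!
# The section of `u` in a group where `t` is central and `C(V) = V × W`

`E f`, `f` a class function on `W`: the class function with values `4 f(y)` at `u y`, vanishing off
the conjugates of these elements; `⟨E f, X⟩ = ⟨f, X(u ·)⟩_W`.
-/

set_option autoImplicit false
set_option linter.unusedSectionVars false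

open Cfsg
open scoped ComplexConjugate

namespace Cfsg.Agent.Classification.QDW.RegSec

open Cfsg.Agent.Characters Cfsg.Agent.Characters.Core
open Cfsg.Agent.Blocks.ExtendedFMT (conjL conjL_coe compIrr compIrr_apply)
open Cfsg.Agent.Classification.BGIsometry
open RegBase

universe w

/-- `V = ⟨t,u⟩` as in `VW` with `t` central, and `s` moving `u` to `tu`. -/
structure Cen {C : Type w} [Group C] (t u s : C) (W : Subgroup C) : Prop where
  vw : VW t u W
  t_comm : ∀ g, t * g = g * t
  s_conj : s * u * s⁻¹ = t * u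

variable {C : Type w} [Group C] {t u s : C} {W : Subgroup C}

theorem Cen.mem_cent_u (h : Cen t u s W) {x : C} :
    x ∈ Subgroup.centralizer ({u} : Set C) ↔ x ∈ Subgroup.centralizer (h.vw.V : Set C) := by
  rw [Subgroup.mem_centralizer_singleton_iff, h.vw.mem_cent]
  exact ⟨fun h1 => ⟨(h.t_comm x).symm, h1⟩, fun h1 => h1.2⟩

theorem Cen.uy_mem (h : Cen t u s W) (y : W) :
    u * (y : C) ∈ Subgroup.centralizer ({u} : Set C) := by
  rw [Subgroup.mem_centralizer_singleton_iff]
  have h1 := h.vw.W_u y y.2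
  rw [mul_assoc, h1]

theorem Cen.u_mul (h : Cen t u s W) (x : C) : u * (u * x) = x := by
  rw [← mul_assoc, h.vw.u_sq, one_mul]

theorem Cen.t_mul (h : Cen t u s W) (x : C) : t * (t * x) = x := by
  rw [← mul_assoc, h.vw.t_sq, one_mul]

theorem Cen.card_cent_u [Finite C] (h : Cen t u s W) :
    Nat.card (Subgroup.centralizer ({u} : Set C)) = 4 * Nat.card W := by
  have h1 : Subgroup.centralizer ({u} : Set C) = Subgroup.centralizer (h.vw.V : Set C) := by
    ext x
    exact h.mem_cent_u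
  rw [h1, ← h.vw.card_L]
  exact (Nat.card_congr (Subgroup.subgroupOfEquivOfLe h.vw.cent_le).toEquiv).symm

/-- An element of `C(u)` conjugate into `u W` ... -/
theorem Cen.conj_uy (h : Cen t u s W) {g : C} (hg : g ∈ Subgroup.centralizer ({u} : Set C))
    {x : C} : u * (g * x * g⁻¹) = g * (u * x) * g⁻¹ := by
  rw [Subgroup.mem_centralizer_singleton_iff] at hg
  rw [← mul_assoc, ← mul_assoc, ← hg]
  group

open scoped Classical in
/-- The function on `C(u)` with value `4 f(y)` at `u y` and `0` off `u W`. -/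
noncomputable def th (W : Subgroup C) (u : C) (f : W → ℂ) :
    Subgroup.centralizer ({u} : Set C) → ℂ :=
  fun x => if hx : u * (x : C) ∈ W then 4 * f ⟨u * x, hx⟩ else 0

theorem th_of_mem (f : W → ℂ) {x : Subgroup.centralizer ({u} : Set C)} (hx : u * (x : C) ∈ W) :
    th W u f x = 4 * f ⟨u * x, hx⟩ := dif_pos hx

theorem th_of_not (f : W → ℂ) {x : Subgroup.centralizer ({u} : Set C)} (hx : u * (x : C) ∉ W) :
    th W u f x = 0 := dif_neg hx

theorem Cen.th_uy (h : Cen t u s W) (f : W → ℂ) (y : W) :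
    th W u f ⟨u * y, h.uy_mem y⟩ = 4 * f y := by
  have hx : u * (u * (y : C)) ∈ W := by rw [h.u_mul]; exact y.2
  rw [th_of_mem f (x := ⟨u * y, h.uy_mem y⟩) hx]
  congr 2
  exact Subtype.ext (h.u_mul _)

/-- Sums over `C(u)` of functions vanishing off `u W`. -/
theorem Cen.sum_cent (h : Cen t u s W) [Fintype W]
    [Fintype (Subgroup.centralizer ({u} : Set C))]
    (F : Subgroup.centralizer ({u} : Set C) → ℂ)
    (hF : ∀ x : Subgroup.centralizer ({u} : Set C), u * (x : C) ∉ W → F x = 0) :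
    ∑ x, F x = ∑ y : W, F ⟨u * y, h.uy_mem y⟩ := by
  classical
  symm
  refine Finset.sum_bij_ne_zero (fun y _ _ => ⟨u * y, h.uy_mem y⟩) ?_ ?_ ?_ ?_
  · intro y _ _
    exact Finset.mem_univ _
  · intro y _ _ y' _ _ hyy
    exact Subtype.ext (mul_left_cancel (congrArg Subtype.val hyy))
  · intro x _ hx
    have h1 : u * (x : C) ∈ W := by
      by_contra h2
      exact hx (hF x h2)
    have h2 : (⟨u * ((⟨u * x, h1⟩ : W) : C), h.uy_mem _⟩ :
        Subgroup.centralizer ({u} : Set C)) = x := Subtype.ext (h.u_mul _)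
    exact ⟨⟨u * x, h1⟩, Finset.mem_univ _, by rw [h2]; exact hx, h2⟩
  · intro y _ _
    rfl

theorem Cen.isClass_th (h : Cen t u s W) {f : W → ℂ} (hf : IsClassFunction W f) :
    IsClassFunction _ (th W u f) := by
  intro x g
  have hg := g.2
  rw [h.mem_cent_u] at hg
  have h1 : u * ((g * x * g⁻¹ : Subgroup.centralizer ({u} : Set C)) : C) =
      (g : C) * (u * x) * (g : C)⁻¹ := by
    push_cast
    exact h.conj_uy g.2
  by_cases hx : u * (x : C) ∈ W
  · have h2 : (g : C) * (u * x) * (g : C)⁻¹ ∈ W :=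
      h.vw.conj_mem (h.vw.cent_le hg) hx
    rw [th_of_mem f (x := g * x * g⁻¹) (by rw [h1]; exact h2), th_of_mem f hx]
    congr 1
    obtain ⟨v, hv, y, hy, hgy⟩ := h.vw.exists_mul hg
    have h3 : (⟨u * ((g * x * g⁻¹ : Subgroup.centralizer ({u} : Set C)) : C),
        by rw [h1]; exact h2⟩ : W) = ⟨y, hy⟩ * ⟨u * x, hx⟩ * (⟨y, hy⟩ : W)⁻¹ := by
      apply Subtype.ext
      change u * ((g * x * g⁻¹ : Subgroup.centralizer ({u} : Set C)) : C) =
        y * (u * x) * y⁻¹
      rw [h1, hgy]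
      have h4 : y * (u * x) * y⁻¹ ∈ W := W.mul_mem (W.mul_mem hy hx) (W.inv_mem hy)
      have h5 := h.vw.comm_V hv h4
      calc v * y * (u * x) * (v * y)⁻¹ = v * (y * (u * x) * y⁻¹) * v⁻¹ := by group
        _ = y * (u * x) * y⁻¹ * v * v⁻¹ := by rw [h5]
        _ = y * (u * x) * y⁻¹ := by group
    rw [h3, hf]
  · have h2 : (g : C) * (u * x) * (g : C)⁻¹ ∉ W := by
      intro h3
      apply hx
      have h4 := h.vw.conj_mem' (h.vw.cent_le hg) h3
      have h5 : (g : C)⁻¹ * ((g : C) * (u * x) * (g : C)⁻¹) * g = u * x := by group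
      rwa [h5] at h4
    rw [th_of_not f (x := g * x * g⁻¹) (by rw [h1]; exact h2), th_of_not f hx]

theorem Cen.pow_uy (h : Cen t u s W) (y : W) : (u * (y : C)) ^ Nat.card W = u := by
  have hc : Commute u (y : C) := (h.vw.W_u y y.2).symm
  obtain ⟨k, hk⟩ := h.vw.odd_W
  rw [hc.mul_pow, h.vw.pow_card y.2, mul_one, hk, pow_succ, pow_mul, _root_.sq, h.vw.u_sq,
    one_pow, one_mul]

theorem Cen.supp_th (h : Cen t u s W) (f : W → ℂ) : Supp u (th W u f) := by
  intro x hx
  have h1 : u * (x : C) ∈ W := by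
    by_contra h2
    exact hx (th_of_not f h2)
  have h2 := h.pow_uy ⟨u * x, h1⟩
  rw [h.u_mul] at h2
  exact ⟨Nat.card W, by
    change (x : C) ^ ((Nat.card W : ℕ) : ℤ) = u
    rw [zpow_natCast]
    exact h2⟩

theorem Cen.orderOf_u (h : Cen t u s W) : orderOf u = 2 :=
  orderOf_eq_prime (by rw [_root_.sq, h.vw.u_sq]) h.vw.u_ne

variable [Fintype C]

/-- The class function of `C` with values `4 f(y)` at `u y`. -/
noncomputable def E (W : Subgroup C) (u : C) (f : W → ℂ) : C → ℂ :=
  indFun (Subgroup.centralizer ({u} : Set C)) (th W u f)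

theorem E_isClass (f : W → ℂ) : IsClassFunction C (E W u f) :=
  Brauer.indFun_isClassFunction _ _

theorem Cen.E_uy (h : Cen t u s W) {f : W → ℂ} (hf : IsClassFunction W f) (y : W) :
    E W u f (u * y) = 4 * f y := by
  have h1 : u ∈ Subgroup.zpowers (u * (y : C)) := ⟨Nat.card W, by
    change (u * (y : C)) ^ ((Nat.card W : ℕ) : ℤ) = u
    rw [zpow_natCast]
    exact h.pow_uy y⟩
  have h2 := indFun_eq h.orderOf_u (h.isClass_th hf) (h.supp_th f)
    (h := ⟨u * y, h.uy_mem y⟩) h1
  rw [h.th_uy] at h2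
  exact h2

theorem Cen.E_zero (h : Cen t u s W) (f : W → ℂ) {x : C}
    (hx : ∀ (g : C) (y : W), g * (u * y) * g⁻¹ ≠ x) : E W u f x = 0 := by
  unfold E
  rw [indFun_apply, Finset.sum_eq_zero, mul_zero]
  intro g _
  by_cases h1 : g⁻¹ * x * g ∈ Subgroup.centralizer ({u} : Set C)
  · rw [extendByZero_of_mem _ _ h1]
    refine th_of_not f (x := ⟨g⁻¹ * x * g, h1⟩) fun h2 => ?_
    apply hx g ⟨u * (g⁻¹ * x * g), h2⟩
    change g * (u * (u * (g⁻¹ * x * g))) * g⁻¹ = x
    rw [h.u_mul]
    group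
  · exact extendByZero_of_notMem _ _ h1

/-- `⟨E f, X⟩ = ⟨f, X(u ·)⟩`. -/
theorem Cen.inner_E (h : Cen t u s W) [Fintype W] (f : W → ℂ) {X : C → ℂ}
    (hX : IsClassFunction C X) :
    classInner (E W u f) X = classInner f (fun y : W => X (u * y)) := by
  classical
  have : Fintype (Subgroup.centralizer ({u} : Set C)) := Fintype.ofFinite _
  unfold E
  rw [classInner_indFun_left _ _ hX, classInner_def, classInner_def, h.card_cent_u,
    h.sum_cent]
  · have hW : (Nat.card W : ℂ) ≠ 0 := card_ne_zero_complex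
    rw [Finset.mul_sum, Finset.mul_sum]
    refine Finset.sum_congr rfl fun y _ => ?_
    rw [h.th_uy]
    push_cast
    field_simp
  · intro x hx
    rw [th_of_not f hx, zero_mul]

/-- `⟨E f, E g⟩ = 4 ⟨f, g⟩`. -/
theorem Cen.inner_E_E (h : Cen t u s W) [Fintype W] {f g : W → ℂ}
    (hg : IsClassFunction W g) :
    classInner (E W u f) (E W u g) = 4 * classInner f g := by
  rw [h.inner_E f (E_isClass g), classInner_def, classInner_def, Finset.mul_sum, Finset.mul_sum,
    Finset.mul_sum]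
  refine Finset.sum_congr rfl fun y _ => ?_
  rw [h.E_uy hg, map_mul]
  have : conj (4 : ℂ) = 4 := by
    rw [Complex.conj_eq_iff_real]
    exact ⟨4, by norm_num⟩
  rw [this]
  ring

end Cfsg.Agent.Classification.QDW.RegSec
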