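import Mathlib
import Cfsg.Agent.Classification.QDW.RegSec
import Cfsg.Agent.Classification.QDW.RegDeg

/-!
# The four characters of `C` over a regular `β ∈ Irr(W)`

`t` central in `C`, `C(V) = V × W`, `s u s⁻¹ = t u`, `β ∈ Irr(W)` with `β ≠ β'`,
`β'(y) = β(s y s⁻¹)`.  There are irreducible `a ≠ b` (with `t` acting trivially) and `c ≠ d` (with
`t` acting as `-1`) such that `E β = a - b + c - d`, `E β' = a - b - c + d`, `a(1) = b(1)`,
`c(1) = d(1)`.
-/

set_option autoImplicit false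
set_option linter.unusedSectionVars false

open Cfsg
open scoped ComplexConjugate

namespace Cfsg.Agent.Classification.QDW.RegSec

open Cfsg.Agent.Characters Cfsg.Agent.Characters.Core
open Cfsg.Agent.Blocks.ExtendedFMT (conjL conjL_coe compIrr compIrr_apply)
open Cfsg.Agent.Classification.BGIsometry
open RegBase RegDeg

universe w

/-- The coefficients along `u W` are integers, congruent mod `2` to those along `W`. -/
theorem exists_coef {G : Type*} [Group G] [Finite G] {u : G} (hu : u * u = 1) (W : Subgroup G)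
    (hW : ∀ y ∈ W, y * u = u * y) [Fintype W] {χ : G → ℂ} (hχ : IsCharacter G χ)
    (γ : IrrCharacter W) :
    ∃ a m : ℤ, classInner (fun y : W => χ (u * y)) (γ : W → ℂ) = a ∧
      classInner (fun y : W => χ y) (γ : W → ℂ) = m ∧ Even (m - a) := by
  obtain ⟨χ₀, χ₁, h0, h1, h2, h3⟩ := GlauberTwo.exists_eigen_split hu hχ
  have hle : W ≤ Subgroup.centralizer ({u} : Set G) := fun y hy => by
    rw [Subgroup.mem_centralizer_singleton_iff]
    exact hW y hy
  obtain ⟨n₀, hn₀⟩ := classInner_isNat (isCharacter_comp (Subgroup.inclusion hle) h0)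
    (isIrr_isCharacter γ.2)
  obtain ⟨n₁, hn₁⟩ := classInner_isNat (isCharacter_comp (Subgroup.inclusion hle) h1)
    (isIrr_isCharacter γ.2)
  refine ⟨(n₀ : ℤ) - n₁, n₀ + n₁, ?_, ?_, ⟨n₁, by ring⟩⟩
  · have h4 : (fun y : W => χ (u * y)) =
        (χ₀ ∘ Subgroup.inclusion hle) - (χ₁ ∘ Subgroup.inclusion hle) := by
      funext y
      exact h3 (Subgroup.inclusion hle y)
    rw [h4, classInner_sub_left, hn₀, hn₁]
    push_cast
    rfl
  · have h4 : (fun y : W => χ y) =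
        (χ₀ ∘ Subgroup.inclusion hle) + (χ₁ ∘ Subgroup.inclusion hle) := by
      funext y
      exact h2 (Subgroup.inclusion hle y)
    rw [h4, classInner_add_left, hn₀, hn₁]
    push_cast
    rfl

variable {C : Type w} [Group C] {t u s : C} {W : Subgroup C}

theorem Cen.s_t (h : Cen t u s W) : s * t * s⁻¹ = t := by
  rw [← h.t_comm, mul_inv_cancel_right]

theorem Cen.s_inv_u (h : Cen t u s W) : s⁻¹ * u * s = t * u := by
  have h1 := h.s_conj
  have h2 : u = s⁻¹ * (t * u) * s := by rw [← h1]; group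
  have h3 : s⁻¹ * (t * u) * s = t * (s⁻¹ * u * s) := by
    rw [← mul_assoc, ← h.t_comm]
    group
  calc s⁻¹ * u * s = t * (t * (s⁻¹ * u * s)) := (h.t_mul _).symm
    _ = t * u := by rw [← h3, ← h2]

theorem Cen.s_mem_N (h : Cen t u s W) : s ∈ Subgroup.normalizer (h.vw.V : Set C) := by
  have h1 : ∀ v ∈ h.vw.V, s * v * s⁻¹ ∈ h.vw.V := by
    intro v hv
    rcases h.vw.mem_V.1 hv with rfl | rfl | rfl | rfl
    · simp [h.vw.V.one_mem]
    · rw [h.s_t]; exact h.vw.t_mem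
    · rw [h.s_conj]; exact h.vw.V.mul_mem h.vw.t_mem h.vw.u_mem
    · have h2 : s * (t * u) * s⁻¹ = (s * t * s⁻¹) * (s * u * s⁻¹) := by group
      rw [h2, h.s_t, h.s_conj, h.t_mul]
      exact h.vw.u_mem
  have h3 : ∀ v ∈ h.vw.V, s⁻¹ * v * s ∈ h.vw.V := by
    intro v hv
    rcases h.vw.mem_V.1 hv with rfl | rfl | rfl | rfl
    · simp [h.vw.V.one_mem]
    · rw [← h.t_comm, mul_assoc, inv_mul_cancel, mul_one]; exact h.vw.t_mem
    · rw [h.s_inv_u]; exact h.vw.V.mul_mem h.vw.t_mem h.vw.u_mem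
    · have h2 : s⁻¹ * (t * u) * s = u := by rw [← h.s_conj]; group
      rw [h2]
      exact h.vw.u_mem
  rw [Subgroup.mem_normalizer_iff]
  intro v
  refine ⟨h1 v, fun hv => ?_⟩
  have := h3 _ hv
  have h4 : s⁻¹ * (s * v * s⁻¹) * s = v := by group
  rwa [h4] at this

/-- `s` as an element of `N(V)`. -/
def Cen.sN (h : Cen t u s W) : Subgroup.normalizer (h.vw.V : Set C) := ⟨s, h.s_mem_N⟩

theorem Cen.s_not_mem (h : Cen t u s W) : s ∉ Subgroup.centralizer (h.vw.V : Set C) := by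
  rw [h.vw.mem_cent]
  rintro ⟨-, h2⟩
  have h3 := h.s_conj
  rw [h2, mul_inv_cancel_right] at h3
  have h4 : t * u = 1 * u := by rw [one_mul]; exact h3.symm
  exact h.vw.t_ne (mul_right_cancel h4)

/-- The conjugate of `β` by `s`. -/
def Cen.tw (h : Cen t u s W) (β : IrrCharacter W) : IrrCharacter W := compIrr (h.vw.conj h.sN) β

theorem Cen.tw_apply (h : Cen t u s W) (β : IrrCharacter W) (y : W) :
    (h.tw β : W → ℂ) y = (β : W → ℂ) (h.vw.conj h.sN y) := rfl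

theorem Cen.tw_ne (h : Cen t u s W) {β : IrrCharacter W} (hβ : h.vw.Reg β) : h.tw β ≠ β :=
  hβ h.sN h.s_not_mem

theorem Cen.tw_one (h : Cen t u s W) (β : IrrCharacter W) :
    (h.tw β : W → ℂ) 1 = (β : W → ℂ) 1 := by
  rw [h.tw_apply, map_one]

/-- `c(ψ, β') = τ c(ψ, β)`. -/
theorem Cen.coef_tw (h : Cen t u s W) [Fintype W] (β : IrrCharacter W) {X : C → ℂ}
    (hX : IsClassFunction C X) {τ : ℂ} (hτ : ∀ x, X (t * x) = τ * X x) :
    classInner (fun y : W => X (u * y)) (h.tw β : W → ℂ) =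
      τ * classInner (fun y : W => X (u * y)) (β : W → ℂ) := by
  have h1 : ∀ y : W, X (u * y) = τ * X (u * (h.vw.conj h.sN y : W)) := by
    intro y
    rw [← hτ, ← hX (u * y) s, h.vw.conj_coe]
    congr 1
    have h2 : s * (u * (y : C)) * s⁻¹ = (s * u * s⁻¹) * (s * y * s⁻¹) := by group
    rw [h2, h.s_conj, mul_assoc]
    rfl
  rw [classInner_def, classInner_def, mul_left_comm]
  congr 1
  rw [Finset.mul_sum, ← Equiv.sum_comp (h.vw.conj h.sN).toEquiv
    (fun y : W => τ * (X (u * y) * conj ((β : W → ℂ) y)))]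
  refine Finset.sum_congr rfl fun y _ => ?_
  rw [h.tw_apply, h1 y]
  change τ * X (u * (h.vw.conj h.sN y : W)) * conj ((β : W → ℂ) (h.vw.conj h.sN y)) =
    τ * (X (u * (h.vw.conj h.sN y : W)) * conj ((β : W → ℂ) (h.vw.conj h.sN y)))
  ring

/-! ### Sums of two squares -/

/-- Integers with square sum `2`, orthogonal to positive weights. -/
theorem exists_pair {ι : Type*} [DecidableEq ι] (S : Finset ι) (a d : ι → ℤ)
    (h2 : ∑ i ∈ S, a i ^ 2 = 2) (h0 : ∑ i ∈ S, a i * d i = 0) (hd : ∀ i ∈ S, 0 < d i) :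
    ∃ i ∈ S, ∃ j ∈ S, i ≠ j ∧ a i = 1 ∧ a j = -1 ∧ d i = d j ∧
      ∀ k ∈ S, k ≠ i → k ≠ j → a k = 0 := by
  have hne : ∃ i ∈ S, 0 < a i := by
    by_contra hcon
    push Not at hcon
    have h3 : ∀ i ∈ S, a i * d i = 0 := by
      refine (Finset.sum_eq_zero_iff_of_nonpos fun i hi => ?_).1 h0
      exact mul_nonpos_of_nonpos_of_nonneg (hcon i hi) (hd i hi).le
    have h4 : ∑ i ∈ S, a i ^ 2 = 0 := Finset.sum_eq_zero fun i hi => by
      have h5 : a i = 0 := (mul_eq_zero.1 (h3 i hi)).resolve_right (hd i hi).ne'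
      rw [h5]; norm_num
    omega
  have hne' : ∃ i ∈ S, a i < 0 := by
    by_contra hcon
    push Not at hcon
    have h3 : ∀ i ∈ S, a i * d i = 0 :=
      (Finset.sum_eq_zero_iff_of_nonneg fun i hi => mul_nonneg (hcon i hi) (hd i hi).le).1 h0
    have h4 : ∑ i ∈ S, a i ^ 2 = 0 := Finset.sum_eq_zero fun i hi => by
      have h5 : a i = 0 := (mul_eq_zero.1 (h3 i hi)).resolve_right (hd i hi).ne'
      rw [h5]; norm_num
    omega
  obtain ⟨i, hi, hai⟩ := hne
  obtain ⟨j, hj, haj⟩ := hne'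
  have hij : i ≠ j := fun h => by subst h; omega
  have hsub : ({i, j} : Finset ι) ⊆ S := by
    intro k hk
    rw [Finset.mem_insert, Finset.mem_singleton] at hk
    rcases hk with rfl | rfl
    · exact hi
    · exact hj
  have h3 : ∑ k ∈ S \ {i, j}, a k ^ 2 + ∑ k ∈ ({i, j} : Finset ι), a k ^ 2 = 2 := by
    rw [Finset.sum_sdiff hsub, h2]
  rw [Finset.sum_pair hij] at h3
  have h4 : 0 ≤ ∑ k ∈ S \ {i, j}, a k ^ 2 := Finset.sum_nonneg fun k _ => sq_nonneg _
  have h5 : 1 ≤ a i ^ 2 := by nlinarith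
  have h6 : 1 ≤ a j ^ 2 := by nlinarith
  have h7 : a i = 1 := by nlinarith
  have h8 : a j = -1 := by nlinarith
  have h9 : ∑ k ∈ S \ {i, j}, a k ^ 2 = 0 := by rw [h7, h8] at h3; linarith
  have h10 : ∀ k ∈ S, k ≠ i → k ≠ j → a k = 0 := by
    intro k hk hki hkj
    have h11 := (Finset.sum_eq_zero_iff_of_nonneg fun k _ => sq_nonneg (a k)).1 h9 k (by
      rw [Finset.mem_sdiff, Finset.mem_insert, Finset.mem_singleton]
      exact ⟨hk, by tauto⟩)
    exact pow_eq_zero_iff (two_ne_zero) |>.1 h11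
  refine ⟨i, hi, j, hj, hij, h7, h8, ?_, h10⟩
  have h11 : ∑ k ∈ S \ {i, j}, a k * d k + ∑ k ∈ ({i, j} : Finset ι), a k * d k = 0 := by
    rw [Finset.sum_sdiff hsub, h0]
  rw [Finset.sum_pair hij, h7, h8, Finset.sum_eq_zero] at h11
  · linarith
  · intro k hk
    rw [Finset.mem_sdiff, Finset.mem_insert, Finset.mem_singleton] at hk
    rw [h10 k hk.1 (by tauto) (by tauto), zero_mul]

/-- The four characters. -/
structure Quad (h : Cen t u s W) [Fintype C] (β : IrrCharacter W) (a b c d : IrrCharacter C) :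
    Prop where
  ab : a ≠ b
  cd : c ≠ d
  ta : ∀ x, (a : C → ℂ) (t * x) = (a : C → ℂ) x
  tb : ∀ x, (b : C → ℂ) (t * x) = (b : C → ℂ) x
  tc : ∀ x, (c : C → ℂ) (t * x) = -(c : C → ℂ) x
  td : ∀ x, (d : C → ℂ) (t * x) = -(d : C → ℂ) x
  e₁ : E W u (β : W → ℂ) = (a : C → ℂ) - b + (c - d)
  e₂ : E W u (h.tw β : W → ℂ) = (a : C → ℂ) - b - (c - d)
  one_ab : (a : C → ℂ) 1 = (b : C → ℂ) 1
  one_cd : (c : C → ℂ) 1 = (d : C → ℂ) 1

theorem Cen.E_one (h : Cen t u s W) [Fintype C] (f : W → ℂ) : E W u f 1 = 0 := by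
  refine h.E_zero f fun g y h1 => ?_
  have h2 : u * (y : C) = 1 := by
    have : u * (y : C) = g⁻¹ * (g * (u * y) * g⁻¹) * g := by group
    rw [this, h1]
    group
  have h3 := h.pow_uy y
  rw [h2, one_pow] at h3
  exact h.vw.u_ne h3.symm

theorem exists_quad (h : Cen t u s W) [Fintype C] [Fintype W] {β : IrrCharacter W}
    (hβ : h.vw.Reg β) : ∃ a b c d : IrrCharacter C, Quad h β a b c d := by
  classical
  have := finite_irr (G := C)
  have := Fintype.ofFinite (IrrCharacter C)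
  -- coefficients
  have hco : ∀ ψ : IrrCharacter C, ∃ n : ℤ,
      classInner (fun y : W => (ψ : C → ℂ) (u * y)) (β : W → ℂ) = n := fun ψ =>
    (exists_coef h.vw.u_sq W h.vw.W_u (isIrr_isCharacter ψ.2) β).imp fun n hn => hn.choose_spec.1
  choose n hn using hco
  have hsg : ∀ ψ : IrrCharacter C, ∃ τ : ℤ, (τ = 1 ∨ τ = -1) ∧
      ∀ x, (ψ : C → ℂ) (t * x) = τ * (ψ : C → ℂ) x := by
    intro ψ
    obtain ⟨τ, h1 | h1, h2⟩ := Coef.central_sign h.vw.t_sq (fun x => h.t_comm x) ψ.2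
    · exact ⟨1, Or.inl rfl, fun x => by rw [h2, h1]; norm_num⟩
    · exact ⟨-1, Or.inr rfl, fun x => by rw [h2, h1]; norm_num⟩
  choose τ hτ1 hτ using hsg
  have hde : ∀ ψ : IrrCharacter C, ∃ m : ℤ, 0 < m ∧ (ψ : C → ℂ) 1 = m := by
    intro ψ
    obtain ⟨m, hm, h1⟩ := isIrr_apply_one ψ.2
    exact ⟨m, by exact_mod_cast hm, by rw [h1]; norm_num⟩
  choose m hm0 hm using hde
  have hEβ : ∀ ψ : IrrCharacter C, classInner (E W u (β : W → ℂ)) (ψ : C → ℂ) = n ψ := by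
    intro ψ
    rw [h.inner_E _ (isIrr_isClassFunction ψ.2), ← classInner_conj_symm, hn, map_intCast]
  have hEt : ∀ ψ : IrrCharacter C, classInner (E W u (h.tw β : W → ℂ)) (ψ : C → ℂ) =
      τ ψ * n ψ := by
    intro ψ
    rw [h.inner_E _ (isIrr_isClassFunction ψ.2), ← classInner_conj_symm,
      h.coef_tw β (isIrr_isClassFunction ψ.2) (τ := τ ψ) (hτ ψ), hn, map_mul,
      map_intCast, map_intCast]
  have hx1 : E W u (β : W → ℂ) = ∑ ψ : IrrCharacter C, (n ψ : ℂ) • (ψ : C → ℂ) := by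
    rw [classFunction_eq_sum (E_isClass (u := u) (W := W) (β : W → ℂ))]
    refine Finset.sum_congr rfl fun ψ _ => ?_
    rw [hEβ]
  have hx2 : E W u (h.tw β : W → ℂ) =
      ∑ ψ : IrrCharacter C, (τ ψ * n ψ : ℂ) • (ψ : C → ℂ) := by
    rw [classFunction_eq_sum (E_isClass (u := u) (W := W) (h.tw β : W → ℂ))]
    refine Finset.sum_congr rfl fun ψ _ => ?_
    rw [hEt]
  -- square sums
  have hs1 : ∑ ψ : IrrCharacter C, n ψ ^ 2 = 4 := by
    have h1 := h.inner_E_E (f := (β : W → ℂ)) (isIrr_isClassFunction β.2)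
    rw [classInner_irr_self β.2, classInner_eq_sum (E_isClass _) (E_isClass _)] at h1
    have h2 : ((∑ ψ : IrrCharacter C, n ψ ^ 2 : ℤ) : ℂ) = ((4 : ℤ) : ℂ) := by
      push_cast
      rw [← mul_one (4 : ℂ), ← h1]
      refine Finset.sum_congr rfl fun ψ _ => ?_
      rw [hEβ, map_intCast]
      ring
    exact_mod_cast h2
  have hs2 : ∑ ψ : IrrCharacter C, τ ψ * n ψ ^ 2 = 0 := by
    have h1 := h.inner_E_E (f := (h.tw β : W → ℂ)) (isIrr_isClassFunction β.2)
    rw [classInner_irr_ne (h.tw β).2 β.2 fun h3 => h.tw_ne hβ (Subtype.ext h3), mul_zero,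
      classInner_eq_sum (E_isClass _) (E_isClass _)] at h1
    have h2 : ((∑ ψ : IrrCharacter C, τ ψ * n ψ ^ 2 : ℤ) : ℂ) = ((0 : ℤ) : ℂ) := by
      push_cast
      rw [← h1]
      refine Finset.sum_congr rfl fun ψ _ => ?_
      rw [hEβ, hEt, map_intCast]
      ring
    exact_mod_cast h2
  have hd1 : ∑ ψ : IrrCharacter C, n ψ * m ψ = 0 := by
    have h1 := h.E_one (β : W → ℂ)
    rw [hx1, Finset.sum_apply] at h1
    have h2 : ((∑ ψ : IrrCharacter C, n ψ * m ψ : ℤ) : ℂ) = ((0 : ℤ) : ℂ) := by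
      push_cast
      rw [← h1]
      refine Finset.sum_congr rfl fun ψ _ => ?_
      rw [Pi.smul_apply, hm, smul_eq_mul]
    exact_mod_cast h2
  have hd2 : ∑ ψ : IrrCharacter C, τ ψ * n ψ * m ψ = 0 := by
    have h1 := h.E_one (h.tw β : W → ℂ)
    rw [hx2, Finset.sum_apply] at h1
    have h2 : ((∑ ψ : IrrCharacter C, τ ψ * n ψ * m ψ : ℤ) : ℂ) = ((0 : ℤ) : ℂ) := by
      push_cast
      rw [← h1]
      refine Finset.sum_congr rfl fun ψ _ => ?_
      rw [Pi.smul_apply, hm, smul_eq_mul]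
    exact_mod_cast h2
  -- split according to the sign
  let S : Finset (IrrCharacter C) := Finset.univ.filter fun ψ => τ ψ = 1
  let T : Finset (IrrCharacter C) := Finset.univ.filter fun ψ => ¬ τ ψ = 1
  have hsplit : ∀ f : IrrCharacter C → ℤ, ∑ ψ, f ψ = ∑ ψ ∈ S, f ψ + ∑ ψ ∈ T, f ψ := fun f =>
    (Finset.sum_filter_add_sum_filter_not _ _ _).symm
  have hSτ : ∀ ψ ∈ S, τ ψ = 1 := fun ψ hψ => (Finset.mem_filter.1 hψ).2
  have hTτ : ∀ ψ ∈ T, τ ψ = -1 := fun ψ hψ => (hτ1 ψ).resolve_left (Finset.mem_filter.1 hψ).2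
  have hsplitτ : ∀ f : IrrCharacter C → ℤ, ∑ ψ, τ ψ * f ψ = ∑ ψ ∈ S, f ψ - ∑ ψ ∈ T, f ψ := by
    intro f
    have h5 : ∑ ψ ∈ S, τ ψ * f ψ = ∑ ψ ∈ S, f ψ :=
      Finset.sum_congr rfl fun ψ hψ => by rw [hSτ ψ hψ, one_mul]
    have h6 : ∑ ψ ∈ T, τ ψ * f ψ = -∑ ψ ∈ T, f ψ := by
      rw [← Finset.sum_neg_distrib]
      exact Finset.sum_congr rfl fun ψ hψ => by rw [hTτ ψ hψ]; ring
    rw [hsplit, h5, h6]
    ring
  have h1 := hsplit fun ψ => n ψ ^ 2
  have h2 := hsplitτ fun ψ => n ψ ^ 2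
  have h3 := hsplit fun ψ => n ψ * m ψ
  have h4 := hsplitτ fun ψ => n ψ * m ψ
  simp only [← mul_assoc] at h4
  rw [hs1] at h1
  rw [hs2] at h2
  rw [hd1] at h3
  rw [hd2] at h4
  obtain ⟨a, ha, b, hb, hab, ha1, hb1, hdab, hzS⟩ := exists_pair S n m (by linarith)
    (by linarith) (fun ψ _ => hm0 ψ)
  obtain ⟨c, hc, d, hd, hcd, hc1, hd1', hdcd, hzT⟩ := exists_pair T n m (by linarith)
    (by linarith) (fun ψ _ => hm0 ψ)
  have hsum : ∀ f : IrrCharacter C → C → ℂ, (∀ ψ, n ψ = 0 → f ψ = 0) →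
      ∑ ψ, f ψ = f a + f b + (f c + f d) := by
    intro f hf
    have h5 : ∑ ψ, f ψ = ∑ ψ ∈ S, f ψ + ∑ ψ ∈ T, f ψ :=
      (Finset.sum_filter_add_sum_filter_not _ _ _).symm
    rw [h5]
    congr 1
    · rw [← Finset.sum_pair hab]
      symm
      refine Finset.sum_subset ?_ fun ψ hψ hψ' => hf ψ ?_
      · intro ψ hψ
        rw [Finset.mem_insert, Finset.mem_singleton] at hψ
        rcases hψ with rfl | rfl
        · exact ha
        · exact hb
      · rw [Finset.mem_insert, Finset.mem_singleton] at hψ'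
        exact hzS ψ hψ (by tauto) (by tauto)
    · rw [← Finset.sum_pair hcd]
      symm
      refine Finset.sum_subset ?_ fun ψ hψ hψ' => hf ψ ?_
      · intro ψ hψ
        rw [Finset.mem_insert, Finset.mem_singleton] at hψ
        rcases hψ with rfl | rfl
        · exact hc
        · exact hd
      · rw [Finset.mem_insert, Finset.mem_singleton] at hψ'
        exact hzT ψ hψ (by tauto) (by tauto)
  refine ⟨a, b, c, d, ⟨hab, hcd, ?_, ?_, ?_, ?_, ?_, ?_, ?_, ?_⟩⟩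
  · intro x; rw [hτ, hSτ a ha]; norm_num
  · intro x; rw [hτ, hSτ b hb]; norm_num
  · intro x; rw [hτ, hTτ c hc]; norm_num
  · intro x; rw [hτ, hTτ d hd]; norm_num
  · rw [hx1, hsum _ (fun ψ hψ => by rw [hψ, Int.cast_zero, zero_smul]), ha1, hb1, hc1, hd1']
    push_cast
    rw [one_smul, one_smul, neg_one_smul, neg_one_smul]
    ring
  · rw [hx2, hsum _ (fun ψ hψ => by rw [hψ, Int.cast_zero, mul_zero, zero_smul]), ha1, hb1,
      hc1, hd1', hSτ a ha, hSτ b hb, hTτ c hc, hTτ d hd]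
    push_cast
    rw [one_mul, one_mul, mul_one, neg_one_mul, neg_neg, one_smul, one_smul, neg_one_smul,
      neg_one_smul]
    ring
  · rw [hm, hm, hdab]
  · rw [hm, hm, hdcd]

end Cfsg.Agent.Classification.QDW.RegSec
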