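import Mathlib
import Cfsg.Agent.Classification.QDW.RegQuad
import Cfsg.Agent.Blocks.Deflate
import Cfsg.Agent.S0907
import Cfsg.Agent.S0909
import Cfsg.Agent.S0941

/-!
# The block of `C / ⟨t⟩` containing `a`, `b`
-/

set_option autoImplicit false
set_option linter.unusedSectionVars false

open Cfsg
open scoped ComplexConjugate

namespace Cfsg.Agent.Classification.QDW.RegSec

open Cfsg.Agent.Characters Cfsg.Agent.Characters.Core Cfsg.Agent.Blocks.Local
open Cfsg.Agent.Blocks.ExtendedFMT (conjL conjL_coe compIrr compIrr_apply)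
open Cfsg.Agent.Classification.BGIsometry
open RegBase RegDeg

universe w

variable {C : Type w} [Group C] {t u s : C} {W : Subgroup C} [Fintype C]

section Quad

variable {h : Cen t u s W} {β : IrrCharacter W} {a b c d : IrrCharacter C}

theorem Quad.sub_ab (q : Quad h β a b c d) (x : C) :
    2 * ((a : C → ℂ) x - (b : C → ℂ) x) = E W u (β : W → ℂ) x + E W u (h.tw β : W → ℂ) x := by
  rw [q.e₁, q.e₂]
  simp only [Pi.add_apply, Pi.sub_apply]
  ring

theorem Quad.sub_cd (q : Quad h β a b c d) (x : C) :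
    2 * ((c : C → ℂ) x - (d : C → ℂ) x) = E W u (β : W → ℂ) x - E W u (h.tw β : W → ℂ) x := by
  rw [q.e₁, q.e₂]
  simp only [Pi.add_apply, Pi.sub_apply]
  ring

theorem Quad.sub_ab_uy (q : Quad h β a b c d) (y : W) :
    (a : C → ℂ) (u * y) - (b : C → ℂ) (u * y) =
      2 * ((β : W → ℂ) y + (h.tw β : W → ℂ) y) := by
  have h1 := q.sub_ab (u * y)
  rw [h.E_uy (isIrr_isClassFunction β.2), h.E_uy (isIrr_isClassFunction (h.tw β).2)] at h1
  linear_combination h1 / 2

theorem Quad.sub_cd_uy (q : Quad h β a b c d) (y : W) :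
    (c : C → ℂ) (u * y) - (d : C → ℂ) (u * y) =
      2 * ((β : W → ℂ) y - (h.tw β : W → ℂ) y) := by
  have h1 := q.sub_cd (u * y)
  rw [h.E_uy (isIrr_isClassFunction β.2), h.E_uy (isIrr_isClassFunction (h.tw β).2)] at h1
  linear_combination h1 / 2

theorem Quad.sub_ab_zero (q : Quad h β a b c d) {x : C}
    (hx : ∀ (g : C) (y : W), g * (u * y) * g⁻¹ ≠ x) : (a : C → ℂ) x = (b : C → ℂ) x := by
  have h1 := q.sub_ab x
  rw [h.E_zero _ hx, h.E_zero _ hx] at h1
  linear_combination h1 / 2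

theorem Quad.sub_cd_zero (q : Quad h β a b c d) {x : C}
    (hx : ∀ (g : C) (y : W), g * (u * y) * g⁻¹ ≠ x) : (c : C → ℂ) x = (d : C → ℂ) x := by
  have h1 := q.sub_cd x
  rw [h.E_zero _ hx, h.E_zero _ hx] at h1
  linear_combination h1 / 2

theorem Cen.not_odd_uy (h : Cen t u s W) (g : C) (y : W) :
    ¬ Odd (orderOf (g * (u * (y : C)) * g⁻¹)) := by
  intro h1
  rw [orderOf_conj] at h1
  have h2 : (u * (y : C)) ^ (Nat.card W * orderOf (u * (y : C))) = 1 := by
    rw [mul_comm, pow_mul, pow_orderOf_eq_one, one_pow]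
  rw [pow_mul, h.pow_uy] at h2
  obtain ⟨k, hk⟩ := h1
  rw [hk, pow_succ, pow_mul, _root_.sq, h.vw.u_sq, one_pow, one_mul] at h2
  exact h.vw.u_ne h2

theorem Quad.eq_ab_odd (q : Quad h β a b c d) {x : C} (hx : Odd (orderOf x)) :
    (a : C → ℂ) x = (b : C → ℂ) x :=
  q.sub_ab_zero fun g y h1 => h.not_odd_uy g y (h1 ▸ hx)

theorem Quad.eq_cd_odd (q : Quad h β a b c d) {x : C} (hx : Odd (orderOf x)) :
    (c : C → ℂ) x = (d : C → ℂ) x :=
  q.sub_cd_zero fun g y h1 => h.not_odd_uy g y (h1 ▸ hx)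

theorem Quad.ne_ac (q : Quad h β a b c d) : a ≠ c := by
  rintro rfl
  have h1 := q.ta 1
  have h2 := q.tc 1
  have h3 : (a : C → ℂ) 1 ≠ 0 := isIrr_apply_one_ne_zero a.2
  apply h3
  rw [h1] at h2
  linear_combination h2 / 2

theorem Quad.ne_of_sign {α γ : IrrCharacter C} (h1 : ∀ x, (α : C → ℂ) (t * x) = (α : C → ℂ) x)
    (h2 : ∀ x, (γ : C → ℂ) (t * x) = -(γ : C → ℂ) x) : α ≠ γ := by
  rintro rfl
  have h3 : (α : C → ℂ) 1 ≠ 0 := isIrr_apply_one_ne_zero α.2
  apply h3
  have h4 := h1 1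
  rw [h2 1] at h4
  linear_combination -h4 / 2

/-- The coefficient of an irreducible character at `β`. -/
theorem Quad.coef (q : Quad h β a b c d) [Fintype W] (ψ : IrrCharacter C) :
    classInner (fun y : W => (ψ : C → ℂ) (u * y)) (β : W → ℂ) =
      (if a = ψ then 1 else 0) - (if b = ψ then 1 else 0) +
        ((if c = ψ then 1 else 0) - (if d = ψ then 1 else 0)) := by
  have h1 := h.inner_E (β : W → ℂ) (isIrr_isClassFunction ψ.2)
  rw [q.e₁, classInner_add_left, classInner_sub_left, classInner_sub_left,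
    classInner_irr a.2 ψ.2, classInner_irr b.2 ψ.2, classInner_irr c.2 ψ.2,
    classInner_irr d.2 ψ.2] at h1
  simp only [← Subtype.ext_iff] at h1
  rw [← classInner_conj_symm, ← h1]
  split_ifs <;> simp

/-- The multiplicity of `β` in `ψ` is odd exactly for `a`, `b`, `c`, `d`. -/
theorem Quad.exists_mult (q : Quad h β a b c d) [Fintype W] (ψ : IrrCharacter C) :
    ∃ m : ℤ, classInner (fun y : W => (ψ : C → ℂ) y) (β : W → ℂ) = m ∧
      (Odd m ↔ ψ = a ∨ ψ = b ∨ ψ = c ∨ ψ = d) := by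
  obtain ⟨n, m, hn, hm, hnm⟩ := exists_coef h.vw.u_sq W h.vw.W_u (isIrr_isCharacter ψ.2) β
  refine ⟨m, hm, ?_⟩
  have h2 : Odd m ↔ Odd n := by
    rw [Int.even_sub, ← Int.not_odd_iff_even, ← Int.not_odd_iff_even] at hnm
    tauto
  rw [h2]
  rw [q.coef] at hn
  have hac := q.ne_ac
  have had := Quad.ne_of_sign q.ta q.td
  have hbc := Quad.ne_of_sign q.tb q.tc
  have hbd := Quad.ne_of_sign q.tb q.td
  have hab := q.ab
  have hcd := q.cd
  by_cases h1 : ψ = a
  · subst h1
    rw [if_pos rfl, if_neg (Ne.symm hab), if_neg (Ne.symm hac), if_neg (Ne.symm had)] at hn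
    have : n = 1 := by
      have h9 : (n : ℂ) = 1 := by rw [← hn]; norm_num
      exact_mod_cast h9
    simp [this]
  by_cases h3 : ψ = b
  · subst h3
    rw [if_neg hab, if_pos rfl, if_neg (Ne.symm hbc), if_neg (Ne.symm hbd)] at hn
    have : n = -1 := by
      have h9 : (n : ℂ) = ((-1 : ℤ) : ℂ) := by rw [← hn]; norm_num
      exact_mod_cast h9
    simp [this]
  by_cases h4 : ψ = c
  · subst h4
    rw [if_neg hac, if_neg hbc, if_pos rfl, if_neg (Ne.symm hcd)] at hn
    have : n = 1 := by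
      have h9 : (n : ℂ) = 1 := by rw [← hn]; norm_num
      exact_mod_cast h9
    simp [this]
  by_cases h5 : ψ = d
  · subst h5
    rw [if_neg had, if_neg hbd, if_neg hcd, if_pos rfl] at hn
    have : n = -1 := by
      have h9 : (n : ℂ) = ((-1 : ℤ) : ℂ) := by rw [← hn]; norm_num
      exact_mod_cast h9
    simp [this]
  rw [if_neg (Ne.symm h1), if_neg (Ne.symm h3), if_neg (Ne.symm h4), if_neg (Ne.symm h5)] at hn
  have : n = 0 := by
    have h9 : (n : ℂ) = 0 := by rw [← hn]; norm_num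
    exact_mod_cast h9
  simp [this, h1, h3, h4, h5]

end Quad

section Quotient

variable {h : Cen t u s W} {β : IrrCharacter W} {a b c d : IrrCharacter C} {M : Ideal AlgInt}

theorem Cen.normal_t (h : Cen t u s W) : (Subgroup.zpowers t).Normal := by
  constructor
  intro n hn g
  obtain ⟨k, rfl⟩ := Subgroup.mem_zpowers_iff.1 hn
  have h1 : g * t ^ k * g⁻¹ = t ^ k := by
    have h2 : Commute g t := (h.t_comm g).symm
    rw [(h2.zpow_right k).eq, mul_inv_cancel_right]
  rw [h1]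
  exact hn

theorem Cen.mem_zpowers (h : Cen t u s W) {x : C} (hx : x ∈ Subgroup.zpowers t) :
    x = 1 ∨ x = t :=
  GlauberTwo.mem_zpowers_two h.vw.t_sq hx

theorem Cen.sum_zpowers (h : Cen t u s W) [Fintype (Subgroup.zpowers t)] (f : C → ℂ) :
    ∑ n : Subgroup.zpowers t, f n = f 1 + f t := by
  have h3 : ∑ k : Subgroup.zpowers t, f k =
      f (⟨1, one_mem _⟩ : Subgroup.zpowers t) +
      f (⟨t, Subgroup.mem_zpowers t⟩ : Subgroup.zpowers t) := by
    refine Fintype.sum_eq_add _ _ ?_ ?_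
    · intro h4
      exact h.vw.t_ne (congrArg Subtype.val h4).symm
    · rintro ⟨k, hk⟩ ⟨h4, h5⟩
      exfalso
      rcases h.mem_zpowers hk with rfl | rfl
      · exact h4 rfl
      · exact h5 rfl
  exact h3

/-- Deflation of the characters on which `t` acts trivially. -/
theorem Cen.exists_defl (h : Cen t u s W) [(Subgroup.zpowers t).Normal] {ψ : IrrCharacter C}
    (hψ : ∀ x, (ψ : C → ℂ) (t * x) = (ψ : C → ℂ) x) :
    ∃ ψ' : IrrCharacter (C ⧸ Subgroup.zpowers t),
      (ψ : C → ℂ) = (ψ' : C ⧸ Subgroup.zpowers t → ℂ) ∘ QuotientGroup.mk := by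
  have := Fintype.ofFinite (Subgroup.zpowers t)
  refine Cfsg.Agent.Blocks.Deflate.exists_deflation (Subgroup.zpowers t) ψ ψ.2 ?_
  rw [h.sum_zpowers]
  have h1 := hψ 1
  rw [mul_one] at h1
  rw [h1, ← two_mul]
  exact mul_ne_zero (by norm_num) (isIrr_apply_one_ne_zero ψ.2)

theorem Cen.card_quot (h : Cen t u s W) :
    Nat.card C = 2 * Nat.card (C ⧸ Subgroup.zpowers t) := by
  rw [Subgroup.card_eq_card_quotient_mul_card_subgroup (Subgroup.zpowers t), Nat.card_zpowers,
    orderOf_eq_prime (p := 2) (by rw [_root_.sq, h.vw.t_sq]) h.vw.t_ne, mul_comm]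

/-- If neither `g` nor `t g` has odd order then the image of `g` in `C / ⟨t⟩` has even order. -/
theorem Cen.two_dvd_orderOf (h : Cen t u s W) [(Subgroup.zpowers t).Normal] {g : C}
    (h1 : ¬ Odd (orderOf g)) (h2 : ¬ Odd (orderOf (t * g))) :
    2 ∣ orderOf (g : C ⧸ Subgroup.zpowers t) := by
  rw [← even_iff_two_dvd, ← Nat.not_odd_iff_even]
  intro h3
  have h4 : g ^ orderOf (g : C ⧸ Subgroup.zpowers t) ∈ Subgroup.zpowers t := by
    rw [← QuotientGroup.eq_one_iff, QuotientGroup.mk_pow, pow_orderOf_eq_one]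
  rcases h.mem_zpowers h4 with h5 | h5
  · exact h1 (Odd.of_dvd_nat h3 (orderOf_dvd_of_pow_eq_one h5))
  · refine h2 (Odd.of_dvd_nat h3 (orderOf_dvd_of_pow_eq_one ?_))
    have h6 : Commute t g := h.t_comm g
    obtain ⟨k, hk⟩ := h3
    rw [h6.mul_pow, h5, hk, pow_succ, pow_mul, _root_.sq, h.vw.t_sq, one_pow, one_mul, h.vw.t_sq]

theorem finsum_pair {G : Type*} [Group G] {α γ : IrrCharacter G} (hne : α ≠ γ)
    (f : IrrCharacter G → ℂ) : ∑ᶠ χ ∈ ({α, γ} : Set (IrrCharacter G)), f χ = f α + f γ :=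
  finsum_mem_pair hne

/-- **Stage 1**: `a + b` vanishes at the elements `g` with `g`, `t g` of even order. -/
theorem Quad.quotient [Fintype W] (q : Quad h β a b c d) (hβ : h.vw.Reg β)
    (hM : IsPModular 2 M) :
    (∀ g, ¬ Odd (orderOf g) → ¬ Odd (orderOf (t * g)) →
      (a : C → ℂ) g + (b : C → ℂ) g = 0) ∧
    b ∈ blockOf M (a : C → ℂ) ∧
    ∀ ψ ∈ blockOf M (a : C → ℂ), (∀ x, (ψ : C → ℂ) (t * x) = (ψ : C → ℂ) x) → ψ = a ∨ ψ = b := by
  classical
  have hMp := isPrime_of_isPModular hM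
  have hF2 : Fact (Nat.Prime 2) := ⟨Nat.prime_two⟩
  have hN := h.normal_t
  obtain ⟨a', ha'⟩ := h.exists_defl q.ta
  obtain ⟨b', hb'⟩ := h.exists_defl q.tb
  have hab' : a' ≠ b' := by
    rintro rfl
    exact q.ab (Subtype.ext (ha'.trans hb'.symm))
  obtain ⟨D, hD0, hD⟩ := isIrr_apply_one a.2
  have hDb : (b : C → ℂ) 1 = D := by rw [← q.one_ab, hD]
  have haa : ∀ g : C, (a' : C ⧸ Subgroup.zpowers t → ℂ) (g : C ⧸ Subgroup.zpowers t) =
      (a : C → ℂ) g := fun g => (congrFun ha' g).symm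
  have hbb : ∀ g : C, (b' : C ⧸ Subgroup.zpowers t → ℂ) (g : C ⧸ Subgroup.zpowers t) =
      (b : C → ℂ) g := fun g => (congrFun hb' g).symm
  have ha1 : (a' : C ⧸ Subgroup.zpowers t → ℂ) 1 = D := by
    rw [← hD]; exact haa 1
  have hb1 : (b' : C ⧸ Subgroup.zpowers t → ℂ) 1 = D := by
    rw [← hDb]; exact hbb 1
  -- `a + b ∈ 2 O`
  have hint : ∀ g : C, ∃ z : ℂ, IsIntegral ℤ z ∧ (a : C → ℂ) g + (b : C → ℂ) g = 2 * z := by
    intro g
    by_cases hg : ∃ (x : C) (y : W), x * (u * y) * x⁻¹ = g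
    · obtain ⟨x, y, rfl⟩ := hg
      rw [isIrr_isClassFunction a.2, isIrr_isClassFunction b.2]
      refine ⟨(b : C → ℂ) (u * y) + ((β : W → ℂ) y + (h.tw β : W → ℂ) y), ?_, ?_⟩
      · exact (isIntegral_irr b.2 _).add
          ((isIntegral_irr β.2 _).add (isIntegral_irr (h.tw β).2 _))
      · have h1 := q.sub_ab_uy y
        linear_combination h1
    · push Not at hg
      refine ⟨(b : C → ℂ) g, isIntegral_irr b.2 _, ?_⟩
      rw [q.sub_ab_zero hg]
      ring
  -- the degree lemma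
  obtain ⟨m, hm, hodd⟩ := q.exists_mult a
  have hmodd : Odd m := hodd.2 (Or.inl rfl)
  have hm' : ∑ y : W, (a : C → ℂ) y * conj ((β : W → ℂ) y) = Nat.card W * m := by
    rw [← hm, classInner_def, ← mul_assoc, mul_inv_cancel₀ card_ne_zero_complex, one_mul]
  obtain ⟨k, o, ho, hk⟩ := Nat.exists_eq_two_pow_mul_odd
    (n := Nat.card C) Nat.card_pos.ne'
  obtain ⟨e, he⟩ := dvd_four_mul h.vw hM a.2 hβ hm' hmodd hD
    (k := k) (by rw [hk]; exact dvd_mul_right _ _)
  -- `{a', b'}` is a union of blocks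
  have hA : ∀ g : C ⧸ Subgroup.zpowers t, MemLocalRing M
      (blockCoeff ({a', b'} : Set (IrrCharacter (C ⧸ Subgroup.zpowers t))) g) := by
    intro g
    obtain ⟨g, rfl⟩ := QuotientGroup.mk_surjective g
    obtain ⟨z, hz, hz2⟩ := hint g
    rw [Cfsg.Agent.Blocks.Basic.blockCoeff_def, finsum_pair hab', ha1, hb1, haa, hbb,
      ← mul_add, ← map_add, hz2]
    have h1 : (Nat.card (C ⧸ Subgroup.zpowers t) : ℂ)⁻¹ * ((D : ℂ) * conj (2 * z)) =
        (o : ℂ)⁻¹ * (e * conj z) := by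
      have h2 : (2 : ℂ) * Nat.card (C ⧸ Subgroup.zpowers t) = 2 ^ k * o := by
        have h3 := h.card_quot
        rw [hk] at h3
        exact_mod_cast h3.symm
      have h3 : (4 : ℂ) * D = 2 ^ k * e := by exact_mod_cast he
      have h4 : (Nat.card (C ⧸ Subgroup.zpowers t) : ℂ) ≠ 0 := card_ne_zero_complex
      have h5 : (o : ℂ) ≠ 0 := by
        intro h6
        rw [h6, mul_zero] at h2
        exact (mul_ne_zero two_ne_zero h4) h2
      have h6 : (2 : ℂ) ^ k ≠ 0 := pow_ne_zero _ two_ne_zero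
      have hc2 : conj (2 : ℂ) = 2 := map_ofNat _ 2
      rw [map_mul, hc2]
      rw [inv_mul_eq_iff_eq_mul₀ h4]
      have h7 : (Nat.card (C ⧸ Subgroup.zpowers t) : ℂ) = 2 ^ k * o / 2 := by
        rw [← h2]; ring
      rw [h7]
      field_simp
      linear_combination conj z * h3
    rw [h1]
    exact memLocalRing_mul (memLocalRing_inv_natCast hM ho.not_two_dvd_nat)
      (memLocalRing_mul (memLocalRing_natCast _)
        (memLocalRing_of_isIntegral (isIntegral_conj hz)))
  have hsub := Cfsg.Agent.S0909.result 2 M hM {a', b'} hA a' (Set.mem_insert _ _)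
  have hself := Cfsg.Agent.Blocks.Basic.mem_blockOf_self (M := M) a'
  have hblk : IsPBlock M (blockOf M (a' : C ⧸ Subgroup.zpowers t → ℂ)) := ⟨a', rfl⟩
  -- the image of `u y` has even order
  have hue : ∀ y : W, 2 ∣ orderOf ((u * y : C) : C ⧸ Subgroup.zpowers t) := by
    intro y
    refine h.two_dvd_orderOf ?_ ?_
    · have h1 := h.not_odd_uy 1 y
      simpa using h1
    · intro h1
      have h2 : t * (u * (y : C)) = s * (u * ((h.vw.conj h.sN).symm y : W)) * s⁻¹ := by
        have h3 : s * (u * ((h.vw.conj h.sN).symm y : W)) * s⁻¹ =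
            (s * u * s⁻¹) * (s * ((h.vw.conj h.sN).symm y : W) * s⁻¹) := by group
        have h4 : s * ((h.vw.conj h.sN).symm y : W) * s⁻¹ = (y : C) := by
          have h5 := h.vw.conj_coe h.sN ((h.vw.conj h.sN).symm y)
          rw [MulEquiv.apply_symm_apply] at h5
          exact h5.symm
        rw [h3, h4, h.s_conj, mul_assoc]
      rw [h2] at h1
      exact h.not_odd_uy s _ h1
  have hb'mem : b' ∈ blockOf M (a' : C ⧸ Subgroup.zpowers t → ℂ) := by
    by_contra hcon
    have h1 : blockOf M (a' : C ⧸ Subgroup.zpowers t → ℂ) = {a'} := by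
      apply Set.Subset.antisymm
      · intro ψ hψ
        rcases hsub hψ with h2 | h2
        · exact h2
        · exact absurd (h2 ▸ hψ) hcon
      · intro ψ hψ
        rw [Set.mem_singleton_iff.1 hψ]
        exact hself
    have h2 : ∀ y : W, (a : C → ℂ) (u * y) = 0 := by
      intro y
      have h3 := Cfsg.Agent.S0907.result 2 M hM _ hblk 1 _ (by rw [orderOf_one]; norm_num) (hue y)
      rw [h1, finsum_mem_singleton, ha1, haa] at h3
      rcases mul_eq_zero.1 h3 with h4 | h4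
      · exact absurd (by exact_mod_cast h4) hD0.ne'
      · exact (map_eq_zero _).1 h4
    have h3 := q.coef a
    have h4 : (fun y : W => (a : C → ℂ) (u * y)) = 0 := funext h2
    rw [h4, classInner_zero_left, if_pos rfl, if_neg (Ne.symm q.ab), if_neg (Ne.symm q.ne_ac),
      if_neg (Ne.symm (Quad.ne_of_sign q.ta q.td))] at h3
    norm_num at h3
  have hblock : blockOf M (a' : C ⧸ Subgroup.zpowers t → ℂ) = {a', b'} := by
    apply Set.Subset.antisymm hsub
    intro ψ hψ
    rcases hψ with rfl | h2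
    · exact hself
    · rw [Set.mem_singleton_iff.1 h2]
      exact hb'mem
  -- comparison of blocks of `C` and of the quotient
  have h941 := (Cfsg.Agent.S0941.result 2 M hM (Subgroup.zpowers t) (by
    refine IsPGroup.of_card (n := 1) ?_
    rw [Nat.card_zpowers, orderOf_eq_prime (p := 2) (by rw [_root_.sq, h.vw.t_sq]) h.vw.t_ne]
    norm_num) (by
    refine ⟨0, ?_⟩
    have h1 : Subgroup.centralizer ((Subgroup.zpowers t : Subgroup C) : Set C) = ⊤ := by
      rw [Subgroup.centralizer_eq_top_iff_subset]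
      intro x hx
      rw [SetLike.mem_coe, Subgroup.mem_center_iff]
      intro g
      rcases h.mem_zpowers hx with rfl | rfl
      · simp
      · exact (h.t_comm g).symm
    rw [h1]
    simp)).1
  refine ⟨?_, ?_, ?_⟩
  · intro g hg1 hg2
    have h3 := Cfsg.Agent.S0907.result 2 M hM _ hblk 1 _ (by rw [orderOf_one]; norm_num)
      (h.two_dvd_orderOf hg1 hg2)
    rw [hblock, finsum_pair hab', ha1, hb1, haa, hbb, ← mul_add, ← map_add] at h3
    rcases mul_eq_zero.1 h3 with h4 | h4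
    · exact absurd (by exact_mod_cast h4) hD0.ne'
    · exact (map_eq_zero _).1 h4
  · have h1 := (h941 a' b').1 hb'mem
    rw [← ha', ← hb'] at h1
    exact h1
  · intro ψ hψ hψt
    obtain ⟨ψ', hψ'⟩ := h.exists_defl hψt
    have h1 : SameBlock M (a : C → ℂ) (ψ : C → ℂ) := hψ
    rw [ha', hψ'] at h1
    have h2 : ψ' ∈ blockOf M (a' : C ⧸ Subgroup.zpowers t → ℂ) := (h941 a' ψ').2 h1
    rw [hblock] at h2
    rcases h2 with h3 | h3
    · left
      apply Subtype.ext
      rw [hψ', ha', h3]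
    · right
      apply Subtype.ext
      rw [hψ', hb', Set.mem_singleton_iff.1 h3]

end Quotient

end Cfsg.Agent.Classification.QDW.RegSec
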