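import Mathlib
import Cfsg.Agent.Classification.QDW.RegBlk
import Cfsg.Agent.Blocks.PPart
import Cfsg.Agent.S0925
import Cfsg.Agent.S0961

/-!
# The block of `C` containing `a`, `b`, `c`, `d`

`Quad.full`: `a`, `b`, `c`, `d` agree on the elements of odd order, and `a + b`, `c + d` vanish at
the elements `g` with `g`, `t g` of even order.
-/

set_option autoImplicit false
set_option linter.unusedSectionVars false

open Cfsg
open scoped ComplexConjugate

namespace Cfsg.Agent.Classification.QDW.RegSec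

open Cfsg.Agent.Characters Cfsg.Agent.Characters.Core Cfsg.Agent.Blocks.Local
open Cfsg.Agent.Blocks.ExtendedFMT (conjL conjL_coe compIrr compIrr_apply)
open Cfsg.Agent.Classification.BGIsometry
open RegBase RegDeg

universe w

variable {C : Type w} [Group C] {t u s : C} {W : Subgroup C} [Fintype C]
  {h : Cen t u s W} {β : IrrCharacter W} {a b c d : IrrCharacter C} {M : Ideal AlgInt}

theorem isPPart_one {y : C} (hy : Odd (orderOf y)) : IsPPart 2 y 1 :=
  ⟨y, one_mul y, Commute.one_left y, ⟨0, by simp⟩, hy.not_two_dvd_nat⟩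

theorem Cen.isPPart_t (h : Cen t u s W) {y : C} (hy : Odd (orderOf y)) : IsPPart 2 (t * y) t :=
  ⟨y, rfl, h.t_comm y, ⟨1, (orderOf_eq_prime (p := 2) (by rw [_root_.sq, h.vw.t_sq])
    h.vw.t_ne).trans (pow_one 2).symm⟩, hy.not_two_dvd_nat⟩

theorem Cen.t_inv (h : Cen t u s W) : t⁻¹ = t := inv_eq_of_mul_eq_one_left h.vw.t_sq

/-- Sums over the block of `a`. -/
theorem Quad.sum_block [Fintype W] [Fintype (IrrCharacter C)] (q : Quad h β a b c d)
    (hβ : h.vw.Reg β) (hM : IsPModular 2 M) (N : Finset (IrrCharacter C))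
    (hN : ∀ ψ, ψ ∈ N ↔ ψ ∈ blockOf M (a : C → ℂ) ∧
      ∀ x, (ψ : C → ℂ) (t * x) = -(ψ : C → ℂ) x) (f : IrrCharacter C → ℂ) :
    ∑ᶠ ψ ∈ blockOf M (a : C → ℂ), f ψ = ∑ ψ ∈ N, f ψ + (f a + f b) := by
  classical
  have hMp := isPrime_of_isPModular hM
  obtain ⟨-, hb, hab⟩ := q.quotient hβ hM
  have ha : a ∈ blockOf M (a : C → ℂ) := Cfsg.Agent.Blocks.Basic.mem_blockOf_self a
  rw [Cfsg.Agent.Blocks.ExtendedFMT.finsum_mem_eq_sum_filter']
  -- the sign of each member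
  have hsg : ∀ ψ : IrrCharacter C, (∀ x, (ψ : C → ℂ) (t * x) = (ψ : C → ℂ) x) ∨
      ∀ x, (ψ : C → ℂ) (t * x) = -(ψ : C → ℂ) x := by
    intro ψ
    obtain ⟨τ, h2 | h2, h3⟩ := Coef.central_sign h.vw.t_sq (fun x => h.t_comm x) ψ.2
    · left; intro x; rw [h3, h2, one_mul]
    · right; intro x; rw [h3, h2]; ring
  have hset : Finset.univ.filter (· ∈ blockOf M (a : C → ℂ)) = N ∪ {a, b} := by
    ext ψ
    rw [Finset.mem_filter, Finset.mem_union, hN, Finset.mem_insert, Finset.mem_singleton]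
    constructor
    · rintro ⟨-, h2⟩
      rcases hsg ψ with h3 | h3
      · exact Or.inr (hab ψ h2 h3)
      · exact Or.inl ⟨h2, h3⟩
    · rintro (h2 | rfl | rfl)
      · exact ⟨Finset.mem_univ _, h2.1⟩
      · exact ⟨Finset.mem_univ _, ha⟩
      · exact ⟨Finset.mem_univ _, hb⟩
  have hdisj : Disjoint N {a, b} := by
    rw [Finset.disjoint_left]
    intro ψ h2 h3
    rw [hN] at h2
    rw [Finset.mem_insert, Finset.mem_singleton] at h3
    rcases h3 with rfl | rfl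
    · exact Quad.ne_of_sign q.ta h2.2 rfl
    · exact Quad.ne_of_sign q.tb h2.2 rfl
  rw [hset, Finset.sum_union hdisj, Finset.sum_pair q.ab]

/-- The members of the block on which `t` is `-1`: sums of products of values at elements of odd
order. -/
theorem Quad.sum_minus [Fintype W] [Fintype (IrrCharacter C)] (q : Quad h β a b c d)
    (hβ : h.vw.Reg β) (hM : IsPModular 2 M) (N : Finset (IrrCharacter C))
    (hN : ∀ ψ, ψ ∈ N ↔ ψ ∈ blockOf M (a : C → ℂ) ∧
      ∀ x, (ψ : C → ℂ) (t * x) = -(ψ : C → ℂ) x) {y y' : C}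
    (hy : Odd (orderOf y)) (hy' : Odd (orderOf y')) :
    ∑ ψ ∈ N, (ψ : C → ℂ) y * conj ((ψ : C → ℂ) y') =
      2 * ((a : C → ℂ) y * conj ((a : C → ℂ) y')) := by
  have hF2 : Fact (Nat.Prime 2) := ⟨Nat.prime_two⟩
  have hne : ¬ IsConj (1 : C) t := by
    intro h1
    rw [isConj_one_right] at h1
    exact h.vw.t_ne h1
  have h1 := (Cfsg.Agent.S0925.result 2 M hM).2 y (t * y') 1 t (isPPart_one hy) (h.isPPart_t hy')
    hne _ ⟨a, rfl⟩
  have hinv : (t * y')⁻¹ = t * y'⁻¹ := by rw [mul_inv_rev, h.t_inv, h.t_comm]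
  rw [hinv, q.sum_block hβ hM N hN, q.ta, q.tb] at h1
  have h2 : ∀ ψ ∈ N, (ψ : C → ℂ) y * (ψ : C → ℂ) (t * y'⁻¹) =
      -((ψ : C → ℂ) y * conj ((ψ : C → ℂ) y')) := by
    intro ψ hψ
    rw [((hN ψ).1 hψ).2, isCharacter_apply_inv (isIrr_isCharacter ψ.2)]
    ring
  rw [Finset.sum_congr rfl h2, Finset.sum_neg_distrib, ← q.eq_ab_odd hy,
    isCharacter_apply_inv (isIrr_isCharacter a.2), isCharacter_apply_inv (isIrr_isCharacter b.2),
    ← q.eq_ab_odd hy'] at h1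
  linear_combination -h1

/-- The members on which `t` is `-1` are multiples of `a` on the elements of odd order. -/
theorem Quad.prop_minus [Fintype W] [Fintype (IrrCharacter C)] (q : Quad h β a b c d)
    (hβ : h.vw.Reg β) (hM : IsPModular 2 M) (N : Finset (IrrCharacter C))
    (hN : ∀ ψ, ψ ∈ N ↔ ψ ∈ blockOf M (a : C → ℂ) ∧
      ∀ x, (ψ : C → ℂ) (t * x) = -(ψ : C → ℂ) x) {y : C} (hy : Odd (orderOf y))
    {ψ : IrrCharacter C} (hψ : ψ ∈ N) :
    (a : C → ℂ) 1 * (ψ : C → ℂ) y = (a : C → ℂ) y * (ψ : C → ℂ) 1 := by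
  have h1o : Odd (orderOf (1 : C)) := by rw [orderOf_one]; exact odd_one
  have hyy := q.sum_minus hβ hM N hN hy hy
  have hy1 := q.sum_minus hβ hM N hN hy h1o
  have h1y := q.sum_minus hβ hM N hN h1o hy
  have h11 := q.sum_minus hβ hM N hN h1o h1o
  obtain ⟨D, hD0, hD⟩ := isIrr_apply_one a.2
  have hz : ∑ φ ∈ N, ((a : C → ℂ) 1 * (φ : C → ℂ) y - (a : C → ℂ) y * (φ : C → ℂ) 1) *
      conj ((a : C → ℂ) 1 * (φ : C → ℂ) y - (a : C → ℂ) y * (φ : C → ℂ) 1) = 0 := by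
    have h2 : ∀ φ : IrrCharacter C,
        ((a : C → ℂ) 1 * (φ : C → ℂ) y - (a : C → ℂ) y * (φ : C → ℂ) 1) *
        conj ((a : C → ℂ) 1 * (φ : C → ℂ) y - (a : C → ℂ) y * (φ : C → ℂ) 1) =
        ((a : C → ℂ) 1 * conj ((a : C → ℂ) 1)) * ((φ : C → ℂ) y * conj ((φ : C → ℂ) y)) -
        ((a : C → ℂ) 1 * conj ((a : C → ℂ) y)) * ((φ : C → ℂ) y * conj ((φ : C → ℂ) 1)) -
        ((a : C → ℂ) y * conj ((a : C → ℂ) 1)) * ((φ : C → ℂ) 1 * conj ((φ : C → ℂ) y)) +
        ((a : C → ℂ) y * conj ((a : C → ℂ) y)) * ((φ : C → ℂ) 1 * conj ((φ : C → ℂ) 1)) := by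
      intro φ
      rw [map_sub, map_mul, map_mul]
      ring
    rw [Finset.sum_congr rfl fun φ _ => h2 φ, Finset.sum_add_distrib, Finset.sum_sub_distrib,
      Finset.sum_sub_distrib, ← Finset.mul_sum, ← Finset.mul_sum, ← Finset.mul_sum,
      ← Finset.mul_sum, hyy, hy1, h1y, h11]
    ring
  have hz' : ∑ φ ∈ N, Complex.normSq ((a : C → ℂ) 1 * (φ : C → ℂ) y -
      (a : C → ℂ) y * (φ : C → ℂ) 1) = 0 := by
    have h2 : ((∑ φ ∈ N, Complex.normSq ((a : C → ℂ) 1 * (φ : C → ℂ) y -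
      (a : C → ℂ) y * (φ : C → ℂ) 1) : ℝ) : ℂ) = 0 := by
      rw [Complex.ofReal_sum, ← hz]
      exact Finset.sum_congr rfl fun φ _ => (Complex.mul_conj _).symm
    exact_mod_cast h2
  have h3 := (Finset.sum_eq_zero_iff_of_nonneg fun φ _ => Complex.normSq_nonneg _).1 hz' ψ hψ
  rw [Complex.normSq_eq_zero] at h3
  exact sub_eq_zero.1 h3

/-- The norm of `a` on the elements of odd order is `1/4`. -/
theorem Quad.norm_odd [Fintype W] (q : Quad h β a b c d)
    (hβ : h.vw.Reg β) (hM : IsPModular 2 M) [DecidablePred fun x : C => Odd (orderOf x)] :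
    (Nat.card C : ℂ)⁻¹ * ∑ x : C, (if Odd (orderOf x) then
      (a : C → ℂ) x * conj ((a : C → ℂ) x) else 0) = 1 / 4 := by
  obtain ⟨hv, -, -⟩ := q.quotient hβ hM
  have h1 : classInner ((a : C → ℂ) + (b : C → ℂ)) ((a : C → ℂ) + (b : C → ℂ)) = 2 := by
    rw [classInner_add_left, classInner_add_right, classInner_add_right, classInner_irr_self a.2,
      classInner_irr_self b.2, classInner_irr_ne a.2 b.2 fun h2 => q.ab (Subtype.ext h2),
      classInner_irr_ne b.2 a.2 fun h2 => q.ab (Subtype.ext h2.symm)]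
    norm_num
  let o : C → ℂ := fun x => if Odd (orderOf x) then (a : C → ℂ) x * conj ((a : C → ℂ) x) else 0
  have h2 : ∀ x : C, ((a : C → ℂ) + (b : C → ℂ)) x * conj (((a : C → ℂ) + (b : C → ℂ)) x) =
      4 * o x + 4 * o (t * x) := by
    intro x
    have hnot : Odd (orderOf x) → ¬ Odd (orderOf (t * x)) := by
      intro h3 h4
      have h5 : (t * x) ^ (orderOf x * orderOf (t * x)) = 1 := by
        rw [mul_comm, pow_mul, pow_orderOf_eq_one, one_pow]
      have h6 : Commute t x := h.t_comm x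
      rw [h6.mul_pow, pow_mul x, pow_orderOf_eq_one, one_pow, mul_one] at h5
      obtain ⟨k, hk⟩ := h3.mul h4
      rw [hk, pow_succ, pow_mul, _root_.sq, h.vw.t_sq, one_pow, one_mul] at h5
      exact h.vw.t_ne h5
    rw [Pi.add_apply]
    by_cases h3 : Odd (orderOf x)
    · simp only [o, if_pos h3, if_neg (hnot h3)]
      rw [← q.eq_ab_odd h3, map_add]
      ring
    · by_cases h4 : Odd (orderOf (t * x))
      · simp only [o, if_neg h3, if_pos h4]
        have h5 := q.eq_ab_odd h4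
        rw [q.ta, q.tb] at h5
        rw [q.ta, ← h5, map_add]
        ring
      · simp only [o, if_neg h3, if_neg h4]
        rw [hv x h3 h4]
        ring
  rw [classInner_def, Finset.sum_congr rfl fun x _ => h2 x, Finset.sum_add_distrib,
    ← Finset.mul_sum, ← Finset.mul_sum] at h1
  have h3 : ∑ x : C, o (t * x) = ∑ x : C, o x := Equiv.sum_comp (Equiv.mulLeft t) o
  rw [h3] at h1
  change (Nat.card C : ℂ)⁻¹ * ∑ x : C, o x = 1 / 4
  linear_combination h1 / 8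

/-! ### Integers -/

/-- If `Σ m² = 2 k²` with `k` odd and at most two of the `m` are odd then both occur. -/
theorem mem_of_sum_sq {ι : Type*} [DecidableEq ι] (N : Finset ι) (m : ι → ℤ) {k : ℤ}
    (hk : Odd k) (hs : ∑ i ∈ N, m i ^ 2 = 2 * k ^ 2) {c d : ι} (hcd : c ≠ d)
    (ho : ∀ i ∈ N, Odd (m i) → i = c ∨ i = d) : (c ∈ N ∧ d ∈ N) ∧ Odd (m c) ∧ Odd (m d) := by
  classical
  have h1 : (∑ i ∈ N, m i ^ 2) ≡ ((N.filter fun i => Odd (m i)).card : ℤ) [ZMOD 4] := by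
    rw [Finset.card_filter]
    push_cast
    have h2 : ∀ i, m i ^ 2 ≡ (if Odd (m i) then 1 else 0) [ZMOD 4] := by
      intro i
      split_ifs with h3
      · obtain ⟨j, hj⟩ := h3
        rw [hj]
        have : (2 * j + 1) ^ 2 = 1 + 4 * (j ^ 2 + j) := by ring
        rw [this]
        exact (Int.modEq_iff_dvd.2 ⟨-(j ^ 2 + j), by ring⟩)
      · rw [Int.not_odd_iff_even] at h3
        obtain ⟨j, hj⟩ := h3
        rw [hj]
        exact (Int.modEq_iff_dvd.2 ⟨-(j ^ 2), by ring⟩)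
    exact Int.ModEq.sum fun i _ => h2 i
  have hsub : (N.filter fun i => Odd (m i)) ⊆ {c, d} := by
    intro i hi
    rw [Finset.mem_filter] at hi
    rw [Finset.mem_insert, Finset.mem_singleton]
    exact ho i hi.1 hi.2
  have hcard2 : ({c, d} : Finset ι).card = 2 := Finset.card_pair hcd
  have hle := Finset.card_le_card hsub
  rw [hcard2] at hle
  have h3 : (N.filter fun i => Odd (m i)).card = 2 := by
    rw [hs] at h1
    obtain ⟨j, hj⟩ := hk
    have h4 : 2 * k ^ 2 = 2 + 4 * (2 * j ^ 2 + 2 * j) := by rw [hj]; ring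
    rw [h4] at h1
    obtain ⟨l, hl⟩ := Int.modEq_iff_dvd.1 h1
    omega
  have heq : (N.filter fun i => Odd (m i)) = {c, d} :=
    Finset.eq_of_subset_of_card_le hsub (by rw [h3, hcard2])
  have hc : c ∈ N.filter fun i => Odd (m i) := by rw [heq]; simp
  have hd : d ∈ N.filter fun i => Odd (m i) := by rw [heq]; simp
  rw [Finset.mem_filter] at hc hd
  exact ⟨⟨hc.1, hd.1⟩, hc.2, hd.2⟩

/-- If moreover `k` divides all `m` then the sum consists of `m c = ± k`, `m d = ± k`. -/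
theorem eq_of_sum_sq {ι : Type*} [DecidableEq ι] (N : Finset ι) (m : ι → ℤ) {k : ℤ}
    (hs : ∑ i ∈ N, m i ^ 2 = 2 * k ^ 2) {c d : ι} (hcd : c ≠ d) (hc : c ∈ N) (hd : d ∈ N)
    (hc0 : m c ≠ 0) (hd0 : m d ≠ 0) (hdvd : ∀ i ∈ N, k ∣ m i) :
    m c ^ 2 = k ^ 2 ∧ m d ^ 2 = k ^ 2 ∧ ∀ i ∈ N, i ≠ c → i ≠ d → m i = 0 := by
  have hsub : ({c, d} : Finset ι) ⊆ N := by
    intro i hi
    rw [Finset.mem_insert, Finset.mem_singleton] at hi
    rcases hi with rfl | rfl
    · exact hc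
    · exact hd
  have h3 : ∑ i ∈ N \ {c, d}, m i ^ 2 + ∑ i ∈ ({c, d} : Finset ι), m i ^ 2 = 2 * k ^ 2 := by
    rw [Finset.sum_sdiff hsub, hs]
  rw [Finset.sum_pair hcd] at h3
  have h4 : 0 ≤ ∑ i ∈ N \ {c, d}, m i ^ 2 := Finset.sum_nonneg fun i _ => sq_nonneg _
  have hge : ∀ i ∈ N, m i ≠ 0 → k ^ 2 ≤ m i ^ 2 := by
    intro i hi h0
    exact Int.le_of_dvd (by positivity) (pow_dvd_pow_of_dvd (hdvd i hi) 2)
  have h5 := hge c hc hc0
  have h6 := hge d hd hd0
  have h7 : ∑ i ∈ N \ {c, d}, m i ^ 2 = 0 := by linarith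
  refine ⟨by linarith, by linarith, fun i hi h8 h9 => ?_⟩
  have h11 := (Finset.sum_eq_zero_iff_of_nonneg fun i _ => sq_nonneg (m i)).1 h7 i (by
    rw [Finset.mem_sdiff, Finset.mem_insert, Finset.mem_singleton]
    exact ⟨hi, by tauto⟩)
  exact pow_eq_zero_iff (two_ne_zero) |>.1 h11

/-- Integrality from the projective character `|C|₂ ψ` on the elements of odd order. -/
theorem exists_int_norm_odd (ψ : IrrCharacter C) [DecidablePred fun x : C => Odd (orderOf x)] :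
    ∃ j : ℤ, (2 : ℂ) ^ (Nat.card C).factorization 2 * ((Nat.card C : ℂ)⁻¹ * ∑ x : C,
      (if Odd (orderOf x) then (ψ : C → ℂ) x * conj ((ψ : C → ℂ) x) else 0)) = j := by
  have hF2 : Fact (Nat.Prime 2) := ⟨Nat.prime_two⟩
  obtain ⟨χ₁, χ₂, h1, h2, h3⟩ := Cfsg.Agent.S0961.result 2 ψ
  obtain ⟨n₁, hn₁⟩ := classInner_isNat h1 (isIrr_isCharacter ψ.2)
  obtain ⟨n₂, hn₂⟩ := classInner_isNat h2 (isIrr_isCharacter ψ.2)
  refine ⟨(n₁ : ℤ) - n₂, ?_⟩
  have h4 : classInner (fun x : C => if 2 ∣ orderOf x then 0 else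
      ((2 ^ (Nat.card C).factorization 2 : ℕ) : ℂ) * (ψ : C → ℂ) x) (ψ : C → ℂ) =
      ((n₁ : ℤ) - n₂ : ℤ) := by
    rw [h3, classInner_sub_left, hn₁, hn₂]
    push_cast
    rfl
  rw [← h4, classInner_def, mul_left_comm, Finset.mul_sum]
  congr 1
  refine Finset.sum_congr rfl fun x _ => ?_
  by_cases hx : Odd (orderOf x)
  · rw [if_pos hx, if_neg hx.not_two_dvd_nat]
    push_cast
    ring
  · rw [if_neg hx, if_pos (even_iff_two_dvd.1 (Nat.not_odd_iff_even.1 hx)), mul_zero, zero_mul]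

/-- **The four characters agree on the elements of odd order**, and `c + d` vanishes where `a + b`
does. -/
theorem Quad.full [Fintype W] (q : Quad h β a b c d) (hβ : h.vw.Reg β) (hM : IsPModular 2 M) :
    (∀ x, Odd (orderOf x) → (c : C → ℂ) x = (a : C → ℂ) x) ∧
    (∀ g, ¬ Odd (orderOf g) → ¬ Odd (orderOf (t * g)) →
      (c : C → ℂ) g + (d : C → ℂ) g = 0) := by
  classical
  have hF2 : Fact (Nat.Prime 2) := ⟨Nat.prime_two⟩
  have := finite_irr (G := C)
  have := Fintype.ofFinite (IrrCharacter C)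
  let N : Finset (IrrCharacter C) := Finset.univ.filter fun ψ => ψ ∈ blockOf M (a : C → ℂ) ∧
      ∀ x, (ψ : C → ℂ) (t * x) = -(ψ : C → ℂ) x
  have hN : ∀ ψ, ψ ∈ N ↔ ψ ∈ blockOf M (a : C → ℂ) ∧
      ∀ x, (ψ : C → ℂ) (t * x) = -(ψ : C → ℂ) x := by
    intro ψ
    simp only [N, Finset.mem_filter, Finset.mem_univ, true_and]
  obtain ⟨D, hD0, hD⟩ := isIrr_apply_one a.2
  choose m hm hodd using q.exists_mult
  have hde : ∀ ψ : IrrCharacter C, ∃ n : ℕ, 0 < n ∧ (ψ : C → ℂ) 1 = n := fun ψ =>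
    isIrr_apply_one ψ.2
  choose e he0 he using hde
  have h1o : Odd (orderOf (1 : C)) := by rw [orderOf_one]; exact odd_one
  have hprop : ∀ ψ ∈ N, ∀ y, Odd (orderOf y) →
      (D : ℂ) * (ψ : C → ℂ) y = (a : C → ℂ) y * (e ψ : ℂ) := by
    intro ψ hψ y hy
    rw [← hD, ← he]
    exact q.prop_minus hβ hM N hN hy hψ
  have hmaodd : Odd (m a) := (hodd a).2 (Or.inl rfl)
  have hma0 : m a ≠ 0 := by rintro h0; rw [h0] at hmaodd; exact absurd hmaodd (by decide)
  have hDZ : (D : ℤ) ≠ 0 := by exact_mod_cast hD0.ne'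
  -- multiplicities
  have hrel : ∀ ψ ∈ N, (D : ℤ) * m ψ = m a * e ψ := by
    intro ψ hψ
    have h2 : (D : ℂ) * classInner (fun y : W => (ψ : C → ℂ) y) (β : W → ℂ) =
        (e ψ : ℂ) * classInner (fun y : W => (a : C → ℂ) y) (β : W → ℂ) := by
      rw [classInner_def, classInner_def, mul_left_comm, mul_left_comm (e ψ : ℂ)]
      congr 1
      rw [Finset.mul_sum, Finset.mul_sum]
      refine Finset.sum_congr rfl fun y _ => ?_
      have h3 := hprop ψ hψ y (h.vw.odd_of_mem y.2)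
      linear_combination conj ((β : W → ℂ) y) * h3
    rw [hm, hm] at h2
    have h4 : (((D : ℤ) * m ψ : ℤ) : ℂ) = ((m a * e ψ : ℤ) : ℂ) := by
      push_cast
      rw [h2]; ring
    exact_mod_cast h4
  have hsumd : ∑ ψ ∈ N, (e ψ : ℤ) ^ 2 = 2 * (D : ℤ) ^ 2 := by
    have h2 := q.sum_minus hβ hM N hN h1o h1o
    have h3 : ((∑ ψ ∈ N, (e ψ : ℤ) ^ 2 : ℤ) : ℂ) = ((2 * (D : ℤ) ^ 2 : ℤ) : ℂ) := by
      push_cast
      rw [hD, Complex.conj_natCast] at h2
      rw [sq (D : ℂ), ← h2]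
      refine Finset.sum_congr rfl fun ψ _ => ?_
      rw [he, Complex.conj_natCast]
      ring
    exact_mod_cast h3
  have hsumm : ∑ ψ ∈ N, m ψ ^ 2 = 2 * m a ^ 2 := by
    apply mul_left_cancel₀ (pow_ne_zero 2 hDZ)
    rw [Finset.mul_sum]
    have h2 : ∀ ψ ∈ N, (D : ℤ) ^ 2 * m ψ ^ 2 = m a ^ 2 * (e ψ : ℤ) ^ 2 := by
      intro ψ hψ
      have := hrel ψ hψ
      linear_combination ((D : ℤ) * m ψ + m a * e ψ) * this
    rw [Finset.sum_congr rfl h2, ← Finset.mul_sum, hsumd]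
    ring
  obtain ⟨⟨hcN, hdN⟩, hmc, hmd⟩ := mem_of_sum_sq N m hmaodd hsumm q.cd (by
    intro ψ hψ hψo
    rcases (hodd ψ).1 hψo with rfl | rfl | h2
    · exact absurd rfl (Quad.ne_of_sign q.ta ((hN _).1 hψ).2)
    · exact absurd rfl (Quad.ne_of_sign q.tb ((hN _).1 hψ).2)
    · exact h2)
  -- divisibility
  have hdvd : ∀ ψ ∈ N, m a ∣ m ψ := by
    intro ψ hψ
    obtain ⟨j, hj⟩ := exists_int_norm_odd ψ
    have hno := q.norm_odd hβ hM
    have h2 : (D : ℂ) ^ 2 * ((Nat.card C : ℂ)⁻¹ * ∑ x : C,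
        (if Odd (orderOf x) then (ψ : C → ℂ) x * conj ((ψ : C → ℂ) x) else 0)) =
        (e ψ : ℂ) ^ 2 * (1 / 4) := by
      rw [← hno, mul_left_comm, mul_left_comm ((e ψ : ℂ) ^ 2)]
      congr 1
      rw [Finset.mul_sum, Finset.mul_sum]
      refine Finset.sum_congr rfl fun x _ => ?_
      split_ifs with hx
      · have h3 := hprop ψ hψ x hx
        have h4 : (D : ℂ) * conj ((ψ : C → ℂ) x) = conj ((a : C → ℂ) x) * (e ψ : ℂ) := by
          have := congrArg conj h3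
          rwa [map_mul, map_mul, Complex.conj_natCast, Complex.conj_natCast] at this
        linear_combination ((D : ℂ) * conj ((ψ : C → ℂ) x)) * h3 +
          ((a : C → ℂ) x * (e ψ : ℂ)) * h4
      · rw [mul_zero, mul_zero]
    have h3 : (4 : ℤ) * j * m a ^ 2 = 2 ^ (Nat.card C).factorization 2 * m ψ ^ 2 := by
      apply mul_left_cancel₀ (pow_ne_zero 2 hDZ)
      have h4 : (D : ℤ) ^ 2 * m ψ ^ 2 = m a ^ 2 * (e ψ : ℤ) ^ 2 := by
        have := hrel ψ hψ
        linear_combination ((D : ℤ) * m ψ + m a * e ψ) * this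
      have h5 : (4 : ℤ) * D ^ 2 * j = 2 ^ (Nat.card C).factorization 2 * (e ψ : ℤ) ^ 2 := by
        have h6 : (4 : ℂ) * D ^ 2 * j = 2 ^ (Nat.card C).factorization 2 * (e ψ : ℂ) ^ 2 := by
          rw [← hj]
          linear_combination (4 * (2 : ℂ) ^ (Nat.card C).factorization 2) * h2
        exact_mod_cast h6
      linear_combination (m a ^ 2) * h5 - (2 ^ (Nat.card C).factorization 2) * h4
    have h4 : m a ^ 2 ∣ 2 ^ (Nat.card C).factorization 2 * m ψ ^ 2 := ⟨4 * j, by rw [← h3]; ring⟩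
    have h5 : IsCoprime (m a ^ 2) (2 ^ (Nat.card C).factorization 2 : ℤ) := by
      refine IsCoprime.pow ?_
      rw [Int.isCoprime_iff_gcd_eq_one]
      have h6 : (m a).gcd 2 ∣ 2 := Int.gcd_dvd_natAbs_right _ _
      have h7 : (((m a).gcd 2 : ℕ) : ℤ) ∣ m a := Int.gcd_dvd_left _ _
      rcases (Nat.dvd_prime Nat.prime_two).1 h6 with h8 | h8
      · exact h8
      · rw [h8] at h7
        exact absurd (even_iff_two_dvd.2 h7) (Int.not_even_iff_odd.2 hmaodd)
    have h6 := h5.dvd_of_dvd_mul_left h4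
    exact (Int.pow_dvd_pow_iff two_ne_zero).1 h6
  obtain ⟨hc2, hd2, hz⟩ := eq_of_sum_sq N m hsumm q.cd hcN hdN
    (by rintro h0; rw [h0] at hmc; exact absurd hmc (by decide))
    (by rintro h0; rw [h0] at hmd; exact absurd hmd (by decide)) hdvd
  have hNeq : N = {c, d} := by
    ext ψ
    rw [Finset.mem_insert, Finset.mem_singleton]
    constructor
    · intro hψ
      by_contra hcon
      push Not at hcon
      have h2 := hrel ψ hψ
      rw [hz ψ hψ hcon.1 hcon.2, mul_zero] at h2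
      rcases mul_eq_zero.1 h2.symm with h3 | h3
      · exact hma0 h3
      · exact (he0 ψ).ne' (by exact_mod_cast h3)
    · rintro (rfl | rfl)
      · exact hcN
      · exact hdN
  have hec : e c = D := by
    have h2 := hrel c hcN
    have h3 : (m a) ^ 2 * ((e c : ℤ) ^ 2) = (m a) ^ 2 * (D : ℤ) ^ 2 := by
      rw [← hc2]
      have h4 : m c ^ 2 * (e c : ℤ) ^ 2 = m a ^ 2 * (e c : ℤ) ^ 2 := by rw [hc2]
      rw [h4]
      linear_combination -((D : ℤ) * m c + m a * e c) * h2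
    have h5 := mul_left_cancel₀ (pow_ne_zero 2 hma0) h3
    have h6 : (e c) ^ 2 = D ^ 2 := by exact_mod_cast h5
    exact Nat.pow_left_injective (n := 2) two_ne_zero h6
  have hD0' : (D : ℂ) ≠ 0 := by exact_mod_cast hD0.ne'
  have hca : ∀ x, Odd (orderOf x) → (c : C → ℂ) x = (a : C → ℂ) x := by
    intro x hx
    have h2 := hprop c hcN x hx
    rw [hec, mul_comm] at h2
    exact mul_right_cancel₀ hD0' h2
  refine ⟨hca, ?_⟩
  intro g hg1 hg2
  obtain ⟨x, hx⟩ := Cfsg.Agent.Blocks.PPart.exists_isPPart 2 g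
  have hne : ¬ IsConj x (1 : C) := by
    intro h2
    rw [isConj_one_left] at h2
    subst h2
    obtain ⟨y, hy1, -, -, hy2⟩ := hx
    rw [one_mul] at hy1
    subst hy1
    exact hg1 (Nat.odd_iff.2 (Nat.two_dvd_ne_zero.1 hy2))
  have h2 := (Cfsg.Agent.S0925.result 2 M hM).2 g 1 x 1 hx (isPPart_one h1o) hne _ ⟨a, rfl⟩
  rw [q.sum_block hβ hM N hN, hNeq, Finset.sum_pair q.cd, inv_one, ← q.one_cd,
    hca 1 h1o, ← q.one_ab, hD] at h2
  have h3 := (q.quotient hβ hM).1 g hg1 hg2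
  have h4 : ((c : C → ℂ) g + (d : C → ℂ) g) * (D : ℂ) = 0 := by
    linear_combination h2 - (D : ℂ) * h3
  exact (mul_eq_zero.1 h4).resolve_right hD0'

end Cfsg.Agent.Classification.QDW.RegSec
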