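import Mathlib
import Cfsg.Agent.Classification.QDW.RegFour

/-!
# The centralizer `C(t)` in a group with a four-group `V`, `C(V) = V × W`, `N(V)/C(V) ≅ S₃`
-/

set_option autoImplicit false
set_option linter.unusedSectionVars false

open Cfsg
open scoped ComplexConjugate

namespace Cfsg.Agent.Classification.QDW.RegMain

open Cfsg.Agent.Characters Cfsg.Agent.Characters.Core Cfsg.Agent.Blocks.Local
open Cfsg.Agent.Blocks.ExtendedFMT (conjL conjL_coe compIrr compIrr_apply)
open Cfsg.Agent.Classification.BGIsometry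
open RegBase RegDeg RegSec

universe w

/-- Transport of an irreducible character along an isomorphism. -/
def tr {A B : Type*} [Group A] [Group B] (e : A ≃* B) (θ : IrrCharacter B) : IrrCharacter A :=
  ⟨fun x => (θ : B → ℂ) (e x), isIrr_comp e.toMonoidHom e.surjective θ.2⟩

theorem tr_apply {A B : Type*} [Group A] [Group B] (e : A ≃* B) (θ : IrrCharacter B) (x : A) :
    (tr e θ : A → ℂ) x = (θ : B → ℂ) (e x) := rfl

theorem tr_injective {A B : Type*} [Group A] [Group B] (e : A ≃* B) {θ θ' : IrrCharacter B}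
    (h : tr e θ = tr e θ') : θ = θ' := by
  apply Subtype.ext
  funext x
  have h1 := congrArg (fun α : IrrCharacter A => (α : A → ℂ) (e.symm x)) h
  simp only [tr_apply, MulEquiv.apply_symm_apply] at h1
  exact h1

/-- The data in `G`; `n i` conjugates `t` to the three involutions of `V`. -/
structure Glob {G : Type w} [Group G] (t u s : G) (W : Subgroup G) (n : Fin 3 → G) : Prop where
  vw : VW t u W
  s_t : s * t = t * s
  s_u : s * u * s⁻¹ = t * u
  n_mem : ∀ i, n i ∈ Subgroup.normalizer (vw.V : Set G)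
  n_inj : ∀ i j, i ≠ j → n i * t * (n i)⁻¹ ≠ n j * t * (n j)⁻¹
  fus : ∀ x, x * t = t * x → orderOf x = 2 → x ≠ t → ∃ c, c * t = t * c ∧ c * u * c⁻¹ = x
  one_class : ∀ x, orderOf x = 2 → IsConj t x

variable {G : Type w} [Group G] {t u s : G} {W : Subgroup G} {n : Fin 3 → G}

theorem mem_C {x : G} : x ∈ Subgroup.centralizer ({t} : Set G) ↔ x * t = t * x :=
  Subgroup.mem_centralizer_singleton_iff

section VW

theorem VW_W_le (h : VW t u W) : W ≤ Subgroup.centralizer ({t} : Set G) := fun y hy =>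
  mem_C.2 (h.W_t y hy)

theorem VW_V_le (h : VW t u W) : h.V ≤ Subgroup.centralizer ({t} : Set G) := fun y hy =>
  mem_C.2 (h.mem_cent.1 (h.V_le hy)).1

end VW

/-- `t` in `C(t)`. -/
def tC (t : G) : Subgroup.centralizer ({t} : Set G) := ⟨t, mem_C.2 rfl⟩

/-- `u` in `C(t)`. -/
def Glob.uC (h : Glob t u s W n) : Subgroup.centralizer ({t} : Set G) :=
  ⟨u, mem_C.2 h.vw.comm.symm⟩

/-- `s` in `C(t)`. -/
def Glob.sC (h : Glob t u s W n) : Subgroup.centralizer ({t} : Set G) := ⟨s, mem_C.2 h.s_t⟩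

/-- `W` in `C(t)`. -/
def WC (t : G) (W : Subgroup G) : Subgroup (Subgroup.centralizer ({t} : Set G)) :=
  W.subgroupOf (Subgroup.centralizer ({t} : Set G))

/-- `W` in `C(t)` is `W`. -/
noncomputable def Glob.eW (h : Glob t u s W n) : WC t W ≃* W :=
  Subgroup.subgroupOfEquivOfLe (VW_W_le h.vw)

theorem Glob.eW_coe (h : Glob t u s W n) (y : WC t W) : ((h.eW y : W) : G) = ((y :
    Subgroup.centralizer ({t} : Set G)) : G) := rfl

theorem Glob.cen (h : Glob t u s W n) : Cen (tC t) h.uC h.sC (WC t W) where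
  vw :=
    { t_sq := Subtype.ext h.vw.t_sq
      u_sq := Subtype.ext h.vw.u_sq
      comm := Subtype.ext h.vw.comm
      t_ne := fun h1 => h.vw.t_ne (congrArg Subtype.val h1)
      u_ne := fun h1 => h.vw.u_ne (congrArg Subtype.val h1)
      ne := fun h1 => h.vw.ne (congrArg Subtype.val h1)
      odd_W := by
        rw [Nat.card_congr h.eW.toEquiv]
        exact h.vw.odd_W
      W_t := fun y hy => Subtype.ext (h.vw.W_t y (Subgroup.mem_subgroupOf.1 hy))
      W_u := fun y hy => Subtype.ext (h.vw.W_u y (Subgroup.mem_subgroupOf.1 hy))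
      cent := by
        intro x h1 h2
        obtain ⟨y, hy, h3⟩ := h.vw.cent x (congrArg Subtype.val h1) (congrArg Subtype.val h2)
        refine ⟨⟨y, VW_W_le h.vw hy⟩, Subgroup.mem_subgroupOf.2 hy, ?_⟩
        rcases h3 with h3 | h3 | h3 | h3
        · exact Or.inl (Subtype.ext h3)
        · exact Or.inr (Or.inl (Subtype.ext h3))
        · exact Or.inr (Or.inr (Or.inl (Subtype.ext h3)))
        · exact Or.inr (Or.inr (Or.inr (Subtype.ext h3))) }
  t_comm := fun g => Subtype.ext (mem_C.1 g.2).symm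
  s_conj := Subtype.ext h.s_u

theorem Glob.mem_V (h : Glob t u s W n) {x : Subgroup.centralizer ({t} : Set G)} :
    x ∈ h.cen.vw.V ↔ (x : G) ∈ h.vw.V := by
  rw [h.cen.vw.mem_V, h.vw.mem_V]
  constructor
  · rintro (rfl | rfl | rfl | rfl)
    · exact Or.inl rfl
    · exact Or.inr (Or.inl rfl)
    · exact Or.inr (Or.inr (Or.inl rfl))
    · exact Or.inr (Or.inr (Or.inr rfl))
  · rintro (h1 | h1 | h1 | h1)
    · exact Or.inl (Subtype.ext h1)
    · exact Or.inr (Or.inl (Subtype.ext h1))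
    · exact Or.inr (Or.inr (Or.inl (Subtype.ext h1)))
    · exact Or.inr (Or.inr (Or.inr (Subtype.ext h1)))

theorem Glob.mem_N (h : Glob t u s W n) {x : Subgroup.centralizer ({t} : Set G)} :
    x ∈ Subgroup.normalizer (h.cen.vw.V : Set (Subgroup.centralizer ({t} : Set G))) ↔
      (x : G) ∈ Subgroup.normalizer (h.vw.V : Set G) := by
  rw [Subgroup.mem_normalizer_iff, Subgroup.mem_normalizer_iff]
  constructor
  · intro h1 v
    by_cases hv : v ∈ Subgroup.centralizer ({t} : Set G)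
    · have h2 := h1 ⟨v, hv⟩
      rw [h.mem_V, h.mem_V] at h2
      exact h2
    · refine ⟨fun h2 => absurd (VW_V_le h.vw h2) hv, fun h2 => absurd ?_ hv⟩
      have h3 := VW_V_le h.vw h2
      have h4 := mul_mem (mul_mem (inv_mem x.2) h3) x.2
      have h5 : (x : G)⁻¹ * ((x : G) * v * (x : G)⁻¹) * x = v := by group
      rwa [h5] at h4
  · intro h1 v
    rw [h.mem_V, h.mem_V]
    exact h1 v

theorem Glob.mem_cent (h : Glob t u s W n) {x : Subgroup.centralizer ({t} : Set G)} :
    x ∈ Subgroup.centralizer (h.cen.vw.V : Set (Subgroup.centralizer ({t} : Set G))) ↔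
      (x : G) ∈ Subgroup.centralizer (h.vw.V : Set G) := by
  rw [h.cen.vw.mem_cent, h.vw.mem_cent]
  exact and_congr Subtype.ext_iff Subtype.ext_iff

theorem compIrr_conj (h : VW t u W) (m k : Subgroup.normalizer (h.V : Set G))
    (ω : IrrCharacter W) :
    compIrr (h.conj k) (compIrr (h.conj m) ω) = compIrr (h.conj (m * k)) ω := by
  apply Subtype.ext
  funext y
  rw [compIrr_apply, compIrr_apply, compIrr_apply, h.conj_mul]

theorem compIrr_conj_one (h : VW t u W) (ω : IrrCharacter W) :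
    compIrr (h.conj 1) ω = ω := by
  apply Subtype.ext
  funext y
  have h1 : h.conj 1 y = y := Subtype.ext (by rw [h.conj_coe]; simp)
  rw [compIrr_apply, h1]

/-- Two conjugates of a regular character agree only if the elements agree mod `C(V)`. -/
theorem mem_of_compIrr_eq (h : VW t u W) {ω : IrrCharacter W} (hω : h.Reg ω)
    {m k : Subgroup.normalizer (h.V : Set G)}
    (hmk : compIrr (h.conj m) ω = compIrr (h.conj k) ω) :
    ((m * k⁻¹ : Subgroup.normalizer (h.V : Set G)) : G) ∈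
      Subgroup.centralizer (h.V : Set G) := by
  by_contra hcon
  apply hω (m * k⁻¹) hcon
  rw [← compIrr_conj, hmk, compIrr_conj, mul_inv_cancel, compIrr_conj_one]

theorem Reg_comp (h : VW t u W) {ω : IrrCharacter W} (hω : h.Reg ω)
    (m : Subgroup.normalizer (h.V : Set G)) : h.Reg (compIrr (h.conj m) ω) := by
  intro k hk h1
  rw [compIrr_conj] at h1
  have h2 := mem_of_compIrr_eq h hω h1
  apply hk
  have h3 := h.mem_cent_conj (Subgroup.inv_mem _ m.2) h2
  have h4 : (m : G)⁻¹ * ((m * k * m⁻¹ : Subgroup.normalizer (h.V : Set G)) : G) *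
      ((m : G)⁻¹)⁻¹ = k := by
    push_cast
    group
  rwa [h4] at h3

/-- `n i` in `N(V)`. -/
def Glob.nN (h : Glob t u s W n) (i : Fin 3) : Subgroup.normalizer (h.vw.V : Set G) :=
  ⟨n i, h.n_mem i⟩

/-- The three characters `ω^(n i)`. -/
def Glob.om (h : Glob t u s W n) (ω : IrrCharacter W) (i : Fin 3) : IrrCharacter W :=
  compIrr (h.vw.conj (h.nN i)) ω

/-- ... as characters of `W` in `C(t)`. -/
noncomputable def Glob.omC (h : Glob t u s W n) (ω : IrrCharacter W) (i : Fin 3) :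
    IrrCharacter (WC t W) := tr h.eW (h.om ω i)

theorem Glob.s_mem (h : Glob t u s W n) : s ∈ Subgroup.normalizer (h.vw.V : Set G) :=
  h.mem_N.1 h.cen.s_mem_N

/-- Conjugation in `C(t)` and in `G`. -/
theorem Glob.compIrr_tr (h : Glob t u s W n)
    (x : Subgroup.normalizer (h.cen.vw.V : Set (Subgroup.centralizer ({t} : Set G))))
    (θ : IrrCharacter W) :
    compIrr (h.cen.vw.conj x) (tr h.eW θ) =
      tr h.eW (compIrr (h.vw.conj ⟨((x : Subgroup.centralizer ({t} : Set G)) : G),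
        h.mem_N.1 x.2⟩) θ) := by
  apply Subtype.ext
  funext y
  rw [compIrr_apply, tr_apply, tr_apply, compIrr_apply]
  congr 1

theorem Glob.Reg_omC (h : Glob t u s W n) {ω : IrrCharacter W} (hω : h.vw.Reg ω) (i : Fin 3) :
    h.cen.vw.Reg (h.omC ω i) := by
  intro x hx h1
  unfold Glob.omC at h1
  rw [h.compIrr_tr] at h1
  exact Reg_comp h.vw hω (h.nN i) _ (fun h2 => hx (h.mem_cent.2 h2)) (tr_injective _ h1)

theorem Glob.not_mem_of_conj (h : Glob t u s W n) {x : G} {v v' : G} (hv : v ∈ h.vw.V)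
    (hx : x * v * x⁻¹ = v') (hne : v ≠ v') : x ∉ Subgroup.centralizer (h.vw.V : Set G) := by
  intro h1
  rw [Subgroup.mem_centralizer_iff] at h1
  have h2 := h1 v hv
  rw [← h2, mul_inv_cancel_right] at hx
  exact hne hx

theorem Glob.v_mem (h : Glob t u s W n) (i : Fin 3) : n i * t * (n i)⁻¹ ∈ h.vw.V :=
  (Subgroup.mem_normalizer_iff.1 (h.n_mem i) t).1 h.vw.t_mem

theorem Glob.omC_ne (h : Glob t u s W n) {ω : IrrCharacter W} (hω : h.vw.Reg ω) {i j : Fin 3}
    (hij : i ≠ j) : h.omC ω j ≠ h.omC ω i := by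
  intro h1
  have h2 := mem_of_compIrr_eq h.vw hω (tr_injective _ h1)
  refine h.not_mem_of_conj (h.v_mem i) ?_ (h.n_inj i j hij) h2
  change (n j * (n i)⁻¹) * (n i * t * (n i)⁻¹) * (n j * (n i)⁻¹)⁻¹ = n j * t * (n j)⁻¹
  group

theorem Glob.omC_ne_tw (h : Glob t u s W n) {ω : IrrCharacter W} (hω : h.vw.Reg ω) {i j : Fin 3}
    (hij : i ≠ j) : h.omC ω j ≠ h.cen.tw (h.omC ω i) := by
  intro h1
  unfold Cen.tw Glob.omC at h1
  rw [h.compIrr_tr] at h1
  have h3 := tr_injective _ h1
  unfold Glob.om at h3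
  rw [compIrr_conj] at h3
  have h2 := mem_of_compIrr_eq h.vw hω h3
  refine h.not_mem_of_conj (h.v_mem i) ?_ (h.n_inj i j hij) h2
  change (n j * (n i * s)⁻¹) * (n i * t * (n i)⁻¹) * (n j * (n i * s)⁻¹)⁻¹ = n j * t * (n j)⁻¹
  have h4 : s⁻¹ * t * s = t := by rw [mul_assoc, ← h.s_t]; group
  calc (n j * (n i * s)⁻¹) * (n i * t * (n i)⁻¹) * (n j * (n i * s)⁻¹)⁻¹ =
      n j * (s⁻¹ * t * s) * (n j)⁻¹ := by group
    _ = n j * t * (n j)⁻¹ := by rw [h4]

end Cfsg.Agent.Classification.QDW.RegMain
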