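import Mathlib

/-!
# Three orthogonal sign vectors in dimension four
-/

set_option autoImplicit false
set_option linter.unusedSectionVars false

namespace Cfsg.Agent.Classification.QDW.RegHad

variable {ι : Type*} [DecidableEq ι] {S : Finset ι} {r : Fin 3 → ι → ℤ}

/-- Three pairwise orthogonal sign vectors of norm four. -/
structure Had (S : Finset ι) (r : Fin 3 → ι → ℤ) : Prop where
  sgn : ∀ i, ∀ X ∈ S, r i X = 1 ∨ r i X = -1
  orth : ∀ i j, ∑ X ∈ S, r i X * r j X = if i = j then 4 else 0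

/-- The product of the three vectors. -/
def prod (r : Fin 3 → ι → ℤ) (X : ι) : ℤ := r 0 X * r 1 X * r 2 X

/-- The four vectors. -/
def four (r : Fin 3 → ι → ℤ) : Fin 4 → ι → ℤ := ![r 0, r 1, r 2, prod r]

theorem Had.sq (h : Had S r) (i : Fin 3) {X : ι} (hX : X ∈ S) : r i X * r i X = 1 := by
  rcases h.sgn i X hX with h1 | h1 <;> rw [h1] <;> norm_num

theorem Had.sq4 (h : Had S r) (i : Fin 4) {X : ι} (hX : X ∈ S) :
    four r i X * four r i X = 1 := by
  have h0 := h.sq 0 hX
  have h1 := h.sq 1 hX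
  have h2 := h.sq 2 hX
  fin_cases i
  · exact h0
  · exact h1
  · exact h2
  · change prod r X * prod r X = 1
    unfold prod
    calc r 0 X * r 1 X * r 2 X * (r 0 X * r 1 X * r 2 X) =
        (r 0 X * r 0 X) * (r 1 X * r 1 X) * (r 2 X * r 2 X) := by ring
      _ = 1 := by rw [h0, h1, h2]; norm_num

theorem Had.orth4 (h : Had S r) (i j : Fin 4) :
    ∑ X ∈ S, four r i X * four r j X = if i = j then 4 else 0 := by
  have e00 := h.orth 0 0
  have e01 := h.orth 0 1
  have e02 := h.orth 0 2
  have e11 := h.orth 1 1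
  have e12 := h.orth 1 2
  have e22 := h.orth 2 2
  have e10 := h.orth 1 0
  have e20 := h.orth 2 0
  have e21 := h.orth 2 1
  have hp0 : ∑ X ∈ S, prod r X * r 0 X = 0 := by
    have : ∑ X ∈ S, r 1 X * r 2 X = 0 := by simpa using e12
    rw [← this]
    refine Finset.sum_congr rfl fun X hX => ?_
    have := h.sq 0 hX
    unfold prod
    linear_combination (r 1 X * r 2 X) * this
  have hp1 : ∑ X ∈ S, prod r X * r 1 X = 0 := by
    have : ∑ X ∈ S, r 0 X * r 2 X = 0 := by simpa using e02
    rw [← this]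
    refine Finset.sum_congr rfl fun X hX => ?_
    have := h.sq 1 hX
    unfold prod
    linear_combination (r 0 X * r 2 X) * this
  have hp2 : ∑ X ∈ S, prod r X * r 2 X = 0 := by
    have : ∑ X ∈ S, r 0 X * r 1 X = 0 := by simpa using e01
    rw [← this]
    refine Finset.sum_congr rfl fun X hX => ?_
    have := h.sq 2 hX
    unfold prod
    linear_combination (r 0 X * r 1 X) * this
  have hpp : ∑ X ∈ S, prod r X * prod r X = 4 := by
    have : ∑ X ∈ S, r 0 X * r 0 X = 4 := by simpa using e00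
    rw [← this]
    exact Finset.sum_congr rfl fun X hX => (h.sq4 3 hX).trans (h.sq 0 hX).symm
  have hp0' : ∑ X ∈ S, r 0 X * prod r X = 0 := by simpa only [mul_comm] using hp0
  have hp1' : ∑ X ∈ S, r 1 X * prod r X = 0 := by simpa only [mul_comm] using hp1
  have hp2' : ∑ X ∈ S, r 2 X * prod r X = 0 := by simpa only [mul_comm] using hp2
  fin_cases i <;> fin_cases j
  · exact e00
  · exact e01
  · exact e02
  · exact hp0'
  · exact e10
  · exact e11
  · exact e12
  · exact hp1'
  · exact e20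
  · exact e21
  · exact e22
  · exact hp2'
  · exact hp0
  · exact hp1
  · exact hp2
  · exact hpp

/-- Column orthogonality. -/
theorem Had.col (h : Had S r) {X Y : ι} (hX : X ∈ S) (hY : Y ∈ S) :
    ∑ i, four r i X * four r i Y = if Y = X then 4 else 0 := by
  have hdiag : ∑ i, four r i X * four r i X = 4 := by
    rw [Finset.sum_congr rfl fun i _ => h.sq4 i hX]
    simp
  split_ifs with hYX
  · rw [hYX, hdiag]
  have h1 : ∑ Z ∈ S, (∑ i, four r i X * four r i Z) ^ 2 = 16 := by
    have h2 : ∀ Z, (∑ i, four r i X * four r i Z) ^ 2 =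
        ∑ i, ∑ j, (four r i X * four r j X) * (four r i Z * four r j Z) := by
      intro Z
      rw [_root_.sq, Finset.sum_mul_sum]
      refine Finset.sum_congr rfl fun i _ => Finset.sum_congr rfl fun j _ => ?_
      ring
    rw [Finset.sum_congr rfl fun Z _ => h2 Z, Finset.sum_comm]
    have h3 : ∀ i, ∑ Z ∈ S, ∑ j, (four r i X * four r j X) * (four r i Z * four r j Z) = 4 := by
      intro i
      rw [Finset.sum_comm]
      have h4 : ∀ j, ∑ Z ∈ S, (four r i X * four r j X) * (four r i Z * four r j Z) =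
          if i = j then 4 else 0 := by
        intro j
        rw [← Finset.mul_sum, h.orth4]
        split_ifs with hij
        · rw [← hij, h.sq4 i hX, one_mul]
        · rw [mul_zero]
      rw [Finset.sum_congr rfl fun j _ => h4 j, Finset.sum_ite_eq]
      simp
    rw [Finset.sum_congr rfl fun i _ => h3 i]
    simp
  have h2 : ∑ Z ∈ S.erase X, (∑ i, four r i X * four r i Z) ^ 2 = 0 := by
    have h3 := Finset.add_sum_erase S (fun Z => (∑ i, four r i X * four r i Z) ^ 2) hX
    rw [h1, hdiag] at h3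
    linarith
  have h3 := (Finset.sum_eq_zero_iff_of_nonneg fun Z _ => sq_nonneg _).1 h2 Y
    (Finset.mem_erase.2 ⟨hYX, hY⟩)
  exact pow_eq_zero_iff (two_ne_zero) |>.1 h3

/-- Reconstruction of a function from its inner products with the four vectors. -/
theorem Had.recon (h : Had S r) {A : Type*} [CommRing A] (F : ι → A) {X : ι} (hX : X ∈ S) :
    4 * F X = ∑ i : Fin 3, (r i X : A) * ∑ Y ∈ S, (r i Y : A) * F Y +
      (prod r X : A) * ∑ Y ∈ S, (prod r Y : A) * F Y := by
  have h1 : ∑ i : Fin 4, (four r i X : A) * ∑ Y ∈ S, (four r i Y : A) * F Y = 4 * F X := by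
    simp_rw [Finset.mul_sum]
    rw [Finset.sum_comm]
    have h2 : ∀ Y ∈ S, ∑ i, (four r i X : A) * ((four r i Y : A) * F Y) =
        if Y = X then 4 * F X else 0 := by
      intro Y hY
      have h3 : ∑ i, (four r i X : A) * ((four r i Y : A) * F Y) =
          ((∑ i, four r i X * four r i Y : ℤ) : A) * F Y := by
        push_cast
        rw [Finset.sum_mul]
        exact Finset.sum_congr rfl fun i _ => by ring
      rw [h3, h.col hX hY]
      split_ifs with h4
      · rw [h4]; push_cast; rfl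
      · push_cast; ring
    rw [Finset.sum_congr rfl h2, Finset.sum_ite_eq', if_pos hX]
  rw [← h1, Fin.sum_univ_castSucc]
  rfl

/-- A positive function orthogonal to the three vectors is constant, and so is their product. -/
theorem Had.degrees (h : Had S r) (d : ι → ℤ) (hd : ∀ X ∈ S, 0 < d X)
    (h0 : ∀ i, ∑ Y ∈ S, r i Y * d Y = 0) (hS : S.Nonempty) :
    ∃ e : ℤ, (e = 1 ∨ e = -1) ∧ (∀ X ∈ S, prod r X = e) ∧ ∀ X ∈ S, ∀ Y ∈ S, d X = d Y := by
  set c : ℤ := ∑ Y ∈ S, prod r Y * d Y with hc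
  have h1 : ∀ X ∈ S, 4 * d X = prod r X * c := by
    intro X hX
    have h2 := h.recon d hX
    simp only [Int.cast_id] at h2
    rw [h2, hc, Finset.sum_eq_zero fun i _ => by rw [h0 i, mul_zero], zero_add]
  have hp : ∀ X ∈ S, prod r X = 1 ∨ prod r X = -1 := by
    intro X hX
    have h2 : prod r X * prod r X = 1 := h.sq4 3 hX
    have h3 : (prod r X - 1) * (prod r X + 1) = 0 := by linear_combination h2
    rcases mul_eq_zero.1 h3 with h4 | h4
    · left; linarith
    · right; linarith
  obtain ⟨X₀, hX₀⟩ := hS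
  have h2 := h1 X₀ hX₀
  have h3 := hd X₀ hX₀
  rcases lt_trichotomy c 0 with hc0 | hc0 | hc0
  · have hpX : ∀ X ∈ S, prod r X = -1 := by
      intro X hX
      rcases hp X hX with h4 | h4
      · have := h1 X hX; have := hd X hX; rw [h4] at *; linarith
      · exact h4
    refine ⟨-1, Or.inr rfl, hpX, fun X hX Y hY => ?_⟩
    have h4 := h1 X hX
    have h5 := h1 Y hY
    rw [hpX X hX] at h4
    rw [hpX Y hY] at h5
    linarith
  · rw [hc0] at h2; linarith
  · have hpX : ∀ X ∈ S, prod r X = 1 := by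
      intro X hX
      rcases hp X hX with h4 | h4
      · exact h4
      · have := h1 X hX; have := hd X hX; rw [h4] at *; linarith
    refine ⟨1, Or.inl rfl, hpX, fun X hX Y hY => ?_⟩
    have h4 := h1 X hX
    have h5 := h1 Y hY
    rw [hpX X hX] at h4
    rw [hpX Y hY] at h5
    linarith

/-- The quadratic sum of the class formula. -/
theorem Had.sum_sq (h : Had S r) {e : ℤ} (he : ∀ X ∈ S, prod r X = e) (d : Fin 3 → ℂ) :
    ∑ X ∈ S, (r 0 X : ℂ) * (∑ i, (r i X : ℂ) * d i) ^ 2 = 8 * e * (d 1 * d 2) := by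
  have hone : ∀ i, ∑ X ∈ S, (r i X : ℂ) = 0 := by
    intro i
    have h1 : ∑ X ∈ S, four r 3 X * four r i.castSucc X = 0 := by
      rw [h.orth4, if_neg]
      intro h2
      have := congrArg Fin.val h2
      simp at this
      omega
    have h2 : ∀ X ∈ S, four r 3 X * four r i.castSucc X = e * r i X := by
      intro X hX
      have h3 : four r 3 X = e := he X hX
      have h4 : four r i.castSucc X = r i X := by fin_cases i <;> rfl
      rw [h3, h4]
    rw [Finset.sum_congr rfl h2, ← Finset.mul_sum] at h1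
    have he0 : e ≠ 0 := by
      rintro rfl
      have hS : S.Nonempty := by
        rw [Finset.nonempty_iff_ne_empty]
        rintro rfl
        have := h.orth 0 0
        simp at this
      obtain ⟨X, hX⟩ := hS
      have h3 := h.sq4 3 hX
      have h4 : four r 3 X = 0 := he X hX
      rw [h4] at h3
      norm_num at h3
    have h3 := (mul_eq_zero.1 h1).resolve_left he0
    exact_mod_cast h3
  have hcard : ∑ X ∈ S, (1 : ℂ) = 4 := by
    have h1 := h.orth 0 0
    rw [if_pos rfl, Finset.sum_congr rfl fun X hX => h.sq 0 hX] at h1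
    exact_mod_cast h1
  have key : ∀ X ∈ S, (r 0 X : ℂ) * (∑ i, (r i X : ℂ) * d i) ^ 2 =
      (d 0 ^ 2 + d 1 ^ 2 + d 2 ^ 2) * (r 0 X : ℂ) + (2 * d 0 * d 1) * (r 1 X : ℂ) +
        (2 * d 0 * d 2) * (r 2 X : ℂ) + (2 * (e : ℂ) * (d 1 * d 2)) * 1 := by
    intro X hX
    have h0 : (r 0 X : ℂ) * (r 0 X : ℂ) = 1 := by exact_mod_cast h.sq 0 hX
    have h1 : (r 1 X : ℂ) * (r 1 X : ℂ) = 1 := by exact_mod_cast h.sq 1 hX
    have h2 : (r 2 X : ℂ) * (r 2 X : ℂ) = 1 := by exact_mod_cast h.sq 2 hX
    have h3 : (r 0 X : ℂ) * (r 1 X : ℂ) * (r 2 X : ℂ) = e := by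
      have := he X hX
      unfold prod at this
      exact_mod_cast this
    rw [Fin.sum_univ_three]
    linear_combination ((r 0 X : ℂ) * d 0 ^ 2 + 2 * (r 1 X : ℂ) * d 0 * d 1 +
      2 * (r 2 X : ℂ) * d 0 * d 2) * h0 + ((r 0 X : ℂ) * d 1 ^ 2) * h1 +
      ((r 0 X : ℂ) * d 2 ^ 2) * h2 + (2 * d 1 * d 2) * h3
  rw [Finset.sum_congr rfl key, Finset.sum_add_distrib, Finset.sum_add_distrib,
    Finset.sum_add_distrib, ← Finset.mul_sum, ← Finset.mul_sum, ← Finset.mul_sum, ← Finset.mul_sum,
    hone 0, hone 1, hone 2, hcard]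
  ring

end Cfsg.Agent.Classification.QDW.RegHad
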