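import Mathlib
import Cfsg.Agent.Classification.QDW.RegFour
import Cfsg.Agent.Classification.BGOrder

/-!
# The generalized character `Φ = a + b - c - d` of `C`

It vanishes off `t · (elements of odd order)`.
-/

set_option autoImplicit false
set_option linter.unusedSectionVars false

open Cfsg
open scoped ComplexConjugate

namespace Cfsg.Agent.Classification.QDW.RegSec

open Cfsg.Agent.Characters Cfsg.Agent.Characters.Core Cfsg.Agent.Blocks.Local
open Cfsg.Agent.Blocks.ExtendedFMT (conjL conjL_coe compIrr compIrr_apply)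
open Cfsg.Agent.Classification.BGIsometry
open RegBase RegDeg

universe w

variable {C : Type w} [Group C] {t u s : C} {W : Subgroup C}

theorem Cen.t_uy (h : Cen t u s W) (y : W) :
    t * (u * (y : C)) = s * (u * ((h.vw.conj h.sN).symm y : W)) * s⁻¹ := by
  have h3 : s * (u * ((h.vw.conj h.sN).symm y : W)) * s⁻¹ =
      (s * u * s⁻¹) * (s * ((h.vw.conj h.sN).symm y : W) * s⁻¹) := by group
  have h4 : s * ((h.vw.conj h.sN).symm y : W) * s⁻¹ = (y : C) := by
    have h5 := h.vw.conj_coe h.sN ((h.vw.conj h.sN).symm y)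
    rw [MulEquiv.apply_symm_apply] at h5
    exact h5.symm
  rw [h3, h4, h.s_conj, mul_assoc]

variable [Fintype C] {h : Cen t u s W} {β : IrrCharacter W} {a b c d : IrrCharacter C}
  {M : Ideal AlgInt}

theorem Cen.not_odd_uy' (h : Cen t u s W) (y : W) : ¬ Odd (orderOf (u * (y : C))) := by
  have h1 := h.not_odd_uy 1 y
  simpa using h1

theorem Cen.not_odd_tuy (h : Cen t u s W) (y : W) : ¬ Odd (orderOf (t * (u * (y : C)))) := by
  rw [h.t_uy]
  exact h.not_odd_uy s _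

theorem Quad.add_ab_uy [Fintype W] (q : Quad h β a b c d) (hβ : h.vw.Reg β)
    (hM : IsPModular 2 M) (y : W) : (a : C → ℂ) (u * y) + (b : C → ℂ) (u * y) = 0 :=
  (q.quotient hβ hM).1 _ (h.not_odd_uy' y) (h.not_odd_tuy y)

theorem Quad.add_cd_uy [Fintype W] (q : Quad h β a b c d) (hβ : h.vw.Reg β)
    (hM : IsPModular 2 M) (y : W) : (c : C → ℂ) (u * y) + (d : C → ℂ) (u * y) = 0 :=
  (q.full hβ hM).2 _ (h.not_odd_uy' y) (h.not_odd_tuy y)

theorem Quad.a_uy [Fintype W] (q : Quad h β a b c d) (hβ : h.vw.Reg β)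
    (hM : IsPModular 2 M) (y : W) :
    (a : C → ℂ) (u * y) = (β : W → ℂ) y + (h.tw β : W → ℂ) y := by
  linear_combination (q.add_ab_uy hβ hM y + q.sub_ab_uy y) / 2

theorem Quad.b_uy [Fintype W] (q : Quad h β a b c d) (hβ : h.vw.Reg β)
    (hM : IsPModular 2 M) (y : W) :
    (b : C → ℂ) (u * y) = -((β : W → ℂ) y + (h.tw β : W → ℂ) y) := by
  linear_combination (q.add_ab_uy hβ hM y - q.sub_ab_uy y) / 2

theorem Quad.c_uy [Fintype W] (q : Quad h β a b c d) (hβ : h.vw.Reg β)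
    (hM : IsPModular 2 M) (y : W) :
    (c : C → ℂ) (u * y) = (β : W → ℂ) y - (h.tw β : W → ℂ) y := by
  linear_combination (q.add_cd_uy hβ hM y + q.sub_cd_uy y) / 2

theorem Quad.d_uy [Fintype W] (q : Quad h β a b c d) (hβ : h.vw.Reg β)
    (hM : IsPModular 2 M) (y : W) :
    (d : C → ℂ) (u * y) = -((β : W → ℂ) y - (h.tw β : W → ℂ) y) := by
  linear_combination (q.add_cd_uy hβ hM y - q.sub_cd_uy y) / 2

/-- The four characters have no coefficient at other characters of `W`. -/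
theorem Quad.coef_zero [Fintype W] (q : Quad h β a b c d) (hβ : h.vw.Reg β)
    (hM : IsPModular 2 M) {γ : IrrCharacter W} (h1 : γ ≠ β) (h2 : γ ≠ h.tw β)
    {ψ : IrrCharacter C} (hψ : ψ = a ∨ ψ = b ∨ ψ = c ∨ ψ = d) :
    classInner (fun y : W => (ψ : C → ℂ) (u * y)) (γ : W → ℂ) = 0 := by
  have h3 : classInner (β : W → ℂ) (γ : W → ℂ) = 0 :=
    classInner_irr_ne β.2 γ.2 fun h4 => h1 (Subtype.ext h4.symm)
  have h5 : classInner (h.tw β : W → ℂ) (γ : W → ℂ) = 0 :=
    classInner_irr_ne (h.tw β).2 γ.2 fun h4 => h2 (Subtype.ext h4.symm)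
  rcases hψ with rfl | rfl | rfl | rfl
  · have h4 : (fun y : W => (ψ : C → ℂ) (u * y)) = (β : W → ℂ) + (h.tw β : W → ℂ) := by
      funext y; exact q.a_uy hβ hM y
    rw [h4, classInner_add_left, h3, h5, add_zero]
  · have h4 : (fun y : W => (ψ : C → ℂ) (u * y)) = -((β : W → ℂ) + (h.tw β : W → ℂ)) := by
      funext y; exact q.b_uy hβ hM y
    rw [h4, classInner_neg_left, classInner_add_left, h3, h5, add_zero, neg_zero]
  · have h4 : (fun y : W => (ψ : C → ℂ) (u * y)) = (β : W → ℂ) - (h.tw β : W → ℂ) := by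
      funext y; exact q.c_uy hβ hM y
    rw [h4, classInner_sub_left, h3, h5, sub_zero]
  · have h4 : (fun y : W => (ψ : C → ℂ) (u * y)) = -((β : W → ℂ) - (h.tw β : W → ℂ)) := by
      funext y; exact q.d_uy hβ hM y
    rw [h4, classInner_neg_left, classInner_sub_left, h3, h5, sub_zero, neg_zero]

theorem Quad.coef_self [Fintype W] (q : Quad h β a b c d)
    {ψ : IrrCharacter C} (hψ : ψ = a ∨ ψ = b ∨ ψ = c ∨ ψ = d) :
    classInner (fun y : W => (ψ : C → ℂ) (u * y)) (β : W → ℂ) ≠ 0 := by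
  have hac := q.ne_ac
  have had := Quad.ne_of_sign q.ta q.td
  have hbc := Quad.ne_of_sign q.tb q.tc
  have hbd := Quad.ne_of_sign q.tb q.td
  have hab := q.ab
  have hcd := q.cd
  rw [q.coef]
  rcases hψ with rfl | rfl | rfl | rfl
  · rw [if_pos rfl, if_neg (Ne.symm hab), if_neg (Ne.symm hac), if_neg (Ne.symm had)]
    norm_num
  · rw [if_neg hab, if_pos rfl, if_neg (Ne.symm hbc), if_neg (Ne.symm hbd)]
    norm_num
  · rw [if_neg hac, if_neg hbc, if_pos rfl, if_neg (Ne.symm hcd)]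
    norm_num
  · rw [if_neg had, if_neg hbd, if_neg hcd, if_pos rfl]
    norm_num

theorem Quad.mem_of_coef [Fintype W] (q : Quad h β a b c d) {ψ : IrrCharacter C}
    (hψ : classInner (fun y : W => (ψ : C → ℂ) (u * y)) (β : W → ℂ) ≠ 0) :
    ψ = a ∨ ψ = b ∨ ψ = c ∨ ψ = d := by
  by_contra hcon
  push Not at hcon
  apply hψ
  rw [q.coef, if_neg (Ne.symm hcon.1), if_neg (Ne.symm hcon.2.1), if_neg (Ne.symm hcon.2.2.1),
    if_neg (Ne.symm hcon.2.2.2)]
  norm_num

/-- `Φ = a + b - c - d`. -/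
def Phi (a b c d : IrrCharacter C) : C → ℂ :=
  (a : C → ℂ) + (b : C → ℂ) - ((c : C → ℂ) + (d : C → ℂ))

theorem Phi_apply (x : C) : Phi a b c d x =
    (a : C → ℂ) x + (b : C → ℂ) x - ((c : C → ℂ) x + (d : C → ℂ) x) := rfl

theorem Phi_isClass : IsClassFunction C (Phi a b c d) := by
  intro x g
  rw [Phi_apply, Phi_apply, isIrr_isClassFunction a.2, isIrr_isClassFunction b.2,
    isIrr_isClassFunction c.2, isIrr_isClassFunction d.2]

theorem Phi_gen : IsGeneralizedCharacter C (Phi a b c d) :=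
  ⟨_, _, isCharacter_add (isIrr_isCharacter a.2) (isIrr_isCharacter b.2),
    isCharacter_add (isIrr_isCharacter c.2) (isIrr_isCharacter d.2), rfl⟩

theorem Quad.Phi_norm (q : Quad h β a b c d) :
    classInner (Phi a b c d) (Phi a b c d) = 4 := by
  have hac : (a : C → ℂ) ≠ c := fun h1 => q.ne_ac (Subtype.ext h1)
  have had : (a : C → ℂ) ≠ d := fun h1 => Quad.ne_of_sign q.ta q.td (Subtype.ext h1)
  have hbc : (b : C → ℂ) ≠ c := fun h1 => Quad.ne_of_sign q.tb q.tc (Subtype.ext h1)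
  have hbd : (b : C → ℂ) ≠ d := fun h1 => Quad.ne_of_sign q.tb q.td (Subtype.ext h1)
  have hab : (a : C → ℂ) ≠ b := fun h1 => q.ab (Subtype.ext h1)
  have hcd : (c : C → ℂ) ≠ d := fun h1 => q.cd (Subtype.ext h1)
  unfold Phi
  simp only [classInner_add_left, classInner_sub_left, classInner_add_right, classInner_sub_right,
    classInner_irr a.2 a.2, classInner_irr a.2 b.2, classInner_irr a.2 c.2, classInner_irr a.2 d.2,
    classInner_irr b.2 a.2, classInner_irr b.2 b.2, classInner_irr b.2 c.2, classInner_irr b.2 d.2,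
    classInner_irr c.2 a.2, classInner_irr c.2 b.2, classInner_irr c.2 c.2, classInner_irr c.2 d.2,
    classInner_irr d.2 a.2, classInner_irr d.2 b.2, classInner_irr d.2 c.2, classInner_irr d.2 d.2,
    if_neg hab, if_neg hac, if_neg had, if_neg hbc, if_neg hbd, if_neg hcd, if_neg hab.symm,
    if_neg hac.symm, if_neg had.symm, if_neg hbc.symm, if_neg hbd.symm, if_neg hcd.symm, if_true]
  norm_num

theorem Quad.Phi_zero [Fintype W] (q : Quad h β a b c d) (hβ : h.vw.Reg β)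
    (hM : IsPModular 2 M) {x : C} (hx : ¬ Odd (orderOf (t * x))) : Phi a b c d x = 0 := by
  rw [Phi_apply]
  by_cases h1 : Odd (orderOf x)
  · rw [← q.eq_ab_odd h1, ← q.eq_cd_odd h1, (q.full hβ hM).1 x h1]
    ring
  · rw [(q.quotient hβ hM).1 x h1 hx, (q.full hβ hM).2 x h1 hx, sub_zero]

theorem Quad.Phi_t [Fintype W] (q : Quad h β a b c d) (hβ : h.vw.Reg β)
    (hM : IsPModular 2 M) {y : C} (hy : Odd (orderOf y)) :
    Phi a b c d (t * y) = 4 * (a : C → ℂ) y := by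
  rw [Phi_apply, q.ta, q.tb, q.tc, q.td, ← q.eq_ab_odd hy, ← q.eq_cd_odd hy,
    (q.full hβ hM).1 y hy]
  ring

/-- All four degrees agree. -/
theorem Quad.degrees [Fintype W] (q : Quad h β a b c d) (hβ : h.vw.Reg β)
    (hM : IsPModular 2 M) : (b : C → ℂ) 1 = (a : C → ℂ) 1 ∧ (c : C → ℂ) 1 = (a : C → ℂ) 1 ∧
      (d : C → ℂ) 1 = (a : C → ℂ) 1 := by
  have h1 : Odd (orderOf (1 : C)) := by rw [orderOf_one]; exact odd_one
  have h2 := (q.full hβ hM).1 1 h1
  exact ⟨q.one_ab.symm, h2, q.one_cd.symm.trans h2⟩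

/-- The four characters. -/
def ofFin (a b c d : IrrCharacter C) : Fin 4 → IrrCharacter C := ![a, b, c, d]

/-- Sum over pairs of conjugates of `u`. -/
theorem Quad.sum_pairs [Fintype W] (q : Quad h β a b c d) (hβ : h.vw.Reg β)
    (hM : IsPModular 2 M) {D : ℕ} (hD : (a : C → ℂ) 1 = D) {w : ℕ}
    (hw : (β : W → ℂ) 1 = w) :
    ∑ x : C, ∑ y : C, Phi a b c d (x * u * x⁻¹ * (y * u * y⁻¹)) =
      (Nat.card C : ℂ) ^ 2 * (8 * (w : ℂ) ^ 2 / D) := by
  obtain ⟨h1, h2, h3⟩ := q.degrees hβ hM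
  have ha := q.a_uy hβ hM 1
  have hb := q.b_uy hβ hM 1
  have hc := q.c_uy hβ hM 1
  have hd := q.d_uy hβ hM 1
  rw [h.tw_one, hw, Subgroup.coe_one, mul_one] at ha hb hc hd
  have h4 : ∑ x : C, ∑ y : C, Phi a b c d (x * u * x⁻¹ * (y * u * y⁻¹)) =
      (∑ x : C, ∑ y : C, (a : C → ℂ) (x * u * x⁻¹ * (y * u * y⁻¹)) +
      ∑ x : C, ∑ y : C, (b : C → ℂ) (x * u * x⁻¹ * (y * u * y⁻¹))) -
      (∑ x : C, ∑ y : C, (c : C → ℂ) (x * u * x⁻¹ * (y * u * y⁻¹)) +
      ∑ x : C, ∑ y : C, (d : C → ℂ) (x * u * x⁻¹ * (y * u * y⁻¹))) := by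
    simp only [Phi_apply, Finset.sum_sub_distrib, Finset.sum_add_distrib]
  rw [h4, BGOrder.sum_sum_conj a.2, BGOrder.sum_sum_conj b.2, BGOrder.sum_sum_conj c.2,
    BGOrder.sum_sum_conj d.2, h1, h2, h3, ha, hb, hc, hd, hD]
  ring

end Cfsg.Agent.Classification.QDW.RegSec
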