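import Mathlib
import Cfsg.Agent.Classification.QDW.RegGlob
import Cfsg.Agent.Classification.QDW.RegPhi
import Cfsg.Agent.Classification.QDW.RegHad
import Cfsg.Agent.Blocks.ExistsModular

/-!
# The degree formula for a regular character of `W`
-/

set_option autoImplicit false
set_option linter.unusedSectionVars false

open Cfsg
open scoped ComplexConjugate

namespace Cfsg.Agent.Classification.QDW.RegMain

open Cfsg.Agent.Characters Cfsg.Agent.Characters.Core Cfsg.Agent.Blocks.Local
open Cfsg.Agent.Blocks.ExtendedFMT (conjL conjL_coe compIrr compIrr_apply)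
open Cfsg.Agent.Classification.BGIsometry
open RegBase RegDeg RegSec RegHad

universe w

section General

/-- Sum over the conjugates of `v`. -/
theorem sum_conj_eq {K : Type*} [Group K] [Fintype K] (v : K) (F : K → ℂ)
    [DecidablePred fun x : K => IsConj v x] :
    ∑ a : K, F (a * v * a⁻¹) = (Nat.card (Subgroup.centralizer ({v} : Set K)) : ℂ) *
      ∑ x ∈ Finset.univ.filter (fun x : K => IsConj v x), F x := by
  classical
  have hmaps : ∀ a ∈ (Finset.univ : Finset K), a * v * a⁻¹ ∈
      Finset.univ.filter (fun x : K => IsConj v x) := fun a _ =>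
    Finset.mem_filter.2 ⟨Finset.mem_univ _, isConj_iff.2 ⟨a, rfl⟩⟩
  rw [← Finset.sum_fiberwise_of_maps_to hmaps, Finset.mul_sum]
  refine Finset.sum_congr rfl fun x hx => ?_
  obtain ⟨a₀, ha₀⟩ := isConj_iff.1 (Finset.mem_filter.1 hx).2
  rw [Finset.sum_congr rfl (g := fun _ => F x) (fun a ha => by
    rw [(Finset.mem_filter.1 ha).2]), Finset.sum_const, nsmul_eq_mul]
  congr 2
  rw [← Fintype.card_subtype, ← Nat.card_eq_fintype_card]
  refine Nat.card_congr
    { toFun := fun a => ⟨a₀⁻¹ * a.1, ?_⟩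
      invFun := fun a => ⟨a₀ * a.1, ?_⟩
      left_inv := fun a => Subtype.ext (by simp)
      right_inv := fun a => Subtype.ext (by simp) }
  · have h1 : a.1 * v * a.1⁻¹ = a₀ * v * a₀⁻¹ := a.2.trans ha₀.symm
    rw [Subgroup.mem_centralizer_singleton_iff]
    calc a₀⁻¹ * a.1 * v = a₀⁻¹ * (a.1 * v * a.1⁻¹) * a.1 := by group
      _ = a₀⁻¹ * (a₀ * v * a₀⁻¹) * a.1 := by rw [h1]
      _ = v * (a₀⁻¹ * a.1) := by group
  · have h1 := Subgroup.mem_centralizer_singleton_iff.1 a.2
    calc a₀ * a.1 * v * (a₀ * a.1)⁻¹ = a₀ * (a.1 * v) * a.1⁻¹ * a₀⁻¹ := by group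
      _ = a₀ * (v * a.1) * a.1⁻¹ * a₀⁻¹ := by rw [h1]
      _ = a₀ * v * a₀⁻¹ := by group
      _ = x := ha₀

theorem card_conj_eq {K : Type*} [Group K] [Fintype K] (v : K)
    [DecidablePred fun x : K => IsConj v x] :
    (Nat.card K : ℂ) = (Nat.card (Subgroup.centralizer ({v} : Set K)) : ℂ) *
      (Finset.univ.filter (fun x : K => IsConj v x)).card := by
  have h1 := sum_conj_eq v (fun _ => 1)
  rw [Finset.sum_const, Finset.sum_const, nsmul_eq_mul, nsmul_eq_mul, mul_one, mul_one,
    Finset.card_univ, ← Nat.card_eq_fintype_card] at h1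
  exact h1

/-- Integers of square sum `4`, orthogonal to positive weights, are `0`, `±1`. -/
theorem unit_of_sum {ι : Type*} [Fintype ι] [DecidableEq ι] (a d : ι → ℤ)
    (h4 : ∑ i, a i ^ 2 = 4) (h0 : ∑ i, a i * d i = 0) (hd : ∀ i, 0 < d i) (i : ι) :
    a i = 0 ∨ a i = 1 ∨ a i = -1 := by
  by_contra hcon
  push Not at hcon
  obtain ⟨h1, h2, h3⟩ := hcon
  have h5 : 4 ≤ a i ^ 2 := by
    have h6 : a i ≤ -2 ∨ 2 ≤ a i := by omega
    rcases h6 with h6 | h6 <;> nlinarith
  have h6 := Finset.add_sum_erase Finset.univ (fun j => a j ^ 2) (Finset.mem_univ i)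
  rw [h4] at h6
  have h7 : 0 ≤ ∑ j ∈ Finset.univ.erase i, a j ^ 2 := Finset.sum_nonneg fun j _ => sq_nonneg _
  have h8 : ∑ j ∈ Finset.univ.erase i, a j ^ 2 = 0 := by linarith
  have h9 : ∀ j ∈ Finset.univ.erase i, a j = 0 := fun j hj =>
    pow_eq_zero_iff (two_ne_zero) |>.1
      ((Finset.sum_eq_zero_iff_of_nonneg fun j _ => sq_nonneg (a j)).1 h8 j hj)
  have h10 := Finset.add_sum_erase Finset.univ (fun j => a j * d j) (Finset.mem_univ i)
  rw [h0, Finset.sum_eq_zero fun j hj => by rw [h9 j hj, zero_mul], add_zero] at h10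
  rcases mul_eq_zero.1 h10 with h11 | h11
  · exact h1 h11
  · exact (hd i).ne' h11

end General

section PhiOrth

variable {C : Type w} [Group C] [Fintype C] {a b c d a' b' c' d' : IrrCharacter C}

theorem Phi_orth (hne : ∀ ψ ψ' : IrrCharacter C, (ψ = a ∨ ψ = b ∨ ψ = c ∨ ψ = d) →
    (ψ' = a' ∨ ψ' = b' ∨ ψ' = c' ∨ ψ' = d') → ψ ≠ ψ') :
    classInner (Phi a b c d) (Phi a' b' c' d') = 0 := by
  have key : ∀ ψ ψ' : IrrCharacter C, (ψ = a ∨ ψ = b ∨ ψ = c ∨ ψ = d) →
      (ψ' = a' ∨ ψ' = b' ∨ ψ' = c' ∨ ψ' = d') →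
      classInner (ψ : C → ℂ) (ψ' : C → ℂ) = 0 := fun ψ ψ' h1 h2 =>
    classInner_irr_ne ψ.2 ψ'.2 fun h3 => hne ψ ψ' h1 h2 (Subtype.ext h3)
  unfold Phi
  simp only [classInner_add_left, classInner_sub_left, classInner_add_right, classInner_sub_right]
  rw [key a a' (by simp) (by simp), key a b' (by simp) (by simp), key a c' (by simp) (by simp),
    key a d' (by simp) (by simp), key b a' (by simp) (by simp), key b b' (by simp) (by simp),
    key b c' (by simp) (by simp), key b d' (by simp) (by simp), key c a' (by simp) (by simp),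
    key c b' (by simp) (by simp), key c c' (by simp) (by simp), key c d' (by simp) (by simp),
    key d a' (by simp) (by simp), key d b' (by simp) (by simp), key d c' (by simp) (by simp),
    key d d' (by simp) (by simp)]
  norm_num

end PhiOrth

variable {G : Type w} [Group G] {t u s : G} {W : Subgroup G} {n : Fin 3 → G}

theorem Glob.orderOf_t (h : Glob t u s W n) : orderOf t = 2 :=
  orderOf_eq_prime (by rw [_root_.sq, h.vw.t_sq]) h.vw.t_ne

section Quad

variable [Fintype (Subgroup.centralizer ({t} : Set G))] [Fintype (WC t W)]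
  {ω : IrrCharacter W} {i : Fin 3}
  {a b c d : IrrCharacter (Subgroup.centralizer ({t} : Set G))} {M : Ideal AlgInt}

theorem supp_Phi (h : Glob t u s W n) (q : Quad h.cen (h.omC ω i) a b c d)
    (hω : h.vw.Reg ω) (hM : IsPModular 2 M) : Supp t (Phi a b c d) := by
  intro x hx
  have h1 : Odd (orderOf (tC t * x)) := by
    by_contra h2
    exact hx (q.Phi_zero (h.Reg_omC hω i) hM h2)
  have h2 : x ^ orderOf (tC t * x) = tC t := by
    have h3 : Commute (tC t) x := h.cen.t_comm x
    have h4 : (tC t * x) ^ orderOf (tC t * x) = 1 := pow_orderOf_eq_one _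
    rw [h3.mul_pow] at h4
    obtain ⟨k, hk⟩ := h1
    have h5 : (tC t) ^ orderOf (tC t * x) = tC t := by
      rw [hk, pow_succ, pow_mul, _root_.sq, h.cen.vw.t_sq, one_pow, one_mul]
    rw [h5] at h4
    calc x ^ orderOf (tC t * x) = tC t * (tC t * x ^ orderOf (tC t * x)) := (h.cen.t_mul _).symm
      _ = tC t := by rw [h4, mul_one]
  refine ⟨orderOf (tC t * x), ?_⟩
  change (x : G) ^ ((orderOf (tC t * x) : ℕ) : ℤ) = t
  rw [zpow_natCast]
  exact congrArg Subtype.val h2

/-- The values of `Φ` are four times algebraic integers. -/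
theorem Phi_int (h : Glob t u s W n) (q : Quad h.cen (h.omC ω i) a b c d)
    (hω : h.vw.Reg ω) (hM : IsPModular 2 M) (x : Subgroup.centralizer ({t} : Set G)) :
    ∃ z : ℂ, IsIntegral ℤ z ∧ Phi a b c d x = 4 * z := by
  by_cases h1 : Odd (orderOf (tC t * x))
  · refine ⟨(a : _ → ℂ) (tC t * x), isIntegral_irr a.2 _, ?_⟩
    rw [← q.Phi_t (h.Reg_omC hω i) hM h1, h.cen.t_mul]
  · exact ⟨0, isIntegral_zero, by rw [q.Phi_zero (h.Reg_omC hω i) hM h1, mul_zero]⟩

end Quad

/-- Multiplicities of conjugate characters of `W` in a class function of `G`. -/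
theorem inner_omC [Fintype G] [Fintype W] [Fintype (WC t W)] (h : Glob t u s W n)
    (ω : IrrCharacter W) (i : Fin 3) {X : G → ℂ} (hX : IsClassFunction G X) :
    classInner (fun y : WC t W => X ((y : Subgroup.centralizer ({t} : Set G)) : G))
      (h.omC ω i : WC t W → ℂ) = classInner (fun y : W => X y) (ω : W → ℂ) := by
  rw [classInner_def, classInner_def, Nat.card_congr h.eW.toEquiv]
  congr 1
  have h1 : ∑ y : WC t W, X ((y : Subgroup.centralizer ({t} : Set G)) : G) *
      conj ((h.omC ω i : WC t W → ℂ) y) =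
      ∑ y : W, X y * conj ((h.om ω i : W → ℂ) y) := by
    rw [← Equiv.sum_comp h.eW.toEquiv]
    rfl
  rw [h1, ← Equiv.sum_comp (h.vw.conj (h.nN i)).toEquiv (fun y : W => X y * conj ((ω : W → ℂ) y))]
  refine Finset.sum_congr rfl fun y _ => ?_
  have h2 : X ((h.vw.conj (h.nN i) y : W) : G) = X y := by
    rw [h.vw.conj_coe, hX]
  change X y * conj ((ω : W → ℂ) (h.vw.conj (h.nN i) y)) =
    X ((h.vw.conj (h.nN i) y : W) : G) * conj ((ω : W → ℂ) (h.vw.conj (h.nN i) y))
  rw [h2]

/-- The function of `G` induced from `Φ`. -/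
noncomputable def Theta [Fintype G] (t : G) (f : Subgroup.centralizer ({t} : Set G) → ℂ) : G → ℂ :=
  indFun (Subgroup.centralizer ({t} : Set G)) f

theorem Theta_isClass [Fintype G] (f : Subgroup.centralizer ({t} : Set G) → ℂ) :
    IsClassFunction G (Theta t f) := Brauer.indFun_isClassFunction _ _

/-- The coefficients of `Θ` are integers, congruent mod `2` to the multiplicities of `ω`. -/
theorem exists_alpha [Fintype G] [Fintype W]
    [Fintype (Subgroup.centralizer ({t} : Set G))] [Fintype (WC t W)]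
    (h : Glob t u s W n) {ω : IrrCharacter W} {i : Fin 3}
    {a b c d : IrrCharacter (Subgroup.centralizer ({t} : Set G))}
    (q : Quad h.cen (h.omC ω i) a b c d) (X : IrrCharacter G) {m : ℕ}
    (hm : classInner (fun y : W => (X : G → ℂ) y) (ω : W → ℂ) = m) :
    ∃ α : ℤ, classInner (Theta t (Phi a b c d)) (X : G → ℂ) = α ∧ (Odd α ↔ Odd m) := by
  have hXC : IsCharacter (Subgroup.centralizer ({t} : Set G))
      (fun x : Subgroup.centralizer ({t} : Set G) => (X : G → ℂ) x) :=
    isCharacter_comp (Subgroup.centralizer ({t} : Set G)).subtype (isIrr_isCharacter X.2)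
  obtain ⟨na, hna⟩ := classInner_isNat (isIrr_isCharacter a.2) hXC
  obtain ⟨nb, hnb⟩ := classInner_isNat (isIrr_isCharacter b.2) hXC
  obtain ⟨nc, hnc⟩ := classInner_isNat (isIrr_isCharacter c.2) hXC
  obtain ⟨nd, hnd⟩ := classInner_isNat (isIrr_isCharacter d.2) hXC
  obtain ⟨a', m', ha', hm', hpar⟩ := exists_coef h.cen.vw.u_sq (WC t W) h.cen.vw.W_u hXC
    (h.omC ω i)
  have h1 := inner_omC h ω i (isIrr_isClassFunction X.2)
  rw [hm] at h1
  have hmm : m' = m := by
    have h2 : (m' : ℂ) = (m : ℂ) := by rw [← hm', ← h1]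
    exact_mod_cast h2
  have h2 := h.cen.inner_E (h.omC ω i : WC t W → ℂ) (isCharacter_isClassFunction hXC)
  rw [q.e₁, classInner_add_left, classInner_sub_left, classInner_sub_left, hna, hnb, hnc, hnd,
    ← classInner_conj_symm, ha', map_intCast] at h2
  have ha : a' = (na : ℤ) - nb + (nc - nd) := by exact_mod_cast h2.symm
  refine ⟨(na : ℤ) + nb - (nc + nd), ?_, ?_⟩
  · unfold Theta
    rw [classInner_indFun_left _ _ (isIrr_isClassFunction X.2)]
    unfold Phi
    rw [classInner_sub_left, classInner_add_left, classInner_add_left, hna, hnb, hnc, hnd]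
    push_cast
    rfl
  · rw [hmm, ha] at hpar
    have h3 : Odd (m : ℤ) ↔ Odd m := Int.odd_coe_nat m
    rw [← h3]
    obtain ⟨k, hk⟩ := hpar
    have h4 : (na : ℤ) + nb - (nc + nd) = m + 2 * (nb - nc - k) := by linarith
    rw [h4]
    constructor
    · rintro ⟨j, hj⟩
      exact ⟨j - (nb - nc - k), by linarith⟩
    · rintro ⟨j, hj⟩
      exact ⟨j + (nb - nc - k), by linarith⟩

/-- The values of `Θ` are four times algebraic integers. -/
theorem Theta_int [Fintype G] [Fintype W]
    [Fintype (Subgroup.centralizer ({t} : Set G))] [Fintype (WC t W)]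
    (h : Glob t u s W n) {ω : IrrCharacter W} {i : Fin 3}
    {a b c d : IrrCharacter (Subgroup.centralizer ({t} : Set G))} {M : Ideal AlgInt}
    (q : Quad h.cen (h.omC ω i) a b c d) (hω : h.vw.Reg ω) (hM : IsPModular 2 M) (g : G) :
    ∃ z : ℂ, IsIntegral ℤ z ∧ Theta t (Phi a b c d) g = 4 * z := by
  have hsupp := supp_Phi h q hω hM
  by_cases hg : ∃ x : G, t ∈ Subgroup.zpowers (x⁻¹ * g * x)
  · obtain ⟨x, hx⟩ := hg
    have hC := mem_centralizer_of_mem_zpowers hx
    have h1 : Theta t (Phi a b c d) g = Theta t (Phi a b c d) (x⁻¹ * g * x) := by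
      have := Theta_isClass (Phi a b c d) g x⁻¹
      rw [inv_inv] at this
      exact this.symm
    have h2 : Theta t (Phi a b c d) (x⁻¹ * g * x) = Phi a b c d ⟨x⁻¹ * g * x, hC⟩ :=
      indFun_eq h.orderOf_t Phi_isClass hsupp (h := ⟨x⁻¹ * g * x, hC⟩) hx
    rw [h1, h2]
    exact Phi_int h q hω hM _
  · push Not at hg
    exact ⟨0, isIntegral_zero, by rw [mul_zero]; exact indFun_eq_zero hsupp hg⟩

/-- The value of `Θ` at `t`. -/
theorem Theta_t [Fintype G] [Fintype W]
    [Fintype (Subgroup.centralizer ({t} : Set G))] [Fintype (WC t W)]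
    (h : Glob t u s W n) {ω : IrrCharacter W} {i : Fin 3}
    {a b c d : IrrCharacter (Subgroup.centralizer ({t} : Set G))} {M : Ideal AlgInt}
    (q : Quad h.cen (h.omC ω i) a b c d) (hω : h.vw.Reg ω) (hM : IsPModular 2 M) :
    Theta t (Phi a b c d) t = 4 * (a : Subgroup.centralizer ({t} : Set G) → ℂ) 1 := by
  have hsupp := supp_Phi h q hω hM
  have h2 : Theta t (Phi a b c d) t = Phi a b c d (tC t) :=
    indFun_eq h.orderOf_t Phi_isClass hsupp (h := tC t) (Subgroup.mem_zpowers t)
  have h1 : Odd (orderOf (1 : Subgroup.centralizer ({t} : Set G))) := by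
    rw [orderOf_one]; exact odd_one
  rw [h2, ← q.Phi_t (h.Reg_omC hω i) hM h1, mul_one]

/-- **The characters of `G` over `ω`.** -/
theorem exists_had [Fintype G] [Fintype W]
    [Fintype (Subgroup.centralizer ({t} : Set G))] [Fintype (WC t W)]
    [Fintype (IrrCharacter G)] [DecidableEq (IrrCharacter G)]
    (h : Glob t u s W n) {ω : IrrCharacter W} (hω : h.vw.Reg ω) {M : Ideal AlgInt}
    (hM : IsPModular 2 M)
    (a b c d : Fin 3 → IrrCharacter (Subgroup.centralizer ({t} : Set G)))
    (q : ∀ i, Quad h.cen (h.omC ω i) (a i) (b i) (c i) (d i)) :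
    ∃ (S : Finset (IrrCharacter G)) (α : Fin 3 → IrrCharacter G → ℤ) (e : ℤ) (D : ℕ),
      Had S α ∧ S.Nonempty ∧ (e = 1 ∨ e = -1) ∧ (∀ X ∈ S, prod α X = e) ∧ 0 < D ∧
      (∀ X ∈ S, (X : G → ℂ) 1 = D) ∧
      (∀ i, Theta t (Phi (a i) (b i) (c i) (d i)) = fun g => ∑ X ∈ S, (α i X : ℂ) * X.1 g) ∧
      ∀ {k : ℕ}, 2 ^ k ∣ Nat.card G → 2 ^ k ∣ 4 * D := by
  have hmul : ∀ X : IrrCharacter G, ∃ m : ℕ,
      classInner (fun y : W => (X : G → ℂ) y) (ω : W → ℂ) = m := fun X =>
    classInner_isNat (isCharacter_comp W.subtype (isIrr_isCharacter X.2))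
      (isIrr_isCharacter ω.2)
  choose m hm using hmul
  have hal := fun i X => exists_alpha h (q i) X (hm X)
  choose α hα hpar using hal
  have hde : ∀ X : IrrCharacter G, ∃ n : ℕ, 0 < n ∧ (X : G → ℂ) 1 = n := fun X =>
    isIrr_apply_one X.2
  choose e he0 he using hde
  -- inner products
  have hin : ∀ i j, classInner (Theta t (Phi (a i) (b i) (c i) (d i)))
      (Theta t (Phi (a j) (b j) (c j) (d j))) = if i = j then 4 else 0 := by
    intro i j
    unfold Theta
    rw [classInner_indFun_indFun h.orderOf_t Phi_isClass Phi_isClass (supp_Phi h (q i) hω hM)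
      (supp_Phi h (q j) hω hM)]
    split_ifs with hij
    · subst hij
      exact (q i).Phi_norm
    · refine Phi_orth fun ψ ψ' h1 h2 h3 => ?_
      subst h3
      have h4 := (q i).coef_zero (h.Reg_omC hω i) hM (h.omC_ne hω hij) (h.omC_ne_tw hω hij) h1
      exact (q j).coef_self h2 h4
  have hpars : ∀ i j, ∑ X, α i X * α j X = if i = j then 4 else 0 := by
    intro i j
    have h1 := classInner_eq_sum (Theta_isClass (Phi (a i) (b i) (c i) (d i)))
      (Theta_isClass (Phi (a j) (b j) (c j) (d j)))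
    rw [hin] at h1
    have h2 : ((∑ X, α i X * α j X : ℤ) : ℂ) = ((if i = j then 4 else 0 : ℤ) : ℂ) := by
      push_cast
      have h3 : (if i = j then (4 : ℂ) else 0) = ∑ X, (α i X : ℂ) * α j X := by
        rw [h1]
        refine Finset.sum_congr rfl fun X _ => ?_
        rw [hα, hα, map_intCast]
      rw [← h3]
    exact_mod_cast h2
  have hexp : ∀ i, Theta t (Phi (a i) (b i) (c i) (d i)) =
      ∑ X : IrrCharacter G, (α i X : ℂ) • (X : G → ℂ) := by
    intro i
    rw [classFunction_eq_sum (Theta_isClass (Phi (a i) (b i) (c i) (d i)))]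
    exact Finset.sum_congr rfl fun X _ => by rw [hα]
  have hdeg : ∀ i, ∑ X, α i X * (e X : ℤ) = 0 := by
    intro i
    have h1 : Theta t (Phi (a i) (b i) (c i) (d i)) 1 = 0 :=
      indFun_one h.orderOf_t (supp_Phi h (q i) hω hM)
    rw [hexp, Finset.sum_apply] at h1
    have h2 : ((∑ X, α i X * (e X : ℤ) : ℤ) : ℂ) = ((0 : ℤ) : ℂ) := by
      push_cast
      rw [← h1]
      refine Finset.sum_congr rfl fun X _ => ?_
      rw [Pi.smul_apply, he, smul_eq_mul]
    exact_mod_cast h2
  have hunit : ∀ i X, α i X = 0 ∨ α i X = 1 ∨ α i X = -1 := by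
    intro i X
    refine unit_of_sum (α i) (fun X => (e X : ℤ)) ?_ (hdeg i) (fun X => by exact_mod_cast he0 X) X
    have h1 := hpars i i
    rw [if_pos rfl] at h1
    rw [← h1]
    exact Finset.sum_congr rfl fun X _ => sq _
  let S : Finset (IrrCharacter G) := Finset.univ.filter fun X => Odd (m X)
  have hS : ∀ X, X ∈ S ↔ Odd (m X) := fun X => by simp [S]
  have hoff : ∀ i X, X ∉ S → α i X = 0 := by
    intro i X hX
    rw [hS, ← hpar i X] at hX
    rcases hunit i X with h1 | h1 | h1
    · exact h1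
    · rw [h1] at hX; exact absurd odd_one hX
    · rw [h1] at hX; exact absurd (by decide) hX
  have hon : ∀ i, ∀ X ∈ S, α i X = 1 ∨ α i X = -1 := by
    intro i X hX
    rw [hS, ← hpar i X] at hX
    rcases hunit i X with h1 | h1 | h1
    · rw [h1] at hX; exact absurd hX (by decide)
    · exact Or.inl h1
    · exact Or.inr h1
  have hhad : Had S α := by
    refine ⟨hon, fun i j => ?_⟩
    rw [← hpars i j]
    exact Finset.sum_subset (Finset.subset_univ _) fun X _ hX => by rw [hoff i X hX, zero_mul]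
  have hSne : S.Nonempty := by
    rw [Finset.nonempty_iff_ne_empty]
    intro h0
    have h1 := hhad.orth 0 0
    rw [h0] at h1
    simp at h1
  obtain ⟨ε, hε, hprod, hconst⟩ := hhad.degrees (fun X => (e X : ℤ))
    (fun X _ => by exact_mod_cast he0 X) (fun i => by
      rw [← hdeg i]
      exact Finset.sum_subset (Finset.subset_univ _) fun X _ hX => by
        rw [hoff i X hX, zero_mul]) hSne
  obtain ⟨X₀, hX₀⟩ := id hSne
  refine ⟨S, α, ε, e X₀, hhad, hSne, hε, hprod, he0 X₀, ?_, ?_, ?_⟩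
  · intro X hX
    rw [he]
    have := hconst X hX X₀ hX₀
    exact_mod_cast this
  · intro i
    rw [hexp i]
    funext g
    rw [Finset.sum_apply]
    symm
    exact Finset.sum_subset (Finset.subset_univ _) fun X _ hX => by
      rw [hoff i X hX, Int.cast_zero, zero_mul]
  · intro k hk
    refine dvd_four_mul h.vw hM X₀.2 hω (m := m X₀) ?_ (by exact_mod_cast (hS X₀).1 hX₀)
      (he X₀) hk
    rw [Int.cast_natCast, ← hm, classInner_def, ← mul_assoc, mul_inv_cancel₀ card_ne_zero_complex,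
      one_mul]

end Cfsg.Agent.Classification.QDW.RegMain
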