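import Mathlib
import Cfsg.Agent.Classification.QDW.RegMain
import Cfsg.Agent.S0907
import Cfsg.Agent.S0909

/-!
# The four characters of `G` form a block; the class formula
-/

set_option autoImplicit false
set_option linter.unusedSectionVars false

open Cfsg
open scoped ComplexConjugate

namespace Cfsg.Agent.Classification.QDW.RegMain

open Cfsg.Agent.Characters Cfsg.Agent.Characters.Core Cfsg.Agent.Blocks.Local
open Cfsg.Agent.Blocks.ExtendedFMT (conjL conjL_coe compIrr compIrr_apply)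
open Cfsg.Agent.Classification.BGIsometry
open RegBase RegDeg RegSec RegHad

universe w

section Block

variable {G : Type w} [Group G] [Fintype G] [Fintype (IrrCharacter G)]
  [DecidableEq (IrrCharacter G)] {M : Ideal AlgInt}
  {S : Finset (IrrCharacter G)} {α : Fin 3 → IrrCharacter G → ℤ} {e : ℤ} {D : ℕ}
  {Th : Fin 3 → G → ℂ}

theorem rec_four (hH : Had S α) (he : e = 1 ∨ e = -1) (hp : ∀ X ∈ S, prod α X = e)
    (F : IrrCharacter G → ℂ) {X : IrrCharacter G} (hX : X ∈ S) :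
    4 * F X = ∑ i : Fin 3, (α i X : ℂ) * (∑ Y ∈ S, (α i Y : ℂ) * F Y) + ∑ Y ∈ S, F Y := by
  have he2 : (e : ℂ) * e = 1 := by rcases he with rfl | rfl <;> norm_num
  rw [hH.recon F hX, hp X hX]
  congr 1
  rw [Finset.mul_sum]
  refine Finset.sum_congr rfl fun Y hY => ?_
  rw [hp Y hY, ← mul_assoc, he2, one_mul]

/-- The sum of the four characters vanishes at the elements of even order. -/
theorem delta_zero (hM : IsPModular 2 M) (hH : Had S α) (hS : S.Nonempty)
    (he : e = 1 ∨ e = -1) (hp : ∀ X ∈ S, prod α X = e)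
    (hD : 0 < D) (hdeg : ∀ X ∈ S, (X : G → ℂ) 1 = D)
    (hTh : ∀ i g, Th i g = ∑ X ∈ S, (α i X : ℂ) * (X : G → ℂ) g)
    (hint : ∀ i g, ∃ z : ℂ, IsIntegral ℤ z ∧ Th i g = 4 * z)
    (hodd : ∀ i g, Odd (orderOf g) → Th i g = 0)
    (h2 : ∀ k : ℕ, 2 ^ k ∣ Nat.card G → 2 ^ k ∣ 4 * D)
    {g : G} (hg : ¬ Odd (orderOf g)) : ∑ X ∈ S, (X : G → ℂ) g = 0 := by
  have hMp := isPrime_of_isPModular hM
  have hF2 : Fact (Nat.Prime 2) := ⟨Nat.prime_two⟩
  obtain ⟨X₀, hX₀⟩ := id hS
  have hDne : (D : ℂ) ≠ 0 := Nat.cast_ne_zero.2 hD.ne'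
  have hdelta : ∀ g, ∃ z : ℂ, IsIntegral ℤ z ∧ ∑ Y ∈ S, (Y : G → ℂ) g = 4 * z := by
    intro g
    have h3 := rec_four hH he hp (fun Y => (Y : G → ℂ) g) hX₀
    choose z hz hz2 using fun i => hint i g
    refine ⟨(X₀ : G → ℂ) g - ∑ i : Fin 3, (α i X₀ : ℂ) * z i, ?_, ?_⟩
    · exact (isIntegral_irr X₀.2 g).sub
        (IsIntegral.sum _ fun i _ => (isIntegral_intCast _).mul (hz i))
    · have h4 : ∀ i, ∑ Y ∈ S, (α i Y : ℂ) * (Y : G → ℂ) g = 4 * z i := fun i => by
        rw [← hTh, hz2]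
      simp only [h4] at h3
      rw [mul_sub, h3, Finset.mul_sum,
        Finset.sum_congr rfl fun i _ => (by ring : 4 * ((α i X₀ : ℂ) * z i) =
          (α i X₀ : ℂ) * (4 * z i))]
      ring
  obtain ⟨k, o, ho, hk⟩ := Nat.exists_eq_two_pow_mul_odd (n := Nat.card G) Nat.card_pos.ne'
  obtain ⟨e', he'⟩ := h2 k (by rw [hk]; exact dvd_mul_right _ _)
  have hA : ∀ g : G, MemLocalRing M (blockCoeff (S : Set (IrrCharacter G)) g) := by
    intro g
    obtain ⟨z, hz, hz2⟩ := hdelta g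
    rw [Cfsg.Agent.Blocks.Basic.blockCoeff_def, finsum_mem_coe_finset]
    have h3 : ∑ χ ∈ S, (χ : G → ℂ) 1 * conj ((χ : G → ℂ) g) = D * conj (4 * z) := by
      rw [← hz2, map_sum, Finset.mul_sum]
      exact Finset.sum_congr rfl fun χ hχ => by rw [hdeg χ hχ]
    rw [h3]
    have h1 : (Nat.card G : ℂ)⁻¹ * ((D : ℂ) * conj (4 * z)) = (o : ℂ)⁻¹ * (e' * conj z) := by
      have h2 : (Nat.card G : ℂ) = 2 ^ k * o := by exact_mod_cast hk
      have h3 : (4 : ℂ) * D = 2 ^ k * e' := by exact_mod_cast he'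
      have h4 : (Nat.card G : ℂ) ≠ 0 := card_ne_zero_complex
      have h5 : (o : ℂ) ≠ 0 := by
        intro h6
        rw [h6, mul_zero] at h2
        exact h4 h2
      have h6 : (2 : ℂ) ^ k ≠ 0 := pow_ne_zero _ two_ne_zero
      have hc4 : conj (4 : ℂ) = 4 := map_ofNat _ 4
      rw [map_mul, hc4, h2]
      field_simp
      linear_combination conj z * h3
    rw [h1]
    exact memLocalRing_mul (memLocalRing_inv_natCast hM ho.not_two_dvd_nat)
      (memLocalRing_mul (memLocalRing_natCast _)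
        (memLocalRing_of_isIntegral (isIntegral_conj hz)))
  have hsub := Cfsg.Agent.S0909.result 2 M hM (S : Set (IrrCharacter G)) hA X₀
    (Finset.mem_coe.2 hX₀)
  have hself := Cfsg.Agent.Blocks.Basic.mem_blockOf_self (M := M) X₀
  have hblk : IsPBlock M (blockOf M (X₀ : G → ℂ)) := ⟨X₀, rfl⟩
  classical
  let T : Finset (IrrCharacter G) := Finset.univ.filter (· ∈ blockOf M (X₀ : G → ℂ))
  have hT : ∀ X, X ∈ T ↔ X ∈ blockOf M (X₀ : G → ℂ) := fun X => by simp [T]
  have hTS : T ⊆ S := fun X hX => Finset.mem_coe.1 (hsub ((hT X).1 hX))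
  have hTsum : ∀ g, ¬ Odd (orderOf g) → ∑ X ∈ T, (X : G → ℂ) g = 0 := by
    intro g hg
    have h3 := Cfsg.Agent.S0907.result 2 M hM _ hblk 1 g (by rw [orderOf_one]; norm_num)
      (even_iff_two_dvd.1 (Nat.not_odd_iff_even.1 hg))
    have h4 : blockOf M (X₀ : G → ℂ) = (T : Set (IrrCharacter G)) := by
      ext X
      rw [Finset.mem_coe, hT]
    rw [h4, finsum_mem_coe_finset, Finset.sum_congr rfl (fun χ hχ => by rw [hdeg χ (hTS hχ)]),
      ← Finset.mul_sum, ← map_sum] at h3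
    have h5 := (mul_eq_zero.1 h3).resolve_left hDne
    exact (map_eq_zero _).1 h5
  have hTi : ∀ i, ∑ X ∈ T, (α i X : ℂ) = 0 := by
    intro i
    have h3 : classInner (Th i) (∑ X ∈ T, (X : G → ℂ)) = 0 := by
      rw [classInner_def, Finset.sum_eq_zero, mul_zero]
      intro g _
      by_cases hg : Odd (orderOf g)
      · rw [hodd i g hg, zero_mul]
      · rw [Finset.sum_apply, hTsum g hg, map_zero, mul_zero]
    rw [← h3, classInner_sum_right]
    refine Finset.sum_congr rfl fun X hX => ?_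
    have h4 : Th i = ∑ Y ∈ S, (α i Y : ℂ) • (Y : G → ℂ) := by
      funext g
      rw [hTh, Finset.sum_apply]
      rfl
    rw [h4, classInner_sum_left, Finset.sum_eq_single X]
    · rw [classInner_smul_left, classInner_irr_self X.2, mul_one]
    · intro Y _ hY
      rw [classInner_smul_left, classInner_irr_ne Y.2 X.2 (fun h => hY (Subtype.ext h)), mul_zero]
    · exact fun h => absurd (hTS hX) h
  have hind : ∀ X ∈ S, X ∈ T := by
    have h3 : ∀ X ∈ S, 4 * (if X ∈ T then (1 : ℂ) else 0) = T.card := by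
      intro X hX
      have h4 := rec_four hH he hp (fun Y => if Y ∈ T then (1 : ℂ) else 0) hX
      simp only [mul_ite, mul_one, mul_zero] at h4
      have h5 : ∀ f : IrrCharacter G → ℂ, ∑ Y ∈ S, (if Y ∈ T then f Y else 0) = ∑ Y ∈ T, f Y := by
        intro f
        rw [← Finset.sum_filter]
        congr 1
        ext Y
        rw [Finset.mem_filter]
        exact ⟨fun h => h.2, fun h => ⟨hTS h, h⟩⟩
      rw [mul_ite, mul_one, mul_zero, h4]
      simp only [h5, hTi, mul_zero, Finset.sum_const_zero, zero_add]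
      simp
    intro X hX
    by_contra hXT
    have h4 := h3 X hX
    rw [if_neg hXT, mul_zero] at h4
    have h5 : T.card = 0 := by exact_mod_cast h4.symm
    rw [Finset.card_eq_zero] at h5
    have h6 : X₀ ∈ T := (hT X₀).2 hself
    rw [h5] at h6
    exact absurd h6 (Finset.notMem_empty _)
  have hTS' : T = S := Finset.Subset.antisymm hTS hind
  rw [← hTS']
  exact hTsum g hg

end Block

section Formula

variable {G : Type w} [Group G] {t u s : G} {W : Subgroup G} {n : Fin 3 → G}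

theorem orderOf_two {K : Type*} [Group K] {x : K} (h1 : x * x = 1) (h2 : x ≠ 1) :
    orderOf x = 2 :=
  orderOf_eq_prime (by rw [_root_.sq, h1]) h2

/-- The involutions of `C(t)`. -/
theorem Glob.filter_eq (h : Glob t u s W n) [Fintype (Subgroup.centralizer ({t} : Set G))]
    [DecidableEq (Subgroup.centralizer ({t} : Set G))]
    [DecidablePred fun x : Subgroup.centralizer ({t} : Set G) => orderOf x = 2]
    [DecidablePred fun x : Subgroup.centralizer ({t} : Set G) => IsConj h.uC x] :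
    Finset.univ.filter (fun x : Subgroup.centralizer ({t} : Set G) => orderOf x = 2) =
      insert (tC t) (Finset.univ.filter
        (fun x : Subgroup.centralizer ({t} : Set G) => IsConj h.uC x)) := by
  ext x
  simp only [Finset.mem_filter, Finset.mem_univ, true_and, Finset.mem_insert]
  constructor
  · intro hx
    by_cases hxt : x = tC t
    · exact Or.inl hxt
    · right
      obtain ⟨c, hc, hcx⟩ := h.fus (x : G) (mem_C.1 x.2) (by rw [Subgroup.orderOf_coe]; exact hx)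
        (fun h1 => hxt (Subtype.ext h1))
      exact isConj_iff.2 ⟨⟨c, mem_C.2 hc⟩, Subtype.ext hcx⟩
  · rintro (rfl | hx)
    · exact orderOf_two h.cen.vw.t_sq h.cen.vw.t_ne
    · obtain ⟨c, rfl⟩ := isConj_iff.1 hx
      rw [orderOf_conj]
      exact orderOf_two h.cen.vw.u_sq h.cen.vw.u_ne

theorem Glob.not_mem (h : Glob t u s W n) [Fintype (Subgroup.centralizer ({t} : Set G))]
    [DecidablePred fun x : Subgroup.centralizer ({t} : Set G) => IsConj h.uC x] :
    tC t ∉ Finset.univ.filter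
        (fun x : Subgroup.centralizer ({t} : Set G) => IsConj h.uC x) := by
  simp only [Finset.mem_filter, Finset.mem_univ, true_and]
  intro h1
  obtain ⟨c, hc⟩ := isConj_iff.1 h1
  apply h.cen.vw.ne
  have h2 : h.uC = c⁻¹ * tC t * c := by rw [← hc]; group
  rw [h2, mul_assoc, h.cen.t_comm c]
  group

variable [Fintype (Subgroup.centralizer ({t} : Set G))] [Fintype (WC t W)]
  {ω : IrrCharacter W} {M : Ideal AlgInt}

theorem Phi_tt (h : Glob t u s W n) {a b c d : IrrCharacter (Subgroup.centralizer ({t} : Set G))}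
    {i : Fin 3} (q : Quad h.cen (h.omC ω i) a b c d) (hω : h.vw.Reg ω) (hM : IsPModular 2 M) :
    Phi a b c d (tC t * tC t) = 0 := by
  refine q.Phi_zero (h.Reg_omC hω i) hM ?_
  rw [h.cen.t_mul, orderOf_two h.cen.vw.t_sq h.cen.vw.t_ne]
  decide

theorem Phi_tx (h : Glob t u s W n) {a b c d : IrrCharacter (Subgroup.centralizer ({t} : Set G))}
    {i : Fin 3} (q : Quad h.cen (h.omC ω i) a b c d) (hω : h.vw.Reg ω) (hM : IsPModular 2 M)
    {x : Subgroup.centralizer ({t} : Set G)} (hx : orderOf x = 2) :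
    Phi a b c d (tC t * x) = 0 := by
  refine q.Phi_zero (h.Reg_omC hω i) hM ?_
  rw [h.cen.t_mul, hx]
  decide

theorem Phi_xt (h : Glob t u s W n) {a b c d : IrrCharacter (Subgroup.centralizer ({t} : Set G))}
    {i : Fin 3} (q : Quad h.cen (h.omC ω i) a b c d) (hω : h.vw.Reg ω) (hM : IsPModular 2 M)
    {x : Subgroup.centralizer ({t} : Set G)} (hx : orderOf x = 2) :
    Phi a b c d (x * tC t) = 0 := by
  rw [← h.cen.t_comm x]
  exact Phi_tx h q hω hM hx

/-- The sum over the pairs of involutions of `C(t)`. -/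
theorem sum_inv_pairs (h : Glob t u s W n)
    {a b c d : IrrCharacter (Subgroup.centralizer ({t} : Set G))} {i : Fin 3}
    (q : Quad h.cen (h.omC ω i) a b c d) (hω : h.vw.Reg ω) (hM : IsPModular 2 M)
    [DecidablePred fun x : Subgroup.centralizer ({t} : Set G) => orderOf x = 2]
    [DecidablePred fun x : Subgroup.centralizer ({t} : Set G) => IsConj h.uC x]
    {d₀ : ℕ} (hd : (a : Subgroup.centralizer ({t} : Set G) → ℂ) 1 = d₀) {w : ℕ} (hw : (h.omC ω i : WC t W → ℂ) 1 = w) :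
    ∑ x ∈ Finset.univ.filter (fun x : Subgroup.centralizer ({t} : Set G) => orderOf x = 2),
      ∑ y ∈ Finset.univ.filter (fun x : Subgroup.centralizer ({t} : Set G) => orderOf x = 2),
        Phi a b c d (x * y) =
      ((Finset.univ.filter
        (fun x : Subgroup.centralizer ({t} : Set G) => IsConj h.uC x)).card : ℂ) ^ 2 *
        (8 * (w : ℂ) ^ 2 / d₀) := by
  classical
  have ht2 : orderOf (tC t) = 2 := orderOf_two h.cen.vw.t_sq h.cen.vw.t_ne
  have hK2 : ∀ x ∈ Finset.univ.filter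
      (fun x : Subgroup.centralizer ({t} : Set G) => IsConj h.uC x), orderOf x = 2 := by
    intro x hx
    obtain ⟨c, rfl⟩ := isConj_iff.1 (Finset.mem_filter.1 hx).2
    rw [orderOf_conj]
    exact orderOf_two h.cen.vw.u_sq h.cen.vw.u_ne
  rw [h.filter_eq, Finset.sum_insert h.not_mem, Finset.sum_insert h.not_mem, Phi_tt h q hω hM,
    Finset.sum_eq_zero fun x hx => Phi_tx h q hω hM (hK2 x hx), add_zero, zero_add]
  rw [Finset.sum_congr rfl fun x hx => by
    rw [Finset.sum_insert h.not_mem, Phi_xt h q hω hM (hK2 x hx), zero_add]]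
  have hz : (Nat.card (Subgroup.centralizer ({h.uC} : Set
      (Subgroup.centralizer ({t} : Set G)))) : ℂ) ≠ 0 := card_ne_zero_complex
  have h1 := q.sum_pairs (h.Reg_omC hω i) hM hd hw
  have h2 : ∀ x : Subgroup.centralizer ({t} : Set G),
      ∑ y : Subgroup.centralizer ({t} : Set G),
        Phi a b c d (x * h.uC * x⁻¹ * (y * h.uC * y⁻¹)) =
      (Nat.card (Subgroup.centralizer ({h.uC} : Set
        (Subgroup.centralizer ({t} : Set G)))) : ℂ) *
        ∑ y ∈ Finset.univ.filter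
          (fun x : Subgroup.centralizer ({t} : Set G) => IsConj h.uC x),
            Phi a b c d (x * h.uC * x⁻¹ * y) := fun x =>
    sum_conj_eq h.uC (fun y => Phi a b c d (x * h.uC * x⁻¹ * y))
  rw [Finset.sum_congr rfl fun x _ => h2 x, ← Finset.mul_sum,
    sum_conj_eq h.uC (fun x => ∑ y ∈ Finset.univ.filter
          (fun x : Subgroup.centralizer ({t} : Set G) => IsConj h.uC x),
            Phi a b c d (x * y)), card_conj_eq h.uC] at h1
  apply mul_left_cancel₀ (pow_ne_zero 2 hz)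
  linear_combination h1

/-- **The degree formula.** -/
theorem formula_quad [Fintype G] [Fintype W] (h : Glob t u s W n) (hω : h.vw.Reg ω)
    (hM : IsPModular 2 M)
    [DecidablePred fun x : Subgroup.centralizer ({t} : Set G) => IsConj h.uC x]
    (a b c d : Fin 3 → IrrCharacter (Subgroup.centralizer ({t} : Set G)))
    (q : ∀ i, Quad h.cen (h.omC ω i) (a i) (b i) (c i) (d i))
    {d₀ : Fin 3 → ℕ} (hd : ∀ i, (a i : Subgroup.centralizer ({t} : Set G) → ℂ) 1 = d₀ i)
    {w : ℕ} (hw : (ω : W → ℂ) 1 = w) :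
    ∃ D : ℕ, 0 < D ∧ D * (Finset.univ.filter
        (fun x : Subgroup.centralizer ({t} : Set G) => IsConj h.uC x)).card ^ 2 * w ^ 2 =
      (Subgroup.centralizer ({t} : Set G)).index * (d₀ 0 * d₀ 1 * d₀ 2) := by
  classical
  have := finite_irr (G := G)
  have := Fintype.ofFinite (IrrCharacter G)
  obtain ⟨S, α, e, D, hH, hS, he, hp, hD, hdeg, hTh, h2⟩ := exists_had h hω hM a b c d q
  have ht : orderOf t = 2 := h.orderOf_t
  have hdel := delta_zero (Th := fun i => Theta t (Phi (a i) (b i) (c i) (d i))) (g := t)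
    hM hH hS he hp hD hdeg (fun i g => congrFun (hTh i) g)
    (fun i g => Theta_int h (q i) hω hM g)
    (fun i g hg => indFun_eq_zero_of_odd ht (supp_Phi h (q i) hω hM) hg)
    (fun k hk => h2 hk) (by rw [ht]; decide)
  have hval : ∀ X ∈ S, (X : G → ℂ) t = ∑ i, (α i X : ℂ) * d₀ i := by
    intro X hX
    have h3 := rec_four hH he hp (fun Y => (Y : G → ℂ) t) hX
    have h4 : ∀ i, ∑ Y ∈ S, (α i Y : ℂ) * (Y : G → ℂ) t = 4 * d₀ i := fun i => by
      rw [← hd i, ← Theta_t h (q i) hω hM]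
      exact (congrFun (hTh i) t).symm
    simp only [h4] at h3
    rw [hdel, add_zero] at h3
    have h5 : (4 : ℂ) ≠ 0 := by norm_num
    apply mul_left_cancel₀ h5
    rw [h3, Finset.mul_sum]
    exact Finset.sum_congr rfl fun i _ => by ring
  have key := BGOrder.sum_pairs_eq t ht h.one_class (Subgroup.centralizer ({t} : Set G)) rfl
    (Phi (a 0) (b 0) (c 0) (d 0)) S (fun X => (α 0 X : ℂ)) (fun X => (X : G → ℂ))
    (fun X _ => X.2) (hTh 0)
  rw [BGOrder.sum_pairs_restrict t ht _ rfl _ (supp_Phi h (q 0) hω hM),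
    sum_inv_pairs h (q 0) hω hM (hd 0) (w := w) (by
      rw [← hw]
      change (ω : W → ℂ) (h.vw.conj (h.nN 0) (h.eW 1)) = (ω : W → ℂ) 1
      rw [map_one, map_one])] at key
  have hDne : (D : ℂ) ≠ 0 := Nat.cast_ne_zero.2 hD.ne'
  have hsq : ∑ X ∈ S, (α 0 X : ℂ) * ((X : G → ℂ) t ^ 2 / (X : G → ℂ) 1) =
      8 * e * (d₀ 1 * d₀ 2) / D := by
    rw [← hH.sum_sq hp (fun i => (d₀ i : ℂ)), Finset.sum_div]
    refine Finset.sum_congr rfl fun X hX => ?_
    rw [hval X hX, hdeg X hX]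
    ring
  rw [hsq] at key
  set K := (Finset.univ.filter
        (fun x : Subgroup.centralizer ({t} : Set G) => IsConj h.uC x)).card with hK
  have hd0 : ∀ i, (d₀ i : ℂ) ≠ 0 := fun i => by
    rw [← hd i]
    exact isIrr_apply_one_ne_zero (a i).2
  have h3 : (D : ℂ) * (K : ℂ) ^ 2 * w ^ 2 =
      e * ((Subgroup.centralizer ({t} : Set G)).index * (d₀ 0 * d₀ 1 * d₀ 2)) := by
    have h4 := hd0 0
    field_simp at key
    linear_combination key
  have h4 : (D : ℤ) * (K : ℤ) ^ 2 * w ^ 2 =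
      e * ((Subgroup.centralizer ({t} : Set G)).index * (d₀ 0 * d₀ 1 * d₀ 2)) := by
    exact_mod_cast h3
  have hpos : (0 : ℤ) < (Subgroup.centralizer ({t} : Set G)).index * (d₀ 0 * d₀ 1 * d₀ 2) := by
    have h5 : 0 < (Subgroup.centralizer ({t} : Set G)).index :=
      Nat.pos_of_ne_zero Subgroup.index_ne_zero_of_finite
    have h6 : ∀ i, 0 < d₀ i := fun i => Nat.pos_of_ne_zero (by exact_mod_cast hd0 i)
    have := h6 0
    have := h6 1
    have := h6 2
    positivity
  refine ⟨D, hD, ?_⟩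
  rcases he with rfl | rfl
  · rw [one_mul] at h4
    exact_mod_cast h4
  · exfalso
    have h5 : (0 : ℤ) ≤ (D : ℤ) * (K : ℤ) ^ 2 * w ^ 2 := by positivity
    linarith

end Formula

section Final

variable {G : Type w} [Group G] {t u s : G} {W : Subgroup G} {n : Fin 3 → G}

/-- `u` as an element of `C(t)`. -/
def uT (h : VW t u W) : Subgroup.centralizer ({t} : Set G) := ⟨u, mem_C.2 h.comm.symm⟩

/-- `W → C(t)`. -/
def inc (h : VW t u W) (y : W) : Subgroup.centralizer ({t} : Set G) := ⟨y, VW_W_le h y.2⟩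

/-- The coefficients, in `C(t)`. -/
theorem classInner_WC [Fintype W] [Fintype (WC t W)] (h : Glob t u s W n)
    (ψ : Subgroup.centralizer ({t} : Set G) → ℂ) (ω : IrrCharacter W) (i : Fin 3) :
    classInner (fun y : WC t W => ψ (h.uC * y)) (h.omC ω i : WC t W → ℂ) =
      classInner (fun y : W => ψ (uT h.vw * inc h.vw y))
        (fun y : W => (ω : W → ℂ) (h.vw.conj (h.nN i) y)) := by
  rw [classInner_def, classInner_def, Nat.card_congr h.eW.toEquiv]
  congr 1
  rw [← Equiv.sum_comp h.eW.toEquiv]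
  rfl

/-- **The degree formula**: `ψ i` lies over the coefficient `ω^(n i)` at `u W`. -/
theorem Glob.formula [Fintype G] [Fintype W] [Fintype (Subgroup.centralizer ({t} : Set G))]
    (h : Glob t u s W n) {ω : IrrCharacter W} (hω : h.vw.Reg ω)
    {ψ : Fin 3 → Subgroup.centralizer ({t} : Set G) → ℂ}
    (hi : ∀ i, IsIrrCharacter (Subgroup.centralizer ({t} : Set G)) (ψ i))
    (hψ : ∀ i, classInner (fun y : W => ψ i (uT h.vw * inc h.vw y))
        (fun y : W => (ω : W → ℂ) (h.vw.conj (h.nN i) y)) ≠ 0)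
    {d : Fin 3 → ℕ} (hd : ∀ i, ψ i 1 = d i) {w : ℕ} (hw : (ω : W → ℂ) 1 = w) :
    ∃ D : ℕ, 0 < D ∧
      D * Nat.card {x : Subgroup.centralizer ({t} : Set G) // IsConj (uT h.vw) x} ^ 2 * w ^ 2 =
      (Subgroup.centralizer ({t} : Set G)).index * (d 0 * d 1 * d 2) := by
  classical
  let _ : Fintype (WC t W) := Fintype.ofFinite _
  obtain ⟨M, hM⟩ := Cfsg.Agent.Blocks.ExistsModular.exists_isPModular Nat.prime_two
  choose a b c d' q using fun i => exists_quad h.cen (h.Reg_omC hω i)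
  have hd' : ∀ i, (a i : Subgroup.centralizer ({t} : Set G) → ℂ) 1 = d i := by
    intro i
    obtain ⟨h1, h2, h3⟩ := (q i).degrees (h.Reg_omC hω i) hM
    have h4 := hψ i
    rw [← classInner_WC] at h4
    rcases (q i).mem_of_coef (ψ := ⟨ψ i, hi i⟩) h4 with h5 | h5 | h5 | h5
    · rw [← hd i, ← h5]
    · rw [← hd i, ← h1, ← h5]
    · rw [← hd i, ← h2, ← h5]
    · rw [← hd i, ← h3, ← h5]
  obtain ⟨D, hD, h1⟩ := formula_quad h hω hM a b c d' q hd' hw
  refine ⟨D, hD, ?_⟩
  rw [← h1, Nat.card_eq_fintype_card, Fintype.card_subtype]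
  rfl

/-- The same with an element of order three. -/
theorem formula [Fintype G] [Fintype W] [Fintype (Subgroup.centralizer ({t} : Set G))]
    (h : VW t u W) {ρ : G} (hst : s * t = t * s) (hsu : s * u * s⁻¹ = t * u)
    (hρt : ρ * t * ρ⁻¹ = u) (hρu : ρ * u * ρ⁻¹ = t * u)
    (hρ : ρ ∈ Subgroup.normalizer (h.V : Set G))
    (fus : ∀ x, x * t = t * x → orderOf x = 2 → x ≠ t → ∃ c, c * t = t * c ∧ c * u * c⁻¹ = x)
    (hone : ∀ x, orderOf x = 2 → IsConj t x)
    {ω : IrrCharacter W} (hω : h.Reg ω)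
    {ψ₀ ψ₁ ψ₂ : Subgroup.centralizer ({t} : Set G) → ℂ}
    (i₀ : IsIrrCharacter (Subgroup.centralizer ({t} : Set G)) ψ₀)
    (i₁ : IsIrrCharacter (Subgroup.centralizer ({t} : Set G)) ψ₁)
    (i₂ : IsIrrCharacter (Subgroup.centralizer ({t} : Set G)) ψ₂)
    (h₀ : classInner (fun y : W => ψ₀ (uT h * inc h y)) (ω : W → ℂ) ≠ 0)
    (h₁ : classInner (fun y : W => ψ₁ (uT h * inc h y))
      (fun y : W => (ω : W → ℂ) (h.conj ⟨ρ, hρ⟩ y)) ≠ 0)
    (h₂ : classInner (fun y : W => ψ₂ (uT h * inc h y))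
      (fun y : W => (ω : W → ℂ) (h.conj ⟨ρ, hρ⟩ (h.conj ⟨ρ, hρ⟩ y))) ≠ 0)
    {d₀ d₁ d₂ : ℕ} (e₀ : ψ₀ 1 = d₀) (e₁ : ψ₁ 1 = d₁) (e₂ : ψ₂ 1 = d₂)
    {w : ℕ} (hw : (ω : W → ℂ) 1 = w) :
    ∃ D : ℕ, 0 < D ∧
      D * Nat.card {x : Subgroup.centralizer ({t} : Set G) // IsConj (uT h) x} ^ 2 * w ^ 2 =
      (Subgroup.centralizer ({t} : Set G)).index * (d₀ * d₁ * d₂) := by
  have e1 : (ρ * ρ) * t * (ρ * ρ)⁻¹ = t * u := by
    calc (ρ * ρ) * t * (ρ * ρ)⁻¹ = ρ * (ρ * t * ρ⁻¹) * ρ⁻¹ := by group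
      _ = t * u := by rw [hρt, hρu]
  have n1 : t ≠ u := h.ne
  have n2 : t ≠ t * u := fun h1 => h.u_ne (left_eq_mul.1 h1)
  have n3 : u ≠ t * u := fun h1 => h.t_ne (right_eq_mul.1 h1)
  have hg : Glob t u s W ![1, ρ, ρ * ρ] :=
    { vw := h
      s_t := hst
      s_u := hsu
      n_mem := by
        intro i
        fin_cases i
        · exact one_mem _
        · exact hρ
        · exact mul_mem hρ hρ
      n_inj := by
        have m0 : (1 : G) * t * (1 : G)⁻¹ = t := by group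
        intro i j hij
        fin_cases i <;> fin_cases j
        · exact absurd rfl hij
        · change (1 : G) * t * (1 : G)⁻¹ ≠ ρ * t * ρ⁻¹
          rw [m0, hρt]; exact n1
        · change (1 : G) * t * (1 : G)⁻¹ ≠ (ρ * ρ) * t * (ρ * ρ)⁻¹
          rw [m0, e1]; exact n2
        · change ρ * t * ρ⁻¹ ≠ (1 : G) * t * (1 : G)⁻¹
          rw [m0, hρt]; exact n1.symm
        · exact absurd rfl hij
        · change ρ * t * ρ⁻¹ ≠ (ρ * ρ) * t * (ρ * ρ)⁻¹
          rw [hρt, e1]; exact n3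
        · change (ρ * ρ) * t * (ρ * ρ)⁻¹ ≠ (1 : G) * t * (1 : G)⁻¹
          rw [m0, e1]; exact n2.symm
        · change (ρ * ρ) * t * (ρ * ρ)⁻¹ ≠ ρ * t * ρ⁻¹
          rw [hρt, e1]; exact n3.symm
        · exact absurd rfl hij
      fus := fus
      one_class := hone }
  have c0 : (fun y : W => (ω : W → ℂ) (h.conj (hg.nN 0) y)) = (ω : W → ℂ) := by
    funext y
    refine congrArg (ω : W → ℂ) (Subtype.ext ?_)
    rw [h.conj_coe]
    change (1 : G) * (y : G) * (1 : G)⁻¹ = y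
    group
  have c2 : (fun y : W => (ω : W → ℂ) (h.conj (hg.nN 2) y)) =
      (fun y : W => (ω : W → ℂ) (h.conj ⟨ρ, hρ⟩ (h.conj ⟨ρ, hρ⟩ y))) := by
    funext y
    refine congrArg (ω : W → ℂ) (Subtype.ext ?_)
    rw [h.conj_coe, h.conj_coe, h.conj_coe]
    change (ρ * ρ) * (y : G) * (ρ * ρ)⁻¹ = ρ * (ρ * (y : G) * ρ⁻¹) * ρ⁻¹
    group
  refine hg.formula (ω := ω) hω (ψ := ![ψ₀, ψ₁, ψ₂]) (d := ![d₀, d₁, d₂]) ?_ ?_ ?_ hw
  · intro i
    fin_cases i
    · exact i₀
    · exact i₁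
    · exact i₂
  · intro i
    fin_cases i
    · change classInner (fun y : W => ψ₀ (uT h * inc h y))
        (fun y : W => (ω : W → ℂ) (h.conj (hg.nN 0) y)) ≠ 0
      rw [c0]
      exact h₀
    · exact h₁
    · change classInner (fun y : W => ψ₂ (uT h * inc h y))
        (fun y : W => (ω : W → ℂ) (h.conj (hg.nN 2) y)) ≠ 0
      rw [c2]
      exact h₂
  · intro i
    fin_cases i
    · exact e₀
    · exact e₁
    · exact e₂

end Final

end Cfsg.Agent.Classification.QDW.RegMain
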