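import Mathlib
import Cfsg.Agent.Classification.QDW.RegEnd
import Cfsg.Agent.Classification.QDW.NumBridgeG

/-!
# `f = Q³` from the degree formula
-/

set_option autoImplicit false
set_option linter.unusedSectionVars false

open Cfsg
open scoped ComplexConjugate

namespace Cfsg.Agent.Classification.QDW.RegCube

open Cfsg.Agent.Characters Cfsg.Agent.Characters.Core Cfsg.Agent.Classification.BGOrder
  Cfsg.Agent.Classification.BGSplit Cfsg.Agent.Classification.InvCent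
  Cfsg.Agent.Classification.InvCent.GPair Cfsg.Agent.Classification.RTwo.General
  Cfsg.Agent.Classification.QDW.NumBridge
open RegBase RegMain

universe w v

variable {G : Type w} [Group G] [Fintype G] {C : Type v} [Group C] [Fintype C] {t : G} {z : C}
  {π : (Subgroup.centralizer ({t} : Set G)) →* C}
  {q : ℕ} {ε : ℤ} {Z T T' U : Subgroup C} {s₀ s' u₀ : C}

theorem orderOf_map (H : Hyp t z π) {x : Subgroup.centralizer ({t} : Set G)}
    (hx : orderOf x = 2) : orderOf (π x) = 2 := by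
  have h1 : x * x = 1 := mul_self_of_orderOf hx
  refine orderOf_two (by rw [← map_mul, h1, map_one]) fun h2 => ?_
  have h3 := eq_one_of_ker H h2 (m := 1) (by rw [pow_one, _root_.sq, h1])
  rw [h3, orderOf_one] at hx
  norm_num at hx

/-- The number of involutions of `C(t)` other than `t`. -/
theorem card_inv (H : Hyp t z π) (h : CHyp z q ε Z T T' U s₀ s' u₀) :
    (Nat.card {x : Subgroup.centralizer ({t} : Set G) // orderOf x = 2 ∧ x ≠ tt t} : ℂ) =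
      q * (q + ε) * kap π u₀ := by
  classical
  have := Fintype.ofFinite (Subgroup.centralizer ({t} : Set G))
  set I : Finset (Subgroup.centralizer ({t} : Set G)) :=
    Finset.univ.filter fun x => orderOf x = 2 ∧ x ≠ tt t with hI
  have hmem : ∀ x, x ∈ I ↔ orderOf x = 2 ∧ x ≠ tt t := fun x => by simp [hI]
  have hmaps : ∀ x ∈ I, π x ∈ nInv z := by
    intro x hx
    rw [hmem] at hx
    exact mem_nInv.2 ⟨orderOf_map H hx.1, fun h1 => hx.2 (eq_tt H hx.1 h1)⟩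
  have h1 : I.card = ∑ c ∈ nInv z, (I.filter fun x => π x = c).card :=
    Finset.card_eq_sum_card_fiberwise hmaps
  have h2 : ∀ c ∈ nInv z, (I.filter fun x => π x = c).card = kap π u₀ := by
    intro c hc
    rw [← card_over H h hc, Nat.card_eq_fintype_card, Fintype.card_subtype]
    congr 1
    ext x
    simp only [Finset.mem_filter, hmem, Finset.mem_univ, true_and]
    constructor
    · rintro ⟨h3, h4⟩
      exact ⟨h3.1, h4⟩
    · rintro ⟨h3, h4⟩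
      refine ⟨⟨h3, ?_⟩, h4⟩
      rintro rfl
      rw [map_tt H] at h4
      exact (mem_nInv.1 hc).2 h4.symm
  rw [Nat.card_eq_fintype_card, Fintype.card_subtype, ← hI, h1, Finset.sum_congr rfl h2,
    Finset.sum_const, smul_eq_mul, Nat.cast_mul, h.card_nInv]

/-- The number of conjugates of `u` in `C(t)`. -/
theorem card_conj (H : Hyp t z π) (h : CHyp z q ε Z T T' U s₀ s' u₀) {u : G} {W : Subgroup G}
    (hV : VW t u W)
    (fus : ∀ x, x * t = t * x → orderOf x = 2 → x ≠ t → ∃ c, c * t = t * c ∧ c * u * c⁻¹ = x) :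
    (Nat.card {x : Subgroup.centralizer ({t} : Set G) // IsConj (uT hV) x} : ℂ) =
      q * (q + ε) * kap π u₀ := by
  rw [← card_inv H h]
  congr 1
  refine Nat.card_congr (Equiv.subtypeEquivRight fun x => ?_)
  constructor
  · intro h1
    obtain ⟨c, rfl⟩ := isConj_iff.1 h1
    refine ⟨?_, fun h2 => ?_⟩
    · rw [orderOf_conj]
      exact orderOf_two (Subtype.ext hV.u_sq) fun h2 => hV.u_ne (congrArg Subtype.val h2)
    · have h3 : uT hV = c⁻¹ * tt t * c := by rw [← h2]; group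
      have h4 : uT hV = tt t := by
        rw [h3, mul_assoc, (tt_comm c).eq]
        group
      exact hV.ne (congrArg Subtype.val h4).symm
  · rintro ⟨h1, h2⟩
    obtain ⟨c, hc, hcx⟩ := fus (x : G) (mem_C.1 x.2) (by rw [Subgroup.orderOf_coe]; exact h1)
      (fun h3 => h2 (Subtype.ext h3))
    exact isConj_iff.2 ⟨⟨c, mem_C.2 hc⟩, Subtype.ext hcx⟩

/-- **`f = Q³`.** -/
theorem eq_cube_of [Fintype (Subgroup.centralizer ({t} : Set G))] {f x : ℤ} (H : Hyp t z π)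
    (h : CHyp z q ε Z T T' U s₀ s' u₀)
    (N : Num q ε ((Subgroup.centralizer ({t} : Set G)).index) (kap π u₀) f x)
    (hpp : IsPrimePow q) {u : G} {W : Subgroup G} [Fintype W]
    (hV : VW t u W) {s ρ : G} (hst : s * t = t * s) (hsu : s * u * s⁻¹ = t * u)
    (hρt : ρ * t * ρ⁻¹ = u) (hρu : ρ * u * ρ⁻¹ = t * u)
    (hρ : ρ ∈ Subgroup.normalizer (hV.V : Set G))
    (fus : ∀ x, x * t = t * x → orderOf x = 2 → x ≠ t → ∃ c, c * t = t * c ∧ c * u * c⁻¹ = x)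
    {ω : IrrCharacter W} (hω : hV.Reg ω)
    {ψ₀ ψ₁ ψ₂ : Subgroup.centralizer ({t} : Set G) → ℂ}
    (i₀ : IsIrrCharacter (Subgroup.centralizer ({t} : Set G)) ψ₀)
    (i₁ : IsIrrCharacter (Subgroup.centralizer ({t} : Set G)) ψ₁)
    (i₂ : IsIrrCharacter (Subgroup.centralizer ({t} : Set G)) ψ₂)
    (h₀ : classInner (fun y : W => ψ₀ (uT hV * inc hV y)) (ω : W → ℂ) ≠ 0)
    (h₁ : classInner (fun y : W => ψ₁ (uT hV * inc hV y))
      (fun y : W => (ω : W → ℂ) (hV.conj ⟨ρ, hρ⟩ y)) ≠ 0)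
    (h₂ : classInner (fun y : W => ψ₂ (uT hV * inc hV y))
      (fun y : W => (ω : W → ℂ) (hV.conj ⟨ρ, hρ⟩ (hV.conj ⟨ρ, hρ⟩ y))) ≠ 0)
    (e₀ : ψ₀ 1 = (((q : ℤ) + ε : ℤ) : ℂ)) (e₁ : ψ₁ 1 = (((q : ℤ) + ε : ℤ) : ℂ))
    (e₂ : ψ₂ 1 = (((q : ℤ) + ε : ℤ) : ℂ)) (hw : (ω : W → ℂ) 1 = 1) :
    f = (ε * q) ^ 3 := by
  have hq3 : (3 : ℤ) ≤ q := by exact_mod_cast N.q_ge
  have hd : (0 : ℤ) < q + ε := by rcases h.eps with h1 | h1 <;> rw [h1] <;> linarith
  obtain ⟨d, hdd⟩ := Int.eq_ofNat_of_zero_le hd.le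
  have hdc : (((q : ℤ) + ε : ℤ) : ℂ) = d := by rw [hdd]; push_cast; rfl
  rw [hdc] at e₀ e₁ e₂
  obtain ⟨D, -, h1⟩ := RegMain.formula hV hst hsu hρt hρu hρ fus H.one_class hω i₀ i₁ i₂ h₀ h₁ h₂
    e₀ e₁ e₂ (w := 1) (by rw [hw, Nat.cast_one])
  have h2 := card_conj H h hV fus
  have h3 : (Nat.card {x : Subgroup.centralizer ({t} : Set G) // IsConj (uT hV) x} : ℤ) =
      q * (q + ε) * kap π u₀ := by exact_mod_cast h2
  have h4 : (D : ℤ) * (Nat.card {x : Subgroup.centralizer ({t} : Set G) //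
      IsConj (uT hV) x} : ℤ) ^ 2 * (1 : ℤ) ^ 2 =
      (Subgroup.centralizer ({t} : Set G)).index * ((d : ℤ) * d * d) := by exact_mod_cast h1
  have hdd' : (q : ℤ) + ε = d := hdd
  rw [h3, ← hdd'] at h4
  have hA := N.eqA
  have hκ : (kap π u₀ : ℤ) ≠ 0 := by
    intro h5
    have := N.odd_κ
    rw [h5] at this
    exact absurd this (by decide)
  refine N.eq_cube hpp (a := D) ?_
  have h5 : (D : ℤ) * q ^ 2 * (kap π u₀ : ℤ) ^ 2 =
      (Subgroup.centralizer ({t} : Set G)).index * (q + ε) := by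
    apply mul_left_cancel₀ (pow_ne_zero 2 hd.ne')
    linear_combination h4
  apply mul_left_cancel₀ (pow_ne_zero 2 hκ)
  linear_combination (f - ε * q) ^ 2 * h5 + (q + ε) * hA

/-- **`f = Q³`**, in terms of `SDRes`. -/
theorem eq_cube [Fintype (Subgroup.centralizer ({t} : Set G))] {M : Ideal AlgInt}
    {μ : U →* ℂˣ} {X₂ X₃ X₄ X₅ L : G → ℂ} {f x : ℤ} (H : Hyp t z π)
    {h : CHyp z q ε Z T T' U s₀ s' u₀} (h4 : ¬ (4 : ℤ) ∣ q - ε)
    (R : SDRes M h μ π X₂ X₃ X₄ X₅ L f x)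
    (hpp : IsPrimePow q) {u : G} {W : Subgroup G} [Fintype W]
    (hV : VW t u W) {s ρ : G} (hst : s * t = t * s) (hsu : s * u * s⁻¹ = t * u)
    (hρt : ρ * t * ρ⁻¹ = u) (hρu : ρ * u * ρ⁻¹ = t * u)
    (hρ : ρ ∈ Subgroup.normalizer (hV.V : Set G))
    (fus : ∀ x, x * t = t * x → orderOf x = 2 → x ≠ t → ∃ c, c * t = t * c ∧ c * u * c⁻¹ = x)
    {ω : IrrCharacter W} (hω : hV.Reg ω)
    {ψ₀ ψ₁ ψ₂ : Subgroup.centralizer ({t} : Set G) → ℂ}
    (i₀ : IsIrrCharacter (Subgroup.centralizer ({t} : Set G)) ψ₀)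
    (i₁ : IsIrrCharacter (Subgroup.centralizer ({t} : Set G)) ψ₁)
    (i₂ : IsIrrCharacter (Subgroup.centralizer ({t} : Set G)) ψ₂)
    (h₀ : classInner (fun y : W => ψ₀ (uT hV * inc hV y)) (ω : W → ℂ) ≠ 0)
    (h₁ : classInner (fun y : W => ψ₁ (uT hV * inc hV y))
      (fun y : W => (ω : W → ℂ) (hV.conj ⟨ρ, hρ⟩ y)) ≠ 0)
    (h₂ : classInner (fun y : W => ψ₂ (uT hV * inc hV y))
      (fun y : W => (ω : W → ℂ) (hV.conj ⟨ρ, hρ⟩ (hV.conj ⟨ρ, hρ⟩ y))) ≠ 0)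
    (e₀ : ψ₀ 1 = (((q : ℤ) + ε : ℤ) : ℂ)) (e₁ : ψ₁ 1 = (((q : ℤ) + ε : ℤ) : ℂ))
    (e₂ : ψ₂ 1 = (((q : ℤ) + ε : ℤ) : ℂ)) (hw : (ω : W → ℂ) 1 = 1) :
    f = (ε * q) ^ 3 :=
  eq_cube_of H h (NumBridgeG.num H h4 R) hpp hV hst hsu hρt hρu hρ fus hω i₀ i₁ i₂ h₀ h₁ h₂ e₀ e₁
    e₂ hw

end Cfsg.Agent.Classification.QDW.RegCube
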