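import Mathlib
import Cfsg.Agent.Classification.QDW.LineC
import Cfsg.Agent.Classification.QDW.InstC

/-!
# Proper subgroups containing the nonsplit torus

`C` of type `GL₂(q)/Z₀`, `GU₂(q)/Z₀`, `T` the torus of order `|Z| (q + 1)`, `T ≤ H < C`. Then
`2 |C : H| ≥ q (q - 1)` (`two_mul_index`, `CData.index_neg`). If `T` is the torus of order
`|Z| (q - 1)` and `H` does not fix a point of the line then `2 |C : H| ≥ q (q + 1)`
(`CData.index_pos`).

Proof: counting of the fixed-point-free elements of `H` (Burnside) and of the `H`-conjugates of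
`T` and of one further torus.
-/

set_option autoImplicit false
set_option linter.unusedSectionVars false
set_option linter.unusedVariables false

namespace Cfsg.Agent.Classification.QDW.LineTorus

open Cfsg.Agent.Classification.InvCent Cfsg.Agent.Classification.QDW.LineIndex
open Cfsg.Agent.Classification.QDW.LineC Cfsg.Agent.Classification.QDW.InstC MulAction

section Count

variable {C : Type*} [Group C]

/-- The `H`-conjugates of the elements of `A` outside `Z`. -/
def cset (H A Z : Subgroup C) : Set C := {y | ∃ h ∈ H, ∃ x ∈ A, x ∉ Z ∧ h * x * h⁻¹ = y}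

variable [Finite C]

theorem ncard_diff {A Z : Subgroup C} (hZA : Z ≤ A) :
    ((A : Set C) \ Z).ncard = Nat.card A - Nat.card Z :=
  Set.ncard_sdiff (fun x hx => hZA hx) (Set.toFinite _)

/-- The fibre over `x`. -/
theorem card_filter_le {H A Z : Subgroup C} {y : C} [Fintype C] [DecidableEq C]
    [DecidablePred (· ∈ H)] [DecidablePred fun x => x ∈ A ∧ x ∉ Z] :
    (((Finset.univ.filter (· ∈ H)) ×ˢ (Finset.univ.filter fun x => x ∈ A ∧ x ∉ Z)).filter
      (fun p : C × C => p.1 * p.2 * p.1⁻¹ = y)).card ≤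
      {k | k ∈ H ∧ k⁻¹ * y * k ∈ A}.ncard := by
  rw [← Set.ncard_coe_finset]
  refine Set.ncard_le_ncard_of_injOn (fun p => p.1) ?_ ?_ (Set.toFinite _)
  · rintro ⟨k, x⟩ hp
    simp only [Finset.coe_filter, Finset.mem_product, Finset.mem_filter, Finset.mem_univ,
      true_and, Set.mem_ofPred_eq] at hp ⊢
    refine ⟨hp.1.1, ?_⟩
    rw [← hp.2]
    have h1 : k⁻¹ * (k * x * k⁻¹) * k = x := by group
    rw [h1]
    exact hp.1.2.1
  · rintro ⟨k, x⟩ hp ⟨k', x'⟩ hp' he
    simp only [Finset.coe_filter, Finset.mem_product, Finset.mem_filter, Finset.mem_univ,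
      true_and, Set.mem_ofPred_eq] at hp hp' he
    subst he
    have h1 := hp.2.trans hp'.2.symm
    have h2 : x = x' := by simpa using h1
    rw [h2]

/-- Lower bound for the number of conjugates. -/
theorem card_le_mul {H A Z : Subgroup C} (hAH : A ≤ H) (hZA : Z ≤ A) {m : ℕ}
    (hm : ∀ x ∈ A, x ∉ Z → {k | k ∈ H ∧ k⁻¹ * x * k ∈ A}.ncard ≤ m) :
    Nat.card H * (Nat.card A - Nat.card Z) ≤ m * (cset H A Z).ncard := by
  classical
  have := Fintype.ofFinite C
  set s : Finset (C × C) := (Finset.univ.filter (· ∈ H)) ×ˢ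
    (Finset.univ.filter fun x => x ∈ A ∧ x ∉ Z) with hs
  have h1 : s.card = Nat.card H * (Nat.card A - Nat.card Z) := by
    rw [hs, Finset.card_product]
    congr 1
    · rw [Nat.card_eq_fintype_card, Fintype.card_subtype]
    · rw [← ncard_diff hZA, ← Set.ncard_coe_finset]
      congr 1
      ext x
      simp
  have h2 : ((s.image fun p : C × C => p.1 * p.2 * p.1⁻¹ : Finset C) : Set C) = cset H A Z := by
    ext y
    simp only [Finset.coe_image, Set.mem_image, hs, Finset.mem_coe, Finset.mem_product,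
      Finset.mem_filter, Finset.mem_univ, true_and, Prod.exists, cset, Set.mem_ofPred_eq]
    constructor
    · rintro ⟨k, x, ⟨hk, hx, hxZ⟩, he⟩
      exact ⟨k, hk, x, hx, hxZ, he⟩
    · rintro ⟨k, hk, x, hx, hxZ, he⟩
      exact ⟨k, x, ⟨hk, hx, hxZ⟩, he⟩
  rw [← h1, ← h2, Set.ncard_coe_finset]
  refine Finset.card_le_mul_card_image s m fun y hy => ?_
  refine card_filter_le.trans ?_
  have hy' : y ∈ cset H A Z := by rw [← h2]; exact hy
  obtain ⟨k, hk, x, hx, hxZ, rfl⟩ := hy'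
  refine le_trans ?_ (hm x hx hxZ)
  refine Set.ncard_le_ncard_of_injOn (fun g => k⁻¹ * g) ?_ ?_ (Set.toFinite _)
  · rintro g ⟨hg, hg'⟩
    refine ⟨mul_mem (inv_mem hk) hg, ?_⟩
    have h3 : (k⁻¹ * g)⁻¹ * x * (k⁻¹ * g) = g⁻¹ * (k * x * k⁻¹) * g := by group
    rw [h3]
    exact hg'
  · intro g _ g' _ he
    exact mul_left_cancel he

/-- Upper bound for the number of conjugates: `N` normalises `A`. -/
theorem mul_le_card {H A Z N : Subgroup C} (hAH : A ≤ H) (hZA : Z ≤ A) (hNH : N ≤ H)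
    (hZ : ∀ z ∈ Z, ∀ c : C, c * z = z * c)
    (hN : ∀ n ∈ N, ∀ x ∈ A, n⁻¹ * x * n ∈ A) :
    Nat.card N * (cset H A Z).ncard ≤ Nat.card H * (Nat.card A - Nat.card Z) := by
  classical
  have := Fintype.ofFinite C
  set s : Finset (C × C) := (Finset.univ.filter (· ∈ H)) ×ˢ
    (Finset.univ.filter fun x => x ∈ A ∧ x ∉ Z) with hs
  have h1 : s.card = Nat.card H * (Nat.card A - Nat.card Z) := by
    rw [hs, Finset.card_product]
    congr 1
    · rw [Nat.card_eq_fintype_card, Fintype.card_subtype]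
    · rw [← ncard_diff hZA, ← Set.ncard_coe_finset]
      congr 1
      ext x
      simp
  have h2 : ((s.image fun p : C × C => p.1 * p.2 * p.1⁻¹ : Finset C) : Set C) = cset H A Z := by
    ext y
    simp only [Finset.coe_image, Set.mem_image, hs, Finset.mem_coe, Finset.mem_product,
      Finset.mem_filter, Finset.mem_univ, true_and, Prod.exists, cset, Set.mem_ofPred_eq]
    constructor
    · rintro ⟨k, x, ⟨hk, hx, hxZ⟩, he⟩
      exact ⟨k, hk, x, hx, hxZ, he⟩
    · rintro ⟨k, hk, x, hx, hxZ, he⟩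
      exact ⟨k, x, ⟨hk, hx, hxZ⟩, he⟩
  rw [← h1, ← h2, Set.ncard_coe_finset]
  refine Finset.mul_card_image_le_card s (Nat.card N) fun y hy => ?_
  have hy' : y ∈ cset H A Z := by rw [← h2]; exact hy
  obtain ⟨k, hk, x, hx, hxZ, rfl⟩ := hy'
  have h3 : Nat.card N = (N : Set C).ncard := rfl
  rw [h3, ← Set.ncard_coe_finset]
  refine Set.ncard_le_ncard_of_injOn (fun n => (k * n, n⁻¹ * x * n)) ?_ ?_ (Set.toFinite _)
  · intro n hn
    have hn' : n ∈ N := hn
    simp only [hs, Finset.coe_filter, Finset.mem_product, Finset.mem_filter, Finset.mem_univ,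
      true_and, Set.mem_ofPred_eq]
    refine ⟨⟨mul_mem hk (hNH hn'), hN n hn' x hx, fun h4 => hxZ ?_⟩, by group⟩
    have h5 : x = n * (n⁻¹ * x * n) * n⁻¹ := by group
    rw [h5, hZ _ h4 n, mul_assoc, mul_inv_cancel, mul_one]
    exact h4
  · intro n _ n' _ he
    have h4 : k * n = k * n' := congrArg Prod.fst he
    exact mul_left_cancel h4

/-- A set contained in a coset. -/
theorem ncard_le_card {A : Subgroup C} {S : Set C} (h : ∀ k ∈ S, ∀ l ∈ S, k * l⁻¹ ∈ A) :
    S.ncard ≤ Nat.card A := by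
  rcases S.eq_empty_or_nonempty with rfl | ⟨l, hl⟩
  · rw [Set.ncard_empty]
    exact Nat.zero_le _
  · have h3 : Nat.card A = (A : Set C).ncard := rfl
    rw [h3]
    refine Set.ncard_le_ncard_of_injOn (fun k => k * l⁻¹) (fun k hk => h k hk l hl) ?_
      (Set.toFinite _)
    intro k _ k' _ he
    exact mul_right_cancel he

end Count

section Line

variable {C : Type*} [Group C] [Finite C] {q : ℕ} {Z T T₁ U : Subgroup C} {s s₁ : C}
  (hb : Base q Z U) (h₁ : Torus q 1 Z T₁ s₁) (hn : ∀ τ ∈ T₁, ∀ v ∈ U, τ * v * τ⁻¹ ∈ U)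

include hb h₁ hn

/-- The number of fixed points on the line. -/
noncomputable def fx (U : Subgroup C) (g : C) : ℕ := (fixedBy (C ⧸ N U) g).ncard

theorem fx_Z (hq : 3 ≤ q) {g : C} (hg : g ∈ Z) : fx U g = q + 1 := by
  have h1 : fixedBy (C ⧸ N U) g = Set.univ := by
    ext x
    simp only [mem_fixedBy, Set.mem_univ, iff_true]
    exact (sharp hb h₁ hn hq).ker g hg x
  rw [fx, h1, Set.ncard_univ, card_line hb h₁ hn]

theorem fx_le (hq : 3 ≤ q) {g : C} (hg : g ∉ Z) : fx U g ≤ 2 :=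
  (sharp hb h₁ hn hq).mem_of_fix hg

theorem one_le_fx {g c : C} (hg : c * g * c⁻¹ ∈ N U) : 1 ≤ fx U g := by
  rw [fx, Nat.one_le_iff_ne_zero, Ne, Set.ncard_eq_zero (Set.toFinite _)]
  intro h1
  have h2 : c⁻¹ • inf U ∈ fixedBy (C ⧸ N U) g := by
    rw [mem_fixedBy]
    have h3 := (smul_inf hb h₁ hn).2 hg
    rw [mul_smul, mul_smul, smul_eq_iff_eq_inv_smul] at h3
    exact h3
  rw [h1] at h2
  exact h2

theorem two_le_fx (hq : 3 ≤ q) {g c : C} (hg : c * g * c⁻¹ ∈ T₁) : 2 ≤ fx U g := by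
  have hne := zer_ne hb h₁ hn hq
  have h1 : ({c⁻¹ • inf U, c⁻¹ • zer U s₁} : Set (C ⧸ N U)) ⊆ fixedBy (C ⧸ N U) g := by
    have h3 := (smul_inf hb h₁ hn).2 (T₁_le_N hb h₁ hn hg)
    have h4 := T₁_zer hb h₁ hn hg
    rw [mul_smul, mul_smul, smul_eq_iff_eq_inv_smul] at h3 h4
    rintro x (rfl | rfl)
    · exact h3
    · exact h4
  have h2 := Set.ncard_le_ncard h1 (Set.toFinite _)
  rw [Set.ncard_pair (fun h3 => hne (MulAction.injective c⁻¹ h3).symm)] at h2
  exact h2

theorem fx_T (h : Torus q (-1) Z T s) {x : C} (hx : x ∈ T) (hxZ : x ∉ Z) (c : C) :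
    fx U (c * x * c⁻¹) = 0 := by
  have := Fintype.ofFinite C
  rw [fx, Set.ncard_eq_zero (Set.toFinite _), Set.eq_empty_iff_forall_notMem]
  intro y hy
  obtain ⟨k, rfl⟩ := QuotientGroup.mk_surjective y
  have h1 : ((c * x * c⁻¹ * k : C) : C ⧸ N U) = ((k : C) : C ⧸ N U) := hy
  have h2 : (k⁻¹ * c) * x * (k⁻¹ * c)⁻¹ ∈ N U := by
    have h3 := QuotientGroup.eq.1 h1.symm
    have h4 : k⁻¹ * (c * x * c⁻¹ * k) = (k⁻¹ * c) * x * (k⁻¹ * c)⁻¹ := by group
    rwa [h4] at h3
  have h3 := h.conj_notMem_ZU hb hx hxZ (k⁻¹ * c)⁻¹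
  rw [inv_inv] at h3
  obtain ⟨w, hw, hwT⟩ := exists_conj_T₁ hb h₁ hn h2 h3
  refine h.conj_notMem_torus h₁ (by norm_num) hb.Z_central hx hxZ ((k⁻¹ * c)⁻¹ * w) ?_
  have h4 : ((k⁻¹ * c)⁻¹ * w)⁻¹ * x * ((k⁻¹ * c)⁻¹ * w) =
      w⁻¹ * ((k⁻¹ * c) * x * (k⁻¹ * c)⁻¹) * w := by group
  rw [h4]
  exact hwT

/-- A fixed-point-free element lies in a conjugate of `T`. -/
theorem exists_of_fx (hex : ∀ c : C, ∃ g : C, g * c * g⁻¹ ∈ T ∨ g * c * g⁻¹ ∈ T₁ ∨
    ∃ z ∈ Z, ∃ v ∈ U, g * c * g⁻¹ = z * v) (hq : 3 ≤ q) {g : C} (hg : fx U g = 0) :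
    ∃ c : C, c * g * c⁻¹ ∈ T := by
  obtain ⟨c, h1 | h1 | ⟨z, hz, v, hv, h1⟩⟩ := hex g
  · exact ⟨c, h1⟩
  · have := two_le_fx hb h₁ hn hq h1
    omega
  · have h2 : c * g * c⁻¹ ∈ N U := by
      rw [h1]
      exact mul_mem (T₁_le_N hb h₁ hn (h₁.Z_le hz)) (U_le_N hv)
    have := one_le_fx hb h₁ hn h2
    omega

/-- An element with exactly one fixed point is not an involution modulo `Z`. -/
theorem sq_notMem (h : Torus q (-1) Z T s)
    (hex : ∀ c : C, ∃ g : C, g * c * g⁻¹ ∈ T ∨ g * c * g⁻¹ ∈ T₁ ∨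
    ∃ z ∈ Z, ∃ v ∈ U, g * c * g⁻¹ = z * v) (hq : 3 ≤ q) {g : C} (hg : fx U g = 1) :
    g * g ∉ Z := by
  intro hgg
  have hgZ : g ∉ Z := by
    intro h1
    have := fx_Z hb h₁ hn hq h1
    omega
  have hconj : ∀ {x : C} (c : C), x ∈ Z → c⁻¹ * x * c = x := by
    intro x c hx
    rw [mul_assoc, ← hb.Z_central x hx c]; group
  obtain ⟨c, h1 | h1 | ⟨z, hz, v, hv, h1⟩⟩ := hex g
  · have h2 : g = c⁻¹ * (c * g * c⁻¹) * c⁻¹⁻¹ := by group
    have h3 : c * g * c⁻¹ ∉ Z := by
      intro h4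
      apply hgZ
      rw [h2, inv_inv, hconj c h4]
      exact h4
    have h4 := fx_T hb h₁ hn h h1 h3 c⁻¹
    rw [← h2] at h4
    omega
  · have := two_le_fx hb h₁ hn hq h1
    omega
  · have h2 : v * v ∈ Z := by
      have h3 : (c * g * c⁻¹) * (c * g * c⁻¹) = g * g := by
        have h4 : (c * g * c⁻¹) * (c * g * c⁻¹) = c * (g * g) * c⁻¹ := by group
        rw [h4, hb.Z_central _ hgg c]; group
      rw [h1] at h3
      have h4 : v * v = z⁻¹ * z⁻¹ * (g * g) := by
        rw [← h3]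
        have h5 := hb.Z_central z hz v
        calc v * v = z⁻¹ * z⁻¹ * (z * (z * v) * v) := by group
          _ = z⁻¹ * z⁻¹ * (z * (v * z) * v) := by rw [h5]
          _ = z⁻¹ * z⁻¹ * (z * v * (z * v)) := by group
      rw [h4]
      exact mul_mem (mul_mem (inv_mem hz) (inv_mem hz)) hgg
    have h3 : v * v = 1 := hb.eq_one_of_mem h2 (mul_mem hv hv)
    have h4 : v ^ q = 1 := hb.pow_card_U hv
    obtain ⟨j, hj⟩ := hb.odd_q
    have h5 : v = 1 := by
      rw [hj, pow_succ, pow_mul, sq, h3, one_pow, one_mul] at h4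
      exact h4
    apply hgZ
    have h6 : g = c⁻¹ * (c * g * c⁻¹) * c := by group
    rw [h6, h1, h5, mul_one, hconj c hz]
    exact hz

/-- Burnside. -/
theorem sum_fx {H : Subgroup C} (ht : ∀ y : C ⧸ N U, ∃ g ∈ H, g • inf U = y) [Fintype H] :
    ∑ g : H, fx U (g : C) = Nat.card H := by
  classical
  have := Fintype.ofFinite (C ⧸ N U)
  have hc : Fintype.card (C ⧸ N U) = q + 1 := by
    rw [← Nat.card_eq_fintype_card]; exact card_line hb h₁ hn
  have h1 : ∀ g : H, fx U (g : C) = ∑ x : C ⧸ N U, if (g : C) • x = x then 1 else 0 := by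
    intro g
    rw [fx, ← Finset.card_filter, ← Set.ncard_coe_finset]
    congr 1
    ext x
    simp
  have h2 : ∀ x : C ⧸ N U, (q + 1) * (∑ g : H, if (g : C) • x = x then 1 else 0) =
      Nat.card H := by
    intro x
    have h3 := card_mul H x
    rw [ncard_orbit Set.univ (fun _ _ => Set.mem_univ _) (fun y _ => by
      obtain ⟨g, hg, hgx⟩ := ht x
      obtain ⟨k, hk, hky⟩ := ht y
      exact ⟨k * g⁻¹, mul_mem hk (inv_mem hg), by
        rw [mul_smul, ← hgx, inv_smul_smul, hky]⟩), Set.ncard_univ, card_line hb h₁ hn] at h3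
    rw [← h3, ← Finset.card_filter]
    congr 1
    rw [← Set.ncard_coe_finset, ← Nat.card_coe_set_eq]
    refine Nat.card_congr
      { toFun := fun g => ⟨g.1, g.1.2, (Finset.mem_filter.1 g.2).2⟩
        invFun := fun g => ⟨⟨g.1, g.2.1⟩, Finset.mem_coe.2 (Finset.mem_filter.2
          ⟨Finset.mem_univ _, g.2.2⟩)⟩
        left_inv := fun g => rfl
        right_inv := fun g => rfl }
  rw [Finset.sum_congr rfl (fun g _ => h1 g), Finset.sum_comm]
  have h3 : (q + 1) * (∑ x : C ⧸ N U, ∑ g : H, if (g : C) • x = x then 1 else 0) =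
      (q + 1) * Nat.card H := by
    rw [Finset.mul_sum, Finset.sum_congr rfl (fun x _ => h2 x), Finset.sum_const,
      Finset.card_univ, hc, smul_eq_mul]
  exact Nat.eq_of_mul_eq_mul_left (by omega) h3

/-- The class equation. -/
theorem class_eq (hq : 3 ≤ q) {H : Subgroup C} (hZH : Z ≤ H)
    (ht : ∀ y : C ⧸ N U, ∃ g ∈ H, g • inf U = y) :
    Nat.card H + (q - 1) * Nat.card Z =
      2 * {g | g ∈ H ∧ fx U g = 0}.ncard + {g | g ∈ H ∧ fx U g = 1}.ncard := by
  classical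
  have := Fintype.ofFinite C
  have h1 := sum_fx hb h₁ hn ht
  have h2 : ∀ (P : C → Prop) [DecidablePred P], ((∑ g : H, if P g then (1 : ℤ) else 0)) =
      ({g | g ∈ H ∧ P g}.ncard : ℤ) := by
    intro P _
    rw [Finset.sum_boole, ← Set.ncard_coe_finset, ← Nat.card_coe_set_eq, ← Nat.card_coe_set_eq]
    congr 1
    refine Nat.card_congr
      { toFun := fun g => ⟨g.1, g.1.2, (Finset.mem_filter.1 g.2).2⟩
        invFun := fun g => ⟨⟨g.1, g.2.1⟩, Finset.mem_coe.2 (Finset.mem_filter.2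
          ⟨Finset.mem_univ _, g.2.2⟩)⟩
        left_inv := fun g => rfl
        right_inv := fun g => rfl }
  have h3 : ∀ g : H, (2 - (fx U (g : C) : ℤ)) = (1 - q) * (if (g : C) ∈ Z then (1 : ℤ) else 0) +
      2 * (if fx U (g : C) = 0 then (1 : ℤ) else 0) + (if fx U (g : C) = 1 then (1 : ℤ) else 0) := by
    intro g
    by_cases hg : (g : C) ∈ Z
    · have h4 := fx_Z hb h₁ hn hq hg
      rw [if_pos hg, if_neg (by omega), if_neg (by omega), h4]
      push_cast
      ring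
    · have h4 := fx_le hb h₁ hn hq hg
      rw [if_neg hg]
      have h5 : fx U (g : C) = 0 ∨ fx U (g : C) = 1 ∨ fx U (g : C) = 2 := by omega
      rcases h5 with h5 | h5 | h5 <;> rw [h5] <;> norm_num
  have h4 : ∑ g : H, (2 - (fx U (g : C) : ℤ)) = 2 * Nat.card H - Nat.card H := by
    rw [Finset.sum_sub_distrib, Finset.sum_const, Finset.card_univ, nsmul_eq_mul,
      ← Nat.card_eq_fintype_card, ← Nat.cast_sum, h1]
    ring
  rw [Finset.sum_congr rfl (fun g _ => h3 g), Finset.sum_add_distrib, Finset.sum_add_distrib,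
    ← Finset.mul_sum, ← Finset.mul_sum, h2, h2 (fun g => fx U g = 0), h2 (fun g => fx U g = 1)] at h4
  have h5 : {g | g ∈ H ∧ g ∈ Z}.ncard = Nat.card Z := by
    have h6 : {g | g ∈ H ∧ g ∈ Z} = (Z : Set C) := by
      ext g
      exact ⟨fun h7 => h7.2, fun h7 => ⟨hZH h7, h7⟩⟩
    rw [h6]
    rfl
  rw [h5] at h4
  have h6 : ((q - 1 : ℕ) : ℤ) = q - 1 := by omega
  have h7 : ((Nat.card H + (q - 1) * Nat.card Z : ℕ) : ℤ) =
      ((2 * {g | g ∈ H ∧ fx U g = 0}.ncard + {g | g ∈ H ∧ fx U g = 1}.ncard : ℕ) : ℤ) := by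
    rw [Nat.cast_add, Nat.cast_mul, h6, Nat.cast_add, Nat.cast_mul]
    push_cast
    linarith
  exact_mod_cast h7

/-- If there is an element with exactly one fixed point there are many. -/
theorem le_ncard_one (h : Torus q (-1) Z T s)
    (hex : ∀ c : C, ∃ g : C, g * c * g⁻¹ ∈ T ∨ g * c * g⁻¹ ∈ T₁ ∨
    ∃ z ∈ Z, ∃ v ∈ U, g * c * g⁻¹ = z * v) (hq : 3 ≤ q) {H : Subgroup C} (hZH : Z ≤ H)
    (ht : ∀ y : C ⧸ N U, ∃ g ∈ H, g • inf U = y) {g : C} (hg : g ∈ H) (hg1 : fx U g = 1) :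
    2 * (q + 1) * Nat.card Z ≤ {g | g ∈ H ∧ fx U g = 1}.ncard := by
  classical
  obtain ⟨x₀, hx₀⟩ := Set.ncard_eq_one.1 hg1
  have hfix : g • x₀ = x₀ := by
    have : x₀ ∈ fixedBy (C ⧸ N U) g := by rw [hx₀]; exact Set.mem_singleton _
    exact this
  have huniq : ∀ x, g • x = x → x = x₀ := by
    intro x hx
    have : x ∈ fixedBy (C ⧸ N U) g := hx
    rw [hx₀] at this
    exact this
  have hsq := sq_notMem hb h₁ hn h hex hq hg1
  have hker := (sharp hb h₁ hn hq).ker
  -- the transversal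
  have htr : ∀ y : C ⧸ N U, ∃ k ∈ H, k • x₀ = y := by
    intro y
    obtain ⟨k, hk, hky⟩ := ht y
    obtain ⟨l, hl, hlx⟩ := ht x₀
    exact ⟨k * l⁻¹, mul_mem hk (inv_mem hl), by rw [mul_smul, ← hlx, inv_smul_smul, hky]⟩
  choose κ hκ hκx using htr
  -- the elements
  let e : Bool → C := fun b => if b then g else g⁻¹
  have heH : ∀ b, e b ∈ H := by
    intro b
    cases b
    · exact inv_mem hg
    · exact hg
  have hefix : ∀ (b : Bool) (x : C ⧸ N U), e b • x = x ↔ g • x = x := by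
    intro b x
    cases b
    · show g⁻¹ • x = x ↔ _
      rw [inv_smul_eq_iff]
      exact eq_comm
    · exact Iff.rfl
  have hkey : ∀ (b : Bool) (z : Z) (k : C) (x : C ⧸ N U),
      (k * (e b * z) * k⁻¹) • x = x ↔ x = k • x₀ := by
    intro b z k x
    rw [mul_smul, mul_smul, smul_eq_iff_eq_inv_smul, mul_smul, hker z z.2, hefix]
    constructor
    · intro h1
      rw [← huniq _ h1, smul_inv_smul]
    · rintro rfl
      rw [inv_smul_smul]
      exact hfix
  let F : (C ⧸ N U) × Z × Bool → {g | g ∈ H ∧ fx U g = 1} := fun p =>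
    ⟨κ p.1 * (e p.2.2 * p.2.1) * (κ p.1)⁻¹, mul_mem (mul_mem (hκ _) (mul_mem (heH _)
      (hZH p.2.1.2))) (inv_mem (hκ _)), by
      rw [fx, Set.ncard_eq_one]
      refine ⟨κ p.1 • x₀, ?_⟩
      ext x
      rw [mem_fixedBy, Set.mem_singleton_iff]
      exact hkey p.2.2 p.2.1 (κ p.1) x⟩
  have hF : Function.Injective F := by
    rintro ⟨x, z, b⟩ ⟨x', z', b'⟩ he
    have h1 : κ x * (e b * z) * (κ x)⁻¹ = κ x' * (e b' * z') * (κ x')⁻¹ := congrArg Subtype.val he
    have h2 : x = x' := by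
      have h3 := (hkey b z (κ x) (κ x • x₀)).2 rfl
      rw [h1, hkey, hκx, hκx] at h3
      exact h3
    subst h2
    have h3 : e b * z = e b' * z' := by
      have h4 := mul_right_cancel h1
      exact mul_left_cancel h4
    have h4 : b = b' := by
      cases b <;> cases b'
      · rfl
      · exfalso
        apply hsq
        have h5 : g⁻¹ * z = g * z' := h3
        have h6 : g * g = (z : C) * (z' : C)⁻¹ := by
          have h7 := hb.Z_central z z.2 g
          calc g * g = g * (g * z') * (z' : C)⁻¹ := by group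
            _ = g * (g⁻¹ * z) * (z' : C)⁻¹ := by rw [h5]
            _ = z * (z' : C)⁻¹ := by group
        rw [h6]
        exact mul_mem z.2 (inv_mem z'.2)
      · exfalso
        apply hsq
        have h5 : g * z = g⁻¹ * z' := h3
        have h6 : g * g = (z' : C) * (z : C)⁻¹ := by
          calc g * g = g * (g * z) * (z : C)⁻¹ := by group
            _ = g * (g⁻¹ * z') * (z : C)⁻¹ := by rw [h5]
            _ = z' * (z : C)⁻¹ := by group
        rw [h6]
        exact mul_mem z'.2 (inv_mem z.2)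
      · rfl
    subst h4
    have h5 : (z : C) = z' := mul_left_cancel h3
    rw [Subtype.ext h5]
  have h1 := Nat.card_le_card_of_injective F hF
  rw [Nat.card_prod, Nat.card_prod, card_line hb h₁ hn, Nat.card_eq_fintype_card (α := Bool),
    Fintype.card_bool, Nat.card_coe_set_eq] at h1
  calc 2 * (q + 1) * Nat.card Z = (q + 1) * (Nat.card Z * 2) := by ring
    _ ≤ _ := h1

end Line

section Tori

variable {C : Type*} [Group C] [Finite C] {q : ℕ} {δ : ℤ} {Z T : Subgroup C} {s : C}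

/-- The intersection of `H` with a conjugate of `T`. -/
def tor (H T : Subgroup C) (c : C) : Subgroup C :=
  T.comap (MulAut.conj c⁻¹).toMonoidHom ⊓ H

theorem mem_tor {H : Subgroup C} {c x : C} : x ∈ tor H T c ↔ c⁻¹ * x * c ∈ T ∧ x ∈ H := by
  rw [tor, Subgroup.mem_inf, Subgroup.mem_comap]
  simp

theorem fiber_le (h : Torus q δ Z T s) (hZ : ∀ z ∈ Z, ∀ c : C, c * z = z * c) {H : Subgroup C}
    {c x : C} (hx : x ∈ tor H T c) (hxZ : x ∉ Z) :
    {k | k ∈ H ∧ k⁻¹ * x * k ∈ tor H T c}.ncard ≤ 2 * Nat.card (tor H T c) := by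
  have h1 : {k | k ∈ H ∧ k⁻¹ * x * k ∈ tor H T c} ⊆
      {k | k ∈ H ∧ c⁻¹ * k⁻¹ * c ∈ T} ∪ {k | k ∈ H ∧ s * (c⁻¹ * k⁻¹ * c) ∈ T} := by
    rintro k ⟨hk, hk'⟩
    rw [mem_tor] at hx hk'
    have h2 : (c⁻¹ * k⁻¹ * c) * (c⁻¹ * x * c) * (c⁻¹ * k⁻¹ * c)⁻¹ ∈ T := by
      have h3 : (c⁻¹ * k⁻¹ * c) * (c⁻¹ * x * c) * (c⁻¹ * k⁻¹ * c)⁻¹ =
          c⁻¹ * (k⁻¹ * x * k) * c := by group
      rw [h3]
      exact hk'.1
    have h3 : c⁻¹ * x * c ∉ Z := by
      intro h4
      apply hxZ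
      have h5 : x = c * (c⁻¹ * x * c) * c⁻¹ := by group
      rw [h5, hZ _ h4 c, mul_assoc, mul_inv_cancel, mul_one]
      exact h4
    rcases h.fus _ hx.1 h3 _ h2 with h4 | h4
    · exact Or.inl ⟨hk, h4⟩
    · exact Or.inr ⟨hk, h4⟩
  refine (Set.ncard_le_ncard h1 (Set.toFinite _)).trans ((Set.ncard_union_le _ _).trans ?_)
  have h2 : {k | k ∈ H ∧ c⁻¹ * k⁻¹ * c ∈ T}.ncard ≤ Nat.card (tor H T c) := by
    refine ncard_le_card ?_
    rintro k ⟨hk, hk'⟩ l ⟨hl, hl'⟩
    rw [mem_tor]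
    refine ⟨?_, mul_mem hk (inv_mem hl)⟩
    have h3 : c⁻¹ * (k * l⁻¹) * c = (c⁻¹ * k⁻¹ * c)⁻¹ * (c⁻¹ * l⁻¹ * c) := by group
    rw [h3]
    exact mul_mem (inv_mem hk') hl'
  have h3 : {k | k ∈ H ∧ s * (c⁻¹ * k⁻¹ * c) ∈ T}.ncard ≤ Nat.card (tor H T c) := by
    refine ncard_le_card ?_
    rintro k ⟨hk, hk'⟩ l ⟨hl, hl'⟩
    rw [mem_tor]
    refine ⟨?_, mul_mem hk (inv_mem hl)⟩
    have h3 : c⁻¹ * (k * l⁻¹) * c = (s * (c⁻¹ * k⁻¹ * c))⁻¹ * (s * (c⁻¹ * l⁻¹ * c)) := by group
    rw [h3]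
    exact mul_mem (inv_mem hk') hl'
  omega

/-- Disjointness. -/
theorem mem_cset_of_inter (h : Torus q δ Z T s) (hZ : ∀ z ∈ Z, ∀ c : C, c * z = z * c)
    {H : Subgroup C} {c y v : C} (hy : y ∈ cset H (tor H T c) Z) (hy' : y ∈ cset H T Z)
    (hv : v ∈ tor H T c) (hvZ : v ∉ Z) : v ∈ cset H T Z := by
  obtain ⟨k, hk, a, ha, haZ, rfl⟩ := hy
  obtain ⟨l, hl, x, hx, hxZ, he⟩ := hy'
  have h1 : a = (k⁻¹ * l) * x * (k⁻¹ * l)⁻¹ := by
    have h2 : a = k⁻¹ * (k * a * k⁻¹) * k := by group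
    rw [h2, ← he]; group
  have h2 : v * a = a * v := by
    have h3 := h.comm _ (mem_tor.1 hv).1 _ (mem_tor.1 ha).1
    have h4 : v * a = c * ((c⁻¹ * v * c) * (c⁻¹ * a * c)) * c⁻¹ := by group
    rw [h4, h3]; group
  have h3 : ((k⁻¹ * l)⁻¹ * v * (k⁻¹ * l)) * x = x * ((k⁻¹ * l)⁻¹ * v * (k⁻¹ * l)) := by
    have h4 : x = (k⁻¹ * l)⁻¹ * a * (k⁻¹ * l) := by rw [h1]; group
    calc ((k⁻¹ * l)⁻¹ * v * (k⁻¹ * l)) * x = (k⁻¹ * l)⁻¹ * (v * a) * (k⁻¹ * l) := by rw [h4]; group
      _ = (k⁻¹ * l)⁻¹ * (a * v) * (k⁻¹ * l) := by rw [h2]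
      _ = _ := by rw [h4]; group
  have h4 := h.cent x hx hxZ _ h3
  refine ⟨k⁻¹ * l, mul_mem (inv_mem hk) hl, _, h4, fun h5 => hvZ ?_, by group⟩
  have h6 : v = (k⁻¹ * l) * ((k⁻¹ * l)⁻¹ * v * (k⁻¹ * l)) * (k⁻¹ * l)⁻¹ := by group
  rw [h6, hZ _ h5 (k⁻¹ * l), mul_assoc, mul_inv_cancel, mul_one]
  exact h5

end Tori

theorem arith₁ {n q ζ a u τ i : ℕ} (hq : 3 ≤ q) (hζ : 0 < ζ) (hB : n + (q - 1) * ζ = 2 * a + u)
    (hτ : n * q ≤ 2 * (q + 1) * τ) (hτa : τ ≤ a) (hu : 2 * (q + 1) * ζ ≤ u)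
    (hi : q ≤ i) (hn : n * i = ζ * (q * (q ^ 2 - 1))) : False := by
  obtain ⟨p, rfl⟩ : ∃ p, q = p + 1 := ⟨q - 1, by omega⟩
  have h1 : (p + 1) ^ 2 - 1 = p * (p + 2) := by
    have : (p + 1) ^ 2 = p * (p + 2) + 1 := by ring
    omega
  rw [h1] at hn
  rw [Nat.add_sub_cancel] at hB
  have h2 : n * (p + 1) ≤ ζ * (p * (p + 2)) * (p + 1) := by
    calc n * (p + 1) ≤ n * i := Nat.mul_le_mul_left _ hi
      _ = ζ * (p * (p + 2)) * (p + 1) := by rw [hn]; ring
  have h3 : n ≤ ζ * (p * (p + 2)) := Nat.le_of_mul_le_mul_right h2 (by omega)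
  nlinarith

theorem arith₂ {n q ζ a τ : ℕ} (hq : 3 ≤ q) (hB : n + (q - 1) * ζ = 2 * a)
    (hτ : n * q ≤ (q + 1) * τ) (hτa : τ ≤ a) : n ≤ (q + 1) * ζ := by
  obtain ⟨p, rfl⟩ : ∃ p, q = p + 1 := ⟨q - 1, by omega⟩
  rw [Nat.add_sub_cancel] at hB
  have h1 : n * p ≤ (p + 2) * ζ * p := by nlinarith
  exact Nat.le_of_mul_le_mul_right h1 (by omega)

theorem arith₃ {n q ζ a τ ν : ℕ} (hq : 3 ≤ q) (hB : n + (q - 1) * ζ = 2 * a)
    (hτ : n * q ≤ 2 * (q + 1) * τ) (hν : n ≤ 4 * ν) (ha : τ + ν ≤ a) :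
    n ≤ 2 * (q + 1) * ζ := by
  obtain ⟨p, rfl⟩ : ∃ p, q = p + 1 := ⟨q - 1, by omega⟩
  rw [Nat.add_sub_cancel] at hB
  have h1 : n * p ≤ 2 * (p + 2) * ζ * p := by nlinarith
  exact Nat.le_of_mul_le_mul_right h1 (by omega)

theorem arith₄ {n q ζ a τ : ℕ} (hq : 3 ≤ q) (hζ : 0 < ζ) (hB : n + (q - 1) * ζ = 2 * a)
    (hτ : 2 * (q + 1) * τ ≤ n * q) : τ < a := by
  obtain ⟨p, rfl⟩ : ∃ p, q = p + 1 := ⟨q - 1, by omega⟩
  rw [Nat.add_sub_cancel] at hB
  have hp : 0 < p * ζ := Nat.mul_pos (by omega) hζ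
  by_contra hcon
  push Not at hcon
  nlinarith

section Main

variable {C : Type*} [Group C] [Finite C] {q : ℕ} {Z T T₁ U : Subgroup C} {s s₁ : C}
  (hb : Base q Z U) (h₁ : Torus q 1 Z T₁ s₁) (hn : ∀ τ ∈ T₁, ∀ v ∈ U, τ * v * τ⁻¹ ∈ U)

include hb h₁ hn

/-- **Subgroups containing the nonsplit torus.** -/
theorem card_le (h : Torus q (-1) Z T s)
    (hex : ∀ c : C, ∃ g : C, g * c * g⁻¹ ∈ T ∨ g * c * g⁻¹ ∈ T₁ ∨
    ∃ z ∈ Z, ∃ v ∈ U, g * c * g⁻¹ = z * v) (hq : 3 ≤ q) {H : Subgroup C} (hT : T ≤ H)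
    (hi : q ≤ H.index) : Nat.card H ≤ 2 * ((q + 1) * Nat.card Z) := by
  classical
  have := Fintype.ofFinite C
  have hζ : 0 < Nat.card Z := Nat.card_pos
  have hZH : Z ≤ H := h.Z_le.trans hT
  have ht : ∀ y : C ⧸ N U, ∃ g ∈ H, g • inf U = y := by
    intro y
    obtain ⟨τ, hτ, hy⟩ := T_trans hb h₁ hn h y
    exact ⟨τ, hT hτ, hy⟩
  have hcT : Nat.card T = (q + 1) * Nat.card Z := by
    have h5 : (Nat.card T : ℤ) = (((q + 1) * Nat.card Z : ℕ) : ℤ) := by
      rw [h.card]; push_cast; ring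
    exact_mod_cast h5
  have hB := class_eq hb h₁ hn hq hZH ht
  set a := {g | g ∈ H ∧ fx U g = 0}.ncard with ha
  set u := {g | g ∈ H ∧ fx U g = 1}.ncard with hu
  set τ := (cset H T Z).ncard with hτ
  have hconjZ : ∀ {x : C} (c : C), c⁻¹ * x * c ∈ Z → x ∈ Z := by
    intro x c h4
    have h5 : x = c * (c⁻¹ * x * c) * c⁻¹ := by group
    rw [h5, hb.Z_central _ h4 c, mul_assoc, mul_inv_cancel, mul_one]
    exact h4
  have hsub : cset H T Z ⊆ {g | g ∈ H ∧ fx U g = 0} := by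
    rintro y ⟨k, hk, x, hx, hxZ, rfl⟩
    exact ⟨mul_mem (mul_mem hk (hT hx)) (inv_mem hk), fx_T hb h₁ hn h hx hxZ k⟩
  have hτa : τ ≤ a := Set.ncard_le_ncard hsub (Set.toFinite _)
  -- the lower bound for `τ`
  have htor : tor H T 1 = T := by
    ext x
    rw [mem_tor, inv_one, one_mul, mul_one]
    exact ⟨fun h4 => h4.1, fun h4 => ⟨h4, hT h4⟩⟩
  have hdiff : Nat.card T - Nat.card Z = q * Nat.card Z := by
    rw [hcT, add_mul, one_mul, Nat.add_sub_cancel]
  have hlow : Nat.card H * q ≤ 2 * (q + 1) * τ := by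
    have h4 := card_le_mul (m := 2 * Nat.card T) hT h.Z_le (fun x hx hxZ => by
      have := fiber_le h hb.Z_central (H := H) (c := 1) (x := x) (by rw [htor]; exact hx) hxZ
      rwa [htor] at this)
    rw [hdiff, hcT] at h4
    refine Nat.le_of_mul_le_mul_right (c := Nat.card Z) ?_ hζ
    calc Nat.card H * q * Nat.card Z = Nat.card H * (q * Nat.card Z) := by ring
      _ ≤ 2 * ((q + 1) * Nat.card Z) * τ := h4
      _ = 2 * (q + 1) * τ * Nat.card Z := by ring
  -- no element with exactly one fixed point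
  have hu0 : u = 0 := by
    by_contra hcon
    obtain ⟨g, hg, hg1⟩ := Set.nonempty_of_ncard_ne_zero hcon
    have h4 := le_ncard_one hb h₁ hn h hex hq hZH ht hg hg1
    have h5 := H.card_mul_index
    rw [hb.card_C] at h5
    exact arith₁ hq hζ hB hlow hτa h4 hi h5
  rw [hu0, add_zero] at hB
  by_cases hN : ∃ n ∈ H, s * n ∈ T
  · obtain ⟨n, hn1, hn2⟩ := hN
    -- the normaliser of `T` lies in `H`
    have hsH : s ∈ H := by
      have h4 : s = (s * n) * n⁻¹ := by group
      rw [h4]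
      exact mul_mem (hT hn2) (inv_mem hn1)
    have hup : 2 * (q + 1) * τ ≤ Nat.card H * q := by
      let M : Subgroup C :=
        { carrier := {x | x ∈ T ∨ s * x ∈ T}
          one_mem' := Or.inl (one_mem T)
          mul_mem' := by
            rintro x y (hx | hx) (hy | hy)
            · exact Or.inl (mul_mem hx hy)
            · right
              have h4 : s * (x * y) = (s * x * s⁻¹) * (s * y) := by group
              rw [h4]
              exact mul_mem (h.s_conj x hx) hy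
            · right
              have h4 : s * (x * y) = (s * x) * y := by group
              rw [h4]
              exact mul_mem hx hy
            · left
              have h4 : x * y = (s * (s * x) * s⁻¹) * (s * y) := by
                have := h.s_sq
                calc x * y = 1 * x * y := by group
                  _ = (s * s) * x * y := by rw [this]
                  _ = _ := by group
              rw [h4]
              exact mul_mem (h.s_conj _ hx) hy
          inv_mem' := by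
            rintro x (hx | hx)
            · exact Or.inl (inv_mem hx)
            · right
              have h4 : s * x⁻¹ = s * (s * x)⁻¹ * s⁻¹ * (s * s) := by group
              rw [h4, h.s_sq, mul_one]
              exact h.s_conj _ (inv_mem hx) }
      have hM : ∀ x, x ∈ M ↔ x ∈ T ∨ s * x ∈ T := fun x => Iff.rfl
      have hMH : M ≤ H := by
        rintro x (hx | hx)
        · exact hT hx
        · have h4 : x = s⁻¹ * (s * x) := by group
          rw [h4]
          exact mul_mem (inv_mem hsH) (hT hx)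
      have hcM : 2 * Nat.card T ≤ Nat.card M := by
        let F : Bool × T → M := fun p => if p.1 then ⟨p.2, Or.inl p.2.2⟩ else
          ⟨s * p.2, Or.inr (by rw [← mul_assoc, h.s_sq, one_mul]; exact p.2.2)⟩
        have hF : Function.Injective F := by
          rintro ⟨b, x⟩ ⟨b', x'⟩ he
          have h4 : ((F (b, x) : M) : C) = (F (b', x') : M) := congrArg Subtype.val he
          cases b <;> cases b' <;> simp only [F, Bool.false_eq_true, if_false, if_true] at h4
          · rw [Subtype.ext (mul_left_cancel h4)]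
          · exfalso
            apply h.s_notMem
            have h5 : s = x' * (x : C)⁻¹ := by rw [← h4]; group
            rw [h5]
            exact mul_mem x'.2 (inv_mem x.2)
          · exfalso
            apply h.s_notMem
            have h5 : s = x * (x' : C)⁻¹ := by rw [h4]; group
            rw [h5]
            exact mul_mem x.2 (inv_mem x'.2)
          · rw [Subtype.ext h4]
        have h4 := Nat.card_le_card_of_injective F hF
        rw [Nat.card_prod, Nat.card_eq_fintype_card (α := Bool), Fintype.card_bool] at h4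
        exact h4
      have h4 := mul_le_card (N := M) hT h.Z_le hMH hb.Z_central (by
        rintro n (hn | hn) x hx
        · exact mul_mem (mul_mem (inv_mem hn) hx) hn
        · have h5 : n⁻¹ * x * n = (s * n)⁻¹ * (s * x * s⁻¹) * (s * n) := by group
          rw [h5]
          exact mul_mem (mul_mem (inv_mem hn) (h.s_conj x hx)) hn)
      rw [hdiff] at h4
      refine Nat.le_of_mul_le_mul_right (c := Nat.card Z) ?_ hζ
      calc 2 * (q + 1) * τ * Nat.card Z = 2 * Nat.card T * τ := by rw [hcT]; ring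
        _ ≤ Nat.card M * τ := Nat.mul_le_mul_right _ hcM
        _ ≤ Nat.card H * (q * Nat.card Z) := h4
        _ = Nat.card H * q * Nat.card Z := by ring
    have hlt := arith₄ hq hζ hB hup
    -- a further torus
    obtain ⟨v, ⟨hvH, hv0⟩, hvT⟩ : ∃ v ∈ {g | g ∈ H ∧ fx U g = 0}, v ∉ cset H T Z := by
      by_contra hcon
      push Not at hcon
      have := Set.ncard_le_ncard (s := {g | g ∈ H ∧ fx U g = 0}) (t := cset H T Z)
        (fun v hv => hcon v hv) (Set.toFinite _)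
      omega
    have hvZ : v ∉ Z := by
      intro h4
      have := fx_Z hb h₁ hn hq h4
      omega
    obtain ⟨c, hc⟩ := exists_of_fx hb h₁ hn hex hq hv0
    have hvA : v ∈ tor H T c⁻¹ := by
      rw [mem_tor, inv_inv]
      exact ⟨hc, hvH⟩
    have hZA : Z ≤ tor H T c⁻¹ := by
      intro z hz
      rw [mem_tor, inv_inv, hb.Z_central z hz c]
      refine ⟨?_, hZH hz⟩
      rw [mul_assoc, mul_inv_cancel, mul_one]
      exact h.Z_le hz
    have hcA : 2 * Nat.card Z ≤ Nat.card (tor H T c⁻¹) := by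
      have h4 : Nat.card Z ∣ Nat.card (tor H T c⁻¹) := Subgroup.card_dvd_of_le hZA
      obtain ⟨j, hj⟩ := h4
      have h5 : Nat.card Z ≠ Nat.card (tor H T c⁻¹) := by
        intro h6
        apply hvZ
        rw [Subgroup.eq_of_le_of_card_ge hZA h6.ge]
        exact hvA
      have h6 : 0 < Nat.card (tor H T c⁻¹) := Nat.card_pos
      have h7 : 2 ≤ j := by
        rcases j with _ | _ | j
        · rw [mul_zero] at hj; omega
        · rw [zero_add, mul_one] at hj; exact absurd hj.symm h5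
        · omega
      rw [hj, mul_comm]
      exact Nat.mul_le_mul_left _ h7
    set A := tor H T c⁻¹ with hA
    set ν := (cset H A Z).ncard with hν
    have hAH : A ≤ H := fun x hx => (mem_tor.1 hx).2
    have h4 : Nat.card H * (Nat.card A - Nat.card Z) ≤ 2 * Nat.card A * ν :=
      card_le_mul hAH hZA (fun x hx hxZ => fiber_le h hb.Z_central hx hxZ)
    have h5 : Nat.card H ≤ 4 * ν := by
      have h6 : Nat.card A ≤ 2 * (Nat.card A - Nat.card Z) := by omega
      have h7 : 0 < Nat.card A := Nat.card_pos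
      refine Nat.le_of_mul_le_mul_right (c := Nat.card A) ?_ h7
      calc Nat.card H * Nat.card A ≤ Nat.card H * (2 * (Nat.card A - Nat.card Z)) :=
            Nat.mul_le_mul_left _ h6
        _ = 2 * (Nat.card H * (Nat.card A - Nat.card Z)) := by ring
        _ ≤ 2 * (2 * Nat.card A * ν) := Nat.mul_le_mul_left _ h4
        _ = 4 * ν * Nat.card A := by ring
    have hdisj : Disjoint (cset H T Z) (cset H A Z) := by
      rw [Set.disjoint_left]
      intro y hy hy'
      exact hvT (mem_cset_of_inter h hb.Z_central hy' hy hvA hvZ)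
    have hsub' : cset H A Z ⊆ {g | g ∈ H ∧ fx U g = 0} := by
      rintro y ⟨k, hk, x, hx, hxZ, rfl⟩
      refine ⟨mul_mem (mul_mem hk (hAH hx)) (inv_mem hk), ?_⟩
      have h6 := (mem_tor.1 hx).1
      have h7 := fx_T hb h₁ hn h h6 (fun h8 => hxZ (hconjZ _ h8)) (k * c⁻¹)
      have h8 : (k * c⁻¹) * (c⁻¹⁻¹ * x * c⁻¹) * (k * c⁻¹)⁻¹ = k * x * k⁻¹ := by group
      rwa [h8] at h7
    have h6 : τ + ν ≤ a := by
      rw [hτ, hν, ← Set.ncard_union_eq hdisj (Set.toFinite _) (Set.toFinite _)]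
      exact Set.ncard_le_ncard (Set.union_subset hsub hsub') (Set.toFinite _)
    have h7 := arith₃ hq hB hlow h5 h6
    calc Nat.card H ≤ 2 * (q + 1) * Nat.card Z := h7
      _ = 2 * ((q + 1) * Nat.card Z) := by ring
  · -- `N_H(T) = T`
    push Not at hN
    have h4 := card_le_mul (m := Nat.card T) hT h.Z_le (fun x hx hxZ => by
      refine ncard_le_card ?_
      rintro k ⟨hk, hk'⟩ l ⟨hl, hl'⟩
      have h5 : ∀ k ∈ H, k⁻¹ * x * k ∈ T → k ∈ T := by
        intro k hk hk'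
        rcases h.fus x hx hxZ k⁻¹ (by rwa [inv_inv]) with h6 | h6
        · exact inv_mem_iff.1 h6
        · exact absurd h6 (hN _ (inv_mem hk))
      exact mul_mem (h5 k hk hk') (inv_mem (h5 l hl hl')))
    rw [hdiff, hcT] at h4
    have h5 : Nat.card H * q ≤ (q + 1) * τ := by
      refine Nat.le_of_mul_le_mul_right (c := Nat.card Z) ?_ hζ
      calc Nat.card H * q * Nat.card Z = Nat.card H * (q * Nat.card Z) := by ring
        _ ≤ (q + 1) * Nat.card Z * τ := h4
        _ = (q + 1) * τ * Nat.card Z := by ring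
    have h6 := arith₂ hq hB h5 hτa
    omega

/-- **The index of a proper subgroup containing the nonsplit torus.** -/
theorem two_mul_index (h : Torus q (-1) Z T s)
    (hex : ∀ c : C, ∃ g : C, g * c * g⁻¹ ∈ T ∨ g * c * g⁻¹ ∈ T₁ ∨
    ∃ z ∈ Z, ∃ v ∈ U, g * c * g⁻¹ = z * v) (hq : 3 ≤ q) {H : Subgroup C} (hT : T ≤ H)
    (hi : q ≤ H.index) : q * (q - 1) ≤ 2 * H.index := by
  have h1 := card_le hb h₁ hn h hex hq hT hi
  have h2 := H.card_mul_index
  rw [hb.card_C] at h2
  have hζ : 0 < Nat.card Z := Nat.card_pos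
  obtain ⟨p, rfl⟩ : ∃ p, q = p + 1 := ⟨q - 1, by omega⟩
  have h3 : (p + 1) ^ 2 - 1 = p * (p + 2) := by
    have : (p + 1) ^ 2 = p * (p + 2) + 1 := by ring
    omega
  rw [h3] at h2
  rw [Nat.add_sub_cancel]
  have h4 : 0 < (p + 2) * Nat.card Z := by positivity
  refine Nat.le_of_mul_le_mul_right (c := (p + 2) * Nat.card Z) ?_ h4
  calc (p + 1) * p * ((p + 2) * Nat.card Z) = Nat.card Z * ((p + 1) * (p * (p + 2))) := by ring
    _ = Nat.card H * H.index := h2.symm
    _ ≤ 2 * ((p + 1 + 1) * Nat.card Z) * H.index := Nat.mul_le_mul_right _ h1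
    _ = 2 * H.index * ((p + 2) * Nat.card Z) := by ring

end Main

section Split

variable {G : Type*} [Group G] {Ω : Type*} [MulAction G Ω] [Finite G] {q : ℕ} {Z : Subgroup G}
  {a b : Ω} {H : Subgroup G}

/-- A subgroup fixing a point of the pair. -/
theorem split_stab (h : Sharp G Ω q Z) (hab : a ≠ b) (hq : 5 < q) (hD : Sharp.D G a b ≤ H)
    (hH : H ≤ stabilizer G a) : H = stabilizer G a ∨ H.index = q * (q + 1) := by
  have hfin := h.finite
  by_cases hB : H ≤ stabilizer G b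
  · right
    have h1 : H = Sharp.D G a b := le_antisymm (fun g hg => ⟨hH hg, hB hg⟩) hD
    have h2 := H.card_mul_index
    rw [h.card_G hab (by omega), h1, h.card_D hab (by omega)] at h2
    rw [h1]
    have h3 : 0 < (q - 1) * Nat.card Z := Nat.mul_pos (by omega) Nat.card_pos
    apply Nat.eq_of_mul_eq_mul_left h3
    rw [h2]; ring
  · left
    obtain ⟨g₁, hg₁, hg₁b⟩ := SetLike.not_le_iff_exists.1 hB
    have hg₁' : g₁ • b ∈ ({a, b}ᶜ : Set Ω) := by
      simp only [Set.mem_compl_iff, Set.mem_insert_iff, Set.mem_singleton_iff, not_or]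
      refine ⟨fun h3 => hab (MulAction.injective g₁ ?_), hg₁b⟩
      have h4 : g₁ • a = a := hH hg₁
      exact h4.trans h3.symm
    have h3 : Nat.card (H ⊓ stabilizer G a : Subgroup G) = q * ((q - 1) * Nat.card Z) := by
      rw [h.card_of_trans hab inf_le_right]
      · have h4 : H ⊓ stabilizer G a ⊓ stabilizer G b = Sharp.D G a b := by
          apply le_antisymm
          · rintro g ⟨⟨-, hga⟩, hgb⟩
            exact ⟨hga, hgb⟩
          · intro g hg
            exact ⟨⟨hD hg, hg.1⟩, hg.2⟩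
        rw [h4, h.card_D hab (by omega)]
      · intro y hy
        by_cases hyb : y = b
        · exact ⟨1, one_mem _, by rw [one_smul, hyb]⟩
        · obtain ⟨e, he, hey⟩ := h.three' hab hg₁' (y := y) (by
            simp only [Set.mem_compl_iff, Set.mem_insert_iff, Set.mem_singleton_iff, not_or]
            exact ⟨hy, hyb⟩)
          refine ⟨e * g₁, mul_mem ⟨hD he, he.1⟩ ⟨hg₁, hH hg₁⟩, ?_⟩
          rw [mul_smul, hey]
    rw [inf_eq_left.2 hH, ← h.card_stab hab (by omega)] at h3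
    exact Subgroup.eq_of_le_of_card_ge hH h3.ge

/-- **Subgroups containing a two-point stabiliser.** -/
theorem split_strong (h : Sharp G Ω q Z) (hab : a ≠ b) (hq : 5 < q) (hD : Sharp.D G a b ≤ H)
    (hH : H ≠ ⊤) : H = stabilizer G a ∨ H = stabilizer G b ∨ q * (q + 1) ≤ 2 * H.index := by
  have hfin := h.finite
  have hZ : 0 < Nat.card Z := Nat.card_pos
  have hq1 : 0 < q - 1 := by omega
  by_cases hA : H ≤ stabilizer G a
  · rcases split_stab h hab hq hD hA with h1 | h1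
    · exact Or.inl h1
    · right; right
      rw [h1]
      omega
  by_cases hB : H ≤ stabilizer G b
  · rcases split_stab h hab.symm hq (fun g hg => hD ⟨hg.2, hg.1⟩) hB with h1 | h1
    · exact Or.inr (Or.inl h1)
    · right; right
      rw [h1]
      omega
  right; right
  obtain ⟨h₁, hh₁, h₁a⟩ := SetLike.not_le_iff_exists.1 hA
  obtain ⟨h₂, hh₂, h₂b⟩ := SetLike.not_le_iff_exists.1 hB
  by_cases hC : ∀ g ∈ H, g • a = a ∨ g • a = b
  · have h₁b : h₁ • a = b := (hC h₁ hh₁).resolve_left h₁a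
    have hHa : H ⊓ stabilizer G a = Sharp.D G a b := by
      apply le_antisymm
      · rintro g ⟨hg, hga⟩
        refine ⟨hga, ?_⟩
        have h3 := hC (g * h₁) (mul_mem hg hh₁)
        rw [mul_smul, h₁b] at h3
        refine h3.resolve_left fun h4 => hab ?_
        have h5 : g • a = a := hga
        exact (MulAction.injective g (h4.trans h5.symm)).symm
      · intro g hg
        exact ⟨hD hg, hg.1⟩
    have h3 := card_mul H a
    rw [ncard_orbit ({a, b} : Set Ω) (fun g hg => hC g hg) (by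
      rintro y (rfl | rfl)
      · exact ⟨1, one_mem H, one_smul _ _⟩
      · exact ⟨h₁, hh₁, h₁b⟩), Set.ncard_pair hab, hHa, h.card_D hab (by omega)] at h3
    have h4 := H.card_mul_index
    rw [h.card_G hab (by omega), ← h3] at h4
    have h5 : 0 < (q - 1) * Nat.card Z := by positivity
    have h6 : 2 * H.index = (q + 1) * q := by
      apply Nat.eq_of_mul_eq_mul_right h5
      calc 2 * H.index * ((q - 1) * Nat.card Z) = 2 * ((q - 1) * Nat.card Z) * H.index := by ring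
        _ = (q + 1) * (q * ((q - 1) * Nat.card Z)) := h4
        _ = (q + 1) * q * ((q - 1) * Nat.card Z) := by ring
    rw [h6, mul_comm]
  · exfalso
    push Not at hC
    obtain ⟨g₀, hg₀, hg₀a, hg₀b⟩ := hC
    have hg₀' : g₀ • a ∈ ({a, b}ᶜ : Set Ω) := by
      simp only [Set.mem_compl_iff, Set.mem_insert_iff, Set.mem_singleton_iff, not_or]
      exact ⟨hg₀a, hg₀b⟩
    have hO : ∀ y ∈ ({a, b}ᶜ : Set Ω), ∃ g ∈ H, g • a = y := by
      intro y hy
      obtain ⟨e, he, hey⟩ := h.three' hab hg₀' hy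
      exact ⟨e * g₀, mul_mem (hD he) hg₀, by rw [mul_smul, hey]⟩
    have ht : ∀ y : Ω, ∃ g ∈ H, g • a = y := by
      intro y
      by_cases hy : y ∈ ({a, b}ᶜ : Set Ω)
      · exact hO y hy
      · simp only [Set.mem_compl_iff, Set.mem_insert_iff, Set.mem_singleton_iff, not_not] at hy
        rcases hy with rfl | rfl
        · exact ⟨1, one_mem H, one_smul _ _⟩
        · by_cases h3 : h₂ • y = a
          · exact ⟨h₂⁻¹, inv_mem hh₂, by rw [inv_smul_eq_iff, h3]⟩
          · obtain ⟨g, hg, hga⟩ := hO (h₂ • y) (by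
              simp only [Set.mem_compl_iff, Set.mem_insert_iff, Set.mem_singleton_iff, not_or]
              exact ⟨h3, h₂b⟩)
            exact ⟨h₂⁻¹ * g, mul_mem (inv_mem hh₂) hg, by rw [mul_smul, hga, inv_smul_smul]⟩
    by_cases hE : ∀ g ∈ H, g • a = a → g • b = b
    · exact h.false_of_mate hab hq hD ht hE
    · push Not at hE
      obtain ⟨g₁, hg₁, hg₁a, hg₁b⟩ := hE
      apply hH
      have hg₁' : g₁ • b ∈ ({a, b}ᶜ : Set Ω) := by
        simp only [Set.mem_compl_iff, Set.mem_insert_iff, Set.mem_singleton_iff, not_or]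
        exact ⟨fun h3 => hab (MulAction.injective g₁ (hg₁a.trans h3.symm)), hg₁b⟩
      have h3 : Nat.card (H ⊓ stabilizer G a : Subgroup G) = q * ((q - 1) * Nat.card Z) := by
        rw [h.card_of_trans hab inf_le_right]
        · have h4 : H ⊓ stabilizer G a ⊓ stabilizer G b = Sharp.D G a b := by
            apply le_antisymm
            · rintro g ⟨⟨-, hga⟩, hgb⟩
              exact ⟨hga, hgb⟩
            · intro g hg
              exact ⟨⟨hD hg, hg.1⟩, hg.2⟩
          rw [h4, h.card_D hab (by omega)]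
        · intro y hy
          by_cases hyb : y = b
          · exact ⟨1, one_mem _, by rw [one_smul, hyb]⟩
          · obtain ⟨e, he, hey⟩ := h.three' hab hg₁' (y := y) (by
              simp only [Set.mem_compl_iff, Set.mem_insert_iff, Set.mem_singleton_iff, not_or]
              exact ⟨hy, hyb⟩)
            refine ⟨e * g₁, mul_mem ⟨hD he, he.1⟩ ⟨hg₁, hg₁a⟩, ?_⟩
            rw [mul_smul, hey]
      have h4 := h.card_of_trans' ht
      rw [h3, ← h.card_G hab (by omega)] at h4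
      exact Subgroup.eq_top_of_card_eq H h4

end Split

section CHyp

variable {C : Type*} [Group C] [Finite C] {z : C} {q : ℕ} {ε : ℤ} {Z T T' U : Subgroup C}
  {s s' u : C} {b : C →* ℂˣ}

/-- `ε = -1`, in terms of `CHyp` (quasi-dihedral and wreathed). -/
theorem cHyp_neg (hC : CHyp z q (-1) Z T T' U s s' u)
    (hn : ∀ τ ∈ T', ∀ v ∈ U, τ * v * τ⁻¹ ∈ U) {H : Subgroup C}
    (hT : T ≤ H) (hi : q ≤ H.index) : q * (q - 1) ≤ 2 * H.index := by
  have h' : Torus q 1 Z T' s' := by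
    have := hC.torus'
    rwa [neg_neg] at this
  have h3 : 3 ≤ q := by
    have h1 := hC.one_lt_q
    obtain ⟨k, hk⟩ := hC.odd_q
    omega
  exact two_mul_index hC.base h' hn hC.torus hC.exhaust h3 hT hi

/-- `ε = 1`, in terms of `CHyp`. -/
theorem cHyp_pos (hC : CHyp z q 1 Z T T' U s s' u) (hq : 5 < q)
    (hn : ∀ τ ∈ T, ∀ v ∈ U, τ * v * τ⁻¹ ∈ U) {H : Subgroup C}
    (hT : T ≤ H) (hH : H ≠ ⊤) : H = N U ∨ H = stabilizer C (zer U s) ∨
      q * (q + 1) ≤ 2 * H.index := by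
  have h1 := split_strong (sharp hC.base hC.torus hn (by omega))
    (zer_ne hC.base hC.torus hn (by omega)).symm hq (H := H)
    (by rw [D_eq hC.base hC.torus hn (by omega)]; exact hT) hH
  rw [stab_inf hC.base hC.torus hn] at h1
  exact h1

theorem five_lt (h : CData z q 1 Z T T' U s s' u b) (hq : 5 ≤ q) : 5 < q := by
  obtain ⟨m, hm, h2⟩ := h.exists_m
  obtain ⟨k, hk⟩ := hm
  omega

/-- **Proper subgroups containing `T`, `ε = -1`.** -/
theorem index_neg (h : CData z q (-1) Z T T' U s s' u b) (hq : 5 ≤ q) {H : Subgroup C}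
    (hT : T ≤ H) (hH : H ≠ ⊤) : q * (q - 1) ≤ 2 * H.index :=
  cHyp_neg h.chyp (h.norm₂ rfl) hT (h.index hq hT hH).1

/-- **Proper subgroups containing `T`, `ε = 1`.** -/
theorem index_pos (h : CData z q 1 Z T T' U s s' u b) (hq : 5 ≤ q) {H : Subgroup C}
    (hT : T ≤ H) (hH : H ≠ ⊤) : H = N U ∨ H = stabilizer C (zer U s) ∨
      q * (q + 1) ≤ 2 * H.index :=
  cHyp_pos h.chyp (five_lt h hq) (h.norm₁ rfl) hT hH

end CHyp

end Cfsg.Agent.Classification.QDW.LineTorus
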