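import Mathlib
import Cfsg.Agent.Classification.QDW.LineTorus
import Cfsg.Agent.Classification.QDW.InstGamma

/-!
# Proper subgroups containing `ker π`, `t`, `u` and `W`

The index theorems of `LineTorus`, pulled back to the centralizer `Γ` of an involution.
-/

set_option autoImplicit false
set_option linter.unusedSectionVars false

namespace Cfsg.Agent.Classification.QDW.LineTorusG

open Cfsg Cfsg.Agent.Classification.InvCent Cfsg.Agent.Classification.QDW.LineC
open Cfsg.Agent.Classification.QDW.InstC Cfsg.Agent.Classification.QDW.InstGamma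

universe u

variable {C : Type*} [Group C] {z : C} {q : ℕ} {ε : ℤ} {Z T T' U : Subgroup C}
  {s s' u₀ : C} {b : C →* ℂˣ} {Γ : Type u} [Group Γ] {π : Γ →* C} {t u w : Γ} [Finite Γ]
  [Finite C]

theorem index_map (hπ : Function.Surjective π) {H : Subgroup Γ} (hK : π.ker ≤ H) :
    (H.map π).index = H.index := by
  have h2 := Subgroup.index_comap_of_surjective (H.map π) hπ
  rw [Subgroup.comap_map_eq_self hK] at h2
  exact h2.symm

/-- The image of `H` contains `T`. -/
theorem T_le_map (hD : CData z q ε Z T T' U s s' u₀ b) (hG : GHyp π z u₀ s t u w)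
    {H : Subgroup Γ} (ht : t ∈ H) (hu : u ∈ H) (hW : ∀ y : Wg hD.chyp π u, (y : Γ) ∈ H) :
    T ≤ H.map π := by
  intro x hx
  obtain ⟨v, y, hv, hy, hyo, rfl⟩ := hD.decomp hx
  have hyH : y ∈ H.map π := by
    obtain ⟨g, rfl⟩ := hG.surj y
    have hcu : π g * u₀ = u₀ * π g := hD.chyp.T_comm _ hy _ hD.chyp.u_mem
    obtain ⟨k, hk, hku⟩ := exists_conj_of_map hG.oddK (x := g * u * g⁻¹) (y := u)
      (by
        calc g * u * g⁻¹ * (g * u * g⁻¹) = g * (u * u) * g⁻¹ := by group
          _ = 1 := by rw [hG.uu]; group) hG.uu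
      (by rw [map_mul, map_mul, map_inv, hG.map_u, hcu]; group)
    have h3 : π (k * g) = π g := by rw [map_mul, MonoidHom.mem_ker.1 hk, one_mul]
    have h4 : k * g ∈ Wg hD.chyp π u := by
      refine ⟨by rw [h3]; exact hy, by rw [h3]; exact hyo, ?_⟩
      show u * (k * g) = k * g * u
      calc u * (k * g) = (k * (g * u * g⁻¹) * k⁻¹) * (k * g) := by rw [hku]
        _ = k * g * u := by group
    exact ⟨k * g, hW ⟨_, h4⟩, h3⟩
  refine mul_mem ?_ hyH
  have hz : z ∈ H.map π := ⟨t, ht, hG.map_t⟩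
  have hu' : u₀ ∈ H.map π := ⟨u, hu, hG.map_u⟩
  rcases hv with rfl | rfl | rfl | rfl
  · exact one_mem _
  · exact hz
  · exact hu'
  · exact mul_mem hz hu'

theorem map_ne_top {H : Subgroup Γ} (hK : π.ker ≤ H) (hH : H ≠ ⊤) : H.map π ≠ ⊤ := by
  intro h4
  apply hH
  rw [← Subgroup.comap_map_eq_self hK, h4, Subgroup.comap_top]

/-- **`ε = -1`.** -/
theorem index_neg (hD : CData z q (-1) Z T T' U s s' u₀ b) (hG : GHyp π z u₀ s t u w)
    (hq : 5 ≤ q) {H : Subgroup Γ} (hK : π.ker ≤ H) (ht : t ∈ H) (hu : u ∈ H)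
    (hW : ∀ y : Wg hD.chyp π u, (y : Γ) ∈ H) (hH : H ≠ ⊤) : q * (q - 1) ≤ 2 * H.index := by
  rw [← index_map hG.surj hK]
  exact LineTorus.index_neg hD hq (T_le_map hD hG ht hu hW) (map_ne_top hK hH)

/-- **`ε = 1`.** -/
theorem index_pos (hD : CData z q 1 Z T T' U s s' u₀ b) (hG : GHyp π z u₀ s t u w)
    (hq : 5 ≤ q) {H : Subgroup Γ} (hK : π.ker ≤ H) (ht : t ∈ H) (hu : u ∈ H)
    (hW : ∀ y : Wg hD.chyp π u, (y : Γ) ∈ H) (hH : H ≠ ⊤) :
    H = (N U).comap π ∨ H = (MulAction.stabilizer C (zer U s)).comap π ∨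
      q * (q + 1) ≤ 2 * H.index := by
  rw [← index_map hG.surj hK]
  rcases LineTorus.index_pos hD hq (T_le_map hD hG ht hu hW) (map_ne_top hK hH) with h1 | h1 | h1
  · left
    rw [← h1, Subgroup.comap_map_eq_self hK]
  · right; left
    rw [← h1, Subgroup.comap_map_eq_self hK]
  · exact Or.inr (Or.inr h1)

end Cfsg.Agent.Classification.QDW.LineTorusG
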