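import Mathlib
import Cfsg.Prelude.Def_Characters
import Cfsg.Agent.Characters.Core
import Cfsg.Agent.Characters.Clifford
import Cfsg.Agent.OddOrderCharacters.IndRes
import Cfsg.Agent.Classification.QDW.Inertia
import Cfsg.Agent.Classification.QDW.BigDeg
import Cfsg.Agent.Classification.QDW.NormBound

/-!
# Tools for the selection of a minimal character

* `exists_ind`: an irreducible character is a summand of the character induced from a constituent
  of its restriction;
* `index_mul_mult_le`: the degree of a character over `m lam` is at least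
  `|C : stab lam| m lam(1)`;
* `exists_mu_of`: characters of `K × ⟨t⟩` over a character of `K`;
* `parity`: the sum over a Sylow 2-subgroup;
* `value_of_two`: the values along a coset `u W` when two coefficients do not vanish.
-/

set_option autoImplicit false
set_option linter.unusedSectionVars false

namespace Cfsg.Agent.Classification.QDW.SelectInd

open Cfsg Cfsg.Agent.Characters Cfsg.Agent.Classification.QDW.Coef
open Cfsg.Agent.Classification.QDW.Inertia Cfsg.Agent.Classification.QDW.BigDeg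
open Cfsg.Agent.Classification.QDW.GlauberTwo Cfsg.Agent.Classification.QDW.NormBound
open Cfsg.Agent.OddOrderCharacters
open scoped ComplexConjugate Pointwise

universe u v

section Ind

variable {C : Type u} [Group C] [Fintype C]

/-- An irreducible character is a summand of the character induced from a constituent of its
restriction. -/
theorem exists_ind (B : Subgroup C) {ψ : C → ℂ} (hψ : IsIrrCharacter C ψ) {η χ : B → ℂ}
    (hη : IsIrrCharacter B η) (hχ : IsCharacter B χ) (h : ∀ b : B, ψ b = η b + χ b) :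
    ∃ ψ' : C → ℂ, IsCharacter C ψ' ∧ indFun B η = ψ + ψ' := by
  classical
  let _ : Fintype B := Fintype.ofFinite _
  refine exists_add_of_classInner (IndRes.isCharacter_indFun B (Core.isIrr_isCharacter hη)) hψ ?_
  rw [IndRes.classInner_res_symm B (Core.isIrr_isCharacter hη) (Core.isIrr_isCharacter hψ)]
  exact inner_ne_zero_of_add hη hχ (funext h)

end Ind

section Mult

variable {C : Type u} [Group C] [Finite C]

/-- The degree of a character over `m lam`. -/
theorem index_mul_mult_le {K : Subgroup C} [hN : K.Normal] {lam χ : K → ℂ}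
    (hlam : IsIrrCharacter K lam) {ψ : C → ℂ} (hψ : IsCharacter C ψ)
    (hχ : IsCharacter K χ) {r : ℕ} (h : ∀ k : K, ψ k = r * lam k + χ k) {a b : ℕ}
    (ha : lam 1 = a) (hb : ψ 1 = b) : (stab K lam).index * (r * a) ≤ b := by
  classical
  let _ : Fintype C := Fintype.ofFinite _
  let _ : Fintype K := Fintype.ofFinite _
  have := Core.finite_irr (G := K)
  let _ : Fintype (IrrCharacter K) := Fintype.ofFinite _
  have hres : (fun k : K => ψ k) = (r : ℂ) • lam + χ := funext fun k => by
    rw [h, Pi.add_apply, Pi.smul_apply, smul_eq_mul]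
  obtain ⟨n, hn⟩ := Core.classInner_isNat hχ (Core.isIrr_isCharacter hlam)
  have hcl : classInner (fun k : K => ψ k) lam = ((r + n : ℕ) : ℂ) := by
    rw [hres, Core.classInner_add_left, Core.classInner_smul_left, Core.classInner_irr_self hlam,
      hn]
    push_cast
    ring
  obtain ⟨m, hm⟩ := Core.exists_nat_comb (Clifford.isCharacter_restrict K hψ)
  -- the conjugates
  let q : C ⧸ stab K lam → IrrCharacter K := Quotient.lift
    (fun g : C => (⟨lam ∘ (MulAut.conjNormal g⁻¹ : MulAut K),
      Clifford.isIrr_conjNormal hlam g⁻¹⟩ : IrrCharacter K)) (by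
        intro g g' hgg
        have h1 : g⁻¹ * g' ∈ stab K lam := QuotientGroup.leftRel_apply.1 hgg
        apply Subtype.ext
        funext k
        show lam (MulAut.conjNormal g⁻¹ k) = lam (MulAut.conjNormal g'⁻¹ k)
        rw [← mem_stab.1 h1 (MulAut.conjNormal g'⁻¹ k)]
        congr 1
        apply Subtype.ext
        simp only [MulAut.conjNormal_apply]
        group)
  have hqinj : Function.Injective q := by
    intro x y hxy
    induction x using QuotientGroup.induction_on with
    | H g =>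
      induction y using QuotientGroup.induction_on with
      | H g' =>
        rw [QuotientGroup.eq]
        intro k
        have h1 : ∀ k : K, lam (MulAut.conjNormal g⁻¹ k) = lam (MulAut.conjNormal g'⁻¹ k) :=
          fun k => congrFun (congrArg Subtype.val hxy) k
        have h2 := h1 (MulAut.conjNormal g' k)
        have h3 : MulAut.conjNormal g'⁻¹ (MulAut.conjNormal g' k) = k := by
          apply Subtype.ext
          simp only [MulAut.conjNormal_apply]
          group
        rw [h3] at h2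
        rw [← h2]
        congr 1
        apply Subtype.ext
        simp only [MulAut.conjNormal_apply]
        group
  have hq1 : ∀ x, (q x : K → ℂ) 1 = a := by
    intro x
    induction x using QuotientGroup.induction_on with
    | H g =>
      show lam (MulAut.conjNormal g⁻¹ 1) = a
      rw [map_one, ha]
  have hqm : ∀ x, r ≤ m (q x) := by
    intro x
    induction x using QuotientGroup.induction_on with
    | H g =>
      have h1 : classInner (fun k : K => ψ k) (q (g : C ⧸ stab K lam) : K → ℂ) =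
          ((r + n : ℕ) : ℂ) := by
        show classInner (fun k : K => ψ k) (lam ∘ (MulAut.conjNormal g⁻¹ : MulAut K)) = _
        rw [Clifford.classInner_restrict_conjNormal (Core.isCharacter_isClassFunction hψ)]
        exact hcl
      rw [hm, Core.classInner_sum_nsmul_irr] at h1
      have h2 : m (q (g : C ⧸ stab K lam)) = r + n := by exact_mod_cast h1
      omega
  choose dg hdg using fun β : IrrCharacter K =>
    Core.isCharacter_apply_one (Core.isIrr_isCharacter β.2)
  have hb' : b = ∑ β : IrrCharacter K, m β * dg β := by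
    have h1 := congrFun hm 1
    have h2 : ψ ((1 : K) : C) = b := hb
    rw [h2, Finset.sum_apply] at h1
    have h3 : ((∑ β : IrrCharacter K, m β * dg β : ℕ) : ℂ) = b := by
      rw [h1]
      push_cast
      refine Finset.sum_congr rfl fun β _ => ?_
      rw [Pi.smul_apply, nsmul_eq_mul, hdg]
    exact_mod_cast h3.symm
  have hqd : ∀ x, dg (q x) = a := by
    intro x
    have h1 := hq1 x
    rw [hdg] at h1
    exact_mod_cast h1
  let _ : Fintype (C ⧸ stab K lam) := Fintype.ofFinite _
  calc (stab K lam).index * (r * a) = ∑ _x : C ⧸ stab K lam, r * a := by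
        rw [Finset.sum_const, Finset.card_univ, smul_eq_mul, ← Nat.card_eq_fintype_card]
        rfl
    _ ≤ ∑ x : C ⧸ stab K lam, m (q x) * dg (q x) := by
        refine Finset.sum_le_sum fun x _ => ?_
        rw [hqd]
        exact Nat.mul_le_mul_right _ (hqm x)
    _ = ∑ β ∈ Finset.univ.image q, m β * dg β := by
        rw [Finset.sum_image fun x _ y _ hxy => hqinj hxy]
    _ ≤ ∑ β : IrrCharacter K, m β * dg β :=
        Finset.sum_le_sum_of_subset (Finset.subset_univ _)
    _ = b := hb'.symm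

end Mult

section Mu

variable {C : Type u} [Group C] [Finite C] {q : ℕ} {K L B : Subgroup C} {K₁ X T : Subgroup B}
  {t : C}

/-- The character of `K₁`. -/
theorem exists_mu_of (h : Big q K L B K₁ X T t) {lam : K → ℂ} (hlam : IsIrrCharacter K lam)
    {ψ₁ : K₁ → ℂ} (hψ₁ : IsCharacter K₁ ψ₁) (h1ne : ψ₁ 1 ≠ 0) {τ : ℂ} (hτ : τ = 1 ∨ τ = -1)
    (hτ' : ∀ x, ψ₁ (tK h * x) = τ * ψ₁ x) {d : ℕ} (hd : ∀ k : K, ψ₁ (emb h k) = d * lam k) :
    ∃ μ : K₁ → ℂ, IsIrrCharacter K₁ μ ∧ (∀ x : K₁, ψ₁ x = d * μ x) ∧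
      ∀ k, μ (emb h k) = lam k := by
  classical
  let _ : Fintype K₁ := Fintype.ofFinite _
  let _ : Fintype (emb h).range := Fintype.ofFinite _
  obtain ⟨μ, χ, hμ, hχ, hadd, -⟩ := exists_constituent (LinearMap.proj (1 : K₁)) hψ₁ h1ne
  have hzc : ∀ x : K₁, Commute (tK h) x := fun x => Subtype.ext (Subtype.ext (h.t_comm _).eq)
  obtain ⟨ω, hω, hω'⟩ := central_sign (setup h).sq hzc hμ
  have hτω : τ = ω := by
    refine sign_eq_of_mul hτ hω ?_
    have h1 := classInner_shift (tK h) (f := ψ₁) (g := μ) (τ := τ) (ω := ω) hτ' hω'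
    have h2 := inner_ne_zero_of_add hμ hχ hadd
    exact (mul_eq_right₀ h2).1 h1.symm
  have hne : μ ≠ μ * sgn (emb h).range := by
    intro h1
    have h2 := congrFun h1 (tK h)
    rw [Pi.mul_apply, sgn_of_not_mem (setup h).not_mem] at h2
    have h3 : μ (tK h) = 0 := by linear_combination h2 / 2
    have h4 := hω' 1
    rw [mul_one, h3] at h4
    rcases hω with h5 | h5 <;> rw [h5] at h4
    · exact Core.isIrr_apply_one_ne_zero hμ (by linear_combination -h4)
    · exact Core.isIrr_apply_one_ne_zero hμ (by linear_combination h4)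
  have hcl := Core.isIrr_isClassFunction hμ
  have hY : IsIrrCharacter (emb h).range (fun y => μ y) := by
    refine Core.isIrr_of_classInner_self (Core.isCharacter_comp (emb h).range.subtype
      (Core.isIrr_isCharacter hμ)) ?_
    rw [← classInner_add_sgn (setup h) hcl hcl, Core.classInner_irr_self hμ,
      Core.classInner_irr_ne hμ (isIrr_mul_sgn (setup h) hμ) hne, add_zero]
  have hK : IsIrrCharacter K (fun k => μ (emb h k)) :=
    Core.isIrr_comp (emb h).rangeRestrict (emb h).rangeRestrict_surjective hY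
  obtain ⟨m, hm⟩ := exists_mult_of_add hlam (Core.isIrr_isCharacter hK)
    (Core.isCharacter_comp (emb h) hχ) (d := d) (fun k => by
      rw [← hd k]
      exact (congrFun hadd (emb h k)).symm)
  have hKlam := eq_of_mult hlam hK hm
  refine ⟨μ, hμ, ?_, fun k => congrFun hKlam k⟩
  have h1 : ∀ x : K₁, ((x : B) : C) ∈ K → ψ₁ x = d * μ x := by
    intro x hx
    have h2 := hd ⟨_, hx⟩
    rw [← congrFun hKlam ⟨_, hx⟩] at h2
    exact h2
  intro x
  rcases (h.mem x).1 x.2 with hx | hx
  · exact h1 x hx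
  · have h2 := h1 (tK h * x) hx
    rw [hω' x, hτ' x, hτω] at h2
    rcases hω with h5 | h5 <;> rw [h5] at h2
    · linear_combination h2
    · linear_combination -h2

end Mu

section Parity

variable {C : Type u} [Group C] [Fintype C]

open scoped Classical in
/-- The sum over a Sylow 2-subgroup. -/
theorem parity {t u : C} (htt : t * t = 1) (ht1 : t ≠ 1) (htc : ∀ x, Commute t x)
    (huu : u * u = 1) {L : Subgroup C} (hL : L.index = 2) (htL : t ∈ L) (huL : u ∉ L)
    {ψ : C → ℂ} (hψ : IsIrrCharacter C ψ) (hψt : ψ t = ψ 1) {b : ℕ} (hb : ψ 1 = b) {a : ℤ}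
    (ha : a = 1 ∨ a = -1) (hu : ψ u = 2 * a)
    (hdvd : ∀ P : Sylow 2 C, Nat.card (P : Subgroup C) ∣ 2 * b)
    (hcase : ∀ x : C, (∃ k : ℕ, x ^ 2 ^ k = 1) → x = 1 ∨ x = t ∨ (∃ g, g * x * g⁻¹ = u) ∨
      ψ x = 0)
    (hx : ∃ x : C, x ∉ L ∧ (∃ k : ℕ, x ^ 2 ^ k = 1) ∧ ψ x = 0) : False := by
  have hcl := Core.isIrr_isClassFunction hψ
  have hu1 : u ≠ 1 := by
    rintro rfl
    exact huL L.one_mem
  have : Fact (Nat.Prime 2) := ⟨Nat.prime_two⟩
  have hLN : L.Normal := Subgroup.normal_of_index_eq_two hL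
  -- a Sylow subgroup containing a conjugate of any given 2-element
  obtain ⟨P⟩ : Nonempty (Sylow 2 C) := inferInstance
  have hconj : ∀ x : C, (∃ k : ℕ, x ^ 2 ^ k = 1) → ∃ g : C, g * x * g⁻¹ ∈ P := by
    rintro x ⟨k, hk⟩
    have h1 : IsPGroup 2 (Subgroup.zpowers x) := by
      rintro ⟨y, hy⟩
      obtain ⟨i, rfl⟩ := Subgroup.mem_zpowers_iff.1 hy
      refine ⟨k, Subtype.ext ?_⟩
      show (x ^ i) ^ 2 ^ k = 1
      rw [← zpow_natCast, zpow_comm, zpow_natCast, hk, one_zpow]
    obtain ⟨Q, hQ⟩ := h1.exists_le_sylow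
    obtain ⟨g, hg⟩ := MulAction.exists_smul_eq C Q P
    refine ⟨g, ?_⟩
    have h2 : MulAut.conj g • x ∈ MulAut.conj g • (Q : Subgroup C) :=
      Subgroup.smul_mem_pointwise_smul x _ _ (hQ (Subgroup.mem_zpowers x))
    rw [← Sylow.coe_subgroup_smul, hg] at h2
    exact h2
  set H : Subgroup C := (P : Subgroup C) with hH
  let _ : Fintype H := Fintype.ofFinite _
  have htP : t ∈ H := by
    obtain ⟨g, hg⟩ := hconj t ⟨1, by rw [pow_one, sq, htt]⟩
    have h1 : g * t * g⁻¹ = t := by rw [← (htc g).eq, mul_inv_cancel_right]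
    rwa [h1] at hg
  have htwo : ∀ s : H, ∃ k : ℕ, (s : C) ^ 2 ^ k = 1 := by
    intro s
    obtain ⟨k, hk⟩ := P.isPGroup' s
    exact ⟨k, congrArg Subtype.val hk⟩
  have hψ1 : ψ 1 ≠ 0 := Core.isIrr_apply_one_ne_zero hψ
  have ha0 : (2 : ℂ) * a ≠ 0 := by
    rcases ha with h1 | h1 <;> rw [h1] <;> norm_num
  have hvalu : ∀ s : C, (∃ g, g * s * g⁻¹ = u) → ψ s = 2 * a := by
    rintro s ⟨g, hg⟩
    rw [← hcl s g, hg, hu]
  have htu : ¬ ∃ g, g * t * g⁻¹ = u := by
    rintro ⟨g, hg⟩
    refine huL ?_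
    rw [← hg]
    exact hLN.conj_mem t htL g
  have h1u : ¬ ∃ g : C, g * 1 * g⁻¹ = u := by
    rintro ⟨g, hg⟩
    refine hu1 ?_
    rw [← hg]
    group
  set U : Finset H := Finset.univ.filter fun s : H => ∃ g, g * (s : C) * g⁻¹ = u with hU
  -- the values
  have hval : ∀ s : H, ψ s = (if s = 1 then ψ 1 else 0) +
      (if s = (⟨t, htP⟩ : H) then ψ 1 else 0) + (if s ∈ U then (2 : ℂ) * a else 0) := by
    intro s
    have hsU : s ∈ U ↔ ∃ g, g * (s : C) * g⁻¹ = u := by
      rw [hU, Finset.mem_filter]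
      exact ⟨fun h1 => h1.2, fun h1 => ⟨Finset.mem_univ _, h1⟩⟩
    have hs1 : s = 1 ↔ (s : C) = 1 := by rw [Subtype.ext_iff]; rfl
    have hst : s = (⟨t, htP⟩ : H) ↔ (s : C) = t := by rw [Subtype.ext_iff]
    simp only [hs1, hst, hsU]
    rcases hcase s (htwo s) with h1 | h1 | h1 | h1
    · rw [h1, if_pos rfl, if_neg (Ne.symm ht1), if_neg h1u]
      ring
    · rw [h1, if_neg ht1, if_pos rfl, if_neg htu, hψt]
      ring
    · have e1 : (s : C) ≠ 1 := fun h2 => h1u (by rwa [h2] at h1)
      have e2 : (s : C) ≠ t := fun h2 => htu (by rwa [h2] at h1)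
      rw [if_neg e1, if_neg e2, if_pos h1, hvalu _ h1]
      ring
    · have e1 : (s : C) ≠ 1 := fun h2 => hψ1 (by rwa [h2] at h1)
      have e2 : (s : C) ≠ t := fun h2 => hψ1 (by rwa [h2, hψt] at h1)
      have e3 : ¬ ∃ g, g * (s : C) * g⁻¹ = u := fun h2 => ha0 (by rw [← hvalu _ h2, h1])
      rw [if_neg e1, if_neg e2, if_neg e3, h1]
      ring
  obtain ⟨n, hn⟩ := Core.classInner_isNat
    (Clifford.isCharacter_restrict H (Core.isIrr_isCharacter hψ)) (Core.isCharacter_one (G := H))
  have hsum : ∑ s : H, ψ s = (Nat.card H : ℂ) * n := by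
    rw [← hn, Core.classInner_def, ← mul_assoc, mul_inv_cancel₀ Core.card_ne_zero_complex, one_mul]
    refine Finset.sum_congr rfl fun s _ => ?_
    rw [Pi.one_apply, map_one, mul_one]
  have hsum2 : ∑ s : H, ψ s = 2 * b + U.card * (2 * a) := by
    rw [Finset.sum_congr rfl fun s _ => hval s, Finset.sum_add_distrib, Finset.sum_add_distrib,
      Finset.sum_ite_eq' Finset.univ (1 : H), Finset.sum_ite_eq' Finset.univ (⟨t, htP⟩ : H),
      if_pos (Finset.mem_univ _), if_pos (Finset.mem_univ _), ← Finset.sum_filter,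
      Finset.filter_mem_eq_inter, Finset.univ_inter, Finset.sum_const, nsmul_eq_mul, hb]
    ring
  have hint : (Nat.card H : ℤ) * n = 2 * b + U.card * (2 * a) := by
    have h1 : (((Nat.card H : ℤ) * n : ℤ) : ℂ) = ((2 * b + U.card * (2 * a) : ℤ) : ℂ) := by
      push_cast
      rw [← hsum, hsum2]
    exact_mod_cast h1
  have hdvd1 : (Nat.card H : ℤ) ∣ 2 * U.card := by
    have h1 : (Nat.card H : ℤ) ∣ 2 * b := by exact_mod_cast hdvd P
    have h2 : (Nat.card H : ℤ) ∣ U.card * (2 * a) := by
      have h3 : (U.card : ℤ) * (2 * a) = Nat.card H * n - 2 * b := by linarith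
      rw [h3]
      exact dvd_sub (dvd_mul_right _ _) h1
    rcases ha with h3 | h3
    · rw [h3] at h2
      have h4 : (U.card : ℤ) * (2 * 1) = 2 * U.card := by ring
      rwa [h4] at h2
    · rw [h3] at h2
      have h4 : (U.card : ℤ) * (2 * -1) = -(2 * U.card) := by ring
      rwa [h4, dvd_neg] at h2
  have hdvd2 : Nat.card H ∣ 2 * U.card := by exact_mod_cast hdvd1
  -- `U` is not empty
  have hUpos : 0 < U.card := by
    obtain ⟨g, hg⟩ := hconj u ⟨1, by rw [pow_one, sq, huu]⟩
    refine Finset.card_pos.2 ⟨⟨g * u * g⁻¹, hg⟩, ?_⟩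
    rw [hU, Finset.mem_filter]
    exact ⟨Finset.mem_univ _, g⁻¹, by group⟩
  -- `U` is small
  obtain ⟨x, hxL, hx2, hx0⟩ := hx
  obtain ⟨g, hg⟩ := hconj x hx2
  set x₀ : H := ⟨g * x * g⁻¹, hg⟩ with hx₀
  have hx₀L : (x₀ : C) ∉ L := by
    intro h1
    refine hxL ?_
    have h2 := hLN.conj_mem _ h1 g⁻¹
    have h3 : g⁻¹ * (g * x * g⁻¹) * g⁻¹⁻¹ = x := by group
    rw [← h3]
    exact h2
  set O : Finset H := Finset.univ.filter fun s : H => (s : C) ∉ L with hO
  have hUO : U ⊆ O.erase x₀ := by
    intro s hs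
    rw [hU, Finset.mem_filter] at hs
    rw [Finset.mem_erase, hO, Finset.mem_filter]
    refine ⟨?_, Finset.mem_univ _, ?_⟩
    · rintro rfl
      refine ha0 ?_
      rw [← hvalu _ hs.2]
      show ψ (g * x * g⁻¹) = 0
      rw [hcl x g, hx0]
    · obtain ⟨g', hg'⟩ := hs.2
      intro h1
      refine huL ?_
      rw [← hg']
      exact hLN.conj_mem _ h1 g'
  have hx₀O : x₀ ∈ O := by
    rw [hO, Finset.mem_filter]
    exact ⟨Finset.mem_univ _, hx₀L⟩
  have hO2 : O.card ≤ (Finset.univ.filter fun s : H => (s : C) ∈ L).card := by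
    refine Finset.card_le_card_of_injOn (fun s => x₀ * s) ?_ ?_
    · intro s hs
      simp only [hO, Finset.coe_filter, Finset.mem_univ, true_and, Set.mem_ofPred_eq] at hs ⊢
      show (x₀ : C) * s ∈ L
      exact (Subgroup.mul_mem_iff_of_index_two hL).2 (iff_of_false hx₀L hs)
    · intro s _ s' _ h1
      exact mul_left_cancel h1
  have hO3 : O.card + (Finset.univ.filter fun s : H => (s : C) ∈ L).card = Nat.card H := by
    rw [hO, add_comm, Finset.card_filter_add_card_filter_not, Finset.card_univ,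
      Nat.card_eq_fintype_card]
  have h1 := Finset.card_le_card hUO
  rw [Finset.card_erase_of_mem hx₀O] at h1
  have h2 : 0 < O.card := Finset.card_pos.2 ⟨x₀, hx₀O⟩
  have h3 := Nat.le_of_dvd (by omega) hdvd2
  omega

end Parity

section Value

variable {C : Type u} [Group C] [Finite C] {L : Subgroup C} {W : Type v} [Group W] [Fintype W]
  {e : W →* C} {u : C}

/-- If the coefficients at two linear characters do not vanish, the others vanish. -/
theorem value_of_two (h : Cent L e u) {ψ : C → ℂ} (hψ : IsIrrCharacter C ψ) {l l' : W →* ℂˣ}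
    (hne : l' ≠ l) (h0 : coef (fun y : W => u * e y) (fun y => (l y : ℂ)) ψ ≠ 0)
    (h0' : coef (fun y : W => u * e y) (fun y => (l' y : ℂ)) ψ ≠ 0) :
    ∃ a a' : ℤ, (a = 1 ∨ a = -1) ∧ (a' = 1 ∨ a' = -1) ∧
      coef (fun y : W => u * e y) (fun y => (l y : ℂ)) ψ = a ∧
      coef (fun y : W => u * e y) (fun y => (l' y : ℂ)) ψ = a' ∧
      ∀ y : W, ψ (u * e y) = a * l y + a' * l' y := by
  classical
  let _ : Fintype C := Fintype.ofFinite _
  have := Core.finite_irr (G := W)
  let _ : Fintype (IrrCharacter W) := Fintype.ofFinite _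
  obtain ⟨m, hm⟩ := Core.isGeneralizedCharacter_iff.1
    (isGeneralized_along h.sq h.comm (Core.isIrr_isCharacter hψ))
  have h3 : ∑ β : IrrCharacter W, m β ^ 2 ≤ 2 := by
    have h1 : classInner (fun y : W => ψ (u * e y)) (fun y : W => ψ (u * e y)) =
        ((∑ β : IrrCharacter W, m β ^ 2 : ℤ) : ℂ) := by
      have h2 := Core.classInner_sum_smul_sum_smul (fun β : IrrCharacter W => (m β : ℂ))
        (fun β => (m β : ℂ))
      simp only [Int.cast_smul_eq_zsmul] at h2
      rw [hm, h2]
      push_cast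
      refine Finset.sum_congr rfl fun β _ => ?_
      rw [map_intCast, sq]
    have h2 : classInner (fun y : W => ψ (u * e y)) (fun y : W => ψ (u * e y)) =
        (((Nat.card W : ℝ)⁻¹ * ∑ y : W, ‖ψ (u * e y)‖ ^ 2 : ℝ) : ℂ) := by
      rw [Core.classInner_def]
      push_cast
      congr 1
      refine Finset.sum_congr rfl fun x _ => ?_
      rw [Complex.mul_conj, Complex.normSq_eq_norm_sq]
      push_cast
      rfl
    have h4 := norm_le h hψ
    have h5 : ((∑ β : IrrCharacter W, m β ^ 2 : ℤ) : ℝ) =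
        (Nat.card W : ℝ)⁻¹ * ∑ y : W, ‖ψ (u * e y)‖ ^ 2 := by
      rw [h1] at h2
      exact_mod_cast h2
    rw [← h5] at h4
    exact_mod_cast h4
  set β : IrrCharacter W := ⟨fun y => (l y : ℂ), Linear.isIrrCharacter_hom l⟩ with hβ
  set β' : IrrCharacter W := ⟨fun y => (l' y : ℂ), Linear.isIrrCharacter_hom l'⟩ with hβ'
  have hββ : β' ≠ β := by
    intro h1
    refine hne ?_
    ext y
    exact congrFun (congrArg Subtype.val h1) y
  have hc : coef (fun y : W => u * e y) (fun y => (l y : ℂ)) ψ = m β := by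
    rw [coef_apply, hm]
    exact Core.classInner_sum_zsmul_irr m β
  have hc' : coef (fun y : W => u * e y) (fun y => (l' y : ℂ)) ψ = m β' := by
    rw [coef_apply, hm]
    exact Core.classInner_sum_zsmul_irr m β'
  have hb0 : m β ≠ 0 := by
    intro h1
    rw [hc, h1, Int.cast_zero] at h0
    exact h0 rfl
  have hb0' : m β' ≠ 0 := by
    intro h1
    rw [hc', h1, Int.cast_zero] at h0'
    exact h0' rfl
  have hsplit : ∀ f : IrrCharacter W → ℤ, ∑ γ, f γ = f β + f β' +
      ∑ γ ∈ (Finset.univ.erase β).erase β', f γ := by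
    intro f
    rw [← Finset.add_sum_erase _ f (Finset.mem_univ β), add_assoc,
      Finset.add_sum_erase _ f (Finset.mem_erase.2 ⟨hββ, Finset.mem_univ _⟩)]
  have h4 := hsplit fun γ => m γ ^ 2
  have e1 : 1 ≤ m β ^ 2 := by
    have := sq_pos_of_ne_zero hb0
    omega
  have e2 : 1 ≤ m β' ^ 2 := by
    have := sq_pos_of_ne_zero hb0'
    omega
  have e3 : ∀ γ ∈ (Finset.univ.erase β).erase β', m γ = 0 := by
    have h5 : ∑ γ ∈ (Finset.univ.erase β).erase β', m γ ^ 2 = 0 := by
      refine le_antisymm (by linarith) (Finset.sum_nonneg fun _ _ => sq_nonneg _)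
    intro γ hγ
    have h6 := (Finset.sum_eq_zero_iff_of_nonneg (fun _ _ => sq_nonneg _)).1 h5 γ hγ
    exact pow_eq_zero_iff (two_ne_zero) |>.1 h6
  have e4 : 0 ≤ ∑ γ ∈ (Finset.univ.erase β).erase β', m γ ^ 2 :=
    Finset.sum_nonneg fun _ _ => sq_nonneg _
  have sq1 : ∀ x : ℤ, x ^ 2 = 1 → x = 1 ∨ x = -1 := by
    intro x hx
    have h6 : (x - 1) * (x + 1) = 0 := by linear_combination hx
    rcases mul_eq_zero.1 h6 with h7 | h7
    · left; linarith
    · right; linarith
  refine ⟨m β, m β', sq1 _ (by linarith), sq1 _ (by linarith), hc, hc', fun y => ?_⟩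
  have h5 := congrFun hm y
  rw [h5, Finset.sum_apply, ← Finset.add_sum_erase _ _ (Finset.mem_univ β),
    ← Finset.add_sum_erase _ _ (Finset.mem_erase.2 ⟨hββ, Finset.mem_univ _⟩),
    Finset.sum_eq_zero (fun γ hγ => by rw [e3 γ hγ, zero_smul, Pi.zero_apply])]
  rw [Pi.smul_apply, Pi.smul_apply, zsmul_eq_mul, zsmul_eq_mul, add_zero]

end Value

end Cfsg.Agent.Classification.QDW.SelectInd
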