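import Mathlib
import Cfsg.Prelude.Def_Characters
import Cfsg.Agent.Characters.Core
import Cfsg.Agent.Characters.Clifford
import Cfsg.Agent.Characters.DegreeBounds
import Cfsg.Agent.OddOrderCharacters.IndRes
import Cfsg.Agent.Classification.QDW.DegBound
import Cfsg.Agent.Classification.QDW.SelectInd

/-!
# The degrees of the characters with nonzero coefficient at a moved linear character

`SelHyp`: the hypotheses `LBHyp` on the centralizer of an involution together with the list of the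
subgroups of small index. If `ψ` is irreducible with `t` in the kernel and its coefficient at a
linear character `l` of `W`, not fixed by `w`, is not zero, then `ψ(1) = q + ε` or
`ψ(1) ≥ 5 (q + ε) / 2` (`minimal_or`).
-/

set_option autoImplicit false
set_option linter.unusedSectionVars false

namespace Cfsg.Agent.Classification.QDW.SelectDeg

open Cfsg Cfsg.Agent.Characters Cfsg.Agent.Classification.QDW.Coef
open Cfsg.Agent.Classification.QDW.Inertia Cfsg.Agent.Classification.QDW.GlauberTwo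
open Cfsg.Agent.Classification.QDW.NormBound Cfsg.Agent.Classification.QDW.BigDeg
open Cfsg.Agent.Classification.QDW.DegBound Cfsg.Agent.Classification.QDW.SelectInd
open Cfsg.Agent.OddOrderCharacters
open scoped ComplexConjugate

universe u v

variable {C : Type u} [Group C] {W : Type v} [Group W]

/-- The hypotheses on the centralizer `C` of the involution `t`. -/
structure SelHyp (q : ℕ) (ε : ℤ) (K L B : Subgroup C) (K₁ X T : Subgroup B) (e : W →* C)
    (α : W ≃* W) (t u w : C) : Prop where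
  lb : LBHyp q ε K L B K₁ X T e α t u w
  indexB : B.index = q + 1
  idxP : ε = 1 → ∀ H : Subgroup C, K ≤ H → t ∈ H → u ∈ H → (∀ y, e y ∈ H) → H ≠ ⊤ →
    3 * (q + 1) ≤ H.index ∨ ∃ g : C, ∀ x, x ∈ H ↔ g * x * g⁻¹ ∈ B
  idxN : ε = -1 → ∀ H : Subgroup C, K ≤ H → t ∈ H → u ∈ H → (∀ y, e y ∈ H) → H ≠ ⊤ →
    q * (q - 1) ≤ 2 * H.index
  off : ε = -1 → ∀ (y : W) (g : C), g⁻¹ * (u * e y) * g ∉ B
  two : ε = -1 → ∀ x : C, (∃ k : ℕ, x ^ 2 ^ k = 1) → x = 1 ∨ x = t ∨ (∃ g, g * x * g⁻¹ = u) ∨
    ∃ g : C, ∃ hb : g * x * g⁻¹ ∈ B, (⟨_, hb⟩ : B) ∈ T ∧ (⟨_, hb⟩ : B) ∉ K₁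
  nonL : ε = -1 → ∃ x : B, x ∈ T ∧ (x : C) ∉ L

variable {q : ℕ} {ε : ℤ} {K L B : Subgroup C} {K₁ X T : Subgroup B} {e : W →* C} {α : W ≃* W}
  {t u w : C}

theorem t_mem_L (h : SelHyp q ε K L B K₁ X T e α t u w) : t ∈ L := by
  have hL := h.lb.cent.index
  have huL := h.lb.cent.not_mem
  by_contra htL
  have hLN : L.Normal := Subgroup.normal_of_index_eq_two hL
  have h2 : t * u ∈ L := (Subgroup.mul_mem_iff_of_index_two hL).2 (iff_of_false htL huL)
  rw [← h.lb.wu] at h2
  refine huL ?_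
  have h3 := hLN.conj_mem _ h2 w⁻¹
  have h4 : w⁻¹ * (w * u * w⁻¹) * w⁻¹⁻¹ = u := by group
  rwa [h4] at h3

theorem K₁_le_L (h : SelHyp q ε K L B K₁ X T e α t u w) {x : B} (hx : x ∈ K₁) : (x : C) ∈ L := by
  have hLN : L.Normal := Subgroup.normal_of_index_eq_two h.lb.cent.index
  rcases (h.lb.big.mem x).1 hx with h1 | h1
  · exact h.lb.big.KL h1
  · exact (L.mul_mem_cancel_left (t_mem_L h)).1 (h.lb.big.KL h1)

variable [Finite C] [Fintype W]

/-- The degree of an irreducible character of `K` is odd. -/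
theorem odd_deg (hK : Odd (Nat.card K)) {lam : K → ℂ} (hlam : IsIrrCharacter K lam) {a : ℕ}
    (ha : lam 1 = a) : Odd a := by
  obtain ⟨m, ρ, hρ, rfl⟩ := hlam
  have := hρ
  have h2 := Cfsg.Agent.Characters.DegreeBounds.finrank_dvd_card ρ
  rw [Representation.char_one] at ha
  have h3 : Module.finrank ℂ (Fin m → ℂ) = a := by exact_mod_cast ha
  rw [h3] at h2
  exact Odd.of_dvd_nat hK h2

/-- The degree of the induced character. -/
theorem ind_one [Fintype C] (h : SelHyp q ε K L B K₁ X T e α t u w) (η : B → ℂ) :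
    indFun B η 1 = ((q : ℂ) + 1) * η 1 := by
  rw [IndRes.indFun_apply_one, h.indexB]
  push_cast
  rfl

/-- The upper bound for the degree. -/
theorem le_of_constituent (h : SelHyp q ε K L B K₁ X T e α t u w) {ψ : C → ℂ}
    (hψ : IsIrrCharacter C ψ) {η χ : B → ℂ} (hη : IsIrrCharacter B η) (hχ : IsCharacter B χ)
    (hadd : ∀ b : B, ψ b = η b + χ b) {a b : ℕ} (ha : η 1 = a) (hb : ψ 1 = b) :
    b ≤ (q + 1) * a := by
  classical
  let _ : Fintype C := Fintype.ofFinite _
  obtain ⟨ψ', hψ', h1⟩ := exists_ind B hψ hη hχ hadd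
  obtain ⟨c, hc⟩ := Core.isCharacter_apply_one hψ'
  have h2 := congrFun h1 1
  rw [ind_one h, Pi.add_apply, ha, hb, hc] at h2
  have h3 : ((q + 1) * a : ℕ) = b + c := by exact_mod_cast h2
  omega

/-- The restriction to `K` of a character induced from `B`. -/
theorem ind_K [Fintype C] [hN : K.Normal] (h : SelHyp q ε K L B K₁ X T e α t u w) {lam : K → ℂ}
    (hst : stab K lam = ⊤) {η : B → ℂ} (hη : ∀ k : K, η ⟨k, h.lb.big.KB k.2⟩ = lam k) (k : K) :
    indFun B η k = ((q : ℂ) + 1) * lam k := by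
  rw [Core.indFun_apply]
  have h1 : ∀ x : C, extendByZero B η (x⁻¹ * k * x) = lam k := by
    intro x
    have h2 : x⁻¹ * (k : C) * x ∈ K := by
      have := hN.conj_mem k k.2 x⁻¹
      rwa [inv_inv] at this
    rw [Core.extendByZero_of_mem B _ (h.lb.big.KB h2)]
    rw [hη ⟨_, h2⟩]
    have h3 : x⁻¹ ∈ stab K lam := by rw [hst]; exact Subgroup.mem_top _
    have h4 := mem_stab.1 h3 k
    rw [← h4]
    congr 1
    apply Subtype.ext
    show x⁻¹ * (k : C) * x = x⁻¹ * (k : C) * x⁻¹⁻¹
    rw [inv_inv]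
  rw [Finset.sum_congr rfl fun x _ => h1 x, Finset.sum_const, Finset.card_univ, nsmul_eq_mul,
    ← Nat.card_eq_fintype_card, ← B.card_mul_index, h.indexB]
  have h5 : (Nat.card B : ℂ) ≠ 0 := Core.card_ne_zero_complex
  push_cast
  field_simp

/-- For `ε = -1` the restriction to `B` has no constituents of small degree. -/
theorem no_small [hN : K.Normal] (h : SelHyp q ε K L B K₁ X T e α t u w) (hε : ε = -1)
    {ψ : C → ℂ} (hψ : IsIrrCharacter C ψ) (l : W →* ℂˣ) (hl : conjL α l ≠ l)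
    (h0 : coef (fun y : W => u * e y) (fun y => (l y : ℂ)) ψ ≠ 0) {lam : K → ℂ}
    (hlam : IsIrrCharacter K lam) (hst : stab K lam = ⊤) {a b : ℕ} (ha : lam 1 = a)
    (hb : ψ 1 = b) (hab : ((q : ℤ) - 1) * a ≤ b) {η χ : B → ℂ} (hη : IsIrrCharacter B η)
    (hχ : IsCharacter B χ) (hadd : ∀ b : B, ψ b = η b + χ b)
    (hη1 : ∀ k : K, η ⟨k, h.lb.big.KB k.2⟩ = lam k) : False := by
  classical
  let _ : Fintype C := Fintype.ofFinite _
  obtain ⟨ψ', hψ', hind⟩ := exists_ind B hψ hη hχ hadd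
  have h1 : coef (fun y : W => u * e y) (fun y => (l y : ℂ)) (indFun B η) = 0 :=
    coef_eq_zero _ _ fun y => IndRes.indFun_eq_zero_of_forall B η fun g => h.off hε y g
  have h2 : coef (fun y : W => u * e y) (fun y => (l y : ℂ)) ψ' ≠ 0 := by
    intro h3
    rw [hind, map_add, h3, add_zero] at h1
    exact h0 h1
  obtain ⟨ψ₂, ρ, hψ₂, hρ, hadd₂, hne₂⟩ := exists_constituent _ hψ' h2
  obtain ⟨lam₂, χ₂, a₂, b₂, hlam₂, hχ₂, haddK, ha₂, hb₂, ha₂0, hcase⟩ :=
    degree h.lb hψ₂ l hl hne₂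
  obtain ⟨m, hm⟩ := exists_mult_of_add hlam (Core.isIrr_isCharacter hlam₂)
    (β := χ₂ + (fun k : K => ρ k) + fun k : K => ψ k)
    (Core.isCharacter_add (Core.isCharacter_add hχ₂ (Clifford.isCharacter_restrict K hρ))
      (Clifford.isCharacter_restrict K (Core.isIrr_isCharacter hψ))) (d := q + 1) (fun k => by
        have h3 := ind_K h hst hη1 k
        rw [hind, hadd₂, Pi.add_apply, Pi.add_apply, haddK] at h3
        rw [Pi.add_apply, Pi.add_apply]
        push_cast
        rw [← h3]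
        ring)
  have hlam₂' := eq_of_mult hlam hlam₂ hm
  rw [hlam₂'] at ha₂ hcase
  have haa : a₂ = a := by
    rw [ha] at ha₂
    exact_mod_cast ha₂.symm
  rcases hcase with ⟨-, h3⟩ | ⟨h3, -⟩
  · obtain ⟨c, hc⟩ := Core.isCharacter_apply_one hρ
    have h4 := congrFun hind 1
    have hηa : η 1 = a := by
      have := hη1 1
      rw [ha] at this
      exact this
    rw [ind_one h, hadd₂, Pi.add_apply, Pi.add_apply, hηa, hb, hb₂, hc] at h4
    have h5 : ((q + 1) * a : ℕ) = b + (b₂ + c) := by exact_mod_cast h4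
    have h6 : ((q : ℤ) + 1) * a = b + (b₂ + c) := by exact_mod_cast h5
    rw [haa, hε] at h3
    have hq := h.lb.big.frob.q_ge
    have hq' : (5 : ℤ) ≤ q := by exact_mod_cast hq
    have ha1 : (1 : ℤ) ≤ a := by rw [← haa]; exact_mod_cast ha₂0
    have hc0 : (0 : ℤ) ≤ c := by positivity
    nlinarith
  · exact h3 hst

/-- The Borel case. -/
theorem borel [hN : K.Normal] (h : SelHyp q ε K L B K₁ X T e α t u w)
    {ψ : C → ℂ} (hψ : IsIrrCharacter C ψ) {lam χ : K → ℂ} (hlam : IsIrrCharacter K lam)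
    (hχ : IsCharacter K χ) (hadd : ∀ k : K, ψ k = lam k + χ k) (hst : stab K lam = B) {a b : ℕ}
    (ha : lam 1 = a) (hb : ψ 1 = b) (ha0 : 1 ≤ a) : b = (q + 1) * a ∨ 3 * (q + 1) ≤ b := by
  classical
  let _ : Fintype C := Fintype.ofFinite _
  let _ : Fintype B := Fintype.ofFinite _
  let _ : Fintype K := Fintype.ofFinite _
  have hbig := h.lb.big
  have hq := hbig.frob.q_ge
  have hψB : IsCharacter B (fun b : B => ψ b) :=
    Clifford.isCharacter_restrict B (Core.isIrr_isCharacter hψ)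
  have hΦ : coef (fun k : K => (⟨k, hbig.KB k.2⟩ : B)) lam (fun b : B => ψ b) ≠ 0 := by
    show classInner (fun k : K => ψ k) lam ≠ 0
    exact inner_ne_zero_of_add hlam hχ (funext hadd)
  obtain ⟨η, χ₁, hη, hχ₁, hadd₁, hne₁⟩ := exists_constituent _ hψB hΦ
  let ι : K →* B := Subgroup.inclusion hbig.KB
  have hηK : IsCharacter K (fun k : K => η (ι k)) :=
    Core.isCharacter_comp ι (Core.isIrr_isCharacter hη)
  obtain ⟨χ₂, hχ₂, hadd₂⟩ := exists_add_of_classInner hηK hlam hne₁
  -- the multiplicity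
  let E : K.subgroupOf B ≃* K := Subgroup.subgroupOfEquivOfLe hbig.KB
  have hEc : ∀ k : K.subgroupOf B, ι (E k) = (k : B) := fun k => Subtype.ext rfl
  obtain ⟨f, hf1, hf⟩ := exists_mult (K := K.subgroupOf B) (lam := fun k => lam (E k))
    (χ := fun k => χ₂ (E k)) (Core.isIrr_comp E.toMonoidHom E.surjective hlam) (by
      rw [eq_top_iff]
      intro x _ k
      have h1 : (x : C) ∈ stab K lam := by rw [hst]; exact x.2
      exact mem_stab.1 h1 (E k)) hη (Core.isCharacter_comp E.toMonoidHom hχ₂) (fun k => by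
      have h1 := congrFun hadd₂ (E k)
      rw [Pi.add_apply] at h1
      rw [← h1, hEc])
  have hfK : ∀ k : K, η (ι k) = f * lam k := by
    intro k
    have h1 := hf (E.symm k)
    rw [MulEquiv.apply_symm_apply] at h1
    rw [← h1, ← hEc, MulEquiv.apply_symm_apply]
  -- the character of `K₁`
  obtain ⟨τ, hτ, hτ'⟩ := central_sign (z := (⟨t, hbig.tB⟩ : B)) (Subtype.ext hbig.tt)
    (fun x => Subtype.ext (hbig.t_comm _).eq) hη
  obtain ⟨μ, hμ, hμη, hμlam⟩ := exists_mu_of hbig hlam
    (ψ₁ := fun x : K₁ => η x) (Clifford.isCharacter_restrict K₁ (Core.isIrr_isCharacter hη))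
    (Core.isIrr_apply_one_ne_zero hη) hτ (fun x => hτ' _) hfK
  have hf0 : (f : ℂ) ≠ 0 := Nat.cast_ne_zero.2 (by omega)
  have hηa : η 1 = f * a := by
    have h1 := hfK 1
    rw [ha] at h1
    exact h1
  rcases FrobLift.frob_degree hbig.frob hμ (fun g n => by
      have h1 : η (g * n * g⁻¹) = η n := Core.isIrr_isClassFunction hη _ g
      have h2 := hμη ⟨g * n * g⁻¹, hbig.frob.normal.conj_mem n n.2 g⟩
      rw [show ((⟨g * n * g⁻¹, hbig.frob.normal.conj_mem n n.2 g⟩ : K₁) : B) = g * n * g⁻¹ from rfl,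
        h1, hμη n] at h2
      exact (mul_left_cancel₀ hf0 h2).symm) hη hμη with h1 | ⟨h1, -⟩
  · left
    have h2 := le_of_constituent h hψ hη hχ₁ (fun b => congrFun hadd₁ b) (a := a) (by
      rw [hηa, h1, Nat.cast_one, one_mul]) hb
    have h3 := index_mul_le hlam (Core.isIrr_isCharacter hψ) hχ hadd ha hb
    rw [hst, h.indexB] at h3
    exact le_antisymm h2 h3
  · right
    have h3 := index_mul_mult_le hlam (Core.isIrr_isCharacter hψ) (r := q - 1)
      (χ := fun k : K => χ₁ (ι k)) (Core.isCharacter_comp ι hχ₁) (fun k => by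
        have h4 := congrFun hadd₁ (ι k)
        rw [Pi.add_apply, hfK, h1] at h4
        exact h4) ha hb
    rw [hst, h.indexB] at h3
    have h4 : 3 ≤ (q - 1) * a := by
      calc 3 ≤ (q - 1) * 1 := by omega
        _ ≤ (q - 1) * a := Nat.mul_le_mul_left _ ha0
    calc 3 * (q + 1) = (q + 1) * 3 := by ring
      _ ≤ (q + 1) * ((q - 1) * a) := Nat.mul_le_mul_left _ h4
      _ ≤ b := h3

/-- The restriction to `B` for `ε = 1` and an invariant character of the core. -/
theorem le_of_invariant [hN : K.Normal] (h : SelHyp q ε K L B K₁ X T e α t u w) (hε : ε = 1)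
    {ψ : C → ℂ} (hψ : IsIrrCharacter C ψ) (l : W →* ℂˣ)
    (h0 : coef (fun y : W => u * e y) (fun y => (l y : ℂ)) ψ ≠ 0) {lam χ : K → ℂ}
    (hlam : IsIrrCharacter K lam) (hχ : IsCharacter K χ) (hadd : ∀ k : K, ψ k = lam k + χ k)
    (hst : stab K lam = ⊤) {a b : ℕ} (ha : lam 1 = a) (hb : ψ 1 = b) : b ≤ (q + 1) * a := by
  classical
  have hbig := h.lb.big
  obtain ⟨d, hd1, hd⟩ := exists_mult hlam hst hψ hχ hadd
  obtain ⟨μ, hμ, hμψ, hμlam⟩ := exists_mu hbig hlam hψ hd
  obtain ⟨huB, huT, heT⟩ := h.lb.epsT hε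
  have heB : ∀ y, e y ∈ B := fun y => (heT y).1
  have hmemT : ∀ y : W, (⟨u, huB⟩ * e.codRestrict B heB y : B) ∈ T := by
    intro y
    obtain ⟨hy, hyT⟩ := heT y
    exact T.mul_mem huT hyT
  have hnotK : ∀ y : W, (⟨u, huB⟩ * e.codRestrict B heB y : B) ∉ K₁ := fun y h1 =>
    mul_not_mem h.lb.cent y (K₁_le_L h h1)
  have hψB : IsCharacter B (fun b : B => ψ b) :=
    Clifford.isCharacter_restrict B (Core.isIrr_isCharacter hψ)
  have h1 : coef (fun y : W => (⟨u, huB⟩ * e.codRestrict B heB y : B)) (fun y => (l y : ℂ))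
      (fun b : B => ψ b) ≠ 0 := h0
  obtain ⟨η, χ₁, hη, hχ₁, hadd₁, hne₁⟩ := exists_constituent _ hψB h1
  obtain ⟨m, hm, hm2⟩ := constituent hbig hψ hμ (by omega) hμψ hη hχ₁ (fun b => congrFun hadd₁ b)
  rcases hm2 with h2 | ⟨h2, h3⟩
  · have hμ1 : μ 1 = a := by
      have h1 := hμlam 1
      rw [map_one, ha] at h1
      exact h1
    have hη1 : η 1 = a := by
      have h4 := hm 1
      rw [h2, Nat.cast_one, one_mul, hμ1] at h4
      exact h4
    exact le_of_constituent h hψ hη hχ₁ (fun b => congrFun hadd₁ b) hη1 hb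
  · exact absurd (coef_eq_zero _ _ fun y => h3 _ (hmemT y) (hnotK y)) hne₁

/-- The restriction to `B` for `ε = -1` and an invariant character of the core. -/
theorem split_neg [hN : K.Normal] (h : SelHyp q ε K L B K₁ X T e α t u w) (hε : ε = -1)
    {ψ : C → ℂ} (hψ : IsIrrCharacter C ψ) (l : W →* ℂˣ) (hl : conjL α l ≠ l)
    (h0 : coef (fun y : W => u * e y) (fun y => (l y : ℂ)) ψ ≠ 0) {lam χ : K → ℂ}
    (hlam : IsIrrCharacter K lam) (hχ : IsCharacter K χ) (hadd : ∀ k : K, ψ k = lam k + χ k)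
    (hst : stab K lam = ⊤) {a b : ℕ} (ha : lam 1 = a) (hb : ψ 1 = b)
    (hab : ((q : ℤ) - 1) * a ≤ b) :
    (∃ N : ℕ, b = N * ((q - 1) * a)) ∧ ∀ g ∈ T, g ∉ K₁ → ψ (g : C) = 0 := by
  classical
  have hbig := h.lb.big
  let _ : Fintype B := Fintype.ofFinite _
  have := Core.finite_irr (G := B)
  let _ : Fintype (IrrCharacter B) := Fintype.ofFinite _
  obtain ⟨d, hd1, hd⟩ := exists_mult hlam hst hψ hχ hadd
  obtain ⟨μ, hμ, hμψ, hμlam⟩ := exists_mu hbig hlam hψ hd
  have hμ1 : μ 1 = a := by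
    have h1 := hμlam 1
    rw [map_one, ha] at h1
    exact h1
  have hψB : IsCharacter B (fun b : B => ψ b) :=
    Clifford.isCharacter_restrict B (Core.isIrr_isCharacter hψ)
  obtain ⟨n, hn⟩ := Core.exists_nat_comb hψB
  have key : ∀ η : IrrCharacter B, n η ≠ 0 → (η : B → ℂ) 1 = ((q - 1 : ℕ) : ℂ) * a ∧
      ∀ g ∈ T, g ∉ K₁ → (η : B → ℂ) g = 0 := by
    intro η hη
    have h3 : classInner (fun b : B => ψ b) (η : B → ℂ) ≠ 0 := by
      rw [hn, Core.classInner_sum_nsmul_irr]
      exact Nat.cast_ne_zero.2 hη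
    obtain ⟨χ₁, hχ₁, hadd₁⟩ := exists_add_of_classInner hψB η.2 h3
    obtain ⟨m, hm, hm2⟩ := constituent hbig hψ hμ (by omega) hμψ η.2 hχ₁
      (fun b => congrFun hadd₁ b)
    rcases hm2 with h2 | ⟨h2, h4⟩
    · exfalso
      refine no_small h hε hψ l hl h0 hlam hst ha hb hab η.2 hχ₁ (fun b => congrFun hadd₁ b) ?_
      intro k
      have h5 := hm (emb hbig k)
      rw [h2, Nat.cast_one, one_mul, hμlam] at h5
      exact h5
    · refine ⟨?_, h4⟩
      have h5 := hm 1
      rw [h2, hμ1] at h5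
      exact h5
  constructor
  · refine ⟨∑ η : IrrCharacter B, n η, ?_⟩
    have h1 := congrFun hn 1
    have h2 : ψ ((1 : B) : C) = b := hb
    rw [h2, Finset.sum_apply] at h1
    have h3 : (b : ℂ) = ((((∑ η : IrrCharacter B, n η) * ((q - 1) * a) : ℕ)) : ℂ) := by
      rw [h1]
      push_cast
      rw [Finset.sum_mul]
      refine Finset.sum_congr rfl fun η _ => ?_
      rw [Pi.smul_apply, nsmul_eq_mul]
      by_cases h4 : n η = 0
      · rw [h4, Nat.cast_zero, zero_mul, zero_mul]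
      · rw [(key η h4).1]
    exact_mod_cast h3
  · intro g hg hgK
    have h1 := congrFun hn g
    rw [Finset.sum_apply] at h1
    refine h1.trans (Finset.sum_eq_zero fun η _ => ?_)
    rw [Pi.smul_apply, nsmul_eq_mul]
    by_cases h4 : n η = 0
    · rw [h4, Nat.cast_zero, zero_mul]
    · rw [(key η h4).2 g hg hgK, mul_zero]

/-- The order of a Sylow 2-subgroup. -/
theorem card_sylow (h : SelHyp q ε K L B K₁ X T e α t u w) {m : ℕ} (hm : Odd m)
    (h2m : q + 1 = 2 * m) (P : Sylow 2 C) : Nat.card (P : Subgroup C) ∣ 4 * (q - 1) := by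
  have hbig := h.lb.big
  have : Fact (Nat.Prime 2) := ⟨Nat.prime_two⟩
  have h1 := (P : Subgroup C).card_subgroup_dvd_card
  have h2 : Nat.card K₁ = 2 * Nat.card K := by
    rw [GlauberTwo.card_eq (setup hbig),
      ← Nat.card_congr (MonoidHom.ofInjective (emb_injective hbig)).toEquiv]
  have hC : Nat.card C = 4 * (q - 1) * (q * Nat.card K * m) := by
    rw [← B.card_mul_index, h.indexB, hbig.frob.card_B, h2, h2m]
    ring
  have hq : Odd q := by
    have hq := hbig.frob.q_ge
    obtain ⟨k, hk⟩ := hm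
    exact ⟨m - 1, by omega⟩
  have hodd : Odd (q * Nat.card K * m) := (hq.mul hbig.oddK).mul hm
  rw [hC] at h1
  have hcop : (Nat.card (P : Subgroup C)).Coprime (q * Nat.card K * m) := by
    obtain ⟨k, hk⟩ := IsPGroup.iff_card.1 P.isPGroup'
    rw [hk]
    exact Nat.Coprime.pow_left _ ((Nat.coprime_two_left).2 hodd)
  exact hcop.dvd_of_dvd_mul_right h1

/-- For `ε = -1` the number of constituents of the restriction to `B` is odd. -/
theorem odd_mult (h : SelHyp q ε K L B K₁ X T e α t u w) (hε : ε = -1) {m : ℕ}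
    (hm : Odd m) (h2m : q + 1 = 2 * m) {ψ : C → ℂ} (hψ : IsIrrCharacter C ψ) (hψt : ψ t = ψ 1)
    (l : W →* ℂˣ) (hl : conjL α l ≠ l)
    (h0 : coef (fun y : W => u * e y) (fun y => (l y : ℂ)) ψ ≠ 0) {b N : ℕ} (hb : ψ 1 = b)
    (hN : b = N * (q - 1)) (hvan : ∀ g ∈ T, g ∉ K₁ → ψ (g : C) = 0) : Odd N := by
  classical
  have hbig := h.lb.big
  let _ : Fintype C := Fintype.ofFinite _
  have hL := h.lb.cent.index
  have hcl := Core.isIrr_isClassFunction hψ
  have hLN : L.Normal := Subgroup.normal_of_index_eq_two hL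
  by_contra hcon
  rw [Nat.not_odd_iff_even] at hcon
  obtain ⟨j, hj⟩ := hcon
  -- the value at `u`
  obtain ⟨τ, hτ, hτ'⟩ := central_sign hbig.tt hbig.t_comm hψ
  have hτ1 : τ = 1 := by
    have h1 := hτ' 1
    rw [mul_one, hψt] at h1
    exact (mul_eq_right₀ (Core.isIrr_apply_one_ne_zero hψ)).1 h1.symm
  have h0' : coef (fun y : W => u * e y) (fun y => (conjL α l y : ℂ)) ψ ≠ 0 := by
    rw [coef_conj h.lb hcl hτ hτ', hτ1, one_mul]
    exact h0
  obtain ⟨c, c', hc, hc', hcl1, hcl2, hval⟩ := value_of_two h.lb.cent hψ hl h0 h0'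
  have hcc : c' = c := by
    rw [coef_conj h.lb hcl hτ hτ', hτ1, one_mul, hcl1] at hcl2
    exact_mod_cast hcl2.symm
  have hu : ψ u = 2 * c := by
    have h1 := hval 1
    rw [map_one, mul_one, map_one, map_one, hcc, Units.val_one] at h1
    rw [h1]
    ring
  refine parity hbig.tt hbig.t_ne hbig.t_comm h.lb.cent.sq hL (t_mem_L h) h.lb.cent.not_mem hψ hψt
    hb hc hu (fun P => ?_) (fun x hx => ?_) ?_
  · have h1 := card_sylow h hm h2m P
    have h2 : 2 * b = 4 * (q - 1) * j := by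
      rw [hN, hj]
      ring
    rw [h2]
    exact h1.mul_right j
  · rcases h.two hε x hx with h1 | h1 | h1 | ⟨g, hgB, hgT, hgK⟩
    · exact Or.inl h1
    · exact Or.inr (Or.inl h1)
    · exact Or.inr (Or.inr (Or.inl h1))
    · refine Or.inr (Or.inr (Or.inr ?_))
      rw [← hcl x g]
      exact hvan _ hgT hgK
  · obtain ⟨x, hxT, hxL⟩ := h.nonL hε
    set r := ordCompl[2] (Nat.card C) with hr
    have hr1 : Odd r := by
      rw [Nat.odd_iff, ← Nat.not_even_iff, even_iff_two_dvd]
      exact Nat.not_dvd_ordCompl Nat.prime_two Nat.card_pos.ne'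
    have hxr : (x : C) ^ r ∉ L := by
      obtain ⟨k, hk⟩ := hr1
      rw [hk, pow_succ, pow_mul]
      have h1 : ((x : C) ^ 2) ^ k ∈ L := by
        refine L.pow_mem ?_ k
        rw [sq]
        exact Subgroup.mul_self_mem_of_index_two hL _
      intro h2
      exact hxL ((L.mul_mem_cancel_left h1).1 h2)
    refine ⟨(x : C) ^ r, hxr, ⟨(Nat.card C).factorization 2, ?_⟩, ?_⟩
    · rw [← pow_mul, mul_comm, hr, Nat.ordProj_mul_ordCompl_eq_self]
      exact pow_card_eq_one'
    · have h1 : (x : C) ^ r = ((x ^ r : B) : C) := rfl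
      rw [h1]
      refine hvan _ (T.pow_mem hxT r) fun h2 => hxr ?_
      rw [h1]
      exact K₁_le_L h h2

/-- The degree bound for an invariant character of the core. -/
theorem degree_of_invariant [hN : K.Normal] (h : SelHyp q ε K L B K₁ X T e α t u w) {ψ : C → ℂ}
    (hψ : IsIrrCharacter C ψ) (l : W →* ℂˣ) (hl : conjL α l ≠ l)
    (h0 : coef (fun y : W => u * e y) (fun y => (l y : ℂ)) ψ ≠ 0) {lam χ : K → ℂ}
    (hlam : IsIrrCharacter K lam) (hχ : IsCharacter K χ) (hadd : ∀ k : K, ψ k = lam k + χ k)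
    (hst : stab K lam = ⊤) {a b : ℕ} (ha : lam 1 = a) (hb : ψ 1 = b) :
    ((q : ℤ) + ε) * a ≤ b := by
  obtain ⟨d, hd1, hd⟩ := exists_mult hlam hst hψ hχ hadd
  obtain ⟨lam₂, χ₂, a₂, b₂, hlam₂, hχ₂, hadd₂, ha₂, hb₂, -, hcase⟩ := degree h.lb hψ l hl h0
  obtain ⟨m, hm⟩ := exists_mult_of_add hlam (Core.isIrr_isCharacter hlam₂) hχ₂ (d := d)
    (fun k => by rw [← hadd₂, hd])
  have h1 := eq_of_mult hlam hlam₂ hm
  rw [h1] at ha₂ hcase
  have haa : a₂ = a := by
    rw [ha] at ha₂
    exact_mod_cast ha₂.symm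
  have hbb : b₂ = b := by
    rw [hb] at hb₂
    exact_mod_cast hb₂.symm
  rw [haa, hbb] at hcase
  rcases hcase with h2 | h2
  · exact h2.2
  · exact absurd hst h2.1

/-- **The degrees.** -/
theorem minimal_or [hN : K.Normal] (h : SelHyp q ε K L B K₁ X T e α t u w) {m : ℕ}
    (hm : Odd m) (h2m : 2 * (m : ℤ) = q - ε) {ψ : C → ℂ} (hψ : IsIrrCharacter C ψ)
    (hψt : ψ t = ψ 1) (l : W →* ℂˣ) (hl : conjL α l ≠ l)
    (h0 : coef (fun y : W => u * e y) (fun y => (l y : ℂ)) ψ ≠ 0) {b : ℕ} (hb : ψ 1 = b) :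
    (b : ℤ) = q + ε ∨ 5 * ((q : ℤ) + ε) ≤ 2 * b := by
  have hbig := h.lb.big
  have hq := hbig.frob.q_ge
  have hq' : (5 : ℤ) ≤ q := by exact_mod_cast hq
  obtain ⟨lam, χ, hlam, hχ, hadd, hlu, hle⟩ :=
    exists_invariant (loc h.lb) (Core.isIrr_isCharacter hψ) l h0
  obtain ⟨a, ha0, ha⟩ := Core.isIrr_apply_one hlam
  have hodd := odd_deg hbig.oddK hlam ha
  have hu : u ∈ stab K lam := hlu
  have he : ∀ y, e y ∈ stab K lam := fun y => hle y
  have hKs : K ≤ stab K lam := le_stab (Core.isIrr_isClassFunction hlam)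
  have hts : t ∈ stab K lam := center_le_stab hbig.t_comm
  have fin : ∀ N : ℕ, Odd N → (b : ℤ) = N * (q + ε) → 0 < (q : ℤ) + ε →
      (b : ℤ) = q + ε ∨ 5 * ((q : ℤ) + ε) ≤ 2 * b := by
    intro N hN h1 hpos
    rcases Nat.lt_or_ge N 3 with h2 | h2
    · left
      have h3 : N = 1 := by
        obtain ⟨k, hk⟩ := hN
        omega
      rw [h1, h3, Nat.cast_one, one_mul]
    · right
      have h3 : (3 : ℤ) ≤ N := by exact_mod_cast h2
      rw [h1]
      nlinarith
  rcases h.lb.eps with hε | hε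
  · -- `ε = 1`
    by_cases hst : stab K lam = ⊤
    · have h1 := degree_of_invariant h hψ l hl h0 hlam hχ hadd hst ha hb
      have h2 := le_of_invariant h hε hψ l h0 hlam hχ hadd hst ha hb
      have h3 : (b : ℤ) ≤ (q + 1) * a := by exact_mod_cast h2
      rw [hε] at h1
      refine fin a hodd ?_ (by rw [hε]; linarith)
      rw [hε]
      linarith
    · rcases h.idxP hε _ hKs hts hu he hst with h1 | ⟨g, hg⟩
      · right
        have h2 := index_mul_le hlam (Core.isIrr_isCharacter hψ) hχ hadd ha hb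
        have h3 : (stab K lam).index * 1 ≤ (stab K lam).index * a := Nat.mul_le_mul_left _ ha0
        have h4 : 3 * (q + 1) ≤ b := by linarith
        have h5 : 3 * ((q : ℤ) + 1) ≤ b := by exact_mod_cast h4
        rw [hε]
        linarith
      · -- the stabilizer is a conjugate of `B`
        have hlam' : IsIrrCharacter K (lam ∘ (MulAut.conjNormal g⁻¹ : MulAut K)) :=
          Clifford.isIrr_conjNormal hlam g⁻¹
        have hχ' : IsCharacter K (χ ∘ (MulAut.conjNormal g⁻¹ : MulAut K)) :=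
          Core.isCharacter_comp ((MulAut.conjNormal g⁻¹ : MulAut K) : K →* K) hχ
        have hadd' : ∀ k : K, ψ k = (lam ∘ (MulAut.conjNormal g⁻¹ : MulAut K)) k +
            (χ ∘ (MulAut.conjNormal g⁻¹ : MulAut K)) k := by
          intro k
          have h1 := hadd (MulAut.conjNormal g⁻¹ k)
          rw [MulAut.conjNormal_apply, Core.isIrr_isClassFunction hψ] at h1
          exact h1
        have hst' : stab K (lam ∘ (MulAut.conjNormal g⁻¹ : MulAut K)) = B := by
          ext x
          have h1 : x ∈ B ↔ g⁻¹ * x * g ∈ stab K lam := by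
            rw [hg]
            have h2 : g * (g⁻¹ * x * g) * g⁻¹ = x := by group
            rw [h2]
          rw [h1]
          constructor
          · intro hx k
            have h2 := mem_stab.1 hx (MulAut.conjNormal g k)
            simp only [Function.comp_apply] at h2
            have h3 : (MulAut.conjNormal g⁻¹ : MulAut K) (MulAut.conjNormal g k) = k := by
              apply Subtype.ext
              simp only [MulAut.conjNormal_apply]
              group
            rw [h3] at h2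
            rw [← h2]
            congr 1
            apply Subtype.ext
            simp only [MulAut.conjNormal_apply]
            group
          · intro hx k
            have h2 := mem_stab.1 hx (MulAut.conjNormal g⁻¹ k)
            simp only [Function.comp_apply]
            rw [← h2]
            congr 1
            apply Subtype.ext
            simp only [MulAut.conjNormal_apply]
            group
        have ha' : (lam ∘ (MulAut.conjNormal g⁻¹ : MulAut K)) 1 = a := by
          rw [Function.comp_apply, map_one, ha]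
        rcases borel h hψ hlam' hχ' hadd' hst' ha' hb ha0 with h1 | h1
        · refine fin a hodd ?_ (by rw [hε]; linarith)
          rw [hε, h1]
          push_cast
          ring
        · right
          have h5 : 3 * ((q : ℤ) + 1) ≤ b := by exact_mod_cast h1
          rw [hε]
          linarith
  · -- `ε = -1`
    by_cases hst : stab K lam = ⊤
    · have h1 := degree_of_invariant h hψ l hl h0 hlam hχ hadd hst ha hb
      rw [hε] at h1
      obtain ⟨⟨N, hNb⟩, hvan⟩ := split_neg h hε hψ l hl h0 hlam hχ hadd hst ha hb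
        (by linarith)
      have h2m' : q + 1 = 2 * m := by
        rw [hε] at h2m
        omega
      have h2 : b = N * a * (q - 1) := by
        rw [hNb]
        ring
      have h3 := odd_mult h hε hm h2m' hψ hψt l hl h0 hb h2 hvan
      refine fin (N * a) h3 ?_ (by rw [hε]; linarith)
      have h4 : ((q - 1 : ℕ) : ℤ) = q - 1 := by
        rw [Nat.cast_sub (by omega), Nat.cast_one]
      rw [hε, h2]
      push_cast [h4]
      ring
    · right
      have h1 := h.idxN hε _ hKs hts hu he hst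
      have h2 := index_mul_le hlam (Core.isIrr_isCharacter hψ) hχ hadd ha hb
      have h3 : (stab K lam).index * 1 ≤ (stab K lam).index * a := Nat.mul_le_mul_left _ ha0
      have h4 : q * (q - 1) ≤ 2 * b := by linarith
      have h5 : ((q - 1 : ℕ) : ℤ) = q - 1 := by
        rw [Nat.cast_sub (by omega), Nat.cast_one]
      have h6 : (q : ℤ) * (q - 1) ≤ 2 * b := by
        rw [← h5]
        exact_mod_cast h4
      rw [hε]
      nlinarith

end Cfsg.Agent.Classification.QDW.SelectDeg
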