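import Mathlib
import Cfsg.Prelude.Def_Characters
import Cfsg.Agent.Characters.Core
import Cfsg.Agent.Characters.Clifford
import Cfsg.Agent.CharactersDeep.AbelianQuotient
import Cfsg.Agent.Classification.QDW.LowerBound
import Cfsg.Agent.Classification.QDW.SelectDeg

/-!
# Selection of a minimal character

`Y` is a character of the centralizer `C` of the involution `t` with the values `Vals`; the
subgroups `A₁`, `A₂` of `W` are different. If `Y(1) - Y(t) < 2 (q² - 1)`, then there are an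
irreducible character `ψ` of degree `q + ε` with `t` in the kernel and a linear character `l` of
`W`, trivial on exactly one of `A₁`, `A₂`, such that the coefficient of `ψ` at `l` is not zero
(`select`).
-/

set_option autoImplicit false
set_option linter.unusedSectionVars false

namespace Cfsg.Agent.Classification.QDW.Select

open Cfsg Cfsg.Agent.Characters Cfsg.Agent.Classification.QDW.Coef
open Cfsg.Agent.Classification.QDW.Inertia Cfsg.Agent.Classification.QDW.GlauberTwo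
open Cfsg.Agent.Classification.QDW.NormBound Cfsg.Agent.Classification.QDW.BigDeg
open Cfsg.Agent.Classification.QDW.DegBound Cfsg.Agent.Classification.QDW.LowerBound
open Cfsg.Agent.Classification.QDW.SelectDeg
open scoped ComplexConjugate

universe u v

variable {C : Type u} [Group C] [Finite C] {W : Type v} [Group W] [Fintype W]
  {q : ℕ} {ε : ℤ} {K L B : Subgroup C} {K₁ X T : Subgroup B} {e : W →* C} {α : W ≃* W}
  {t u w : C}

/-- Trivial on exactly one of the subgroups. -/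
def Sep (A₁ A₂ : Subgroup W) (l : W →* ℂˣ) : Prop :=
  ((∀ y ∈ A₁, l y = 1) ∧ ¬ ∀ y ∈ A₂, l y = 1) ∨ ((∀ y ∈ A₂, l y = 1) ∧ ¬ ∀ y ∈ A₁, l y = 1)

omit [Fintype W] in
theorem index_sup_le [Finite W] {A₁ A₂ : Subgroup W} [A₁.Normal] [A₂.Normal]
    (hodd : Odd (Nat.card W)) {m : ℕ}
    (h1 : A₁.index = m) (h2 : A₂.index = m) (hne : A₁ ≠ A₂) :
    3 * (A₁ ⊔ A₂ : Subgroup W).index ≤ m := by
  have h3 := Subgroup.relIndex_mul_index (le_sup_left : A₁ ≤ A₁ ⊔ A₂)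
  rw [h1] at h3
  have hm : Odd m := by
    rw [← h1]
    exact Odd.of_dvd_nat hodd (Subgroup.index_dvd_card _)
  have h4 : Odd (A₁.relIndex (A₁ ⊔ A₂)) := Odd.of_dvd_nat hm ⟨_, h3.symm⟩
  have h5 : A₁.relIndex (A₁ ⊔ A₂) ≠ 1 := by
    intro h6
    have h7 : A₂ ≤ A₁ := le_sup_right.trans (Subgroup.relIndex_eq_one.1 h6)
    have h8 := Subgroup.index_strictAnti (lt_of_le_of_ne h7 (Ne.symm hne))
    omega
  obtain ⟨k, hk⟩ := h4
  have h6 : 3 ≤ A₁.relIndex (A₁ ⊔ A₂) := by omega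
  calc 3 * (A₁ ⊔ A₂ : Subgroup W).index ≤ A₁.relIndex (A₁ ⊔ A₂) * (A₁ ⊔ A₂).index :=
        Nat.mul_le_mul_right _ h6
    _ = m := h3

open scoped Classical in
/-- The estimate when there is no minimal character at a separating linear character. -/
theorem plus_sep [hN : K.Normal] (h : SelHyp q ε K L B K₁ X T e α t u w) {Y : C → ℂ} {σ c : ℤ}
    {m : ℕ} {A₁ A₂ : Subgroup W} (hY : Vals q ε e α t u Y σ c m A₁ A₂) (hA : A₁ ≠ A₂)
    [Fintype (IrrCharacter C)] (n d : IrrCharacter C → ℕ)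
    (hn : Y = ∑ ψ : IrrCharacter C, n ψ • (ψ : C → ℂ))
    (hd : ∀ ψ : IrrCharacter C, (ψ : C → ℂ) 1 = d ψ)
    (Sp : Finset (IrrCharacter C)) (hSp : ∀ φ ∈ Sp, Special e t u φ)
    (hno : ∀ ψ : IrrCharacter C, n ψ ≠ 0 → (ψ : C → ℂ) t = (ψ : C → ℂ) 1 →
      ∀ l : W →* ℂˣ, Sep A₁ A₂ l →
        coef (fun y : W => u * e y) (fun y => (l y : ℂ)) (ψ : C → ℂ) ≠ 0 →
          (d ψ : ℤ) ≠ q + ε) :
    ((q : ℤ) + ε) * (2 * m - 1) + ∑ φ ∈ Sp, (n φ : ℤ) * d φ ≤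
        ∑ ψ ∈ Finset.univ.filter (fun ψ : IrrCharacter C => (ψ : C → ℂ) t = (ψ : C → ℂ) 1),
          (n ψ : ℤ) * d ψ := by
  have hA₁ := hY.normal₁
  have hA₂ := hY.normal₂
  have hb := h.lb
  have hq := hb.big.frob.q_ge
  have hpos : (0 : ℤ) < q + ε := by
    have hq' : (5 : ℤ) ≤ q := by exact_mod_cast hq
    rcases hb.eps with h5 | h5 <;> rw [h5] <;> linarith
  have hmodd : Odd m := by
    rw [← hY.index₁]
    exact Odd.of_dvd_nat hb.cent.oddW (Subgroup.index_dvd_card _)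
  have h2m := hY.two_m
  -- the integer coefficients
  choose a ha ha2 using fun ψ : IrrCharacter C => exists_int_coef hb.cent ψ.2
  -- the sign of `t`
  choose τ hτ hτ' using fun ψ : IrrCharacter C => central_sign hb.big.tt hb.big.t_comm ψ.2
  have hτt : ∀ ψ : IrrCharacter C, (ψ : C → ℂ) t = τ ψ * (ψ : C → ℂ) 1 := by
    intro ψ
    have := hτ' ψ 1
    rwa [mul_one] at this
  have hτ1 : ∀ ψ : IrrCharacter C, (ψ : C → ℂ) t = (ψ : C → ℂ) 1 ↔ τ ψ = 1 := by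
    intro ψ
    rw [hτt]
    constructor
    · intro h1
      exact (mul_eq_right₀ (Core.isIrr_apply_one_ne_zero ψ.2)).1 h1
    · intro h1
      rw [h1, one_mul]
  -- the sets of linear characters
  obtain ⟨Λ₁, hΛ₁, hΛ₁c, -, -⟩ := CharactersDeep.AbelianQuotient.exists_linear_dual A₁ hY.comm₁
  obtain ⟨Λ₂, hΛ₂, hΛ₂c, -, -⟩ := CharactersDeep.AbelianQuotient.exists_linear_dual A₂ hY.comm₂
  obtain ⟨Λ₃, hΛ₃, hΛ₃c, -, -⟩ := CharactersDeep.AbelianQuotient.exists_linear_dual (A₁ ⊔ A₂)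
    (fun x y => (le_sup_left : A₁ ≤ A₁ ⊔ A₂) (hY.comm₁ x y))
  rw [hY.index₁] at hΛ₁c
  rw [hY.index₂] at hΛ₂c
  have hm3 : 3 * Λ₃.card ≤ m := by
    rw [hΛ₃c]
    exact index_sup_le hb.cent.oddW hY.index₁ hY.index₂ hA
  have hΛ123 : Λ₁ ∩ Λ₂ = Λ₃ := by
    ext l
    rw [Finset.mem_inter, hΛ₁, hΛ₂, hΛ₃]
    constructor
    · rintro ⟨h1, h2⟩
      have h3 : A₁ ⊔ A₂ ≤ l.ker := sup_le (fun y hy => h1 y hy) (fun y hy => h2 y hy)
      exact fun y hy => h3 hy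
    · intro h1
      exact ⟨fun y hy => h1 y ((le_sup_left : A₁ ≤ A₁ ⊔ A₂) hy),
        fun y hy => h1 y ((le_sup_right : A₂ ≤ A₁ ⊔ A₂) hy)⟩
  set Δ : Finset (W →* ℂˣ) := (Λ₁ \ Λ₂) ∪ (Λ₂ \ Λ₁) with hΔ
  set Λ₀ : Finset (W →* ℂˣ) := Λ₃.erase 1 with hΛ₀
  have h1Λ₁ : (1 : W →* ℂˣ) ∈ Λ₁ := (hΛ₁ 1).2 fun _ _ => rfl
  have h1Λ₂ : (1 : W →* ℂˣ) ∈ Λ₂ := (hΛ₂ 1).2 fun _ _ => rfl
  have h1Λ₃ : (1 : W →* ℂˣ) ∈ Λ₃ := (hΛ₃ 1).2 fun _ _ => rfl
  have hdisj : Disjoint Λ₀ Δ := by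
    rw [Finset.disjoint_left]
    intro l hl hl'
    rw [hΛ₀, Finset.mem_erase, ← hΛ123, Finset.mem_inter] at hl
    rw [hΔ, Finset.mem_union, Finset.mem_sdiff, Finset.mem_sdiff] at hl'
    tauto
  have hΔc : (Δ.card : ℤ) = 2 * (m - Λ₃.card) := by
    have e1 : Disjoint (Λ₁ \ Λ₂) (Λ₂ \ Λ₁) := by
      rw [Finset.disjoint_left]
      intro l hl hl'
      rw [Finset.mem_sdiff] at hl hl'
      exact hl.2 hl'.1
    have e2 := Finset.card_sdiff_add_card_inter Λ₁ Λ₂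
    have e3 := Finset.card_sdiff_add_card_inter Λ₂ Λ₁
    rw [Finset.inter_comm] at e3
    rw [hΛ123] at e2 e3
    rw [hΔ, Finset.card_union_of_disjoint e1]
    push_cast
    omega
  have hΛ₀c : (Λ₀.card : ℤ) = Λ₃.card - 1 := by
    rw [hΛ₀, Finset.card_erase_of_mem h1Λ₃, Nat.cast_sub, Nat.cast_one]
    exact Finset.card_pos.2 ⟨_, h1Λ₃⟩
  have hregΛ : ∀ l, l ∈ Λ₁ ∪ Λ₂ → l ≠ 1 → conjL α l ≠ l := by
    intro l hl h1
    rw [Finset.mem_union] at hl
    rcases hl with h2 | h2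
    · exact hY.reg₁ l ((hΛ₁ l).1 h2) h1
    · exact hY.reg₂ l ((hΛ₂ l).1 h2) h1
  have hreg : ∀ l ∈ Λ₀ ∪ Δ, l ≠ 1 ∧ conjL α l ≠ l := by
    intro l hl
    rw [Finset.mem_union] at hl
    rcases hl with h1 | h1
    · rw [hΛ₀, Finset.mem_erase, ← hΛ123, Finset.mem_inter] at h1
      exact ⟨h1.1, hregΛ l (Finset.mem_union_left _ h1.2.1) h1.1⟩
    · rw [hΔ, Finset.mem_union, Finset.mem_sdiff, Finset.mem_sdiff] at h1
      have h2 : l ≠ 1 := by
        rintro rfl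
        rcases h1 with h1 | h1
        · exact h1.2 h1Λ₂
        · exact h1.2 h1Λ₁
      refine ⟨h2, hregΛ l (Finset.mem_union.2 ?_) h2⟩
      rcases h1 with h1 | h1
      · exact Or.inl h1.1
      · exact Or.inr h1.1
  have hSep : ∀ l ∈ Δ, Sep A₁ A₂ l := by
    intro l hl
    rw [hΔ, Finset.mem_union, Finset.mem_sdiff, Finset.mem_sdiff, hΛ₁, hΛ₂] at hl
    exact hl
  -- the sums of squares
  set S : IrrCharacter C → ℤ := fun ψ => ∑ l ∈ Λ₀, (a ψ l) ^ 2 with hS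
  set D : IrrCharacter C → ℤ := fun ψ => ∑ l ∈ Δ, (a ψ l) ^ 2 with hD
  have hSD2 : ∀ ψ, S ψ + D ψ ≤ 2 := by
    intro ψ
    rw [hS, hD]
    show ∑ l ∈ Λ₀, (a ψ l) ^ 2 + ∑ l ∈ Δ, (a ψ l) ^ 2 ≤ 2
    rw [← Finset.sum_union hdisj]
    exact ha2 ψ _
  have hS0 : ∀ ψ, 0 ≤ S ψ := fun ψ => Finset.sum_nonneg fun _ _ => sq_nonneg _
  have hD0 : ∀ ψ, 0 ≤ D ψ := fun ψ => Finset.sum_nonneg fun _ _ => sq_nonneg _
  have hne : ∀ (ψ : IrrCharacter C) (Λ : Finset (W →* ℂˣ)), ∑ l ∈ Λ, (a ψ l) ^ 2 ≠ 0 →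
      ∃ l ∈ Λ, a ψ l ≠ 0 := by
    intro ψ Λ h1
    by_contra hcon
    push Not at hcon
    refine h1 (Finset.sum_eq_zero fun l hl => ?_)
    rw [hcon l hl]
    norm_num
  have hcoef : ∀ ψ : IrrCharacter C, ∀ l : W →* ℂˣ, a ψ l ≠ 0 →
      coef (fun y : W => u * e y) (fun y => (l y : ℂ)) (ψ : C → ℂ) ≠ 0 := by
    intro ψ l h1
    rw [ha]
    exact_mod_cast h1
  set P : Finset (IrrCharacter C) :=
    Finset.univ.filter (fun ψ : IrrCharacter C => (ψ : C → ℂ) t = (ψ : C → ℂ) 1) with hP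
  have hSDd : ∀ ψ ∈ P, n ψ ≠ 0 → ((q : ℤ) + ε) * (2 * S ψ + 5 * D ψ) ≤ 4 * d ψ := by
    intro ψ hψP hn0
    have hψt : (ψ : C → ℂ) t = (ψ : C → ℂ) 1 := (Finset.mem_filter.1 hψP).2
    have e1 := hSD2 ψ
    have e2 := hS0 ψ
    have e3 := hD0 ψ
    by_cases h1 : D ψ = 0
    · rw [h1, mul_zero, add_zero]
      by_cases h2 : S ψ = 0
      · rw [h2, mul_zero, mul_zero]
        positivity
      · obtain ⟨l, hl, hal⟩ := hne ψ Λ₀ h2
        obtain ⟨h3, -⟩ := degree_le hb ψ.2 l (hreg l (Finset.mem_union_left _ hl)).2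
          (hcoef ψ l hal) (hd ψ)
        nlinarith
    · obtain ⟨l, hl, hal⟩ := hne ψ Δ h1
      rcases minimal_or h hmodd h2m ψ.2 hψt l (hreg l (Finset.mem_union_right _ hl)).2
        (hcoef ψ l hal) (hd ψ) with h3 | h3
      · exact absurd h3 (hno ψ hn0 hψt l (hSep l hl) (hcoef ψ l hal))
      · nlinarith
  have hSsp : ∀ ψ ∈ Sp, S ψ = 0 ∧ D ψ = 0 := by
    intro ψ hψ
    have key : ∀ l ∈ Λ₀ ∪ Δ, a ψ l = 0 := by
      intro l hl
      by_contra hal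
      obtain ⟨hl1, hl2⟩ := hreg l hl
      have h2 : a ψ 1 ≠ 0 := by
        intro h3
        refine (hSp ψ hψ).2 ?_
        have h4 := ha ψ 1
        rw [h3, Int.cast_zero] at h4
        rw [← h4]
        congr 2
      have h3 : a ψ (conjL α l) ≠ 0 := by
        intro h4
        have h5 := ha ψ (conjL α l)
        rw [coef_conj hb (Core.isIrr_isClassFunction ψ.2) (hτ ψ) (hτ' ψ), h4, Int.cast_zero] at h5
        rcases mul_eq_zero.1 h5 with h6 | h6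
        · rcases hτ ψ with h7 | h7 <;> rw [h7] at h6 <;> norm_num at h6
        · exact hcoef ψ l hal h6
      have h4 := ha2 ψ {1, l, conjL α l}
      rw [Finset.sum_insert, Finset.sum_insert, Finset.sum_singleton] at h4
      · have e1 : 1 ≤ (a ψ 1) ^ 2 := by
          have := sq_pos_of_ne_zero h2
          omega
        have e2 : 1 ≤ (a ψ l) ^ 2 := by
          have := sq_pos_of_ne_zero hal
          omega
        have e3 : 1 ≤ (a ψ (conjL α l)) ^ 2 := by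
          have := sq_pos_of_ne_zero h3
          omega
        omega
      · rw [Finset.mem_singleton]
        exact Ne.symm hl2
      · rw [Finset.mem_insert, Finset.mem_singleton, not_or]
        exact ⟨Ne.symm hl1, Ne.symm (conjL_ne_one hl1)⟩
    constructor
    · exact Finset.sum_eq_zero fun l hl => by rw [key l (Finset.mem_union_left _ hl)]; norm_num
    · exact Finset.sum_eq_zero fun l hl => by rw [key l (Finset.mem_union_right _ hl)]; norm_num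
  -- the coefficients of the `t = 1` part
  have hplus : ∀ l ∈ Λ₀ ∪ Δ, ∑ ψ ∈ P, (n ψ : ℤ) * a ψ l =
      σ * ε * ((if l ∈ Λ₁ then 1 else 0) + (if l ∈ Λ₂ then 1 else 0)) := by
    intro l hl
    have hl1 := (hreg l hl).1
    -- `Y` at `u y` and `t u y`
    have h1 : coef (fun y : W => u * e y) (fun y => (l y : ℂ)) Y =
        ∑ ψ : IrrCharacter C, (n ψ : ℂ) * a ψ l := by
      rw [hn, map_sum]
      refine Finset.sum_congr rfl fun ψ _ => ?_
      rw [map_nsmul, ha, nsmul_eq_mul]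
    have h2 : coef (fun y : W => t * (u * e y)) (fun y => (l y : ℂ)) Y =
        ∑ ψ : IrrCharacter C, τ ψ * ((n ψ : ℂ) * a ψ l) := by
      rw [hn, map_sum]
      refine Finset.sum_congr rfl fun ψ _ => ?_
      rw [map_nsmul, nsmul_eq_mul]
      have h3 : coef (fun y : W => t * (u * e y)) (fun y => (l y : ℂ)) (ψ : C → ℂ) =
          τ ψ * coef (fun y : W => u * e y) (fun y => (l y : ℂ)) (ψ : C → ℂ) := by
        rw [coef_apply, coef_apply, ← Core.classInner_smul_left]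
        congr 1
        funext y
        rw [hτ']
        rfl
      rw [h3, ha]
      ring
    have h3 : ∀ (A : Subgroup W) (hAN : A.Normal) (Λ' : Finset (W →* ℂˣ))
        (_ : ∀ l, l ∈ Λ' ↔ ∀ y ∈ A, l y = 1) (_ : A.index = m) (f : W → C)
        (_ : ∀ y ∈ A, Y (f y) = σ * (c + 1 + 2 * ε * m)) (_ : ∀ y ∉ A, Y (f y) = σ * (c + 1)),
        coef f (fun y => (l y : ℂ)) Y = ((σ * (2 * ε) * (if l ∈ Λ' then 1 else 0) : ℤ) : ℂ) := by
      intro A hAN Λ' hΛ' hAm f hf hf'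
      have h4 : (fun y => Y (f y)) = ((σ : ℂ) * (c + 1)) • (fun y : W => (((1 : W →* ℂˣ) y : ℂˣ) : ℂ)) +
          ((σ : ℂ) * (2 * ε)) • (fun y : W => if y ∈ A then (m : ℂ) else 0) := by
        funext y
        by_cases hy : y ∈ A
        · rw [hf y hy, Pi.add_apply, Pi.smul_apply, Pi.smul_apply, if_pos hy]
          simp only [MonoidHom.one_apply, Units.val_one, smul_eq_mul]
          ring
        · rw [hf' y hy, Pi.add_apply, Pi.smul_apply, Pi.smul_apply, if_neg hy]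
          simp only [MonoidHom.one_apply, Units.val_one, smul_eq_mul]
          ring
      have h5 : (fun y : W => (((1 : W →* ℂˣ) y : ℂˣ) : ℂ)) ≠ fun y => (l y : ℂ) := by
        intro h6
        refine hl1 ?_
        ext y
        exact (congrFun h6 y).symm
      rw [coef_apply, h4, Core.classInner_add_left, Core.classInner_smul_left,
        Core.classInner_smul_left, Core.classInner_irr_ne (Linear.isIrrCharacter_hom _)
          (Linear.isIrrCharacter_hom l) h5, classInner_indicator A hAm l, mul_zero, zero_add]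
      by_cases h6 : l ∈ Λ'
      · rw [if_pos ((hΛ' l).1 h6), if_pos h6]
        push_cast
        ring
      · rw [if_neg (fun h7 => h6 ((hΛ' l).2 h7)), if_neg h6]
        push_cast
        ring
    have h4 := h3 A₁ hA₁ Λ₁ hΛ₁ hY.index₁ (fun y => u * e y) hY.val₁ hY.val₁'
    have h5 := h3 A₂ hA₂ Λ₂ hΛ₂ hY.index₂ (fun y => t * (u * e y)) hY.val₂ hY.val₂'
    rw [h4] at h1
    rw [h5] at h2
    have h6 : ((2 * ∑ ψ ∈ P, (n ψ : ℤ) * a ψ l : ℤ) : ℂ) =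
        ∑ ψ : IrrCharacter C, (n ψ : ℂ) * a ψ l +
          ∑ ψ : IrrCharacter C, τ ψ * ((n ψ : ℂ) * a ψ l) := by
      rw [← Finset.sum_add_distrib, hP, Finset.sum_filter]
      push_cast
      rw [Finset.mul_sum]
      refine Finset.sum_congr rfl fun ψ _ => ?_
      by_cases h7 : (ψ : C → ℂ) t = (ψ : C → ℂ) 1
      · rw [if_pos h7, (hτ1 ψ).1 h7]
        ring
      · rw [if_neg h7]
        have h8 : τ ψ = -1 := (hτ ψ).resolve_left (fun h9 => h7 ((hτ1 ψ).2 h9))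
        rw [h8]
        ring
    rw [← h1, ← h2] at h6
    have h7 : 2 * ∑ ψ ∈ P, (n ψ : ℤ) * a ψ l = σ * (2 * ε) * (if l ∈ Λ₁ then 1 else 0) +
        σ * (2 * ε) * (if l ∈ Λ₂ then 1 else 0) := by
      exact_mod_cast h6
    linarith
  have habs : ∀ l ∈ Λ₀ ∪ Δ, ((if l ∈ Λ₁ then 1 else 0) + (if l ∈ Λ₂ then 1 else 0) : ℤ) ≤
      ∑ ψ ∈ P, (n ψ : ℤ) * (a ψ l) ^ 2 := by
    intro l hl
    have h3 := hplus l hl
    have h4 : |∑ ψ ∈ P, (n ψ : ℤ) * a ψ l| =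
        (if l ∈ Λ₁ then 1 else 0) + (if l ∈ Λ₂ then 1 else 0) := by
      rw [h3]
      have h5 : |σ * ε| = 1 := by
        rcases hY.sig with h6 | h6 <;> rcases hb.eps with h7 | h7 <;> rw [h6, h7] <;> norm_num
      rw [abs_mul, h5, one_mul, abs_of_nonneg]
      split_ifs <;> norm_num
    rw [← h4]
    refine (Finset.abs_sum_le_sum_abs _ _).trans (Finset.sum_le_sum fun ψ _ => ?_)
    rw [abs_mul, Nat.abs_cast]
    refine mul_le_mul_of_nonneg_left ?_ (by positivity)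
    rw [← sq_abs]
    rcases eq_or_ne (a ψ l) 0 with h5 | h5
    · rw [h5]
      norm_num
    · have h6 : 1 ≤ |a ψ l| := Int.one_le_abs h5
      nlinarith
  -- the totals
  have htotS : 2 * ((Λ₃.card : ℤ) - 1) ≤ ∑ ψ ∈ P, (n ψ : ℤ) * S ψ := by
    have h2 : ∑ ψ ∈ P, (n ψ : ℤ) * S ψ = ∑ l ∈ Λ₀, ∑ ψ ∈ P, (n ψ : ℤ) * (a ψ l) ^ 2 := by
      rw [Finset.sum_comm]
      refine Finset.sum_congr rfl fun ψ _ => ?_
      rw [hS, Finset.mul_sum]
    rw [h2]
    have h3 : ∑ l ∈ Λ₀, (2 : ℤ) = 2 * ((Λ₃.card : ℤ) - 1) := by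
      rw [Finset.sum_const, nsmul_eq_mul, hΛ₀c]
      ring
    rw [← h3]
    refine Finset.sum_le_sum fun l hl => ?_
    have h4 := habs l (Finset.mem_union_left _ hl)
    rw [hΛ₀, Finset.mem_erase, ← hΛ123, Finset.mem_inter] at hl
    rw [if_pos hl.2.1, if_pos hl.2.2] at h4
    linarith
  have htotD : 2 * ((m : ℤ) - Λ₃.card) ≤ ∑ ψ ∈ P, (n ψ : ℤ) * D ψ := by
    have h2 : ∑ ψ ∈ P, (n ψ : ℤ) * D ψ = ∑ l ∈ Δ, ∑ ψ ∈ P, (n ψ : ℤ) * (a ψ l) ^ 2 := by
      rw [Finset.sum_comm]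
      refine Finset.sum_congr rfl fun ψ _ => ?_
      rw [hD, Finset.mul_sum]
    rw [h2]
    have h3 : ∑ l ∈ Δ, (1 : ℤ) = 2 * ((m : ℤ) - Λ₃.card) := by
      rw [Finset.sum_const, nsmul_eq_mul, hΔc, mul_one]
    rw [← h3]
    refine Finset.sum_le_sum fun l hl => ?_
    have h4 := habs l (Finset.mem_union_right _ hl)
    rw [hΔ, Finset.mem_union, Finset.mem_sdiff, Finset.mem_sdiff] at hl
    refine le_trans ?_ h4
    rcases hl with hl | hl
    · rw [if_pos hl.1, if_neg hl.2]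
      norm_num
    · rw [if_neg hl.2, if_pos hl.1]
      norm_num
  have hSpP : Sp ⊆ P := by
    intro φ hφ
    rw [hP, Finset.mem_filter]
    exact ⟨Finset.mem_univ _, (hSp φ hφ).1⟩
  -- splitting off the special characters
  have hsplit : ∑ ψ ∈ P, (n ψ : ℤ) * d ψ = ∑ ψ ∈ P \ Sp, (n ψ : ℤ) * d ψ +
      ∑ ψ ∈ Sp, (n ψ : ℤ) * d ψ := (Finset.sum_sdiff hSpP).symm
  have hsplitS : ∑ ψ ∈ P, (n ψ : ℤ) * S ψ = ∑ ψ ∈ P \ Sp, (n ψ : ℤ) * S ψ := by
    rw [← Finset.sum_sdiff hSpP, Finset.sum_eq_zero (s := Sp), add_zero]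
    intro ψ hψ
    rw [(hSsp ψ hψ).1, mul_zero]
  have hsplitD : ∑ ψ ∈ P, (n ψ : ℤ) * D ψ = ∑ ψ ∈ P \ Sp, (n ψ : ℤ) * D ψ := by
    rw [← Finset.sum_sdiff hSpP, Finset.sum_eq_zero (s := Sp), add_zero]
    intro ψ hψ
    rw [(hSsp ψ hψ).2, mul_zero]
  rw [hsplitS] at htotS
  rw [hsplitD] at htotD
  have hle : ∀ ψ ∈ P \ Sp, ((q : ℤ) + ε) * (2 * ((n ψ : ℤ) * S ψ) + 5 * ((n ψ : ℤ) * D ψ)) ≤
      4 * ((n ψ : ℤ) * d ψ) := by
    intro ψ hψ
    by_cases hn0 : n ψ = 0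
    · rw [hn0]
      norm_num
    · have h1 := mul_le_mul_of_nonneg_left (hSDd ψ (Finset.mem_sdiff.1 hψ).1 hn0)
        (by positivity : (0 : ℤ) ≤ n ψ)
      calc ((q : ℤ) + ε) * (2 * ((n ψ : ℤ) * S ψ) + 5 * ((n ψ : ℤ) * D ψ)) =
            n ψ * ((q + ε) * (2 * S ψ + 5 * D ψ)) := by ring
        _ ≤ n ψ * (4 * d ψ) := h1
        _ = 4 * ((n ψ : ℤ) * d ψ) := by ring
  have hsum := Finset.sum_le_sum hle
  rw [← Finset.mul_sum, ← Finset.mul_sum, Finset.sum_add_distrib, ← Finset.mul_sum,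
    ← Finset.mul_sum] at hsum
  have hm3' : 3 * (Λ₃.card : ℤ) ≤ m := by exact_mod_cast hm3
  have hfin : 4 * (2 * (m : ℤ) - 1) ≤
      2 * ∑ ψ ∈ P \ Sp, (n ψ : ℤ) * S ψ + 5 * ∑ ψ ∈ P \ Sp, (n ψ : ℤ) * D ψ := by
    linarith
  have hfin' := mul_le_mul_of_nonneg_left hfin hpos.le
  rw [hsplit]
  nlinarith

/-- **The selection of a minimal character.** -/
theorem select [Fintype C] [hN : K.Normal] (h : SelHyp q ε K L B K₁ X T e α t u w) {Y : C → ℂ}
    {σ c : ℤ} {m : ℕ} {A₁ A₂ : Subgroup W} (hY : Vals q ε e α t u Y σ c m A₁ A₂) (hA : A₁ ≠ A₂)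
    (hc : c = 0 ∨ c = 1) {φ₁ φs φSt φsSt : C → ℂ} (i1 : IsIrrCharacter C φ₁)
    (is : IsIrrCharacter C φs) (iSt : IsIrrCharacter C φSt) (isSt : IsIrrCharacter C φsSt)
    (hne1 : φs ≠ φ₁) (hne2 : φsSt ≠ φSt)
    (s1 : Special e t u φ₁) (ss : Special e t u φs) (sSt : Special e t u φSt)
    (ssSt : Special e t u φsSt) (d1 : φ₁ 1 = 1) (ds : φs 1 = 1) (dSt : φSt 1 = q)
    (dsSt : φsSt 1 = q) {n1 ns nSt nsSt nρ nρ' : ℕ} (e1 : classInner Y φ₁ = n1)
    (es : classInner Y φs = ns) (eSt : classInner Y φSt = nSt) (esSt : classInner Y φsSt = nsSt)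
    (R1 : σ * ((n1 : ℤ) + ε * nSt - ε * nρ) = c + 1 + ε)
    (R2 : σ * ((ns : ℤ) + ε * nsSt - ε * nρ) = -ε)
    (R3 : σ * ((n1 : ℤ) - ε * nSt + ε * nρ') = c - 1) {N : ℕ} (hN1 : Y 1 = N)
    (hlt : (N : ℤ) - σ * (c + ε * q) < 2 * ((q : ℤ) ^ 2 - 1)) :
    ∃ (ψ : C → ℂ) (l : W →* ℂˣ), IsIrrCharacter C ψ ∧ ψ t = ψ 1 ∧ classInner Y ψ ≠ 0 ∧
      Sep A₁ A₂ l ∧ coef (fun y : W => u * e y) (fun y => (l y : ℂ)) ψ ≠ 0 ∧
      ψ 1 = (((q : ℤ) + ε : ℤ) : ℂ) := by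
  classical
  by_contra hcon
  have hb := h.lb
  have := Core.finite_irr (G := C)
  let _ : Fintype (IrrCharacter C) := Fintype.ofFinite _
  have hq := hb.big.frob.q_ge
  obtain ⟨n, hn⟩ := Core.exists_nat_comb hY.char
  choose d hd0 hd using fun ψ : IrrCharacter C => Core.isIrr_apply_one ψ.2
  have hq1 : (q : ℂ) ≠ 1 := by
    intro h1
    have h2 : q = 1 := by exact_mod_cast h1
    omega
  have hne3 : φ₁ ≠ φSt := fun h1 => hq1 (by rw [← dSt, ← h1, d1])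
  have hne4 : φ₁ ≠ φsSt := fun h1 => hq1 (by rw [← dsSt, ← h1, d1])
  have hne5 : φs ≠ φSt := fun h1 => hq1 (by rw [← dSt, ← h1, ds])
  have hne6 : φs ≠ φsSt := fun h1 => hq1 (by rw [← dsSt, ← h1, ds])
  -- the special characters
  set Sp : Finset (IrrCharacter C) := {⟨φ₁, i1⟩, ⟨φs, is⟩, ⟨φSt, iSt⟩, ⟨φsSt, isSt⟩} with hSpdef
  have hmem : ∀ ψ : IrrCharacter C, ψ ∈ Sp ↔ ((ψ : C → ℂ) = φ₁ ∨ (ψ : C → ℂ) = φs ∨
      (ψ : C → ℂ) = φSt ∨ (ψ : C → ℂ) = φsSt) := by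
    intro ψ
    rw [hSpdef]
    simp only [Finset.mem_insert, Finset.mem_singleton, Subtype.ext_iff]
  have hSp : ∀ φ ∈ Sp, Special e t u φ := by
    intro φ hφ
    rcases (hmem φ).1 hφ with h1 | h1 | h1 | h1 <;> rw [h1] <;> assumption
  have hcoefn : ∀ ψ : IrrCharacter C, classInner Y (ψ : C → ℂ) = n ψ := by
    intro ψ
    rw [hn, Core.classInner_sum_nsmul_irr]
  have hSpsum : ∑ φ ∈ Sp, (n φ : ℤ) * d φ = n1 + ns + q * (nSt + nsSt) := by
    rw [hSpdef, Finset.sum_insert, Finset.sum_insert, Finset.sum_insert, Finset.sum_singleton]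
    · have a1 : n ⟨φ₁, i1⟩ = n1 := by
        have := hcoefn ⟨φ₁, i1⟩
        rw [e1] at this
        exact_mod_cast this.symm
      have a2 : n ⟨φs, is⟩ = ns := by
        have := hcoefn ⟨φs, is⟩
        rw [es] at this
        exact_mod_cast this.symm
      have a3 : n ⟨φSt, iSt⟩ = nSt := by
        have := hcoefn ⟨φSt, iSt⟩
        rw [eSt] at this
        exact_mod_cast this.symm
      have a4 : n ⟨φsSt, isSt⟩ = nsSt := by
        have := hcoefn ⟨φsSt, isSt⟩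
        rw [esSt] at this
        exact_mod_cast this.symm
      have b1 : d ⟨φ₁, i1⟩ = 1 := by
        have : φ₁ 1 = d ⟨φ₁, i1⟩ := hd ⟨φ₁, i1⟩
        rw [d1] at this
        exact_mod_cast this.symm
      have b2 : d ⟨φs, is⟩ = 1 := by
        have : φs 1 = d ⟨φs, is⟩ := hd ⟨φs, is⟩
        rw [ds] at this
        exact_mod_cast this.symm
      have b3 : d ⟨φSt, iSt⟩ = q := by
        have : φSt 1 = d ⟨φSt, iSt⟩ := hd ⟨φSt, iSt⟩
        rw [dSt] at this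
        exact_mod_cast this.symm
      have b4 : d ⟨φsSt, isSt⟩ = q := by
        have : φsSt 1 = d ⟨φsSt, isSt⟩ := hd ⟨φsSt, isSt⟩
        rw [dsSt] at this
        exact_mod_cast this.symm
      rw [a1, a2, a3, a4, b1, b2, b3, b4]
      push_cast
      ring
    · simp only [Finset.mem_singleton, Subtype.ext_iff]
      exact Ne.symm hne2
    · simp only [Finset.mem_insert, Finset.mem_singleton, Subtype.ext_iff, not_or]
      exact ⟨hne5, hne6⟩
    · simp only [Finset.mem_insert, Finset.mem_singleton, Subtype.ext_iff, not_or]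
      exact ⟨Ne.symm hne1, hne3, hne4⟩
  have hle := plus_sep h hY hA n d hn hd Sp hSp (fun ψ hn0 hψt l hl hco hdeg => by
    refine hcon ⟨ψ, l, ψ.2, hψt, ?_, hl, hco, ?_⟩
    · rw [hcoefn]
      exact Nat.cast_ne_zero.2 hn0
    · rw [← hdeg, hd, Int.cast_natCast])
  set P : ℤ := ∑ ψ ∈ Finset.univ.filter
    (fun ψ : IrrCharacter C => (ψ : C → ℂ) t = (ψ : C → ℂ) 1), (n ψ : ℤ) * d ψ with hP
  -- `Y(1) + Y(t) = 2 P`
  have hYt : (N : ℤ) + σ * (c + ε * q) = 2 * P := by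
    have h1 : (((N : ℤ) + σ * (c + ε * q) : ℤ) : ℂ) = ((2 * P : ℤ) : ℂ) := by
      have h2 : (((N : ℤ) + σ * (c + ε * q) : ℤ) : ℂ) = Y 1 + Y t := by
        rw [hN1, hY.val_t]
        push_cast
        ring
      rw [h2, hn, Finset.sum_apply, Finset.sum_apply, ← Finset.sum_add_distrib, hP,
        Finset.sum_filter]
      push_cast
      rw [Finset.mul_sum]
      refine Finset.sum_congr rfl fun ψ _ => ?_
      rw [Pi.smul_apply, Pi.smul_apply, nsmul_eq_mul, nsmul_eq_mul]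
      obtain ⟨τ, hτ, hτ'⟩ := central_sign hb.big.tt hb.big.t_comm ψ.2
      have h3 : (ψ : C → ℂ) t = τ * (ψ : C → ℂ) 1 := by
        have := hτ' 1
        rwa [mul_one] at this
      by_cases h4 : (ψ : C → ℂ) t = (ψ : C → ℂ) 1
      · rw [if_pos h4, h4, hd]
        ring
      · rw [if_neg h4]
        have h5 : τ = -1 := by
          refine hτ.resolve_left fun h6 => h4 ?_
          rw [h3, h6, one_mul]
        rw [h3, h5]
        ring
    exact_mod_cast h1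
  have har := arith (q := q) (by omega) hb.eps hY.sig hc R1 R2 R3
  rw [hSpsum] at hle
  have hm := hY.two_m
  have hmq : 2 * (((q : ℤ) + ε) * m) = (q : ℤ) ^ 2 - 1 := by
    have h1 : ε ^ 2 = 1 := by rcases hb.eps with h2 | h2 <;> rw [h2] <;> norm_num
    calc 2 * (((q : ℤ) + ε) * m) = (q + ε) * (2 * m) := by ring
      _ = (q + ε) * (q - ε) := by rw [hm]
      _ = (q : ℤ) ^ 2 - ε ^ 2 := by ring
      _ = _ := by rw [h1]
  nlinarith

end Cfsg.Agent.Classification.QDW.Select
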