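import Mathlib
import Cfsg.Agent.Classification.QDW.Select
import Cfsg.Agent.Classification.QDW.InstMain
import Cfsg.Agent.Classification.QDW.LineTorusG

/-!
# The instance of `SelHyp`

`selHyp`: the hypotheses `SelHyp` for the centralizer of an involution. `select`: the selection of a
minimal character for a character of `Γ` with the given values. `selectG`: the same for plus or
minus an irreducible character of `G`.
-/

set_option autoImplicit false
set_option linter.unusedSectionVars false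

namespace Cfsg.Agent.Classification.QDW.SelectInst

open Cfsg Cfsg.Agent.Characters Cfsg.Agent.Classification.InvCent
open Cfsg.Agent.Classification.QDW.InstC Cfsg.Agent.Classification.QDW.InstGamma
open Cfsg.Agent.Classification.QDW.InstLB Cfsg.Agent.Classification.QDW.InstG
open Cfsg.Agent.Classification.QDW.InstMain
open Cfsg.Agent.Classification.QDW.RelH Cfsg.Agent.Classification.QDW.DegBound
open Cfsg.Agent.Classification.QDW.LowerBound Cfsg.Agent.Classification.QDW.Coef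
open Cfsg.Agent.Classification.QDW.LineC Cfsg.Agent.Classification.QDW.SelectDeg
open Cfsg.Agent.Classification.QDW.Select
open Cfsg.Agent.Classification.RTwo
open Cfsg.Agent.Classification.BGOrder Cfsg.Agent.Classification.BGSplit
  Cfsg.Agent.Classification.BGBlockB0
open scoped ComplexConjugate

universe u v

section Gamma

variable {C : Type*} [Group C] [Finite C] {z : C} {q : ℕ} {ε : ℤ} {Z T T' U : Subgroup C}
  {s s' u₀ : C} {b : C →* ℂˣ} {Γ : Type u} [Group Γ] [Finite Γ] {π : Γ →* C} {t u w : Γ}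

/-- A 2-element of the kernel is trivial. -/
theorem eq_one_of_ker (hG : GHyp π z u₀ s t u w) {x : Γ} (hx : π x = 1) {k : ℕ}
    (hk : x ^ 2 ^ k = 1) : x = 1 := by
  have h1 : x ∈ π.ker := hx
  have h2 : orderOf x ∣ 2 ^ k := orderOf_dvd_of_pow_eq_one hk
  have h3 : orderOf x ∣ Nat.card π.ker := by
    rw [← Subgroup.orderOf_mk (H := π.ker) x h1]
    exact orderOf_dvd_natCard _
  have h4 : (2 ^ k).Coprime (Nat.card π.ker) :=
    Nat.Coprime.pow_left _ (Nat.coprime_two_left.2 hG.oddK)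
  exact orderOf_eq_one_iff.1 (Nat.eq_one_of_dvd_coprimes h4 h2 h3)

/-- A 2-element above `1` or `z`. -/
theorem eq_of_map_Z (hD : CData z q ε Z T T' U s s' u₀ b) (hG : GHyp π z u₀ s t u w) {x : Γ}
    (hx : π x ∈ Z) {k : ℕ} (hk : x ^ 2 ^ k = 1) : x = 1 ∨ x = t := by
  rcases hD.mem_Z.1 hx with h1 | h1
  · exact Or.inl (eq_one_of_ker hG h1 hk)
  · right
    have h2 : (t * x) ^ 2 ^ (k + 1) = 1 := by
      rw [(hG.t_comm x).mul_pow, pow_succ, mul_comm (2 ^ k) 2, pow_mul t, pow_two, hG.tt, one_pow,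
        one_mul, mul_comm 2 (2 ^ k), pow_mul x, hk, one_pow]
    have h3 : π (t * x) = 1 := by
      rw [map_mul, h1, hG.map_t, ← hG.map_t, ← map_mul, hG.tt, map_one]
    have h4 := eq_one_of_ker hG h3 h2
    have h5 : x = t⁻¹ := eq_inv_of_mul_eq_one_right h4
    rw [h5]
    exact inv_eq_of_mul_eq_one_left hG.tt

theorem sq_one_of (hG : GHyp π z u₀ s t u w) {x : Γ} (hx : π x * π x = 1) {k : ℕ}
    (hk : x ^ 2 ^ k = 1) : x * x = 1 := by
  refine eq_one_of_ker hG (x := x * x) (by rw [map_mul, hx]) (k := k) ?_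
  rw [(Commute.refl x).mul_pow, hk, one_mul]

/-- The 2-elements of `Γ`. -/
theorem two_elements (hD : CData z q ε Z T T' U s s' u₀ b) (hG : GHyp π z u₀ s t u w) {x : Γ}
    (hx : ∃ k : ℕ, x ^ 2 ^ k = 1) : x = 1 ∨ x = t ∨ (∃ g, g * x * g⁻¹ = u) ∨
      ∃ g, π (g * x * g⁻¹) ∈ T' ∧ π (g * x * g⁻¹) ∉ Z := by
  obtain ⟨k, hk⟩ := hx
  have h := hD.chyp
  have hzz : z * z = 1 := by rw [← hG.map_t, ← map_mul, hG.tt, map_one]
  have huu₀ : u₀ * u₀ = 1 := by rw [← hG.map_u, ← map_mul, hG.uu, map_one]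
  obtain ⟨g₀, hg₀⟩ := h.exhaust (π x)
  obtain ⟨g, rfl⟩ := hG.surj g₀
  have hπ : π (g * x * g⁻¹) = π g * π x * (π g)⁻¹ := by rw [map_mul, map_mul, map_inv]
  rw [← hπ] at hg₀
  have hky : (g * x * g⁻¹) ^ 2 ^ k = 1 := by
    rw [conj_pow, hk]
    group
  -- the case that the image is in `Z`
  have key : π (g * x * g⁻¹) ∈ Z → x = 1 ∨ x = t := by
    intro h1
    rcases eq_of_map_Z hD hG h1 hky with h2 | h2
    · left
      calc x = g⁻¹ * (g * x * g⁻¹) * g := by group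
        _ = 1 := by rw [h2]; group
    · right
      calc x = g⁻¹ * (g * x * g⁻¹) * g := by group
        _ = g⁻¹ * t * g := by rw [h2]
        _ = t := by rw [(hG.t_comm g⁻¹).symm.eq]; group
  have key' : π (g * x * g⁻¹) ∈ Z → x = 1 ∨ x = t ∨ (∃ g, g * x * g⁻¹ = u) ∨
      ∃ g, π (g * x * g⁻¹) ∈ T' ∧ π (g * x * g⁻¹) ∉ Z := by
    intro h1
    rcases key h1 with h2 | h2
    · exact Or.inl h2
    · exact Or.inr (Or.inl h2)
  have key2 : ∀ y : Γ, y * y = 1 → π y = u₀ → ∃ k, k * y * k⁻¹ = u := by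
    intro y hy hyu
    obtain ⟨k, -, hk⟩ := exists_conj_of_map hG.oddK hy hG.uu (by rw [hyu, hG.map_u])
    exact ⟨k, hk⟩
  rcases hg₀ with h1 | h1 | ⟨ζ, hζ, v, hv, h1⟩
  · obtain ⟨v, y, hv, hy, hyo, he⟩ := hD.decomp h1
    have hvT : v ∈ T := by
      rcases hv with rfl | rfl | rfl | rfl
      · exact one_mem T
      · exact h.Z_le_T h.t_mem
      · exact h.u_mem
      · exact mul_mem (h.Z_le_T h.t_mem) h.u_mem
    have hvv : v * v = 1 := by
      rcases hv with rfl | rfl | rfl | rfl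
      · exact one_mul 1
      · exact hzz
      · exact huu₀
      · calc z * u₀ * (z * u₀) = z * (u₀ * z) * u₀ := by group
          _ = (z * z) * (u₀ * u₀) := by rw [h.Z_central z h.t_mem u₀]; group
          _ = 1 := by rw [hzz, huu₀, one_mul]
    have hvy : Commute v y := h.T_comm _ hvT _ hy
    have hy1 : y = 1 := by
      have h2 : (v * y) ^ 2 ^ (k + 1) = 1 := by
        rw [← he, ← map_pow, pow_succ, pow_mul, hky, one_pow, map_one]
      rw [hvy.mul_pow, pow_succ, mul_comm (2 ^ k) 2, pow_mul v, pow_two, hvv, one_pow, one_mul]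
        at h2
      have h3 : orderOf y ∣ 2 * 2 ^ k := orderOf_dvd_of_pow_eq_one h2
      have h4 : (2 * 2 ^ k).Coprime (orderOf y) := by
        rw [← pow_succ']
        exact Nat.Coprime.pow_left _ (Nat.coprime_two_left.2 hyo)
      exact orderOf_eq_one_iff.1 (Nat.eq_one_of_dvd_coprimes h4 h3 dvd_rfl)
    rw [hy1, mul_one] at he
    rcases hv with rfl | rfl | rfl | rfl
    · exact key' (by rw [he]; exact one_mem Z)
    · exact key' (by rw [he]; exact h.t_mem)
    · have h2 := sq_one_of hG (x := g * x * g⁻¹) (by rw [he, hvv]) hky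
      obtain ⟨k', hk'⟩ := key2 _ h2 he
      refine Or.inr (Or.inr (Or.inl ⟨k' * g, ?_⟩))
      rw [← hk']
      group
    · have h2 := sq_one_of hG (x := g * x * g⁻¹) (by rw [he, hvv]) hky
      have h3 : t * (g * x * g⁻¹) * (t * (g * x * g⁻¹)) = 1 := by
        calc t * (g * x * g⁻¹) * (t * (g * x * g⁻¹)) =
            t * ((g * x * g⁻¹) * t) * (g * x * g⁻¹) := by group
          _ = (t * t) * ((g * x * g⁻¹) * (g * x * g⁻¹)) := by
            rw [(hG.t_comm (g * x * g⁻¹)).symm.eq]; group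
          _ = 1 := by rw [hG.tt, h2, one_mul]
      obtain ⟨k', hk'⟩ := key2 _ h3 (by
        rw [map_mul, he, hG.map_t, ← mul_assoc, hzz, one_mul])
      have h4 : k' * (g * x * g⁻¹) * k'⁻¹ = t * u := by
        calc k' * (g * x * g⁻¹) * k'⁻¹ = (t * t) * (k' * (g * x * g⁻¹) * k'⁻¹) := by
              rw [hG.tt, one_mul]
          _ = t * (t * k') * (g * x * g⁻¹) * k'⁻¹ := by group
          _ = t * (k' * t) * (g * x * g⁻¹) * k'⁻¹ := by rw [(hG.t_comm k').eq]
          _ = t * (k' * (t * (g * x * g⁻¹)) * k'⁻¹) := by group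
          _ = t * u := by rw [hk']
      refine Or.inr (Or.inr (Or.inl ⟨w⁻¹ * k' * g, ?_⟩))
      calc w⁻¹ * k' * g * x * (w⁻¹ * k' * g)⁻¹ = w⁻¹ * (k' * (g * x * g⁻¹) * k'⁻¹) * w := by group
        _ = w⁻¹ * (w * u * w⁻¹) * w := by rw [h4, hG.wu]
        _ = u := by group
  · by_cases h2 : π (g * x * g⁻¹) ∈ Z
    · exact key' h2
    · exact Or.inr (Or.inr (Or.inr ⟨g, h1, h2⟩))
  · refine key' ?_
    have hζζ : ζ * ζ = 1 := by
      rcases hD.mem_Z.1 hζ with rfl | rfl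
      · exact one_mul 1
      · exact hzz
    have hζv : Commute ζ v := (h.Z_central ζ hζ v).symm
    have h2 : (ζ * v) ^ 2 ^ (k + 1) = 1 := by
      rw [← h1, ← map_pow, pow_succ, pow_mul, hky, one_pow, map_one]
    rw [hζv.mul_pow, pow_succ, mul_comm (2 ^ k) 2, pow_mul ζ, pow_two, hζζ, one_pow, one_mul]
      at h2
    have h3 : orderOf v ∣ 2 * 2 ^ k := orderOf_dvd_of_pow_eq_one h2
    have h5 : orderOf v ∣ q := orderOf_dvd_of_pow_eq_one (h.base.pow_card_U hv)
    have h4 : (2 * 2 ^ k).Coprime q := by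
      rw [← pow_succ']
      exact Nat.Coprime.pow_left _ (Nat.coprime_two_left.2 h.odd_q)
    have h6 : v = 1 := orderOf_eq_one_iff.1 (Nat.eq_one_of_dvd_coprimes h4 h3 h5)
    rw [h1, h6, mul_one]
    exact hζ

/-- The instance of `SelHyp`, explicit form. -/
theorem selHyp_of (hD : CData z q ε Z T T' U s s' u₀ b) (hG : GHyp π z u₀ s t u w) (hq : 5 ≤ q)
    {T₁ : Subgroup C} {s₁ : C} (hs : Split q Z T₁ U s₁) (hT₁ : ε = 1 → T₁ = T)
    (hT₁' : ε = -1 → T₁ = T') :
    SelHyp q ε π.ker (b.comp π).ker (Bg U π) (inB U π Z) (inB U π hD.chyp.base.ZU) (inB U π T₁)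
      (Wg hD.chyp π u).subtype (aW hG hD.chyp) t u w := by
  have h := hD.chyp
  have hb := h.base
  refine ⟨lbHyp_of hD hG hq hs hT₁, ?_, ?_, ?_, ?_, ?_, ?_⟩
  · show ((N U).comap π).index = q + 1
    rw [Subgroup.index_comap_of_surjective _ hG.surj, index_N hb hs.torus hs.norm]
  · intro hε H hK ht hu hW hH
    subst hε
    have hq7 : 6 ≤ q := by
      obtain ⟨m, hm, h2⟩ := hD.exists_m
      obtain ⟨k, hk⟩ := hm
      by_contra hcon
      have h3 : q = 5 := by omega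
      rw [h3] at h2
      omega
    rcases LineTorusG.index_pos hD hG hq hK ht hu hW hH with h1 | h1 | h1
    · right
      refine ⟨1, fun x => ?_⟩
      rw [h1, one_mul, inv_one, mul_one]
    · right
      refine ⟨w⁻¹, fun x => ?_⟩
      rw [h1, inv_inv, Subgroup.mem_comap, Subgroup.mem_comap, MulAction.mem_stabilizer_iff]
      have h2 : π x • zer U s = zer U s ↔ (s⁻¹ * π x * s) ∈ N U := by
        change ((π x * s : C) : C ⧸ N U) = ((s : C) : C ⧸ N U) ↔ _
        rw [QuotientGroup.eq, ← inv_mem_iff]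
        have e1 : ((π x * s)⁻¹ * s)⁻¹ = s⁻¹ * π x * s := by group
        rw [e1]
      rw [h2, map_mul, map_mul, map_inv, hG.map_w]
    · left
      nlinarith
  · intro hε H hK ht hu hW hH
    subst hε
    exact LineTorusG.index_neg hD hG hq hK ht hu hW hH
  · intro hε y g hgB
    subst hε
    let _ : Fintype C := Fintype.ofFinite _
    let _ : Fintype Γ := Fintype.ofFinite _
    obtain ⟨h1, h2⟩ := not_mem_Z hD hG y
    have h3 : (π g)⁻¹ * π (u * y) * π g ∈ N U := by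
      have : π (g⁻¹ * (u * (y : Γ)) * g) ∈ N U := hgB
      rwa [map_mul, map_mul, map_inv] at this
    have htor := h.torus
    have h4 := htor.conj_notMem_ZU hb h1 h2 (π g)
    obtain ⟨v, hv, hvT⟩ := exists_conj_T₁ hb hs.torus hs.norm h3 h4
    refine htor.conj_notMem_torus hs.torus (by norm_num) hb.Z_central h1 h2 (π g * v) ?_
    have h5 : (π g * v)⁻¹ * π (u * y) * (π g * v) = v⁻¹ * ((π g)⁻¹ * π (u * y) * π g) * v := by
      group
    rw [h5]
    exact hvT
  · intro hε x hx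
    have hT := hT₁' hε
    subst hT
    rcases two_elements hD hG hx with h1 | h1 | h1 | ⟨g, h1, h2⟩
    · exact Or.inl h1
    · exact Or.inr (Or.inl h1)
    · exact Or.inr (Or.inr (Or.inl h1))
    · exact Or.inr (Or.inr (Or.inr ⟨g, T₁_le_N hb hs.torus hs.norm h1, h1, h2⟩))
  · intro _
    obtain ⟨l, hl, τ, hτ, he⟩ := exists_of_normal hb hs.torus hs.norm hD.three_le
      (L := b.ker) inferInstance (fun x hx => hD.det.b_U x hx) u₀
    obtain ⟨x, rfl⟩ := hG.surj τ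
    refine ⟨⟨x, T₁_le_N hb hs.torus hs.norm hτ⟩, hτ, ?_⟩
    intro h1
    have h2 : b (π x) = 1 := h1
    have h3 := hD.b_u_ne
    rw [he, map_mul, MonoidHom.mem_ker.1 hl, h2, one_mul] at h3
    exact h3 rfl

/-- **The instance of `SelHyp`.** -/
theorem selHyp (hD : CData z q ε Z T T' U s s' u₀ b) (hG : GHyp π z u₀ s t u w) (hq : 5 ≤ q) :
    ∃ (B : Subgroup Γ) (K₁ X T₁ : Subgroup B), SelHyp q ε π.ker (b.comp π).ker B K₁ X T₁
      (Wg hD.chyp π u).subtype (aW hG hD.chyp) t u w := by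
  rcases hD.chyp.eps with hε | hε
  · subst hε
    exact ⟨_, _, _, _, selHyp_of hD hG hq (T₁ := T) (s₁ := s)
      ⟨hD.chyp.torus, hD.norm₁ rfl, gen_split hD.chyp.base hD.chyp.torus (hD.norm₁ rfl)⟩
      (fun _ => rfl) (fun h2 => by norm_num at h2)⟩
  · subst hε
    have h' : Torus q 1 Z T' s' := by
      have := hD.chyp.torus'
      rwa [neg_neg] at this
    exact ⟨_, _, _, _, selHyp_of hD hG hq (T₁ := T') (s₁ := s')
      ⟨h', hD.norm₂ rfl, gen_split hD.chyp.base h' (hD.norm₂ rfl)⟩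
      (fun h2 => by norm_num at h2) (fun _ => rfl)⟩

end Gamma

section Main

variable {C : Type*} [Group C] [Fintype C] {z : C} {q : ℕ} {ε : ℤ} {Z T T' U : Subgroup C}
  {s s' u₀ : C} {b : C →* ℂˣ} {μ : U →* ℂˣ} {Γ : Type u} [Group Γ] [Fintype Γ] {π : Γ →* C}
  {t u w : Γ}

/-- **The selection of a minimal character**, `Γ`. -/
theorem select (hD : CData z q ε Z T T' U s s' u₀ b) (hG : GHyp π z u₀ s t u w) (hq : 5 ≤ q)
    (hμ : ∃ v : U, μ v ≠ 1) {Y : Γ → ℂ} {σ c : ℤ} {m : ℕ} [Fintype (Wg hD.chyp π u)]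
    {A₁ A₂ : Subgroup (Wg hD.chyp π u)}
    (hY : Vals q ε (Wg hD.chyp π u).subtype (aW hG hD.chyp) t u Y σ c m A₁ A₂) (hA : A₁ ≠ A₂)
    (hv : ∀ y, z ∈ Subgroup.zpowers (π y) → Y y = σ * (c + ε * St hD.chyp μ (π y)))
    (hc : c = 0 ∨ c = 1) {N : ℕ} (hN : Y 1 = N)
    (hlt : (N : ℤ) - σ * (c + ε * q) < 2 * ((q : ℤ) ^ 2 - 1)) :
    ∃ (ψ : Γ → ℂ) (l : Wg hD.chyp π u →* ℂˣ), IsIrrCharacter Γ ψ ∧ ψ t = ψ 1 ∧
      classInner Y ψ ≠ 0 ∧ Sep A₁ A₂ l ∧
      coef (fun y : Wg hD.chyp π u => u * (y : Γ)) (fun y => (l y : ℂ)) ψ ≠ 0 ∧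
      ψ 1 = (((q : ℤ) + ε : ℤ) : ℂ) := by
  obtain ⟨B, K₁, X, T₁, hS⟩ := selHyp hD hG hq
  obtain ⟨n1, ns, nSt, nsSt, nρ, nρ', I⟩ := exists_inputs hD hG hμ hY.char hY.sig hv
    (average (f := fun y : Wg hD.chyp π u => Y (u * y)) hY.index₁ hY.val₁ hY.val₁')
  exact Select.select hS hY hA hc I.i1 I.is I.iSt I.isSt I.hne1 I.hne2 I.s1 I.ss I.sSt I.ssSt
    I.d1 I.ds I.dSt I.dsSt I.e1 I.es I.eSt I.esSt I.R1 I.R2 I.R3 hN hlt

end Main

section Group

variable {G : Type u} [Group G] [Finite G] {C : Type v} [Group C] [Fintype C] {z : C} {q : ℕ}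
  {ε : ℤ} {Z T T' U : Subgroup C} {s s' u₀ : C} {b : C →* ℂˣ} {μ : U →* ℂˣ} {t : G}
  {π : (Subgroup.centralizer ({t} : Set G)) →* C} {u w : Subgroup.centralizer ({t} : Set G)}
  {g : G}

/-- **The selection of a minimal character**, `C(t)`. -/
theorem selectG (H : General.Hyp t z π) (hD : CData z q ε Z T T' U s s' u₀ b) (hq : 5 ≤ q)
    (hμ : ∃ v : U, μ v ≠ 1) (hG : GHyp π z u₀ s (General.tt t) u w) (hs : Swap t u g)
    {X : G → ℂ} {σ c : ℤ} (hX : DVal hD.chyp μ π X σ c) (hσ : σ = 1 ∨ σ = -1)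
    (hc : c = 0 ∨ c = 1)
    (hXc : IsCharacter (Subgroup.centralizer ({t} : Set G)) (fun y => X y))
    {N : ℕ} (hN : X 1 = N) (hlt : (N : ℤ) - σ * (c + ε * q) < 2 * ((q : ℤ) ^ 2 - 1))
    (hA : A1 hD hG hs ≠ A2 hD hG hs) [Fintype (Wg hD.chyp π u)] :
    ∃ (ψ : Subgroup.centralizer ({t} : Set G) → ℂ) (l : Wg hD.chyp π u →* ℂˣ),
      IsIrrCharacter (Subgroup.centralizer ({t} : Set G)) ψ ∧ ψ (General.tt t) = ψ 1 ∧
      Sep (A1 hD hG hs) (A2 hD hG hs) l ∧
      coef (fun y : Wg hD.chyp π u => u * (y : Subgroup.centralizer ({t} : Set G)))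
        (fun y => (l y : ℂ)) ψ ≠ 0 ∧
      ψ 1 = (((q : ℤ) + ε : ℤ) : ℂ) := by
  classical
  let _ : Fintype G := Fintype.ofFinite _
  obtain ⟨m, -, hm⟩ := hD.exists_m
  have hvals := vals H hD hG hs hX hσ hXc hm
  obtain ⟨ψ, l, h1, h2, -, h3, h4, h5⟩ := select hD hG hq hμ hvals hA hX.val hc (N := N) hN hlt
  exact ⟨ψ, l, h1, h2, h3, h4, h5⟩

end Group

end Cfsg.Agent.Classification.QDW.SelectInst
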