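import Mathlib
import Cfsg.Agent.Classification.QDW.FrameLB
import Cfsg.Agent.Classification.InvCent.GPair
import Cfsg.Agent.Classification.QDW.NumBridge

/-!
# The number of conjugates of `u` in `C(t)`

`card_conj`: `κ q (q + ε)`. `eq_cube`: the degree formula for three characters of degree `q + ε`
gives `f = (ε q)³`.
-/

set_option autoImplicit false
set_option linter.unusedSectionVars false

namespace Cfsg.Agent.Classification.QDW.TypeDNum

open Subgroup Cfsg
open Cfsg.Agent.Walter.Cover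
open Cfsg.Agent.Characters Cfsg.Agent.Classification.InvCent
open Cfsg.Agent.Classification.InvCent.GPair (kap card_over)
open Cfsg.Agent.Classification.QDW.InstC Cfsg.Agent.Classification.QDW.InstGamma
open Cfsg.Agent.Classification.QDW.InstG Cfsg.Agent.Classification.QDW.Theta
open Cfsg.Agent.Classification.RTwo

universe u v

section Q

variable {Q : Type v} [Group Q] [Fintype Q] {z : Q} {q : ℕ} {ε : ℤ} {Z T T' U : Subgroup Q}
  {s s' u₀ : Q} {b : Q →* ℂˣ}

theorem centralizer_u (hD : CData z q ε Z T T' U s s' u₀ b) :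
    Subgroup.centralizer ({u₀} : Set Q) = T := by
  have h := hD.chyp
  ext x
  rw [Subgroup.mem_centralizer_singleton_iff]
  constructor
  · intro hx
    refine h.cent_T u₀ h.u_mem (fun h2 => ?_) x hx
    rcases hD.mem_Z.1 h2 with h3 | h3
    · have := h.orderOf_u
      rw [h3, orderOf_one] at this
      omega
    · exact h.u_ne h3
  · intro hx
    exact h.T_comm _ hx _ h.u_mem

theorem isConj_iff_inv (hD : CData z q ε Z T T' U s s' u₀ b) (c : Q) :
    IsConj u₀ c ↔ orderOf c = 2 ∧ c ≠ z := by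
  have h := hD.chyp
  constructor
  · intro h1
    obtain ⟨d, rfl⟩ := isConj_iff.1 h1
    refine ⟨by rw [FusionCore.orderOf_conj, h.orderOf_u], fun h2 => h.u_ne ?_⟩
    have h3 : d * z = z * d := h.Z_central z h.t_mem d
    calc u₀ = d⁻¹ * (d * u₀ * d⁻¹) * d := by group
      _ = d⁻¹ * (z * d) := by rw [h2]; group
      _ = z := by rw [← h3]; group
  · rintro ⟨h1, h2⟩
    rcases FusionCore.eq_or_conj h h1 with h3 | ⟨d, hd⟩
    · exact absurd h3 h2
    · exact (isConj_iff.2 ⟨d, hd⟩).symm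

/-- The number of conjugates of `u₀`. -/
theorem card_class (hD : CData z q ε Z T T' U s s' u₀ b) :
    (Nat.card {c : Q // IsConj u₀ c} : ℤ) = q * (q + ε) := by
  classical
  have h := hD.chyp
  have h1 : Nat.card {c : Q // IsConj u₀ c} * Nat.card (Subgroup.centralizer ({u₀} : Set Q)) =
      Nat.card Q := by
    have h2 : Nat.card (MulAction.orbit (ConjAct Q) u₀) *
        Nat.card (MulAction.stabilizer (ConjAct Q) u₀) = Nat.card (ConjAct Q) := by
      rw [← Nat.card_prod]
      exact Nat.card_congr (MulAction.orbitProdStabilizerEquivGroup (ConjAct Q) u₀)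
    have h3 : Nat.card (MulAction.stabilizer (ConjAct Q) u₀) =
        Nat.card (Subgroup.centralizer ({u₀} : Set Q)) := by
      refine Nat.card_congr ⟨fun x => ⟨ConjAct.ofConjAct (x : ConjAct Q), ?_⟩,
        fun x => ⟨ConjAct.toConjAct (x : Q), ?_⟩, fun _ => rfl, fun _ => rfl⟩
      · have h5 : ConjAct.ofConjAct (x : ConjAct Q) * u₀ * (ConjAct.ofConjAct (x : ConjAct Q))⁻¹ =
          u₀ := x.2
        rw [Subgroup.mem_centralizer_singleton_iff]
        exact mul_inv_eq_iff_eq_mul.1 h5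
      · have h5 := Subgroup.mem_centralizer_singleton_iff.1 x.2
        show (x : Q) * u₀ * (x : Q)⁻¹ = u₀
        rw [h5]; group
    have h4 : Nat.card (MulAction.orbit (ConjAct Q) u₀) = Nat.card {c : Q // IsConj u₀ c} := by
      refine Nat.card_congr (Equiv.subtypeEquivRight fun c => ?_)
      rw [ConjAct.mem_orbit_conjAct]
      exact ⟨fun h5 => h5.symm, fun h5 => h5.symm⟩
    rw [h3, h4] at h2
    exact h2
  rw [centralizer_u hD] at h1
  have h2 := h.card_T
  have h3 := h.card_C
  rw [hD.card_Z] at h2 h3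
  have h4 : (Nat.card {c : Q // IsConj u₀ c} : ℤ) * (2 * (q - ε)) = 2 * (q * ((q : ℤ) ^ 2 - 1)) := by
    have h5 : ((Nat.card {c : Q // IsConj u₀ c} * Nat.card T : ℕ) : ℤ) = (Nat.card Q : ℤ) := by
      rw [h1]
    push_cast at h5 h2
    rw [h2] at h5
    rw [h5, h3]
    have h6 : 1 ≤ q ^ 2 := Nat.one_le_pow _ _ (by have := h.one_lt_q; omega)
    push_cast [Nat.cast_sub h6]
    ring
  have h5 : (2 : ℤ) * (q - ε) ≠ 0 := by
    have := h.one_lt_q
    rcases h.eps with h6 | h6 <;> omega
  apply mul_right_cancel₀ h5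
  rw [h4]
  have h6 : ε * ε = 1 := by rcases h.eps with h6 | h6 <;> rw [h6] <;> norm_num
  linear_combination (2 * (q : ℤ)) * h6

end Q

section G

variable {G : Type u} [Group G] [Finite G] {Q : Type v} [Group Q] [Fintype Q] {z : Q} {q : ℕ}
  {ε : ℤ} {Z T T' U : Subgroup Q} {s s' u₀ : Q} {b : Q →* ℂˣ} {t : G} {π : C t →* Q}

/-- The conjugates of `u` in `C(t)` are the involutions over the conjugates of `u₀`. -/
theorem isConj_iff_map (H : General.Hyp t z π) (hD : CData z q ε Z T T' U s s' u₀ b) {u : C t}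
    (huu : u * u = 1) (hu : π u = u₀) (x : C t) :
    IsConj u x ↔ orderOf x = 2 ∧ IsConj u₀ (π x) := by
  have h := hD.chyp
  have hou : orderOf u = 2 := by
    refine orderOf_eq_prime (by rw [sq, huu]) fun h1 => ?_
    have := h.orderOf_u
    rw [← hu, h1, map_one, orderOf_one] at this
    omega
  constructor
  · intro h1
    obtain ⟨d, rfl⟩ := isConj_iff.1 h1
    refine ⟨by rw [FusionCore.orderOf_conj, hou], isConj_iff.2 ⟨π d, ?_⟩⟩
    rw [map_mul, map_mul, map_inv, hu]
  · rintro ⟨h1, h2⟩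
    obtain ⟨d, hd⟩ := isConj_iff.1 h2
    obtain ⟨d', rfl⟩ := H.surj d
    have hxx : x * x = 1 := by
      have := pow_orderOf_eq_one x
      rwa [h1, sq] at this
    obtain ⟨k, -, hk⟩ := exists_conj_of_map H.odd_ker (x := d' * u * d'⁻¹) (y := x)
      (by
        calc d' * u * d'⁻¹ * (d' * u * d'⁻¹) = d' * (u * u) * d'⁻¹ := by group
          _ = 1 := by rw [huu]; group) hxx
      (by rw [map_mul, map_mul, map_inv, hu, hd])
    refine isConj_iff.2 ⟨k * d', ?_⟩
    rw [← hk]; group

/-- **The number of conjugates of `u` in `C(t)`.** -/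
theorem card_conj (H : General.Hyp t z π) (hD : CData z q ε Z T T' U s s' u₀ b) {u : C t}
    (huu : u * u = 1) (hu : π u = u₀) :
    (Nat.card {x : C t // IsConj u x} : ℤ) = kap π u₀ * (q * (q + ε)) := by
  classical
  rw [← card_class hD]
  have h1 : Nat.card {x : C t // IsConj u x} =
      Nat.card (Σ c : {c : Q // IsConj u₀ c}, {x : C t // orderOf x = 2 ∧ π x = c}) := by
    refine Nat.card_congr
      ⟨fun x => ⟨⟨π x, ((isConj_iff_map H hD huu hu x).1 x.2).2⟩,
        ⟨x, ((isConj_iff_map H hD huu hu x).1 x.2).1, rfl⟩⟩,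
       fun x => ⟨x.2.1, (isConj_iff_map H hD huu hu x.2.1).2 ⟨x.2.2.1, by
         rw [x.2.2.2]; exact x.1.2⟩⟩, ?_, ?_⟩
    · intro x; rfl
    · rintro ⟨⟨c, hc⟩, ⟨x, hx, hxc⟩⟩
      have hxc' : π x = c := hxc
      subst hxc'
      rfl
  have h2 : ∀ c : {c : Q // IsConj u₀ c},
      Nat.card {x : C t // orderOf x = 2 ∧ π x = c} = kap π u₀ := by
    intro c
    exact card_over H hD.chyp (mem_nInv.2 ((isConj_iff_inv hD c).1 c.2))
  rw [h1, Nat.card_sigma]
  rw [Finset.sum_congr rfl (fun c _ => h2 c), Finset.sum_const, Finset.card_univ, smul_eq_mul,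
    Nat.card_eq_fintype_card]
  push_cast
  ring

open Cfsg.Agent.Classification.QDW.NumBridge in
/-- **The degree formula for three characters of degree `q + ε` gives `f = (ε q)³`.** -/
theorem eq_cube {n κ f x : ℤ} (hN : Num q ε n κ f x) (hpp : IsPrimePow q) {a J : ℤ}
    (hκ : κ ≠ 0) (hJ : J = κ * (q * (q + ε)))
    (hf : a * J ^ 2 = n * (q + ε) ^ 3) : f = (ε * q) ^ 3 := by
  refine hN.eq_cube hpp (a := a) ?_
  have hq3 : (3 : ℤ) ≤ q := by exact_mod_cast hN.q_ge
  have hqe : (q : ℤ) + ε ≠ 0 := by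
    rcases hN.eps with h | h <;> rw [h] <;> omega
  -- `a κ² q² = n (q + ε)`
  have h1 : a * κ ^ 2 * (q : ℤ) ^ 2 = n * (q + ε) := by
    apply mul_right_cancel₀ (pow_ne_zero 2 hqe)
    rw [hJ] at hf
    linear_combination hf
  have hA := hN.eqA
  apply mul_left_cancel₀ (pow_ne_zero 2 hκ)
  linear_combination (f - ε * q) ^ 2 * h1 + (q + ε) * hA

end G

end Cfsg.Agent.Classification.QDW.TypeDNum
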