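import Mathlib
import Cfsg.Agent.Classification.QDW.InstTypeD

/-!
# Characters of degree `q + ε` of `C` with given coefficient on the torus

`exists_rho`: for every linear character `l ≠ 1` of the odd part of `T` there is `ψ ∈ Irr(C)` of
degree `q + ε` such that `y ↦ ψ(u₀ y)` is not orthogonal to `l`.
`exists_rho_pull`: the same for `Γ → C` and the linear characters of `W` trivial on the kernel.
-/

set_option autoImplicit false
set_option linter.unusedSectionVars false

namespace Cfsg.Agent.Classification.QDW.TypeDRho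

open Cfsg Cfsg.Agent.Characters Cfsg.Agent.Classification.InvCent
open Cfsg.Agent.Classification.QDW.InstC Cfsg.Agent.Classification.QDW.InstGamma
open Cfsg.Agent.Classification.QDW.InstLB Cfsg.Agent.Classification.QDW.InstG
open Cfsg.Agent.Classification.QDW.RelH Cfsg.Agent.Classification.QDW.Coef
open scoped ComplexConjugate

universe u v

section Gen

/-- Orthogonality of the linear characters. -/
theorem classInner_hom_ne {M : Type*} [Group M] [Fintype M] {l l' : M →* ℂˣ} (h : l ≠ l') :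
    classInner (fun s => (l s : ℂ)) (fun s => (l' s : ℂ)) = 0 := by
  rw [Core.classInner_irr (Linear.isIrrCharacter_hom l) (Linear.isIrrCharacter_hom l')]
  rw [if_neg]
  intro h1
  apply h
  ext s
  exact congrFun h1 s

theorem classInner_hom_self {M : Type*} [Group M] [Fintype M] (l : M →* ℂˣ) :
    classInner (fun s => (l s : ℂ)) (fun s => (l s : ℂ)) = 1 :=
  Core.classInner_irr_self (Linear.isIrrCharacter_hom l)

/-- Inner products along a surjective homomorphism. -/
theorem classInner_comp_surj {M N : Type*} [Group M] [Fintype M] [Group N] [Fintype N]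
    (p : M →* N) (hp : Function.Surjective p) (f g : N → ℂ) :
    classInner (fun x => f (p x)) (fun x => g (p x)) = classInner f g := by
  classical
  rw [Core.classInner_def, Core.classInner_def]
  have hfib : ∀ y : N, (Finset.univ.filter (fun x : M => p x = y)).card = Nat.card p.ker := by
    intro y
    obtain ⟨x₀, rfl⟩ := hp y
    rw [← Fintype.card_subtype, ← Nat.card_eq_fintype_card]
    refine Nat.card_congr ⟨fun x => ⟨x₀⁻¹ * x, ?_⟩, fun k => ⟨x₀ * k, ?_⟩, ?_, ?_⟩
    · rw [MonoidHom.mem_ker, map_mul, map_inv, x.2, inv_mul_cancel]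
    · rw [map_mul, MonoidHom.mem_ker.1 k.2, mul_one]
    · intro x
      exact Subtype.ext (mul_inv_cancel_left _ _)
    · intro k
      exact Subtype.ext (inv_mul_cancel_left _ _)
  have h1 : ∑ x : M, f (p x) * conj (g (p x)) =
      Nat.card p.ker * ∑ y : N, f y * conj (g y) := by
    rw [← Finset.sum_fiberwise Finset.univ p, Finset.mul_sum]
    refine Finset.sum_congr rfl fun y _ => ?_
    rw [Finset.sum_congr rfl (g := fun _ => f y * conj (g y)) (fun x hx => by
      rw [(Finset.mem_filter.1 hx).2]), Finset.sum_const, hfib, nsmul_eq_mul]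
  rw [h1]
  have h2 : (Nat.card M : ℂ) = Nat.card p.ker * Nat.card N := by
    have h3 := p.ker.card_mul_index
    rw [Subgroup.index_ker, MonoidHom.range_eq_top.2 hp, Subgroup.card_top] at h3
    exact_mod_cast h3.symm
  have h4 : (Nat.card p.ker : ℂ) ≠ 0 := Core.card_ne_zero_complex
  have h5 : (Nat.card N : ℂ) ≠ 0 := Core.card_ne_zero_complex
  rw [h2]
  field_simp

end Gen

section C

variable {C : Type v} [Group C] [Fintype C] {z : C} {q : ℕ}
  {ε : ℤ} {Z T T' U : Subgroup C} {s s' u₀ : C} {b : C →* ℂˣ} {μ : U →* ℂˣ}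

/-- The projection of `T` onto its odd part. -/
noncomputable def oddProj (hD : CData z q ε Z T T' U s s' u₀ b) :
    T →* Wg hD.chyp (MonoidHom.id C) u₀ where
  toFun x := ⟨(x : C) ^ ((hD.chyp.exists_M hD.det).choose + 1), by
    obtain ⟨hM, hpow⟩ := (hD.chyp.exists_M hD.det).choose_spec
    set M := (hD.chyp.exists_M hD.det).choose with hMd
    refine ⟨pow_mem x.2 _, ?_, ?_⟩
    · have hM' := hM
      obtain ⟨k, hk⟩ := hM'
      refine hM.of_dvd_nat (orderOf_dvd_of_pow_eq_one ?_)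
      show ((x : C) ^ (M + 1)) ^ M = 1
      rw [← pow_mul, show (M + 1) * M = (2 * M) * (k + 1) by rw [hk]; ring, pow_mul, hpow x x.2,
        one_pow]
    · exact hD.chyp.T_comm _ hD.chyp.u_mem _ (pow_mem x.2 _)⟩
  map_one' := Subtype.ext (one_pow _)
  map_mul' x y := Subtype.ext (by
    show ((x * y : T) : C) ^ _ = (x : C) ^ _ * (y : C) ^ _
    rw [Subgroup.coe_mul]
    exact (show Commute (x : C) y from hD.chyp.T_comm _ x.2 _ y.2).mul_pow _)

theorem oddProj_odd (hD : CData z q ε Z T T' U s s' u₀ b) {x : T} (hx : Odd (orderOf (x : C))) :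
    ((oddProj hD x : Wg hD.chyp (MonoidHom.id C) u₀) : C) = x := by
  obtain ⟨hM, hpow⟩ := (hD.chyp.exists_M hD.det).choose_spec
  have h1 : orderOf (x : C) ∣ (hD.chyp.exists_M hD.det).choose := by
    have h2 : orderOf (x : C) ∣ 2 * (hD.chyp.exists_M hD.det).choose :=
      orderOf_dvd_of_pow_eq_one (hpow x x.2)
    exact (Nat.Coprime.dvd_of_dvd_mul_left (Nat.coprime_two_right.2 hx) h2)
  show (x : C) ^ ((hD.chyp.exists_M hD.det).choose + 1) = x
  rw [pow_succ, orderOf_dvd_iff_pow_eq_one.1 h1, one_mul]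

theorem oddProj_sq (hD : CData z q ε Z T T' U s s' u₀ b) {x : T} (hx : (x : C) * x = 1) :
    oddProj hD x = 1 := by
  obtain ⟨⟨k, hk⟩, hpow⟩ := (hD.chyp.exists_M hD.det).choose_spec
  apply Subtype.ext
  show (x : C) ^ ((hD.chyp.exists_M hD.det).choose + 1) = 1
  rw [hk, show 2 * k + 1 + 1 = 2 * (k + 1) by ring, pow_mul, sq, hx, one_pow]

/-- **The character of degree `q + ε`.** -/
theorem exists_rho (hD : CData z q ε Z T T' U s s' u₀ b) (hμ : ∃ v : U, μ v ≠ 1)
    [Fintype (Wg hD.chyp (MonoidHom.id C) u₀)]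
    (l : Wg hD.chyp (MonoidHom.id C) u₀ →* ℂˣ) (hl : l ≠ 1) :
    ∃ ψ : C → ℂ, IsIrrCharacter C ψ ∧ ψ 1 = (((q : ℤ) + ε : ℤ) : ℂ) ∧
      classInner (fun y : Wg hD.chyp (MonoidHom.id C) u₀ => ψ (u₀ * y)) (fun y => (l y : ℂ)) ≠ 0 := by
  classical
  have h := hD.chyp
  have hG := ghyp_id h
  set χ : T →* ℂˣ := l.comp (oddProj hD) with hχ
  have hWT : ∀ y : Wg hD.chyp (MonoidHom.id C) u₀, (y : C) ∈ T := fun y => y.2.1
  have hχW : ∀ y : Wg hD.chyp (MonoidHom.id C) u₀, χ ⟨y, hWT y⟩ = l y := by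
    intro y
    show l (oddProj hD ⟨y, hWT y⟩) = l y
    congr 1
    exact Subtype.ext (oddProj_odd hD y.2.2.1)
  -- the conjugate of `l`
  set l' : Wg hD.chyp (MonoidHom.id C) u₀ →* ℂˣ := l.comp (aW hG h).toMonoidHom with hl'
  have hne : l' ≠ l := by
    intro h1
    exact hl (InstTypeD.lin_id hD l fun y => DFunLike.congr_fun h1 y)
  have hscW : ∀ y : Wg hD.chyp (MonoidHom.id C) u₀, χ ⟨s * y * s⁻¹, h.torus.s_conj y (hWT y)⟩ = l' y := by
    intro y
    exact hχW (aW hG h y)
  have hsc : χ * (h.torus.sc χ)⁻¹ ≠ 1 := by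
    intro h1
    apply hne
    ext y
    have h2 := DFunLike.congr_fun h1 ⟨y, hWT y⟩
    rw [MonoidHom.mul_apply, MonoidHom.inv_apply, MonoidHom.one_apply, mul_inv_eq_one] at h2
    have h3 : h.torus.sc χ ⟨y, hWT y⟩ = l' y := hscW y
    rw [← h3, ← h2, hχW]
  have hself : classInner (rho h μ χ) (rho h μ χ) = 1 := by
    unfold rho
    rw [classInner_sign (eps_sq h), h.torus.classInner_R_R h.base hμ]
    have e1 : ssum T (fun x => lin χ x * conj (lin χ x + lin χ (s * x * s⁻¹))) =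
        ssum T (fun x => 1 + lin (χ * (h.torus.sc χ)⁻¹) x) := by
      refine ssum_congr fun x hx => ?_
      have h1 : lin χ x * conj (lin χ x) = 1 := by
        rw [conj_lin, lin_apply _ hx, lin_apply _ hx, ← Units.val_mul,
          MonoidHom.inv_apply, mul_inv_cancel, Units.val_one]
      rw [lin_mul_hom, map_add, ← h.torus.lin_sc χ hx, conj_lin (h.torus.sc χ),
        mul_add, h1]
    rw [e1, ssum_add, ssum_lin hsc, ssum_const, mul_one, add_zero]
    exact inv_mul_cancel₀ Core.card_ne_zero_complex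
  have hirr : IsIrrCharacter C (rho h μ χ) := by
    refine isIrr_of_pos (isGeneralized_smul_sign h.eps
      (h.torus.isGeneralized_R h.base (isGeneralized_lin χ))) hself (d := q + ε) ?_ ?_
    · have := h.one_lt_q
      rcases h.eps with h1 | h1 <;> omega
    · show rho h μ χ 1 = _
      rw [rho_one]
      push_cast
      ring
  refine ⟨rho h μ χ, hirr, by rw [rho_one]; push_cast; ring, ?_⟩
  -- the values
  have hu2 : u₀ * u₀ = 1 := hG.uu
  have hval : ∀ y : Wg hD.chyp (MonoidHom.id C) u₀, rho h μ χ (u₀ * y) = ε * ((l y : ℂ) + (l' y : ℂ)) := by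
    intro y
    have huy : u₀ * (y : C) ∈ T := mul_mem h.u_mem (hWT y)
    have huyZ : u₀ * (y : C) ∉ Z := by
      intro h1
      have hc : Commute u₀ (y : C) := h.T_comm _ h.u_mem _ (hWT y)
      have h2 := hG.four h hu2 y.2 hc
      have h3 : u₀ ∈ Z := by
        rw [← h2]
        exact pow_mem h1 _
      rcases hD.mem_Z.1 h3 with h4 | h4
      · have := h.orderOf_u
        rw [h4, orderOf_one] at this
        omega
      · exact h.u_ne h4
    unfold rho
    rw [h.torus.R_T h.base _ huy huyZ]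
    have e1 : lin χ (u₀ * (y : C)) = (l y : ℂ) := by
      rw [lin_apply χ huy]
      congr 1
      have e2 : (⟨u₀ * (y : C), huy⟩ : T) = ⟨u₀, h.u_mem⟩ * ⟨y, hWT y⟩ := rfl
      rw [e2, map_mul, hχW]
      have e3 : χ ⟨u₀, h.u_mem⟩ = 1 := by
        show l (oddProj hD ⟨u₀, h.u_mem⟩) = 1
        rw [oddProj_sq hD hu2, map_one]
      rw [e3, one_mul]
    have e2 : lin χ (s * (u₀ * (y : C)) * s⁻¹) = (l' y : ℂ) := by
      have e3 : s * (u₀ * (y : C)) * s⁻¹ = (z * u₀) * (s * y * s⁻¹) := by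
        rw [← h.s_u]; group
      have hzu : z * u₀ ∈ T := mul_mem (h.Z_le_T h.t_mem) h.u_mem
      rw [e3, lin_apply χ (mul_mem hzu (h.torus.s_conj y (hWT y)))]
      congr 1
      have e4 : (⟨z * u₀ * (s * (y : C) * s⁻¹), mul_mem hzu (h.torus.s_conj y (hWT y))⟩ : T) =
        ⟨z * u₀, hzu⟩ * ⟨s * y * s⁻¹, h.torus.s_conj y (hWT y)⟩ := rfl
      rw [e4, map_mul, hscW]
      have e5 : χ ⟨z * u₀, hzu⟩ = 1 := by
        show l (oddProj hD ⟨z * u₀, hzu⟩) = 1
        have e6 : (z * u₀) * (z * u₀) = 1 := by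
          calc (z * u₀) * (z * u₀) = z * (u₀ * z) * u₀ := by group
            _ = (z * z) * (u₀ * u₀) := by rw [(hG.t_comm u₀).symm.eq]; group
            _ = 1 := by rw [hG.tt, hu2, one_mul]
        rw [oddProj_sq hD (x := ⟨z * u₀, hzu⟩) e6, map_one]
      rw [e5, one_mul]
    rw [e1, e2]
  have hfun : (fun y : Wg hD.chyp (MonoidHom.id C) u₀ => rho h μ χ (u₀ * y)) =
      (ε : ℂ) • ((fun y : Wg hD.chyp (MonoidHom.id C) u₀ => (l y : ℂ)) + fun y : Wg hD.chyp (MonoidHom.id C) u₀ => (l' y : ℂ)) := by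
    funext y
    rw [hval, Pi.smul_apply, Pi.add_apply, smul_eq_mul]
  rw [hfun, Core.classInner_smul_left, Core.classInner_add_left, classInner_hom_self,
    classInner_hom_ne hne, add_zero, mul_one]
  rcases h.eps with h1 | h1 <;> rw [h1] <;> norm_num

end C

section Gamma

variable {C : Type v} [Group C] [Fintype C] {z : C} {q : ℕ} {ε : ℤ} {Z T T' U : Subgroup C}
  {s s' u₀ : C} {b : C →* ℂˣ} {μ : U →* ℂˣ} {Γ : Type u} [Group Γ] [Finite Γ] {π : Γ →* C}
  {t u w : Γ}

/-- The map from `W` onto the odd part of `T`. -/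
def toOdd (hD : CData z q ε Z T T' U s s' u₀ b) (π : Γ →* C) (u : Γ) :
    Wg hD.chyp π u →* Wg hD.chyp (MonoidHom.id C) u₀ where
  toFun x := ⟨π x, x.2.1, x.2.2.1, hD.chyp.T_comm _ hD.chyp.u_mem _ x.2.1⟩
  map_one' := Subtype.ext (map_one π)
  map_mul' x y := Subtype.ext (map_mul π _ _)

theorem toOdd_surjective (hD : CData z q ε Z T T' U s s' u₀ b) (hG : GHyp π z u₀ s t u w) :
    Function.Surjective (toOdd hD π u) := by
  intro y
  obtain ⟨x, hx, hy⟩ := exists_W hD hG y.2
  exact ⟨⟨x, hx⟩, Subtype.ext hy⟩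

/-- **The character of degree `q + ε` of `Γ`.** -/
theorem exists_rho_pull (hD : CData z q ε Z T T' U s s' u₀ b) (hμ : ∃ v : U, μ v ≠ 1)
    (hG : GHyp π z u₀ s t u w) [Fintype (Wg hD.chyp π u)] (l : Wg hD.chyp π u →* ℂˣ)
    (hl : l ≠ 1) (hker : ∀ y : Wg hD.chyp π u, π y = 1 → l y = 1) :
    ∃ ψ : Γ → ℂ, IsIrrCharacter Γ ψ ∧ ψ 1 = (((q : ℤ) + ε : ℤ) : ℂ) ∧
      classInner (fun y : Wg hD.chyp π u => ψ (u * y)) (fun y => (l y : ℂ)) ≠ 0 := by
  classical
  let _ : Fintype (Wg hD.chyp (MonoidHom.id C) u₀) := Fintype.ofFinite _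
  have hs := toOdd_surjective hD hG
  have hk : (toOdd hD π u).ker ≤ l.ker := by
    intro y hy
    exact hker y (congrArg Subtype.val hy)
  set l₀ : Wg hD.chyp (MonoidHom.id C) u₀ →* ℂˣ :=
    (toOdd hD π u).liftOfSurjective hs ⟨l, hk⟩ with hl₀
  have hl₀' : ∀ y, l₀ (toOdd hD π u y) = l y := fun y =>
    MonoidHom.liftOfRightInverse_comp_apply _ _ _ ⟨l, hk⟩ y
  have hne : l₀ ≠ 1 := by
    intro h1
    apply hl
    ext y
    rw [← hl₀' y, h1]
    rfl
  obtain ⟨ψ, h1, h2, h3⟩ := exists_rho hD hμ l₀ hne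
  refine ⟨ψ ∘ π, Core.isIrr_comp π hG.surj h1, ?_, ?_⟩
  · show ψ (π 1) = _
    rw [map_one, h2]
  · rw [← classInner_comp_surj (toOdd hD π u) hs] at h3
    have e1 : (fun y : Wg hD.chyp π u => (ψ ∘ π) (u * y)) =
        fun y => ψ (u₀ * (toOdd hD π u y : Wg hD.chyp (MonoidHom.id C) u₀)) := by
      funext y
      show ψ (π (u * y)) = ψ (u₀ * π y)
      rw [map_mul, hG.map_u]
    have e2 : (fun y : Wg hD.chyp π u => (l y : ℂ)) = fun y => ((l₀ (toOdd hD π u y) : ℂˣ) : ℂ) := by
      funext y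
      rw [hl₀']
    rw [e1, e2]
    exact h3

end Gamma

end Cfsg.Agent.Classification.QDW.TypeDRho
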