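import Mathlib
import Cfsg.Agent.Classification.QDW.RegBase
import Cfsg.Agent.Classification.QDW.ThetaLB
import Cfsg.Agent.Classification.QDW.TypeDRho

/-!
# The action of `N(V)` on the linear characters of `W` trivial on `W ∩ K u`

Setting: `VW t u W`; `w` fixes `t` and maps `u` to `tu`, `g` interchanges `t` and `u`; `w` inverts
`W / (W ∩ K t)`. `l` is a linear character of `W` trivial on `W ∩ K u`, not on `W ∩ K (tu)`.

* `reg`: `l` is regular;
* `rho_one`: `l (ρ y ρ⁻¹) = 1` for `y ∈ W ∩ K t`, `ρ = g w`;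
* `rho_two`: `l (ρ² y ρ⁻²) = (l (w y w⁻¹))⁻¹`.
-/

set_option autoImplicit false
set_option linter.unusedSectionVars false

namespace Cfsg.Agent.Classification.QDW.TypeDS3

open Cfsg Cfsg.Agent.Characters
open Cfsg.Agent.Classification.QDW.RegBase Cfsg.Agent.Classification.QDW.Theta
open Cfsg.Agent.TwoFusion.DihedralFusion
open Cfsg.Agent.Blocks.ExtendedFMT (conjL conjL_coe compIrr compIrr_apply)
open scoped ComplexConjugate

universe w

variable {G : Type w} [Group G] {t u : G} {W : Subgroup G}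

theorem VW.ne_tu (h : VW t u W) : t * u ≠ 1 ∧ t * u ≠ t ∧ t * u ≠ u := by
  refine ⟨fun h1 => h.ne ?_, fun h1 => h.u_ne (mul_eq_left.1 h1), fun h1 => h.t_ne
    (mul_eq_right.1 h1)⟩
  rw [eq_inv_of_mul_eq_one_left h1]
  exact inv_eq_of_mul_eq_one_left h.u_sq

/-- An element conjugating `t` and `u` into `V` normalises `V`. -/
theorem mem_norm [Finite G] (h : VW t u W) {n : G} (h1 : n * t * n⁻¹ ∈ h.V)
    (h2 : n * u * n⁻¹ ∈ h.V) : n ∈ Subgroup.normalizer (h.V : Set G) := by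
  have h3 : ∀ x ∈ h.V, n * x * n⁻¹ ∈ h.V := by
    intro x hx
    rcases h.mem_V.1 hx with rfl | rfl | rfl | rfl
    · rw [mul_one, mul_inv_cancel]; exact h.V.one_mem
    · exact h1
    · exact h2
    · have h4 : n * (t * u) * n⁻¹ = (n * t * n⁻¹) * (n * u * n⁻¹) := by group
      rw [h4]
      exact h.V.mul_mem h1 h2
  rw [Subgroup.mem_normalizer_iff]
  have hfin : Finite h.V := inferInstance
  let f : h.V → h.V := fun x => ⟨n * x * n⁻¹, h3 x x.2⟩
  have hf : Function.Injective f := by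
    intro x y hxy
    have h4 : n * (x : G) * n⁻¹ = n * y * n⁻¹ := congrArg Subtype.val hxy
    exact Subtype.ext (mul_left_cancel (mul_right_cancel h4))
  have hs : Function.Surjective f := Finite.surjective_of_injective hf
  intro x
  refine ⟨h3 x, fun hx => ?_⟩
  obtain ⟨y, hy⟩ := hs ⟨_, hx⟩
  have h4 : n * (y : G) * n⁻¹ = n * x * n⁻¹ := congrArg Subtype.val hy
  rw [← mul_left_cancel (mul_right_cancel h4)]
  exact y.2

open Classical in
/-- The extension of a linear character of `W` by `1`. -/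
noncomputable def ex (l : W →* ℂˣ) (x : G) : ℂˣ := if h : x ∈ W then l ⟨x, h⟩ else 1

theorem ex_mem (l : W →* ℂˣ) {x : G} (hx : x ∈ W) : ex l x = l ⟨x, hx⟩ := dif_pos hx

theorem ex_coe (l : W →* ℂˣ) (x : W) : ex l (x : G) = l x := ex_mem l x.2

theorem ex_mul (l : W →* ℂˣ) {x y : G} (hx : x ∈ W) (hy : y ∈ W) :
    ex l (x * y) = ex l x * ex l y := by
  rw [ex_mem l hx, ex_mem l hy, ex_mem l (mul_mem hx hy), ← map_mul]
  rfl

theorem ex_inv (l : W →* ℂˣ) {x : G} (hx : x ∈ W) : ex l x⁻¹ = (ex l x)⁻¹ := by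
  rw [ex_mem l hx, ex_mem l (inv_mem hx), ← map_inv]
  rfl

/-- Elements of `C(V)` act trivially. -/
theorem ex_cent (h : VW t u W) (l : W →* ℂˣ) {c y : G}
    (hc : c ∈ Subgroup.centralizer (h.V : Set G)) (hy : y ∈ W) :
    ex l (c * y * c⁻¹) = ex l y := by
  obtain ⟨v, hv, x, hx, rfl⟩ := h.exists_mul hc
  have h2 : x * y * x⁻¹ ∈ W := mul_mem (mul_mem hx hy) (inv_mem hx)
  have h3 := h.comm_V hv h2
  have h4 : v * x * y * (v * x)⁻¹ = x * y * x⁻¹ := by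
    calc v * x * y * (v * x)⁻¹ = v * (x * y * x⁻¹) * v⁻¹ := by group
      _ = x * y * x⁻¹ * v * v⁻¹ := by rw [h3]
      _ = x * y * x⁻¹ := by group
  rw [h4, ex_mul l (mul_mem hx hy) (inv_mem hx), ex_mul l hx hy, ex_inv l hx, mul_comm (ex l x),
    mul_assoc, mul_inv_cancel, mul_one]

/-- The hypotheses on `w`, `g`, `l`. -/
structure S3 (h : VW t u W) (w g : G) (l : W →* ℂˣ) : Prop where
  wt : w * t * w⁻¹ = t
  wu : w * u * w⁻¹ = t * u
  gt : g * t * g⁻¹ = u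
  gu : g * u * g⁻¹ = t
  inv : ∀ y ∈ W, w * y * w⁻¹ * y ∈ K t
  triv : ∀ y ∈ W, y ∈ K u → ex l y = 1
  ntriv : ∃ y ∈ W, y ∈ K (t * u) ∧ ex l y ≠ 1

section

variable [Finite G] {h : VW t u W} {w g : G} {l : W →* ℂˣ}

theorem S3.gtu (H : S3 h w g l) : g * (t * u) * g⁻¹ = t * u := by
  calc g * (t * u) * g⁻¹ = (g * t * g⁻¹) * (g * u * g⁻¹) := by group
    _ = t * u := by rw [H.gt, H.gu, h.comm]

theorem S3.wtu (H : S3 h w g l) : w * (t * u) * w⁻¹ = u := by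
  calc w * (t * u) * w⁻¹ = (w * t * w⁻¹) * (w * u * w⁻¹) := by group
    _ = u := by rw [H.wt, H.wu, ← mul_assoc, h.t_sq, one_mul]

theorem S3.w_mem (H : S3 h w g l) : w ∈ Subgroup.normalizer (h.V : Set G) :=
  mem_norm h (by rw [H.wt]; exact h.t_mem) (by
    rw [H.wu]; exact h.V.mul_mem h.t_mem h.u_mem)

theorem S3.g_mem (H : S3 h w g l) : g ∈ Subgroup.normalizer (h.V : Set G) :=
  mem_norm h (by rw [H.gt]; exact h.u_mem) (by rw [H.gu]; exact h.t_mem)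

/-- `s_u = g w g⁻¹` fixes `u`, maps `t` to `tu`. -/
theorem S3.su_t (H : S3 h w g l) : (g * w * g⁻¹) * t * (g * w * g⁻¹)⁻¹ = t * u := by
  have h1 : g⁻¹ * t * g = u := by rw [← H.gu]; group
  calc (g * w * g⁻¹) * t * (g * w * g⁻¹)⁻¹ = g * (w * (g⁻¹ * t * g) * w⁻¹) * g⁻¹ := by group
    _ = t * u := by rw [h1, H.wu, H.gtu]

theorem S3.su_u (H : S3 h w g l) : (g * w * g⁻¹) * u * (g * w * g⁻¹)⁻¹ = u := by
  have h1 : g⁻¹ * u * g = t := by rw [← H.gt]; group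
  calc (g * w * g⁻¹) * u * (g * w * g⁻¹)⁻¹ = g * (w * (g⁻¹ * u * g) * w⁻¹) * g⁻¹ := by group
    _ = u := by rw [h1, H.wt, H.gt]

theorem S3.su_mem (H : S3 h w g l) : g * w * g⁻¹ ∈ Subgroup.normalizer (h.V : Set G) :=
  mul_mem (mul_mem H.g_mem H.w_mem) (inv_mem H.g_mem)

/-- `s_u` inverts `l`. -/
theorem S3.su_inv (H : S3 h w g l) {y : G} (hy : y ∈ W) :
    ex l ((g * w * g⁻¹) * y * (g * w * g⁻¹)⁻¹) = (ex l y)⁻¹ := by
  have h1 : g⁻¹ * y * g ∈ W := h.conj_mem' H.g_mem hy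
  have h2 := H.inv _ h1
  have h3 : (g * w * g⁻¹) * y * (g * w * g⁻¹)⁻¹ * y ∈ K u := by
    rw [← H.gt, mem_K_conj]
    have h4 : g⁻¹ * ((g * w * g⁻¹) * y * (g * w * g⁻¹)⁻¹ * y) * g =
        w * (g⁻¹ * y * g) * w⁻¹ * (g⁻¹ * y * g) := by group
    rw [h4]
    exact h2
  have h5 : (g * w * g⁻¹) * y * (g * w * g⁻¹)⁻¹ ∈ W := h.conj_mem H.su_mem hy
  have h6 := H.triv _ (mul_mem h5 hy) h3
  rw [ex_mul l h5 hy] at h6
  exact eq_inv_of_mul_eq_one_left h6

/-- `l` is not trivial on `W ∩ K t`. -/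
theorem S3.ntriv_t (H : S3 h w g l) : ∃ y ∈ W, y ∈ K t ∧ ex l y ≠ 1 := by
  obtain ⟨y, hy, hyK, hy1⟩ := H.ntriv
  refine ⟨(g * w * g⁻¹)⁻¹ * y * (g * w * g⁻¹), h.conj_mem' H.su_mem hy, ?_, ?_⟩
  · rw [← mem_K_conj, H.su_t]
    exact hyK
  · intro h1
    have h2 := H.su_inv (h.conj_mem' H.su_mem hy)
    rw [h1, inv_one] at h2
    apply hy1
    rw [← h2]
    congr 1
    group

/-- `l` is not real. -/
theorem S3.not_real (H : S3 h w g l) : ¬ ∀ y ∈ W, (ex l y)⁻¹ = ex l y := by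
  intro h1
  obtain ⟨y, hy, -, hy1⟩ := H.ntriv
  apply hy1
  have h2 : ex l y * ex l y = 1 := by
    have h3 := h1 y hy
    calc ex l y * ex l y = (ex l y)⁻¹ * ex l y := by rw [h3]
      _ = 1 := inv_mul_cancel _
  obtain ⟨k, hk⟩ := h.odd_W
  have h3 : ex l y ^ Nat.card W = 1 := by
    rw [ex_mem l hy, ← map_pow, pow_card_eq_one', map_one]
  rwa [hk, pow_succ, pow_mul, sq, h2, one_pow, one_mul] at h3

/-- The irreducible character `l`. -/
noncomputable def om (l : W →* ℂˣ) : IrrCharacter W :=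
  ⟨fun y => (l y : ℂ), Linear.isIrrCharacter_hom l⟩

/-- **`l` is regular.** -/
theorem S3.reg (H : S3 h w g l) : h.Reg (om l) := by
  intro n hn he
  have h1 : ∀ y ∈ W, ex l ((n : G) * y * (n : G)⁻¹) = ex l y := by
    intro y hy
    have h2 := congrFun (congrArg Subtype.val he) ⟨y, hy⟩
    have h3 : ((l (h.conj n ⟨y, hy⟩) : ℂˣ) : ℂ) = ((l ⟨y, hy⟩ : ℂˣ) : ℂ) := h2
    have h4 : l (h.conj n ⟨y, hy⟩) = l ⟨y, hy⟩ := Units.ext h3
    rw [ex_mem l hy, ex_mem l (h.conj_mem n.2 hy), ← h4]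
    rfl
  have h2 : ∀ y ∈ W, y ∈ K ((n : G) * u * (n : G)⁻¹) → ex l y = 1 := by
    intro y hy hyK
    rw [mem_K_conj] at hyK
    have h3 := h.conj_mem' n.2 hy
    have h4 := h1 _ h3
    rw [H.triv _ h3 hyK] at h4
    rw [← h4]
    congr 1
    group
  have hV : ∀ x : G, x ∈ h.V → x ≠ 1 → (n : G) * x * (n : G)⁻¹ = t ∨
      (n : G) * x * (n : G)⁻¹ = u ∨ (n : G) * x * (n : G)⁻¹ = t * u := by
    intro x hx hx1
    have h3 := (Subgroup.mem_normalizer_iff.1 n.2 x).1 hx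
    rcases h.mem_V.1 h3 with h4 | h4 | h4 | h4
    · exfalso
      apply hx1
      have h5 : x = (n : G)⁻¹ * ((n : G) * x * (n : G)⁻¹) * n := by group
      rw [h5, h4]; group
    · exact Or.inl h4
    · exact Or.inr (Or.inl h4)
    · exact Or.inr (Or.inr h4)
  rcases hV u h.u_mem h.u_ne with hu | hu | hu
  · obtain ⟨y, hy, hyK, hy1⟩ := H.ntriv_t
    exact hy1 (h2 y hy (by rw [hu]; exact hyK))
  · have hut : (n : G) * t * (n : G)⁻¹ = t * u := by
      rcases hV t h.t_mem h.t_ne with ht | ht | ht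
      · exfalso
        apply hn
        rw [h.mem_cent]
        constructor
        · calc (n : G) * t = (n * t * (n : G)⁻¹) * n := by group
            _ = t * n := by rw [ht]
        · calc (n : G) * u = (n * u * (n : G)⁻¹) * n := by group
            _ = u * n := by rw [hu]
      · exfalso
        apply h.ne
        have h5 : (n : G) * t * (n : G)⁻¹ = n * u * (n : G)⁻¹ := by rw [ht, hu]
        exact mul_left_cancel (mul_right_cancel h5)
      · exact ht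
    refine H.not_real fun y hy => ?_
    have hc : (g * w * g⁻¹)⁻¹ * (n : G) ∈ Subgroup.centralizer (h.V : Set G) := by
      rw [h.mem_cent]
      constructor
      · have h5 : (g * w * g⁻¹)⁻¹ * (t * u) * (g * w * g⁻¹) = t := by rw [← H.su_t]; group
        calc (g * w * g⁻¹)⁻¹ * (n : G) * t =
              (g * w * g⁻¹)⁻¹ * (n * t * (n : G)⁻¹) * (g * w * g⁻¹) *
                ((g * w * g⁻¹)⁻¹ * n) := by group
          _ = t * ((g * w * g⁻¹)⁻¹ * n) := by rw [hut, h5]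
      · have h5 : (g * w * g⁻¹)⁻¹ * u * (g * w * g⁻¹) = u := by
          conv_lhs => rw [← H.su_u]
          group
        calc (g * w * g⁻¹)⁻¹ * (n : G) * u =
              (g * w * g⁻¹)⁻¹ * (n * u * (n : G)⁻¹) * (g * w * g⁻¹) *
                ((g * w * g⁻¹)⁻¹ * n) := by group
          _ = u * ((g * w * g⁻¹)⁻¹ * n) := by rw [hu, h5]
    set c := (g * w * g⁻¹)⁻¹ * (n : G) with hcd
    have hcy : c * y * c⁻¹ ∈ W := h.conj_mem (h.cent_le hc) hy
    have h5 := H.su_inv hcy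
    rw [ex_cent h l hc hy] at h5
    rw [← h5, ← h1 y hy]
    congr 1
    rw [hcd]; group
  · obtain ⟨y, hy, hyK, hy1⟩ := H.ntriv
    exact hy1 (h2 y hy (by rw [hu]; exact hyK))

/-- `ρ = g w`: `t ↦ u ↦ tu ↦ t`. -/
theorem S3.rho_t (H : S3 h w g l) : (g * w) * t * (g * w)⁻¹ = u := by
  calc (g * w) * t * (g * w)⁻¹ = g * (w * t * w⁻¹) * g⁻¹ := by group
    _ = u := by rw [H.wt, H.gt]

theorem S3.rho_u (H : S3 h w g l) : (g * w) * u * (g * w)⁻¹ = t * u := by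
  calc (g * w) * u * (g * w)⁻¹ = g * (w * u * w⁻¹) * g⁻¹ := by group
    _ = t * u := by rw [H.wu, H.gtu]

theorem S3.rho_tu (H : S3 h w g l) : (g * w) * (t * u) * (g * w)⁻¹ = t := by
  calc (g * w) * (t * u) * (g * w)⁻¹ = g * (w * (t * u) * w⁻¹) * g⁻¹ := by group
    _ = t := by rw [H.wtu, H.gu]

theorem S3.rho_mem (H : S3 h w g l) : g * w ∈ Subgroup.normalizer (h.V : Set G) :=
  mul_mem H.g_mem H.w_mem

theorem S3.rho_one (H : S3 h w g l) {y : G} (hy : y ∈ W) (hyK : y ∈ K t) :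
    ex l ((g * w) * y * (g * w)⁻¹) = 1 := by
  refine H.triv _ (h.conj_mem H.rho_mem hy) ?_
  rw [← H.rho_t, mem_K_conj]
  have h1 : (g * w)⁻¹ * ((g * w) * y * (g * w)⁻¹) * (g * w) = y := by group
  rw [h1]
  exact hyK

theorem S3.rho_one_ne (H : S3 h w g l) : ∃ y ∈ W, ex l ((g * w) * y * (g * w)⁻¹) ≠ 1 := by
  obtain ⟨y, hy, -, hy1⟩ := H.ntriv
  refine ⟨(g * w)⁻¹ * y * (g * w), h.conj_mem' H.rho_mem hy, ?_⟩
  intro h1
  apply hy1
  rw [← h1]
  congr 1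
  group

theorem S3.rho_two (H : S3 h w g l) {y : G} (hy : y ∈ W) :
    ex l ((g * w) * ((g * w) * y * (g * w)⁻¹) * (g * w)⁻¹) = (ex l (w * y * w⁻¹))⁻¹ := by
  set a : G := (g * w * g⁻¹)⁻¹ * ((g * w) * (g * w)) with ha
  have ha1 : a * t * a⁻¹ = t := by
    have h5 : (g * w * g⁻¹)⁻¹ * (t * u) * (g * w * g⁻¹) = t := by rw [← H.su_t]; group
    calc a * t * a⁻¹ = (g * w * g⁻¹)⁻¹ * ((g * w) * ((g * w) * t * (g * w)⁻¹) * (g * w)⁻¹) *
          (g * w * g⁻¹) := by rw [ha]; group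
      _ = t := by rw [H.rho_t, H.rho_u, h5]
  have ha2 : a * u * a⁻¹ = t * u := by
    have h5 : (g * w * g⁻¹)⁻¹ * t * (g * w * g⁻¹) = t * u := by
      have h6 : (g * w * g⁻¹) * (t * u) * (g * w * g⁻¹)⁻¹ = t := by
        calc (g * w * g⁻¹) * (t * u) * (g * w * g⁻¹)⁻¹ =
            ((g * w * g⁻¹) * t * (g * w * g⁻¹)⁻¹) * ((g * w * g⁻¹) * u * (g * w * g⁻¹)⁻¹) := by
              group
          _ = t := by rw [H.su_t, H.su_u, mul_assoc, h.u_sq, mul_one]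
      calc (g * w * g⁻¹)⁻¹ * t * (g * w * g⁻¹) =
          (g * w * g⁻¹)⁻¹ * ((g * w * g⁻¹) * (t * u) * (g * w * g⁻¹)⁻¹) * (g * w * g⁻¹) := by
            rw [h6]
        _ = t * u := by group
    calc a * u * a⁻¹ = (g * w * g⁻¹)⁻¹ * ((g * w) * ((g * w) * u * (g * w)⁻¹) * (g * w)⁻¹) *
          (g * w * g⁻¹) := by rw [ha]; group
      _ = t * u := by rw [H.rho_u, H.rho_tu, h5]
  have hc : a * w⁻¹ ∈ Subgroup.centralizer (h.V : Set G) := by
    rw [h.mem_cent]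
    have hw1 : w⁻¹ * t * w = t := by
      conv_lhs => rw [← H.wt]
      group
    have hw2 : w⁻¹ * u * w = t * u := by
      calc w⁻¹ * u * w = w⁻¹ * (w * (t * u) * w⁻¹) * w := by rw [H.wtu]
        _ = t * u := by group
    constructor
    · calc a * w⁻¹ * t = (a * (w⁻¹ * t * w) * a⁻¹) * (a * w⁻¹) := by group
        _ = t * (a * w⁻¹) := by rw [hw1, ha1]
    · have h7 : a * (t * u) * a⁻¹ = u := by
        calc a * (t * u) * a⁻¹ = (a * t * a⁻¹) * (a * u * a⁻¹) := by group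
          _ = u := by rw [ha1, ha2, ← mul_assoc, h.t_sq, one_mul]
      calc a * w⁻¹ * u = (a * (w⁻¹ * u * w) * a⁻¹) * (a * w⁻¹) := by group
        _ = u * (a * w⁻¹) := by rw [hw2, h7]
  have hwy : w * y * w⁻¹ ∈ W := h.conj_mem H.w_mem hy
  have h1 := ex_cent h l hc hwy
  have h2 : a * w⁻¹ * (w * y * w⁻¹) * (a * w⁻¹)⁻¹ = a * y * a⁻¹ := by group
  rw [h2] at h1
  have hay : a * y * a⁻¹ ∈ W := by
    rw [← h2]
    exact h.conj_mem (h.cent_le hc) hwy
  have h3 := H.su_inv hay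
  rw [h1] at h3
  rw [← h3]
  congr 1
  rw [ha]; group

end

end Cfsg.Agent.Classification.QDW.TypeDS3
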