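import Mathlib
import Cfsg.Agent.Classification.QDW.FrameLB
import Cfsg.Agent.Classification.QDW.Select
import Cfsg.Agent.Classification.QDW.TypeDS3

/-!
# The type D reduction: three characters of degree `q + ε`

`triple`: if `l` is a linear character of `W` trivial on exactly one of `W ∩ K u`, `W ∩ K (tu)` and
`ψ ∈ Irr(C(t))` has degree `q + ε`, `ψ(t) = ± ψ(1)` and a non-zero coefficient at `l` on the coset
`u W`, then there are a regular `ω` and `ψ₀, ψ₁, ψ₂ ∈ Irr(C(t))` of degree `q + ε` with non-zero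
coefficients at `ω`, `ω^ρ`, `ω^(ρ²)`.
-/

set_option autoImplicit false
set_option linter.unusedSectionVars false

namespace Cfsg.Agent.Classification.QDW.TypeDRed

open Subgroup Cfsg Module
open Cfsg.Agent.Walter.SylowIn Cfsg.Agent.Walter.OddCoreIn Cfsg.Agent.Walter.Cover
open Cfsg.Agent.Characters Cfsg.Agent.Classification.InvCent
open Cfsg.Agent.Classification.QDW.InstC Cfsg.Agent.Classification.QDW.InstGamma
open Cfsg.Agent.Classification.QDW.InstLB Cfsg.Agent.Classification.QDW.InstG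
open Cfsg.Agent.Classification.QDW.RelH Cfsg.Agent.Classification.QDW.Theta
open Cfsg.Agent.Classification.QDW.RegBase Cfsg.Agent.Classification.QDW.TypeDS3
open Cfsg.Agent.Classification.QDW.TypeDRho Cfsg.Agent.Classification.QDW.Coef
open Cfsg.Agent.Classification.QDW.Select (Sep)
open Cfsg.Agent.Classification.RTwo
open scoped ComplexConjugate

universe u v

variable {G : Type u} [Group G] [Finite G] {Q : Type v} [Group Q] [Fintype Q] {z : Q} {q : ℕ}
  {ε : ℤ} {Z T T' U : Subgroup Q} {s s' u₀ : Q} {b : Q →* ℂˣ} {μ : U →* ℂˣ} {t : G}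
  {π : C t →* Q} {u w : C t} {g : G}

/-- The group `W` as a subgroup of `G`. -/
def WG (hD : CData z q ε Z T T' U s s' u₀ b) (π : C t →* Q) (u : C t) : Subgroup G :=
  (Wg hD.chyp π u).map (C t).subtype

theorem mem_WG {hD : CData z q ε Z T T' U s s' u₀ b} {x : G} :
    x ∈ WG hD π u ↔ ∃ y ∈ Wg hD.chyp π u, (y : G) = x := Iff.rfl

/-- The isomorphism `Wg ≃ WG`. -/
noncomputable def eW (hD : CData z q ε Z T T' U s s' u₀ b) (π : C t →* Q) (u : C t) :
    Wg hD.chyp π u ≃* WG hD π u :=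
  (Wg hD.chyp π u).equivMapOfInjective (C t).subtype (Subgroup.subtype_injective _)

theorem eW_coe (hD : CData z q ε Z T T' U s s' u₀ b) (y : Wg hD.chyp π u) :
    ((eW hD π u y : WG hD π u) : G) = ((y : C t) : G) := rfl

/-- `C(⟨t, u⟩) = ⟨t, u⟩ × W`. -/
theorem vw (hD : CData z q ε Z T T' U s s' u₀ b)
    (hG : GHyp π z u₀ s (General.tt t) u w) : VW t (u : G) (WG hD π u) where
  t_sq := congrArg Subtype.val hG.tt
  u_sq := congrArg Subtype.val hG.uu
  comm := (Subgroup.mem_centralizer_singleton_iff.1 u.2).symm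
  t_ne := by
    intro h1
    exact hG.t_ne hD.chyp (Subtype.ext h1)
  u_ne := by
    intro h1
    have h2 : u = 1 := Subtype.ext h1
    have := hD.chyp.orderOf_u
    rw [← hG.map_u, h2, map_one, orderOf_one] at this
    omega
  ne := by
    intro h1
    have h2 : General.tt t = u := Subtype.ext h1
    refine hD.chyp.u_ne ?_
    rw [← hG.map_u, ← hG.map_t, h2]
  odd_W := by
    rw [← Nat.card_congr (eW hD π u).toEquiv]
    exact hG.odd_W hD.chyp
  W_t := by
    rintro y ⟨x, -, rfl⟩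
    exact Subgroup.mem_centralizer_singleton_iff.1 x.2
  W_u := by
    rintro y ⟨x, hx, rfl⟩
    exact congrArg Subtype.val hx.2.2.eq.symm
  cent := by
    intro x h1 h2
    obtain ⟨v, y, hv, hy, he⟩ := hG.exists_decomp hD
      (x := ⟨x, Subgroup.mem_centralizer_singleton_iff.2 h1⟩) (Subtype.ext h2.symm)
    have he' : x = (v : G) * y := congrArg Subtype.val he
    refine ⟨y, ⟨y, hy, rfl⟩, ?_⟩
    rcases hv with rfl | rfl | rfl | rfl
    · left; rw [he']; exact one_mul _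
    · right; left; exact he'
    · right; right; left; exact he'
    · right; right; right; exact he'

theorem mem_A1_iff (hD : CData z q ε Z T T' U s s' u₀ b)
    (hG : GHyp π z u₀ s (General.tt t) u w) (hs : Swap t u g)
    (hker : ∀ x : C t, π x = 1 ↔ (x : G) ∈ K t) (y : Wg hD.chyp π u) :
    y ∈ A1 hD hG hs ↔ ((y : C t) : G) ∈ K (u : G) := by
  have h1 : y ∈ A1 hD hG hs ↔ π (bW hD hG hs y : Wg hD.chyp π u) = 1 := Iff.rfl
  rw [h1, hker, bW_apply]
  have h2 : (u : G) = g⁻¹ * t * g⁻¹⁻¹ := by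
    have h3 : g⁻¹ * (g * u * g⁻¹) * g = g⁻¹ * t * g := congrArg (fun a => g⁻¹ * a * g) hs.g_u
    rw [inv_inv, ← h3]; group
  rw [h2, mem_K_conj, inv_inv]

theorem mem_A2_iff (hD : CData z q ε Z T T' U s s' u₀ b)
    (hG : GHyp π z u₀ s (General.tt t) u w) (hs : Swap t u g)
    (hker : ∀ x : C t, π x = 1 ↔ (x : G) ∈ K t) (y : Wg hD.chyp π u) :
    y ∈ A2 hD hG hs ↔ ((y : C t) : G) ∈ K (t * (u : G)) := by
  rw [mem_A2, mem_A1_iff hD hG hs hker]
  have h1 : ((((aW hG hD.chyp).symm y : Wg hD.chyp π u) : C t) : G) = (w : G)⁻¹ * y * w := rfl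
  have h2 : (w : G) * u * (w : G)⁻¹ = t * u := congrArg Subtype.val hG.wu
  rw [h1, ← h2, mem_K_conj]

/-- The hypotheses `S3`. -/
theorem s3 (hD : CData z q ε Z T T' U s s' u₀ b)
    (hG : GHyp π z u₀ s (General.tt t) u w) (hs : Swap t u g)
    (hker : ∀ x : C t, π x = 1 ↔ (x : G) ∈ K t) (l : Wg hD.chyp π u →* ℂˣ)
    (h1 : ∀ y ∈ A1 hD hG hs, l y = 1) (h2 : ¬ ∀ y ∈ A2 hD hG hs, l y = 1) :
    S3 (vw hD hG) (w : G) g (l.comp (eW hD π u).symm.toMonoidHom) where
  wt := by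
    have h3 : (w : G) * t = t * w := Subgroup.mem_centralizer_singleton_iff.1 w.2
    rw [h3]; group
  wu := congrArg Subtype.val hG.wu
  gt := hs.g_t
  gu := hs.g_u
  inv := by
    rintro y ⟨x, hx, rfl⟩
    have h3 := inv_mod hD hG ⟨x, hx⟩
    rw [hker] at h3
    exact h3
  triv := by
    rintro y ⟨x, hx, rfl⟩ hy
    have hmem : (C t).subtype x ∈ WG hD π u := ⟨x, hx, rfl⟩
    rw [ex_mem _ hmem]
    have h3 : (eW hD π u).symm ⟨(C t).subtype x, hmem⟩ = ⟨x, hx⟩ := by
      rw [MulEquiv.symm_apply_eq]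
      rfl
    show l ((eW hD π u).symm _) = 1
    rw [h3]
    exact h1 _ ((mem_A1_iff hD hG hs hker _).2 hy)
  ntriv := by
    rw [not_forall] at h2
    obtain ⟨x, hx⟩ := h2
    rw [Classical.not_imp] at hx
    have hmem : ((x : C t) : G) ∈ WG hD π u := ⟨x, x.2, rfl⟩
    refine ⟨x, hmem, (mem_A2_iff hD hG hs hker x).1 hx.1, ?_⟩
    rw [ex_mem _ hmem]
    have h3 : (eW hD π u).symm ⟨((x : C t) : G), hmem⟩ = x := by
      rw [MulEquiv.symm_apply_eq]
      rfl
    show l ((eW hD π u).symm _) ≠ 1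
    rw [h3]
    exact hx.2

/-- Translation of the inner products from `Wg` to `WG`. -/
theorem inner_eW (hD : CData z q ε Z T T' U s s' u₀ b) [Fintype (Wg hD.chyp π u)]
    [Fintype (WG hD π u)] (F : WG hD π u → ℂ) (F' : WG hD π u → ℂ) :
    classInner (fun y : Wg hD.chyp π u => F (eW hD π u y)) (fun y => F' (eW hD π u y)) =
      classInner F F' :=
  classInner_comp_surj (eW hD π u).toMonoidHom (eW hD π u).surjective F F'

/-- Inner products along the automorphism `aW`. -/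
theorem inner_aW (hD : CData z q ε Z T T' U s s' u₀ b)
    (hG : GHyp π z u₀ s (General.tt t) u w) [Fintype (Wg hD.chyp π u)] {ψ : C t → ℂ}
    (hψ : IsClassFunction (C t) ψ) {τ : ℂ} (hτ : ∀ x, ψ (General.tt t * x) = τ * ψ x)
    (f : Wg hD.chyp π u → ℂ) :
    classInner (fun y : Wg hD.chyp π u => ψ (u * y)) (fun y => f (aW hG hD.chyp y)) =
      τ * classInner (fun y : Wg hD.chyp π u => ψ (u * y)) f := by
  have h1 : (fun y : Wg hD.chyp π u => ψ (u * y)) =
      fun y => τ * ψ (u * (aW hG hD.chyp y : Wg hD.chyp π u)) := by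
    funext y
    have h2 : ψ (u * y) = ψ (w * (u * y) * w⁻¹) := (hψ _ _).symm
    rw [h2, ← hτ]
    congr 1
    rw [aW_apply]
    calc w * (u * y) * w⁻¹ = (w * u * w⁻¹) * (w * y * w⁻¹) := by group
      _ = General.tt t * u * (w * y * w⁻¹) := by rw [hG.wu]
      _ = _ := by group
  conv_lhs => rw [h1]
  have h3 : (fun y : Wg hD.chyp π u => τ * ψ (u * (aW hG hD.chyp y : Wg hD.chyp π u))) =
      τ • fun y : Wg hD.chyp π u =>
        (fun x : Wg hD.chyp π u => ψ (u * x)) (aW hG hD.chyp y) := rfl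
  rw [h3, Core.classInner_smul_left]
  congr 1
  exact classInner_comp_surj (aW hG hD.chyp).toMonoidHom (aW hG hD.chyp).surjective
    (fun x : Wg hD.chyp π u => ψ (u * x)) f

/-- The element `u y` of `C(t)`. -/
def uy (hD : CData z q ε Z T T' U s s' u₀ b) (y : WG hD π u) : C t :=
  ⟨(u : G) * y, by
    obtain ⟨x, -, hx⟩ := y.2
    rw [← hx]
    exact mul_mem u.2 x.2⟩

theorem uy_eW (hD : CData z q ε Z T T' U s s' u₀ b) (y : Wg hD.chyp π u) :
    uy hD (eW hD π u y) = u * y := Subtype.ext rfl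

/-- **The three characters**, `l` trivial on `W ∩ K u` and not on `W ∩ K (tu)`. -/
theorem triple_aux (hD : CData z q ε Z T T' U s s' u₀ b) (hμ : ∃ v : U, μ v ≠ 1)
    (hG : GHyp π z u₀ s (General.tt t) u w) (hs : Swap t u g)
    (hker : ∀ x : C t, π x = 1 ↔ (x : G) ∈ K t)
    [Fintype (Wg hD.chyp π u)] [Fintype (WG hD π u)] (l : Wg hD.chyp π u →* ℂˣ)
    (h1 : ∀ y ∈ A1 hD hG hs, l y = 1) (h2 : ¬ ∀ y ∈ A2 hD hG hs, l y = 1) {ψ : C t → ℂ}
    (hψ : IsIrrCharacter (C t) ψ) (hψ1 : ψ 1 = (((q : ℤ) + ε : ℤ) : ℂ))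
    (hco : classInner (fun y : Wg hD.chyp π u => ψ (u * y)) (fun y => (l y : ℂ)) ≠ 0) :
    (vw hD hG).Reg (om (l.comp (eW hD π u).symm.toMonoidHom)) ∧
    ∃ ψ' : Fin 3 → IrrCharacter (C t), (∀ i, (ψ' i : C t → ℂ) 1 = (((q : ℤ) + ε : ℤ) : ℂ)) ∧
      classInner (fun y : WG hD π u => (ψ' 0 : C t → ℂ) (uy hD y))
        (fun y => (ex (l.comp (eW hD π u).symm.toMonoidHom) (y : G) : ℂ)) ≠ 0 ∧
      classInner (fun y : WG hD π u => (ψ' 1 : C t → ℂ) (uy hD y))
        (fun y => (ex (l.comp (eW hD π u).symm.toMonoidHom)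
          ((g * w) * y * (g * w)⁻¹) : ℂ)) ≠ 0 ∧
      classInner (fun y : WG hD π u => (ψ' 2 : C t → ℂ) (uy hD y))
        (fun y => (ex (l.comp (eW hD π u).symm.toMonoidHom)
          ((g * w) * ((g * w) * y * (g * w)⁻¹) * (g * w)⁻¹) : ℂ)) ≠ 0 := by
  classical
  have h := vw hD hG
  have H := s3 hD hG hs hker l h1 h2
  set L : WG hD π u →* ℂˣ := l.comp (eW hD π u).symm.toMonoidHom with hL
  have hLe : ∀ y : Wg hD.chyp π u, L (eW hD π u y) = l y := by
    intro y
    show l ((eW hD π u).symm (eW hD π u y)) = l y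
    rw [MulEquiv.symm_apply_apply]
  -- the character `l ∘ ρ` of `Wg`
  set l₁ : Wg hD.chyp π u →* ℂˣ :=
    (L.comp ((vw hD hG).conj ⟨g * w, H.rho_mem⟩).toMonoidHom).comp
      (eW hD π u).toMonoidHom with hl₁
  have hl₁' : ∀ y : Wg hD.chyp π u, l₁ y = ex L ((g * w) * (y : C t) * (g * w)⁻¹) := by
    intro y
    have h3 : (g * w) * ((y : C t) : G) * (g * w)⁻¹ ∈ WG hD π u :=
      h.conj_mem H.rho_mem ⟨y, y.2, rfl⟩
    rw [ex_mem L h3]
    rfl
  have hne : l₁ ≠ 1 := by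
    intro h3
    obtain ⟨y, hy, hy1⟩ := H.rho_one_ne
    apply hy1
    have h4 : ((eW hD π u ((eW hD π u).symm ⟨y, hy⟩) : WG hD π u) : G) = y := by
      rw [MulEquiv.apply_symm_apply]
    have h5 := hl₁' ((eW hD π u).symm ⟨y, hy⟩)
    rw [h3] at h5
    have h6 : ((((eW hD π u).symm ⟨y, hy⟩ : Wg hD.chyp π u) : C t) : G) = y := h4
    rw [h6] at h5
    exact h5.symm
  have hker₁ : ∀ y : Wg hD.chyp π u, π y = 1 → l₁ y = 1 := by
    intro y hy
    rw [hl₁']
    exact H.rho_one ⟨y, y.2, rfl⟩ ((hker _).1 hy)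
  obtain ⟨ψ₁, i1, d1, c1⟩ := exists_rho_pull hD hμ hG l₁ hne hker₁
  obtain ⟨τ, hτ, hτ'⟩ := central_sign (z := General.tt t) hG.tt hG.t_comm hψ
  have hτ0 : τ ≠ 0 := by
    rcases hτ with h3 | h3 <;> rw [h3] <;> norm_num
  have hψcl := Core.isIrr_isClassFunction hψ
  refine ⟨H.reg, ![⟨ψ, hψ⟩, ⟨ψ₁, i1⟩, ⟨fun x => conj (ψ x), Core.isIrr_conj hψ⟩], ?_, ?_, ?_, ?_⟩
  · intro i
    fin_cases i
    · exact hψ1
    · exact d1
    · show conj (ψ 1) = _
      rw [hψ1, map_intCast]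
  · show classInner (fun y : WG hD π u => ψ (uy hD y)) (fun y => (ex L (y : G) : ℂ)) ≠ 0
    rw [← inner_eW hD]
    have e1 : (fun y : Wg hD.chyp π u => ψ (uy hD (eW hD π u y))) =
        fun y : Wg hD.chyp π u => ψ (u * y) := by
      funext y
      rw [uy_eW]
    have e2 : (fun y : Wg hD.chyp π u => (ex L ((eW hD π u y : WG hD π u) : G) : ℂ)) =
        fun y => (l y : ℂ) := by
      funext y
      rw [ex_coe, hLe]
    rw [e1, e2]
    exact hco
  · show classInner (fun y : WG hD π u => ψ₁ (uy hD y))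
      (fun y => (ex L ((g * w) * y * (g * w)⁻¹) : ℂ)) ≠ 0
    rw [← inner_eW hD]
    have e1 : (fun y : Wg hD.chyp π u => ψ₁ (uy hD (eW hD π u y))) =
        fun y : Wg hD.chyp π u => ψ₁ (u * y) := by
      funext y
      rw [uy_eW]
    have e2 : (fun y : Wg hD.chyp π u =>
        (ex L ((g * w) * ((eW hD π u y : WG hD π u) : G) * (g * w)⁻¹) : ℂ)) =
        fun y => (l₁ y : ℂ) := by
      funext y
      rw [hl₁']
      rfl
    rw [e1, e2]
    exact c1
  · show classInner (fun y : WG hD π u => conj (ψ (uy hD y)))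
      (fun y => (ex L ((g * w) * ((g * w) * y * (g * w)⁻¹) * (g * w)⁻¹) : ℂ)) ≠ 0
    rw [← inner_eW hD]
    have e1 : (fun y : Wg hD.chyp π u => conj (ψ (uy hD (eW hD π u y)))) =
        fun y : Wg hD.chyp π u => conj (ψ (u * y)) := by
      funext y
      rw [uy_eW]
    have e2 : (fun y : Wg hD.chyp π u => (ex L ((g * w) * ((g * w) *
        ((eW hD π u y : WG hD π u) : G) * (g * w)⁻¹) * (g * w)⁻¹) : ℂ)) =
        fun y => conj ((l (aW hG hD.chyp y) : ℂˣ) : ℂ) := by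
      funext y
      rw [H.rho_two (eW hD π u y).2]
      have e3 : (w : G) * ((eW hD π u y : WG hD π u) : G) * (w : G)⁻¹ =
          ((eW hD π u (aW hG hD.chyp y) : WG hD π u) : G) := rfl
      rw [e3, ex_coe, hLe, Units.val_inv_eq_inv_val]
      exact (Complex.inv_eq_conj (Linear.norm_hom_apply l _))
    rw [e1, e2]
    have e4 : classInner (fun y : Wg hD.chyp π u => conj (ψ (u * y)))
        (fun y => conj ((l (aW hG hD.chyp y) : ℂˣ) : ℂ)) =
        conj (classInner (fun y : Wg hD.chyp π u => ψ (u * y))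
          (fun y => ((l (aW hG hD.chyp y) : ℂˣ) : ℂ))) := by
      simp only [Core.classInner_def, map_mul, map_inv₀, map_natCast, map_sum]
    rw [e4, inner_aW hD hG hψcl hτ' (fun y => (l y : ℂ))]
    intro h5
    rw [map_eq_zero] at h5
    exact mul_ne_zero hτ0 hco h5

end Cfsg.Agent.Classification.QDW.TypeDRed
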