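import Mathlib
import Cfsg.Agent.Classification.QDW.TypeDRed
import Cfsg.Agent.Classification.QDW.TypeDNum
import Cfsg.Agent.Classification.QDW.SelectInst

/-!
# The type D reduction, group theoretical part

If `K t ∩ C(u) ≤ K u` fails for some pair of commuting involutions and `X(1)` is small, there are
three characters of degree `q + ε` as in the hypotheses of the degree formula (`exists_triple`).
-/

set_option autoImplicit false
set_option linter.unusedSectionVars false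

namespace Cfsg.Agent.Classification.QDW.TypeDFin

open Subgroup Cfsg Module
open Cfsg.Agent.Walter.SylowIn Cfsg.Agent.Walter.OddCoreIn Cfsg.Agent.Walter.Cover
open Cfsg.Agent.Characters Cfsg.Agent.Classification.InvCent
open Cfsg.Agent.Classification.QDW.InstC Cfsg.Agent.Classification.QDW.InstGamma
open Cfsg.Agent.Classification.QDW.InstLB Cfsg.Agent.Classification.QDW.InstG
open Cfsg.Agent.Classification.QDW.RelH Cfsg.Agent.Classification.QDW.Theta
open Cfsg.Agent.Classification.QDW.RegBase Cfsg.Agent.Classification.QDW.TypeDS3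
open Cfsg.Agent.Classification.QDW.TypeDRed Cfsg.Agent.Classification.QDW.Coef
open Cfsg.Agent.Classification.QDW.FrameLB
open Cfsg.Agent.Classification.QDW.Select (Sep)
open Cfsg.Agent.Classification.RTwo
open scoped ComplexConjugate

universe u v

variable {G : Type u} [Group G] [Fintype G] {Q : Type v} [Group Q] [Fintype Q] {z : Q} {q : ℕ}
  {ε : ℤ} {Z T T' U : Subgroup Q} {s s' u₀ : Q} {b : Q →* ℂˣ} {μ : U →* ℂˣ}

/-- Not type D for one pair: the subgroups `A1`, `A2` are different. -/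
theorem A1_ne_A2 {t : G} {π : C t →* Q} {u w : C t} {g : G}
    (hD : CData z q ε Z T T' U s s' u₀ b) (hG : GHyp π z u₀ s (General.tt t) u w)
    (hs : Swap t u g) (hker : ∀ x : C t, π x = 1 ↔ (x : G) ∈ K t)
    (hnb : ¬ K t ⊓ C (u : G) ≤ K (u : G)) : A1 hD hG hs ≠ A2 hD hG hs := by
  intro h1
  apply hnb
  intro x hx
  obtain ⟨hxK, hxu⟩ := Subgroup.mem_inf.1 hx
  have hxt : x ∈ C t := core_le_C t hxK
  have hodd : Odd (orderOf x) := by
    have h2 : orderOf (⟨x, hxK⟩ : K t) ∣ Nat.card (K t) := orderOf_dvd_natCard _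
    rw [Subgroup.orderOf_mk] at h2
    rw [← Nat.not_even_iff_odd, even_iff_two_dvd]
    exact fun h3 => Cfsg.Agent.Walter.Cover.core_odd t (h3.trans h2)
  have hmem : (⟨x, hxt⟩ : C t) ∈ Wg hD.chyp π u := by
    rw [mem_Wg_iff hD hG]
    refine ⟨Subtype.ext (Subgroup.mem_centralizer_singleton_iff.1 hxu).symm, ?_⟩
    rw [Subgroup.orderOf_mk]
    exact hodd
  set y : Wg hD.chyp π u := (bW hD hG hs).symm ⟨⟨x, hxt⟩, hmem⟩ with hy
  have hyc : (((y : Wg hD.chyp π u) : C t) : G) = g⁻¹ * x * g := bW_symm_apply hD hG hs _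
  have hu : (u : G) = g⁻¹ * t * g⁻¹⁻¹ := by
    have h3 : g⁻¹ * (g * u * g⁻¹) * g = g⁻¹ * t * g := congrArg (fun a => g⁻¹ * a * g) hs.g_u
    rw [inv_inv, ← h3]; group
  have h2 : y ∈ A1 hD hG hs := by
    rw [TypeDRed.mem_A1_iff hD hG hs hker, hyc, hu, mem_K_conj, inv_inv]
    have h3 : g * (g⁻¹ * x * g) * g⁻¹ = x := by group
    rw [h3]
    exact hxK
  rw [h1, mem_A2_iff hD hG hs hker, hyc] at h2
  have htu : t * (u : G) = g⁻¹ * (t * u) * g⁻¹⁻¹ := by
    have h3 := hs.tu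
    calc t * (u : G) = g⁻¹ * (g * (t * u) * g⁻¹) * g := by group
      _ = g⁻¹ * (t * u) * g⁻¹⁻¹ := by rw [h3, inv_inv]
  rw [htu, mem_K_conj, inv_inv] at h2
  have h3 : g * (g⁻¹ * x * g) * g⁻¹ = x := by group
  rw [h3] at h2
  -- `x ∈ K (tu)`, so `x ∈ K u`
  have h4 : (⟨⟨x, hxt⟩, hmem⟩ : Wg hD.chyp π u) ∈ A2 hD hG hs :=
    (mem_A2_iff hD hG hs hker _).2 h2
  rw [← h1] at h4
  exact (TypeDRed.mem_A1_iff hD hG hs hker _).1 h4

/-- The sign on `t` and the automorphism `aW`: from `Sep` to the first alternative. -/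
theorem exists_sep {t : G} {π : C t →* Q} {u w : C t} {g : G}
    (hD : CData z q ε Z T T' U s s' u₀ b) (hG : GHyp π z u₀ s (General.tt t) u w)
    (hs : Swap t u g) [Fintype (Wg hD.chyp π u)] {ψ : C t → ℂ} (hψ : IsIrrCharacter (C t) ψ)
    {l : Wg hD.chyp π u →* ℂˣ} (hl : Sep (A1 hD hG hs) (A2 hD hG hs) l)
    (hco : classInner (fun y : Wg hD.chyp π u => ψ (u * y)) (fun y => (l y : ℂ)) ≠ 0) :
    ∃ l' : Wg hD.chyp π u →* ℂˣ, (∀ y ∈ A1 hD hG hs, l' y = 1) ∧
      (¬ ∀ y ∈ A2 hD hG hs, l' y = 1) ∧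
      classInner (fun y : Wg hD.chyp π u => ψ (u * y)) (fun y => (l' y : ℂ)) ≠ 0 := by
  rcases hl with ⟨h1, h2⟩ | ⟨h1, h2⟩
  · exact ⟨l, h1, h2, hco⟩
  · obtain ⟨τ, hτ, hτ'⟩ := central_sign (z := General.tt t) hG.tt hG.t_comm hψ
    have hτ0 : τ ≠ 0 := by
      rcases hτ with h3 | h3 <;> rw [h3] <;> norm_num
    -- `aW` maps `A1` onto `A2`, `A2` onto `A1`
    have hw2 : ∀ y : Wg hD.chyp π u, y ∈ A1 hD hG hs → aW hG hD.chyp y ∈ A2 hD hG hs := by
      intro y hy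
      rw [mem_A2, MulEquiv.symm_apply_apply]
      exact hy
    refine ⟨l.comp (aW hG hD.chyp).toMonoidHom, fun y hy => h1 _ (hw2 y hy), ?_, ?_⟩
    · intro h3
      apply h2
      intro y hy
      -- `y = aW (aW.symm y)`, need `aW.symm y ∈ A2`, i.e. `aW.symm (aW.symm y) ∈ A1`
      have h4 : (aW hG hD.chyp).symm y ∈ A2 hD hG hs := by
        rw [mem_A2]
        -- `w⁻² y w²`; `w²` centralizes `⟨t, u⟩`
        show π (bW hD hG hs ((aW hG hD.chyp).symm ((aW hG hD.chyp).symm y)) :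
          Wg hD.chyp π u) = 1
        have h5 : π (bW hD hG hs y : Wg hD.chyp π u) = 1 := hy
        -- conjugation of `g y g⁻¹` by `g w⁻² g⁻¹ ∈ C(t)`
        have hwu : (w : G) * u * (w : G)⁻¹ = t * u := congrArg Subtype.val hG.wu
        have hwt : (w : G) * t = t * w := Subgroup.mem_centralizer_singleton_iff.1 w.2
        have htt : t * t = 1 := congrArg Subtype.val hG.tt
        have hww : (w : G) * w * u = u * (w * w) := by
          calc (w : G) * w * u = w * (w * u * (w : G)⁻¹) * w := by group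
            _ = w * (t * u) * w := by rw [hwu]
            _ = (w * t * (w : G)⁻¹) * (w * u * (w : G)⁻¹) * (w * w) := by group
            _ = t * (t * u) * (w * w) := by rw [hwu, hwt]; group
            _ = u * (w * w) := by rw [← mul_assoc t t, htt, one_mul]
        have hc : g * ((w : G) * w) * g⁻¹ ∈ C t := by
          rw [Subgroup.mem_centralizer_singleton_iff]
          calc g * ((w : G) * w) * g⁻¹ * t = g * ((w : G) * w) * g⁻¹ * (g * u * g⁻¹) := by
                rw [hs.g_u]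
            _ = g * ((w : G) * w * u) * g⁻¹ := by group
            _ = (g * u * g⁻¹) * (g * ((w : G) * w) * g⁻¹) := by rw [hww]; group
            _ = t * (g * ((w : G) * w) * g⁻¹) := by rw [hs.g_u]
        have h6 : ((bW hD hG hs ((aW hG hD.chyp).symm ((aW hG hD.chyp).symm y)) :
            Wg hD.chyp π u) : C t) =
            (⟨_, hc⟩ : C t)⁻¹ * (bW hD hG hs y : Wg hD.chyp π u) * ⟨_, hc⟩ := by
          apply Subtype.ext
          rw [bW_apply]
          have h7 : ((((aW hG hD.chyp).symm ((aW hG hD.chyp).symm y) : Wg hD.chyp π u) : C t) : G) =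
            (w : G)⁻¹ * ((w : G)⁻¹ * y * w) * w := rfl
          rw [h7]
          show g * ((w : G)⁻¹ * ((w : G)⁻¹ * y * w) * w) * g⁻¹ =
            (g * ((w : G) * w) * g⁻¹)⁻¹ *
              (((bW hD hG hs y : Wg hD.chyp π u) : C t) : G) * (g * ((w : G) * w) * g⁻¹)
          rw [bW_apply]
          group
        rw [h6, map_mul, map_mul, map_inv, h5, mul_one, inv_mul_cancel]
      have h5 := h3 _ h4
      show l y = 1
      rw [← h5]
      show l y = l (aW hG hD.chyp ((aW hG hD.chyp).symm y))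
      rw [MulEquiv.apply_symm_apply]
    · have h3 := inner_aW hD hG (Core.isIrr_isClassFunction hψ) hτ' (fun y => (l y : ℂ))
      show classInner (fun y : Wg hD.chyp π u => ψ (u * y))
        (fun y => ((l (aW hG hD.chyp y) : ℂˣ) : ℂ)) ≠ 0
      rw [h3]
      exact mul_ne_zero hτ0 hco

/-- The output of the type D reduction. -/
structure Triple (G : Type u) [Group G] [Fintype G] (z : Q) (u₀ : Q) (d : ℤ) (t : G)
    (π : C t →* Q) (u w : C t) (g : G) (W : Subgroup G) (L : W →* ℂˣ)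
    (ψ : Fin 3 → IrrCharacter (C t)) : Prop where
  hyp : General.Hyp t z π
  ker : ∀ x : C t, π x = 1 ↔ (x : G) ∈ K t
  trans : Theta.Trans t
  vw : VW t (u : G) W
  map_u : π u = u₀
  wt : (w : G) * t * (w : G)⁻¹ = t
  wu : (w : G) * u * (w : G)⁻¹ = t * u
  gt : g * t * g⁻¹ = u
  gu : g * u * g⁻¹ = t
  reg : vw.Reg (om L)
  mem : ∀ y : W, (u : G) * y ∈ C t
  mem₁ : ∀ y : W, (g * w) * y * (g * w)⁻¹ ∈ W
  mem₂ : ∀ y : W, (g * w) * ((g * w) * y * (g * w)⁻¹) * (g * w)⁻¹ ∈ W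
  deg : ∀ i, (ψ i : C t → ℂ) 1 = (d : ℂ)
  co₀ : ∀ [Fintype W], classInner (fun y : W => (ψ 0 : C t → ℂ) ⟨(u : G) * y, mem y⟩)
    (fun y => (L y : ℂ)) ≠ 0
  co₁ : ∀ [Fintype W], classInner (fun y : W => (ψ 1 : C t → ℂ) ⟨(u : G) * y, mem y⟩)
    (fun y => (L ⟨(g * w) * y * (g * w)⁻¹, mem₁ y⟩ : ℂ)) ≠ 0
  co₂ : ∀ [Fintype W], classInner (fun y : W => (ψ 2 : C t → ℂ) ⟨(u : G) * y, mem y⟩)
    (fun y => (L ⟨(g * w) * ((g * w) * y * (g * w)⁻¹) * (g * w)⁻¹, mem₂ y⟩ : ℂ)) ≠ 0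

/-- **The type D reduction.** -/
theorem exists_triple {t₀ : G} {π₀ : C t₀ →* Q} (H : General.Hyp t₀ z π₀)
    (hk : ∀ x : C t₀, π₀ x = 1 ↔ (x : G) ∈ K t₀)
    (hD : CData z q ε Z T T' U s s' u₀ b) (hq : 5 ≤ q) (hμ : ∃ v : U, μ v ≠ 1)
    {X : G → ℂ} {σ c : ℤ} (hX : DVal hD.chyp μ π₀ X σ c) (hσ : σ = 1 ∨ σ = -1)
    (hc : c = 0 ∨ c = 1) (hXc : IsCharacter G X) {N : ℕ} (hN : X 1 = N)
    (hlt : (N : ℤ) - σ * (c + ε * q) < 2 * ((q : ℤ) ^ 2 - 1))
    (hnb : ¬ ∀ t u : G, Four t u → K t ⊓ C u ≤ K u) :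
    ∃ (t : G) (π : C t →* Q) (u w : C t) (g : G) (W : Subgroup G) (L : W →* ℂˣ)
      (ψ : Fin 3 → IrrCharacter (C t)), Rel π₀ π ∧ Triple G z u₀ (q + ε) t π u w g W L ψ := by
  classical
  rw [not_forall] at hnb
  obtain ⟨t, hnb⟩ := hnb
  rw [not_forall] at hnb
  obtain ⟨u, hnb⟩ := hnb
  rw [Classical.not_imp] at hnb
  obtain ⟨h4, hnb⟩ := hnb
  have hu : u ∈ C t := mem3_u.mem_C h4 mem3_t
  obtain ⟨π, hr, Hπ, hker, hπu⟩ := exists_pi H hk hD.chyp h4 hu
  obtain ⟨w, hG⟩ := exists_ghyp_of Hπ hD.chyp h4 hu hπu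
  obtain ⟨g, hs⟩ := exists_swap Hπ hD hG
  have hv := dval_rel hX H hr
  let _ : Fintype (Wg hD.chyp π (⟨u, hu⟩ : C t)) := Fintype.ofFinite _
  have hA := A1_ne_A2 hD hG hs hker hnb
  obtain ⟨ψ, l, i1, -, hsep, hco, d1⟩ := SelectInst.selectG Hπ hD hq hμ hG hs hv hσ hc
    (InstMain.restrict_isCharacter hXc _) hN hlt hA
  obtain ⟨l', k1, k2, k3⟩ := exists_sep hD hG hs i1 hsep hco
  set W := WG hD π (⟨u, hu⟩ : C t) with hW
  have hvw := vw hD hG
  have H3 := s3 hD hG hs hker l' k1 k2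
  let IW : Fintype W := Fintype.ofFinite _
  obtain ⟨hreg, ψ', e1, e2, e3, e4⟩ := triple_aux hD hμ hG hs hker l' k1 k2 i1 d1 k3
  have m0 : ∀ y : W, ((⟨u, hu⟩ : C t) : G) * y ∈ C t := fun y => (uy hD y).2
  have m1 : ∀ y : W, (g * w) * (y : G) * (g * w)⁻¹ ∈ W := fun y => hvw.conj_mem H3.rho_mem y.2
  have m2 : ∀ y : W, (g * w) * ((g * w) * (y : G) * (g * w)⁻¹) * (g * w)⁻¹ ∈ W := fun y =>
    hvw.conj_mem H3.rho_mem (m1 y)
  refine ⟨t, π, ⟨u, hu⟩, w, g, W,
    l'.comp (eW hD π (⟨u, hu⟩ : C t)).symm.toMonoidHom, ψ', hr, ?_⟩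
  refine
    { hyp := Hπ
      ker := hker
      trans := trans_of H hk hD.chyp t
      vw := hvw
      map_u := hπu
      wt := H3.wt
      wu := H3.wu
      gt := hs.g_t
      gu := hs.g_u
      reg := hreg
      mem := m0
      mem₁ := m1
      mem₂ := m2
      deg := e1
      co₀ := ?_
      co₁ := ?_
      co₂ := ?_ }
  · intro I
    have e : I = IW := Subsingleton.elim _ _
    rw [e]
    have e5 : (fun y : W => (ex (l'.comp (eW hD π (⟨u, hu⟩ : C t)).symm.toMonoidHom) (y : G) : ℂ)) =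
        fun y : W => ((l'.comp (eW hD π (⟨u, hu⟩ : C t)).symm.toMonoidHom) y : ℂ) := by
      funext y
      rw [ex_coe]
    rw [e5] at e2
    exact e2
  · intro I
    have e : I = IW := Subsingleton.elim _ _
    rw [e]
    have e5 : (fun y : W => (ex (l'.comp (eW hD π (⟨u, hu⟩ : C t)).symm.toMonoidHom)
        ((g * w) * (y : G) * (g * w)⁻¹) : ℂ)) =
        fun y : W => ((l'.comp (eW hD π (⟨u, hu⟩ : C t)).symm.toMonoidHom) ⟨_, m1 y⟩ : ℂ) := by
      funext y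
      rw [ex_mem _ (m1 y)]
    rw [e5] at e3
    exact e3
  · intro I
    have e : I = IW := Subsingleton.elim _ _
    rw [e]
    have e5 : (fun y : W => (ex (l'.comp (eW hD π (⟨u, hu⟩ : C t)).symm.toMonoidHom)
        ((g * w) * ((g * w) * (y : G) * (g * w)⁻¹) * (g * w)⁻¹) : ℂ)) =
        fun y : W => ((l'.comp (eW hD π (⟨u, hu⟩ : C t)).symm.toMonoidHom) ⟨_, m2 y⟩ : ℂ) := by
      funext y
      rw [ex_mem _ (m2 y)]
    rw [e5] at e4
    exact e4

end Cfsg.Agent.Classification.QDW.TypeDFin
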