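import Mathlib
import Cfsg.Agent.Classification.QDW.TypeDFin
import Cfsg.Agent.Classification.QDW.RegCube
import Cfsg.Agent.Classification.QDW.NumChoice
import Cfsg.Agent.Classification.QDW.NumBridgeG
import Cfsg.Agent.Classification.QDW.InstMain

/-!
# Not type D implies `f = (ε q)³`

`eq_cube_of_data`: if `K t ∩ C(u) ≤ K u` fails for some pair `t, u` of commuting involutions, then
`X₂(1) = (ε q)³`.
-/

set_option autoImplicit false
set_option linter.unusedSectionVars false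

namespace Cfsg.Agent.Classification.QDW.TypeDCube

open Subgroup Cfsg Module
open Cfsg.Agent.Walter.SylowIn Cfsg.Agent.Walter.OddCoreIn Cfsg.Agent.Walter.Cover
open Cfsg.Agent.Characters Cfsg.Agent.Classification.InvCent
open Cfsg.Agent.Classification.QDW.InstC Cfsg.Agent.Classification.QDW.InstGamma
open Cfsg.Agent.Classification.QDW.InstLB Cfsg.Agent.Classification.QDW.InstG
open Cfsg.Agent.Classification.QDW.RelH Cfsg.Agent.Classification.QDW.Theta
open Cfsg.Agent.Classification.QDW.RegBase Cfsg.Agent.Classification.QDW.RegMain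
open Cfsg.Agent.Classification.QDW.TypeDS3 Cfsg.Agent.Classification.QDW.FrameLB
open Cfsg.Agent.Classification.QDW.TypeDFin
open Cfsg.Agent.Classification.QDW.NumBridge (Num)
open Cfsg.Agent.Classification.InvCent.GPair (kap card_over)
open Cfsg.Agent.Classification.RTwo
open Cfsg.Agent.Classification.BGOrder Cfsg.Agent.Classification.BGSplit
  Cfsg.Agent.Classification.BGBlockB0
open scoped ComplexConjugate

universe u v

variable {G : Type u} [Group G] [Fintype G] {Q : Type v} [Group Q] [Fintype Q] {z : Q} {q : ℕ}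
  {ε : ℤ} {Z T T' U : Subgroup Q} {s s' u₀ : Q} {b : Q →* ℂˣ} {μ : U →* ℂˣ}

/-- `cmap` as an equivalence. -/
def cequiv {t₀ t : G} (a : G) (h : a * t₀ * a⁻¹ = t) : C t ≃ C t₀ where
  toFun := cmap a h
  invFun x := ⟨a * x * a⁻¹, by
    rw [Subgroup.mem_centralizer_singleton_iff]
    have h1 : (x : G) * t₀ = t₀ * x := Subgroup.mem_centralizer_singleton_iff.1 x.2
    rw [← h]
    calc a * (x : G) * a⁻¹ * (a * t₀ * a⁻¹) = a * (x * t₀) * a⁻¹ := by group
      _ = a * t₀ * a⁻¹ * (a * x * a⁻¹) := by rw [h1]; group⟩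
  left_inv y := Subtype.ext (by
    show a * (a⁻¹ * (y : G) * a) * a⁻¹ = y
    group)
  right_inv x := Subtype.ext (by
    show a⁻¹ * (a * (x : G) * a⁻¹) * a = x
    group)

theorem index_rel {t₀ t : G} {π₀ : C t₀ →* Q} {π : C t →* Q} (hr : Rel π₀ π) :
    (C t).index = (C t₀).index := by
  obtain ⟨a, h, c, hc⟩ := hr
  have h1 : Nat.card (C t) = Nat.card (C t₀) := Nat.card_congr (cequiv a h)
  have h2 := (C t).index_mul_card
  have h3 := (C t₀).index_mul_card
  rw [← h3, h1] at h2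
  exact Nat.eq_of_mul_eq_mul_right Nat.card_pos h2

theorem kap_rel {t₀ t : G} {π₀ : C t₀ →* Q} {π : C t →* Q} (H : General.Hyp t₀ z π₀)
    (h : CHyp z q ε Z T T' U s s' u₀) (hr : Rel π₀ π) : kap π u₀ = kap π₀ u₀ := by
  obtain ⟨a, ha, c, hc⟩ := hr
  have hmem : c⁻¹ * u₀ * c ∈ nInv z := by
    rw [mem_nInv]
    refine ⟨?_, fun h1 => h.u_ne ?_⟩
    · have h1 := FusionCore.orderOf_conj c⁻¹ u₀
      rw [inv_inv] at h1
      rw [h1]
      exact h.orderOf_u
    · calc u₀ = c * (c⁻¹ * u₀ * c) * c⁻¹ := by group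
        _ = z := by rw [h1, ← (General.z_comm H c).eq]; group
  rw [← card_over H h hmem]
  unfold kap
  refine Nat.card_congr ((cequiv a ha).subtypeEquiv fun y => ?_)
  show _ ↔ orderOf (cmap a ha y) = 2 ∧ π₀ (cmap a ha y) = _
  have h1 : orderOf (cmap a ha y) = orderOf y := by
    rw [← Subgroup.orderOf_coe, ← Subgroup.orderOf_coe, cmap_apply]
    have h1 := FusionCore.orderOf_conj a⁻¹ (y : G)
    rwa [inv_inv] at h1
  rw [h1, hc]
  refine and_congr_right fun _ => ?_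
  constructor
  · intro h2
    rw [← h2]; group
  · intro h2
    rw [h2]; group

/-- `4 ∤ q - ε`. -/
theorem not_four_dvd (hD : CData z q ε Z T T' U s s' u₀ b) : ¬ (4 : ℤ) ∣ q - ε := by
  intro h1
  obtain ⟨z₀, ⟨k, hk0⟩, h3⟩ := hD.chyp.card_Z
  rw [hD.card_Z, hk0] at h3
  push_cast at h3
  omega

theorem isIrr_of_pos {X : G → ℂ} (hX : SignedIrr X) {d : ℤ} (hd : X 1 = d) (hd0 : 0 < d) :
    IsIrrCharacter G X := by
  rcases hX with h1 | h1
  · exact h1
  · exfalso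
    obtain ⟨n, -, hn⟩ := Core.isIrr_apply_one h1
    rw [Pi.neg_apply, hd] at hn
    have h2 : -d = (n : ℤ) := by exact_mod_cast hn
    omega

/-- **From the three characters to `f = (ε q)³`.** -/
theorem eq_cube_of_triple {t : G} {π : C t →* Q} {u w : C t} {g : G} {W : Subgroup G}
    {L : W →* ℂˣ} {ψ : Fin 3 → IrrCharacter (C t)} {f x : ℤ}
    (hD : CData z q ε Z T T' U s s' u₀ b) (hpp : IsPrimePow q)
    (N : Num q ε ((C t).index) (kap π u₀) f x)
    (Tr : Triple G z u₀ (q + ε) t π u w g W L ψ) : f = (ε * q) ^ 3 := by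
  classical
  let _ : Fintype (C t) := Fintype.ofFinite _
  let _ : Fintype W := Fintype.ofFinite _
  have hV := Tr.vw
  have hwt : (w : G) * t = t * w := Subgroup.mem_centralizer_singleton_iff.1 w.2
  have hρt : (g * w) * t * (g * w)⁻¹ = u := by
    calc (g * w) * t * (g * w)⁻¹ = g * (w * t * (w : G)⁻¹) * g⁻¹ := by group
      _ = u := by rw [Tr.wt, Tr.gt]
  have hρu : (g * w) * u * (g * w)⁻¹ = t * u := by
    calc (g * w) * u * (g * w)⁻¹ = g * (w * u * (w : G)⁻¹) * g⁻¹ := by group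
      _ = (g * t * g⁻¹) * (g * u * g⁻¹) := by rw [Tr.wu]; group
      _ = t * u := by rw [Tr.gt, Tr.gu, hV.comm]
  have hρ : g * w ∈ Subgroup.normalizer (hV.V : Set G) :=
    mem_norm hV (by rw [hρt]; exact hV.u_mem)
      (by rw [hρu]; exact hV.V.mul_mem hV.t_mem hV.u_mem)
  refine RegCube.eq_cube_of Tr.hyp hD.chyp N hpp hV (s := w) hwt Tr.wu hρt hρu hρ ?_ Tr.reg
    (ψ 0).2 (ψ 1).2 (ψ 2).2 ?_ ?_ ?_ (Tr.deg 0) (Tr.deg 1) (Tr.deg 2) ?_
  · intro x hx hx2 hxt
    have h4 : Four t (u : G) := ⟨hV.t_sq, hV.u_sq, hV.comm, hV.t_ne, hV.u_ne, hV.ne⟩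
    have hxx : x * x = 1 := by
      have h1 := pow_orderOf_eq_one x
      rwa [hx2, _root_.sq] at h1
    have h5 : Four t x := ⟨hV.t_sq, hxx, hx.symm, hV.t_ne, (by
      rintro rfl
      rw [orderOf_one] at hx2
      exact absurd hx2 (by norm_num)), fun h => hxt h.symm⟩
    obtain ⟨c, hc, hcx⟩ := Tr.trans _ _ h4 h5
    exact ⟨c, Subgroup.mem_centralizer_singleton_iff.1 hc, hcx⟩
  · exact Tr.co₀
  · exact Tr.co₁
  · exact Tr.co₂
  · show ((L 1 : ℂˣ) : ℂ) = 1
    rw [map_one, Units.val_one]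

/-- **Not type D implies `f = (ε q)³`.** -/
theorem eq_cube_of_data {t₀ : G} {π₀ : C t₀ →* Q} (H : General.Hyp t₀ z π₀)
    (hk : ∀ x : C t₀, π₀ x = 1 ↔ (x : G) ∈ K t₀)
    (hD : CData z q ε Z T T' U s s' u₀ b) (hq : 5 ≤ q) (hpp : IsPrimePow q)
    (hμ : ∃ v : U, μ v ≠ 1) {M : Ideal AlgInt} {θ : T' →* ℂˣ} {n : ℕ} {χ : T →* ℂˣ}
    {X₂ X₃ X₄ X₅ : G → ℂ} {L : ℕ → G → ℂ} {f x : ℤ}
    (S : SDFull M hD.chyp b θ n χ μ π₀ X₂ X₃ X₄ X₅ L f x)
    (hnb : ¬ ∀ t u : G, Four t u → K t ⊓ C u ≤ K u) : f = (ε * q) ^ 3 := by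
  classical
  by_contra hf
  have hN := NumBridgeG.num H (TypeDCube.not_four_dvd hD) S.toSDRes
  have lb₂ := InstMain.lb₂ H hD hq hμ S
  have lb₃ := InstMain.lb₃ H hD hq hμ S
  have hq' : (5 : ℤ) ≤ q := by exact_mod_cast hq
  -- from one character
  have key : ∀ {X : G → ℂ} {c d : ℤ}, SignedIrr X → (c = 0 ∨ c = 1) →
      (∀ y : C t₀, z ∈ zpowers (π₀ y) → X y = c + ε * St hD.chyp μ (π₀ y)) → X 1 = d →
      0 < d → d - (c + ε * q) < 2 * ((q : ℤ) ^ 2 - 1) → False := by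
    intro X c d hX hc hv hd hd0 hlt
    have hXi := isIrr_of_pos hX hd hd0
    obtain ⟨N, -, hN1⟩ := Core.isIrr_apply_one hXi
    have hNd : (N : ℤ) = d := by
      rw [hd] at hN1
      exact_mod_cast hN1.symm
    have hDV : DVal hD.chyp μ π₀ X 1 c :=
      ⟨isClassFunction_signed hX, fun y hy => by rw [hv y hy, Int.cast_one, one_mul]⟩
    obtain ⟨t, π, u, w, g, W, L', ψ, hr, Tr⟩ := exists_triple H hk hD hq hμ hDV (Or.inl rfl) hc
      (Core.isIrr_isCharacter hXi) hN1 (by rw [hNd, one_mul]; exact hlt) hnb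
    refine hf (eq_cube_of_triple (x := x) hD hpp ?_ Tr)
    rw [index_rel hr, kap_rel H hD.chyp hr]
    exact hN
  rcases hD.chyp.eps with hε | hε
  · subst hε
    obtain ⟨hf0, hf3, hor⟩ := NumChoice.choice_pos hN lb₂ lb₃ (by
      intro h1
      exact hf (by rw [h1, one_mul]))
    rcases hor with ⟨n', h1, h2⟩ | ⟨n', h1, h2⟩
    · exact key S.in₂.signedIrr (Or.inl rfl) (InstMain.val₂ hμ S) S.one₂ hf0 (by linarith)
    · refine key (d := -1 - x) S.in₃.signedIrr (Or.inr rfl) (InstMain.val₃ S) ?_ ?_ ?_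
      · rw [S.one₃]; push_cast; ring
      · rw [h1]; nlinarith
      · linarith
  · subst hε
    rcases NumChoice.choice_neg hN hpp hq lb₂ lb₃ with
      ⟨hf0, hf3, ⟨n', h1, h2⟩ | ⟨n', h1, h2⟩⟩ | ⟨n', h1, h2⟩
    · exact key S.in₂.signedIrr (Or.inl rfl) (InstMain.val₂ hμ S) S.one₂ hf0 (by linarith)
    · refine key (d := -1 - x) S.in₃.signedIrr (Or.inr rfl) (InstMain.val₃ S) ?_ ?_ ?_
      · rw [S.one₃]; push_cast; ring
      · rw [h1]; nlinarith
      · linarith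
    · refine key (d := -1 - x) S.in₃.signedIrr (Or.inr rfl) (InstMain.val₃ S) ?_ ?_ ?_
      · rw [S.one₃]; push_cast; ring
      · rw [h1]; nlinarith
      · have h3 : (n' : ℤ) ≤ 2 * q := by exact_mod_cast h2
        nlinarith

end Cfsg.Agent.Classification.QDW.TypeDCube
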