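import Mathlib
import Cfsg.Agent.Classification.QDW.LineC
import Cfsg.Agent.PermutationGroups.Gleason

/-!
# Subgroups of odd order of `C` of type `GL₂(q)/Z₀`, `GU₂(q)/Z₀`

* `odd_split`: a subgroup of odd order normalised by the split torus `T₁` is contained in `T₁`, or
  contains one of the two root groups normalised by `T₁`;
* `odd_nonsplit`: a subgroup of odd order normalised by the nonsplit torus `T` is contained in `T`.
-/

set_option autoImplicit false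
set_option linter.unusedSectionVars false
set_option linter.unusedVariables false

open Cfsg

namespace Cfsg.Agent.Classification.QDW.GammaOdd

open Cfsg.Agent.Classification.InvCent Cfsg.Agent.Classification.QDW.LineIndex
open Cfsg.Agent.Classification.QDW.LineC MulAction

variable {C : Type*} [Group C] {q : ℕ} {Z T T₁ U : Subgroup C} {s s₁ : C}

variable [Finite C]

/-- An orbit of a group of odd order has odd length. -/
theorem odd_orbit {Ω : Type*} [MulAction C Ω] [Finite Ω] {F : Subgroup C}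
    (hF : Odd (Nat.card F)) (x : Ω) : Odd (orbit F x).ncard :=
  hF.of_dvd_nat ⟨_, (card_mul F x).symm⟩

theorem exists_ncard {Ω : Type*} [MulAction C Ω] [Finite Ω] (K F : Subgroup C) (x : Ω)
    (h1 : ∀ g ∈ K, ∃ f ∈ F, g • x = f • x) (h2 : ∀ f ∈ F, ∃ g ∈ K, g • x = f • x) :
    ∃ n : ℕ, n * Nat.card (F ⊓ stabilizer C x : Subgroup C) = Nat.card F ∧
      n * Nat.card (K ⊓ stabilizer C x : Subgroup C) = Nat.card K := by
  refine ⟨(orbit F x).ncard, card_mul F x, ?_⟩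
  have h3 : orbit F x = orbit K x := by
    ext y
    rw [mem_orbit', mem_orbit']
    constructor
    · rintro ⟨f, hf, rfl⟩
      exact h2 f hf
    · rintro ⟨g, hg, rfl⟩
      obtain ⟨f, hf, he⟩ := h1 g hg
      exact ⟨f, hf, he.symm⟩
  rw [h3]
  exact card_mul K x

/-- If all stabilisers in `F` have the same order `m` then `|F|` divides `m |Ω|`. -/
theorem card_dvd_of_stab {Ω : Type*} [MulAction C Ω] [Finite Ω] {F : Subgroup C} {m : ℕ}
    (hm : ∀ x : Ω, Nat.card (F ⊓ stabilizer C x : Subgroup C) = m) (hmF : m ∣ Nat.card F) :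
    Nat.card F ∣ m * Nat.card Ω := by
  classical
  have := Fintype.ofFinite Ω
  have := Fintype.ofFinite F
  have := Fintype.ofFinite (Quotient (orbitRel F Ω))
  have h2 := MulAction.card_eq_sum_card_group_div_card_stabilizer F Ω
  have h3 : ∀ x : Ω, Fintype.card F / Fintype.card (stabilizer F x) = Nat.card F / m := by
    intro x
    rw [← hm x, Nat.card_eq_fintype_card (α := F), ← Nat.card_eq_fintype_card (α := stabilizer F x)]
    congr 1
    refine Nat.card_congr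
      { toFun := fun g => ⟨g.1, g.1.2, g.2⟩
        invFun := fun g => ⟨⟨g.1, g.2.1⟩, g.2.2⟩
        left_inv := fun g => rfl
        right_inv := fun g => rfl }
  have h5 : Nat.card Ω = Fintype.card (Quotient (orbitRel F Ω)) * (Nat.card F / m) := by
    rw [Nat.card_eq_fintype_card, h2, Finset.sum_congr rfl (g := fun _ => Nat.card F / m)
      (fun ω _ => h3 ω.out), Finset.sum_const, Finset.card_univ, smul_eq_mul]
  refine ⟨Fintype.card (Quotient (orbitRel F Ω)), ?_⟩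
  rw [h5, mul_left_comm, Nat.mul_div_cancel' hmF, mul_comm]

/-- Gleason's lemma for a subgroup. -/
theorem card_dvd_of_fix {Ω : Type*} [MulAction C Ω] [Finite Ω] {F : Subgroup C} {p : ℕ}
    (hp : p.Prime) (x₀ : Ω)
    (h : ∀ x : Ω, ∃ w ∈ F, orderOf w = p ∧ w • x = x ∧ ∀ y, w • y = y → y = x) :
    Nat.card Ω ∣ Nat.card F := by
  have key : IsPretransitive F Ω := by
    refine Cfsg.Agent.PermutationGroups.Gleason.isPretransitive hp fun x => ?_
    obtain ⟨w, hw, hwo, hwx, hwy⟩ := h x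
    refine ⟨Subgroup.zpowers (⟨w, hw⟩ : F), ?_, ?_⟩
    · refine IsPGroup.of_card (n := 1) ?_
      rw [Nat.card_zpowers, ← Subgroup.orderOf_coe, hwo, pow_one]
    · ext y
      simp only [mem_fixedPoints, Set.mem_singleton_iff]
      constructor
      · intro hy
        exact hwy y (hy ⟨⟨w, hw⟩, Subgroup.mem_zpowers _⟩)
      · rintro rfl
        have h1 : (⟨w, hw⟩ : F) ∈ stabilizer F y := hwx
        rintro ⟨g, hg⟩
        exact (Subgroup.zpowers_le.2 h1) hg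
  have h3 := card_mul F x₀
  have h4 : orbit F x₀ = Set.univ := orbit_eq_univ F x₀
  rw [h4, Set.ncard_univ] at h3
  exact ⟨_, h3.symm⟩

section SplitTorus

variable (hb : Base q Z U) (h₁ : Torus q 1 Z T₁ s₁) (hn : ∀ τ ∈ T₁, ∀ v ∈ U, τ * v * τ⁻¹ ∈ U)

include hb h₁ hn

/-- `T₁` is transitive on the nontrivial elements of `U`. -/
theorem T₁_conj_trans (hq : 3 ≤ q) {v w : C} (hv : v ∈ U) (hv1 : v ≠ 1) (hw : w ∈ U)
    (hw1 : w ≠ 1) : ∃ τ ∈ T₁, τ * v * τ⁻¹ = w := by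
  have hne := zer_ne hb h₁ hn hq
  have h1 : ∀ x ∈ U, x • zer U s₁ ≠ inf U := fun x hx h2 => hne (by
    have h3 : x • inf U = inf U := (smul_inf hb h₁ hn).2 (U_le_N hx)
    exact MulAction.injective x (h2.trans h3.symm))
  obtain ⟨τ, hτ, he⟩ := T₁_trans hb h₁ hn hq (x := v • zer U s₁) (y := w • zer U s₁) (h1 v hv)
    (fun h2 => hv1 (semireg hb h₁ hn hv hne h2)) (h1 w hw)
    (fun h2 => hw1 (semireg hb h₁ hn hw hne h2))
  refine ⟨τ, hτ, ?_⟩
  have h2 : (w⁻¹ * (τ * v * τ⁻¹)) • zer U s₁ = zer U s₁ := by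
    rw [mul_smul, mul_smul, T₁_zer hb h₁ hn (inv_mem hτ), mul_smul, he, inv_smul_smul]
  have h3 := semireg hb h₁ hn (mul_mem (inv_mem hw) (hn τ hτ v hv)) hne h2
  exact (inv_mul_eq_one.1 h3).symm

/-- A `T₁`-invariant subgroup of odd order fixes infinity or zero. -/
theorem fix_split (hq : 3 ≤ q) {F : Subgroup C} (hF : Odd (Nat.card F))
    (hT : ∀ τ ∈ T₁, ∀ f ∈ F, τ * f * τ⁻¹ ∈ F) :
    (∀ f ∈ F, f • inf U = inf U) ∨ (∀ f ∈ F, f • zer U s₁ = zer U s₁) := by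
  have hne := zer_ne hb h₁ hn hq
  have hfinΩ : Finite (C ⧸ N U) := inferInstance
  set O := orbit F (inf U) with hO
  have hodd : Odd O.ncard := odd_orbit hF _
  have hinf : inf U ∈ O := mem_orbit_self _
  have hOF : ∀ f ∈ F, ∀ x, f • x ∈ O → x ∈ O := by
    intro f hf x hx
    obtain ⟨g, hg, he⟩ := mem_orbit'.1 hx
    exact mem_orbit'.2 ⟨f⁻¹ * g, mul_mem (inv_mem hf) hg, by rw [mul_smul, he, inv_smul_smul]⟩
  have hOT : ∀ τ ∈ T₁, ∀ x ∈ O, τ • x ∈ O := by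
    intro τ hτ x hx
    obtain ⟨g, hg, he⟩ := mem_orbit'.1 hx
    refine mem_orbit'.2 ⟨τ * g * τ⁻¹, hT τ hτ g hg, ?_⟩
    have h2 : τ⁻¹ • inf U = inf U :=
      (smul_inf hb h₁ hn).2 (T₁_le_N hb h₁ hn (inv_mem hτ))
    rw [mul_smul, mul_smul, h2, he]
  by_cases hcase : ∃ y ∈ O, y ≠ inf U ∧ y ≠ zer U s₁
  · obtain ⟨y, hyO, hy1, hy2⟩ := hcase
    have hall : ∀ x, x ≠ inf U → x ≠ zer U s₁ → x ∈ O := by
      intro x hx1 hx2
      obtain ⟨τ, hτ, he⟩ := T₁_trans hb h₁ hn hq hy1 hy2 hx1 hx2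
      exact he ▸ hOT τ hτ y hyO
    by_cases hz : zer U s₁ ∈ O
    · exfalso
      have h1 : O = Set.univ := by
        ext x
        simp only [Set.mem_univ, iff_true]
        by_cases h2 : x = inf U
        · exact h2 ▸ hinf
        · by_cases h3 : x = zer U s₁
          · exact h3 ▸ hz
          · exact hall x h2 h3
      rw [h1, Set.ncard_univ, card_line hb h₁ hn] at hodd
      have h2 := hb.odd_q
      rcases hodd with ⟨a, ha⟩
      rcases h2 with ⟨b, hb'⟩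
      omega
    · right
      intro f hf
      by_contra h1
      apply hz
      refine hOF f hf _ ?_
      by_cases h2 : f • zer U s₁ = inf U
      · rw [h2]; exact hinf
      · exact hall _ h2 h1
  · left
    push Not at hcase
    intro f hf
    by_contra h1
    have h2 : f • inf U ∈ O := mem_orbit'.2 ⟨f, hf, rfl⟩
    have h3 := hcase _ h2 h1
    have h4 : O = {inf U, zer U s₁} := by
      ext x
      simp only [Set.mem_insert_iff, Set.mem_singleton_iff]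
      constructor
      · intro hx
        by_cases h5 : x = inf U
        · exact Or.inl h5
        · exact Or.inr (hcase x hx h5)
      · rintro (rfl | rfl)
        · exact hinf
        · exact h3 ▸ h2
    rw [h4, Set.ncard_pair hne.symm] at hodd
    exact absurd hodd (by decide)

/-- A `T₁`-invariant subgroup of `N U` is contained in `T₁` or contains `U`. -/
theorem le_or_le (hq : 3 ≤ q) {F : Subgroup C} (hF : F ≤ N U)
    (hT : ∀ τ ∈ T₁, ∀ f ∈ F, τ * f * τ⁻¹ ∈ F) : F ≤ T₁ ∨ U ≤ F := by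
  by_cases hcase : F ≤ T₁
  · exact Or.inl hcase
  right
  obtain ⟨f, hf, hfT⟩ := Set.not_subset.1 hcase
  obtain ⟨v, hv, σ, hσ, rfl⟩ := exists_of_N hb h₁ hn (hF hf)
  have hv1 : v ≠ 1 := by
    rintro rfl
    rw [one_mul] at hfT
    exact hfT hσ
  obtain ⟨τ, hτ, hτZ⟩ := exists_T₁_notMem hb h₁ hn hq
  have h1 : τ * v * τ⁻¹ * v⁻¹ ∈ F := by
    have h2 : τ * v * τ⁻¹ * v⁻¹ = (τ * (v * σ) * τ⁻¹) * (v * σ)⁻¹ := by
      have h3 := h₁.comm τ hτ σ hσ
      calc τ * v * τ⁻¹ * v⁻¹ = τ * v * (σ * τ⁻¹ * σ⁻¹) * v⁻¹ := by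
            have h4 : σ * τ⁻¹ * σ⁻¹ = τ⁻¹ := by
              calc σ * τ⁻¹ * σ⁻¹ = τ⁻¹ * (τ * σ) * τ⁻¹ * σ⁻¹ := by group
                _ = τ⁻¹ := by rw [h3]; group
            rw [h4]
        _ = (τ * (v * σ) * τ⁻¹) * (v * σ)⁻¹ := by group
    rw [h2]
    exact mul_mem (hT τ hτ _ hf) (inv_mem hf)
  have h2 : τ * v * τ⁻¹ * v⁻¹ ∈ U := mul_mem (hn τ hτ v hv) (inv_mem hv)
  have h3 : τ * v * τ⁻¹ * v⁻¹ ≠ 1 := by
    intro h4
    apply hτZ
    refine mem_Z_of_T₁_ZU hb h₁ hn hτ (hb.mem_ZU.2 (hb.cent_U v hv hv1 τ ?_))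
    calc τ * v = (τ * v * τ⁻¹ * v⁻¹) * (v * τ) := by group
      _ = v * τ := by rw [h4, one_mul]
  intro w hw
  by_cases hw1 : w = 1
  · rw [hw1]; exact one_mem F
  obtain ⟨τ', hτ', he⟩ := T₁_conj_trans hb h₁ hn hq h2 h3 hw hw1
  rw [← he]
  exact hT τ' hτ' _ h1

/-- **Odd order subgroups normalised by the split torus.** -/
theorem odd_split (hq : 3 ≤ q) {F : Subgroup C} (hF : Odd (Nat.card F))
    (hT : ∀ τ ∈ T₁, ∀ f ∈ F, τ * f * τ⁻¹ ∈ F) :
    F ≤ T₁ ∨ (U ≤ F ∧ F ≤ N U) ∨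
      ((∀ v ∈ U, s₁ * v * s₁⁻¹ ∈ F) ∧ F ≤ stabilizer C (zer U s₁)) := by
  rcases fix_split hb h₁ hn hq hF hT with h1 | h1
  · have h2 : F ≤ N U := fun f hf => (smul_inf hb h₁ hn).1 (h1 f hf)
    rcases le_or_le hb h₁ hn hq h2 hT with h3 | h3
    · exact Or.inl h3
    · exact Or.inr (Or.inl ⟨h3, h2⟩)
  · -- conjugate by `s₁`
    have hs : ∀ x : C, s₁⁻¹ * x * s₁ = s₁ * x * s₁⁻¹ := fun x => by rw [h₁.s_inv]
    set F' : Subgroup C := F.map (MulAut.conj s₁).toMonoidHom with hF'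
    have hmem : ∀ x, x ∈ F' ↔ s₁ * x * s₁⁻¹ ∈ F := by
      intro x
      constructor
      · rintro ⟨y, hy, rfl⟩
        change s₁ * (s₁ * y * s₁⁻¹) * s₁⁻¹ ∈ F
        rw [h₁.s_conj_conj]
        exact hy
      · intro hx
        exact ⟨_, hx, h₁.s_conj_conj x⟩
    have hF'N : F' ≤ N U := by
      rintro _ ⟨f, hf, rfl⟩
      rw [← smul_inf hb h₁ hn]
      have h2 := h1 f hf
      change (s₁ * f * s₁⁻¹) • inf U = inf U
      have h3 : s₁ • inf U = zer U s₁ := by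
        change ((s₁ * 1 : C) : C ⧸ N U) = ((s₁ : C) : C ⧸ N U)
        rw [mul_one]
      have h4 : s₁⁻¹ • inf U = zer U s₁ := by rw [h₁.s_inv, h3]
      have h5 : s₁ • zer U s₁ = inf U := by rw [← h4, smul_inv_smul]
      rw [mul_smul, mul_smul, h4, h2, h5]
    have hT' : ∀ τ ∈ T₁, ∀ f ∈ F', τ * f * τ⁻¹ ∈ F' := by
      intro τ hτ f hf
      rw [hmem] at hf ⊢
      have h2 := hT _ (h₁.s_conj τ hτ) _ hf
      have h3 : s₁ * τ * s₁⁻¹ * (s₁ * f * s₁⁻¹) * (s₁ * τ * s₁⁻¹)⁻¹ =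
          s₁ * (τ * f * τ⁻¹) * s₁⁻¹ := by group
      rwa [h3] at h2
    rcases le_or_le hb h₁ hn hq hF'N hT' with h3 | h3
    · left
      intro f hf
      have h4 : s₁ * f * s₁⁻¹ ∈ F' := by
        rw [hmem, h₁.s_conj_conj]
        exact hf
      have h5 := h₁.s_conj _ (h3 h4)
      rwa [h₁.s_conj_conj] at h5
    · exact Or.inr (Or.inr ⟨fun v hv => (hmem v).1 (h3 hv), fun f hf => h1 f hf⟩)

/-- `T ∩ N U = Z` for the nonsplit torus. -/
theorem T_inf (h : Torus q (-1) Z T s) : T ⊓ N U = Z := by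
  have := Fintype.ofFinite C
  ext τ
  constructor
  · rintro ⟨hτ, h3⟩
    by_contra hZ
    have h4 := h.conj_notMem_ZU hb hτ hZ 1
    rw [inv_one, one_mul, mul_one] at h4
    obtain ⟨w, hw, hwT⟩ := exists_conj_T₁ hb h₁ hn h3 h4
    exact h.conj_notMem_torus h₁ (by norm_num) hb.Z_central hτ hZ w hwT
  · intro hτ
    exact ⟨h.Z_le hτ, T₁_le_N hb h₁ hn (h₁.Z_le hτ)⟩

/-- Semiregular case. -/
theorem le_T_of_semireg (h : Torus q (-1) Z T s) (hq : 3 ≤ q) {F : Subgroup C}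
    (hF : Odd (Nat.card F)) (hT : ∀ τ ∈ T, ∀ f ∈ F, τ * f * τ⁻¹ ∈ F) (hK : F ⊓ N U ≤ Z) :
    F ≤ T := by
  classical
  have hfinΩ : Finite (C ⧸ N U) := inferInstance
  -- the stabilisers
  have hst : ∀ x : C ⧸ N U, F ⊓ stabilizer C x = F ⊓ Z := by
    intro x
    obtain ⟨τ, hτ, rfl⟩ := T_trans hb h₁ hn h x
    ext f
    constructor
    · rintro ⟨hf, hfx⟩
      refine ⟨hf, ?_⟩
      have h1 : τ⁻¹ * f * τ ∈ F := by
        have h2 := hT τ⁻¹ (inv_mem hτ) f hf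
        rwa [inv_inv] at h2
      have h2 : τ⁻¹ * f * τ ∈ N U := by
        rw [← smul_inf hb h₁ hn, mul_smul, mul_smul]
        have h3 : f • τ • inf U = τ • inf U := hfx
        rw [h3, inv_smul_smul]
      have h3 := hK ⟨h1, h2⟩
      have h4 : f = τ * (τ⁻¹ * f * τ) * τ⁻¹ := by group
      rw [h4, hb.Z_central _ h3 τ, mul_assoc, mul_inv_cancel, mul_one]
      exact h3
    · rintro ⟨hf, hfZ⟩
      exact ⟨hf, (sharp hb h₁ hn hq).ker f hfZ _⟩
  have hz0 : 0 < Nat.card (F ⊓ Z : Subgroup C) := Nat.card_pos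
  -- `|F|` divides `|F ∩ Z| (q + 1)`
  have h1 : Nat.card F ∣ Nat.card (F ⊓ Z : Subgroup C) * (q + 1) := by
    have h2 := card_dvd_of_stab (Ω := C ⧸ N U) (F := F) (m := Nat.card (F ⊓ Z : Subgroup C))
      (fun x => by rw [hst x]) (Subgroup.card_dvd_of_le inf_le_left)
    rwa [card_line hb h₁ hn] at h2
  -- the orbit of `F` on the cosets of `T`
  set x₀ : C ⧸ T := ((1 : C) : C ⧸ T) with hx₀
  have hfix : ∀ τ ∈ T, τ • x₀ = x₀ := by
    intro τ hτ
    change ((τ * 1 : C) : C ⧸ T) = ((1 : C) : C ⧸ T)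
    rw [QuotientGroup.eq, mul_one, mul_one]
    exact inv_mem hτ
  have hstT : stabilizer C x₀ = T := by
    rw [hx₀]
    exact MulAction.stabilizer_quotient T
  obtain ⟨S₁, hS₁⟩ : ∃ S₁ : Subgroup C, ∀ g, g ∈ S₁ ↔ g ∈ N U ∧ ∃ f ∈ F, ∃ τ ∈ T, g = f * τ :=
   ⟨{ carrier := {g | g ∈ N U ∧ ∃ f ∈ F, ∃ τ ∈ T, g = f * τ}
      one_mem' := ⟨one_mem _, 1, one_mem F, 1, one_mem T, by rw [one_mul]⟩
      mul_mem' := by
        rintro _ _ ⟨ha, f, hf, τ, hτ, rfl⟩ ⟨hb', f', hf', τ', hτ', rfl⟩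
        exact ⟨mul_mem ha hb', f * (τ * f' * τ⁻¹), mul_mem hf (hT τ hτ f' hf'), τ * τ',
          mul_mem hτ hτ', by group⟩
      inv_mem' := by
        rintro _ ⟨ha, f, hf, τ, hτ, rfl⟩
        refine ⟨inv_mem ha, τ⁻¹ * f⁻¹ * τ, ?_, τ⁻¹, inv_mem hτ, by group⟩
        have h2 := hT τ⁻¹ (inv_mem hτ) _ (inv_mem hf)
        rwa [inv_inv] at h2 }, fun _ => Iff.rfl⟩
  obtain ⟨n, hFn, hSn⟩ := exists_ncard S₁ F x₀ (by
      intro g hg
      obtain ⟨-, f, hf, τ, hτ, rfl⟩ := (hS₁ g).1 hg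
      exact ⟨f, hf, by rw [mul_smul, hfix τ hτ]⟩) (by
      intro f hf
      obtain ⟨τ, hτ, he⟩ := T_trans hb h₁ hn h (f⁻¹ • inf U)
      refine ⟨f * τ, (hS₁ _).2 ⟨?_, f, hf, τ, hτ, rfl⟩, by rw [mul_smul, hfix τ hτ]⟩
      rw [← smul_inf hb h₁ hn, mul_smul, he, smul_inv_smul])
  rw [hstT] at hFn hSn
  have hST : S₁ ⊓ T = Z := by
    ext g
    constructor
    · rintro ⟨hg, hgT⟩
      rw [← T_inf hb h₁ hn h]
      exact ⟨hgT, ((hS₁ g).1 hg).1⟩
    · intro hg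
      exact ⟨(hS₁ g).2 ⟨T₁_le_N hb h₁ hn (h₁.Z_le hg), 1, one_mem F, g, h.Z_le hg,
        by rw [one_mul]⟩, h.Z_le hg⟩
  rw [hST] at hSn
  have h2 : n ∣ q * (q - 1) := by
    have h3 : Nat.card S₁ ∣ Nat.card (N U) := Subgroup.card_dvd_of_le fun g hg => ((hS₁ g).1 hg).1
    rw [← hSn, card_N hb h₁ hn] at h3
    have h4 : q * (Nat.card Z * (q - 1)) = (q * (q - 1)) * Nat.card Z := by ring
    rw [h4] at h3
    exact Nat.dvd_of_mul_dvd_mul_right Nat.card_pos h3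
  have h3 : n ∣ q + 1 := by
    obtain ⟨e, he⟩ : Nat.card (F ⊓ Z : Subgroup C) ∣ Nat.card (F ⊓ T : Subgroup C) :=
      Subgroup.card_dvd_of_le (inf_le_inf_left F h.Z_le)
    have h4 := h1
    rw [← hFn, he] at h4
    have h5 : Nat.card (F ⊓ Z : Subgroup C) * (n * e) ∣ Nat.card (F ⊓ Z : Subgroup C) * (q + 1) := by
      have h6 : Nat.card (F ⊓ Z : Subgroup C) * (n * e) =
          n * (Nat.card (F ⊓ Z : Subgroup C) * e) := by ring
      rw [h6]
      exact h4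
    exact (Dvd.intro _ rfl).trans (Nat.dvd_of_mul_dvd_mul_left hz0 h5)
  have hnodd : Odd n := hF.of_dvd_nat ⟨_, hFn.symm⟩
  have h4 : n = 1 := by
    have hc1 : n.Coprime q := by
      have h5 : (q + 1).Coprime q := by simp
      exact Nat.Coprime.coprime_dvd_left h3 h5
    have hc2 : n ∣ q - 1 := hc1.dvd_of_dvd_mul_left h2
    have h5 : n ∣ 2 := by
      have h6 := Nat.dvd_sub h3 hc2
      have h7 : q + 1 - (q - 1) = 2 := by omega
      rwa [h7] at h6
    rcases (Nat.dvd_prime Nat.prime_two).1 h5 with h6 | h6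
    · exact h6
    · rw [h6] at hnodd
      exact absurd hnodd (by decide)
  rw [h4, one_mul] at hFn
  have h5 := Subgroup.eq_of_le_of_card_ge (H := F ⊓ T) (K := F) inf_le_left hFn.ge
  rw [← h5]
  exact inf_le_right

/-- no `p`-elements. -/
theorem inf_U_eq_bot (h : Torus q (-1) Z T s) {F : Subgroup C}
    (hF : Odd (Nat.card F)) (hT : ∀ τ ∈ T, ∀ f ∈ F, τ * f * τ⁻¹ ∈ F) : F ⊓ U = ⊥ := by
  by_contra hcon
  obtain ⟨p, hp, hpd⟩ := Nat.exists_prime_and_dvd
    (n := Nat.card (F ⊓ U : Subgroup C)) (fun h1 => hcon (Subgroup.card_eq_one.1 h1))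
  have := Fact.mk hp
  obtain ⟨w, hw⟩ := exists_prime_orderOf_dvd_card' (G := (F ⊓ U : Subgroup C)) p hpd
  have hwF : (w : C) ∈ F := w.2.1
  have hwU : (w : C) ∈ U := w.2.2
  have hwo : orderOf (w : C) = p := by rw [Subgroup.orderOf_coe]; exact hw
  have hfinΩ : Finite (C ⧸ N U) := inferInstance
  have h2 : Nat.card (C ⧸ N U) ∣ Nat.card F := by
    refine card_dvd_of_fix hp (inf U) fun x => ?_
    obtain ⟨τ, hτ, rfl⟩ := T_trans hb h₁ hn h x
    refine ⟨τ * w * τ⁻¹, hT τ hτ _ hwF, ?_, ?_, ?_⟩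
    · have h3 := orderOf_injective (MulAut.conj τ).toMonoidHom (MulAut.conj τ).injective (w : C)
      rw [← hwo]
      exact h3
    · rw [mul_smul, inv_smul_smul, mul_smul, (smul_inf hb h₁ hn).2 (U_le_N hwU)]
    · intro y h2
      by_contra hne
      have h3 : (w : C) • (τ⁻¹ • y) = τ⁻¹ • y := by
        rw [mul_smul, mul_smul] at h2
        rw [eq_inv_smul_iff]
        exact h2
      have h4 : τ⁻¹ • y ≠ inf U := by
        intro h5
        apply hne
        rw [← h5, smul_inv_smul]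
      have h5 := semireg hb h₁ hn hwU h4 h3
      rw [h5, orderOf_one] at hwo
      exact hp.one_lt.ne hwo
  rw [card_line hb h₁ hn] at h2
  have h3 := hF.of_dvd_nat h2
  rcases h3 with ⟨a, ha⟩
  rcases hb.odd_q with ⟨b, hb'⟩
  omega

/-- `F ∩ ZU ≤ Z`. -/
theorem inf_ZU_le {F : Subgroup C} (hFU : F ⊓ U = ⊥) {f : C} (hf : f ∈ F) (hfZ : f ∈ hb.ZU) :
    f ∈ Z := by
  obtain ⟨z, hz, v, hv, rfl⟩ := hb.mem_ZU.1 hfZ
  have hc : Commute z v := (hb.Z_central z hz v).symm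
  have h1 : (z * v) ^ Nat.card Z = v ^ Nat.card Z := by
    rw [hc.mul_pow]
    have h2 : z ^ Nat.card Z = 1 := by
      have h3 := pow_card_eq_one' (x := (⟨z, hz⟩ : Z))
      exact congrArg Subtype.val h3
    rw [h2, one_mul]
  have h2 : v ^ Nat.card Z ∈ F ⊓ U := Subgroup.mem_inf.2 ⟨h1 ▸ pow_mem hf _, pow_mem hv _⟩
  rw [hFU, Subgroup.mem_bot] at h2
  have h3 : v = 1 := by
    have h4 : orderOf v ∣ Nat.card Z := orderOf_dvd_of_pow_eq_one h2
    have h5 : orderOf v ∣ q := orderOf_dvd_of_pow_eq_one (hb.pow_card_U hv)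
    exact orderOf_eq_one_iff.1 (Nat.eq_one_of_dvd_coprimes hb.coprime h4 h5)
  rw [h3, mul_one]
  exact hz

/-- **Odd order subgroups normalised by the nonsplit torus.** -/
theorem odd_nonsplit (h : Torus q (-1) Z T s) (hq : 3 ≤ q) {F : Subgroup C}
    (hF : Odd (Nat.card F)) (hT : ∀ τ ∈ T, ∀ f ∈ F, τ * f * τ⁻¹ ∈ F) : F ≤ T := by
  by_cases hK : F ⊓ N U ≤ Z
  · exact le_T_of_semireg hb h₁ hn h hq hF hT hK
  have hS := sharp hb h₁ hn hq
  have hFU := inf_U_eq_bot hb h₁ hn h hF hT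
  obtain ⟨f₀, hf₀F, hf₀Z⟩ := Set.not_subset.1 hK
  have hf₀ : f₀ ∈ F := (Subgroup.mem_inf.1 hf₀F).1
  have hf₀N : f₀ ∈ N U := (Subgroup.mem_inf.1 hf₀F).2
  have hf₀ZU : f₀ ∉ hb.ZU := fun h1 => hf₀Z (inf_ZU_le hb h₁ hn hFU hf₀ h1)
  obtain ⟨w, hw, hwT⟩ := exists_conj_T₁ hb h₁ hn hf₀N hf₀ZU
  have hne := zer_ne hb h₁ hn hq
  set m := w • zer U s₁ with hm
  have hminf : m ≠ inf U := fun h1 => hne (by
    have h3 : w • inf U = inf U := (smul_inf hb h₁ hn).2 (U_le_N hw)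
    exact MulAction.injective w (h1.trans h3.symm))
  have hf₀m : f₀ • m = m := by
    have h1 : f₀ = w * (w⁻¹ * f₀ * w) * w⁻¹ := by group
    rw [hm, h1, mul_smul, inv_smul_smul, mul_smul, T₁_zer hb h₁ hn hwT]
  have hf₀i : f₀ • inf U = inf U := (smul_inf hb h₁ hn).2 hf₀N
  -- only two fixed points
  have htwo : ∀ g : C, g ∉ Z → g • inf U = inf U → g • m = m → ∀ x, g • x = x →
      x ≠ inf U → x = m := by
    intro g hg h1 h2 x h3 h4
    by_contra h5
    exact hg (hS.sharp (inf U) m x hminf.symm h4 h5 g h1 h2 h3)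
  -- the stabiliser of infinity in `F` fixes `m`
  have hKm : ∀ f ∈ F, f • inf U = inf U → f • m = m := by
    intro f hf hfi
    have hfN := (smul_inf hb h₁ hn).1 hfi
    have h1 : f₀ * f * f₀⁻¹ * f⁻¹ = 1 := by
      have h2 : f₀ * f * f₀⁻¹ * f⁻¹ ∈ F ⊓ U := by
        refine Subgroup.mem_inf.2 ⟨mul_mem (mul_mem (mul_mem hf₀ hf) (inv_mem hf₀)) (inv_mem hf), ?_⟩
        obtain ⟨v, hv, τ, hτ, rfl⟩ := exists_of_N hb h₁ hn hf₀N
        obtain ⟨v', hv', τ', hτ', rfl⟩ := exists_of_N hb h₁ hn hfN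
        have h3 : v * τ * (v' * τ') * (v * τ)⁻¹ * (v' * τ')⁻¹ =
            v * (τ * v' * τ⁻¹) * (τ' * v⁻¹ * τ'⁻¹) * v'⁻¹ := by
          have h4 := h₁.comm τ hτ τ' hτ'
          have h5 : τ * τ' * τ⁻¹ = τ' := by rw [h4]; group
          calc v * τ * (v' * τ') * (v * τ)⁻¹ * (v' * τ')⁻¹
              = v * (τ * v' * τ⁻¹) * (τ * τ' * τ⁻¹) * v⁻¹ * τ'⁻¹ * v'⁻¹ := by group
            _ = v * (τ * v' * τ⁻¹) * (τ' * v⁻¹ * τ'⁻¹) * v'⁻¹ := by rw [h5]; group
        rw [h3]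
        exact mul_mem (mul_mem (mul_mem hv (hn _ hτ _ hv')) (hn _ hτ' _ (inv_mem hv)))
          (inv_mem hv')
      rw [hFU] at h2
      exact Subgroup.mem_bot.1 h2
    have h2 : f₀ * f = f * f₀ := by
      calc f₀ * f = (f₀ * f * f₀⁻¹ * f⁻¹) * (f * f₀) := by group
        _ = f * f₀ := by rw [h1, one_mul]
    refine htwo f₀ hf₀Z hf₀i hf₀m (f • m) ?_ ?_
    · rw [← mul_smul, h2, mul_smul, hf₀m]
    · intro h3
      exact hminf (MulAction.injective f (h3.trans hfi.symm))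
  -- the map `mate`
  obtain ⟨τ₀, hτ₀, hτ₀m⟩ := T_trans hb h₁ hn h m
  have hmate : ∀ f ∈ F, ∀ τ ∈ T, f • inf U = τ • inf U → f • m = τ • m := by
    intro f hf τ hτ he
    have h1 : (τ⁻¹ * f) • inf U = inf U := by rw [mul_smul, he, inv_smul_smul]
    set f₁ := (τ⁻¹ * f) * f₀ * (τ⁻¹ * f)⁻¹ with hf₁
    have hf₁F : f₁ ∈ F := by
      have h2 := hT τ⁻¹ (inv_mem hτ) _ (mul_mem (mul_mem hf hf₀) (inv_mem hf))
      have h3 : f₁ = τ⁻¹ * (f * f₀ * f⁻¹) * τ⁻¹⁻¹ := by rw [hf₁]; group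
      rw [h3]
      exact h2
    have h2 : (τ⁻¹ * f)⁻¹ • inf U = inf U := by
      rw [inv_smul_eq_iff]
      exact h1.symm
    have hf₁i : f₁ • inf U = inf U := by
      rw [hf₁, mul_smul, mul_smul, h2, hf₀i, h1]
    have hf₁m := hKm f₁ hf₁F hf₁i
    have hf₁Z : f₁ ∉ Z := by
      intro h3
      apply hf₀Z
      have h4 : f₀ = (τ⁻¹ * f)⁻¹ * f₁ * (τ⁻¹ * f) := by rw [hf₁]; group
      rw [h4, hb.Z_central _ h3, mul_assoc, inv_mul_cancel, mul_one]
      exact h3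
    have h3 : (τ⁻¹ * f) • m = m := by
      refine htwo f₁ hf₁Z hf₁i hf₁m _ ?_ ?_
      · have h4 : f₁ * (τ⁻¹ * f) = (τ⁻¹ * f) * f₀ := by rw [hf₁]; group
        rw [← mul_smul, h4, mul_smul, hf₀m]
      · intro h4
        exact hminf (MulAction.injective _ (h4.trans h1.symm))
    rw [mul_smul, inv_smul_eq_iff] at h3
    exact h3
  have hcomm : ∀ f ∈ F, ∀ x : C ⧸ N U, f • τ₀ • x = τ₀ • f • x := by
    -- first at infinity
    have h1 : ∀ f ∈ F, f • τ₀ • inf U = τ₀ • f • inf U := by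
      intro f hf
      obtain ⟨τ, hτ, he⟩ := T_trans hb h₁ hn h (f • inf U)
      have h2 := hmate f hf τ hτ he.symm
      rw [hτ₀m, h2, ← hτ₀m, ← he, ← mul_smul, ← mul_smul, h.comm τ hτ τ₀ hτ₀]
    intro f hf x
    obtain ⟨τ, hτ, rfl⟩ := T_trans hb h₁ hn h x
    have hf' : τ⁻¹ * f * τ ∈ F := by
      have h2 := hT τ⁻¹ (inv_mem hτ) f hf
      rwa [inv_inv] at h2
    have h2 := h1 _ hf'
    have h3 : f • τ₀ • τ • inf U = τ • ((τ⁻¹ * f * τ) • τ₀ • inf U) := by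
      rw [← mul_smul, ← mul_smul, ← mul_smul, ← mul_smul]
      congr 1
      have h4 := h.comm τ₀ hτ₀ τ hτ
      calc f * τ₀ * τ = f * (τ₀ * τ) := by group
        _ = f * (τ * τ₀) := by rw [h4]
        _ = τ * (τ⁻¹ * f * τ) * τ₀ := by group
    rw [h3, h2, ← mul_smul, ← mul_smul, ← mul_smul, ← mul_smul]
    congr 1
    have h4 := h.comm τ₀ hτ₀ τ hτ
    calc τ * τ₀ * (τ⁻¹ * f * τ) = (τ * τ₀) * τ⁻¹ * f * τ := by group
      _ = (τ₀ * τ) * τ⁻¹ * f * τ := by rw [h4]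
      _ = τ₀ * f * τ := by group
  have hτ₀Z : τ₀ ∉ Z := by
    intro h1
    apply hminf
    rw [← hτ₀m, hS.ker τ₀ h1]
  intro f hf
  have h1 : (τ₀ * f)⁻¹ * (f * τ₀) ∈ Z := by
    by_contra hg
    have h2 := hS.mem_of_fix hg
    have h3 : fixedBy (C ⧸ N U) ((τ₀ * f)⁻¹ * (f * τ₀)) = Set.univ := by
      ext x
      simp only [mem_fixedBy, Set.mem_univ, iff_true]
      rw [mul_smul, mul_smul f, hcomm f hf x, ← mul_smul τ₀, inv_smul_smul]
    rw [h3, Set.ncard_univ, card_line hb h₁ hn] at h2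
    omega
  have h2 : f * τ₀ * f⁻¹ ∈ T := by
    have h3 : f * τ₀ * f⁻¹ = τ₀ * (f * ((τ₀ * f)⁻¹ * (f * τ₀))) * f⁻¹ := by group
    rw [h3, hb.Z_central _ h1 f]
    have h4 : τ₀ * ((τ₀ * f)⁻¹ * (f * τ₀) * f) * f⁻¹ = τ₀ * ((τ₀ * f)⁻¹ * (f * τ₀)) := by group
    rw [h4]
    exact mul_mem hτ₀ (h.Z_le h1)
  rcases h.fus τ₀ hτ₀ hτ₀Z f h2 with h3 | h3
  · exact h3
  · -- `s f ∈ T`
    have h4 : f * f ∈ T := by
      have h5 := h.s_norm _ h3
      have h6 : s * f * (s * (s * f) * s⁻¹) = s * (f * f) * s⁻¹ := by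
        calc s * f * (s * (s * f) * s⁻¹) = s * f * ((s * s) * f * s⁻¹) := by group
          _ = s * (f * f) * s⁻¹ := by rw [h.s_sq]; group
      rw [h6] at h5
      have h7 : f * f = s⁻¹ * (s * (f * f) * s⁻¹) * s := by group
      rw [h7, hb.Z_central _ h5 s⁻¹, mul_assoc, inv_mul_cancel, mul_one]
      exact h.Z_le h5
    obtain ⟨k, hk⟩ := hF
    have h5 : f ^ Nat.card F = 1 := by
      have h6 := pow_card_eq_one' (x := (⟨f, hf⟩ : F))
      exact congrArg Subtype.val h6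
    have h6 : f = (f * f) ^ (k + 1) := by
      rw [← sq, ← pow_mul, show 2 * (k + 1) = Nat.card F + 1 by omega, pow_succ, h5, one_mul]
    rw [h6]
    exact pow_mem h4 _

/-- `u ∈ T₁ ∖ Z` of order two inverts `U`. -/
theorem inv_U {u : C} (hu : u ∈ T₁) (huZ : u ∉ Z) (huu : u * u = 1) {v : C} (hv : v ∈ U) :
    u * v * u⁻¹ = v⁻¹ := by
  have hv' : u * v * u⁻¹ ∈ U := hn u hu v hv
  have h1 : u * (v * (u * v * u⁻¹)) = (v * (u * v * u⁻¹)) * u := by
    have h2 : u⁻¹ = u := inv_eq_of_mul_eq_one_left huu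
    have h3 := hb.U_comm v hv _ hv'
    rw [h2] at h3 ⊢
    calc u * (v * (u * v * u)) = u * ((u * v * u) * v) := by rw [h3]
      _ = (u * u) * v * (u * v) := by group
      _ = v * (u * v) * (u * u) := by rw [huu]; group
      _ = v * (u * v * u) * u := by group
  have h2 : v * (u * v * u⁻¹) = 1 := by
    by_contra h3
    obtain ⟨z, hz, w, hw, he⟩ := hb.cent_U _ (mul_mem hv hv') h3 u h1
    exact huZ (mem_Z_of_T₁_ZU hb h₁ hn hu (hb.mem_ZU.2 ⟨z, hz, w, hw, he⟩))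
  exact (inv_eq_of_mul_eq_one_right h2).symm

end SplitTorus

/-- commuting from inversion -/
theorem comm_of_inv {G : Type*} [Group G] {F : Subgroup G} {u : G}
    (hi : ∀ f ∈ F, u * f * u⁻¹ = f⁻¹) {f g : G} (hf : f ∈ F) (hg : g ∈ F) : f * g = g * f := by
  have h1 := hi _ (mul_mem hf hg)
  have h2 : u * (f * g) * u⁻¹ = (u * f * u⁻¹) * (u * g * u⁻¹) := by group
  rw [h2, hi f hf, hi g hg] at h1
  have h3 := congrArg (·⁻¹) h1
  simp only [mul_inv_rev, inv_inv] at h3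
  exact h3.symm

/-- The conjugate subgroup. -/
def cj (g : C) (H : Subgroup C) : Subgroup C := H.map (MulAut.conj g).toMonoidHom

theorem mem_cj {g x : C} {H : Subgroup C} : x ∈ cj g H ↔ g⁻¹ * x * g ∈ H := by
  constructor
  · rintro ⟨y, hy, rfl⟩
    change g⁻¹ * (g * y * g⁻¹) * g ∈ H
    have h1 : g⁻¹ * (g * y * g⁻¹) * g = y := by group
    rw [h1]
    exact hy
  · intro h
    refine ⟨_, h, ?_⟩
    change g * (g⁻¹ * x * g) * g⁻¹ = x
    group

theorem card_cj (g : C) (H : Subgroup C) : Nat.card (cj g H) = Nat.card H :=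
  Subgroup.card_map_of_injective (MulAut.conj g).injective

theorem two_card_le {q : ℕ} {F H : Subgroup C} (hq : Odd q) (hFH : F ≤ H) (hH : Nat.card H = q)
    (hne : F ≠ H) : 2 * Nat.card F ≤ q - 1 := by
  obtain ⟨k, hk⟩ := Subgroup.card_dvd_of_le hFH
  rw [hH] at hk
  have hF0 : 0 < Nat.card F := Nat.card_pos
  have hk1 : k ≠ 1 := by
    rintro rfl
    rw [mul_one] at hk
    exact hne (Subgroup.eq_of_le_of_card_ge hFH (by rw [hH, hk]))
  have hkodd : Odd k := by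
    rw [hk] at hq
    exact (Nat.odd_mul.1 hq).2
  have hk3 : 3 ≤ k := by
    rcases hkodd with ⟨a, ha⟩
    omega
  have h1 : Nat.card F * 3 ≤ q := by
    rw [hk]
    exact Nat.mul_le_mul_left _ hk3
  omega

theorem card_F_le {n m : ℕ} (hn : Odd n) (hnm : n ∣ 2 * m) : n ∣ m :=
  (Nat.Coprime.dvd_of_dvd_mul_left (Nat.coprime_two_right.2 hn) hnm)

section EpsOne

variable {z u s' : C} {T' : Subgroup C}

variable (hC : CHyp z q 1 Z T T' U s s' u) (hn : ∀ τ ∈ T, ∀ v ∈ U, τ * v * τ⁻¹ ∈ U)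

include hC hn

theorem three_le : 3 ≤ q := by
  have h1 := hC.odd_q
  have h2 := hC.one_lt_q
  rcases h1 with ⟨a, ha⟩
  omega

theorem u_sq : u * u = 1 := by
  have h1 := pow_orderOf_eq_one u
  rwa [hC.orderOf_u, sq] at h1

theorem u_notMem_Z : u ∉ Z := by
  intro h1
  have h2 := hC.s_u
  have h3 := hC.Z_central u h1 s
  rw [h3, mul_assoc, mul_inv_cancel, mul_one] at h2
  have h4 : z = 1 := by
    have h5 : z * u = 1 * u := by rw [← h2, one_mul]
    exact mul_right_cancel h5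
  have h5 := hC.orderOf_t
  rw [h4, orderOf_one] at h5
  omega

theorem cent_u {x : C} (hx : u * x = x * u) : x ∈ T :=
  hC.cent_T u hC.u_mem (u_notMem_Z hC hn) x hx.symm

/-- the subgroup `Z = {1, z}` -/
theorem mem_Z (hZ : Nat.card Z = 2) {x : C} (hx : x ∈ Z) : x = 1 ∨ x = z := by
  have h1 : z ≠ 1 := by
    intro h2
    have h3 := hC.orderOf_t
    rw [h2, orderOf_one] at h3
    omega
  have h2 : ({1, z} : Set C).ncard = 2 := Set.ncard_pair h1.symm
  have h3 : ({1, z} : Set C) = (Z : Set C) := by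
    refine Set.eq_of_subset_of_ncard_le ?_ ?_
    · rintro y (rfl | rfl)
      · exact one_mem Z
      · exact hC.t_mem
    · rw [h2]
      exact hZ.le
  have h4 : x ∈ ({1, z} : Set C) := h3 ▸ hx
  exact h4

theorem eq_one_of_odd (hZ : Nat.card Z = 2) {F : Subgroup C} (hF : Odd (Nat.card F)) {x : C}
    (hx : x ∈ F) (hxZ : x ∈ Z) : x = 1 := by
  have h1 : orderOf x ∣ Nat.card F := by
    rw [← Subgroup.orderOf_mk (H := F) x hx]
    exact orderOf_dvd_natCard _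
  have h2 : orderOf x ∣ 2 := by
    rw [← hZ, ← Subgroup.orderOf_mk (H := Z) x hxZ]
    exact orderOf_dvd_natCard _
  have h3 := hF.of_dvd_nat h1
  rcases (Nat.dvd_prime Nat.prime_two).1 h2 with h4 | h4
  · exact orderOf_eq_one_iff.1 h4
  · rw [h4] at h3
    exact absurd h3 (by decide)

/-- The elements of `Z U` in a subgroup of odd order lie in `U`. -/
theorem mem_U_of_odd (hZ : Nat.card Z = 2) {F : Subgroup C} (hF : Odd (Nat.card F)) {x : C}
    (hx : x ∈ F) (hxZU : x ∈ hC.base.ZU) : x ∈ U := by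
  obtain ⟨z', hz', w, hw, rfl⟩ := hC.base.mem_ZU.1 hxZU
  have hcz : Commute z' w := (hC.Z_central z' hz' w).symm
  have h1 : orderOf w ∣ q := orderOf_dvd_of_pow_eq_one (hC.base.pow_card_U hw)
  have h2 : orderOf z' ∣ 2 := by
    rw [← hZ, ← Subgroup.orderOf_mk (H := Z) z' hz']
    exact orderOf_dvd_natCard _
  have h3 : orderOf z' = 1 := by
    rcases (Nat.dvd_prime Nat.prime_two).1 h2 with h4 | h4
    · exact h4
    · exfalso
      have h5 : (orderOf z').Coprime (orderOf w) := by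
        rw [h4]
        exact Nat.Coprime.coprime_dvd_right h1 (Nat.coprime_two_left.2 hC.odd_q)
      have h6 := hcz.orderOf_mul_eq_mul_orderOf_of_coprime h5
      have h7 : orderOf (z' * w) ∣ Nat.card F := by
        rw [← Subgroup.orderOf_mk (H := F) _ hx]
        exact orderOf_dvd_natCard _
      have h8 := hF.of_dvd_nat h7
      rw [h6, h4] at h8
      exact absurd h8 (by simp)
  rw [orderOf_eq_one_iff.1 h3, one_mul]
  exact hw

/-- A nontrivial element of `Z U` in `F`, `F` abelian of odd order: `F ≤ U`. -/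
theorem le_U (hZ : Nat.card Z = 2) {F : Subgroup C} (hF : Odd (Nat.card F))
    (hc : ∀ f ∈ F, ∀ g ∈ F, f * g = g * f) {v : C} (hv : v ∈ F) (hvU : v ∈ hC.base.ZU)
    (hv1 : v ≠ 1) : F ≤ U := by
  intro f hf
  refine mem_U_of_odd hC hn hZ hF hf ?_
  have hvU' := mem_U_of_odd hC hn hZ hF hv hvU
  exact hC.base.mem_ZU.2 (hC.cent_U v hvU' hv1 f (hc f hf v hv))

theorem s_inf : s • inf U = zer U s := by
  change ((s * 1 : C) : C ⧸ N U) = ((s : C) : C ⧸ N U)
  rw [mul_one]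

/-- **(A)** Subgroups of odd order inverted by `u`, `ε = 1`. -/
theorem inverted (hZ : Nat.card Z = 2) (h4 : ¬ 4 ∣ q - 1) {F : Subgroup C}
    (hF : Odd (Nat.card F)) (hi : ∀ f ∈ F, u * f * u⁻¹ = f⁻¹) :
    2 * Nat.card F ≤ q - 1 ∨ F = U ∨ F = cj s U := by
  have hq := three_le hC hn
  have hb := hC.base
  have hT := hC.torus
  have hc : ∀ f ∈ F, ∀ g ∈ F, f * g = g * f := fun f hf g hg => comm_of_inv hi hf hg
  by_cases hF1 : F = ⊥
  · left
    rw [hF1, Subgroup.card_bot]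
    omega
  obtain ⟨⟨f, hf⟩, hf1⟩ := Subgroup.ne_bot_iff_exists_ne_one.1 hF1
  have hf1' : f ≠ 1 := fun h => hf1 (Subtype.ext h)
  have hfZ : f ∉ Z := fun h => hf1' (eq_one_of_odd hC hn hZ hF hf h)
  obtain ⟨g, hg⟩ := hC.exhaust f
  -- the conjugate of `F`
  have hF' : Odd (Nat.card (cj g F)) := by rw [card_cj]; exact hF
  have hc' : ∀ x ∈ cj g F, ∀ y ∈ cj g F, x * y = y * x := by
    rintro _ ⟨x, hx, rfl⟩ _ ⟨y, hy, rfl⟩
    rw [← map_mul, hc x hx y hy, map_mul]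
  have hf' : g * f * g⁻¹ ∈ cj g F := ⟨f, hf, rfl⟩
  have hf'Z : g * f * g⁻¹ ∉ Z := by
    intro h
    apply hfZ
    have h1 : f = g⁻¹ * (g * f * g⁻¹) * g := by group
    rw [h1, hb.Z_central _ h, mul_assoc, inv_mul_cancel, mul_one]
    exact h
  have hq1 : 2 ∣ q - 1 := by
    rcases hC.odd_q with ⟨a, ha⟩
    omega
  rcases hg with hg | hg | hg
  · -- in the torus `T`
    left
    have h1 : cj g F ≤ T := fun x hx => hC.cent_T _ hg hf'Z x (hc' x hx _ hf')
    have h2 := Subgroup.card_dvd_of_le h1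
    rw [card_cj, card_T₁ hb hT hn, hZ] at h2
    obtain ⟨k, hk⟩ := card_F_le hF h2
    have h3 : k ≠ 0 := by
      rintro rfl
      omega
    have h5 : k ≠ 1 := by
      rintro rfl
      rw [mul_one] at hk
      rw [hk] at hq1
      rcases hF with ⟨a, ha⟩
      omega
    have h6 : Nat.card F * 2 ≤ q - 1 := by
      rw [hk]
      exact Nat.mul_le_mul_left _ (by omega)
    omega
  · -- in the torus `T'`
    left
    have h1 : cj g F ≤ T' := fun x hx => hC.cent_T' _ hg hf'Z x (hc' x hx _ hf')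
    have h2 := Subgroup.card_dvd_of_le h1
    have h3 : Nat.card T' = 2 * (q + 1) := by
      have h4 := hC.card_T'
      rw [hZ] at h4
      exact_mod_cast h4
    rw [card_cj, h3] at h2
    have h5 := card_F_le hF h2
    have h6 : 4 ∣ q + 1 := by omega
    obtain ⟨m, hm⟩ := h6
    rw [hm, show 4 * m = 2 * (2 * m) by ring] at h5
    have h7 := Nat.le_of_dvd (by omega) (card_F_le hF (card_F_le hF h5))
    omega
  · -- in `Z U`
    obtain ⟨z', hz', v, hv, he⟩ := hg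
    have hZU : g * f * g⁻¹ ∈ hb.ZU := hb.mem_ZU.2 ⟨z', hz', v, hv, he⟩
    have hf'1 : g * f * g⁻¹ ≠ 1 := fun h => hf'Z (h ▸ one_mem Z)
    have h1 := le_U hC hn hZ hF' hc' hf' hZU hf'1
    have h2 : (g * u * g⁻¹) * (g * f * g⁻¹) * (g * u * g⁻¹)⁻¹ ∈ U := by
      have h3 : (g * u * g⁻¹) * (g * f * g⁻¹) * (g * u * g⁻¹)⁻¹ = g * (u * f * u⁻¹) * g⁻¹ := by
        group
      rw [h3, hi f hf]
      have h4 : g * f⁻¹ * g⁻¹ = (g * f * g⁻¹)⁻¹ := by group
      rw [h4]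
      exact inv_mem (h1 hf')
    have h3 := ti hb (h1 hf') hf'1 h2
    have h4 : u • (g⁻¹ • inf U) = g⁻¹ • inf U := by
      have h5 := (smul_inf hb hT hn).2 h3
      rw [mul_smul, mul_smul] at h5
      rw [eq_inv_smul_iff]
      exact h5
    have hui : u • inf U = inf U := (smul_inf hb hT hn).2 (T₁_le_N hb hT hn hC.u_mem)
    have huz : u • zer U s = zer U s := T₁_zer hb hT hn hC.u_mem
    have h5 : g⁻¹ • inf U = inf U ∨ g⁻¹ • inf U = zer U s := by
      by_contra h6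
      push Not at h6
      exact u_notMem_Z hC hn ((sharp hb hT hn hq).sharp (inf U) (zer U s) _
        (zer_ne hb hT hn hq).symm h6.1 h6.2 u hui huz h4)
    rcases h5 with h5 | h5
    · -- `F ≤ U`
      have h6 : F ≤ U := by
        intro x hx
        have h7 := h1 ⟨x, hx, rfl⟩
        have h8 := (mem_N.1 ((smul_inf hb hT hn).1 h5) _).1 h7
        have h9 : g⁻¹ * ((MulAut.conj g).toMonoidHom x) * g⁻¹⁻¹ = x := by
          change g⁻¹ * (g * x * g⁻¹) * g⁻¹⁻¹ = x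
          group
        rwa [h9] at h8
      by_cases h7 : F = U
      · exact Or.inr (Or.inl h7)
      · exact Or.inl (two_card_le hC.odd_q h6 hC.card_U h7)
    · -- `F ≤ s U s⁻¹`
      have h6 : F ≤ cj s U := by
        intro x hx
        have h7 := h1 ⟨x, hx, rfl⟩
        have h8 : s⁻¹ * g⁻¹ ∈ N U := by
          rw [← smul_inf hb hT hn, mul_smul, h5, ← s_inf hC hn, inv_smul_smul]
        have h9 := (mem_N.1 h8 _).1 h7
        rw [mem_cj]
        have h10 : s⁻¹ * g⁻¹ * ((MulAut.conj g).toMonoidHom x) * (s⁻¹ * g⁻¹)⁻¹ =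
            s⁻¹ * x * s := by
          change s⁻¹ * g⁻¹ * (g * x * g⁻¹) * (s⁻¹ * g⁻¹)⁻¹ = s⁻¹ * x * s
          group
        rwa [h10] at h9
      by_cases h7 : F = cj s U
      · exact Or.inr (Or.inr h7)
      · exact Or.inl (two_card_le hC.odd_q h6 (by rw [card_cj, hC.card_U]) h7)

/-- `N` of the opposite root group. -/
theorem mem_cj_N {x : C} : x ∈ cj s (N U) ↔ x • zer U s = zer U s := by
  rw [mem_cj, ← smul_inf hC.base hC.torus hn, mul_smul, mul_smul, s_inf hC hn,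
    inv_smul_eq_iff, s_inf hC hn]

/-- Subgroups of odd order normalised by `T`, `ε = 1`. -/
theorem normed {F : Subgroup C} (hF : Odd (Nat.card F))
    (hT : ∀ τ ∈ T, ∀ f ∈ F, τ * f * τ⁻¹ ∈ F) :
    F ≤ T ∨ (U ≤ F ∧ F ≤ N U) ∨ (cj s U ≤ F ∧ F ≤ cj s (N U)) := by
  rcases odd_split hC.base hC.torus hn (three_le hC hn) hF hT with h1 | h1 | ⟨h1, h2⟩
  · exact Or.inl h1
  · exact Or.inr (Or.inl h1)
  · refine Or.inr (Or.inr ⟨?_, fun x hx => ?_⟩)
    · rintro _ ⟨v, hv, rfl⟩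
      exact h1 v hv
    · rw [mem_cj_N hC hn]
      exact h2 hx

/-- Subgroups of odd order normalised by `T` and by an element interchanging `u` and `z u`. -/
theorem normed_swap {F : Subgroup C} (hF : Odd (Nat.card F))
    (hT : ∀ τ ∈ T, ∀ f ∈ F, τ * f * τ⁻¹ ∈ F) {w : C} (hw : w * u * w⁻¹ = z * u)
    (hwF : ∀ f ∈ F, w * f * w⁻¹ ∈ F) : F ≤ T := by
  have hb := hC.base
  have hT' := hC.torus
  have hq := three_le hC hn
  have hne := zer_ne hb hT' hn hq
  -- `w` interchanges infinity and zero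
  have hws : s * w ∈ T := by
    have h1 : w * u * w⁻¹ ∈ T := by
      rw [hw]
      exact mul_mem (hC.Z_le_T hC.t_mem) hC.u_mem
    rcases hC.fus_T u hC.u_mem (u_notMem_Z hC hn) w h1 with h2 | h2
    · exfalso
      have h3 := hC.T_comm w h2 u hC.u_mem
      rw [h3, mul_assoc, mul_inv_cancel, mul_one] at hw
      have h4 : z = 1 := by
        have h5 : z * u = 1 * u := by rw [← hw, one_mul]
        exact mul_right_cancel h5
      have h5 := hC.orderOf_t
      rw [h4, orderOf_one] at h5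
      omega
    · exact h2
  have hw' : w = s * (s * w) := by rw [← mul_assoc, hC.s_sq, one_mul]
  have hwi : w • inf U = zer U s := by
    rw [hw', mul_smul, (smul_inf hb hT' hn).2 (T₁_le_N hb hT' hn hws), s_inf hC hn]
  have hwz : w • zer U s = inf U := by
    rw [hw', mul_smul, T₁_zer hb hT' hn hws, ← s_inf hC hn, ← mul_smul, hC.s_sq, one_smul]
  have hwF' : ∀ f ∈ F, w⁻¹ * f * w ∈ F := by
    intro f hf
    have h2 : cj w F = F := by
      refine Subgroup.eq_of_le_of_card_ge ?_ (by rw [card_cj])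
      rintro _ ⟨x, hx, rfl⟩
      exact hwF x hx
    have h3 : f ∈ cj w F := h2.symm ▸ hf
    exact mem_cj.1 h3
  have h3 : ∀ x ∈ F, x • inf U = inf U → x • zer U s = zer U s → x ∈ T := by
    intro x _ h1 h2
    rw [← D_eq hb hT' hn hq, Sharp.mem_D]
    exact ⟨h1, h2⟩
  rcases normed hC hn hF hT with h1 | ⟨-, h1⟩ | ⟨-, h1⟩
  · exact h1
  · intro f hf
    refine h3 f hf ((smul_inf hb hT' hn).2 (h1 hf)) ?_
    have h4 := (smul_inf hb hT' hn).2 (h1 (hwF' f hf))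
    rw [mul_smul, mul_smul, hwi, inv_smul_eq_iff, hwi] at h4
    exact h4
  · intro f hf
    refine h3 f hf ?_ ((mem_cj_N hC hn).1 (h1 hf))
    have h4 := (mem_cj_N hC hn).1 (h1 (hwF' f hf))
    rw [mul_smul, mul_smul, hwz, inv_smul_eq_iff, hwz] at h4
    exact h4

/-- **(B)** Subgroups of odd order normalised by `T` and inverted by `u`, `ε = 1`. -/
theorem normed_inverted (hZ : Nat.card Z = 2) {F : Subgroup C} (hF : Odd (Nat.card F))
    (hT : ∀ τ ∈ T, ∀ f ∈ F, τ * f * τ⁻¹ ∈ F) (hi : ∀ f ∈ F, u * f * u⁻¹ = f⁻¹) :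
    F = ⊥ ∨ F = U ∨ F = cj s U := by
  have hb := hC.base
  have hc : ∀ f ∈ F, ∀ g ∈ F, f * g = g * f := fun f hf g hg => comm_of_inv hi hf hg
  rcases normed hC hn hF hT with h1 | ⟨h1, -⟩ | ⟨h1, -⟩
  · left
    rw [eq_bot_iff]
    intro f hf
    rw [Subgroup.mem_bot]
    have h2 := hi f hf
    have h3 := hC.T_comm u hC.u_mem f (h1 hf)
    rw [h3, mul_assoc, mul_inv_cancel, mul_one] at h2
    have h4 : f ^ 2 = 1 := by
      rw [sq]
      nth_rewrite 1 [h2]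
      exact inv_mul_cancel f
    have h5 : orderOf f ∣ Nat.card F := by
      rw [← Subgroup.orderOf_mk (H := F) f hf]
      exact orderOf_dvd_natCard _
    have h6 := hF.of_dvd_nat h5
    rcases (Nat.dvd_prime Nat.prime_two).1 (orderOf_dvd_of_pow_eq_one h4) with h7 | h7
    · exact orderOf_eq_one_iff.1 h7
    · rw [h7] at h6
      exact absurd h6 (by decide)
  · right; left
    obtain ⟨v, hv, hv1⟩ := hb.exists_ne_one
    exact le_antisymm (le_U hC hn hZ hF hc (h1 hv)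
      (hb.mem_ZU.2 ⟨1, one_mem Z, v, hv, (one_mul v).symm⟩) hv1) h1
  · right; right
    obtain ⟨v, hv, hv1⟩ := hb.exists_ne_one
    refine le_antisymm ?_ h1
    -- conjugate by `s`
    have hF' : Odd (Nat.card (cj s⁻¹ F)) := by rw [card_cj]; exact hF
    have hc' : ∀ x ∈ cj s⁻¹ F, ∀ y ∈ cj s⁻¹ F, x * y = y * x := by
      rintro _ ⟨x, hx, rfl⟩ _ ⟨y, hy, rfl⟩
      rw [← map_mul, hc x hx y hy, map_mul]
    have h2 : v ∈ cj s⁻¹ F := by
      rw [mem_cj, inv_inv]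
      exact h1 ⟨v, hv, rfl⟩
    have h3 := le_U hC hn hZ hF' hc' h2
      (hb.mem_ZU.2 ⟨1, one_mem Z, v, hv, (one_mul v).symm⟩) hv1
    intro f hf
    rw [mem_cj]
    apply h3
    rw [mem_cj, inv_inv]
    have h4 : s * (s⁻¹ * f * s) * s⁻¹ = f := by group
    rw [h4]
    exact hf

end EpsOne

section EpsNeg

variable {z u s' : C} {T' : Subgroup C}

variable (hC : CHyp z q (-1) Z T T' U s s' u) (hn : ∀ τ ∈ T', ∀ v ∈ U, τ * v * τ⁻¹ ∈ U)

include hC hn

theorem torus'_one : Torus q 1 Z T' s' := by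
  have := hC.torus'
  rwa [neg_neg] at this

/-- Subgroups of odd order normalised by `T`, `ε = -1`. -/
theorem normed_neg {F : Subgroup C} (hF : Odd (Nat.card F))
    (hT : ∀ τ ∈ T, ∀ f ∈ F, τ * f * τ⁻¹ ∈ F) : F ≤ T := by
  have hq : 3 ≤ q := by
    have h1 := hC.odd_q
    have h2 := hC.one_lt_q
    rcases h1 with ⟨a, ha⟩
    omega
  exact odd_nonsplit hC.base (torus'_one hC hn) hn hC.torus hq hF hT

/-- **(B)** Subgroups of odd order normalised by `T` and inverted by `u`, `ε = -1`. -/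
theorem normed_inverted_neg {F : Subgroup C} (hF : Odd (Nat.card F))
    (hT : ∀ τ ∈ T, ∀ f ∈ F, τ * f * τ⁻¹ ∈ F) (hi : ∀ f ∈ F, u * f * u⁻¹ = f⁻¹) : F = ⊥ := by
  have h1 := normed_neg hC hn hF hT
  rw [eq_bot_iff]
  intro f hf
  rw [Subgroup.mem_bot]
  have h2 := hi f hf
  have h3 := hC.T_comm u hC.u_mem f (h1 hf)
  rw [h3, mul_assoc, mul_inv_cancel, mul_one] at h2
  have h4 : f ^ 2 = 1 := by
    rw [sq]
    nth_rewrite 1 [h2]
    exact inv_mul_cancel f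
  have h5 : orderOf f ∣ Nat.card F := by
    rw [← Subgroup.orderOf_mk (H := F) f hf]
    exact orderOf_dvd_natCard _
  have h6 := hF.of_dvd_nat h5
  rcases (Nat.dvd_prime Nat.prime_two).1 (orderOf_dvd_of_pow_eq_one h4) with h7 | h7
  · exact orderOf_eq_one_iff.1 h7
  · rw [h7] at h6
    exact absurd h6 (by decide)

end EpsNeg

end Cfsg.Agent.Classification.QDW.GammaOdd
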