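import Mathlib
import Cfsg.Agent.Classification.QDW.ThetaLB
import Cfsg.Agent.Classification.QDW.InstC
import Cfsg.Agent.Classification.QDW.GammaOdd
import Cfsg.Agent.Classification.QDW.UFix

/-!
# The fields `img` and `img'` of `Frame`

`img'_of`: a subgroup `S` of odd order normalised by `t`, `u`, `C(t) ∩ C(u)` and by an element
interchanging `u` and `tu` satisfies `C_S(t) ≤ K t C_S(⟨t, u⟩)`.
`img_of`: the same for `S ≥ D` if `dim C_X(S)` is large.
-/

set_option autoImplicit false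
set_option linter.unusedSectionVars false
set_option linter.unusedVariables false

namespace Cfsg.Agent.Classification.QDW.FrameImg

open Subgroup Cfsg Module
open Cfsg.Agent.Walter.SylowIn Cfsg.Agent.Walter.OddCoreIn Cfsg.Agent.Walter.Cover
open Cfsg.Agent.Classification.QDW.Theta Cfsg.Agent.Classification.QDW.InstC
open Cfsg.Agent.Classification.InvCent
open Cfsg.Agent.Classification.QDW.LineC (N)

variable {G : Type*} [Group G]

section Lin

variable {X : Type*} [AddCommGroup X] [Module ℂ X]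

/-- `2 dim (C_X(Y) ∩ E_-(x)) = dim C_X(Y) - a`, `a` the trace of `x` on `C_X(Y)`. -/
theorem two_mul_finrank' [Finite G] [FiniteDimensional ℂ X] (ρ : Representation ℂ G X)
    {Y : Subgroup G} {x : G} (hx : x * x = 1) (hn : x ∈ normalizer (Y : Set G)) {a : ℤ}
    [Fintype Y] (hc : ∑ y : Y, ρ.character (x * y) = Nat.card Y * a) :
    (2 * finrank ℂ (fixed ρ Y ⊓ negSp ρ x : Submodule ℂ X) : ℤ) = finrank ℂ (fixed ρ Y) - a := by
  classical
  set E : X →ₗ[ℂ] X := (2 : ℂ)⁻¹ • (proj ρ Y - ρ x * proj ρ Y) with hE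
  have hxx : ∀ v, ρ x (ρ x v) = v := by
    intro v
    rw [← Module.End.mul_apply, ← map_mul, hx, map_one]
    rfl
  have hproj : LinearMap.IsProj (fixed ρ Y ⊓ negSp ρ x) E := by
    constructor
    · intro v
      have h1 : proj ρ Y v ∈ fixed ρ Y := (proj_isProj ρ Y).map_mem v
      have h2 : E v = (2 : ℂ)⁻¹ • (proj ρ Y v - ρ x (proj ρ Y v)) := rfl
      rw [h2]
      refine Submodule.smul_mem _ _ (Submodule.mem_inf.2 ⟨?_, ?_⟩)
      · exact Submodule.sub_mem _ h1 (map_fixed hn h1)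
      · rw [mem_negSp, map_sub, hxx, neg_sub]
    · intro v hv
      obtain ⟨h1, h2⟩ := Submodule.mem_inf.1 hv
      have h3 : E v = (2 : ℂ)⁻¹ • (proj ρ Y v - ρ x (proj ρ Y v)) := rfl
      rw [h3, (proj_isProj ρ Y).map_id v h1, mem_negSp.1 h2, sub_neg_eq_add, ← two_smul ℂ v,
        smul_smul, inv_mul_cancel₀ two_ne_zero, one_smul]
  have h1 := hproj.trace
  rw [hE, map_smul, map_sub, trace_proj, trace_mul_proj, hc, ← mul_assoc,
    inv_mul_cancel₀ (card_ne Y), one_mul, smul_eq_mul] at h1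
  have h2 : (2 * (finrank ℂ (fixed ρ Y ⊓ negSp ρ x : Submodule ℂ X) : ℤ) : ℂ) =
      ((finrank ℂ (fixed ρ Y) - a : ℤ) : ℂ) := by
    push_cast
    rw [← h1]
    ring
  exact_mod_cast h2

/-- The dimension of the fixed space of a root group of `SL₂(q)` on the space where the central
involution acts as `-1`. -/
theorem finrank_U_le {Q : Type*} [Group Q] {F : Type*} [Field F] [Fintype F]
    (j : Matrix.SpecialLinearGroup (Fin 2) F →* Q) {z : Q} (hj : j (-1) = z)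
    (hz : ∀ x, Commute z x) {U : Subgroup Q}
    (hjU : ∀ a, j (Cfsg.Agent.Lib.SL2Hom.up a) ∈ U) {Y : Type*} [AddCommGroup Y] [Module ℂ Y]
    [FiniteDimensional ℂ Y] (σ : Representation ℂ Q Y) :
    (Fintype.card F + 1) * finrank ℂ (fixed σ U ⊓ negSp σ z : Submodule ℂ Y) ≤
      2 * finrank ℂ (negSp σ z) := by
  have hN : ∀ (x : Q) (v : Y), v ∈ negSp σ z → σ x v ∈ negSp σ z := by
    intro x v hv
    rw [mem_negSp] at hv ⊢
    rw [← Module.End.mul_apply, ← map_mul, (hz x).eq, map_mul, Module.End.mul_apply, hv, map_neg]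
  let τ : Representation ℂ (Matrix.SpecialLinearGroup (Fin 2) F) (negSp σ z) :=
    { toFun := fun x => (σ (j x)).restrict fun v hv => hN (j x) v hv
      map_one' := by
        ext v
        show σ (j 1) (v : Y) = v
        rw [map_one, map_one]
        rfl
      map_mul' := fun x y => by
        ext v
        show σ (j (x * y)) (v : Y) = σ (j x) (σ (j y) v)
        rw [map_mul, map_mul]
        rfl }
  have h1 := UFix.finrank_fixed_le τ (fun v => by
    refine Subtype.ext ?_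
    show σ (j (-1)) (v : Y) = -(v : Y)
    rw [hj]
    exact v.2)
  refine le_trans (Nat.mul_le_mul_left _ ?_) h1
  -- embed
  let f : (fixed σ U ⊓ negSp σ z : Submodule ℂ Y) →ₗ[ℂ] UFix.fixU τ :=
    { toFun := fun v => ⟨⟨v, (Submodule.mem_inf.1 v.2).2⟩, fun a => Subtype.ext
        ((Submodule.mem_inf.1 v.2).1 _ (hjU a))⟩
      map_add' := fun _ _ => rfl
      map_smul' := fun _ _ => rfl }
  refine LinearMap.finrank_le_finrank_of_injective (f := f) ?_
  intro v w hvw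
  have h2 : ((f v : negSp σ z) : Y) = ((f w : negSp σ z) : Y) := by rw [hvw]
  exact Subtype.ext h2

/-- conjugate subgroups have fixed spaces of the same dimension -/
theorem finrank_fixed_conj {Q : Type*} [Group Q] {Y : Type*} [AddCommGroup Y] [Module ℂ Y]
    [FiniteDimensional ℂ Y] (σ : Representation ℂ Q Y) (g : Q) {U U' : Subgroup Q}
    (h : ∀ v ∈ U, g * v * g⁻¹ ∈ U') : finrank ℂ (fixed σ U') ≤ finrank ℂ (fixed σ U) := by
  have hmem : ∀ v ∈ fixed σ U', σ g⁻¹ v ∈ fixed σ U := by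
    intro v hv x hx
    have h1 := hv _ (h x hx)
    calc σ x (σ g⁻¹ v) = σ g⁻¹ (σ (g * x * g⁻¹) v) := by
          rw [← Module.End.mul_apply, ← Module.End.mul_apply, ← map_mul, ← map_mul]
          congr 2
          group
      _ = σ g⁻¹ v := by rw [h1]
  refine LinearMap.finrank_le_finrank_of_injective
    (f := (σ g⁻¹).restrict hmem) ?_
  intro v w hvw
  have h1 : σ g⁻¹ (v : Y) = σ g⁻¹ (w : Y) := congrArg Subtype.val hvw
  have h2 : ∀ y : Y, σ g (σ g⁻¹ y) = y := by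
    intro y
    rw [← Module.End.mul_apply, ← map_mul, mul_inv_cancel, map_one]
    rfl
  refine Subtype.ext ?_
  rw [← h2 (v : Y), h1, h2]

end Lin

section Img

variable [Finite G] {t u : G} {Q : Type*} [Group Q] {π : C t →* Q}

/-- the image of `S ∩ C(t)` in `C(t)/K t` -/
def imgS (π : C t →* Q) (S : Subgroup G) : Subgroup Q := (S.subgroupOf (C t)).map π

theorem mem_imgS {S : Subgroup G} {y : G} (hy : y ∈ S) (hyC : y ∈ C t) :
    π ⟨y, hyC⟩ ∈ imgS π S := ⟨⟨y, hyC⟩, hy, rfl⟩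

theorem odd_imgS {S : Subgroup G} (hS : ¬ 2 ∣ Nat.card S) : Odd (Nat.card (imgS π S)) := by
  rw [← Nat.not_even_iff_odd, even_iff_two_dvd]
  intro h
  apply hS
  have h1 : Nat.card (imgS π S) ∣ Nat.card (S.subgroupOf (C t)) := Subgroup.card_map_dvd _ _
  have h2 : Nat.card (S.subgroupOf (C t)) ∣ Nat.card S := by
    have h3 : Nat.card (S.subgroupOf (C t)) = Nat.card ((S.subgroupOf (C t)).map (C t).subtype) :=
      (Subgroup.card_map_of_injective (C t).subtype_injective).symm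
    rw [h3, Subgroup.subgroupOf_map_subtype]
    exact Subgroup.card_dvd_of_le inf_le_left
  exact h.trans (h1.trans h2)

/-- lifting of the elements commuting with the image of `u` -/
theorem exists_lift_comm (h4 : Four t u) (hker : ∀ x : C t, π x = 1 ↔ (x : G) ∈ K t) {y : G}
    (hyC : y ∈ C t) {uC : u ∈ C t} (hc : Commute (π ⟨u, uC⟩) (π ⟨y, hyC⟩)) :
    ∃ k ∈ K t ⊓ Subgroup.zpowers (y⁻¹ * (u * y * u⁻¹)), y * k ∈ C u := by
  have hd : y⁻¹ * (u * y * u⁻¹) ∈ K t := by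
    have h1 : π (⟨y, hyC⟩⁻¹ * (⟨u, uC⟩ * ⟨y, hyC⟩ * ⟨u, uC⟩⁻¹)) = 1 := by
      rw [map_mul, map_mul, map_mul, map_inv, map_inv, hc.eq]
      group
    exact (hker _).1 h1
  have hodd : Odd (Nat.card (K t)) := by
    rw [← Nat.not_even_iff_odd, even_iff_two_dvd]
    exact Cfsg.Agent.Walter.Cover.core_odd t
  obtain ⟨n, hn⟩ := SolvComplete.exists_lift hodd h4.uu (x := y) hd
  refine ⟨(y⁻¹ * (u * y * u⁻¹)) ^ n, ⟨pow_mem hd n, Subgroup.npow_mem_zpowers _ _⟩, ?_⟩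
  exact mem_C.2 hn.symm

theorem conclusion (h4 : Four t u) (hker : ∀ x : C t, π x = 1 ↔ (x : G) ∈ K t) {uC : u ∈ C t}
    {S : Subgroup G} (hSu : u ∈ normalizer (S : Set G)) {T : Subgroup Q}
    (hT : ∀ τ ∈ T, Commute (π ⟨u, uC⟩) τ) (hF : imgS π S ≤ T) {y : G} (hy : y ∈ S)
    (hyC : y ∈ C t) : ∃ k ∈ K t, ∃ z ∈ S, z ∈ C t ∧ z ∈ C u ∧ y = k * z := by
  obtain ⟨k, hk, hkC⟩ := exists_lift_comm (uC := uC) h4 hker hyC (hT _ (hF (mem_imgS hy hyC)))
  obtain ⟨hk1, hk2⟩ := mem_inf.1 hk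
  have hd : y⁻¹ * (u * y * u⁻¹) ∈ S := mul_mem (inv_mem hy) (mem_norm_conj hSu hy)
  have hkS : k ∈ S := (zpowers_le.2 hd) hk2
  have hkt : k ∈ C t := core_le_C t hk1
  refine ⟨(y * k) * k⁻¹ * (y * k)⁻¹, ?_, y * k, mul_mem hy hkS, mul_mem hyC hkt, hkC, by group⟩
  exact mem_norm_conj (C_le_normalizer_core t (mul_mem hyC hkt)) (inv_mem hk1)

/-- `T` normalises the image. -/
theorem norm_imgS (h4 : Four t u) (hπ : Function.Surjective π)
    (hker : ∀ x : C t, π x = 1 ↔ (x : G) ∈ K t) {uC : u ∈ C t}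
    {S : Subgroup G} (hS : C t ⊓ C u ≤ normalizer (S : Set G)) {T : Subgroup Q}
    (hT : ∀ τ ∈ T, Commute (π ⟨u, uC⟩) τ) : ∀ τ ∈ T, ∀ f ∈ imgS π S, τ * f * τ⁻¹ ∈ imgS π S := by
  rintro τ hτ _ ⟨⟨y, hyC⟩, hy, rfl⟩
  obtain ⟨⟨x, hxC⟩, rfl⟩ := hπ τ
  obtain ⟨k, hk, hkC⟩ := exists_lift_comm (uC := uC) h4 hker hxC (hT _ hτ)
  have hk1 := (mem_inf.1 hk).1
  have hkt : k ∈ C t := core_le_C t hk1
  have h1 : x * k ∈ normalizer (S : Set G) := hS (mem_inf.2 ⟨mul_mem hxC hkt, hkC⟩)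
  have h2 := mem_norm_conj h1 (show y ∈ S from hy)
  have h3 : π (⟨x, hxC⟩ * ⟨k, hkt⟩) = π ⟨x, hxC⟩ := by
    rw [map_mul, (hker ⟨k, hkt⟩).2 hk1, mul_one]
  have h4 : (x * k) * y * (x * k)⁻¹ ∈ C t :=
    mul_mem (mul_mem (mul_mem hxC hkt) hyC) (inv_mem (mul_mem hxC hkt))
  refine ⟨⟨(x * k) * y * (x * k)⁻¹, h4⟩, h2, ?_⟩
  have h5 : (⟨(x * k) * y * (x * k)⁻¹, h4⟩ : C t) =
      (⟨x, hxC⟩ * ⟨k, hkt⟩) * ⟨y, hyC⟩ * (⟨x, hxC⟩ * ⟨k, hkt⟩)⁻¹ := rfl
  rw [h5, map_mul, map_mul, map_inv, h3]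

variable {z : Q} {q : ℕ} {ε : ℤ} {Z T T' U : Subgroup Q} {s s' u₀ : Q} {b : Q →* ℂˣ}

/-- **The field `img'`.** -/
theorem img'_of [Finite Q] (hD : CData z q ε Z T T' U s s' u₀ b) (h4 : Four t u)
    (hπ : Function.Surjective π) (hker : ∀ x : C t, π x = 1 ↔ (x : G) ∈ K t) {tC : t ∈ C t}
    {uC : u ∈ C t} (hz : π ⟨t, tC⟩ = z) (hu : π ⟨u, uC⟩ = u₀) {w : G} {S : Subgroup G}
    (hwt : w * t * w⁻¹ = t) (hwu : w * u * w⁻¹ = t * u) (hS : ¬ 2 ∣ Nat.card S)
    (hSt : t ∈ normalizer (S : Set G)) (hSu : u ∈ normalizer (S : Set G))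
    (hSw : w ∈ normalizer (S : Set G)) (hSC : C t ⊓ C u ≤ normalizer (S : Set G)) {y : G}
    (hy : y ∈ S) (hyC : y ∈ C t) : ∃ k ∈ K t, ∃ z ∈ S, z ∈ C t ∧ z ∈ C u ∧ y = k * z := by
  have hC := hD.chyp
  have hT : ∀ τ ∈ T, Commute (π ⟨u, uC⟩) τ := by
    intro τ hτ
    rw [hu]
    exact hC.T_comm _ hC.u_mem _ hτ
  refine conclusion h4 hker (uC := uC) hSu hT ?_ hy hyC
  have hodd := odd_imgS (π := π) hS
  have hnorm := norm_imgS (uC := uC) h4 hπ hker hSC hT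
  rcases hC.eps with rfl | rfl
  · have hwC : w ∈ C t := by
      rw [mem_C]
      calc w * t = (w * t * w⁻¹) * w := by group
        _ = t * w := by rw [hwt]
    refine GammaOdd.normed_swap hC (hD.norm₁ rfl) hodd hnorm (w := π ⟨w, hwC⟩) ?_ ?_
    · rw [← hu, ← hz, ← map_mul, ← map_inv, ← map_mul, ← map_mul]
      congr 1
      exact Subtype.ext hwu
    · rintro _ ⟨⟨y, hyC⟩, hy, rfl⟩
      have h2 := mem_norm_conj hSw (show y ∈ S from hy)
      refine ⟨⟨w * y * w⁻¹, mul_mem (mul_mem hwC hyC) (inv_mem hwC)⟩, h2, ?_⟩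
      rw [← map_mul, ← map_inv, ← map_mul]
      rfl
  · exact GammaOdd.normed_neg hC (hD.norm₂ rfl) hodd hnorm

section Rep

variable {X : Type*} [AddCommGroup X] [Module ℂ X] [FiniteDimensional ℂ X]
  {ρ : Representation ℂ G X}

/-- `C(t)/K t` acts on the fixed space of `D ≥ K t`. -/
theorem exists_rep (hπ : Function.Surjective π) (hker : ∀ x : C t, π x = 1 ↔ (x : G) ∈ K t)
    {D : Subgroup G} (hDC : C t ≤ normalizer (D : Set G)) (hKD : K t ≤ D) :
    ∃ σ : Representation ℂ Q (fixed ρ D), ∀ x : C t, σ (π x) = fixRep ρ D (C t) hDC x := by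
  set τ := fixRep ρ D (C t) hDC with hτ
  have hle : π.ker ≤ τ.asGroupHom.ker := by
    intro x hx
    rw [MonoidHom.mem_ker]
    refine Units.ext ?_
    rw [Representation.asGroupHom_apply]
    refine LinearMap.ext fun v => Subtype.ext ?_
    exact v.2 (x : G) (hKD ((hker x).1 hx))
  set σ : Q →* (fixed ρ D →ₗ[ℂ] fixed ρ D)ˣ := π.liftOfSurjective hπ ⟨τ.asGroupHom, hle⟩ with hσ
  have hσ1 : ∀ x : C t, ((σ (π x) : (fixed ρ D →ₗ[ℂ] fixed ρ D)ˣ) :
      fixed ρ D →ₗ[ℂ] fixed ρ D) = τ x := by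
    intro x
    rw [hσ, MonoidHom.liftOfRightInverse_comp_apply]
    rfl
  exact ⟨(Units.coeHom (fixed ρ D →ₗ[ℂ] fixed ρ D)).comp σ, hσ1⟩

/-- The numerical contradiction. -/
theorem num_false {q n' a g f N : ℕ} {c c₁ : ℤ} (hq : 3 ≤ q) (hc : c = q + c₁)
    (hn : (n' : ℤ) < q ^ 2 - q) (h1 : ((q : ℤ) ^ 2 - 1) + c ≤ a) (h2 : (2 * N : ℤ) = a - c)
    (h3 : (2 * f : ℤ) = g - (1 + c₁)) (h4 : (q + 1) * f ≤ 2 * N) (h5 : (a : ℤ) ≤ g + n') :
    False := by
  have h4' : ((q : ℤ) + 1) * f ≤ 2 * N := by exact_mod_cast h4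
  have h6 : ((q : ℤ) + 1) * (2 * f) ≤ 2 * (a - c) := by rw [← h2]; linarith
  rw [h3] at h6
  have hq' : (3 : ℤ) ≤ q := by exact_mod_cast hq
  subst hc
  have h7 : ((q : ℤ) + 1) * (a - n' - (1 + c₁)) ≤ ((q : ℤ) + 1) * (g - (1 + c₁)) :=
    mul_le_mul_of_nonneg_left (by linarith) (by linarith)
  have h8 : ((q : ℤ) - 1) * (((q : ℤ) ^ 2 - 1) + (q + c₁)) ≤ ((q : ℤ) - 1) * a :=
    mul_le_mul_of_nonneg_left h1 (by linarith)
  have h9 : ((q : ℤ) + 1) * n' ≤ ((q : ℤ) + 1) * (q ^ 2 - q - 1) :=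
    mul_le_mul_of_nonneg_left (by linarith) (by linarith)
  nlinarith [h6, h7, h8, h9]

variable {F : Type*} [Field F] [Fintype F]

/-- The preimage of a root group is not contained in `S`. -/
theorem false_of_root [Finite Q] (hC : CHyp z q 1 Z T T' U s s' u₀) (h4 : Four t u)
    (hπ : Function.Surjective π) (hker : ∀ x : C t, π x = 1 ↔ (x : G) ∈ K t) {tC : t ∈ C t}
    (hz : π ⟨t, tC⟩ = z) (hFq : Fintype.card F = q)
    (j : Matrix.SpecialLinearGroup (Fin 2) F →* Q) (hj : j (-1) = z)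
    (hjU : ∀ a, j (Cfsg.Agent.Lib.SL2Hom.up a) ∈ U) (hc : Const ρ) {n' : ℕ} {c c₁ : ℤ}
    (hdim : (finrank ℂ X : ℤ) = ((q : ℤ) ^ 2 - 1) + c + n') (hcc : c = q + c₁)
    (htr : ρ.character t = c)
    (hval : ∀ y : C t, ∀ v ∈ U, v ≠ 1 → π y = z * v → ρ.character (y : G) = c₁)
    (hn' : (n' : ℤ) < q ^ 2 - q) {D S : Subgroup G} (hDs : Small t u D)
    (hDC : C t ≤ normalizer (D : Set G)) (hKD : K t ≤ D) (hDS : D ≤ S)
    (hS : ¬ 2 ∣ Nat.card S)
    (hlb : finrank ℂ X ≤ finrank ℂ (fixed ρ D) + n')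
    (hdS : finrank ℂ (fixed ρ D) ≤ finrank ℂ (fixed ρ S) + n') (r : Q)
    (hr : ∀ v ∈ U, r * v * r⁻¹ ∈ imgS π S) : False := by
  classical
  have hq : 3 ≤ q := by
    have h1 := hC.odd_q
    have h2 := hC.one_lt_q
    rcases h1 with ⟨a, ha⟩
    omega
  have hzc : ∀ x, Commute z x := fun x => (hC.Z_central z hC.t_mem x).symm
  have hzz : z * z = 1 := by
    have h2 := pow_orderOf_eq_one z
    rwa [hC.orderOf_t, sq] at h2
  obtain ⟨σ, hσ⟩ := exists_rep (ρ := ρ) hπ hker hDC hKD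
  have hchar : ∀ x : C t, σ.character (π x) = (fixRep ρ D (C t) hDC).character x := by
    intro x
    show LinearMap.trace ℂ _ (σ (π x)) = LinearMap.trace ℂ _ (fixRep ρ D (C t) hDC x)
    rw [hσ]
  -- elements `t x`
  have key : ∀ x : C t, ¬ 2 ∣ orderOf (x : G) →
      σ.character (π (⟨t, tC⟩ * x)) = ρ.character (t * (x : G)) := by
    intro x hx
    rw [hchar]
    refine fixRep_character (ρ := ρ) (Y := D) (H := C t) hDC (⟨t, tC⟩ * x) fun y hy => ?_
    show ρ.character (t * (x : G) * y) = ρ.character (t * (x : G))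
    have hcomm : Commute t (x : G) := (mem_C.1 x.2).symm
    refine hc.eq_of_mem h4.tt h4.t1 ?_ hDs.odd (hDC (mul_mem tC x.2)) (hDs.le t mem3_t) hy
    refine mem_zpowers_iff.2 ⟨orderOf (x : G), ?_⟩
    have hodd : Odd (orderOf (x : G)) := by
      rw [← Nat.not_even_iff_odd, even_iff_two_dvd]; exact hx
    rw [zpow_natCast, hcomm.mul_pow, pow_orderOf_eq_one, mul_one]
    obtain ⟨k, hk⟩ := hodd
    rw [hk, pow_succ, pow_mul, sq, h4.tt, one_pow, one_mul]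
  have hz1 : σ.character z = c := by
    have h1 := key 1 (by rw [coe_one, orderOf_one]; omega)
    rw [mul_one, hz, coe_one, mul_one, htr] at h1
    exact h1
  have hzv : ∀ v ∈ U, v ≠ 1 → σ.character (z * v) = c₁ := by
    intro v hv hv1
    obtain ⟨⟨x, hxC⟩, hxS, hx⟩ := hr v hv
    have hxo : ¬ 2 ∣ orderOf x := not_two_dvd_orderOf hS hxS
    have h1 := key ⟨x, hxC⟩ hxo
    rw [map_mul, hz, hx] at h1
    have h2 : σ.character (z * v) = σ.character (z * (r * v * r⁻¹)) := by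
      rw [← Representation.char_conj σ (z * v) r]
      congr 1
      have h3 := (hzc r).eq
      calc r * (z * v) * r⁻¹ = (r * z) * v * r⁻¹ := by group
        _ = (z * r) * v * r⁻¹ := by rw [h3]
        _ = z * (r * v * r⁻¹) := by group
    rw [h2, h1]
    obtain ⟨⟨g, hgC⟩, rfl⟩ := hπ r
    have h3 : g⁻¹ * (t * x) * g ∈ C t := mul_mem (mul_mem (inv_mem hgC) (mul_mem tC hxC)) hgC
    have h4 := hval ⟨g⁻¹ * (t * x) * g, h3⟩ v hv hv1 (by
      have h5 : (⟨g⁻¹ * (t * x) * g, h3⟩ : C t) =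
          ⟨g, hgC⟩⁻¹ * (⟨t, tC⟩ * ⟨x, hxC⟩) * ⟨g, hgC⟩ := rfl
      have hx' : π ⟨x, hxC⟩ = π ⟨g, hgC⟩ * v * (π ⟨g, hgC⟩)⁻¹ := hx
      rw [h5, map_mul, map_mul, map_mul, map_inv, hz, hx']
      have h6 := (hzc (π ⟨g, hgC⟩)).eq
      calc (π ⟨g, hgC⟩)⁻¹ * (z * (π ⟨g, hgC⟩ * v * (π ⟨g, hgC⟩)⁻¹)) * π ⟨g, hgC⟩
          = (π ⟨g, hgC⟩)⁻¹ * (z * π ⟨g, hgC⟩) * v := by group
        _ = (π ⟨g, hgC⟩)⁻¹ * (π ⟨g, hgC⟩ * z) * v := by rw [h6]
        _ = z * v := by group)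
    rw [← h4]
    show ρ.character (t * x) = ρ.character (g⁻¹ * (t * x) * g)
    have h5 := Representation.char_conj ρ (t * x) g⁻¹
    rw [inv_inv] at h5
    exact h5.symm
  -- the sum over `U`
  have : Fintype U := Fintype.ofFinite _
  have hsum : ∑ v : U, σ.character (z * v) = Nat.card U * ((1 + c₁ : ℤ) : ℂ) := by
    rw [← Finset.add_sum_erase _ _ (Finset.mem_univ (1 : U))]
    rw [Finset.sum_congr rfl (fun (v : U) (hv : v ∈ Finset.univ.erase (1 : U)) =>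
      hzv v v.2 (fun h => (Finset.mem_erase.1 hv).1 (Subtype.ext h)))]
    rw [Finset.sum_const, Finset.card_erase_of_mem (Finset.mem_univ _), Finset.card_univ,
      ← Nat.card_eq_fintype_card, hC.card_U, coe_one, mul_one, hz1, hcc, nsmul_eq_mul,
      Nat.cast_sub (by omega)]
    push_cast
    ring
  have hznorm : z ∈ normalizer (U : Set Q) := by
    rw [mem_normalizer_iff]
    intro v
    have h1 : z * v * z⁻¹ = v := by rw [(hzc v).eq]; group
    rw [h1]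
  have e1 := two_mul_finrank' σ (Y := U) hzz hznorm (a := 1 + c₁) hsum
  have e2 : (2 * finrank ℂ (negSp σ z) : ℤ) = finrank ℂ (fixed ρ D) - c := by
    have : Fintype (⊥ : Subgroup Q) := Fintype.ofFinite _
    have h1 := two_mul_finrank' σ (Y := (⊥ : Subgroup Q)) hzz (a := c) (by
      rw [mem_normalizer_iff]
      intro y
      rw [mem_bot, mem_bot, mul_inv_eq_one]
      exact ⟨fun hy => by rw [hy, mul_one], fun hy => mul_eq_left.1 hy⟩) (by
      rw [Fintype.sum_unique, Subgroup.card_bot]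
      have h2 : ((default : (⊥ : Subgroup Q)) : Q) = 1 := Subgroup.mem_bot.1 (default : (⊥ : Subgroup Q)).2
      rw [h2, mul_one, hz1]
      simp)
    rw [fixed_bot, top_inf_eq, finrank_top] at h1
    exact h1
  have e3 := finrank_U_le j hj hzc hjU σ
  rw [hFq] at e3
  -- the fixed space of `S`
  have e4 : finrank ℂ (fixed ρ S) ≤ finrank ℂ (fixed σ U) := by
    refine le_trans ?_ (finrank_fixed_conj σ r hr)
    let f : fixed ρ S →ₗ[ℂ] fixed σ (imgS π S) :=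
      { toFun := fun v => ⟨⟨v, fun y hy => v.2 y (hDS hy)⟩, by
          rintro _ ⟨x, hx, rfl⟩
          rw [hσ]
          refine Subtype.ext ?_
          exact v.2 (x : G) hx⟩
        map_add' := fun _ _ => rfl
        map_smul' := fun _ _ => rfl }
    refine LinearMap.finrank_le_finrank_of_injective (f := f) ?_
    intro v w hvw
    have h2 : (((f v : fixed σ (imgS π S)) : fixed ρ D) : X) =
        (((f w : fixed σ (imgS π S)) : fixed ρ D) : X) := by rw [hvw]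
    exact Subtype.ext h2
  refine num_false hq hcc hn' (a := finrank ℂ (fixed ρ D)) (g := finrank ℂ (fixed σ U))
    (N := finrank ℂ (negSp σ z)) (f := finrank ℂ (fixed σ U ⊓ negSp σ z : Submodule ℂ _))
    ?_ e2 e1 e3 ?_
  · have h1 : (finrank ℂ X : ℤ) ≤ finrank ℂ (fixed ρ D) + n' := by exact_mod_cast hlb
    rw [hdim] at h1
    linarith
  · have h1 : (finrank ℂ (fixed ρ D) : ℤ) ≤ finrank ℂ (fixed ρ S) + n' := by exact_mod_cast hdS
    have h2 : (finrank ℂ (fixed ρ S) : ℤ) ≤ finrank ℂ (fixed σ U) := by exact_mod_cast e4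
    linarith

/-- **The field `img`.** -/
theorem img_of [Finite Q] (hD : CData z q ε Z T T' U s s' u₀ b) (h4 : Four t u)
    (hπ : Function.Surjective π) (hker : ∀ x : C t, π x = 1 ↔ (x : G) ∈ K t) {tC : t ∈ C t}
    {uC : u ∈ C t} (hz : π ⟨t, tC⟩ = z) (hu : π ⟨u, uC⟩ = u₀) {n' : ℕ}
    (hone : ε = 1 → Fintype.card F = q ∧ (∃ j : Matrix.SpecialLinearGroup (Fin 2) F →* Q,
      j (-1) = z ∧ ∀ a, j (Cfsg.Agent.Lib.SL2Hom.up a) ∈ U) ∧ Const ρ ∧ (n' : ℤ) < q ^ 2 - q ∧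
      ∃ c c₁ : ℤ, (finrank ℂ X : ℤ) = ((q : ℤ) ^ 2 - 1) + c + n' ∧ c = q + c₁ ∧
        ρ.character t = c ∧
        ∀ y : C t, ∀ v ∈ U, v ≠ 1 → π y = z * v → ρ.character (y : G) = c₁)
    {D S : Subgroup G} (hDs : Small t u D)
    (hDC : C t ≤ normalizer (D : Set G)) (hKD : K t ≤ D) (hDS : D ≤ S)
    (hS : ¬ 2 ∣ Nat.card S) (hSt : t ∈ normalizer (S : Set G))
    (hSu : u ∈ normalizer (S : Set G)) (hSC : C t ⊓ C u ≤ normalizer (S : Set G))
    (hlb : finrank ℂ X ≤ finrank ℂ (fixed ρ D) + n')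
    (hdS : finrank ℂ (fixed ρ D) ≤ finrank ℂ (fixed ρ S) + n') {y : G}
    (hy : y ∈ S) (hyC : y ∈ C t) : ∃ k ∈ K t, ∃ z ∈ S, z ∈ C t ∧ z ∈ C u ∧ y = k * z := by
  have hC := hD.chyp
  have hT : ∀ τ ∈ T, Commute (π ⟨u, uC⟩) τ := by
    intro τ hτ
    rw [hu]
    exact hC.T_comm _ hC.u_mem _ hτ
  refine conclusion h4 hker (uC := uC) hSu hT ?_ hy hyC
  have hodd := odd_imgS (π := π) hS
  have hnorm := norm_imgS (uC := uC) h4 hπ hker hSC hT
  rcases hC.eps with rfl | rfl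
  · obtain ⟨hFq, ⟨j, hj, hjU⟩, hc, hn', c, c₁, hdim, hcc, htr, hval⟩ := hone rfl
    rcases GammaOdd.normed hC (hD.norm₁ rfl) hodd hnorm with h1 | ⟨h1, -⟩ | ⟨h1, -⟩
    · exact h1
    · exact (false_of_root hC h4 hπ hker hz hFq j hj hjU hc hdim hcc htr hval hn' hDs hDC hKD hDS
        hS hlb hdS 1 (fun v hv => by
          have h2 : (1 : Q) * v * 1⁻¹ = v := by group
          rw [h2]; exact h1 hv)).elim
    · exact (false_of_root hC h4 hπ hker hz hFq j hj hjU hc hdim hcc htr hval hn' hDs hDC hKD hDS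
        hS hlb hdS s (fun v hv => h1 ⟨v, hv, rfl⟩)).elim
  · exact GammaOdd.normed_neg hC (hD.norm₂ rfl) hodd hnorm

end Rep

end Img

end Cfsg.Agent.Classification.QDW.FrameImg
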