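import Mathlib
import Cfsg.Agent.Classification.QDW.ThetaDefs

/-!
# The intersection of `O(M)` with the centralizers ([QDW], post 4737, step (4))

`M` covers `C(t)/K t`, `u ∈ M`. `EE u M = (O(M) ∩ C(u)) K u` has odd order, is normalised by
`C(⟨t, u⟩)` and `t` inverts `EE u M / K u`. If `EE u M = K u` then `O(M)` is small.
-/

set_option autoImplicit false
set_option linter.unusedSectionVars false

namespace Cfsg.Agent.Classification.QDW.AlphaBeta

open Subgroup Cfsg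
open Cfsg.Agent.Walter.SylowIn Cfsg.Agent.Walter.OddCoreIn Cfsg.Agent.Walter.Cover
open Cfsg.Agent.Classification.QDW.Theta

variable {G : Type*} [Group G]

/-- An involution without fixed points outside `N` inverts `O / N`. -/
theorem inv_mod [Finite G] {t : G} (tt : t * t = 1) {O N : Subgroup G} (hNO : N ≤ O)
    (hn : O ≤ normalizer (N : Set G)) (hodd : ¬ 2 ∣ Nat.card O)
    (htO : ∀ x ∈ O, t * x * t⁻¹ ∈ O) (htN : ∀ x ∈ N, t * x * t⁻¹ ∈ N) (hfix : O ⊓ C t ≤ N)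
    {y : G} (hy : y ∈ O) : y * (t * y * t⁻¹) ∈ N := by
  have hnorm : (N.subgroupOf O).Normal := (normal_subgroupOf_iff_le_normalizer hNO).2 hn
  let ψ : O →* O :=
    { toFun := fun x => ⟨t * x * t⁻¹, htO x x.2⟩
      map_one' := Subtype.ext (by simp)
      map_mul' := fun a b => Subtype.ext (by
        change t * ((a : G) * b) * t⁻¹ = (t * a * t⁻¹) * (t * b * t⁻¹)
        group) }
  have hψ : N.subgroupOf O ≤ (N.subgroupOf O).comap ψ := by
    intro x hx
    exact htN x hx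
  let φ : (O ⧸ N.subgroupOf O) →* (O ⧸ N.subgroupOf O) := QuotientGroup.map _ _ ψ hψ
  have hφ : ∀ x : O, φ (x : O ⧸ N.subgroupOf O) = ((ψ x : O) : O ⧸ N.subgroupOf O) := fun x => rfl
  have hfp : MonoidHom.FixedPointFree φ := by
    intro g hg
    obtain ⟨x, rfl⟩ := QuotientGroup.mk_surjective g
    rw [hφ] at hg
    have h1 : x⁻¹ * ψ x ∈ N.subgroupOf O := QuotientGroup.eq.1 hg.symm
    obtain ⟨m, hm, hxm⟩ := exists_commute_coset (M := N) tt (not_dvd_of_le hNO hodd) (x : G) htN h1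
    have h2 : (x : G) * m ∈ N := hfix (mem_inf.2 ⟨mul_mem x.2 (hNO hm), hxm⟩)
    have h3 : (x : G) ∈ N := by
      have := mul_mem h2 (inv_mem hm)
      rwa [mul_inv_cancel_right] at this
    exact (QuotientGroup.eq_one_iff x).2 h3
  have hinv : Function.Involutive φ := by
    intro g
    obtain ⟨x, rfl⟩ := QuotientGroup.mk_surjective g
    rw [hφ, hφ]
    congr 1
    apply Subtype.ext
    change t * (t * (x : G) * t⁻¹) * t⁻¹ = x
    have : t⁻¹ = t := inv_eq_of_mul_eq_one_left tt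
    rw [this, show t * (t * (x : G) * t) * t = (t * t) * x * (t * t) by group, tt]
    group
  have h1 := congrFun (hfp.coe_eq_inv_of_involutive hinv) ((⟨y, hy⟩ : O) : O ⧸ N.subgroupOf O)
  rw [hφ] at h1
  have h2 : ((⟨y, hy⟩ : O) : O ⧸ N.subgroupOf O) * ((ψ ⟨y, hy⟩ : O) : O ⧸ N.subgroupOf O) = 1 := by
    rw [h1, mul_inv_cancel]
  rw [← QuotientGroup.mk_mul, QuotientGroup.eq_one_iff] at h2
  exact h2

/-- Two involutions in the same coset of an odd order subgroup are conjugate under it. -/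
theorem exists_conj_of_coset [Finite G] {D : Subgroup G} (hD : ¬ 2 ∣ Nat.card D) {z v : G}
    (hz : z * z = 1) (hv : v * v = 1) (hzv : z * v ∈ D) : ∃ m ∈ D, m⁻¹ * z * m = v := by
  have h1 : Odd (orderOf (z * v)) := by
    rw [← Nat.not_even_iff_odd, even_iff_two_dvd]
    intro h2
    have h3 : orderOf (z * v) ∣ Nat.card D := by
      have := orderOf_dvd_natCard (⟨z * v, hzv⟩ : D)
      rwa [← Subgroup.orderOf_coe] at this
    exact hD (h2.trans h3)
  obtain ⟨j, hj⟩ := h1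
  set y := z * v with hy
  have hzi : z⁻¹ = z := inv_eq_of_mul_eq_one_left hz
  have hvi : v⁻¹ = v := inv_eq_of_mul_eq_one_left hv
  have hinv : z * y * z⁻¹ = y⁻¹ := by
    rw [hy, mul_inv_rev, hzi, hvi]
    calc z * (z * v) * z = (z * z) * v * z := by group
      _ = v * z := by rw [hz, one_mul]
  have hpow : y ^ (2 * j + 1) = 1 := by rw [← hj, pow_orderOf_eq_one]
  refine ⟨y ^ (j + 1), pow_mem hzv _, ?_⟩
  have h2 : z * y ^ (j + 1) * z⁻¹ = (y ^ (j + 1))⁻¹ := by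
    rw [← conj_pow, hinv, inv_pow]
  have h3 : (y ^ (j + 1))⁻¹ * z = z * y ^ (j + 1) := by
    rw [← h2, inv_mul_cancel_right]
  rw [h3, mul_assoc, ← pow_add]
  have h4 : j + 1 + (j + 1) = (2 * j + 1) + 1 := by ring
  rw [h4, pow_succ, hpow, one_mul, hy, ← mul_assoc, hz, one_mul]

section

variable [Finite G] {t u : G} {M : Subgroup G}

/-- The image of `O(M) ∩ C(u)` in `C(u)/K u`, as a subgroup of `G`. -/
def EE (u : G) (M : Subgroup G) : Subgroup G := (OO M ⊓ C u) ⊔ K u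

theorem K_le_EE : K u ≤ EE u M := le_sup_right

theorem EE_le_C : EE u M ≤ C u := sup_le inf_le_right (core_le_C u)

theorem inf_le_normalizer_K : OO M ⊓ C u ≤ normalizer (K u : Set G) :=
  inf_le_right.trans (C_le_normalizer_core u)

theorem mem_EE {y : G} : y ∈ EE u M ↔ ∃ o ∈ OO M ⊓ C u, ∃ k ∈ K u, y = o * k := by
  constructor
  · intro h
    obtain ⟨o, ho, k, hk, e⟩ := (mem_sup_iff_mul inf_le_normalizer_K).1 h
    exact ⟨o, ho, k, hk, e⟩
  · rintro ⟨o, ho, k, hk, rfl⟩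
    exact mul_mem (mem_sup_left ho) (mem_sup_right hk)

theorem EE_odd : ¬ 2 ∣ Nat.card (EE u M) :=
  not_dvd_sup Nat.prime_two inf_le_normalizer_K (not_dvd_of_le inf_le_left (OO_odd M)) (core_odd u)

/-- `t` inverts `(O(M) ∩ C(u)) K(u) / K(u)`. -/
theorem inv_EE (h4 : Four t u) (hc : Cov t M) (hb : K t ⊓ C u ≤ K u) {y : G}
    (hy : y ∈ EE u M) : y * (t * y * t⁻¹) ∈ K u := by
  have htu : t ∈ C u := mem_C.2 h4.comm
  have hO : ∀ o ∈ OO M ⊓ C u, o * (t * o * t⁻¹) ∈ OO M ⊓ K u := by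
    intro o ho
    refine inv_mod h4.tt (O := OO M ⊓ C u) (N := OO M ⊓ K u)
      (inf_le_inf_left _ (core_le_C u)) ?_ (not_dvd_of_le inf_le_left (OO_odd M)) ?_ ?_ ?_ ho
    · rw [le_normalizer_iff']
      rintro a ⟨ha1, ha2⟩ x ⟨hx1, hx2⟩
      exact mem_inf.2 ⟨mul_mem (mul_mem ha1 hx1) (inv_mem ha1),
        conj_mem (C_le_normalizer_core u) ha2 hx2⟩
    · rintro x ⟨hx1, hx2⟩
      exact mem_inf.2 ⟨conj_mem (le_normalizer_OO M) hc.1 hx1,
        mul_mem (mul_mem htu hx2) (inv_mem htu)⟩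
    · rintro x ⟨hx1, hx2⟩
      exact mem_inf.2 ⟨conj_mem (le_normalizer_OO M) hc.1 hx1,
        conj_mem (C_le_normalizer_core u) htu hx2⟩
    · rintro x ⟨⟨hx1, hx2⟩, hx3⟩
      exact mem_inf.2 ⟨hx1, hb (mem_inf.2 ⟨hc.OO_inf_le (mem_inf.2 ⟨hx1, hx3⟩), hx2⟩)⟩
  obtain ⟨o, ho, k, hk, rfl⟩ := mem_EE.1 hy
  have h1 := (mem_inf.1 (hO o ho)).2
  have h2 : t * k * t⁻¹ ∈ K u := conj_mem (C_le_normalizer_core u) htu hk
  have hto : t * o * t⁻¹ ∈ C u := mul_mem (mul_mem htu ho.2) (inv_mem htu)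
  have h3 : (t * o * t⁻¹)⁻¹ * k * (t * o * t⁻¹) ∈ K u := by
    have := conj_mem (C_le_normalizer_core u) (inv_mem hto) hk
    simpa using this
  have e : o * k * (t * (o * k) * t⁻¹) =
      (o * (t * o * t⁻¹)) * ((t * o * t⁻¹)⁻¹ * k * (t * o * t⁻¹)) * (t * k * t⁻¹) := by group
  rw [e]
  exact mul_mem (mul_mem h1 h3) h2

/-- `C(⟨t, u⟩)` is the product of its intersections with `K t` and `M`. -/
theorem exists_factor_four (h4 : Four t u) (hu : u ∈ M) (hc : Cov t M) {c : G}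
    (hct : c ∈ C t) (hcu : c ∈ C u) :
    ∃ x ∈ K t ⊓ C u, ∃ h ∈ M ⊓ (C t ⊓ C u), c = x * h := by
  have hut : u ∈ C t := mem_C.2 h4.comm.symm
  obtain ⟨x, hx, h, ⟨hhM, hht⟩, rfl⟩ := hc.2 c hct
  have hcomm : u * (x * h) * u⁻¹ = x * h := by
    rw [mul_inv_eq_iff_eq_mul]; exact (mem_C.1 hcu).symm
  have hkey : h⁻¹ * (u * h * u⁻¹) ∈ K t ⊓ M := by
    refine mem_inf.2 ⟨?_, mul_mem (inv_mem hhM) (mul_mem (mul_mem hu hhM) (inv_mem hu))⟩
    have e : h⁻¹ * (u * h * u⁻¹) = h⁻¹ * ((u * x⁻¹ * u⁻¹) * x) * h := by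
      have e1 : u * h * u⁻¹ = (u * x⁻¹ * u⁻¹) * (u * (x * h) * u⁻¹) := by group
      rw [e1, hcomm]; group
    rw [e]
    have h1 : (u * x⁻¹ * u⁻¹) * x ∈ K t :=
      mul_mem (conj_mem (C_le_normalizer_core t) hut (inv_mem hx)) hx
    have := conj_mem (C_le_normalizer_core t) (inv_mem hht) h1
    simpa using this
  obtain ⟨m, hm, hhm⟩ := exists_commute_coset (M := K t ⊓ M) h4.uu
    (not_dvd_of_le inf_le_left (core_odd t)) h
    (fun m hm => mem_inf.2 ⟨conj_mem (C_le_normalizer_core t) hut hm.1,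
      mul_mem (mul_mem hu hm.2) (inv_mem hu)⟩) hkey
  refine ⟨x * h * (h * m)⁻¹, mem_inf.2 ⟨?_, mul_mem hcu (inv_mem hhm)⟩, h * m,
    mem_inf.2 ⟨mul_mem hhM hm.2, mem_inf.2 ⟨mul_mem hht (core_le_C t hm.1), hhm⟩⟩, by group⟩
  have e : x * h * (h * m)⁻¹ = x * (h * m⁻¹ * h⁻¹) := by group
  rw [e]
  exact mul_mem hx (conj_mem (C_le_normalizer_core t) hht (inv_mem hm.1))

/-- `C(⟨t, u⟩)` normalises `(O(M) ∩ C(u)) K(u)`. -/
theorem le_normalizer_EE (h4 : Four t u) (hu : u ∈ M) (hc : Cov t M) (hb : K t ⊓ C u ≤ K u) :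
    C t ⊓ C u ≤ normalizer (EE u M : Set G) := by
  rw [le_normalizer_iff']
  rintro c ⟨hct, hcu⟩ y hy
  obtain ⟨x, hx, h, ⟨hhM, hht, hhu⟩, rfl⟩ := exists_factor_four h4 hu hc hct hcu
  obtain ⟨o, ho, k, hk, rfl⟩ := mem_EE.1 hy
  have h1 : h * (o * k) * h⁻¹ ∈ EE u M := by
    have e : h * (o * k) * h⁻¹ = (h * o * h⁻¹) * (h * k * h⁻¹) := by group
    rw [e]
    exact mul_mem (mem_sup_left (mem_inf.2 ⟨conj_mem (le_normalizer_OO M) hhM ho.1,
      mul_mem (mul_mem hhu ho.2) (inv_mem hhu)⟩))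
      (mem_sup_right (conj_mem (C_le_normalizer_core u) hhu hk))
  have e : x * h * (o * k) * (x * h)⁻¹ = x * (h * (o * k) * h⁻¹) * x⁻¹ := by group
  rw [e]
  have hxE : x ∈ EE u M := K_le_EE (hb hx)
  exact mul_mem (mul_mem hxE h1) (inv_mem hxE)

/-- The element swapping `u` and `t u` can be taken in `M`. -/
theorem exists_flip (h4 : Four t u) (hu : u ∈ M) (hc : Cov t M)
    (hw : ∃ w, w * t * w⁻¹ = t ∧ w * u * w⁻¹ = t * u) :
    ∃ w ∈ M ⊓ C t, w * u * w⁻¹ = t * u := by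
  obtain ⟨w, hwt, hwu⟩ := hw
  have hwC : w ∈ C t := mem_C.2 (by rwa [mul_inv_eq_iff_eq_mul] at hwt)
  have hut : u ∈ C t := mem_C.2 h4.comm.symm
  have htt : t ∈ C t := self_mem_C t
  obtain ⟨x, hx, h, ⟨hhM, hht⟩, rfl⟩ := hc.2 w hwC
  have hz2 : (t * u) * (t * u) = 1 := by
    calc (t * u) * (t * u) = t * (u * t) * u := by group
      _ = (t * t) * (u * u) := by rw [← h4.comm]; group
      _ = 1 := by rw [h4.tt, h4.uu, one_mul]
  have hzC : t * u ∈ C t := mul_mem htt hut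
  have hzM : t * u ∈ M := mul_mem hc.1 hu
  set v := h * u * h⁻¹ with hv
  have hv2 : v * v = 1 := by
    rw [hv]
    calc h * u * h⁻¹ * (h * u * h⁻¹) = h * (u * u) * h⁻¹ := by group
      _ = 1 := by rw [h4.uu]; group
  have hvz : v = x⁻¹ * (t * u) * x := by
    rw [← hwu, hv]; group
  have hzv : t * u * v ∈ K t ⊓ M := by
    refine mem_inf.2 ⟨?_, mul_mem hzM (mul_mem (mul_mem hhM hu) (inv_mem hhM))⟩
    have hzi : (t * u)⁻¹ = t * u := inv_eq_of_mul_eq_one_left hz2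
    have e : t * u * v = ((t * u) * x⁻¹ * (t * u)⁻¹) * x := by
      rw [hvz, hzi]; group
    rw [e]
    exact mul_mem (conj_mem (C_le_normalizer_core t) hzC (inv_mem hx)) hx
  obtain ⟨m, hm, hmv⟩ := exists_conj_of_coset (not_dvd_of_le inf_le_left (core_odd t)) hz2 hv2 hzv
  refine ⟨m * h, mem_inf.2 ⟨mul_mem hm.2 hhM, mul_mem (core_le_C t hm.1) hht⟩, ?_⟩
  calc m * h * u * (m * h)⁻¹ = m * (h * u * h⁻¹) * m⁻¹ := by group
    _ = m * v * m⁻¹ := rfl
    _ = t * u := by rw [← hmv]; group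

theorem conj_K {w x y : G} (hw : w * x * w⁻¹ = y) {k : G} (hk : k ∈ K x) :
    w * k * w⁻¹ ∈ K y := by
  subst hw
  have h1 : (K x).map (MulAut.conj w).toMonoidHom ≤ K (w * x * w⁻¹) := by
    have hC : (C x).map (MulAut.conj w).toMonoidHom = C (w * x * w⁻¹) := by
      ext g
      rw [mem_C, mem_map]
      constructor
      · rintro ⟨c, hc, rfl⟩
        change w * c * w⁻¹ * (w * x * w⁻¹) = w * x * w⁻¹ * (w * c * w⁻¹)
        have := mem_C.1 hc
        calc w * c * w⁻¹ * (w * x * w⁻¹) = w * (c * x) * w⁻¹ := by group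
          _ = w * (x * c) * w⁻¹ := by rw [this]
          _ = _ := by group
      · intro hg
        refine ⟨w⁻¹ * g * w, mem_C.2 ?_, by
          change w * (w⁻¹ * g * w) * w⁻¹ = g
          group⟩
        calc w⁻¹ * g * w * x = w⁻¹ * (g * (w * x * w⁻¹)) * w := by group
          _ = w⁻¹ * ((w * x * w⁻¹) * g) * w := by rw [hg]
          _ = _ := by group
    refine le_core ?_ ?_ ?_
    · rw [← hC]
      exact map_mono (core_le_C x)
    · rw [← hC, le_normalizer_iff']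
      rintro _ ⟨c, hc, rfl⟩ _ ⟨y, hy, rfl⟩
      refine ⟨c * y * c⁻¹, conj_mem (C_le_normalizer_core x) hc hy, ?_⟩
      rw [map_mul, map_mul, map_inv]
    · rw [Subgroup.card_map_of_injective (MulAut.conj w).injective]
      exact core_odd x
  exact h1 ⟨k, hk, rfl⟩

/-- **Case ALPHA.** If `O(M) ∩ C(u) ≤ K u`, then `O(M)` is small. -/
theorem small_of (h4 : Four t u) (hu : u ∈ M) (hc : Cov t M)
    (hw : ∃ w, w * t * w⁻¹ = t ∧ w * u * w⁻¹ = t * u) (ha : OO M ⊓ C u ≤ K u) :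
    Small t u (OO M) where
  odd := OO_odd M
  norm_t := le_normalizer_OO M hc.1
  norm_u := le_normalizer_OO M hu
  le := by
    rintro x (rfl | rfl | rfl)
    · exact hc.OO_inf_le
    · exact ha
    · obtain ⟨w, ⟨hwM, hwt⟩, hwu⟩ := exists_flip h4 hu hc hw
      rintro y ⟨hyM, hyC⟩
      have h1 : w⁻¹ * y * w ∈ OO M ⊓ C u := by
        refine mem_inf.2 ⟨?_, mem_C.2 ?_⟩
        · have := conj_mem (le_normalizer_OO M) (inv_mem hwM) hyM
          simpa using this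
        · have h2 := mem_C.1 hyC
          rw [← hwu] at h2
          calc w⁻¹ * y * w * u = w⁻¹ * (y * (w * u * w⁻¹)) * w := by group
            _ = w⁻¹ * ((w * u * w⁻¹) * y) * w := by rw [h2]
            _ = _ := by group
      have h2 := conj_K hwu (ha h1)
      have e : w * (w⁻¹ * y * w) * w⁻¹ = y := by group
      rwa [e] at h2

/-- **Case ALPHA**: the package. -/
theorem pkg_of_small {p : ℕ} (hs : Small t u (OO M)) : Pkg p t u M (OO M) where
  le := le_rfl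
  normal := le_normalizer_OO M
  small := hs
  gen := fun _ h _ _ => h
  quot := fun _ _ _ _ h _ => h
  claim := fun _ _ _ _ => inf_le_right

/-- **Case ALPHA**: the package. -/
theorem pkg_of_EE {p : ℕ} (h4 : Four t u) (hu : u ∈ M) (hc : Cov t M)
    (hw : ∃ w, w * t * w⁻¹ = t ∧ w * u * w⁻¹ = t * u) (ha : EE u M ≤ K u) :
    Pkg p t u M (OO M) :=
  pkg_of_small (small_of h4 hu hc hw (le_sup_left.trans ha))

end

end Cfsg.Agent.Classification.QDW.AlphaBeta
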