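import Mathlib
import Cfsg.Prelude.Def_Characters
import Cfsg.Agent.Characters.Core
import Cfsg.Agent.OddOrderCharacters.PF9.CliffGen
import Cfsg.Agent.Classification.QDW.GlauberTwo

/-!
# The root group case of the `θ`-small argument

`M` a finite group, `O` a normal subgroup of odd order, `t`, `u` commuting involutions.

* `exists_glauberman`: the `u`-invariant irreducible character of `O` over an irreducible
  constituent `ζ` of `c ↦ χ (u c)` on `C_O(u)`.
-/

set_option autoImplicit false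
set_option linter.unusedSectionVars false

namespace Cfsg.Agent.Classification.QDW.Beta

open Cfsg Cfsg.Agent.Characters Cfsg.Agent.Classification.BGOrder
  Cfsg.Agent.OddOrderCharacters.NormalInduced Cfsg.Agent.OddOrderCharacters.IndRes
  Cfsg.Agent.OddOrderCharacters.PF9.CliffGen
open scoped ComplexConjugate

universe u

variable {M : Type u} [Group M]

/-- `C_O(u)`. -/
def Cu (O : Subgroup M) (u : M) : Subgroup M := O ⊓ Subgroup.centralizer ({u} : Set M)

theorem mem_Cu {O : Subgroup M} {u x : M} : x ∈ Cu O u ↔ x ∈ O ∧ Commute u x := by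
  rw [Cu, Subgroup.mem_inf, Subgroup.mem_centralizer_singleton_iff]
  exact ⟨fun h => ⟨h.1, h.2.symm⟩, fun h => ⟨h.1, h.2.symm⟩⟩

section Glauberman

variable [Finite M] {O : Subgroup M} {u : M}

theorem not_mem_of_sq (hO : Odd (Nat.card O)) (hu : u * u = 1) (hu1 : u ≠ 1) : u ∉ O := by
  intro h
  have h1 : orderOf (⟨u, h⟩ : O) ∣ 2 := by
    rw [orderOf_dvd_iff_pow_eq_one, sq]
    exact Subtype.ext hu
  have h2 : orderOf (⟨u, h⟩ : O) ∣ Nat.card O := orderOf_dvd_natCard _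
  have h3 := Nat.Coprime.eq_one_of_dvd
    ((Nat.coprime_two_left.2 hO).coprime_dvd_left h1) h2
  rw [orderOf_eq_one_iff] at h3
  exact hu1 (congrArg Subtype.val h3)

/-- The subgroup `O ∪ u O`. -/
def Ou (O : Subgroup M) (u : M) : Subgroup M := O ⊔ Subgroup.zpowers u

theorem mem_Ou [hN : O.Normal] (hu : u * u = 1) {x : M} : x ∈ Ou O u ↔ x ∈ O ∨ u * x ∈ O := by
  rw [Ou, Subgroup.mem_sup_of_normal_left]
  constructor
  · rintro ⟨y, hy, z, hz, rfl⟩
    rcases GlauberTwo.mem_zpowers_two hu hz with rfl | rfl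
    · left; rwa [mul_one]
    · right
      have h := hN.conj_mem y hy z
      have h2 : z * (y * z) = z * y * z⁻¹ * (z * z) := by group
      rw [h2, hu, mul_one]
      exact h
  · rintro (h | h)
    · exact ⟨x, h, 1, one_mem _, mul_one _⟩
    · have h1 := hN.conj_mem _ h u⁻¹
      have h2 : u⁻¹ * (u * x) * u⁻¹⁻¹ = x * u := by group
      rw [h2] at h1
      have h3 : u⁻¹ = u := inv_eq_of_mul_eq_one_left hu
      refine ⟨x * u⁻¹, ?_, u, Subgroup.mem_zpowers u, inv_mul_cancel_right x u⟩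
      rwa [h3]

theorem le_Ou : O ≤ Ou O u := le_sup_left

theorem u_mem_Ou : u ∈ Ou O u := Subgroup.mem_sup_right (Subgroup.mem_zpowers u)

theorem setup [hN : O.Normal] (hO : Odd (Nat.card O)) (hu : u * u = 1) (hu1 : u ≠ 1) :
    GlauberTwo.Setup (O.subgroupOf (Ou O u)) (⟨u, u_mem_Ou⟩ : Ou O u) where
  normal := hN.subgroupOf _
  odd := by
    rw [Nat.card_congr (Subgroup.subgroupOfEquivOfLe le_Ou).toEquiv]
    exact hO
  sq := Subtype.ext hu
  not_mem := fun h => not_mem_of_sq hO hu hu1 (Subgroup.mem_subgroupOf.1 h)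
  cover := by
    rintro ⟨x, hx⟩ h
    rw [Subgroup.mem_subgroupOf] at h ⊢
    exact ((mem_Ou hu).1 hx).resolve_left h

/-- `w ↦ f (u w)`. -/
def tw (f : Ou O u → ℂ) : Cu O u → ℂ :=
  fun w => f ⟨u * w, mul_mem u_mem_Ou (le_Ou (mem_Cu.1 w.2).1)⟩

theorem tw_apply (f : Ou O u → ℂ) (w : Cu O u) :
    tw f w = f ⟨u * w, mul_mem u_mem_Ou (le_Ou (mem_Cu.1 w.2).1)⟩ := rfl

/-- The two versions of `C_O(u)`. -/
def eF : GlauberTwo.Fix (O.subgroupOf (Ou O u)) (⟨u, u_mem_Ou⟩ : Ou O u) ≃* Cu O u where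
  toFun x := ⟨((x : Ou O u) : M), mem_Cu.2 ⟨(GlauberTwo.mem_fix.1 x.2).1,
    congrArg Subtype.val (GlauberTwo.mem_fix.1 x.2).2⟩⟩
  invFun x := ⟨⟨x, le_Ou (mem_Cu.1 x.2).1⟩, GlauberTwo.mem_fix.2 ⟨(mem_Cu.1 x.2).1,
    Subtype.ext (mem_Cu.1 x.2).2⟩⟩
  left_inv _ := rfl
  right_inv _ := rfl
  map_mul' _ _ := rfl

theorem classInner_fix [Fintype M] [Fintype (Cu O u)]
    [Fintype (GlauberTwo.Fix (O.subgroupOf (Ou O u)) (⟨u, u_mem_Ou⟩ : Ou O u))]
    (f g : Ou O u → ℂ) :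
    classInner (fun w : GlauberTwo.Fix (O.subgroupOf (Ou O u)) (⟨u, u_mem_Ou⟩ : Ou O u) =>
      f ((⟨u, u_mem_Ou⟩ : Ou O u) * w)) (fun w => g ((⟨u, u_mem_Ou⟩ : Ou O u) * w)) =
      classInner (tw f) (tw g) :=
  Clifford.classInner_comp_mulEquiv eF (tw f) (tw g)

theorem classInner_sub [Fintype (Ou O u)] [Fintype (Cu O u)] [hN : O.Normal]
    (hO : Odd (Nat.card O)) (hu : u * u = 1) (hu1 : u ≠ 1) {f g : Ou O u → ℂ}
    (hf : IsClassFunction _ f) (hg : IsClassFunction _ g) :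
    classInner f g - classInner f (g * GlauberTwo.sgn (O.subgroupOf (Ou O u))) =
      classInner (tw f) (tw g) := by
  classical
  let _ : Fintype M := Fintype.ofFinite _
  let _ : Fintype (GlauberTwo.Fix (O.subgroupOf (Ou O u)) (⟨u, u_mem_Ou⟩ : Ou O u)) :=
    Fintype.ofFinite _
  rw [GlauberTwo.classInner_sub_sgn (setup hO hu hu1) hf hg, classInner_fix]

theorem classInner_add [Fintype (Ou O u)] [Fintype O] [hN : O.Normal]
    (hO : Odd (Nat.card O)) (hu : u * u = 1) (hu1 : u ≠ 1) {f g : Ou O u → ℂ}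
    (hf : IsClassFunction _ f) (hg : IsClassFunction _ g) :
    classInner f g + classInner f (g * GlauberTwo.sgn (O.subgroupOf (Ou O u))) =
      classInner (resTo le_Ou f) (resTo le_Ou g) := by
  classical
  let _ : Fintype (O.subgroupOf (Ou O u)) := Fintype.ofFinite _
  rw [GlauberTwo.classInner_add_sgn (setup hO hu hu1) hf hg]
  exact Clifford.classInner_comp_mulEquiv (Subgroup.subgroupOfEquivOfLe (le_Ou (u := u)))
    (resTo le_Ou f) (resTo le_Ou g)

theorem isGeneralized_tw {ψ : Ou O u → ℂ} (hu : u * u = 1)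
    (hψ : IsCharacter (Ou O u) ψ) : IsGeneralizedCharacter (Cu O u) (tw ψ) := by
  have h1 := GlauberTwo.isGeneralized_twist (s := (⟨u, u_mem_Ou⟩ : Ou O u)) (Subtype.ext hu)
    (GlauberTwo.Fix (O.subgroupOf (Ou O u)) (⟨u, u_mem_Ou⟩ : Ou O u))
    (fun w hw => (GlauberTwo.mem_fix.1 hw).2) hψ
  obtain ⟨a, b, ha, hb, hab⟩ := h1
  refine ⟨_, _, Core.isCharacter_comp eF.symm.toMonoidHom ha,
    Core.isCharacter_comp eF.symm.toMonoidHom hb, ?_⟩
  funext w
  exact congrFun hab (eF.symm w)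

/-- An irreducible character of `O⟨u⟩` not vanishing at the elements `u w` is irreducible on `O`
and up to sign irreducible as a function of `w`. -/
theorem signed_of_irr [hN : O.Normal] (hO : Odd (Nat.card O)) (hu : u * u = 1)
    (hu1 : u ≠ 1) {ψ : Ou O u → ℂ} (hψ : IsIrrCharacter (Ou O u) ψ) (hne : tw ψ ≠ 0) :
    IsIrrCharacter O (resTo le_Ou ψ) ∧ SignedIrr (tw ψ) := by
  classical
  let _ : Fintype M := Fintype.ofFinite _
  let _ : Fintype (Ou O u) := Fintype.ofFinite _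
  let _ : Fintype (Cu O u) := Fintype.ofFinite _
  let _ : Fintype O := Fintype.ofFinite _
  have hc := Core.isIrr_isClassFunction hψ
  have h1 := classInner_sub hO hu hu1 hc hc
  have h2 := classInner_add hO hu hu1 hc hc
  rw [Core.classInner_irr_self hψ] at h1 h2
  have h3 := GlauberTwo.isIrr_mul_sgn (setup hO hu hu1) hψ
  rw [Core.classInner_irr hψ h3] at h1 h2
  have h4 : ¬ ψ = ψ * GlauberTwo.sgn (O.subgroupOf (Ou O u)) := by
    intro h5
    rw [if_pos h5, sub_self] at h1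
    exact hne (Core.classInner_self_eq_zero h1.symm)
  rw [if_neg h4, sub_zero] at h1
  rw [if_neg h4, add_zero] at h2
  refine ⟨Core.isIrr_of_classInner_self (isCharacter_resTo le_Ou (Core.isIrr_isCharacter hψ))
    h2.symm, ?_⟩
  exact Core.isIrr_of_generalized (isGeneralized_tw hu (Core.isIrr_isCharacter hψ)) h1.symm

theorem conj_mem_Cu [hN : O.Normal] {g : M} (hg : Commute u g) {w : M} (hw : w ∈ Cu O u) :
    g * w * g⁻¹ ∈ Cu O u := by
  obtain ⟨h1, h2⟩ := mem_Cu.1 hw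
  exact mem_Cu.2 ⟨hN.conj_mem w h1 g, (hg.mul_right h2).mul_right hg.inv_right⟩

theorem conj_mem_Ou [hN : O.Normal] (hu : u * u = 1) {g : M} (hg : Commute u g) {x : M}
    (hx : x ∈ Ou O u) : g * x * g⁻¹ ∈ Ou O u := by
  rw [mem_Ou hu] at hx ⊢
  rcases hx with h | h
  · exact Or.inl (hN.conj_mem x h g)
  · right
    have h1 := hN.conj_mem _ h g
    have h2 : g * (u * x) * g⁻¹ = u * (g * x * g⁻¹) := by
      rw [← mul_assoc g u x, ← hg.eq]
      group
    rwa [h2] at h1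

/-- Conjugation by an element commuting with `u`, on `O⟨u⟩`. -/
def conjOu [hN : O.Normal] (hu : u * u = 1) (g : M) (hg : Commute u g) : Ou O u →* Ou O u where
  toFun x := ⟨g * x * g⁻¹, conj_mem_Ou hu hg x.2⟩
  map_one' := Subtype.ext (by simp)
  map_mul' x y := Subtype.ext (by simp [mul_assoc])

theorem conjOu_surjective [hN : O.Normal] (hu : u * u = 1) (g : M) (hg : Commute u g) :
    Function.Surjective (conjOu (O := O) hu g hg) := by
  intro x
  refine ⟨⟨g⁻¹ * x * g, ?_⟩, ?_⟩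
  · have := conj_mem_Ou hu hg.inv_right x.2
    rwa [inv_inv] at this
  · apply Subtype.ext
    show g * (g⁻¹ * x * g) * g⁻¹ = x
    group

theorem resTo_conjOu [hN : O.Normal] (hu : u * u = 1) (g : M) (hg : Commute u g)
    (ψ : Ou O u → ℂ) : resTo le_Ou (ψ ∘ conjOu hu g hg) = conjFn O (resTo le_Ou ψ) g := rfl

theorem tw_conjOu [hN : O.Normal] (hu : u * u = 1) (g : M) (hg : Commute u g)
    (ψ : Ou O u → ℂ) (w : Cu O u) :
    tw (ψ ∘ conjOu hu g hg) w = tw ψ ⟨g * w * g⁻¹, conj_mem_Cu hg w.2⟩ := by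
  show ψ _ = ψ _
  congr 1
  apply Subtype.ext
  show g * (u * w) * g⁻¹ = u * (g * w * g⁻¹)
  rw [← mul_assoc g u, ← hg.eq]
  group

/-- Two irreducible characters of `O⟨u⟩` with the same irreducible restriction to `O` differ at
most by sign at the elements `u w`. -/
theorem tw_eq_or_neg [hN : O.Normal] (hO : Odd (Nat.card O)) (hu : u * u = 1)
    (hu1 : u ≠ 1) {ψ φ : Ou O u → ℂ} (hψ : IsIrrCharacter (Ou O u) ψ)
    (hφ : IsIrrCharacter (Ou O u) φ) (hr : resTo le_Ou ψ = resTo le_Ou φ)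
    (hirr : IsIrrCharacter O (resTo le_Ou φ)) : tw ψ = tw φ ∨ tw ψ = - tw φ := by
  classical
  let _ : Fintype M := Fintype.ofFinite _
  let _ : Fintype (Ou O u) := Fintype.ofFinite _
  let _ : Fintype (Cu O u) := Fintype.ofFinite _
  let _ : Fintype O := Fintype.ofFinite _
  have h1 := classInner_add hO hu hu1 (Core.isIrr_isClassFunction hψ)
    (Core.isIrr_isClassFunction hφ)
  rw [hr, Core.classInner_irr_self hirr, Core.classInner_irr hψ hφ,
    Core.classInner_irr hψ (GlauberTwo.isIrr_mul_sgn (setup hO hu hu1) hφ)] at h1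
  by_cases h2 : ψ = φ
  · left; rw [h2]
  · by_cases h3 : ψ = φ * GlauberTwo.sgn (O.subgroupOf (Ou O u))
    · right
      funext w
      rw [Pi.neg_apply, h3, tw_apply, tw_apply, Pi.mul_apply, GlauberTwo.sgn_of_not_mem, mul_neg,
        mul_one]
      intro h4
      have h5 : u * (w : M) ∈ O := Subgroup.mem_subgroupOf.1 h4
      refine not_mem_of_sq hO hu hu1 ?_
      have h6 := O.mul_mem h5 (O.inv_mem (mem_Cu.1 w.2).1)
      rwa [mul_inv_cancel_right] at h6
    · rw [if_neg h2, if_neg h3] at h1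
      norm_num at h1

/-- The `u`-invariant irreducible character of `O` over an irreducible constituent `ζ` of
`w ↦ χ (u w)`. -/
theorem exists_glauberman [hN : O.Normal] [Fintype O] [Fintype (Cu O u)]
    (hO : Odd (Nat.card O)) (hu : u * u = 1)
    (hu1 : u ≠ 1) {χ : M → ℂ} (hχ : IsCharacter M χ) {ζ : Cu O u → ℂ}
    (hζ : IsIrrCharacter (Cu O u) ζ)
    (hne : classInner (fun w : Cu O u => χ (u * w)) ζ ≠ 0) :
    ∃ θ : O → ℂ, IsIrrCharacter O θ ∧ classInner (res O χ) θ ≠ 0 ∧ conjFn O θ u = θ ∧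
      (∀ g, ∀ hg : Commute u g, conjFn O θ g = θ →
        ∀ w : Cu O u, ζ ⟨g * w * g⁻¹, conj_mem_Cu hg w.2⟩ = ζ w) ∧
      (θ 1 = 1 → ∀ w : Cu O u, θ ⟨w, (mem_Cu.1 w.2).1⟩ = ζ w) := by
  classical
  let _ : Fintype M := Fintype.ofFinite _
  let _ : Fintype (Ou O u) := Fintype.ofFinite _
  have : Finite (IrrCharacter (Ou O u)) := Core.finite_irr
  have : Fintype (IrrCharacter (Ou O u)) := Fintype.ofFinite _
  have hχH : IsCharacter (Ou O u) (res (Ou O u) χ) := isCharacter_res _ hχ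
  obtain ⟨m, hm⟩ := Core.isCharacter_iff.1 hχH
  have h1 : (fun w : Cu O u => χ (u * w)) =
      ∑ ψ : IrrCharacter (Ou O u), (m ψ : ℂ) • tw (ψ : Ou O u → ℂ) := by
    funext w
    have h2 : χ (u * w) = res (Ou O u) χ ⟨u * w, mul_mem u_mem_Ou (le_Ou (mem_Cu.1 w.2).1)⟩ := rfl
    rw [h2, hm, Finset.sum_apply, Finset.sum_apply]
    refine Finset.sum_congr rfl fun ψ _ => ?_
    rw [Pi.smul_apply, Pi.smul_apply, nsmul_eq_mul, smul_eq_mul, tw_apply]
  rw [h1, Core.classInner_sum_left] at hne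
  obtain ⟨ψ, -, hψ0⟩ := Finset.exists_ne_zero_of_sum_ne_zero hne
  rw [Core.classInner_smul_left] at hψ0
  have hmψ : (m ψ : ℂ) ≠ 0 := left_ne_zero_of_mul hψ0
  have hψζ : classInner (tw (ψ : Ou O u → ℂ)) ζ ≠ 0 := right_ne_zero_of_mul hψ0
  have hψc : classInner (res (Ou O u) χ) (ψ : Ou O u → ℂ) ≠ 0 := by
    rw [hm, Core.classInner_sum_nsmul_irr]
    exact hmψ
  have htw : tw (ψ : Ou O u → ℂ) ≠ 0 := by
    intro h2
    rw [h2, Core.classInner_zero_left] at hψζ
    exact hψζ rfl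
  obtain ⟨hirr, hsig⟩ := signed_of_irr hO hu hu1 ψ.2 htw
  -- `tw ψ = ε ζ`
  obtain ⟨ε, hε, hεζ⟩ : ∃ ε : ℂ, (ε = 1 ∨ ε = -1) ∧ tw (ψ : Ou O u → ℂ) = ε • ζ := by
    rcases hsig with h2 | h2
    · refine ⟨1, Or.inl rfl, ?_⟩
      rw [one_smul]
      by_contra h3
      exact hψζ (Core.classInner_irr_ne h2 hζ h3)
    · refine ⟨-1, Or.inr rfl, ?_⟩
      rw [neg_smul, one_smul]
      by_contra h3
      have h4 : -tw (ψ : Ou O u → ℂ) ≠ ζ := fun h5 => h3 (by rw [← h5, neg_neg])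
      have h5 := Core.classInner_irr_ne h2 hζ h4
      rw [Core.classInner_neg_left, neg_eq_zero] at h5
      exact hψζ h5
  have hε0 : ε ≠ 0 := by rcases hε with rfl | rfl <;> norm_num
  refine ⟨resTo le_Ou (ψ : Ou O u → ℂ), hirr, ?_, ?_, ?_, ?_⟩
  · -- `θ` is a constituent of `χ`
    have h2 := classInner_add hO hu hu1 (Core.isCharacter_isClassFunction hχH)
      (Core.isIrr_isClassFunction ψ.2)
    obtain ⟨a, ha⟩ := Core.classInner_isNat hχH (Core.isIrr_isCharacter ψ.2)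
    obtain ⟨b, hb⟩ := Core.classInner_isNat hχH
      (Core.isIrr_isCharacter (GlauberTwo.isIrr_mul_sgn (setup hO hu hu1) ψ.2))
    rw [ha] at hψc
    rw [ha, hb, resTo_res] at h2
    rw [← h2]
    norm_cast
    norm_cast at hψc
    omega
  · funext x
    have h2 := Core.isIrr_isClassFunction ψ.2 ⟨x, le_Ou x.2⟩ ⟨u, u_mem_Ou⟩
    exact h2
  · intro g hg hinv w
    have hψ' : IsIrrCharacter (Ou O u) ((ψ : Ou O u → ℂ) ∘ conjOu hu g hg) :=
      Core.isIrr_comp _ (conjOu_surjective hu g hg) ψ.2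
    have h2 := tw_eq_or_neg hO hu hu1 hψ' ψ.2 (by rw [resTo_conjOu, hinv]) hirr
    have key : ∀ s : ℂ, tw ((ψ : Ou O u → ℂ) ∘ conjOu hu g hg) = s • tw (ψ : Ou O u → ℂ) →
        ∀ w : Cu O u, ζ ⟨g * w * g⁻¹, conj_mem_Cu hg w.2⟩ = s * ζ w := by
      intro s hs w
      have h3 := congrFun hs w
      rw [tw_conjOu, hεζ] at h3
      simp only [Pi.smul_apply, smul_eq_mul] at h3
      refine mul_left_cancel₀ hε0 ?_
      rw [h3]
      ring
    have h10 : ζ 1 ≠ 0 := Core.isIrr_apply_one_ne_zero hζ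
    have h11 : (⟨g * ((1 : Cu O u) : M) * g⁻¹, conj_mem_Cu hg (1 : Cu O u).2⟩ : Cu O u) = 1 := by
      apply Subtype.ext
      simp
    rcases h2 with h2 | h2
    · rw [key 1 (by rw [h2, one_smul]) w, one_mul]
    · exfalso
      have h3 := key (-1) (by rw [h2, neg_smul, one_smul]) 1
      rw [h11] at h3
      refine h10 ?_
      linear_combination (1 / 2 : ℂ) * h3
  · intro hone w
    obtain ⟨f, hf⟩ := Linear.exists_hom_of_isIrrCharacter ψ.2 hone
    have h2 : ∀ w : Cu O u, ε * ζ w = f ⟨u, u_mem_Ou⟩ * f ⟨w, le_Ou (mem_Cu.1 w.2).1⟩ := by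
      intro w
      have h3 := congrFun hεζ w
      rw [Pi.smul_apply, smul_eq_mul, tw_apply, hf] at h3
      rw [← h3, ← Units.val_mul, ← map_mul]
      rfl
    have h3 : (f ⟨u, u_mem_Ou⟩ : ℂ) * f ⟨u, u_mem_Ou⟩ = 1 := by
      rw [← Units.val_mul, ← map_mul]
      have : (⟨u, u_mem_Ou⟩ : Ou O u) * ⟨u, u_mem_Ou⟩ = 1 := Subtype.ext hu
      rw [this, map_one, Units.val_one]
    obtain ⟨k, hk0, hk⟩ := Core.isIrr_apply_one hζ
    have h4 := h2 1
    have h5 : (⟨((1 : Cu O u) : M), le_Ou (mem_Cu.1 (1 : Cu O u).2).1⟩ : Ou O u) = 1 := rfl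
    rw [h5, map_one, Units.val_one, mul_one, hk] at h4
    have h6 : ε = f ⟨u, u_mem_Ou⟩ := by
      have h7 : (f ⟨u, u_mem_Ou⟩ : ℂ) = 1 ∨ (f ⟨u, u_mem_Ou⟩ : ℂ) = -1 :=
        mul_self_eq_one_iff.1 h3
      rcases hε with rfl | rfl <;> rcases h7 with h7 | h7
      · exact h7.symm
      · exfalso
        rw [h7, one_mul] at h4
        have h8 : ((k : ℤ) : ℂ) = ((-1 : ℤ) : ℂ) := by push_cast; exact h4
        have h9 := Int.cast_injective h8
        omega
      · exfalso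
        rw [h7] at h4
        have h8 : ((k : ℤ) : ℂ) = ((-1 : ℤ) : ℂ) := by push_cast; linear_combination -h4
        have h9 := Int.cast_injective h8
        omega
      · exact h7.symm
    have h7 := h2 w
    rw [← h6] at h7
    have h8 := mul_left_cancel₀ hε0 h7
    rw [h8, resTo_apply, hf]

end Glauberman

end Cfsg.Agent.Classification.QDW.Beta
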