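import Mathlib
import Cfsg.Agent.Classification.QDW.CoreConst

/-!
# The geometry of `SL₂(q)⟨u⟩` used in the root group case

`Gam q z υ ω I P`: in the group `Γ` the element `z` is central, `ω υ ω⁻¹ = z υ`, `P` is a subgroup
of index `q + 1` (the stabilizer of a point of the projective line fixed by `υ`), `I ≤ P` has index
`q² - 1` (`I = U⟨υ⟩`, `U` the root group of `P`).

`Dich q υ I I'`: the dichotomy for the subgroups `J` with `C_J(υ) = ⟨υ⟩`
(`I = U⟨υ⟩`, `I' = U⁻⟨υ⟩`, the two root groups normalised by `υ`).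

* `Gam.swap'`: the same for the opposite point;
* `exists_lift`: coprime lifting through a homomorphism with odd kernel.
-/

set_option autoImplicit false
set_option linter.unusedSectionVars false

namespace Cfsg.Agent.Classification.QDW.BetaGam

universe u v

/-- The conjugate `ω H ω⁻¹`. -/
def cjS {Γ : Type v} [Group Γ] (ω : Γ) (H : Subgroup Γ) : Subgroup Γ :=
  H.map (MulAut.conj ω).toMonoidHom

theorem mem_cjS {Γ : Type v} [Group Γ] {ω : Γ} {H : Subgroup Γ} {x : Γ} :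
    x ∈ cjS ω H ↔ ω⁻¹ * x * ω ∈ H := by
  rw [cjS, Subgroup.mem_map]
  constructor
  · rintro ⟨y, hy, rfl⟩
    have : ω⁻¹ * ((MulAut.conj ω).toMonoidHom y) * ω = y := by
      show ω⁻¹ * (ω * y * ω⁻¹) * ω = y
      group
    rwa [this]
  · intro h
    refine ⟨_, h, ?_⟩
    show ω * (ω⁻¹ * x * ω) * ω⁻¹ = x
    group

theorem index_cjS {Γ : Type v} [Group Γ] (ω : Γ) (H : Subgroup Γ) : (cjS ω H).index = H.index := by
  rw [cjS]
  exact Subgroup.index_map_equiv H (MulAut.conj ω)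

/-- The dichotomy for the subgroups `J` with `C_J(υ) = ⟨υ⟩`, see the module docstring. -/
def Dich {Γ : Type v} [Group Γ] (q : ℕ) (υ : Γ) (I I' : Subgroup Γ) : Prop :=
  ∀ J : Subgroup Γ, υ ∈ J → (∀ x ∈ J, Commute υ x → x = 1 ∨ x = υ) →
    2 * (q ^ 2 - 1) ≤ J.index ∨ (J.index = q ^ 2 - 1 ∧ (J = I ∨ J = I'))

/-- The geometry of `SL₂(q)⟨u⟩`, see the module docstring. -/
structure Gam {Γ : Type v} [Group Γ] (q : ℕ) (z υ ω : Γ) (I P : Subgroup Γ) : Prop where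
  central : ∀ x, Commute z x
  swap : ω * υ * ω⁻¹ = z * υ
  I_index : I.index = q ^ 2 - 1
  P_index : P.index = q + 1
  I_le : I ≤ P
  cent_le : ∀ x, Commute υ x → x ∈ P
  cent_norm : ∀ x, Commute υ x → ∀ y ∈ I, x * y * x⁻¹ ∈ I
  swap_notMem : ω ∉ P
  trans : ∀ g g' : Γ, g ∉ P → ω⁻¹ * g ∉ P → g' ∉ P → ω⁻¹ * g' ∉ P →
    ∃ h, Commute υ h ∧ g'⁻¹ * (h * g) ∈ P

namespace Gam

variable {Γ : Type v} [Group Γ] {q : ℕ} {z υ ω : Γ} {I P : Subgroup Γ}

theorem commute_conj (h : Gam q z υ ω I P) {x : Γ} (hx : Commute υ x) :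
    Commute υ (ω⁻¹ * x * ω) := by
  have h1 : Commute (z * υ) x := (h.central x).mul_left hx
  rw [← h.swap] at h1
  have h2 : (ω * υ * ω⁻¹) * x = x * (ω * υ * ω⁻¹) := h1
  show υ * (ω⁻¹ * x * ω) = (ω⁻¹ * x * ω) * υ
  have h3 : υ * (ω⁻¹ * x * ω) = ω⁻¹ * ((ω * υ * ω⁻¹) * x) * ω := by group
  rw [h3, h2]
  group

theorem commute_conj' (h : Gam q z υ ω I P) {x : Γ} (hx : Commute υ x) :
    Commute υ (ω * x * ω⁻¹) := by
  have h1 : (ω * υ * ω⁻¹) * (ω * x * ω⁻¹) = (ω * x * ω⁻¹) * (ω * υ * ω⁻¹) := by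
    have := hx.eq
    calc (ω * υ * ω⁻¹) * (ω * x * ω⁻¹) = ω * (υ * x) * ω⁻¹ := by group
      _ = ω * (x * υ) * ω⁻¹ := by rw [this]
      _ = (ω * x * ω⁻¹) * (ω * υ * ω⁻¹) := by group
  rw [h.swap] at h1
  have h2 : Commute (z * υ) (ω * x * ω⁻¹) := h1
  have h3 := (h.central (ω * x * ω⁻¹)).inv_left.mul_left h2
  rwa [inv_mul_cancel_left] at h3

theorem commute_sq (h : Gam q z υ ω I P) (hz : z * z = 1) : Commute υ (ω * ω) := by
  have h1 : ω * (ω * υ * ω⁻¹) * ω⁻¹ = υ := by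
    rw [h.swap]
    have h2 : ω * (z * υ) * ω⁻¹ = z * (ω * υ * ω⁻¹) := by
      rw [← mul_assoc ω z, ← (h.central ω).eq]
      group
    rw [h2, h.swap, ← mul_assoc, hz, one_mul]
  show υ * (ω * ω) = ω * ω * υ
  conv_lhs => rw [← h1]
  group

theorem sq_mem (h : Gam q z υ ω I P) (hz : z * z = 1) : ω * ω ∈ P :=
  h.cent_le _ (h.commute_sq hz)

theorem swap' (h : Gam q z υ ω I P) (hz : z * z = 1) {I' : Subgroup Γ}
    (hI : I'.index = q ^ 2 - 1) (hle : I' ≤ cjS ω P)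
    (hn : ∀ x, Commute υ x → ∀ y ∈ I', x * y * x⁻¹ ∈ I') : Gam q z υ ω I' (cjS ω P) where
  central := h.central
  swap := h.swap
  I_index := hI
  P_index := by rw [index_cjS, h.P_index]
  I_le := hle
  cent_le := fun x hx => mem_cjS.2 (h.cent_le _ (h.commute_conj hx))
  cent_norm := hn
  swap_notMem := by
    rw [mem_cjS]
    have h1 : ω⁻¹ * ω * ω = ω := by group
    rw [h1]
    exact h.swap_notMem
  trans := by
    have key : ∀ g : Γ, g ∉ cjS ω P → ω⁻¹ * g ∉ cjS ω P → g * ω ∉ P ∧ ω⁻¹ * (g * ω) ∉ P := by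
      intro g h1 h2
      rw [mem_cjS] at h1 h2
      refine ⟨fun h3 => h2 ?_, fun h3 => h1 ?_⟩
      · have h4 := P.mul_mem (P.inv_mem (h.sq_mem hz)) h3
        have h5 : (ω * ω)⁻¹ * (g * ω) = ω⁻¹ * (ω⁻¹ * g) * ω := by group
        rwa [h5] at h4
      · have h5 : ω⁻¹ * (g * ω) = ω⁻¹ * g * ω := by group
        rwa [h5] at h3
    intro g g' h1 h2 h3 h4
    obtain ⟨h5, h6⟩ := key g h1 h2
    obtain ⟨h7, h8⟩ := key g' h3 h4
    obtain ⟨k, hk, hk'⟩ := h.trans _ _ h5 h6 h7 h8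
    refine ⟨k, hk, ?_⟩
    rw [mem_cjS]
    have h9 : (g' * ω)⁻¹ * (k * (g * ω)) = ω⁻¹ * (g'⁻¹ * (k * g)) * ω := by group
    rwa [h9] at hk'

end Gam

section Lift

variable {M : Type u} [Group M] [Finite M] {Γ : Type v} [Group Γ]

/-- Coprime lifting to the centralizer of an involution. -/
theorem exists_lift_one (π : M →* Γ) (hπ : Function.Surjective π) (hodd : Odd (Nat.card π.ker))
    {a b : M} (ha : a * a = 1) (hb : b * b = 1) {γ : Γ} (hγ : γ * π a * γ⁻¹ = π b) :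
    ∃ g : M, π g = γ ∧ g * a * g⁻¹ = b := by
  obtain ⟨g, rfl⟩ := hπ γ
  have h1 : (g * a * g⁻¹) ^ 2 ^ 1 = 1 := by
    rw [pow_one, sq]
    have : g * a * g⁻¹ * (g * a * g⁻¹) = g * (a * a) * g⁻¹ := by group
    rw [this, ha]
    group
  have h2 : b ^ 2 ^ 1 = 1 := by rw [pow_one, sq, hb]
  obtain ⟨c, hc, hc'⟩ := CoreConst.exists_conj_ker π hodd (g * a * g⁻¹) b 1 h1 h2
    (by rw [map_mul, map_mul, map_inv, hγ])
  refine ⟨c * g, by rw [map_mul, hc, one_mul], ?_⟩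
  rw [← hc']
  group

/-- Coprime lifting to the centralizer of a four-group. -/
theorem exists_lift (π : M →* Γ) (hπ : Function.Surjective π) (hodd : Odd (Nat.card π.ker))
    {t a b : M} (ht : t * t = 1) (ha : a * a = 1) (hb : b * b = 1) (hta : Commute t a)
    (htb : Commute t b) {γ : Γ} (hγt : Commute (π t) γ) (hγ : γ * π a * γ⁻¹ = π b) :
    ∃ g : M, π g = γ ∧ Commute t g ∧ g * a * g⁻¹ = b := by
  obtain ⟨g, hg, hgt⟩ := exists_lift_one π hπ hodd ht ht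
    (γ := γ) (by rw [← hγt.eq, mul_inv_cancel_right])
  have hgt' : Commute t g := by
    have h1 : g * t = t * g := mul_inv_eq_iff_eq_mul.1 hgt
    exact h1.symm
  set L := Subgroup.centralizer ({t} : Set M) with hL
  have hmem : ∀ x, x ∈ L ↔ Commute t x := by
    intro x
    rw [hL, Subgroup.mem_centralizer_singleton_iff]
    exact ⟨fun h => h.symm, fun h => h.symm⟩
  have hodd' : Odd (Nat.card (π.comp L.subtype).ker) := by
    refine Odd.of_dvd_nat hodd ?_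
    refine Subgroup.card_dvd_of_injective
      ((L.subtype.comp (π.comp L.subtype).ker.subtype).codRestrict π.ker (fun x => x.2)) ?_
    intro x y hxy
    have h1 : (((x : L) : M)) = (((y : L) : M)) := by
      have h2 := congrArg (fun w : π.ker => (w : M)) hxy
      exact h2
    exact Subtype.ext (Subtype.ext h1)
  have haL : g * a * g⁻¹ ∈ L := (hmem _).2 ((hgt'.mul_right hta).mul_right hgt'.inv_right)
  have hbL : b ∈ L := (hmem _).2 htb
  have h1 : (⟨g * a * g⁻¹, haL⟩ : L) ^ 2 ^ 1 = 1 := by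
    apply Subtype.ext
    show (g * a * g⁻¹) ^ 2 ^ 1 = 1
    rw [pow_one, sq]
    have : g * a * g⁻¹ * (g * a * g⁻¹) = g * (a * a) * g⁻¹ := by group
    rw [this, ha]
    group
  have h2 : (⟨b, hbL⟩ : L) ^ 2 ^ 1 = 1 := by
    apply Subtype.ext
    show b ^ 2 ^ 1 = 1
    rw [pow_one, sq, hb]
  obtain ⟨c, hc, hc'⟩ := CoreConst.exists_conj_ker (π.comp L.subtype) hodd' _ _ 1 h1 h2
    (by
      show π (g * a * g⁻¹) = π b
      rw [map_mul, map_mul, map_inv, hg, hγ])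
  refine ⟨c * g, ?_, ((hmem _).1 c.2).mul_right hgt', ?_⟩
  · rw [map_mul, hg]
    have : π (c : M) = 1 := hc
    rw [this, one_mul]
  · have h3 : (c : M) * (g * a * g⁻¹) * (c : M)⁻¹ = b := congrArg Subtype.val hc'
    rw [← h3]
    group

end Lift

end Cfsg.Agent.Classification.QDW.BetaGam
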