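import Mathlib
import Cfsg.Prelude.Def_Characters
import Cfsg.Agent.Characters.Core
import Cfsg.Agent.Characters.Linear
import Cfsg.Agent.Classification.QDW.Beta
import Cfsg.Agent.Classification.QDW.BetaGam

/-!
# The characters of the root group

`Hyp π N t u q`: `π : M →* Γ` is surjective with kernel `O` of odd order, `t` is central modulo
`O`, `N` is a normal subgroup of index `q` of `C_O(u)`, normalised by `C_M(u)`; `t` inverts
`C_O(u)/N`; `C_M(u)` is transitive on the nontrivial elements of `C_O(u)/N`, with stabilizer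
`(O ∪ uO) ∩ C_M(u)`.

* `stab_of_fixed`, `exists_conj_char`: the same two facts for the characters of `C_O(u)/N`.
-/

set_option autoImplicit false
set_option linter.unusedSectionVars false

namespace Cfsg.Agent.Classification.QDW.BetaE

open Cfsg Cfsg.Agent.Characters Cfsg.Agent.Classification.QDW.Beta
  Cfsg.Agent.Classification.QDW.BetaGam

universe u v

variable {M : Type u} [Group M] [Finite M] {Γ : Type v} [Group Γ]

/-- The root group configuration, see the module docstring. -/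
structure Hyp (π : M →* Γ) (N : Subgroup M) (t u : M) (q : ℕ) : Prop where
  surj : Function.Surjective π
  odd : Odd (Nat.card π.ker)
  t_sq : t * t = 1
  t_ne : t ≠ 1
  u_sq : u * u = 1
  u_ne : u ≠ 1
  comm : Commute t u
  central : ∀ x, Commute (π t) x
  N_le : N ≤ Cu π.ker u
  N_conj : ∀ g, Commute u g → ∀ x ∈ N, g * x * g⁻¹ ∈ N
  card : Nat.card (Cu π.ker u) = q * Nat.card N
  inv : ∀ x ∈ Cu π.ker u, t * x * t⁻¹ * x ∈ N
  stab : ∀ g, Commute u g → ∀ x ∈ Cu π.ker u, x ∉ N → g * x * g⁻¹ * x⁻¹ ∈ N →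
    π g = 1 ∨ π g = π u
  trans : ∀ x ∈ Cu π.ker u, ∀ y ∈ Cu π.ker u, x ∉ N → y ∉ N →
    ∃ g, Commute u g ∧ g * x * g⁻¹ * y⁻¹ ∈ N

section

variable {π : M →* Γ} {N : Subgroup M} {t u : M} {q : ℕ}

/-- Conjugation by `g ∈ C(u)` on `C_O(u)`. -/
def cE (π : M →* Γ) {u : M} (g : M) (hg : Commute u g) : Cu π.ker u →* Cu π.ker u where
  toFun x := ⟨g * x * g⁻¹, conj_mem_Cu hg x.2⟩
  map_one' := Subtype.ext (by simp)
  map_mul' x y := Subtype.ext (by simp [mul_assoc])

theorem cE_apply (g : M) (hg : Commute u g) (x : Cu π.ker u) :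
    cE π g hg x = ⟨g * x * g⁻¹, conj_mem_Cu hg x.2⟩ := rfl

theorem cE_mul (a b : M) (ha : Commute u a) (hb : Commute u b) (x : Cu π.ker u) :
    cE π a ha (cE π b hb x) = cE π (a * b) (ha.mul_right hb) x := by
  apply Subtype.ext
  show a * (b * x * b⁻¹) * a⁻¹ = a * b * x * (a * b)⁻¹
  group

/-- `N` as a subgroup of `C_O(u)`. -/
abbrev N' (π : M →* Γ) (N : Subgroup M) (u : M) : Subgroup (Cu π.ker u) :=
  N.subgroupOf (Cu π.ker u)

theorem mem_N' {x : Cu π.ker u} : x ∈ N' π N u ↔ (x : M) ∈ N := Iff.rfl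

theorem N'_normal (h : Hyp π N t u q) : (N' π N u).Normal where
  conj_mem := by
    intro x hx g
    exact h.N_conj g (mem_Cu.1 g.2).2 x hx

theorem index_N' (h : Hyp π N t u q) : (N' π N u).index = q := by
  have h1 := (N' π N u).index_mul_card
  have h2 : Nat.card (N' π N u) = Nat.card N :=
    Nat.card_congr (Subgroup.subgroupOfEquivOfLe h.N_le).toEquiv
  rw [h2, h.card] at h1
  exact Nat.eq_of_mul_eq_mul_right Nat.card_pos h1

/-- `C_O(u)/N` is commutative. -/
theorem comm_mem (h : Hyp π N t u q) {x y : M} (hx : x ∈ Cu π.ker u) (hy : y ∈ Cu π.ker u) :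
    (y * x)⁻¹ * (x * y) ∈ N := by
  have hN : ∀ g ∈ Cu π.ker u, ∀ n ∈ N, g * n * g⁻¹ ∈ N :=
    fun g hg n hn => h.N_conj g (mem_Cu.1 hg).2 n hn
  have hcu := h.comm.symm
  have hτ : ∀ z ∈ Cu π.ker u, t * z * t⁻¹ ∈ Cu π.ker u := fun z hz => conj_mem_Cu hcu hz
  -- `t z t⁻¹ ≡ z⁻¹`
  have h1 := h.inv _ (mul_mem hx hy)
  have h2 := h.inv _ hx
  have h3 := h.inv _ hy
  -- `(t x t⁻¹) (t y t⁻¹) x y ∈ N`
  have h4 : t * (x * y) * t⁻¹ * (x * y) = (t * x * t⁻¹) * ((t * y * t⁻¹) * x * y) := by group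
  rw [h4] at h1
  -- `t x t⁻¹ = n₁ x⁻¹`, `t y t⁻¹ = n₂ y⁻¹`
  set n₁ := t * x * t⁻¹ * x with hn₁
  set n₂ := t * y * t⁻¹ * y with hn₂
  have h5 : t * x * t⁻¹ = n₁ * x⁻¹ := by rw [hn₁]; group
  have h6 : t * y * t⁻¹ = n₂ * y⁻¹ := by rw [hn₂]; group
  rw [h5, h6] at h1
  have h7 : n₁ * x⁻¹ * (n₂ * y⁻¹ * x * y) = n₁ * (x⁻¹ * n₂ * x⁻¹⁻¹) * (x⁻¹ * (y⁻¹ * x * y)) := by
    group
  rw [h7] at h1
  have h8 : n₁ * (x⁻¹ * n₂ * x⁻¹⁻¹) ∈ N := mul_mem h2 (hN _ (inv_mem hx) _ h3)
  have h9 := (N.mul_mem_cancel_left h8).1 h1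
  have h10 : (y * x)⁻¹ * (x * y) = x⁻¹ * (y⁻¹ * x * y) := by group
  rwa [h10]

theorem quot_comm (h : Hyp π N t u q) [(N' π N u).Normal] (a b : Cu π.ker u ⧸ N' π N u) :
    a * b = b * a := by
  obtain ⟨x, rfl⟩ := QuotientGroup.mk_surjective a
  obtain ⟨y, rfl⟩ := QuotientGroup.mk_surjective b
  rw [← QuotientGroup.mk_mul, ← QuotientGroup.mk_mul, QuotientGroup.eq]
  have h1 := comm_mem h y.2 x.2
  exact h1

/-- A homomorphism of `C_O(u)` trivial on `N` and fixed by `g` is trivial, unless `g` acts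
trivially. -/
theorem stab_of_fixed (h : Hyp π N t u q) {f : Cu π.ker u →* ℂˣ}
    (hfN : ∀ x : Cu π.ker u, (x : M) ∈ N → f x = 1) (hf : f ≠ 1) {g : M} (hg : Commute u g)
    (hfg : ∀ x, f (cE π g hg x) = f x) : π g = 1 ∨ π g = π u := by
  by_contra hc
  have hnor := N'_normal h
  -- `x ↦ [g, x]` modulo `N`
  let κ := QuotientGroup.mk' (N' π N u)
  let Ψ : Cu π.ker u →* (Cu π.ker u ⧸ N' π N u) :=
    MonoidHom.mk' (fun x => κ (cE π g hg x * x⁻¹)) (by
      intro x y
      have h1 : cE π g hg (x * y) * (x * y)⁻¹ = cE π g hg x * (cE π g hg y * y⁻¹) * x⁻¹ := by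
        rw [map_mul, mul_inv_rev]
        group
      have h2 : κ (cE π g hg x * (cE π g hg y * y⁻¹) * x⁻¹) =
          κ (cE π g hg x) * κ (cE π g hg y * y⁻¹) * κ x⁻¹ := by rw [map_mul, map_mul]
      have h3 : κ (cE π g hg x * x⁻¹) = κ (cE π g hg x) * κ x⁻¹ := map_mul _ _ _
      rw [h1, h2, h3, mul_assoc, quot_comm h (κ (cE π g hg y * y⁻¹)), ← mul_assoc])
  have hker : Ψ.ker = N' π N u := by
    ext x
    rw [MonoidHom.mem_ker]
    have h1 : Ψ x = QuotientGroup.mk (cE π g hg x * x⁻¹) := rfl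
    rw [h1, QuotientGroup.eq_one_iff, mem_N', mem_N']
    constructor
    · intro h2
      by_contra h3
      exact hc (h.stab g hg x x.2 h3 h2)
    · intro h2
      exact mul_mem (h.N_conj g hg _ h2) (inv_mem h2)
  have hsurj : Function.Surjective Ψ := by
    rw [← MonoidHom.range_eq_top, ← Subgroup.card_eq_iff_eq_top]
    have h1 := Subgroup.card_mul_index Ψ.ker
    rw [Subgroup.index_ker] at h1
    have h2 := Subgroup.card_mul_index (N' π N u)
    rw [hker] at h1
    have h3 := Nat.eq_of_mul_eq_mul_left Nat.card_pos (h1.trans h2.symm)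
    exact h3
  apply hf
  ext x
  obtain ⟨y, hy⟩ := hsurj (QuotientGroup.mk x)
  have h1 : QuotientGroup.mk (cE π g hg y * y⁻¹) = (QuotientGroup.mk x : Cu π.ker u ⧸ N' π N u) := hy
  rw [QuotientGroup.eq] at h1
  have h2 := hfN ((cE π g hg y * y⁻¹)⁻¹ * x) h1
  rw [map_mul, map_inv, map_mul, map_inv, hfg, mul_inv_cancel, inv_one, one_mul] at h2
  rw [h2, MonoidHom.one_apply]

/-- The characters of `C_O(u)/N`. -/
abbrev Ch (π : M →* Γ) (N : Subgroup M) (u : M) : Type u :=
  {f : Cu π.ker u →* ℂˣ // ∀ x : Cu π.ker u, (x : M) ∈ N → f x = 1}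

theorem card_Ch (h : Hyp π N t u q) : Nat.card (Ch π N u) = q := by
  have hnor := N'_normal h
  let e : Ch π N u ≃ ((Cu π.ker u ⧸ N' π N u) →* ℂˣ) :=
    { toFun := fun f => QuotientGroup.lift (N' π N u) f.1 (fun x hx => f.2 x hx)
      invFun := fun f => ⟨f.comp (QuotientGroup.mk' (N' π N u)), fun x hx => by
        have h1 : QuotientGroup.mk' (N' π N u) x = 1 := (QuotientGroup.eq_one_iff x).2 hx
        rw [MonoidHom.comp_apply, h1, map_one]⟩
      left_inv := fun f => by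
        apply Subtype.ext
        ext x
        rfl
      right_inv := fun f => by
        ext x
        rfl }
  rw [Nat.card_congr e, Linear.card_hom_eq_index_commutator]
  have h1 : commutator (Cu π.ker u ⧸ N' π N u) = ⊥ := by
    rw [commutator_def, Subgroup.commutator_eq_bot_iff_le_centralizer]
    intro x _
    rw [Subgroup.mem_centralizer_iff]
    intro y _
    exact quot_comm h y x
  rw [h1, Subgroup.index_bot]
  exact index_N' h

theorem mem_ker_of_commute {x : M} (hx : π x = 1) (hu : Commute u x) : x ∈ Cu π.ker u :=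
  mem_Cu.2 ⟨hx, hu⟩

/-- The elements of `O ∪ u O` commuting with `u` act trivially on `C_O(u)/N`. -/
theorem trivial_act (h : Hyp π N t u q) {s : M} (hs : Commute u s) (hs' : π s = 1 ∨ π s = π u)
    {x : M} (hx : x ∈ Cu π.ker u) : s * x * s⁻¹ * x⁻¹ ∈ N := by
  have key : ∀ e ∈ Cu π.ker u, e * x * e⁻¹ * x⁻¹ ∈ N := by
    intro e he
    have h1 := comm_mem h (inv_mem he) (inv_mem hx)
    have h2 : (x⁻¹ * e⁻¹)⁻¹ * (e⁻¹ * x⁻¹) = e * x * e⁻¹ * x⁻¹ := by group
    rwa [h2] at h1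
  rcases hs' with hs' | hs'
  · exact key s (mem_ker_of_commute hs' hs)
  · have h1 : u⁻¹ * s ∈ Cu π.ker u :=
      mem_ker_of_commute (by rw [map_mul, map_inv, hs', inv_mul_cancel])
        ((Commute.refl u).inv_right.mul_right hs)
    have h2 := key _ h1
    have h3 : u⁻¹ * s * x * (u⁻¹ * s)⁻¹ * x⁻¹ = s * x * s⁻¹ * x⁻¹ := by
      have h4 : Commute u⁻¹ (s * x * s⁻¹) :=
        ((hs.mul_right (mem_Cu.1 hx).2).mul_right hs.inv_right).inv_left
      calc u⁻¹ * s * x * (u⁻¹ * s)⁻¹ * x⁻¹ = u⁻¹ * (s * x * s⁻¹) * u * x⁻¹ := by group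
        _ = (s * x * s⁻¹) * u⁻¹ * u * x⁻¹ := by rw [h4.eq]
        _ = s * x * s⁻¹ * x⁻¹ := by group
    rwa [h3] at h2

/-- `C_M(u)` is transitive on the nontrivial characters of `C_O(u)/N`. -/
theorem exists_conj_char (h : Hyp π N t u q) {f f' : Cu π.ker u →* ℂˣ}
    (hfN : ∀ x : Cu π.ker u, (x : M) ∈ N → f x = 1) (hf : f ≠ 1)
    (hfN' : ∀ x : Cu π.ker u, (x : M) ∈ N → f' x = 1) (hf' : f' ≠ 1) :
    ∃ g, ∃ hg : Commute u g, ∀ x, f' x = f (cE π g hg x) := by
  classical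
  have hnor := N'_normal h
  set C := Subgroup.centralizer ({u} : Set M) with hC
  have hmem : ∀ x : C, Commute u (x : M) := fun x =>
    (Subgroup.mem_centralizer_singleton_iff.1 x.2).symm
  let S : Subgroup C := (Subgroup.zpowers (π u)).comap (π.comp C.subtype)
  have huu : π u * π u = 1 := by rw [← map_mul, h.u_sq, map_one]
  have hS : ∀ x : C, x ∈ S ↔ π (x : M) = 1 ∨ π (x : M) = π u := by
    intro x
    constructor
    · intro hx
      exact GlauberTwo.mem_zpowers_two huu hx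
    · intro hx
      show π (x : M) ∈ Subgroup.zpowers (π u)
      rcases hx with hx | hx
      · rw [hx]; exact one_mem _
      · rw [hx]; exact Subgroup.mem_zpowers _
  -- nontrivial characters
  let F : Type u := {f : Ch π N u // f.1 ≠ 1}
  have hFfin : Finite (Ch π N u) := by
    have h0 := card_Ch h
    have h1 : q ≠ 0 := by
      rintro rfl
      have h2 := h.card
      rw [zero_mul] at h2
      exact Nat.card_pos.ne' h2
    exact Nat.finite_of_card_ne_zero (by rw [h0]; exact h1)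
  let one : Ch π N u := ⟨1, fun x _ => rfl⟩
  have hFcard : Nat.card F + 1 = q := by
    rw [← card_Ch h]
    have e : F ≃ {f : Ch π N u // ¬ f = one} :=
      Equiv.subtypeEquivRight fun f => by
        constructor
        · intro h1 h2
          exact h1 (congrArg Subtype.val h2)
        · intro h1 h2
          exact h1 (Subtype.ext h2)
    rw [Nat.card_congr e]
    have := Fintype.ofFinite (Ch π N u)
    rw [Nat.card_eq_fintype_card, Nat.card_eq_fintype_card, Fintype.card_subtype_compl,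
      Fintype.card_subtype_eq]
    have : 0 < Fintype.card (Ch π N u) := Fintype.card_pos_iff.2 ⟨one⟩
    omega
  -- the map `α`
  let α : (C ⧸ S) → F := fun κ =>
    ⟨⟨f.comp (cE π ((κ.out)⁻¹ : C) (hmem _)), fun x hx => by
        rw [MonoidHom.comp_apply]
        exact hfN _ (h.N_conj _ (hmem _) _ hx)⟩, fun h1 => by
        apply hf
        ext x
        have h2 := DFunLike.congr_fun h1 (cE π (κ.out : C) (hmem _) x)
        have h3 : f (cE π ((κ.out)⁻¹ : C) (hmem _) (cE π (κ.out : C) (hmem _) x)) = 1 := h2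
        rw [cE_mul] at h3
        have h4 : cE π (((κ.out)⁻¹ : C) * (κ.out : C)) ((hmem _).mul_right (hmem _)) x = x := by
          apply Subtype.ext
          show ((((κ.out)⁻¹ : C) : M) * ((κ.out : C) : M)) * x *
            ((((κ.out)⁻¹ : C) : M) * ((κ.out : C) : M))⁻¹ = x
          simp
        rw [h4] at h3
        rw [h3, MonoidHom.one_apply]⟩
  have hα : Function.Injective α := by
    intro κ κ' hκ
    have h1 : ∀ x, f (cE π ((κ.out)⁻¹ : C) (hmem _) x) =
        f (cE π ((κ'.out)⁻¹ : C) (hmem _) x) := by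
      intro x
      have h2 : (α κ).1.1 = (α κ').1.1 := by rw [hκ]
      exact DFunLike.congr_fun h2 x
    have h2 : ∀ x, f (cE π (((κ.out)⁻¹ : C) * ((κ'.out : C) : M)) ((hmem _).mul_right (hmem _)) x) =
        f x := by
      intro x
      rw [← cE_mul _ _ (hmem _) (hmem _), h1, cE_mul]
      congr 1
      apply Subtype.ext
      show ((((κ'.out)⁻¹ : C) : M) * ((κ'.out : C) : M)) * x *
            ((((κ'.out)⁻¹ : C) : M) * ((κ'.out : C) : M))⁻¹ = x
      simp
    have h3 := stab_of_fixed h hfN hf ((hmem _).mul_right (hmem _)) h2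
    have h4 : (κ.out)⁻¹ * κ'.out ∈ S := (hS _).2 h3
    have h5 := QuotientGroup.eq.2 h4
    rwa [QuotientGroup.out_eq', QuotientGroup.out_eq'] at h5
  -- the number of cosets
  have hq1 : 1 < q := by
    have h1 : Nonempty F := ⟨⟨⟨f, hfN⟩, hf⟩⟩
    have h2 : Finite F := Subtype.finite
    have h3 : 0 < Nat.card F := Nat.card_pos
    omega
  obtain ⟨x₀, hx₀, hx₀N⟩ : ∃ x ∈ Cu π.ker u, x ∉ N := by
    by_contra hc
    push Not at hc
    have h1 : Cu π.ker u = N := le_antisymm hc h.N_le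
    have h2 := h.card
    rw [h1] at h2
    have h3 : 0 < Nat.card N := Nat.card_pos
    nlinarith
  have hβ : q ≤ Nat.card (C ⧸ S) + 1 := by
    let Q := Cu π.ker u ⧸ N' π N u
    have hQ : Nat.card Q = q := index_N' h
    let Q1 := {y : Q // y ≠ 1}
    have hQ1 : Nat.card Q1 + 1 = q := by
      rw [← hQ]
      have := Fintype.ofFinite Q
      rw [Nat.card_eq_fintype_card, Nat.card_eq_fintype_card]
      have e : Fintype.card Q1 = Fintype.card {y : Q // ¬ y = 1} := rfl
      rw [e, Fintype.card_subtype_compl, Fintype.card_subtype_eq]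
      have : 0 < Fintype.card Q := Fintype.card_pos
      omega
    have hch : ∀ y : Q1, ∃ g : C, QuotientGroup.mk (cE π (g : M) (hmem g) ⟨x₀, hx₀⟩) = y.1 := by
      rintro ⟨y, hy⟩
      obtain ⟨z, rfl⟩ := QuotientGroup.mk_surjective y
      have hz : (z : M) ∉ N := by
        intro h1
        exact hy ((QuotientGroup.eq_one_iff z).2 h1)
      obtain ⟨g, hg, hgz⟩ := h.trans x₀ hx₀ z z.2 hx₀N hz
      refine ⟨⟨g, Subgroup.mem_centralizer_singleton_iff.2 hg.symm⟩, ?_⟩
      show QuotientGroup.mk _ = QuotientGroup.mk _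
      rw [eq_comm, QuotientGroup.eq, mem_N']
      have h2 := h.N_conj (z : M)⁻¹ (mem_Cu.1 z.2).2.inv_right _ hgz
      have h3 : (z : M)⁻¹ * (g * x₀ * g⁻¹ * (z : M)⁻¹) * (z : M)⁻¹⁻¹ =
          (z : M)⁻¹ * (g * x₀ * g⁻¹) := by group
      rw [h3] at h2
      exact h2
    choose g hg using hch
    have hinj : Function.Injective (fun y : Q1 => (QuotientGroup.mk (g y) : C ⧸ S)) := by
      intro y y' hy
      have h1 : (g y)⁻¹ * g y' ∈ S := QuotientGroup.eq.1 hy
      rw [hS] at h1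
      have h2 := trivial_act h (hmem ((g y)⁻¹ * g y')) h1 hx₀
      apply Subtype.ext
      rw [← hg y, ← hg y', QuotientGroup.eq, mem_N']
      -- conjugate by `g y`
      have h3 := h.N_conj _ (hmem (g y)) _ h2
      have h4 := h.N_conj _ ((mem_Cu.1 (conj_mem_Cu (hmem (g y)) hx₀)).2.inv_right) _ h3
      have h5 : ((g y : M) * x₀ * (g y : M)⁻¹)⁻¹ * ((g y : M) * ((((g y)⁻¹ * g y' : C) : M) * x₀ *
          (((g y)⁻¹ * g y' : C) : M)⁻¹ * x₀⁻¹) * (g y : M)⁻¹) *
          ((g y : M) * x₀ * (g y : M)⁻¹)⁻¹⁻¹ =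
          ((g y : M) * x₀ * (g y : M)⁻¹)⁻¹ * ((g y' : M) * x₀ * (g y' : M)⁻¹) := by
        rw [Subgroup.coe_mul, Subgroup.coe_inv]
        group
      rw [h5] at h4
      exact h4
    have h1 := Nat.card_le_card_of_injective _ hinj
    omega
  have hsurj : Function.Surjective α := by
    have h1 : Nat.card (C ⧸ S) = Nat.card F := by
      refine le_antisymm (Nat.card_le_card_of_injective α hα) ?_
      omega
    exact ((Nat.bijective_iff_injective_and_card α).2 ⟨hα, h1⟩).2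
  obtain ⟨κ, hκ⟩ := hsurj ⟨⟨f', hfN'⟩, hf'⟩
  refine ⟨((κ.out)⁻¹ : C), hmem _, fun x => ?_⟩
  have h1 : (α κ).1.1 = f' := by rw [hκ]
  exact (DFunLike.congr_fun h1 x).symm

end

end Cfsg.Agent.Classification.QDW.BetaE
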