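import Mathlib
import Cfsg.Prelude.Def_Characters
import Cfsg.Agent.Characters.Core
import Cfsg.Agent.Characters.Linear
import Cfsg.Agent.CharDeep.CliffordCorr
import Cfsg.Agent.Classification.QDW.Beta
import Cfsg.Agent.Classification.QDW.BetaGam
import Cfsg.Agent.Classification.QDW.BetaE

/-!
# The linear characters of `O` over the root group

`HypX`: the values of the character `X`.

* `exists_theta`: for every character `f ≠ 1` of the root group there is a linear character `θ` of
  `O`, invariant under `u`, of multiplicity one in `X`, with restriction `f` and with inertia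
  group `I` or `I'` of index `q² - 1`;
* `exists_conj_theta`: all these characters are conjugate.
-/

set_option autoImplicit false
set_option linter.unusedSectionVars false

namespace Cfsg.Agent.Classification.QDW.BetaX

open Cfsg Cfsg.Agent.Characters Cfsg.Agent.Classification.QDW.Beta
  Cfsg.Agent.Classification.QDW.BetaGam Cfsg.Agent.Classification.QDW.BetaE
  Cfsg.Agent.OddOrderCharacters.NormalInduced Cfsg.Agent.OddOrderCharacters.IndRes
  Cfsg.Agent.OddOrderCharacters.PF9.CliffGen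
open scoped ComplexConjugate

universe u v

variable {M : Type u} [Group M] [Finite M] {Γ : Type v} [Group Γ]

/-- The values of the character `X`. -/
structure HypX (π : M →* Γ) (N : Subgroup M) (t u : M) (q : ℕ) (X : M → ℂ) (D c : ℕ) : Prop where
  char : IsCharacter M X
  val_u : ∃ b : ℂ, (∀ x ∈ N, X (u * x) = b + q) ∧ ∀ x ∈ Cu π.ker u, x ∉ N → X (u * x) = b
  val_t : ∀ x ∈ Cu π.ker t, X (t * x) = c
  one : X 1 = D
  lt : D < c + 2 * (q ^ 2 - 1)

section Average

/-- The average of a class function over `t O`, constant at the elements `t w`, `w ∈ C_O(t)`. -/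
theorem avg_eq {O : Subgroup M} [hN : O.Normal] [Fintype O] (hO : Odd (Nat.card O)) {t : M}
    (ht : t * t = 1) (ht1 : t ≠ 1) {X : M → ℂ} (hX : IsClassFunction M X) {c : ℂ}
    (hc : ∀ x ∈ Cu O t, X (t * x) = c) : (Nat.card O : ℂ)⁻¹ * ∑ k : O, X (t * k) = c := by
  classical
  let _ : Fintype (Ou O t) := Fintype.ofFinite _
  let _ : Fintype (O.subgroupOf (Ou O t)) := Fintype.ofFinite _
  let _ : Fintype (GlauberTwo.Fix (O.subgroupOf (Ou O t)) (⟨t, u_mem_Ou⟩ : Ou O t)) :=
    Fintype.ofFinite _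
  have h1 := GlauberTwo.avg_coset (setup hO ht ht1) (f := res (Ou O t) X)
    (isClassFunction_res (H := Ou O t) hX)
  have h2 : ∑ y : O.subgroupOf (Ou O t), res (Ou O t) X ((⟨t, u_mem_Ou⟩ : Ou O t) * y) =
      ∑ k : O, X (t * k) :=
    Fintype.sum_equiv (Subgroup.subgroupOfEquivOfLe (le_Ou (u := t))).toEquiv _ _ fun y => rfl
  have h3 : Nat.card (O.subgroupOf (Ou O t)) = Nat.card O :=
    Nat.card_congr (Subgroup.subgroupOfEquivOfLe (le_Ou (u := t))).toEquiv
  have h4 : ∀ w : GlauberTwo.Fix (O.subgroupOf (Ou O t)) (⟨t, u_mem_Ou⟩ : Ou O t),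
      res (Ou O t) X ((⟨t, u_mem_Ou⟩ : Ou O t) * w) = c := fun w => hc _ (eF w).2
  rw [h2, h3] at h1
  rw [h1, Finset.sum_congr rfl (fun w _ => h4 w), Finset.sum_const, Finset.card_univ,
    nsmul_eq_mul, ← Nat.card_eq_fintype_card, ← mul_assoc,
    inv_mul_cancel₀ Core.card_ne_zero_complex, one_mul]

end Average

section Theta

variable {π : M →* Γ} {N : Subgroup M} {t u : M} {q : ℕ} {X : M → ℂ} {D c : ℕ}

/-- The multiplicity of a nontrivial character of the root group. -/
theorem inner_eq_one [Fintype (Cu π.ker u)] (h : Hyp π N t u q) (hX : HypX π N t u q X D c)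
    {f : Cu π.ker u →* ℂˣ} (hfN : ∀ x : Cu π.ker u, (x : M) ∈ N → f x = 1) (hf : f ≠ 1) :
    classInner (fun w : Cu π.ker u => X (u * w)) (fun w => (f w : ℂ)) = 1 := by
  classical
  obtain ⟨b, hb1, hb2⟩ := hX.val_u
  have h1 : (fun w : Cu π.ker u => X (u * w)) =
      b • (1 : Cu π.ker u → ℂ) + (q : ℂ) • fun w : Cu π.ker u => if (w : M) ∈ N then (1 : ℂ) else 0 := by
    funext w
    rw [Pi.add_apply, Pi.smul_apply, Pi.smul_apply, Pi.one_apply, smul_eq_mul, smul_eq_mul, mul_one]
    by_cases hw : (w : M) ∈ N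
    · rw [if_pos hw, mul_one, hb1 w hw]
    · rw [if_neg hw, mul_zero, add_zero, hb2 w w.2 hw]
  have h2 : classInner (1 : Cu π.ker u → ℂ) (fun w => (f w : ℂ)) = 0 := by
    refine Core.classInner_irr_ne Core.isIrr_one (Linear.isIrrCharacter_hom f) ?_
    intro h3
    apply hf
    ext w
    exact (congrFun h3 w).symm
  have h3 : classInner (fun w : Cu π.ker u => if (w : M) ∈ N then (1 : ℂ) else 0)
      (fun w => (f w : ℂ)) = (Nat.card (Cu π.ker u) : ℂ)⁻¹ * Nat.card N := by
    rw [Core.classInner_def]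
    congr 1
    have h4 : ∀ w : Cu π.ker u, (if (w : M) ∈ N then (1 : ℂ) else 0) * conj ((f w : ℂ)) =
        if (w : M) ∈ N then (1 : ℂ) else 0 := by
      intro w
      by_cases hw : (w : M) ∈ N
      · rw [if_pos hw, hfN w hw, Units.val_one, map_one, mul_one]
      · rw [if_neg hw, zero_mul]
    rw [Finset.sum_congr rfl (fun w _ => h4 w), ← Finset.sum_filter, Finset.sum_const,
      nsmul_eq_mul, mul_one]
    congr 1
    rw [← Nat.card_congr (Subgroup.subgroupOfEquivOfLe h.N_le).toEquiv, Nat.card_eq_fintype_card,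
      ← Fintype.card_subtype]
    rfl
  rw [h1, Core.classInner_add_left, Core.classInner_smul_left, Core.classInner_smul_left, h2, h3,
    h.card]
  have h5 : (Nat.card N : ℂ) ≠ 0 := Core.card_ne_zero_complex
  have h6 : (q : ℂ) ≠ 0 := by
    have h7 : (Nat.card (Cu π.ker u) : ℂ) ≠ 0 := Core.card_ne_zero_complex
    rw [h.card] at h7
    push_cast at h7
    exact left_ne_zero_of_mul h7
  push_cast
  field_simp
  simp

/-- The part of `X` moved by `O`. -/
theorem exists_moved (h : Hyp π N t u q) (hX : HypX π N t u q X D c) :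
    ∃ χ₀ χ₁ : M → ℂ, IsCharacter M χ₀ ∧ IsCharacter M χ₁ ∧ X = χ₀ + χ₁ ∧
      (∀ k ∈ π.ker, χ₀ k = χ₀ 1) ∧ ∃ D₁ : ℕ, χ₁ 1 = D₁ ∧ D₁ < 2 * (q ^ 2 - 1) := by
  classical
  let _ : Fintype π.ker := Fintype.ofFinite _
  obtain ⟨χ₀, χ₁, h0, h1, hadd, havg, hfix, -⟩ := CoreConst.exists_fixed_moved π.ker hX.char
  refine ⟨χ₀, χ₁, h0, h1, hadd, ?_, ?_⟩
  · intro k hk
    have := hfix 1 k hk
    rwa [one_mul] at this
  · obtain ⟨D₀, hD₀⟩ := Core.isCharacter_apply_one h0
    obtain ⟨D₁, hD₁⟩ := Core.isCharacter_apply_one h1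
    refine ⟨D₁, hD₁, ?_⟩
    have h2 : (D : ℂ) = D₀ + D₁ := by rw [← hX.one, hadd, Pi.add_apply, hD₀, hD₁]
    have h3 : D = D₀ + D₁ := by exact_mod_cast h2
    have h4 : χ₀ t = c := by
      rw [havg t]
      exact avg_eq h.odd h.t_sq h.t_ne (Core.isCharacter_isClassFunction hX.char) hX.val_t
    have h5 := norm_le_re h0 t
    rw [h4, hD₀, Complex.norm_natCast, Complex.natCast_re] at h5
    have h6 : c ≤ D₀ := by exact_mod_cast h5
    have := hX.lt
    omega

/-- The complex values of a linear character. -/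
def lf {H : Type*} [Group H] (lam : H →* ℂˣ) : H → ℂ := fun x => (lam x : ℂ)

theorem isIrr_lf {H : Type u} [Group H] (lam : H →* ℂˣ) : IsIrrCharacter H (lf lam) :=
  Linear.isIrrCharacter_hom lam

theorem lf_injective {H : Type*} [Group H] : Function.Injective (lf : (H →* ℂˣ) → H → ℂ) := by
  intro a b hab
  ext x
  exact congrFun hab x

/-- The multiplicity in `χ₁` of an irreducible character of `O` different from `1`. -/
theorem inner_moved [Fintype π.ker] {χ₀ χ₁ : M → ℂ} (hadd : X = χ₀ + χ₁)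
    (hk : ∀ k ∈ π.ker, χ₀ k = χ₀ 1) {θ : π.ker → ℂ} (hθ : IsIrrCharacter π.ker θ) (hθ1 : θ ≠ 1) :
    classInner (res π.ker X) θ = classInner (fun n : π.ker => χ₁ n) θ := by
  have h1 : res π.ker X = χ₀ 1 • (1 : π.ker → ℂ) + fun n : π.ker => χ₁ n := by
    funext n
    rw [res_apply, hadd, Pi.add_apply, Pi.add_apply, Pi.smul_apply, Pi.one_apply, smul_eq_mul,
      mul_one, hk n n.2]
  rw [h1, Core.classInner_add_left, Core.classInner_smul_left,
    Core.classInner_irr_ne Core.isIrr_one hθ (Ne.symm hθ1), mul_zero, zero_add]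

/-- The linear character of `O` over a nontrivial character of the root group. -/
theorem exists_theta [Fintype π.ker] (h : Hyp π N t u q) (hX : HypX π N t u q X D c)
    {I I' : Subgroup Γ} (hd : Dich q (π u) I I')
    {f : Cu π.ker u →* ℂˣ} (hfN : ∀ x : Cu π.ker u, (x : M) ∈ N → f x = 1) (hf : f ≠ 1) :
    ∃ lam : π.ker →* ℂˣ, classInner (res π.ker X) (lf lam) = 1 ∧
      conjFn π.ker (lf lam) u = lf lam ∧ (inertia π.ker (lf lam)).index = q ^ 2 - 1 ∧
      (inertia π.ker (lf lam) = I.comap π ∨ inertia π.ker (lf lam) = I'.comap π) ∧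
      ∀ w : Cu π.ker u, lam ⟨w, (mem_Cu.1 w.2).1⟩ = f w := by
  classical
  let _ : Fintype M := Fintype.ofFinite _
  let _ : Fintype (Cu π.ker u) := Fintype.ofFinite _
  have hne : classInner (fun w : Cu π.ker u => X (u * w)) (lf f) ≠ 0 := by
    have h1 := inner_eq_one h hX hfN hf
    show classInner (fun w : Cu π.ker u => X (u * w)) (fun w => (f w : ℂ)) ≠ 0
    rw [h1]
    exact one_ne_zero
  obtain ⟨θ, hθ, hθX, hθu, hθg, hθ1⟩ := exists_glauberman h.odd h.u_sq h.u_ne hX.char
    (isIrr_lf f) hne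
  set T := inertia π.ker θ with hT
  have hker : π.ker ≤ T := le_inertia (Core.isIrr_isClassFunction hθ)
  set J := T.map π with hJ
  have hTJ : J.comap π = T := Subgroup.comap_map_eq_self hker
  have hJi : J.index = T.index := by
    rw [← hTJ]
    exact (Subgroup.index_comap_of_surjective J h.surj).symm
  have huJ : π u ∈ J := ⟨u, hθu, rfl⟩
  have hcent : ∀ x ∈ J, Commute (π u) x → x = 1 ∨ x = π u := by
    intro x hxJ hx
    obtain ⟨g, rfl, hg⟩ := exists_lift_one π h.surj h.odd h.u_sq h.u_sq (γ := x)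
      (by rw [← hx.eq, mul_inv_cancel_right])
    have hg' : Commute u g := by
      have h1 : g * u = u * g := mul_inv_eq_iff_eq_mul.1 hg
      exact h1.symm
    have hgT : g ∈ T := by
      rw [← hTJ]
      exact hxJ
    refine stab_of_fixed h hfN hf hg' fun w => ?_
    have h1 := hθg g hg' hgT w
    exact Units.ext h1
  -- the moved part
  obtain ⟨χ₀, χ₁, h0, h1, hadd, hk, D₁, hD₁, hlt⟩ := exists_moved h hX
  have hθne : θ ≠ 1 := by
    intro h2
    apply hf
    ext w
    have h3 := hθ1 (by rw [h2]; rfl) w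
    rw [h2] at h3
    exact h3.symm
  have hmov := inner_moved hadd hk hθ hθne
  obtain ⟨e, he⟩ := Core.classInner_isNat (Clifford.isCharacter_restrict π.ker h1)
    (Core.isIrr_isCharacter hθ)
  obtain ⟨d, hd0, hd'⟩ := Core.isIrr_apply_one hθ
  have he0 : 0 < e := by
    rw [hmov, he] at hθX
    exact Nat.pos_of_ne_zero (by exact_mod_cast hθX)
  have hle := CharDeep.CliffordCorr.index_mul_le_degree π.ker hθ T
    (fun g => mem_inertia') h1 he hd' hD₁
  have hed : 1 ≤ e * d := Nat.mul_pos he0 hd0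
  rcases hd J huJ hcent with h2 | ⟨h2, h3⟩
  · exfalso
    rw [hJi] at h2
    have : T.index * 1 ≤ T.index * (e * d) := Nat.mul_le_mul_left _ hed
    omega
  · rw [hJi] at h2
    have hed2 : e * d < 2 := by
      by_contra hc
      push Not at hc
      have h4 : T.index * 2 ≤ T.index * (e * d) := Nat.mul_le_mul_left _ hc
      rw [h2] at h4 hle
      omega
    have he1 : e = 1 := by nlinarith
    have hd1 : d = 1 := by nlinarith
    obtain ⟨lam, hlam⟩ := Linear.exists_hom_of_isIrrCharacter hθ (by rw [hd', hd1, Nat.cast_one])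
    have hlam' : lf lam = θ := hlam.symm
    refine ⟨lam, ?_, ?_, ?_, ?_, ?_⟩
    · rw [hlam', hmov, he, he1, Nat.cast_one]
    · rw [hlam', hθu]
    · rw [hlam', ← hT, h2]
    · rw [hlam', ← hT, ← hTJ]
      rcases h3 with h3 | h3
      · left; rw [h3]
      · right; rw [h3]
    · intro w
      apply Units.ext
      have h4 := hθ1 (by rw [hd', hd1, Nat.cast_one]) w
      rw [← hlam'] at h4
      exact h4

/-- Two linear constituents of multiplicity one with inertia groups of index `q² - 1` are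
conjugate. -/
theorem exists_conj_theta [Fintype π.ker] (h : Hyp π N t u q) (hX : HypX π N t u q X D c)
    {lam mu : π.ker →* ℂˣ} (hlam : classInner (res π.ker X) (lf lam) = 1)
    (hmu : classInner (res π.ker X) (lf mu) = 1) (hlam1 : lam ≠ 1) (hmu1 : mu ≠ 1)
    (hlamI : (inertia π.ker (lf lam)).index = q ^ 2 - 1)
    (hmuI : (inertia π.ker (lf mu)).index = q ^ 2 - 1) :
    ∃ g : M, lf mu = conjFn π.ker (lf lam) g := by
  classical
  let _ : Fintype M := Fintype.ofFinite _
  obtain ⟨χ₀, χ₁, h0, h1, hadd, hk, D₁, hD₁, hlt⟩ := exists_moved h hX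
  have hl : lf lam ≠ 1 := fun h2 => hlam1 (lf_injective (by rw [h2]; rfl))
  have hm : lf mu ≠ 1 := fun h2 => hmu1 (lf_injective (by rw [h2]; rfl))
  rw [inner_moved hadd hk (isIrr_lf lam) hl] at hlam
  rw [inner_moved hadd hk (isIrr_lf mu) hm] at hmu
  -- an irreducible constituent of `χ₁` over `lam`
  have : Finite (IrrCharacter M) := Core.finite_irr
  have : Fintype (IrrCharacter M) := Fintype.ofFinite _
  obtain ⟨m, hm'⟩ := Core.isCharacter_iff.1 h1
  have h2 : (fun n : π.ker => χ₁ n) = ∑ ψ : IrrCharacter M, (m ψ : ℂ) • res π.ker (ψ : M → ℂ) := by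
    funext n
    rw [hm', Finset.sum_apply, Finset.sum_apply]
    refine Finset.sum_congr rfl fun ψ _ => ?_
    rw [Pi.smul_apply, Pi.smul_apply, nsmul_eq_mul, smul_eq_mul, res_apply]
  have h3 : ∑ ψ : IrrCharacter M, classInner ((m ψ : ℂ) • res π.ker (ψ : M → ℂ)) (lf lam) ≠ 0 := by
    rw [← Core.classInner_sum_left, ← h2, hlam]
    exact one_ne_zero
  obtain ⟨ψ, -, hψ0⟩ := Finset.exists_ne_zero_of_sum_ne_zero h3
  rw [Core.classInner_smul_left] at hψ0
  have hψ1 : classInner χ₁ (ψ : M → ℂ) ≠ 0 := by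
    rw [hm', Core.classInner_sum_nsmul_irr]
    exact left_ne_zero_of_mul hψ0
  have hψl : classInner (fun n : π.ker => (ψ : M → ℂ) n) (lf lam) ≠ 0 := right_ne_zero_of_mul hψ0
  by_cases hψm : classInner (fun n : π.ker => (ψ : M → ℂ) n) (lf mu) = 0
  · exfalso
    have h4 := OddOrderCharacters.Clifford.isCharacter_sub_irr h1 ψ.2 hψ1
    obtain ⟨D₂, hD₂⟩ := Core.isCharacter_apply_one h4
    obtain ⟨D₃, hD₃⟩ := Core.isCharacter_apply_one (Core.isIrr_isCharacter ψ.2)
    have h5 : D₁ = D₂ + D₃ := by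
      have h6 : (D₁ : ℂ) = D₂ + D₃ := by
        rw [← hD₁, ← hD₂, ← hD₃, Pi.sub_apply, sub_add_cancel]
      exact_mod_cast h6
    obtain ⟨e, he⟩ := Core.classInner_isNat
      (Clifford.isCharacter_restrict π.ker (Core.isIrr_isCharacter ψ.2))
      (Core.isIrr_isCharacter (isIrr_lf lam))
    have he0 : 0 < e := by
      rw [he] at hψl
      exact Nat.pos_of_ne_zero (by exact_mod_cast hψl)
    have hone : ∀ l : π.ker →* ℂˣ, lf l 1 = ((1 : ℕ) : ℂ) := by
      intro l
      show ((l 1 : ℂˣ) : ℂ) = _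
      rw [map_one, Units.val_one, Nat.cast_one]
    have h6 := CharDeep.CliffordCorr.index_mul_le_degree π.ker (isIrr_lf lam)
      (inertia π.ker (lf lam)) (fun g => mem_inertia') (Core.isIrr_isCharacter ψ.2) he (hone lam) hD₃
    have h7 : classInner (fun n : π.ker => (χ₁ - (ψ : M → ℂ)) n) (lf mu) = ((1 : ℕ) : ℂ) := by
      have h8 : (fun n : π.ker => (χ₁ - (ψ : M → ℂ)) n) =
          (fun n : π.ker => χ₁ n) - fun n : π.ker => (ψ : M → ℂ) n := rfl
      rw [h8, Core.classInner_sub_left, hmu, hψm, sub_zero, Nat.cast_one]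
    have h8 := CharDeep.CliffordCorr.index_mul_le_degree π.ker (isIrr_lf mu)
      (inertia π.ker (lf mu)) (fun g => mem_inertia') h4 h7 (hone mu) hD₂
    rw [hlamI] at h6
    rw [hmuI] at h8
    have h9 : (q ^ 2 - 1) * 1 ≤ (q ^ 2 - 1) * (e * 1) := Nat.mul_le_mul_left _ (by omega)
    omega
  · obtain ⟨g, hg⟩ := Clifford.exists_conj_of_constituents π.ker ψ.2 (isIrr_lf lam) (isIrr_lf mu)
      hψl hψm
    exact ⟨g, hg⟩

end Theta

end Cfsg.Agent.Classification.QDW.BetaX
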