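import Mathlib
import Cfsg.Prelude.Def_Characters
import Cfsg.Agent.Classification.QDW.BetaX

/-!
# The group of linear characters over the root group

`Z`: the `u`-invariant linear characters of `O` trivial on `N`; `|Z| = q`, `Z ≅ Irr(C_O(u)/N)` by
restriction; `t` inverts `Z`; all the nontrivial elements of `Z` have the same inertia group.
-/

set_option autoImplicit false
set_option linter.unusedSectionVars false

namespace Cfsg.Agent.Classification.QDW.BetaZ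

open Cfsg Cfsg.Agent.Characters Cfsg.Agent.Classification.QDW.Beta
  Cfsg.Agent.Classification.QDW.BetaGam Cfsg.Agent.Classification.QDW.BetaE
  Cfsg.Agent.Classification.QDW.BetaX
  Cfsg.Agent.OddOrderCharacters.NormalInduced Cfsg.Agent.OddOrderCharacters.IndRes
  Cfsg.Agent.OddOrderCharacters.PF9.CliffGen

universe u v

variable {M : Type u} [Group M] [Finite M] {Γ : Type v} [Group Γ]
  {π : M →* Γ} {N : Subgroup M} {t u : M} {q : ℕ} {X : M → ℂ} {D c : ℕ}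

/-- The conjugate `x ↦ λ (g x g⁻¹)`. -/
def cj (g : M) (lam : π.ker →* ℂˣ) : π.ker →* ℂˣ :=
  lam.comp (MulAut.conjNormal g : MulAut π.ker).toMonoidHom

theorem cj_apply (g : M) (lam : π.ker →* ℂˣ) (x : π.ker) :
    cj g lam x = lam ⟨g * x * g⁻¹, π.normal_ker.conj_mem x x.2 g⟩ := rfl

theorem lf_cj (g : M) (lam : π.ker →* ℂˣ) : lf (cj g lam) = conjFn π.ker (lf lam) g := rfl

theorem cj_one (lam : π.ker →* ℂˣ) : cj 1 lam = lam := by
  apply lf_injective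
  rw [lf_cj, conjFn_one]

theorem cj_mul (a b : M) (lam : π.ker →* ℂˣ) : cj (a * b) lam = cj b (cj a lam) := by
  apply lf_injective
  rw [lf_cj, lf_cj, lf_cj, conjFn_mul]

theorem cj_mul_char (g : M) (lam mu : π.ker →* ℂˣ) : cj g (lam * mu) = cj g lam * cj g mu := rfl

theorem cj_char_one (g : M) : cj g (1 : π.ker →* ℂˣ) = 1 := rfl

theorem cj_char_inv (g : M) (lam : π.ker →* ℂˣ) : cj g lam⁻¹ = (cj g lam)⁻¹ := rfl

theorem cj_inv_cj (g : M) (lam : π.ker →* ℂˣ) : cj g⁻¹ (cj g lam) = lam := by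
  rw [← cj_mul, mul_inv_cancel, cj_one]

theorem cj_cj_inv (g : M) (lam : π.ker →* ℂˣ) : cj g (cj g⁻¹ lam) = lam := by
  rw [← cj_mul, inv_mul_cancel, cj_one]

theorem cj_injective (g : M) : Function.Injective (cj g : (π.ker →* ℂˣ) → π.ker →* ℂˣ) := by
  intro a b hab
  rw [← cj_inv_cj g a, hab, cj_inv_cj]

theorem mem_inertia_iff {g : M} {lam : π.ker →* ℂˣ} :
    g ∈ inertia π.ker (lf lam) ↔ cj g lam = lam := by
  rw [mem_inertia, ← lf_cj]
  exact ⟨fun h => lf_injective h, fun h => by rw [h]⟩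

theorem mem_inertia_cj {g x : M} {lam : π.ker →* ℂˣ} :
    x ∈ inertia π.ker (lf (cj g lam)) ↔ g * x * g⁻¹ ∈ inertia π.ker (lf lam) := by
  rw [mem_inertia_iff, mem_inertia_iff, ← cj_mul]
  constructor
  · intro h
    rw [cj_mul, h, cj_inv_cj]
  · intro h
    apply cj_injective g⁻¹
    rw [← cj_mul, h, cj_inv_cj]

/-- The `u`-invariant linear characters of `O` trivial on `N`. -/
def Z (π : M →* Γ) (N : Subgroup M) (u : M) : Subgroup (π.ker →* ℂˣ) where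
  carrier := {lam | cj u lam = lam ∧ ∀ x : π.ker, (x : M) ∈ N → lam x = 1}
  one_mem' := ⟨rfl, fun _ _ => rfl⟩
  mul_mem' := by
    rintro a b ⟨ha, ha'⟩ ⟨hb, hb'⟩
    refine ⟨by rw [cj_mul_char, ha, hb], fun x hx => ?_⟩
    rw [MonoidHom.mul_apply, ha' x hx, hb' x hx, one_mul]
  inv_mem' := by
    rintro a ⟨ha, ha'⟩
    refine ⟨by rw [cj_char_inv, ha], fun x hx => ?_⟩
    rw [MonoidHom.inv_apply, ha' x hx, inv_one]

theorem mem_Z {lam : π.ker →* ℂˣ} :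
    lam ∈ Z π N u ↔ cj u lam = lam ∧ ∀ x : π.ker, (x : M) ∈ N → lam x = 1 := Iff.rfl

/-- Restriction to `C_O(u)`. -/
def rs (π : M →* Γ) (u : M) (lam : π.ker →* ℂˣ) : Cu π.ker u →* ℂˣ :=
  lam.comp (Subgroup.inclusion fun _ hx => (mem_Cu.1 hx).1)

theorem rs_apply (lam : π.ker →* ℂˣ) (w : Cu π.ker u) :
    rs π u lam w = lam ⟨w, (mem_Cu.1 w.2).1⟩ := rfl

/-- A `u`-invariant linear character trivial on `C_O(u)` is trivial. -/
theorem eq_one_of_rs (h : Hyp π N t u q) {lam : π.ker →* ℂˣ} (hu : cj u lam = lam)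
    (h1 : rs π u lam = 1) : lam = 1 := by
  ext x
  rw [MonoidHom.one_apply]
  congr 1
  obtain ⟨⟨c', hc'⟩, hcO, ⟨w, hw'⟩, hw, hcw⟩ := GlauberTwo.exists_conj
    (setup (O := π.ker) h.odd h.u_sq h.u_ne)
    (x := (⟨u * x, mul_mem u_mem_Ou (le_Ou x.2)⟩ : Ou π.ker u)) (by
      intro h2
      refine (setup (O := π.ker) h.odd h.u_sq h.u_ne).not_mem ?_
      have h3 := mul_mem h2 (inv_mem (show (⟨x, le_Ou x.2⟩ : Ou π.ker u) ∈
        π.ker.subgroupOf (Ou π.ker u) from x.2))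
      have h4 : (⟨u * x, mul_mem u_mem_Ou (le_Ou x.2)⟩ : Ou π.ker u) *
          (⟨x, le_Ou x.2⟩ : Ou π.ker u)⁻¹ = ⟨u, u_mem_Ou⟩ := by
        apply Subtype.ext
        show u * x * (x : M)⁻¹ = u
        rw [mul_inv_cancel_right]
      rwa [h4] at h3)
  have hcO' : c' ∈ π.ker := hcO
  have hwE : w ∈ Cu π.ker u := (eF ⟨⟨w, hw'⟩, hw⟩).2
  have h2 : c' * (u * x) * c'⁻¹ = u * w := congrArg Subtype.val hcw
  -- `w = (u⁻¹ c u) x c⁻¹`
  have h3 : w = (u⁻¹ * c' * u⁻¹⁻¹) * x * c'⁻¹ := by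
    have h4 : w = u⁻¹ * (c' * (u * x) * c'⁻¹) := by rw [h2]; group
    rw [h4]
    group
  have hmem : u⁻¹ * c' * u⁻¹⁻¹ ∈ π.ker := π.normal_ker.conj_mem c' hcO' u⁻¹
  have h4 : (⟨w, (mem_Cu.1 hwE).1⟩ : π.ker) = ⟨u⁻¹ * c' * u⁻¹⁻¹, hmem⟩ * x * ⟨c', hcO'⟩⁻¹ :=
    Subtype.ext h3
  have h5 : lam ⟨w, (mem_Cu.1 hwE).1⟩ = 1 := DFunLike.congr_fun h1 ⟨w, hwE⟩
  have h6 : lam ⟨u⁻¹ * c' * u⁻¹⁻¹, hmem⟩ = lam ⟨c', hcO'⟩ := by
    have h7 : cj u⁻¹ lam = lam := by
      conv_lhs => rw [← hu]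
      rw [cj_inv_cj]
    exact DFunLike.congr_fun h7 ⟨c', hcO'⟩
  rw [h4, map_mul, map_mul, map_inv, h6, mul_comm (lam ⟨c', hcO'⟩), mul_inv_cancel_right] at h5
  exact h5

theorem eq_of_rs (h : Hyp π N t u q) {lam mu : π.ker →* ℂˣ} (hl : lam ∈ Z π N u)
    (hm : mu ∈ Z π N u) (h1 : rs π u lam = rs π u mu) : lam = mu := by
  have h2 : lam * mu⁻¹ = 1 := by
    refine eq_one_of_rs h (mem_Z.1 (mul_mem hl (inv_mem hm))).1 ?_
    ext w
    have h3 := DFunLike.congr_fun h1 w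
    rw [rs_apply, rs_apply] at h3
    rw [rs_apply, MonoidHom.mul_apply, MonoidHom.inv_apply, h3, mul_inv_cancel,
      MonoidHom.one_apply]
  exact mul_inv_eq_one.1 h2

theorem rs_ne_one (h : Hyp π N t u q) {lam : π.ker →* ℂˣ} (hl : lam ∈ Z π N u) (h1 : lam ≠ 1) :
    rs π u lam ≠ 1 := fun h2 => h1 (eq_one_of_rs h (mem_Z.1 hl).1 h2)

theorem rs_N {lam : π.ker →* ℂˣ} (hl : lam ∈ Z π N u) (w : Cu π.ker u) (hw : (w : M) ∈ N) :
    rs π u lam w = 1 := (mem_Z.1 hl).2 _ hw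

/-- Conjugation by elements of `C(u)` preserves `Z`. -/
theorem cj_mem_Z (h : Hyp π N t u q) {g : M} (hg : Commute u g) {lam : π.ker →* ℂˣ}
    (hl : lam ∈ Z π N u) : cj g lam ∈ Z π N u := by
  obtain ⟨h1, h2⟩ := mem_Z.1 hl
  refine mem_Z.2 ⟨?_, fun x hx => ?_⟩
  · rw [← cj_mul, ← hg.eq, cj_mul, h1]
  · exact h2 _ (h.N_conj g hg x hx)

theorem rs_cj {g : M} (hg : Commute u g) (lam : π.ker →* ℂˣ) (w : Cu π.ker u) :
    rs π u (cj g lam) w = rs π u lam (cE π g hg w) := rfl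

/-- `t` inverts `Z`. -/
theorem cj_t (h : Hyp π N t u q) {lam : π.ker →* ℂˣ} (hl : lam ∈ Z π N u) :
    cj t lam = lam⁻¹ := by
  have h1 := cj_mem_Z h h.comm.symm hl
  refine eq_of_rs h h1 (inv_mem hl) ?_
  ext w
  rw [rs_cj h.comm.symm]
  have h2 := rs_N hl (cE π t h.comm.symm w * w) (h.inv w w.2)
  rw [map_mul] at h2
  rw [eq_inv_of_mul_eq_one_left h2]
  rfl

theorem eq_one_of_sq (h : Hyp π N t u q) (lam : π.ker →* ℂˣ) (x : π.ker)
    (hx : lam x = (lam x)⁻¹) : lam x = 1 := by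
  obtain ⟨k, hk⟩ := h.odd
  have h1 : lam x ^ Nat.card π.ker = 1 := by rw [← map_pow, pow_card_eq_one', map_one]
  have h2 : lam x ^ 2 = 1 := by
    rw [sq]
    nth_rewrite 1 [hx]
    exact inv_mul_cancel _
  rw [hk, pow_succ, pow_mul, h2, one_pow, one_mul] at h1
  exact h1

theorem apply_of_commute_t (h : Hyp π N t u q) {lam : π.ker →* ℂˣ} (hl : lam ∈ Z π N u)
    {x : π.ker} (hx : Commute t x) : lam x = 1 := by
  apply eq_one_of_sq h
  have h1 := DFunLike.congr_fun (cj_t h hl) x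
  rw [MonoidHom.inv_apply, cj_apply] at h1
  rw [← h1]
  congr 1
  apply Subtype.ext
  show (x : M) = t * x * t⁻¹
  rw [hx.eq, mul_inv_cancel_right]

theorem apply_of_commute_tu (h : Hyp π N t u q) {lam : π.ker →* ℂˣ} (hl : lam ∈ Z π N u)
    {x : π.ker} (hx : Commute (t * u) x) : lam x = 1 := by
  apply eq_one_of_sq h
  have h1 := DFunLike.congr_fun (cj_t h hl) x
  have h2 : cj (t * u) lam = lam⁻¹ := by
    rw [cj_mul, cj_t h hl, cj_char_inv, (mem_Z.1 hl).1]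
  have h1 := DFunLike.congr_fun h2 x
  rw [MonoidHom.inv_apply, cj_apply] at h1
  rw [← h1]
  congr 1
  apply Subtype.ext
  show (x : M) = t * u * x * (t * u)⁻¹
  rw [hx.eq, mul_inv_cancel_right]

section WithX

variable {I I' : Subgroup Γ}

/-- Every nontrivial element of `Z` is one of the characters of `exists_theta`. -/
theorem theta_of_mem [Fintype π.ker] (h : Hyp π N t u q) (hX : HypX π N t u q X D c)
    (hd : Dich q (π u) I I') {lam : π.ker →* ℂˣ} (hl : lam ∈ Z π N u) (h1 : lam ≠ 1) :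
    classInner (res π.ker X) (lf lam) = 1 ∧ (inertia π.ker (lf lam)).index = q ^ 2 - 1 ∧
      (inertia π.ker (lf lam) = I.comap π ∨ inertia π.ker (lf lam) = I'.comap π) := by
  obtain ⟨mu, hm1, hm2, hm3, hm4, hm5⟩ := exists_theta h hX hd (rs_N hl) (rs_ne_one h hl h1)
  have hmZ : mu ∈ Z π N u := by
    refine mem_Z.2 ⟨lf_injective hm2, fun x hx => ?_⟩
    have h2 := hm5 ⟨x, h.N_le hx⟩
    exact h2.trans (rs_N hl _ hx)
  have h2 : mu = lam := eq_of_rs h hmZ hl (by ext w; rw [rs_apply, hm5 w])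
  rw [← h2]
  exact ⟨hm1, hm3, hm4⟩

/-- Restriction is surjective from `Z` to the characters of `C_O(u)/N`. -/
theorem exists_of_Ch (h : Hyp π N t u q) (hX : HypX π N t u q X D c)
    (hd : Dich q (π u) I I') (f : Ch π N u) : ∃ lam ∈ Z π N u, rs π u lam = f.1 := by
  classical
  let _ : Fintype π.ker := Fintype.ofFinite _
  obtain ⟨f, hf⟩ := f
  by_cases h1 : f = 1
  · exact ⟨1, one_mem _, h1.symm⟩
  · obtain ⟨mu, hm1, hm2, hm3, hm4, hm5⟩ := exists_theta h hX hd hf h1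
    refine ⟨mu, mem_Z.2 ⟨lf_injective hm2, fun x hx => ?_⟩, ?_⟩
    · have h2 := hm5 ⟨x, h.N_le hx⟩
      rw [hf _ hx] at h2
      exact h2
    · ext w
      show (rs π u mu w : ℂ) = f w
      rw [rs_apply, hm5]

/-- `Z` is isomorphic to the character group of `C_O(u)/N`. -/
theorem card_Z (h : Hyp π N t u q) (hX : HypX π N t u q X D c)
    (hd : Dich q (π u) I I') : Nat.card (Z π N u) = q := by
  rw [← card_Ch h]
  refine Nat.card_congr (Equiv.ofBijective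
    (fun lam : Z π N u => (⟨rs π u lam.1, rs_N lam.2⟩ : Ch π N u)) ⟨?_, ?_⟩)
  · intro lam mu hlm
    exact Subtype.ext (eq_of_rs h lam.2 mu.2 (congrArg Subtype.val hlm))
  · intro f
    obtain ⟨lam, hl, hlf⟩ := exists_of_Ch h hX hd f
    exact ⟨⟨lam, hl⟩, Subtype.ext hlf⟩

/-- An element of `C_O(u)` killed by `Z` lies in `N`. -/
theorem mem_N_of_Z (h : Hyp π N t u q) (hX : HypX π N t u q X D c)
    (hd : Dich q (π u) I I') {x : M} (hx : x ∈ Cu π.ker u)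
    (hk : ∀ lam ∈ Z π N u, rs π u lam ⟨x, hx⟩ = 1) : x ∈ N := by
  by_contra hxN
  have h1 : ∀ f : Ch π N u, f.1 = 1 := by
    intro f
    ext y
    rw [MonoidHom.one_apply]
    congr 1
    by_cases hy : (y : M) ∈ N
    · exact f.2 y hy
    · obtain ⟨g, hg, hgN⟩ := h.trans x hx y y.2 hxN hy
      obtain ⟨lam, hl, hlf⟩ := exists_of_Ch h hX hd ⟨f.1.comp (cE π g hg), fun z hz =>
        f.2 _ (h.N_conj g hg z hz)⟩
      have h2 := hk lam hl
      rw [hlf] at h2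
      have h3 : f.1 (cE π g hg ⟨x, hx⟩) = 1 := h2
      have h4 := f.2 (cE π g hg ⟨x, hx⟩ * y⁻¹) hgN
      rw [map_mul, h3, one_mul, map_inv, inv_eq_one] at h4
      exact h4
  have h2 : Nat.card (Ch π N u) ≤ 1 := by
    have : Subsingleton (Ch π N u) := ⟨fun a b => Subtype.ext ((h1 a).trans (h1 b).symm)⟩
    exact Finite.card_le_one_iff_subsingleton.2 this
  rw [card_Ch h] at h2
  have h3 := h.card
  have h4 : Nat.card (Cu π.ker u) ≤ Nat.card N := by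
    rw [h3]
    calc q * Nat.card N ≤ 1 * Nat.card N := Nat.mul_le_mul_right _ h2
      _ = Nat.card N := one_mul _
  have h5 := Subgroup.eq_of_le_of_card_ge h.N_le h4
  exact hxN (h5 ▸ hx)

/-- `C_M(u)` is transitive on the nontrivial elements of `Z`. -/
theorem exists_cj (h : Hyp π N t u q) {lam mu : π.ker →* ℂˣ} (hl : lam ∈ Z π N u) (hl1 : lam ≠ 1)
    (hm : mu ∈ Z π N u) (hm1 : mu ≠ 1) : ∃ g, Commute u g ∧ mu = cj g lam := by
  obtain ⟨g, hg, hgf⟩ := exists_conj_char h (rs_N hl) (rs_ne_one h hl hl1) (rs_N hm)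
    (rs_ne_one h hm hm1)
  refine ⟨g, hg, eq_of_rs h hm (cj_mem_Z h hg hl) ?_⟩
  ext w
  rw [hgf w, rs_cj hg]

/-- All the nontrivial elements of `Z` have the same inertia group. -/
theorem inertia_eq (h : Hyp π N t u q) (hn : ∀ x, Commute (π u) x → ∀ y ∈ I, x * y * x⁻¹ ∈ I)
    {lam mu : π.ker →* ℂˣ} (hl : lam ∈ Z π N u) (hl1 : lam ≠ 1)
    (hm : mu ∈ Z π N u) (hm1 : mu ≠ 1) (hI : inertia π.ker (lf lam) = I.comap π) :
    inertia π.ker (lf mu) = I.comap π := by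
  obtain ⟨g, hg, rfl⟩ := exists_cj h hl hl1 hm hm1
  have hg' : Commute (π u) (π g) := hg.map π
  ext x
  rw [mem_inertia_cj, hI, Subgroup.mem_comap, Subgroup.mem_comap, map_mul, map_mul, map_inv]
  constructor
  · intro h1
    have h2 := hn _ hg'.inv_right _ h1
    have h3 : (π g)⁻¹ * (π g * π x * (π g)⁻¹) * (π g)⁻¹⁻¹ = π x := by group
    rwa [h3] at h2
  · exact hn _ hg' _

end WithX

end Cfsg.Agent.Classification.QDW.BetaZ
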