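import Mathlib
import Cfsg.Prelude.Def_Characters
import Cfsg.Agent.Classification.QDW.BetaZ

/-!
# The conjugates of `Z`

`ZData`: the group `Z` of `BetaZ` with `|Z| = q`, all the nontrivial elements having the inertia
group `I`, in the geometry `Gam q (π t) (π u) (π w) I P`.

* `cj_mem_Z_of_P`, `mem_P_of_cj`: `P` is the stabilizer of `Z`, and different conjugates of `Z`
  intersect trivially;
* `count`: the number of conjugates of elements of `Z` with a given property;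
* `NM`: the intersection of the kernels;
* `count_main`: if `N` is not contained in `NM` then the number of the conjugates of elements of
  `Z` nontrivial on `N` and the number of those nontrivial on `N` and `w N w⁻¹` have sum at least
  `q² - 1`.
-/

set_option autoImplicit false
set_option linter.unusedSectionVars false

namespace Cfsg.Agent.Classification.QDW.BetaP

open Cfsg Cfsg.Agent.Characters Cfsg.Agent.Classification.QDW.Beta
  Cfsg.Agent.Classification.QDW.BetaGam Cfsg.Agent.Classification.QDW.BetaE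
  Cfsg.Agent.Classification.QDW.BetaX Cfsg.Agent.Classification.QDW.BetaZ
  Cfsg.Agent.OddOrderCharacters.NormalInduced Cfsg.Agent.OddOrderCharacters.IndRes
  Cfsg.Agent.OddOrderCharacters.PF9.CliffGen

universe u v

variable {M : Type u} [Group M] [Finite M] {Γ : Type v} [Group Γ]
  {π : M →* Γ} {N : Subgroup M} {t u w : M} {q : ℕ} {I P : Subgroup Γ}

/-- The group `Z` in the geometry of `Γ`. -/
structure ZData (π : M →* Γ) (N : Subgroup M) (t u w : M) (q : ℕ) (I P : Subgroup Γ) : Prop where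
  h : Hyp π N t u q
  gam : Gam q (π t) (π u) (π w) I P
  w_t : Commute t w
  w_u : w * u * w⁻¹ = t * u
  card : Nat.card (Z π N u) = q
  iner : ∀ lam ∈ Z π N u, lam ≠ 1 → inertia π.ker (lf lam) = I.comap π

namespace ZData

/-- The action of `M` on the linear characters of `O`. -/
@[reducible]
def act (π : M →* Γ) : MulAction M (π.ker →* ℂˣ) where
  smul g lam := cj g⁻¹ lam
  one_smul lam := by
    show cj 1⁻¹ lam = lam
    rw [inv_one, cj_one]
  mul_smul a b lam := by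
    show cj (a * b)⁻¹ lam = cj a⁻¹ (cj b⁻¹ lam)
    rw [_root_.mul_inv_rev, cj_mul]

theorem finite_char (_ : ZData π N t u w q I P) : Finite (π.ker →* ℂˣ) := by
  have h1 := Linear.card_hom_eq_index_commutator π.ker
  refine Nat.finite_of_card_ne_zero ?_
  rw [h1]
  exact Subgroup.index_ne_zero_of_finite

theorem q_ne (d : ZData π N t u w q I P) : 0 < q := by
  have := d.finite_char
  rw [← d.card]
  exact Nat.card_pos

theorem q_odd (d : ZData π N t u w q I P) : Odd q := by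
  have h1 : Nat.card (Cu π.ker u) ∣ Nat.card π.ker :=
    Subgroup.card_dvd_of_le (fun x hx => (mem_Cu.1 hx).1)
  have h2 : q ∣ Nat.card π.ker := (Dvd.intro _ d.h.card.symm).trans h1
  exact Odd.of_dvd_nat d.h.odd h2

/-- `P` normalises `Z`. -/
theorem cj_mem_Z_of_P (d : ZData π N t u w q I P) {g : M} (hg : π g ∈ P) {lam : π.ker →* ℂˣ}
    (hl : lam ∈ Z π N u) : cj g lam ∈ Z π N u := by
  classical
  have hfin := d.finite_char
  by_cases h1 : lam = 1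
  · rw [h1, cj_char_one]
    exact one_mem _
  let _ := act π
  set Pt : Subgroup M := P.comap π with hPt
  set T : Subgroup M := I.comap π with hT
  have hTP : T ≤ Pt := Subgroup.comap_mono d.gam.I_le
  have hstab : MulAction.stabilizer Pt lam = T.subgroupOf Pt := by
    ext x
    rw [MulAction.mem_stabilizer_iff, Subgroup.mem_subgroupOf, hT, ← d.iner lam hl h1,
      mem_inertia_iff]
    have h2 : x • lam = cj ((x : M)⁻¹) lam := rfl
    rw [h2]
    constructor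
    · intro h3
      conv_lhs => rw [← h3]
      exact cj_cj_inv _ _
    · intro h3
      conv_lhs => rw [← h3]
      exact cj_inv_cj _ _
  have horb : (MulAction.orbit Pt lam).ncard = q - 1 := by
    rw [← MulAction.index_stabilizer, hstab]
    have h2 := Subgroup.relIndex_mul_index hTP
    have h3 : T.index = q ^ 2 - 1 := by
      rw [hT, Subgroup.index_comap_of_surjective _ d.h.surj, d.gam.I_index]
    have h4 : Pt.index = q + 1 := by
      rw [hPt, Subgroup.index_comap_of_surjective _ d.h.surj, d.gam.P_index]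
    rw [h3, h4] at h2
    have h5 : q ^ 2 - 1 = (q - 1) * (q + 1) := by
      obtain ⟨k, rfl⟩ := Nat.exists_eq_add_of_lt d.q_ne
      simp only [zero_add, Nat.add_sub_cancel]
      ring_nf
      omega
    rw [h5] at h2
    exact Nat.eq_of_mul_eq_mul_right (by omega) h2
  have hS : {mu | mu ∈ Z π N u ∧ mu ≠ 1}.ncard = q - 1 := by
    have h2 : {mu | mu ∈ Z π N u ∧ mu ≠ 1} = (Z π N u : Set (π.ker →* ℂˣ)) \ {1} := by
      ext mu
      simp
    rw [h2, Set.ncard_sdiff_singleton_of_mem (one_mem (Z π N u)), ← Nat.card_coe_set_eq]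
    have h3 : Nat.card (Z π N u : Set (π.ker →* ℂˣ)) = q := d.card
    rw [h3]
  have hsub : {mu | mu ∈ Z π N u ∧ mu ≠ 1} ⊆ MulAction.orbit Pt lam := by
    rintro mu ⟨hm, hm1⟩
    obtain ⟨c, hc, rfl⟩ := exists_cj d.h hl h1 hm hm1
    have hcP : c⁻¹ ∈ Pt := inv_mem (show π c ∈ P from d.gam.cent_le _ (hc.map π))
    refine ⟨⟨c⁻¹, hcP⟩, ?_⟩
    show cj (c⁻¹)⁻¹ lam = cj c lam
    rw [inv_inv]
  have heq := Set.eq_of_subset_of_ncard_le hsub (by rw [horb, hS]) (Set.toFinite _)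
  have h2 : cj g lam ∈ MulAction.orbit Pt lam := by
    refine ⟨⟨g⁻¹, inv_mem (show π g ∈ P from hg)⟩, ?_⟩
    show cj (g⁻¹)⁻¹ lam = cj g lam
    rw [inv_inv]
  rw [← heq] at h2
  exact h2.1

/-- Different conjugates of `Z` intersect trivially. -/
theorem mem_P_of_cj (d : ZData π N t u w q I P) {g : M} {lam : π.ker →* ℂˣ}
    (hl : lam ∈ Z π N u) (h1 : lam ≠ 1) (hc : cj g lam ∈ Z π N u) : π g ∈ P := by
  have h2 : cj g lam ≠ 1 := by
    intro h3
    apply h1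
    apply cj_injective g
    rw [h3, cj_char_one]
  obtain ⟨c, hcu, hc'⟩ := exists_cj d.h hc h2 hl h1
  have h3 : g * c ∈ inertia π.ker (lf lam) := by
    rw [mem_inertia_iff, cj_mul, ← hc']
  rw [d.iner lam hl h1, Subgroup.mem_comap, map_mul] at h3
  exact (P.mul_mem_cancel_right (d.gam.cent_le _ (hcu.map π))).1 (d.gam.I_le h3)

/-- Transitivity on the other conjugates. -/
theorem exists_trans (d : ZData π N t u w q I P) {g g' : M} (hg : π g ∉ P)
    (hg' : (π w)⁻¹ * π g ∉ P) (hk : π g' ∉ P) (hk' : (π w)⁻¹ * π g' ∉ P) :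
    ∃ h, Commute u h ∧ Commute t h ∧ π (g'⁻¹ * (h * g)) ∈ P := by
  obtain ⟨γ, hγ, hγP⟩ := d.gam.trans _ _ hg hg' hk hk'
  obtain ⟨h, rfl, hht, hhu⟩ := exists_lift π d.h.surj d.h.odd d.h.t_sq d.h.u_sq d.h.u_sq
    d.h.comm d.h.comm (γ := γ) (d.gam.central γ) (by rw [← hγ.eq, mul_inv_cancel_right])
  refine ⟨h, ?_, hht, ?_⟩
  · have h1 : h * u = u * h := mul_inv_eq_iff_eq_mul.1 hhu
    exact h1.symm
  · rw [map_mul, map_inv, map_mul]
    exact hγP

/-- Counting the conjugates of the elements of `Z` with a property. -/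
theorem count (d : ZData π N t u w q I P) {g₀ : M} (hg : π g₀ ∉ P) (hg' : (π w)⁻¹ * π g₀ ∉ P)
    (p : (π.ker →* ℂˣ) → Prop)
    (hp : ∀ h, Commute u h → Commute t h → ∀ mu, p mu → p (cj h mu)) (hp1 : ∀ mu, p mu → mu ≠ 1) :
    (q - 1) * {lam | lam ∈ Z π N u ∧ p (cj g₀⁻¹ lam)}.ncard ≤
      {mu | p mu ∧ ∃ g, cj g mu ∈ Z π N u}.ncard := by
  classical
  have hfin := d.finite_char
  let one : Γ ⧸ P := QuotientGroup.mk 1
  let ww : Γ ⧸ P := QuotientGroup.mk (π w)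
  let O := {κ : Γ ⧸ P // κ ∉ ({one, ww} : Set (Γ ⧸ P))}
  have hcardP : Nat.card (Γ ⧸ P) = q + 1 := d.gam.P_index
  have hfinP : Finite (Γ ⧸ P) := Nat.finite_of_card_ne_zero (by omega)
  have hne : one ≠ ww := by
    intro h1
    have h2 := QuotientGroup.eq.1 h1
    rw [inv_one, one_mul] at h2
    exact d.gam.swap_notMem h2
  have hO : Nat.card O = q - 1 := by
    have h1 : Nat.card O = (({one, ww} : Set (Γ ⧸ P))ᶜ).ncard := Nat.card_coe_set_eq _
    have h2 := Set.ncard_add_ncard_compl ({one, ww} : Set (Γ ⧸ P))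
    rw [Set.ncard_pair hne, hcardP] at h2
    omega
  have hch : ∀ κ : O, ∃ h, Commute u h ∧ Commute t h ∧
      (QuotientGroup.mk (π (h * g₀)) : Γ ⧸ P) = κ.1 := by
    rintro ⟨κ, hκ⟩
    obtain ⟨γ, rfl⟩ := QuotientGroup.mk_surjective κ
    obtain ⟨g, rfl⟩ := d.h.surj γ
    have h1 : π g ∉ P := by
      intro h2
      apply hκ
      left
      exact (QuotientGroup.eq.2 (by rwa [inv_one, one_mul])).symm
    have h2 : (π w)⁻¹ * π g ∉ P := by
      intro h3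
      apply hκ
      right
      exact (QuotientGroup.eq.2 h3).symm
    obtain ⟨h, hu, ht, hP⟩ := d.exists_trans hg hg' h1 h2
    refine ⟨h, hu, ht, ?_⟩
    show QuotientGroup.mk (π (h * g₀)) = QuotientGroup.mk (π g)
    rw [eq_comm, QuotientGroup.eq, ← map_inv, ← map_mul]
    exact hP
  choose h hhu hht hh using hch
  let A := {lam | lam ∈ Z π N u ∧ p (cj g₀⁻¹ lam)}
  let B := {mu | p mu ∧ ∃ g, cj g mu ∈ Z π N u}
  let Φ : O × A → B := fun x => ⟨cj (h x.1 * g₀)⁻¹ x.2.1, by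
    have h1 : cj (h x.1 * g₀)⁻¹ x.2.1 = cj (h x.1)⁻¹ (cj g₀⁻¹ x.2.1) := by
      rw [_root_.mul_inv_rev, cj_mul]
    refine ⟨?_, h x.1 * g₀, ?_⟩
    · rw [h1]
      exact hp _ (hhu x.1).inv_right (hht x.1).inv_right _ x.2.2.2
    · rw [cj_cj_inv]
      exact x.2.2.1⟩
  have hΦ : Function.Injective Φ := by
    rintro ⟨κ, ⟨lam, hl, hpl⟩⟩ ⟨κ', ⟨mu, hm, hpm⟩⟩ h1
    have h2 : cj (h κ * g₀)⁻¹ lam = cj (h κ' * g₀)⁻¹ mu := congrArg Subtype.val h1
    have hl1 : lam ≠ 1 := by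
      rintro rfl
      exact hp1 _ hpl (cj_char_one _)
    have h3 : cj ((h κ * g₀)⁻¹ * (h κ' * g₀)) lam = mu := by
      rw [cj_mul, h2, cj_cj_inv]
    have h4 := d.mem_P_of_cj hl hl1 (g := (h κ * g₀)⁻¹ * (h κ' * g₀)) (by rw [h3]; exact hm)
    have h5 : κ = κ' := by
      apply Subtype.ext
      rw [← hh κ, ← hh κ', QuotientGroup.eq, ← map_inv, ← map_mul]
      exact h4
    subst h5
    rw [inv_mul_cancel, cj_one] at h3
    subst h3
    rfl
  have h1 := Nat.card_le_card_of_injective Φ hΦ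
  rw [Nat.card_prod, hO] at h1
  rw [← Nat.card_coe_set_eq, ← Nat.card_coe_set_eq]
  exact h1

/-- The intersection of the kernels of the conjugates of the elements of `Z`. -/
def NM (π : M →* Γ) (N : Subgroup M) (u : M) : Subgroup M where
  carrier := {x | ∃ hx : x ∈ π.ker, ∀ lam ∈ Z π N u, ∀ g, cj g lam ⟨x, hx⟩ = 1}
  one_mem' := ⟨one_mem _, fun lam _ g => map_one _⟩
  mul_mem' := by
    rintro a b ⟨ha, ha'⟩ ⟨hb, hb'⟩
    refine ⟨mul_mem ha hb, fun lam hl g => ?_⟩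
    have h1 : (⟨a * b, mul_mem ha hb⟩ : π.ker) = ⟨a, ha⟩ * ⟨b, hb⟩ := rfl
    rw [h1, map_mul, ha' lam hl g, hb' lam hl g, one_mul]
  inv_mem' := by
    rintro a ⟨ha, ha'⟩
    refine ⟨inv_mem ha, fun lam hl g => ?_⟩
    have h1 : (⟨a⁻¹, inv_mem ha⟩ : π.ker) = ⟨a, ha⟩⁻¹ := rfl
    rw [h1, map_inv, ha' lam hl g, inv_one]

theorem mem_NM {x : M} : x ∈ NM π N u ↔
    ∃ hx : x ∈ π.ker, ∀ lam ∈ Z π N u, ∀ g, cj g lam ⟨x, hx⟩ = 1 := Iff.rfl

theorem NM_normal (π : M →* Γ) (N : Subgroup M) (u : M) : (NM π N u).Normal where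
  conj_mem := by
    rintro x ⟨hx, hx'⟩ a
    refine ⟨π.normal_ker.conj_mem x hx a, fun lam hl g => ?_⟩
    have h1 := hx' lam hl (g * a)
    rw [cj_mul] at h1
    exact h1

/-- The subgroup `A₀` of the elements of `Z` whose conjugate by `g₀` is trivial on `R`. -/
def triv (π : M →* Γ) (N : Subgroup M) (u : M) (g₀ : M) (R : Set M) : Subgroup (π.ker →* ℂˣ) where
  carrier := {lam | lam ∈ Z π N u ∧ ∀ x : π.ker, (x : M) ∈ R → cj g₀⁻¹ lam x = 1}
  one_mem' := ⟨one_mem _, fun x _ => rfl⟩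
  mul_mem' := by
    rintro a b ⟨ha, ha'⟩ ⟨hb, hb'⟩
    refine ⟨mul_mem ha hb, fun x hx => ?_⟩
    rw [cj_mul_char, MonoidHom.mul_apply, ha' x hx, hb' x hx, one_mul]
  inv_mem' := by
    rintro a ⟨ha, ha'⟩
    refine ⟨inv_mem ha, fun x hx => ?_⟩
    rw [cj_char_inv, MonoidHom.inv_apply, ha' x hx, inv_one]

theorem mem_triv {g₀ : M} {R : Set M} {lam : π.ker →* ℂˣ} : lam ∈ triv π N u g₀ R ↔
    lam ∈ Z π N u ∧ ∀ x : π.ker, (x : M) ∈ R → cj g₀⁻¹ lam x = 1 := Iff.rfl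

/-- If `A₀ = Z` then `N ≤ NM`. -/
theorem le_NM (d : ZData π N t u w q I P) {g₀ : M} (hg : π g₀ ∉ P) (hg' : (π w)⁻¹ * π g₀ ∉ P)
    (hA : Z π N u ≤ triv π N u g₀ (N : Set M)) : N ≤ NM π N u := by
  intro x hx
  have hxk : x ∈ π.ker := (mem_Cu.1 (d.h.N_le hx)).1
  have hxu : Commute u x := (mem_Cu.1 (d.h.N_le hx)).2
  refine ⟨hxk, fun lam hl g => ?_⟩
  obtain ⟨k, rfl⟩ : ∃ k, g = k⁻¹ := ⟨g⁻¹, (inv_inv g).symm⟩
  by_cases h1 : π k ∈ P
  · exact (mem_Z.1 (d.cj_mem_Z_of_P (by rw [map_inv]; exact inv_mem h1) hl)).2 _ hx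
  by_cases h2 : (π w)⁻¹ * π k ∈ P
  · have h3 : π ((w⁻¹ * k)⁻¹) ∈ P := by
      rw [map_inv, map_mul, map_inv]
      exact inv_mem h2
    have h4 := d.cj_mem_Z_of_P h3 hl
    have h5 : cj k⁻¹ lam = cj w⁻¹ (cj (w⁻¹ * k)⁻¹ lam) := by
      rw [← cj_mul]
      congr 1
      group
    rw [h5, cj_apply]
    refine apply_of_commute_tu d.h h4 ?_
    show Commute (t * u) (w⁻¹ * x * w⁻¹⁻¹)
    -- `w⁻¹ u w = t u`
    have h6 : w⁻¹ * u * w⁻¹⁻¹ = t * u := by
      have h7 : u = w⁻¹ * (w * u * w⁻¹) * w := by group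
      rw [d.w_u] at h7
      have h8 : w⁻¹ * (t * u) * w = t * (w⁻¹ * u * w) := by
        rw [← mul_assoc w⁻¹ t, ← d.w_t.inv_right.eq]
        group
      rw [h8] at h7
      rw [inv_inv]
      have h9 : t * u = t * (t * (w⁻¹ * u * w)) := by rw [← h7]
      rw [h9, ← mul_assoc, d.h.t_sq, one_mul]
    rw [← h6]
    have h7 : Commute (w⁻¹ * u * w⁻¹⁻¹) (w⁻¹ * x * w⁻¹⁻¹) := by
      show w⁻¹ * u * w⁻¹⁻¹ * (w⁻¹ * x * w⁻¹⁻¹) = w⁻¹ * x * w⁻¹⁻¹ * (w⁻¹ * u * w⁻¹⁻¹)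
      calc w⁻¹ * u * w⁻¹⁻¹ * (w⁻¹ * x * w⁻¹⁻¹) = w⁻¹ * (u * x) * w⁻¹⁻¹ := by group
        _ = w⁻¹ * (x * u) * w⁻¹⁻¹ := by rw [hxu.eq]
        _ = _ := by group
    exact h7
  · obtain ⟨h, hu, ht, hP⟩ := d.exists_trans hg hg' h1 h2
    have h3 : cj (k⁻¹ * (h * g₀)) lam ∈ Z π N u := d.cj_mem_Z_of_P hP hl
    have h4 : cj k⁻¹ lam = cj h⁻¹ (cj g₀⁻¹ (cj (k⁻¹ * (h * g₀)) lam)) := by
      rw [← cj_mul, ← cj_mul]
      congr 1
      group
    rw [h4, cj_apply]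
    exact (mem_triv.1 (hA h3)).2 _ (d.h.N_conj _ hu.inv_right x hx)

/-- The conjugate `w N w⁻¹`. -/
def conjN (N : Subgroup M) (w : M) : Set M := {x | w⁻¹ * x * w ∈ N}

theorem card_triv_le (d : ZData π N t u w q I P) {g₀ : M} (hg : π g₀ ∉ P)
    (hg' : (π w)⁻¹ * π g₀ ∉ P) :
    Nat.card (triv π N u g₀ (conjN N w)) ≤ Nat.card (triv π N u g₀ (N : Set M)) := by
  have hfin := d.finite_char
  have hz : π t * π t = 1 := by rw [← map_mul, d.h.t_sq, map_one]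
  have h1 : π (w⁻¹ * g₀) ∉ P := by rwa [map_mul, map_inv]
  have h2 : (π w)⁻¹ * π (w⁻¹ * g₀) ∉ P := by
    intro h3
    apply hg
    have h4 := P.mul_mem (d.gam.sq_mem hz) h3
    rw [map_mul, map_inv] at h4
    have h5 : π w * π w * ((π w)⁻¹ * ((π w)⁻¹ * π g₀)) = π g₀ := by group
    rwa [h5] at h4
  obtain ⟨h, hu, ht, hP⟩ := d.exists_trans hg hg' h1 h2
  set p := (w⁻¹ * g₀)⁻¹ * (h * g₀) with hp
  -- `mu ∈ B₀ → cj p mu ∈ A₀`
  have hmap : ∀ mu ∈ triv π N u g₀ (conjN N w), cj p mu ∈ triv π N u g₀ (N : Set M) := by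
    rintro mu ⟨hm, hm'⟩
    refine ⟨d.cj_mem_Z_of_P hP hm, fun x hx => ?_⟩
    -- `cj g₀⁻¹ (cj p mu) = cj (w h) (cj g₀⁻¹ mu)`
    have h3 : cj g₀⁻¹ (cj p mu) = cj (w * h) (cj g₀⁻¹ mu) := by
      rw [← cj_mul, ← cj_mul, hp]
      congr 1
      group
    rw [h3, cj_apply]
    refine hm' _ ?_
    show w⁻¹ * (w * h * x * (w * h)⁻¹) * w ∈ N
    have h4 : w⁻¹ * (w * h * x * (w * h)⁻¹) * w = h * x * h⁻¹ := by group
    rw [h4]
    exact d.h.N_conj h hu x hx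
  refine Nat.card_le_card_of_injective
    (fun mu : triv π N u g₀ (conjN N w) => (⟨cj p mu.1, hmap _ mu.2⟩ :
      triv π N u g₀ (N : Set M))) ?_
  intro a b hab
  exact Subtype.ext (cj_injective p (congrArg Subtype.val hab))

/-- `w⁻¹ (t u) w = u`. -/
theorem w_inv_u (d : ZData π N t u w q I P) : w⁻¹ * (t * u) * w = u := by
  rw [← d.w_u]
  group

/-- Conjugation by `h ∈ C(t) ∩ C(u)` preserves `w N w⁻¹`. -/
theorem conj_mem_conjN (d : ZData π N t u w q I P) {h : M} (hu : Commute u h) (ht : Commute t h)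
    {x : M} (hx : x ∈ conjN N w) : h * x * h⁻¹ ∈ conjN N w := by
  have h1 : Commute u (w⁻¹ * h * w) := by
    have h2 : Commute (t * u) h := ht.mul_left hu
    have h3 : Commute (w⁻¹ * (t * u) * w) (w⁻¹ * h * w) := by
      show w⁻¹ * (t * u) * w * (w⁻¹ * h * w) = w⁻¹ * h * w * (w⁻¹ * (t * u) * w)
      calc w⁻¹ * (t * u) * w * (w⁻¹ * h * w) = w⁻¹ * ((t * u) * h) * w := by group
        _ = w⁻¹ * (h * (t * u)) * w := by rw [h2.eq]
        _ = _ := by group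
    rwa [d.w_inv_u] at h3
  have h2 := d.h.N_conj _ h1 _ (show w⁻¹ * x * w ∈ N from hx)
  show w⁻¹ * (h * x * h⁻¹) * w ∈ N
  have h3 : w⁻¹ * h * w * (w⁻¹ * x * w) * (w⁻¹ * h * w)⁻¹ = w⁻¹ * (h * x * h⁻¹) * w := by group
  rwa [h3] at h2

theorem ncard_Z_inter_compl (d : ZData π N t u w q I P) (s : Set (π.ker →* ℂˣ))
    (hs : s ⊆ Z π N u) : {lam | lam ∈ Z π N u ∧ lam ∉ s}.ncard + s.ncard = q := by
  have hfin := d.finite_char
  have h1 : {lam | lam ∈ Z π N u ∧ lam ∉ s} = (Z π N u : Set (π.ker →* ℂˣ)) \ s := rfl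
  rw [h1, Set.ncard_sdiff_add_ncard_of_subset hs]
  exact d.card

/-- The main counting result. -/
theorem count_main (d : ZData π N t u w q I P) (hN : ¬ N ≤ NM π N u) :
    q ^ 2 - 1 ≤ {mu : π.ker →* ℂˣ | (∃ x : π.ker, (x : M) ∈ N ∧ mu x ≠ 1) ∧
        ∃ g, cj g mu ∈ Z π N u}.ncard +
      {mu : π.ker →* ℂˣ | ((∃ x : π.ker, (x : M) ∈ N ∧ mu x ≠ 1) ∧
        ∃ x : π.ker, (x : M) ∈ conjN N w ∧ mu x ≠ 1) ∧ ∃ g, cj g mu ∈ Z π N u}.ncard := by
  classical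
  have hfin := d.finite_char
  -- `q > 1`
  have hq1 : 1 < q := by
    by_contra hc
    have h1 : q = 1 := by have := d.q_ne; omega
    apply hN
    intro x hx
    have hxk : x ∈ π.ker := (mem_Cu.1 (d.h.N_le hx)).1
    refine ⟨hxk, fun lam hl g => ?_⟩
    have h2 : Nat.card (Z π N u) = 1 := by rw [d.card, h1]
    have h3 : lam = 1 := (Subgroup.mem_bot).1 ((Subgroup.card_eq_one.1 h2) ▸ hl)
    rw [h3, cj_char_one, MonoidHom.one_apply]
  -- another coset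
  obtain ⟨g₀, hg, hg'⟩ : ∃ g₀, π g₀ ∉ P ∧ (π w)⁻¹ * π g₀ ∉ P := by
    by_contra hc
    push Not at hc
    have hcardP : Nat.card (Γ ⧸ P) = q + 1 := d.gam.P_index
    have hfinP : Finite (Γ ⧸ P) := Nat.finite_of_card_ne_zero (by omega)
    have h1 : (Set.univ : Set (Γ ⧸ P)) ⊆ {QuotientGroup.mk 1, QuotientGroup.mk (π w)} := by
      intro κ _
      obtain ⟨γ, rfl⟩ := QuotientGroup.mk_surjective κ
      obtain ⟨g, rfl⟩ := d.h.surj γ
      by_cases h2 : π g ∈ P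
      · left
        exact (QuotientGroup.eq.2 (by rwa [inv_one, one_mul])).symm
      · right
        exact (QuotientGroup.eq.2 (hc g h2)).symm
    have h2 := Set.ncard_le_ncard h1 (Set.toFinite _)
    rw [Set.ncard_univ, hcardP] at h2
    have h3 := Set.ncard_insert_le (QuotientGroup.mk 1 : Γ ⧸ P) {QuotientGroup.mk (π w)}
    rw [Set.ncard_singleton] at h3
    omega
  set A₀ := triv π N u g₀ (N : Set M) with hA₀
  set B₀ := triv π N u g₀ (conjN N w) with hB₀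
  have hAle : A₀ ≤ Z π N u := fun x hx => hx.1
  have hBle : B₀ ≤ Z π N u := fun x hx => hx.1
  -- `3 |A₀| ≤ q`
  have hA3 : 3 * Nat.card A₀ ≤ q := by
    have h1 : Nat.card A₀ ∣ q := d.card ▸ Subgroup.card_dvd_of_le hAle
    obtain ⟨k, hk⟩ := h1
    have h2 : k ≠ 1 := by
      rintro rfl
      apply hN
      refine d.le_NM hg hg' ?_
      have h3 : A₀ = Z π N u := by
        refine Subgroup.eq_of_le_of_card_ge hAle ?_
        rw [d.card, hk, mul_one]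
      rw [← hA₀, h3]
    have h3 : Odd k := Odd.of_dvd_nat d.q_odd (Dvd.intro_left _ hk.symm)
    have h4 : k ≠ 0 := by
      rintro rfl
      simp at h3
    have h5 : 3 ≤ k := by
      obtain ⟨j, hj⟩ := h3
      omega
    rw [hk, mul_comm]
    exact Nat.mul_le_mul_left _ h5
  have hBA : Nat.card B₀ ≤ Nat.card A₀ := d.card_triv_le hg hg'
  -- first count
  have hc1 := d.count hg hg' (fun mu => ∃ x : π.ker, (x : M) ∈ N ∧ mu x ≠ 1)
    (by
      rintro h hu ht mu ⟨x, hx, hx'⟩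
      refine ⟨⟨h⁻¹ * x * h⁻¹⁻¹, π.normal_ker.conj_mem x x.2 h⁻¹⟩, d.h.N_conj _ hu.inv_right _ hx,
        ?_⟩
      rw [cj_apply]
      convert hx' using 3
      group)
    (by
      rintro mu ⟨x, hx, hx'⟩ rfl
      exact hx' rfl)
  have hc2 := d.count hg hg' (fun mu => (∃ x : π.ker, (x : M) ∈ N ∧ mu x ≠ 1) ∧
      ∃ x : π.ker, (x : M) ∈ conjN N w ∧ mu x ≠ 1)
    (by
      rintro h hu ht mu ⟨⟨x, hx, hx'⟩, y, hy, hy'⟩
      refine ⟨⟨⟨h⁻¹ * x * h⁻¹⁻¹, π.normal_ker.conj_mem x x.2 h⁻¹⟩,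
        d.h.N_conj _ hu.inv_right _ hx, ?_⟩, ⟨h⁻¹ * y * h⁻¹⁻¹, π.normal_ker.conj_mem y y.2 h⁻¹⟩,
        d.conj_mem_conjN hu.inv_right ht.inv_right hy, ?_⟩
      · rw [cj_apply]
        convert hx' using 3
        group
      · rw [cj_apply]
        convert hy' using 3
        group)
    (by
      rintro mu ⟨⟨x, hx, hx'⟩, -⟩ rfl
      exact hx' rfl)
  have hs1 : {lam | lam ∈ Z π N u ∧ ∃ x : π.ker, (x : M) ∈ N ∧ cj g₀⁻¹ lam x ≠ 1} =
      {lam | lam ∈ Z π N u ∧ lam ∉ (A₀ : Set (π.ker →* ℂˣ))} := by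
    ext lam
    constructor
    · rintro ⟨hl, x, hx, hx'⟩
      exact ⟨hl, fun h1 => hx' (h1.2 x hx)⟩
    · rintro ⟨hl, h1⟩
      refine ⟨hl, ?_⟩
      by_contra hc
      push Not at hc
      exact h1 ⟨hl, hc⟩
  have hs2 : {lam | lam ∈ Z π N u ∧ (∃ x : π.ker, (x : M) ∈ N ∧ cj g₀⁻¹ lam x ≠ 1) ∧
      ∃ x : π.ker, (x : M) ∈ conjN N w ∧ cj g₀⁻¹ lam x ≠ 1} =
      {lam | lam ∈ Z π N u ∧ lam ∉ (A₀ : Set (π.ker →* ℂˣ)) ∪ B₀} := by
    ext lam
    constructor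
    · rintro ⟨hl, ⟨x, hx, hx'⟩, y, hy, hy'⟩
      refine ⟨hl, ?_⟩
      rintro (h1 | h1)
      · exact hx' (h1.2 x hx)
      · exact hy' (h1.2 y hy)
    · rintro ⟨hl, h1⟩
      refine ⟨hl, ?_, ?_⟩
      · by_contra hc
        push Not at hc
        exact h1 (Or.inl ⟨hl, hc⟩)
      · by_contra hc
        push Not at hc
        exact h1 (Or.inr ⟨hl, hc⟩)
  have hn1 := d.ncard_Z_inter_compl (A₀ : Set (π.ker →* ℂˣ)) hAle
  have hn2 := d.ncard_Z_inter_compl ((A₀ : Set (π.ker →* ℂˣ)) ∪ B₀)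
    (Set.union_subset hAle hBle)
  have hu1 := Set.ncard_union_add_ncard_inter (A₀ : Set (π.ker →* ℂˣ)) B₀
  have hi1 : 1 ≤ ((A₀ : Set (π.ker →* ℂˣ)) ∩ B₀).ncard := by
    exact (Set.ncard_pos (Set.toFinite _)).2 ⟨1, one_mem A₀, one_mem B₀⟩
  have hA4 : (A₀ : Set (π.ker →* ℂˣ)).ncard = Nat.card A₀ := rfl
  have hB4 : (B₀ : Set (π.ker →* ℂˣ)).ncard = Nat.card B₀ := rfl
  rw [hs1] at hc1
  rw [hs2] at hc2
  rw [hA4] at hn1 hu1
  rw [hB4] at hu1
  set a := {lam | lam ∈ Z π N u ∧ lam ∉ (A₀ : Set (π.ker →* ℂˣ))}.ncard with ha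
  set b := {lam | lam ∈ Z π N u ∧ lam ∉ (A₀ : Set (π.ker →* ℂˣ)) ∪ B₀}.ncard with hb
  have h1 : q + 1 ≤ a + b := by omega
  refine le_trans ?_ (Nat.add_le_add hc1 hc2)
  rw [← mul_add]
  refine le_trans ?_ (Nat.mul_le_mul_left (q - 1) h1)
  obtain ⟨k, rfl⟩ := Nat.exists_eq_add_of_lt hq1
  have h2 : 1 + k + 1 - 1 = k + 1 := by omega
  rw [h2]
  have h3 : (1 + k + 1) ^ 2 - 1 = (k + 1) * (1 + k + 1 + 1) := by
    have : (1 + k + 1) ^ 2 = (k + 1) * (1 + k + 1 + 1) + 1 := by ring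
    omega
  rw [h3]

end ZData

end Cfsg.Agent.Classification.QDW.BetaP
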