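import Mathlib
import Cfsg.Prelude.Def_Characters
import Cfsg.Agent.Characters.Core
import Cfsg.Agent.Characters.Linear
import Cfsg.Agent.Classification.QDW.ThetaRep

/-!
# Eigenvectors of an odd normal subgroup and the dimension count

* `exists_eigen`: a linear constituent of the restriction to `O` has an eigenvector;
* `linearIndependent_eigen`: eigenvectors for different linear characters are independent;
* `dim_count`: the dimension count of the claim in step (10) of post 4737.
-/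

set_option autoImplicit false
set_option linter.unusedSectionVars false

namespace Cfsg.Agent.Classification.QDW.BetaRep

open Subgroup Cfsg Module Cfsg.Agent.Characters
open Cfsg.Agent.Classification.QDW.Theta
open scoped ComplexConjugate

universe u

section Eigen

variable {O : Type u} [Group O] [Finite O] {X : Type*} [AddCommGroup X] [Module ℂ X]

theorem exists_eigen [Fintype O] [FiniteDimensional ℂ X] (ρ : Representation ℂ O X)
    (mu : O →* ℂˣ) (h : classInner ρ.character (fun x => (mu x : ℂ)) ≠ 0) :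
    ∃ v : X, v ≠ 0 ∧ ∀ x, ρ x v = (mu x : ℂ) • v := by
  classical
  set e : X →ₗ[ℂ] X := ∑ x : O, ((mu x)⁻¹ : ℂˣ).val • ρ x with he
  have htr : LinearMap.trace ℂ X e = Nat.card O * classInner ρ.character (fun x => (mu x : ℂ)) := by
    rw [he, map_sum, Core.classInner_def, ← mul_assoc,
      mul_inv_cancel₀ Core.card_ne_zero_complex, one_mul]
    refine Finset.sum_congr rfl fun x _ => ?_
    rw [map_smul, smul_eq_mul, mul_comm]
    congr 1
    have h1 := Linear.norm_hom_apply mu x
    rw [Units.val_inv_eq_inv_val, Complex.inv_def, Complex.normSq_eq_norm_sq, h1]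
    norm_num
  have he0 : e ≠ 0 := by
    intro h1
    rw [h1, map_zero] at htr
    exact mul_ne_zero Core.card_ne_zero_complex h htr.symm
  obtain ⟨v, hv⟩ : ∃ v, e v ≠ 0 := by
    by_contra hc
    push Not at hc
    exact he0 (LinearMap.ext hc)
  refine ⟨e v, hv, fun x => ?_⟩
  rw [he, LinearMap.sum_apply, map_sum, Finset.smul_sum]
  refine Fintype.sum_equiv (Equiv.mulLeft x) _ _ fun y => ?_
  rw [LinearMap.smul_apply, map_smul, LinearMap.smul_apply, smul_smul, Equiv.coe_mulLeft,
    ← Module.End.mul_apply, ← map_mul]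
  congr 1
  rw [map_mul, _root_.mul_inv_rev, Units.val_mul, mul_comm ((mu y)⁻¹ : ℂˣ).val, ← mul_assoc,
    Units.mul_inv, one_mul]

theorem linearIndependent_eigen {ι : Type*} (ρ : Representation ℂ O X) (mu : ι → O →* ℂˣ)
    (hmu : Function.Injective mu) (v : ι → X) (hv : ∀ i, v i ≠ 0)
    (hv' : ∀ i x, ρ x (v i) = (mu i x : ℂ) • v i) : LinearIndependent ℂ v := by
  classical
  rw [linearIndependent_iff']
  intro s c hc i hi
  obtain ⟨φ, hφ⟩ : ∃ φ : Module.Dual ℂ X, φ (v i) ≠ 0 := by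
    by_contra h1
    push Not at h1
    exact hv i ((Module.forall_dual_apply_eq_zero_iff ℂ (v i)).1 h1)
  have hinj : Function.Injective (fun j => (Units.coeHom ℂ).comp (mu j) : ι → (O →* ℂ)) := by
    intro a b hab
    apply hmu
    ext x
    exact DFunLike.congr_fun hab x
  have h1 := (linearIndependent_monoidHom O ℂ).comp _ hinj
  rw [linearIndependent_iff'] at h1
  have h2 := h1 s (fun j => c j * φ (v j)) (by
    funext x
    rw [Finset.sum_apply]
    have h3 : φ (ρ x (∑ j ∈ s, c j • v j)) = 0 := by rw [hc, map_zero, map_zero]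
    rw [map_sum, map_sum] at h3
    rw [Pi.zero_apply, ← h3]
    refine Finset.sum_congr rfl fun j _ => ?_
    rw [map_smul, hv', map_smul, map_smul, smul_eq_mul, smul_eq_mul]
    show (c j * φ (v j)) * (mu j x : ℂ) = _
    ring) i hi
  exact (mul_eq_zero.1 h2).resolve_right hφ

end Eigen

section Count

variable {G : Type u} [Group G] [Finite G] {X : Type*} [AddCommGroup X] [Module ℂ X]

/-- An eigenvector of an element of `Y` with eigenvalue different from `1` is moved by `Y`. -/
theorem mem_ker_proj (ρ : Representation ℂ G X) (Y : Subgroup G) {y : G} (hy : y ∈ Y) {c : ℂ}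
    (hc : c ≠ 1) {v : X} (hv : ρ y v = c • v) : v ∈ LinearMap.ker (proj ρ Y) := by
  classical
  have : Fintype Y := Fintype.ofFinite _
  have h1 : proj ρ Y (ρ y v) = proj ρ Y v := by
    rw [proj_apply, proj_apply]
    congr 1
    refine Fintype.sum_equiv (Equiv.mulRight (⟨y, hy⟩ : Y)) _ _ fun z => ?_
    rw [← Module.End.mul_apply, ← map_mul]
    rfl
  rw [hv, map_smul] at h1
  rw [LinearMap.mem_ker]
  have h2 : (c - 1) • proj ρ Y v = 0 := by rw [sub_smul, h1, one_smul, sub_self]
  exact (smul_eq_zero.1 h2).resolve_left (sub_ne_zero.2 hc)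

theorem finrank_ker_proj [FiniteDimensional ℂ X] (ρ : Representation ℂ G X) (Y : Subgroup G) :
    finrank ℂ (LinearMap.ker (proj ρ Y)) + finrank ℂ (fixed ρ Y) = finrank ℂ X := by
  have h1 := LinearMap.finrank_range_add_finrank_ker (proj ρ Y)
  rw [(proj_isProj ρ Y).range] at h1
  omega

theorem disjoint_ker_proj (ρ : Representation ℂ G X) (Y : Subgroup G) {v : X}
    (h1 : v ∈ fixed ρ Y) (h2 : v ∈ LinearMap.ker (proj ρ Y)) : v = 0 := by
  rw [← (proj_isProj ρ Y).map_id v h1]
  exact h2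

/-- The moved space of a conjugate. -/
theorem map_ker_proj (ρ : Representation ℂ G X) {Y Y' : Subgroup G} {h : G}
    (hY : ∀ y, y ∈ Y' ↔ h⁻¹ * y * h ∈ Y) {v : X} (hv : v ∈ LinearMap.ker (proj ρ Y)) :
    ρ h v ∈ LinearMap.ker (proj ρ Y') := by
  classical
  have : Fintype Y := Fintype.ofFinite _
  have : Fintype Y' := Fintype.ofFinite _
  rw [LinearMap.mem_ker, proj_apply] at hv ⊢
  have h1 : ∑ y : Y', ρ y (ρ h v) = ρ h (∑ y : Y, ρ y v) := by
    rw [map_sum]
    let e : Y' ≃ Y :=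
      { toFun := fun y => ⟨h⁻¹ * y * h, (hY y).1 y.2⟩
        invFun := fun y => ⟨h * y * h⁻¹, (hY _).2 (by
          have : h⁻¹ * (h * y * h⁻¹) * h = y := by group
          rw [this]
          exact y.2)⟩
        left_inv := fun y => Subtype.ext (by
          show h * (h⁻¹ * y * h) * h⁻¹ = y
          group)
        right_inv := fun y => Subtype.ext (by
          show h⁻¹ * (h * y * h⁻¹) * h = y
          group) }
    refine Fintype.sum_equiv e _ _ fun y => ?_
    rw [← Module.End.mul_apply, ← Module.End.mul_apply, ← map_mul, ← map_mul]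
    congr 2
    show (y : G) * h = h * (h⁻¹ * y * h)
    group
  have h2 : ∑ y : Y, ρ y v = 0 := by
    rcases smul_eq_zero.1 hv with h3 | h3
    · exact absurd h3 (inv_ne_zero (card_ne Y))
    · exact h3
  rw [h1, h2, map_zero, smul_zero]

/-- The dimension count. -/
theorem dim_count [FiniteDimensional ℂ X] (ρ : Representation ℂ G X) {N₁ N₂ N₃ : Subgroup G}
    {n' : ℕ} (hdim : finrank ℂ X ≤ finrank ℂ (fixed ρ N₂) + n') {h : G}
    (h12 : ∀ y, y ∈ N₂ ↔ h⁻¹ * y * h ∈ N₁) (h23 : ∀ y, y ∈ N₃ ↔ h⁻¹ * y * h ∈ N₂)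
    {ι : Type*} [Finite ι] (v : ι → X) (hli : LinearIndependent ℂ v) (A B : Set ι) (hBA : B ⊆ A)
    (hA : ∀ i ∈ A, v i ∈ LinearMap.ker (proj ρ N₂)) (hA1 : ∀ i ∈ A, v i ∈ fixed ρ N₁)
    (hB : ∀ i ∈ B, v i ∈ LinearMap.ker (proj ρ N₃)) : A.ncard + B.ncard ≤ n' := by
  classical
  set M1 := LinearMap.ker (proj ρ N₁) with hM1
  set M2 := LinearMap.ker (proj ρ N₂) with hM2
  set M3 := LinearMap.ker (proj ρ N₃) with hM3
  have hspan : ∀ S : Set ι, finrank ℂ (Submodule.span ℂ (v '' S)) = S.ncard := by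
    intro S
    have h1 : LinearIndependent ℂ (fun i : S => v i) := hli.comp _ Subtype.val_injective
    have : Fintype S := Fintype.ofFinite _
    have h2 := finrank_span_eq_card h1
    have h3 : Set.range (fun i : S => v i) = v '' S := by
      ext x
      simp
    rw [h3] at h2
    rw [h2, ← Nat.card_coe_set_eq, Nat.card_eq_fintype_card]
  -- `B` bounds the intersection of `M2` and `M3`
  have hb1 : B.ncard ≤ finrank ℂ (M2 ⊓ M3 : Submodule ℂ X) := by
    rw [← hspan B]
    refine Submodule.finrank_mono ?_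
    rw [Submodule.span_le]
    rintro _ ⟨i, hi, rfl⟩
    exact ⟨hA i (hBA hi), hB i hi⟩
  -- conjugation
  have hb2 : finrank ℂ (M2 ⊓ M3 : Submodule ℂ X) ≤ finrank ℂ (M1 ⊓ M2 : Submodule ℂ X) := by
    have hinv1 : ∀ y, y ∈ N₁ ↔ h⁻¹⁻¹ * y * h⁻¹ ∈ N₂ := by
      intro y
      rw [h12]
      have : h⁻¹ * (h⁻¹⁻¹ * y * h⁻¹) * h = y := by group
      rw [this]
    have hinv2 : ∀ y, y ∈ N₂ ↔ h⁻¹⁻¹ * y * h⁻¹ ∈ N₃ := by
      intro y
      rw [h23]
      have : h⁻¹ * (h⁻¹⁻¹ * y * h⁻¹) * h = y := by group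
      rw [this]
    have hinj : Function.Injective (ρ h⁻¹) := by
      intro a b hab
      have h1 : ρ h (ρ h⁻¹ a) = ρ h (ρ h⁻¹ b) := by rw [hab]
      rw [← Module.End.mul_apply, ← Module.End.mul_apply, ← map_mul, mul_inv_cancel, map_one] at h1
      exact h1
    have h1 : finrank ℂ ((M2 ⊓ M3 : Submodule ℂ X).map (ρ h⁻¹)) =
        finrank ℂ (M2 ⊓ M3 : Submodule ℂ X) :=
      (Submodule.equivMapOfInjective (ρ h⁻¹) hinj _).finrank_eq.symm
    rw [← h1]
    refine Submodule.finrank_mono ?_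
    rintro _ ⟨x, ⟨hx2, hx3⟩, rfl⟩
    exact ⟨map_ker_proj ρ hinv1 hx2, map_ker_proj ρ hinv2 hx3⟩
  -- `A` and `M1 ⊓ M2` are independent in `M2`
  have hb3 : A.ncard + finrank ℂ (M1 ⊓ M2 : Submodule ℂ X) ≤ finrank ℂ M2 := by
    have hJ1 : Submodule.span ℂ (v '' A) ≤ fixed ρ N₁ := by
      rw [Submodule.span_le]
      rintro _ ⟨i, hi, rfl⟩
      exact hA1 i hi
    have hJ2 : Submodule.span ℂ (v '' A) ≤ M2 := by
      rw [Submodule.span_le]
      rintro _ ⟨i, hi, rfl⟩
      exact hA i hi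
    have h1 := Submodule.finrank_sup_add_finrank_inf_eq (Submodule.span ℂ (v '' A)) (M1 ⊓ M2)
    have h2 : Submodule.span ℂ (v '' A) ⊓ (M1 ⊓ M2) = ⊥ := by
      rw [eq_bot_iff]
      rintro x ⟨hx1, hx2, hx3⟩
      exact disjoint_ker_proj ρ N₁ (hJ1 hx1) hx2
    rw [h2, finrank_bot, add_zero, hspan] at h1
    rw [← h1]
    exact Submodule.finrank_mono (sup_le hJ2 inf_le_right)
  have h4 := finrank_ker_proj ρ N₂
  rw [← hM2] at h4
  have h5 : finrank ℂ M2 ≤ n' := by omega
  omega

end Count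

end Cfsg.Agent.Classification.QDW.BetaRep
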