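import Mathlib
import Cfsg.Prelude.Def_Characters
import Cfsg.Prelude.Def_Local
import Cfsg.Agent.Classification.QDW.BetaP
import Cfsg.Agent.Classification.QDW.BetaRep
import Cfsg.Agent.Classification.QDW.AlphaBeta

/-!
# Case BETA: the package

`M` covers `C(t)/K t`, `M = O(M) (M ∩ C(t))`, and the image of `O(M) ∩ C(u)` in `C(u)/K u` is a
root group.
-/

set_option autoImplicit false
set_option linter.unusedSectionVars false

namespace Cfsg.Agent.Classification.QDW.BetaPkg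

open Subgroup Cfsg Module Cfsg.Agent.Characters
open Cfsg.Agent.Walter.SylowIn Cfsg.Agent.Walter.OddCoreIn Cfsg.Agent.Walter.Cover
open Cfsg.Agent.Classification.QDW.Theta Cfsg.Agent.Classification.QDW.AlphaBeta
open Cfsg.Agent.Classification.QDW.Beta
  Cfsg.Agent.Classification.QDW.BetaGam Cfsg.Agent.Classification.QDW.BetaE
  Cfsg.Agent.Classification.QDW.BetaX Cfsg.Agent.Classification.QDW.BetaZ
  Cfsg.Agent.Classification.QDW.BetaP Cfsg.Agent.Classification.QDW.BetaRep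
  Cfsg.Agent.OddOrderCharacters.NormalInduced Cfsg.Agent.OddOrderCharacters.IndRes
  Cfsg.Agent.OddOrderCharacters.PF9.CliffGen

universe u v

variable {G : Type u} [Group G] [Finite G] {Γ : Type v} [Group Γ]

/-- `K t ∩ M ≤ O(M)`. -/
theorem core_inf_le {t : G} {M : Subgroup G}
    (hf : ∀ x ∈ M, ∃ o ∈ OO M, ∃ n ∈ M ⊓ C t, x = o * n) : K t ⊓ M ≤ OO M := by
  have hn : K t ⊓ M ≤ normalizer (OO M : Set G) := inf_le_right.trans (le_normalizer_OO M)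
  have h1 : (K t ⊓ M) ⊔ OO M ≤ OO M := by
    refine le_OO (sup_le inf_le_right (OO_le M)) ?_
      (not_dvd_sup Nat.prime_two hn (not_dvd_of_le inf_le_left (core_odd t)) (OO_odd M))
    rw [le_normalizer_iff']
    intro x hx z hz
    obtain ⟨o, ho, n, hnN, rfl⟩ := hf x hx
    obtain ⟨m, hm, y, hy, rfl⟩ := (mem_sup_iff_mul hn).1 hz
    have e1 : n * (m * y) * n⁻¹ = (n * m * n⁻¹) * (n * y * n⁻¹) := by group
    have h2 : n * (m * y) * n⁻¹ ∈ (K t ⊓ M) ⊔ OO M := by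
      rw [e1]
      refine mul_mem (mem_sup_left (mem_inf.2 ⟨conj_mem (C_le_normalizer_core t) hnN.2 hm.1,
        mul_mem (mul_mem hnN.1 hm.2) (inv_mem hnN.1)⟩))
        (mem_sup_right (conj_mem (le_normalizer_OO M) hnN.1 hy))
    have e2 : o * n * (m * y) * (o * n)⁻¹ = o * (n * (m * y) * n⁻¹) * o⁻¹ := by group
    rw [e2]
    exact mul_mem (mul_mem (mem_sup_right ho) h2) (inv_mem (mem_sup_right ho))
  exact le_sup_left.trans h1

theorem mem_OO_iff {M : Subgroup G} (x : M) : (x : G) ∈ OO M ↔ x ∈ pPrimeCore 2 M := by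
  constructor
  · rintro ⟨y, hy, he⟩
    rwa [Subtype.ext he] at hy
  · intro h
    exact ⟨x, h, rfl⟩

/-- The homomorphism `M → C(t)/K t`. -/
theorem exists_hom {t : G} {M : Subgroup G} (hc : Cov t M)
    (hf : ∀ x ∈ M, ∃ o ∈ OO M, ∃ n ∈ M ⊓ C t, x = o * n) (πt : C t →* Γ)
    (hs : Function.Surjective πt) (hk : ∀ x : C t, πt x = 1 ↔ (x : G) ∈ K t) :
    ∃ π : M →* Γ, Function.Surjective π ∧ (∀ x : M, π x = 1 ↔ (x : G) ∈ OO M) ∧
      ∀ (x : G) (hxM : x ∈ M) (hxC : x ∈ C t), π ⟨x, hxM⟩ = πt ⟨x, hxC⟩ := by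
  have hnor : (pPrimeCore 2 M).Normal := Lib.Cores.pPrimeCore_normal 2
  let α : (M ⊓ C t : Subgroup G) →* (M ⧸ pPrimeCore 2 M) :=
    (QuotientGroup.mk' (pPrimeCore 2 M)).comp (Subgroup.inclusion inf_le_left)
  let β : (M ⊓ C t : Subgroup G) →* Γ := πt.comp (Subgroup.inclusion inf_le_right)
  have hα : Function.Surjective α := by
    intro y
    obtain ⟨⟨x, hx⟩, rfl⟩ := QuotientGroup.mk_surjective y
    obtain ⟨o, ho, n, hn, rfl⟩ := hf x hx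
    refine ⟨⟨n, hn⟩, ?_⟩
    show QuotientGroup.mk (⟨n, hn.1⟩ : M) = QuotientGroup.mk (⟨o * n, hx⟩ : M)
    rw [QuotientGroup.eq, ← mem_OO_iff]
    show n⁻¹ * (o * n) ∈ OO M
    have h1 := conj_mem (le_normalizer_OO M) (inv_mem hn.1) ho
    have h2 : n⁻¹ * o * n⁻¹⁻¹ = n⁻¹ * (o * n) := by group
    rwa [h2] at h1
  have hker : α.ker ≤ β.ker := by
    intro x hx
    have h1 : (x : G) ∈ OO M := by
      rw [MonoidHom.mem_ker] at hx
      have h2 : (QuotientGroup.mk (⟨x, x.2.1⟩ : M) : M ⧸ pPrimeCore 2 M) = 1 := hx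
      rw [QuotientGroup.eq_one_iff, ← mem_OO_iff] at h2
      exact h2
    rw [MonoidHom.mem_ker]
    exact (hk ⟨x, x.2.2⟩).2 (hc.OO_inf_le (mem_inf.2 ⟨h1, x.2.2⟩))
  let L := MonoidHom.liftOfSurjective α hα ⟨β, hker⟩
  have hL : ∀ x, L (α x) = β x := fun x => MonoidHom.liftOfRightInverse_comp_apply _ _ _ _ x
  let π : M →* Γ := L.comp (QuotientGroup.mk' (pPrimeCore 2 M))
  have hπ : ∀ (x : G) (hxM : x ∈ M) (hxC : x ∈ C t), π ⟨x, hxM⟩ = πt ⟨x, hxC⟩ :=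
    fun x hxM hxC => hL ⟨x, hxM, hxC⟩
  have hO : ∀ x : M, (x : G) ∈ OO M → π x = 1 := by
    intro x hx
    have h1 : QuotientGroup.mk' (pPrimeCore 2 M) x = 1 :=
      (QuotientGroup.eq_one_iff x).2 ((mem_OO_iff x).1 hx)
    show L (QuotientGroup.mk' (pPrimeCore 2 M) x) = 1
    rw [h1, map_one]
  refine ⟨π, ?_, ?_, hπ⟩
  · intro γ
    obtain ⟨⟨c, hcC⟩, rfl⟩ := hs γ
    obtain ⟨x, hx, h, hh, rfl⟩ := hc.2 c hcC
    refine ⟨⟨h, hh.1⟩, ?_⟩
    rw [hπ h hh.1 hh.2]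
    have h1 : (⟨x * h, hcC⟩ : C t) = ⟨x, core_le_C t hx⟩ * ⟨h, hh.2⟩ := rfl
    rw [h1, map_mul, (hk ⟨x, core_le_C t hx⟩).2 hx, one_mul]
  · intro x
    refine ⟨fun h1 => ?_, hO x⟩
    obtain ⟨o, ho, n, hn, he⟩ := hf x x.2
    have h2 : x = ⟨o, OO_le M ho⟩ * ⟨n, hn.1⟩ := Subtype.ext he
    rw [h2, map_mul, hO ⟨o, OO_le M ho⟩ ho, one_mul, hπ n hn.1 hn.2, hk] at h1
    rw [he]
    exact mul_mem ho (core_inf_le hf (mem_inf.2 ⟨h1, hn.1⟩))

section Main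

variable {X : Type*} [AddCommGroup X] [Module ℂ X]

/-- The hypotheses of case BETA. -/
structure BHyp (ρ : Representation ℂ G X) (t u : G) (M : Subgroup G) (πt : C t →* Γ)
    (p q n' c : ℕ) (ω : Γ) (I P I' P' : Subgroup Γ) : Prop where
  four : Four t u
  mem : u ∈ M
  cov : Cov t M
  factor : ∀ x ∈ M, ∃ o ∈ OO M, ∃ n ∈ M ⊓ C t, x = o * n
  bal : K t ⊓ C u ≤ K u
  bal' : K u ⊓ C t ≤ K t
  swap : ∃ g, g * t * g⁻¹ = u ∧ g * u * g⁻¹ = t
  surj : Function.Surjective πt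
  ker : ∀ x : C t, πt x = 1 ↔ (x : G) ∈ K t
  gam : ∀ (ht : t ∈ C t) (hu : u ∈ C t), Gam q (πt ⟨t, ht⟩) (πt ⟨u, hu⟩) ω I P
  gam' : ∀ (ht : t ∈ C t) (hu : u ∈ C t), Gam q (πt ⟨t, ht⟩) (πt ⟨u, hu⟩) ω I' P'
  dich : ∀ hu : u ∈ C t, Dich q (πt ⟨u, hu⟩) I I'
  root_card : Nat.card (OO M ⊓ C u : Subgroup G) = q * Nat.card (OO M ⊓ K u : Subgroup G)
  root_trans : ∀ x ∈ EE u M, ∀ y ∈ EE u M, x ∉ K u → y ∉ K u →
    ∃ g ∈ C t ⊓ C u, g * x * g⁻¹ * y⁻¹ ∈ K u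
  root_stab : ∀ g ∈ C t ⊓ C u, ∀ x ∈ EE u M, x ∉ K u → g * x * g⁻¹ * x⁻¹ ∈ K u →
    g ∈ K u ∨ u⁻¹ * g ∈ K u
  val : ∃ b : ℂ, ∀ x ∈ EE u M, (x ∈ K u → ρ.character (u * x) = b + q) ∧
    (x ∉ K u → ρ.character (u * x) = b)
  trace : ∀ y ∈ K t, ρ.character (t * y) = c
  dim : finrank ℂ X = (q ^ 2 - 1) + c + n'
  lt : n' < q ^ 2 - 1
  lb : ∀ Y : Subgroup G, Small t u Y → Cov t (normalizer (Y : Set G)) →
    finrank ℂ X ≤ finrank ℂ (fixed ρ Y) + n'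
  prime : p.Prime
  pow : ∃ a, q = p ^ a

/-- `K u ∩ O(M)` as a subgroup of `M`. -/
def NN (u : G) (M : Subgroup G) : Subgroup M := (OO M ⊓ K u).subgroupOf M

theorem mem_NN {u : G} {M : Subgroup G} {x : M} : x ∈ NN u M ↔ (x : G) ∈ OO M ∧ (x : G) ∈ K u :=
  Iff.rfl

theorem odd_of_not_dvd {n : ℕ} (h : ¬ 2 ∣ n) : Odd n := by
  rcases Nat.even_or_odd n with h1 | h1
  · exact absurd h1.two_dvd h
  · exact h1

namespace BHyp

variable {ρ : Representation ℂ G X} {t u : G} {M : Subgroup G} {πt : C t →* Γ}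
  {p q n' c : ℕ} {ω : Γ} {I P I' P' : Subgroup Γ}

theorem t_mem (h : BHyp ρ t u M πt p q n' c ω I P I' P') : t ∈ M := h.cov.1

theorem u_mem_C (h : BHyp ρ t u M πt p q n' c ω I P I' P') : u ∈ C t := mem_C.2 h.four.comm.symm

theorem t_mem_C (h : BHyp ρ t u M πt p q n' c ω I P I' P') : t ∈ C u := mem_C.2 h.four.comm

section WithPi

variable {π : M →* Γ}

/-- The properties of `π : M →* Γ`. -/
structure PiHyp (t : G) (M : Subgroup G) (πt : C t →* Γ) (π : M →* Γ) : Prop where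
  surj : Function.Surjective π
  ker : ∀ x : M, π x = 1 ↔ (x : G) ∈ OO M
  eq : ∀ (x : G) (hxM : x ∈ M) (hxC : x ∈ C t), π ⟨x, hxM⟩ = πt ⟨x, hxC⟩

theorem card_ker (hπ : PiHyp t M πt π) : Nat.card π.ker = Nat.card (OO M) := by
  have h1 : π.ker = (OO M).subgroupOf M := by
    ext x
    rw [MonoidHom.mem_ker, hπ.ker, mem_subgroupOf]
  rw [h1]
  exact Nat.card_congr (Subgroup.subgroupOfEquivOfLe (OO_le M)).toEquiv

theorem mem_Cu_iff (hπ : PiHyp t M πt π) {a x : M} :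
    x ∈ Cu π.ker a ↔ (x : G) ∈ OO M ∧ (x : G) ∈ C (a : G) := by
  rw [mem_Cu, MonoidHom.mem_ker, hπ.ker]
  refine and_congr_right fun _ => ?_
  rw [mem_C]
  constructor
  · intro h1
    exact congrArg Subtype.val h1.eq.symm
  · intro h1
    exact Subtype.ext h1.symm

theorem hyp (h : BHyp ρ t u M πt p q n' c ω I P I' P') (hπ : PiHyp t M πt π) :
    Hyp π (NN u M) ⟨t, h.t_mem⟩ ⟨u, h.mem⟩ q := by
  have hEE : ∀ x ∈ Cu π.ker (⟨u, h.mem⟩ : M), (x : G) ∈ EE u M := by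
    intro x hx
    exact mem_sup_left (mem_inf.2 ((mem_Cu_iff hπ).1 hx))
  have hNK : ∀ x ∈ Cu π.ker (⟨u, h.mem⟩ : M), x ∈ NN u M ↔ (x : G) ∈ K u := by
    intro x hx
    rw [mem_NN]
    exact ⟨fun h1 => h1.2, fun h1 => ⟨((mem_Cu_iff hπ).1 hx).1, h1⟩⟩
  -- inversion modulo `K u`
  have hinvK : ∀ y ∈ EE u M, t * y * t⁻¹ * y ∈ K u := by
    intro y hy
    have h1 := inv_EE h.four h.cov h.bal hy
    have hyC : y ∈ C u := EE_le_C hy
    have h2 := conj_mem (C_le_normalizer_core u) (inv_mem hyC) h1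
    have h3 : y⁻¹ * (y * (t * y * t⁻¹)) * y⁻¹⁻¹ = t * y * t⁻¹ * y := by group
    rwa [h3] at h2
  have hcommC : ∀ g : M, Commute (⟨u, h.mem⟩ : M) g ↔ (g : G) ∈ C u := by
    intro g
    rw [mem_C]
    constructor
    · intro h1
      exact congrArg Subtype.val h1.eq.symm
    · intro h1
      exact Subtype.ext h1.symm
  have hcommT : ∀ g : M, Commute (⟨t, h.t_mem⟩ : M) g ↔ (g : G) ∈ C t := by
    intro g
    rw [mem_C]
    constructor
    · intro h1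
      exact congrArg Subtype.val h1.eq.symm
    · intro h1
      exact Subtype.ext h1.symm
  have hpt : π ⟨t, h.t_mem⟩ = πt ⟨t, self_mem_C t⟩ := hπ.eq t h.t_mem (self_mem_C t)
  have hpu : π ⟨u, h.mem⟩ = πt ⟨u, h.u_mem_C⟩ := hπ.eq u h.mem h.u_mem_C
  have hodd : Odd (Nat.card π.ker) := by
    rw [card_ker hπ]
    exact odd_of_not_dvd (OO_odd M)
  have ht2 : (⟨t, h.t_mem⟩ : M) * ⟨t, h.t_mem⟩ = 1 := Subtype.ext h.four.tt
  have hu2 : (⟨u, h.mem⟩ : M) * ⟨u, h.mem⟩ = 1 := Subtype.ext h.four.uu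
  have hcentral : ∀ x, Commute (π ⟨t, h.t_mem⟩) x := by
    intro x
    rw [hpt]
    exact (h.gam (self_mem_C t) h.u_mem_C).central x
  exact
  { surj := hπ.surj
    odd := hodd
    t_sq := ht2
    t_ne := fun h1 => h.four.t1 (congrArg Subtype.val h1)
    u_sq := hu2
    u_ne := fun h1 => h.four.u1 (congrArg Subtype.val h1)
    comm := Subtype.ext h.four.comm
    central := hcentral
    N_le := by
      intro x hx
      exact (mem_Cu_iff hπ).2 ⟨hx.1, core_le_C u hx.2⟩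
    N_conj := by
      intro g hg x hx
      rw [hcommC] at hg
      exact ⟨conj_mem (le_normalizer_OO M) g.2 hx.1, conj_mem (C_le_normalizer_core u) hg hx.2⟩
    card := by
      have h1 : Cu π.ker (⟨u, h.mem⟩ : M) = (OO M ⊓ C u).subgroupOf M := by
        ext x
        exact mem_Cu_iff hπ
      rw [h1, Nat.card_congr (Subgroup.subgroupOfEquivOfLe (inf_le_left.trans (OO_le M))).toEquiv,
        h.root_card, NN,
        Nat.card_congr (Subgroup.subgroupOfEquivOfLe (inf_le_left.trans (OO_le M))).toEquiv]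
    inv := by
      intro x hx
      refine ⟨?_, hinvK x (hEE x hx)⟩
      have h1 := ((mem_Cu_iff hπ).1 hx).1
      exact mul_mem (conj_mem (le_normalizer_OO M) h.t_mem h1) h1
    stab := by
      intro g hg x hx hxN hgx
      -- replace `g` by an element of `C t`
      obtain ⟨g', hg'π, hg't, hg'u⟩ := exists_lift π hπ.surj hodd ht2 hu2 hu2
        (Subtype.ext h.four.comm) (Subtype.ext h.four.comm) (γ := π g) (hcentral _)
        (by rw [← (hg.map π).eq, mul_inv_cancel_right])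
      have hg'u' : Commute (⟨u, h.mem⟩ : M) g' := by
        have h1 : g' * ⟨u, h.mem⟩ = ⟨u, h.mem⟩ * g' := mul_inv_eq_iff_eq_mul.1 hg'u
        exact h1.symm
      -- `g = g' e`
      have he : g'⁻¹ * g ∈ Cu π.ker (⟨u, h.mem⟩ : M) := by
        refine mem_Cu.2 ⟨?_, hg'u'.inv_right.mul_right hg⟩
        rw [MonoidHom.mem_ker, map_mul, map_inv, hg'π, inv_mul_cancel]
      have hxK : (x : G) ∉ K u := fun h1 => hxN ((hNK x hx).2 h1)
      have hgC : (g : G) ∈ C u := (hcommC g).1 hg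
      have hg'C : (g' : G) ∈ C u := (hcommC g').1 hg'u'
      have hg'T : (g' : G) ∈ C t := (hcommT g').1 hg't
      have hxE := hEE x hx
      have hxC : (x : G) ∈ C u := EE_le_C hxE
      -- `e x e⁻¹ ≡ x`
      have hcomm : ∀ a ∈ EE u M, ∀ b ∈ EE u M, a * b * a⁻¹ * b⁻¹ ∈ K u := by
        intro a ha b hb
        have hn : ∀ y ∈ EE u M, ∀ k ∈ K u, y * k * y⁻¹ ∈ K u := fun y hy k hk =>
          conj_mem (C_le_normalizer_core u) (EE_le_C hy) hk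
        have h1 := hinvK (a⁻¹ * b⁻¹) (mul_mem (inv_mem ha) (inv_mem hb))
        have h2 := hinvK a⁻¹ (inv_mem ha)
        have h3 := hinvK b⁻¹ (inv_mem hb)
        -- `t a⁻¹ t⁻¹ = k₁ a`, `t b⁻¹ t⁻¹ = k₂ b`
        have h4 : t * (a⁻¹ * b⁻¹) * t⁻¹ * (a⁻¹ * b⁻¹) =
            (t * a⁻¹ * t⁻¹ * a⁻¹) * (a * (t * b⁻¹ * t⁻¹ * b⁻¹) * a⁻¹) *
              (a * b * a⁻¹ * b⁻¹) := by group
        rw [h4] at h1
        exact ((K u).mul_mem_cancel_left (mul_mem h2 (hn a ha _ h3))).1 h1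
      have h1 : (g' : G) * x * (g' : G)⁻¹ * (x : G)⁻¹ ∈ K u := by
        have h2 : (g : G) * x * (g : G)⁻¹ * (x : G)⁻¹ ∈ K u := hgx.2
        have h3 := hcomm _ (hEE _ he) _ hxE
        -- `g x g⁻¹ = g' (e x e⁻¹) g'⁻¹ = g' ([e,x] x) g'⁻¹`
        have h4 : (g : G) * x * (g : G)⁻¹ * (x : G)⁻¹ =
            ((g' : G) * (((g'⁻¹ * g : M) : G) * x * ((g'⁻¹ * g : M) : G)⁻¹ * (x : G)⁻¹) *
              (g' : G)⁻¹) * ((g' : G) * x * (g' : G)⁻¹ * (x : G)⁻¹) := by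
          rw [Subgroup.coe_mul, Subgroup.coe_inv]
          group
        rw [h4] at h2
        exact ((K u).mul_mem_cancel_left (conj_mem (C_le_normalizer_core u) hg'C h3)).1 h2
      rcases h.root_stab g' (mem_inf.2 ⟨hg'T, hg'C⟩) x hxE hxK h1 with h2 | h2
      · left
        rw [← hg'π, hπ.ker]
        exact core_inf_le h.factor (mem_inf.2 ⟨h.bal' (mem_inf.2 ⟨h2, hg'T⟩), g'.2⟩)
      · right
        have h3 : u⁻¹ * (g' : G) ∈ C t := mul_mem (inv_mem h.u_mem_C) hg'T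
        have h4 : π (⟨u, h.mem⟩⁻¹ * g') = 1 := by
          rw [hπ.ker]
          exact core_inf_le h.factor (mem_inf.2 ⟨h.bal' (mem_inf.2 ⟨h2, h3⟩),
            M.mul_mem (M.inv_mem h.mem) g'.2⟩)
        rw [map_mul, map_inv] at h4
        rw [← hg'π]
        exact (inv_mul_eq_one.1 h4).symm
    trans := by
      intro x hx y hy hxN hyN
      have hxK : (x : G) ∉ K u := fun h1 => hxN ((hNK x hx).2 h1)
      have hyK : (y : G) ∉ K u := fun h1 => hyN ((hNK y hy).2 h1)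
      obtain ⟨g, hg, hgK⟩ := h.root_trans x (hEE x hx) y (hEE y hy) hxK hyK
      obtain ⟨x', hx', m, ⟨hmM, hmt, hmu⟩, rfl⟩ := exists_factor_four h.four h.mem h.cov hg.1 hg.2
      refine ⟨⟨m, hmM⟩, (hcommC _).2 hmu, ?_⟩
      have hx1 := ((mem_Cu_iff hπ).1 hx).1
      have hy1 := ((mem_Cu_iff hπ).1 hy).1
      refine mem_NN.2 ⟨(OO M).mul_mem (conj_mem (le_normalizer_OO M) hmM hx1)
        ((OO M).inv_mem hy1), ?_⟩
      show m * x * m⁻¹ * (y : G)⁻¹ ∈ K u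
      have hx'K : x' ∈ K u := h.bal hx'
      have h1 : x' * m * x * (x' * m)⁻¹ * (y : G)⁻¹ =
          x' * ((m * x * m⁻¹) * x'⁻¹ * (m * x * m⁻¹)⁻¹) * (m * x * m⁻¹ * (y : G)⁻¹) := by group
      rw [h1] at hgK
      have h2 : x' * ((m * x * m⁻¹) * x'⁻¹ * (m * x * m⁻¹)⁻¹) ∈ K u := by
        refine mul_mem hx'K (conj_mem (C_le_normalizer_core u) ?_ (inv_mem hx'K))
        exact mul_mem (mul_mem hmu (EE_le_C (hEE x hx))) (inv_mem hmu)
      exact ((K u).mul_mem_cancel_left h2).1 hgK }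

variable [FiniteDimensional ℂ X]

theorem hypX (h : BHyp ρ t u M πt p q n' c ω I P I' P') (hπ : PiHyp t M πt π) :
    HypX π (NN u M) ⟨t, h.t_mem⟩ ⟨u, h.mem⟩ q (fun x : M => ρ.character x) (finrank ℂ X) c where
  char := Core.isCharacter_of_rep (ρ.comp M.subtype)
  val_u := by
    obtain ⟨b, hb⟩ := h.val
    refine ⟨b, ?_, ?_⟩
    · intro x hx
      exact (hb x (K_le_EE hx.2)).1 hx.2
    · intro x hx hxN
      have h1 := (mem_Cu_iff hπ).1 hx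
      refine (hb x (mem_sup_left (mem_inf.2 h1))).2 fun h2 => hxN ⟨h1.1, h2⟩
  val_t := by
    intro x hx
    have h1 := (mem_Cu_iff hπ).1 hx
    exact h.trace x (h.cov.OO_inf_le (mem_inf.2 h1))
  one := by
    show ρ.character ((1 : M) : G) = _
    rw [Subgroup.coe_one, Representation.char_one]
  lt := by
    rw [h.dim]
    have := h.lt
    omega

/-- The data on `Z`. -/
theorem exists_zdata (h : BHyp ρ t u M πt p q n' c ω I P I' P') (hπ : PiHyp t M πt π) :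
    ∃ (w : M) (I₀ P₀ : Subgroup Γ), ZData π (NN u M) ⟨t, h.t_mem⟩ ⟨u, h.mem⟩ w q I₀ P₀ := by
  classical
  let _ : Fintype π.ker := Fintype.ofFinite _
  have hyp := h.hyp hπ
  have hX := h.hypX hπ
  have hpt : π ⟨t, h.t_mem⟩ = πt ⟨t, self_mem_C t⟩ := hπ.eq t h.t_mem (self_mem_C t)
  have hpu : π ⟨u, h.mem⟩ = πt ⟨u, h.u_mem_C⟩ := hπ.eq u h.mem h.u_mem_C
  have hg := h.gam (self_mem_C t) h.u_mem_C
  have hg' := h.gam' (self_mem_C t) h.u_mem_C
  have hd := h.dich h.u_mem_C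
  rw [← hpt, ← hpu] at hg hg'
  rw [← hpu] at hd
  have htu2 : (⟨t, h.t_mem⟩ * ⟨u, h.mem⟩ : M) * (⟨t, h.t_mem⟩ * ⟨u, h.mem⟩) = 1 :=
    Subtype.ext h.four.tutu
  obtain ⟨w, hwω, hwt, hwu⟩ := exists_lift π hπ.surj hyp.odd hyp.t_sq hyp.u_sq htu2 hyp.comm
    ((Commute.refl _).mul_right hyp.comm) (γ := ω) (hg.central ω)
    (by rw [hg.swap, map_mul])
  have hgw : Gam q (π ⟨t, h.t_mem⟩) (π ⟨u, h.mem⟩) (π w) I P := by rw [hwω]; exact hg
  have hgw' : Gam q (π ⟨t, h.t_mem⟩) (π ⟨u, h.mem⟩) (π w) I' P' := by rw [hwω]; exact hg'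
  have hcard := card_Z hyp hX hd
  by_cases hex : ∃ lam ∈ Z π (NN u M) ⟨u, h.mem⟩, lam ≠ 1
  · obtain ⟨lam, hl, hl1⟩ := hex
    obtain ⟨-, -, h1 | h1⟩ := theta_of_mem hyp hX hd hl hl1
    · exact ⟨w, I, P, hyp, hgw, hwt, hwu, hcard, fun mu hm hm1 =>
        inertia_eq hyp hgw.cent_norm hl hl1 hm hm1 h1⟩
    · exact ⟨w, I', P', hyp, hgw', hwt, hwu, hcard, fun mu hm hm1 =>
        inertia_eq hyp hgw'.cent_norm hl hl1 hm hm1 h1⟩
  · refine ⟨w, I, P, hyp, hgw, hwt, hwu, hcard, fun mu hm hm1 => ?_⟩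
    exact absurd ⟨mu, hm, hm1⟩ hex

/-- The normal subgroup of the package. -/
def PN (π : M →* Γ) (u : M) : Subgroup G := (ZData.NM π (NN (u : G) M) u).map M.subtype

theorem mem_PN {u' : M} {x : M} : (x : G) ∈ PN π u' ↔ x ∈ ZData.NM π (NN (u' : G) M) u' := by
  constructor
  · rintro ⟨y, hy, he⟩
    rwa [Subtype.ext he] at hy
  · intro h
    exact ⟨x, h, rfl⟩

theorem PN_le (hπ : PiHyp t M πt π) {u' : M} : PN π u' ≤ OO M := by
  rintro _ ⟨y, ⟨hy, -⟩, rfl⟩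
  exact (hπ.ker y).1 hy

theorem le_norm_PN {u' : M} : M ≤ normalizer (PN π u' : Set G) := by
  rw [le_normalizer_iff']
  rintro a ha _ ⟨y, hy, rfl⟩
  exact ⟨⟨a, ha⟩ * y * ⟨a, ha⟩⁻¹, (ZData.NM_normal π (NN (u' : G) M) u').conj_mem y hy ⟨a, ha⟩, rfl⟩

/-- An element of `PN` commuting with `u` lies in `K u`. -/
theorem PN_inf_C (h : BHyp ρ t u M πt p q n' c ω I P I' P') (hπ : PiHyp t M πt π) :
    PN π (⟨u, h.mem⟩ : M) ⊓ C u ≤ K u := by
  rintro x ⟨hx1, hx2⟩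
  obtain ⟨y, ⟨hy, hy'⟩, rfl⟩ := hx1
  have hyp := h.hyp hπ
  have hd := h.dich h.u_mem_C
  rw [← hπ.eq u h.mem h.u_mem_C] at hd
  have hyC : y ∈ Cu π.ker (⟨u, h.mem⟩ : M) := (mem_Cu_iff hπ).2 ⟨(hπ.ker y).1 hy, hx2⟩
  have h1 := mem_N_of_Z hyp (h.hypX hπ) hd hyC (fun lam hl => by
    have h2 := hy' lam hl 1
    rw [cj_one] at h2
    exact h2)
  exact h1.2

theorem conj_C {w x y : G} (hw : w * x * w⁻¹ = y) {g : G} (hg : g ∈ C y) : w⁻¹ * g * w ∈ C x := by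
  subst hw
  have h2 := mem_C.1 hg
  refine mem_C.2 ?_
  calc w⁻¹ * g * w * x = w⁻¹ * (g * (w * x * w⁻¹)) * w := by group
    _ = w⁻¹ * ((w * x * w⁻¹) * g) * w := by rw [h2]
    _ = _ := by group

theorem PN_small (h : BHyp ρ t u M πt p q n' c ω I P I' P') (hπ : PiHyp t M πt π) :
    Small t u (PN π (⟨u, h.mem⟩ : M)) where
  odd := not_dvd_of_le (PN_le hπ) (OO_odd M)
  norm_t := le_norm_PN h.t_mem
  norm_u := le_norm_PN h.mem
  le := by
    obtain ⟨w, I₀, P₀, d⟩ := h.exists_zdata hπ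
    rintro x (rfl | rfl | rfl)
    · exact (inf_le_inf_right _ (PN_le hπ)).trans h.cov.OO_inf_le
    · exact h.PN_inf_C hπ
    · rintro y ⟨hy1, hy2⟩
      have hw : (w : G) * u * (w : G)⁻¹ = t * u := congrArg Subtype.val d.w_u
      have h1 : (w : G)⁻¹ * y * w ∈ PN π (⟨u, h.mem⟩ : M) := by
        have := conj_mem (le_norm_PN (π := π) (u' := ⟨u, h.mem⟩)) (M.inv_mem w.2) hy1
        rwa [inv_inv] at this
      have h2 := h.PN_inf_C hπ (mem_inf.2 ⟨h1, conj_C hw hy2⟩)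
      have h3 := conj_K hw h2
      have h4 : (w : G) * ((w : G)⁻¹ * y * w) * (w : G)⁻¹ = y := by group
      rwa [h4] at h3

theorem PN_gen (h : BHyp ρ t u M πt p q n' c ω I P I' P') (hπ : PiHyp t M πt π) {E : Subgroup G}
    (hE : E ≤ OO M) (hn : M ≤ normalizer (E : Set G)) (hg : Gen3 t u E) :
    E ≤ PN π (⟨u, h.mem⟩ : M) := by
  have hyp := h.hyp hπ
  -- every element of `Z` kills `E`
  have key : ∀ lam ∈ Z π (NN u M) (⟨u, h.mem⟩ : M), ∀ (x : M) (hx : x ∈ π.ker), (x : G) ∈ E →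
      lam ⟨x, hx⟩ = 1 := by
    intro lam hl x hx hxE
    let S : Subgroup G := (lam.ker.map π.ker.subtype).map M.subtype
    have hS : ∀ y ∈ OO M, ∀ hyM : y ∈ M, ∀ hy' : (⟨y, hyM⟩ : M) ∈ π.ker,
        lam ⟨⟨y, hyM⟩, hy'⟩ = 1 → y ∈ S := by
      intro y _ hyM hy' h1
      exact ⟨⟨y, hyM⟩, ⟨⟨⟨y, hyM⟩, hy'⟩, h1, rfl⟩, rfl⟩
    have hEM : ∀ y ∈ E, ∃ hyM : y ∈ M, (⟨y, hyM⟩ : M) ∈ π.ker := fun y hy =>
      ⟨OO_le M (hE hy), (hπ.ker _).2 (hE hy)⟩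
    have h1 : (E ⊓ K t) ⊔ (E ⊓ K u) ⊔ (E ⊓ K (t * u)) ≤ S := by
      refine sup_le (sup_le ?_ ?_) ?_
      · rintro y ⟨hyE, hyK⟩
        obtain ⟨hyM, hy'⟩ := hEM y hyE
        refine hS y (hE hyE) hyM hy' (apply_of_commute_t hyp hl ?_)
        exact Subtype.ext (mem_C.1 (core_le_C t hyK)).symm
      · rintro y ⟨hyE, hyK⟩
        obtain ⟨hyM, hy'⟩ := hEM y hyE
        exact hS y (hE hyE) hyM hy' ((mem_Z.1 hl).2 ⟨⟨y, hyM⟩, hy'⟩ (mem_NN.2 ⟨hE hyE, hyK⟩))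
      · rintro y ⟨hyE, hyK⟩
        obtain ⟨hyM, hy'⟩ := hEM y hyE
        refine hS y (hE hyE) hyM hy' (apply_of_commute_tu hyp hl ?_)
        exact Subtype.ext (mem_C.1 (core_le_C (t * u) hyK)).symm
    obtain ⟨_, ⟨z, hz, rfl⟩, he⟩ := h1 (hg hxE)
    have h2 : z = ⟨x, hx⟩ := Subtype.ext (Subtype.ext he)
    rw [← h2]
    exact hz
  intro x hx
  refine ⟨⟨x, OO_le M (hE hx)⟩, ⟨(hπ.ker _).2 (hE hx), fun lam hl g => ?_⟩, rfl⟩
  rw [cj_apply]
  exact key lam hl _ _ (conj_mem hn g.2 hx)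

theorem PN_quot (h : BHyp ρ t u M πt p q n' c ω I P I' P') (hπ : PiHyp t M πt π) {r : ℕ}
    (hr : r.Prime) (hrp : r ≠ p) {R : Subgroup G} (hR : R ≤ OO M) (hRr : IsPGroup r R) :
    R ≤ PN π (⟨u, h.mem⟩ : M) := by
  obtain ⟨w, I₀, P₀, d⟩ := h.exists_zdata hπ
  obtain ⟨a, ha⟩ := h.pow
  intro x hx
  obtain ⟨k, hk⟩ := hRr ⟨x, hx⟩
  have hxr : x ^ r ^ k = 1 := congrArg Subtype.val hk
  refine ⟨⟨x, OO_le M (hR hx)⟩, ⟨(hπ.ker _).2 (hR hx), fun lam hl g => ?_⟩, rfl⟩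
  set y : π.ker := ⟨⟨x, OO_le M (hR hx)⟩, (hπ.ker _).2 (hR hx)⟩ with hy
  have h1 : cj g lam y ^ r ^ k = 1 := by
    rw [← map_pow]
    have h2 : y ^ r ^ k = 1 := Subtype.ext (Subtype.ext hxr)
    rw [h2, map_one]
  have h2 : cj g lam y ^ q = 1 := by
    have h3 : lam ^ q = 1 := by
      have h4 := pow_card_eq_one' (x := (⟨lam, hl⟩ : Z π (NN u M) (⟨u, h.mem⟩ : M)))
      rw [d.card] at h4
      exact congrArg Subtype.val h4
    have h5 : cj g lam y = lam ⟨(g : M) * y * (g : M)⁻¹, π.normal_ker.conj_mem _ y.2 g⟩ := rfl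
    rw [h5, ← MonoidHom.pow_apply, h3, MonoidHom.one_apply]
  have hcop : Nat.Coprime (r ^ k) q := by
    rw [ha]
    exact Nat.Coprime.pow _ _ ((Nat.coprime_primes hr h.prime).2 hrp)
  have h3 : orderOf (cj g lam y) ∣ Nat.gcd (r ^ k) q :=
    Nat.dvd_gcd (orderOf_dvd_of_pow_eq_one h1) (orderOf_dvd_of_pow_eq_one h2)
  rw [hcop, Nat.dvd_one, orderOf_eq_one_iff] at h3
  exact h3

/-- The claim for `u`. -/
theorem PN_claim_u (h : BHyp ρ t u M πt p q n' c ω I P I' P') (hπ : PiHyp t M πt π)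
    (hCM : C t ≤ M) (hK : K t ≤ PN π (⟨u, h.mem⟩ : M)) :
    K u ⊓ OO M ≤ PN π (⟨u, h.mem⟩ : M) := by
  classical
  by_contra hcon
  let _ : Fintype π.ker := Fintype.ofFinite _
  obtain ⟨w, I₀, P₀, d⟩ := h.exists_zdata hπ
  have hfin := d.finite_char
  have hyp := d.h
  have hX := h.hypX hπ
  have hd := h.dich h.u_mem_C
  rw [← hπ.eq u h.mem h.u_mem_C] at hd
  set u' : M := ⟨u, h.mem⟩ with hu'
  set Zu := Z π (NN u M) u' with hZu
  have hN : ¬ NN u M ≤ ZData.NM π (NN u M) u' := by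
    intro h1
    apply hcon
    rintro x ⟨hx1, hx2⟩
    exact ⟨⟨x, OO_le M hx2⟩, h1 (mem_NN.2 ⟨hx2, hx1⟩), rfl⟩
  have hmain := d.count_main hN
  -- the eigenvectors
  let ι := {mu : π.ker →* ℂˣ // mu ≠ 1 ∧ ∃ g, cj g mu ∈ Zu}
  let ρO : Representation ℂ π.ker X := (ρ.comp M.subtype).comp π.ker.subtype
  have hev : ∀ i : ι, ∃ v : X, v ≠ 0 ∧ ∀ x, ρO x v = (i.1 x : ℂ) • v := by
    rintro ⟨mu, hmu1, g, hg⟩
    refine exists_eigen ρO mu ?_
    have h1 : classInner ρO.character (fun x => (mu x : ℂ)) =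
        classInner (res π.ker (fun x : M => ρ.character x)) (lf mu) := rfl
    have hcl : IsClassFunction M (fun x : M => ρ.character x) :=
      Core.isCharacter_isClassFunction hX.char
    rw [h1, ← classInner_conjFn π.ker _ _ g, conjFn_res π.ker hcl, ← lf_cj]
    have h2 : cj g mu ≠ 1 := by
      intro h3
      apply hmu1
      apply cj_injective g
      rw [h3, cj_char_one]
    rw [(theta_of_mem hyp hX hd hg h2).1]
    exact one_ne_zero
  choose v hv0 hv using hev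
  have hli : LinearIndependent ℂ v :=
    linearIndependent_eigen ρO (fun i : ι => i.1) Subtype.val_injective v hv0 hv
  -- the conjugate subgroups
  obtain ⟨g, hgt, hgu⟩ := h.swap
  set N₁ := PN π u' with hN₁
  have hMN : ∀ a ∈ M, ∀ y, a⁻¹ * y * a ∈ N₁ ↔ y ∈ N₁ := by
    intro a ha y
    constructor
    · intro h1
      have h2 := conj_mem (le_norm_PN (π := π) (u' := u')) ha h1
      have h3 : a * (a⁻¹ * y * a) * a⁻¹ = y := by group
      rwa [h3] at h2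
    · intro h1
      have h2 := conj_mem (le_norm_PN (π := π) (u' := u')) (M.inv_mem ha) h1
      rwa [inv_inv] at h2
  set N₂ := cjS g N₁ with hN₂
  have hwt : (w : G) * t * (w : G)⁻¹ = t := by
    have h1 : (t : G) * w = w * t := congrArg Subtype.val d.w_t.eq
    rw [← h1, mul_inv_cancel_right]
  have hwu : (w : G) * u * (w : G)⁻¹ = t * u := congrArg Subtype.val d.w_u
  set k : G := g * w with hk
  set N₃ := cjS k N₂ with hN₃
  have h12 : ∀ y, y ∈ N₂ ↔ k⁻¹ * y * k ∈ N₁ := by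
    intro y
    have h1 : k⁻¹ * y * k = (w : G)⁻¹ * (g⁻¹ * y * g) * w := by rw [hk]; group
    rw [hN₂, mem_cjS, h1, hMN w w.2]
  have h23 : ∀ y, y ∈ N₃ ↔ k⁻¹ * y * k ∈ N₂ := fun y => by rw [hN₃, mem_cjS]
  -- `K u ≤ N₂`, `K (t u) ≤ N₃`
  have hKu : K u ≤ N₂ := by
    intro x hx
    rw [hN₂, mem_cjS]
    have h1 : g⁻¹ * u * g⁻¹⁻¹ = t := by
      rw [← hgt]
      group
    have h2 := conj_K h1 hx
    rw [inv_inv] at h2
    exact hK h2
  have hKtu : K (t * u) ≤ N₃ := by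
    intro x hx
    rw [h23]
    have h0 : k * u * k⁻¹ = t * u := by
      have h1 : k * u * k⁻¹ = g * ((w : G) * u * (w : G)⁻¹) * g⁻¹ := by rw [hk]; group
      rw [h1, hwu]
      have h2 : g * (t * u) * g⁻¹ = (g * t * g⁻¹) * (g * u * g⁻¹) := by group
      rw [h2, hgt, hgu, h.four.comm]
    have h1 : k⁻¹ * (t * u) * k⁻¹⁻¹ = u := by
      rw [← h0]
      group
    have h2 := conj_K h1 hx
    rw [inv_inv] at h2
    exact hKu h2
  -- the dimension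
  have hdim : finrank ℂ X ≤ finrank ℂ (fixed ρ N₂) + n' := by
    have h1 := h.lb N₁ (h.PN_small hπ) ((cov_C t).mono (hCM.trans le_norm_PN))
    have h2 : finrank ℂ (fixed ρ N₁) ≤ finrank ℂ (fixed ρ N₂) := by
      have hinj : Function.Injective (ρ g) := by
        intro a b hab
        have h3 : ρ g⁻¹ (ρ g a) = ρ g⁻¹ (ρ g b) := by rw [hab]
        rw [← Module.End.mul_apply, ← Module.End.mul_apply, ← map_mul, inv_mul_cancel,
          map_one] at h3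
        exact h3
      rw [← (Submodule.equivMapOfInjective (ρ g) hinj (fixed ρ N₁)).finrank_eq.symm]
      refine Submodule.finrank_mono ?_
      rintro _ ⟨x, hx, rfl⟩ y hy
      rw [hN₂, mem_cjS] at hy
      have h3 := hx _ hy
      have h4 : ρ y (ρ g x) = ρ g (ρ (g⁻¹ * y * g) x) := by
        rw [← Module.End.mul_apply, ← Module.End.mul_apply, ← map_mul, ← map_mul]
        congr 2
        group
      rw [h4, h3]
    omega
  -- the sets
  let A : Set ι := {i | ∃ x : π.ker, (x : M) ∈ NN u M ∧ i.1 x ≠ 1}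
  let B : Set ι := {i | (∃ x : π.ker, (x : M) ∈ NN u M ∧ i.1 x ≠ 1) ∧
    ∃ x : π.ker, (x : M) ∈ ZData.conjN (NN u M) w ∧ i.1 x ≠ 1}
  have hAc : {mu : π.ker →* ℂˣ | (∃ x : π.ker, (x : M) ∈ NN u M ∧ mu x ≠ 1) ∧
        ∃ g, cj g mu ∈ Zu}.ncard = A.ncard := by
    rw [← Set.ncard_image_of_injective A Subtype.val_injective]
    congr 1
    ext mu
    constructor
    · rintro ⟨⟨x, hx, hx'⟩, g, hg⟩
      exact ⟨⟨mu, fun h1 => hx' (by rw [h1]; rfl), g, hg⟩, ⟨x, hx, hx'⟩, rfl⟩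
    · rintro ⟨i, hi, rfl⟩
      exact ⟨hi, i.2.2⟩
  have hBc : {mu : π.ker →* ℂˣ | ((∃ x : π.ker, (x : M) ∈ NN u M ∧ mu x ≠ 1) ∧
        ∃ x : π.ker, (x : M) ∈ ZData.conjN (NN u M) w ∧ mu x ≠ 1) ∧ ∃ g, cj g mu ∈ Zu}.ncard =
      B.ncard := by
    rw [← Set.ncard_image_of_injective B Subtype.val_injective]
    congr 1
    ext mu
    constructor
    · rintro ⟨⟨⟨x, hx, hx'⟩, hy⟩, g, hg⟩
      exact ⟨⟨mu, fun h1 => hx' (by rw [h1]; rfl), g, hg⟩, ⟨⟨x, hx, hx'⟩, hy⟩, rfl⟩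
    · rintro ⟨i, hi, rfl⟩
      exact ⟨hi, i.2.2⟩
  rw [hAc, hBc] at hmain
  have hA : ∀ i ∈ A, v i ∈ LinearMap.ker (proj ρ N₂) := by
    rintro i ⟨x, hx, hx'⟩
    exact mem_ker_proj ρ N₂ (hKu (mem_NN.1 hx).2) (c := (i.1 x : ℂ))
      (fun h1 => hx' (Units.ext h1)) (hv i x)
  have hB : ∀ i ∈ B, v i ∈ LinearMap.ker (proj ρ N₃) := by
    rintro i ⟨-, x, hx, hx'⟩
    refine mem_ker_proj ρ N₃ (hKtu ?_) (c := (i.1 x : ℂ)) (fun h1 => hx' (Units.ext h1)) (hv i x)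
    have h1 : (w : G)⁻¹ * ((x : M) : G) * w ∈ K u := (mem_NN.1 hx).2
    have h2 := conj_K hwu h1
    have h3 : (w : G) * ((w : G)⁻¹ * ((x : M) : G) * w) * (w : G)⁻¹ = ((x : M) : G) := by group
    rwa [h3] at h2
  have hA1 : ∀ i ∈ A, v i ∈ fixed ρ N₁ := by
    rintro ⟨mu, hmu1, g, hg⟩ - y ⟨z, ⟨hz, hz'⟩, rfl⟩
    have h1 := hz' (cj g mu) hg g⁻¹
    rw [cj_inv_cj] at h1
    have h2 := hv ⟨mu, hmu1, g, hg⟩ ⟨z, hz⟩
    have h3 : mu ⟨z, hz⟩ = 1 := h1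
    rw [h3, Units.val_one, one_smul] at h2
    exact h2
  have hcount := dim_count ρ hdim h12 h23 v hli A B (fun i hi => hi.1) hA hA1 hB
  have := h.lt
  omega

/-- The claim. -/
theorem PN_claim (h : BHyp ρ t u M πt p q n' c ω I P I' P') (hπ : PiHyp t M πt π)
    (hCM : C t ≤ M) (hK : K t ≤ PN π (⟨u, h.mem⟩ : M)) (x : G) (hx : Mem3 t u x) :
    K x ⊓ OO M ≤ PN π (⟨u, h.mem⟩ : M) := by
  rcases hx with rfl | rfl | rfl
  · exact inf_le_left.trans hK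
  · exact h.PN_claim_u hπ hCM hK
  · obtain ⟨w, I₀, P₀, d⟩ := h.exists_zdata hπ
    have hwu : (w : G) * u * (w : G)⁻¹ = t * u := congrArg Subtype.val d.w_u
    rintro y ⟨hy1, hy2⟩
    have h1 : (w : G)⁻¹ * (t * u) * (w : G)⁻¹⁻¹ = u := by
      rw [← hwu]
      group
    have h2 := conj_K h1 hy1
    rw [inv_inv] at h2
    have h3 := conj_mem (le_normalizer_OO M) (M.inv_mem w.2) hy2
    rw [inv_inv] at h3
    have h4 := h.PN_claim_u hπ hCM hK (mem_inf.2 ⟨h2, h3⟩)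
    have h5 := conj_mem (le_norm_PN (π := π) (u' := ⟨u, h.mem⟩)) w.2 h4
    have h6 : (w : G) * ((w : G)⁻¹ * y * w) * (w : G)⁻¹ = y := by group
    rwa [h6] at h5

end WithPi

/-- **Case BETA**: the package. -/
theorem exists_pkg [FiniteDimensional ℂ X] (h : BHyp ρ t u M πt p q n' c ω I P I' P') :
    ∃ N, Pkg p t u M N := by
  obtain ⟨π, h1, h2, h3⟩ := exists_hom h.cov h.factor πt h.surj h.ker
  have hπ : PiHyp t M πt π := ⟨h1, h2, h3⟩
  exact ⟨PN π (⟨u, h.mem⟩ : M),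
    { le := PN_le hπ
      normal := le_norm_PN
      small := h.PN_small hπ
      gen := fun E hE hn hg => h.PN_gen hπ hE hn hg
      quot := fun r hr hrp R hR hRr => h.PN_quot hπ hr hrp hR hRr
      claim := fun hCM hK x hx => h.PN_claim hπ hCM hK x hx }⟩

end BHyp

end Main

end Cfsg.Agent.Classification.QDW.BetaPkg
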