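import Mathlib
import Cfsg.Agent.Classification.QDW.GammaOdd
import Cfsg.Agent.Classification.QDW.BetaGam
import Cfsg.Agent.Classification.InvCent.FusionCore

/-!
# The geometry `Gam`, the dichotomy `Dich` for `C` of type `GL₂(q)/Z₀`, `4 ∤ q - 1`
-/

set_option autoImplicit false
set_option linter.unusedSectionVars false
set_option linter.unusedVariables false

open Cfsg

namespace Cfsg.Agent.Classification.QDW.GammaGam

open Cfsg.Agent.Classification.InvCent Cfsg.Agent.Classification.QDW.LineIndex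
open Cfsg.Agent.Classification.QDW.LineC Cfsg.Agent.Classification.QDW.GammaOdd MulAction
open Cfsg.Agent.Classification.QDW.BetaGam Cfsg.Agent.Classification.InvCent.FusionCore

section General

variable {G : Type*} [Group G]

/-- `H ⟨u⟩` for an involution `u` normalising `H`. -/
theorem mem_sup_zpowers {H : Subgroup G} {u : G} (huu : u * u = 1)
    (hn : ∀ v ∈ H, u * v * u⁻¹ ∈ H) {x : G} :
    x ∈ H ⊔ Subgroup.zpowers u ↔ x ∈ H ∨ x * u ∈ H := by
  have hu : u⁻¹ = u := inv_eq_of_mul_eq_one_left huu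
  have hn' : ∀ v ∈ H, u * v * u ∈ H := fun v hv => by
    have := hn v hv
    rwa [hu] at this
  have key : ∀ x y : G, x * u ∈ H → y * u ∈ H → x * y ∈ H := by
    intro x y hx hy
    have h1 : x * y = (x * u) * (u * (y * u) * u) := by
      calc x * y = x * (u * u) * y * (u * u) := by rw [huu, mul_one, mul_one]
        _ = (x * u) * (u * (y * u) * u) := by group
    rw [h1]
    exact mul_mem hx (hn' _ hy)
  constructor
  · intro hx
    let K : Subgroup G :=
      { carrier := {x | x ∈ H ∨ x * u ∈ H}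
        one_mem' := Or.inl (one_mem H)
        mul_mem' := by
          rintro a b (ha | ha) (hb | hb)
          · exact Or.inl (mul_mem ha hb)
          · exact Or.inr (by rw [mul_assoc]; exact mul_mem ha hb)
          · refine Or.inr ?_
            have h1 : a * b * u = (a * u) * (u * b * u) := by
              calc a * b * u = a * (u * u) * b * u := by rw [huu, mul_one]
                _ = (a * u) * (u * b * u) := by group
            rw [h1]
            exact mul_mem ha (hn' _ hb)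
          · exact Or.inl (key a b ha hb)
        inv_mem' := by
          rintro a (ha | ha)
          · exact Or.inl (inv_mem ha)
          · refine Or.inr ?_
            have h1 : a⁻¹ * u = u * (a * u)⁻¹ * u := by
              rw [mul_inv_rev, hu]
              calc a⁻¹ * u = (u * u) * a⁻¹ * u := by rw [huu, one_mul]
                _ = u * (u * a⁻¹) * u := by group
            rw [h1]
            exact hn' _ (inv_mem ha) }
    have h1 : H ⊔ Subgroup.zpowers u ≤ K := by
      rw [sup_le_iff, Subgroup.zpowers_le]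
      refine ⟨fun x hx => Or.inl hx, Or.inr ?_⟩
      rw [huu]
      exact one_mem H
    exact h1 hx
  · have huI : u ∈ H ⊔ Subgroup.zpowers u :=
      (le_sup_right : Subgroup.zpowers u ≤ _) (Subgroup.mem_zpowers u)
    rintro (hx | hx)
    · exact (le_sup_left : H ≤ _) hx
    · have h1 : x = (x * u) * u := by rw [mul_assoc, huu, mul_one]
      rw [h1]
      exact mul_mem ((le_sup_left : H ≤ _) hx) huI

theorem card_sup_zpowers [Finite G] {H : Subgroup G} {u : G} (huu : u * u = 1)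
    (hn : ∀ v ∈ H, u * v * u⁻¹ ∈ H) (huH : u ∉ H) :
    Nat.card (H ⊔ Subgroup.zpowers u : Subgroup G) = 2 * Nat.card H := by
  have h1 : ((H ⊔ Subgroup.zpowers u : Subgroup G) : Set G) =
      (H : Set G) ∪ (fun v => v * u) '' (H : Set G) := by
    ext x
    rw [SetLike.mem_coe, mem_sup_zpowers huu hn]
    simp only [Set.mem_union, SetLike.mem_coe, Set.mem_image]
    constructor
    · rintro (hx | hx)
      · exact Or.inl hx
      · exact Or.inr ⟨x * u, hx, by rw [mul_assoc, huu, mul_one]⟩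
    · rintro (hx | ⟨y, hy, rfl⟩)
      · exact Or.inl hx
      · exact Or.inr (by rw [mul_assoc, huu, mul_one]; exact hy)
  have h2 : Disjoint (H : Set G) ((fun v => v * u) '' (H : Set G)) := by
    rw [Set.disjoint_left]
    rintro _ hx ⟨y, hy, rfl⟩
    apply huH
    have h3 : u = y⁻¹ * (y * u) := by group
    rw [h3]
    exact mul_mem (inv_mem hy) hx
  have h3 : Nat.card (H ⊔ Subgroup.zpowers u : Subgroup G) =
      ((H ⊔ Subgroup.zpowers u : Subgroup G) : Set G).ncard :=
    (Nat.card_coe_set_eq _)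
  have h4 : Nat.card H = (H : Set G).ncard := (Nat.card_coe_set_eq _)
  rw [h3, h1, Set.ncard_union_eq h2 (Set.toFinite _) (Set.toFinite _),
    Set.ncard_image_of_injective _ (fun a b h => mul_right_cancel h), h4]
  ring

end General

section

variable {C : Type*} [Group C] [Finite C] {q : ℕ} {Z T T' U : Subgroup C} {s s' z u : C}
  {b : C →* ℂˣ}

theorem b_z {ε : ℤ} {r : ℕ} (hC : CHyp z q ε Z T T' U s s' u)
    (hD : DetHyp q ε T T' U s s' u r b) : b z = 1 := by
  refine hD.b_T₀ z (hC.Z_le_T hC.t_mem) ?_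
  have h1 : s * z * s⁻¹ = z := conj_t hC s
  rw [h1]
  have h2 := pow_orderOf_eq_one z
  rwa [hC.orderOf_t, sq] at h2

/-- `z` is the only involution of the kernel of `b`. -/
theorem eq_z {ε : ℤ} {r : ℕ} (hC : CHyp z q ε Z T T' U s s' u)
    (hD : DetHyp q ε T T' U s s' u r b) {x : C} (hx : orderOf x = 2) (hb : b x = 1) : x = z := by
  rcases eq_or_conj hC hx with h | ⟨g, hg⟩
  · exact h
  · exfalso
    have h1 : b u = b x := by
      rw [← hg, map_mul, map_mul, map_inv, mul_comm (b g), mul_assoc, mul_inv_cancel, mul_one]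
    rw [hb, hD.b_u] at h1
    have h2 : ((-1 : ℂˣ) : ℂ) = ((1 : ℂˣ) : ℂ) := by rw [h1]
    norm_num at h2

section EpsOne

variable (hC : CHyp z q 1 Z T T' U s s' u) (hn : ∀ τ ∈ T, ∀ v ∈ U, τ * v * τ⁻¹ ∈ U)

include hC hn

theorem u_norm {v : C} (hv : v ∈ U) : u * v * u⁻¹ ∈ U := hn u hC.u_mem v hv

theorem T_norm' {τ v : C} (hτ : τ ∈ T) (hv : v ∈ cj s U) : τ * v * τ⁻¹ ∈ cj s U := by
  rw [mem_cj] at hv ⊢
  have h1 : s⁻¹ * τ * s ∈ T := by
    have h2 := hC.s_conj τ hτ
    rwa [hC.torus.s_inv] at h2 ⊢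
  have h2 := hn _ h1 _ hv
  have h3 : s⁻¹ * τ * s * (s⁻¹ * v * s) * (s⁻¹ * τ * s)⁻¹ = s⁻¹ * (τ * v * τ⁻¹) * s := by group
  rwa [h3] at h2

theorem u_norm' {v : C} (hv : v ∈ cj s U) : u * v * u⁻¹ ∈ cj s U := T_norm' hC hn hC.u_mem hv

theorem u_notMem_U : u ∉ U := fun h => by
  have h1 := eq_one_of_T₁_U hC.base hC.torus hn hC.u_mem h
  have h2 := hC.orderOf_u
  rw [h1, orderOf_one] at h2
  omega

theorem u_notMem_U' : u ∉ cj s U := fun h => by
  have h1 : orderOf u ∣ Nat.card (cj s U) := by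
    rw [← Subgroup.orderOf_mk (H := cj s U) u h]
    exact orderOf_dvd_natCard _
  rw [card_cj, hC.card_U, hC.orderOf_u] at h1
  rcases hC.odd_q with ⟨a, ha⟩
  omega

theorem index_of_card (hZ : Nat.card Z = 2) {H : Subgroup C} (hH : Nat.card H = 2 * q) :
    H.index = q ^ 2 - 1 := by
  have h1 := H.card_mul_index
  rw [hH, hC.card_C, hZ] at h1
  have h2 : 0 < 2 * q := by have := hC.one_lt_q; omega
  have h3 : 2 * q * H.index = 2 * q * (q ^ 2 - 1) := by rw [h1]; ring
  exact Nat.eq_of_mul_eq_mul_left h2 h3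

theorem card_I : Nat.card (U ⊔ Subgroup.zpowers u : Subgroup C) = 2 * q := by
  rw [card_sup_zpowers (u_sq hC hn) (fun v hv => u_norm hC hn hv) (u_notMem_U hC hn), hC.card_U]

theorem card_I' : Nat.card (cj s U ⊔ Subgroup.zpowers u : Subgroup C) = 2 * q := by
  rw [card_sup_zpowers (u_sq hC hn) (fun v hv => u_norm' hC hn hv) (u_notMem_U' hC hn), card_cj,
    hC.card_U]

theorem cent_T_iff {x : C} : Commute u x ↔ x ∈ T :=
  ⟨fun h => cent_u hC hn h, fun h => hC.T_comm u hC.u_mem x h⟩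

theorem T_norm_sup {H : Subgroup C} (hH : ∀ τ ∈ T, ∀ v ∈ H, τ * v * τ⁻¹ ∈ H) {τ y : C}
    (hτ : τ ∈ T) (hy : y ∈ H ⊔ Subgroup.zpowers u) : τ * y * τ⁻¹ ∈ H ⊔ Subgroup.zpowers u := by
  rw [mem_sup_zpowers (u_sq hC hn) (hH u hC.u_mem)] at hy ⊢
  rcases hy with hy | hy
  · exact Or.inl (hH τ hτ y hy)
  · refine Or.inr ?_
    have h1 := hH τ hτ _ hy
    have h2 := hC.T_comm u hC.u_mem τ hτ
    have h3 : τ * (y * u) * τ⁻¹ = τ * y * τ⁻¹ * u := by
      have h4 : u * τ⁻¹ = τ⁻¹ * u := by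
        calc u * τ⁻¹ = τ⁻¹ * (τ * u) * τ⁻¹ := by group
          _ = τ⁻¹ * u := by rw [← h2]; group
      calc τ * (y * u) * τ⁻¹ = τ * y * (u * τ⁻¹) := by group
        _ = τ * y * τ⁻¹ * u := by rw [h4]; group
    rwa [h3] at h1

/-- `Gam` for infinity. -/
theorem gam (hZ : Nat.card Z = 2) : Gam q z u s (U ⊔ Subgroup.zpowers u) (N U) where
  central := fun x => (hC.Z_central z hC.t_mem x).symm
  swap := hC.s_u
  I_index := index_of_card hC hn hZ (card_I hC hn)
  P_index := index_N hC.base hC.torus hn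
  I_le := by
    rw [sup_le_iff, Subgroup.zpowers_le]
    exact ⟨U_le_N, T₁_le_N hC.base hC.torus hn hC.u_mem⟩
  cent_le := fun x hx => T₁_le_N hC.base hC.torus hn ((cent_T_iff hC hn).1 hx)
  cent_norm := fun x hx y hy => T_norm_sup hC hn hn ((cent_T_iff hC hn).1 hx) hy
  swap_notMem := s₁_notMem hC.base hC.torus hn (three_le hC hn)
  trans := by
    intro g g' h1 h2 h3 h4
    have hb := hC.base
    have hT := hC.torus
    have hq := three_le hC hn
    have key : ∀ g : C, g ∉ N U → s⁻¹ * g ∉ N U → g • inf U ≠ inf U ∧ g • inf U ≠ zer U s := by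
      intro g h1 h2
      refine ⟨fun h => h1 ((smul_inf hb hT hn).1 h), fun h => h2 ?_⟩
      rw [← smul_inf hb hT hn, mul_smul, h, ← s_inf hC hn, inv_smul_smul]
    obtain ⟨h5, h6⟩ := key g h1 h2
    obtain ⟨h7, h8⟩ := key g' h3 h4
    obtain ⟨τ, hτ, he⟩ := T₁_trans hb hT hn hq h5 h6 h7 h8
    refine ⟨τ, (cent_T_iff hC hn).2 hτ, ?_⟩
    rw [← smul_inf hb hT hn, mul_smul, mul_smul, he, inv_smul_smul]

theorem cj_eq_cjS (g : C) (H : Subgroup C) : cj g H = cjS g H := rfl

/-- `Gam` for zero. -/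
theorem gam' (hZ : Nat.card Z = 2) :
    Gam q z u s (cj s U ⊔ Subgroup.zpowers u) (cjS s (N U)) := by
  have hzz : z * z = 1 := by
    have h2 := pow_orderOf_eq_one z
    rwa [hC.orderOf_t, sq] at h2
  refine (gam hC hn hZ).swap' hzz (index_of_card hC hn hZ (card_I' hC hn)) ?_ ?_
  · rw [sup_le_iff, Subgroup.zpowers_le]
    constructor
    · exact Subgroup.map_mono U_le_N
    · change u ∈ cj s (N U)
      rw [mem_cj_N hC hn]
      exact T₁_zer hC.base hC.torus hn hC.u_mem
  · exact fun x hx y hy => T_norm_sup hC hn (fun τ hτ v hv => T_norm' hC hn hτ hv)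
      ((cent_T_iff hC hn).1 hx) hy

/-- **The dichotomy.** -/
theorem dich (hD : DetHyp q 1 T T' U s s' u 2 b) (hZ : Nat.card Z = 2) (h4 : ¬ 4 ∣ q - 1) :
    Dich q u (U ⊔ Subgroup.zpowers u) (cj s U ⊔ Subgroup.zpowers u) := by
  intro J huJ hJ
  have huu := u_sq hC hn
  have hq := three_le hC hn
  -- the subgroup of index two
  set F : Subgroup C := J ⊓ b.ker with hF
  have hb1 : ∀ x : C, b x = 1 ∨ b x = -1 := by
    intro x
    have h1 := hD.pow_eq_one x
    have h2 : ((b x : ℂˣ) : ℂ) ^ 2 = 1 := by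
      rw [← Units.val_pow_eq_pow_val, h1, Units.val_one]
    rcases sq_eq_one_iff.1 h2 with h3 | h3
    · exact Or.inl (Units.ext h3)
    · exact Or.inr (Units.ext h3)
  have huF : u ∉ F := fun h => by
    have h1 : b u = 1 := h.2
    rw [hD.b_u] at h1
    have h2 : ((-1 : ℂˣ) : ℂ) = ((1 : ℂˣ) : ℂ) := by rw [h1]
    norm_num at h2
  have hnF : ∀ f ∈ F, u * f * u⁻¹ ∈ F := by
    rintro f ⟨hf1, hf2⟩
    refine Subgroup.mem_inf.2 ⟨mul_mem (mul_mem huJ hf1) (inv_mem huJ), ?_⟩
    have hf3 : b f = 1 := hf2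
    show b (u * f * u⁻¹) = 1
    rw [map_mul, map_mul, map_inv, hf3, mul_one, mul_inv_cancel]
  have hJF : J = F ⊔ Subgroup.zpowers u := by
    apply le_antisymm
    · intro x hx
      rw [mem_sup_zpowers huu hnF]
      rcases hb1 x with h1 | h1
      · exact Or.inl ⟨hx, h1⟩
      · refine Or.inr ⟨mul_mem hx huJ, ?_⟩
        show b (x * u) = 1
        rw [map_mul, h1, hD.b_u]
        norm_num
    · rw [sup_le_iff, Subgroup.zpowers_le]
      exact ⟨inf_le_left, huJ⟩
  have hcard : Nat.card J = 2 * Nat.card F := by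
    rw [← card_sup_zpowers huu hnF huF, ← hJF]
  -- `F` has odd order
  have hFodd : Odd (Nat.card F) := by
    rw [← Nat.not_even_iff_odd, even_iff_two_dvd]
    intro h2
    obtain ⟨x, hx⟩ := exists_prime_orderOf_dvd_card' (G := F) 2 h2
    have hx' : orderOf (x : C) = 2 := by rw [Subgroup.orderOf_coe]; exact hx
    have h3 := eq_z hC hD hx' x.2.2
    have h4 : (z : C) ∈ J := h3 ▸ x.2.1
    rcases hJ z h4 (hC.Z_central z hC.t_mem u) with h5 | h5
    · have h6 := hC.orderOf_t
      rw [h5, orderOf_one] at h6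
      omega
    · exact hC.u_ne h5.symm
  -- `u` inverts `F`
  have hinv : ∀ f ∈ F, u * f * u⁻¹ = f⁻¹ := by
    let φ : F → F := fun f => ⟨u * f * u⁻¹, hnF f f.2⟩
    let φ' : F →* F :=
      { toFun := φ
        map_one' := Subtype.ext (by simp [φ])
        map_mul' := fun a b => Subtype.ext (by simp [φ]) }
    have h1 : MonoidHom.FixedPointFree φ' := by
      intro g hg
      have h2 : u * (g : C) * u⁻¹ = g := congrArg Subtype.val hg
      have h3 : u * (g : C) = g * u := by
        calc u * (g : C) = (u * g * u⁻¹) * u := by group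
          _ = g * u := by rw [h2]
      rcases hJ g g.2.1 h3 with h4 | h4
      · exact Subtype.ext h4
      · exact absurd (h4 ▸ g.2) huF
    have h2 : Function.Involutive φ' := by
      intro g
      refine Subtype.ext ?_
      change u * (u * (g : C) * u⁻¹) * u⁻¹ = g
      have hu : u⁻¹ = u := inv_eq_of_mul_eq_one_left huu
      rw [hu]
      calc u * (u * (g : C) * u) * u = (u * u) * g * (u * u) := by group
        _ = g := by rw [huu, one_mul, mul_one]
    intro f hf
    have h3 := congrFun (h1.coe_eq_inv_of_involutive h2) ⟨f, hf⟩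
    exact congrArg Subtype.val h3
  rcases inverted hC hn hZ h4 hFodd hinv with h5 | h5 | h5
  · left
    have h6 := J.card_mul_index
    rw [hC.card_C, hZ] at h6
    have h7 : Nat.card J ≤ q - 1 := by rw [hcard]; exact h5
    -- `2 q (q² - 1) = |J| index ≤ (q - 1) index`
    have h8 : 2 * (q * (q ^ 2 - 1)) ≤ (q - 1) * J.index := by
      rw [← h6]
      exact Nat.mul_le_mul_right _ h7
    obtain ⟨m, rfl⟩ : ∃ m, q = m + 1 := ⟨q - 1, by omega⟩
    have h9 : (m + 1) ^ 2 - 1 = m * (m + 2) := by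
      have : (m + 1) ^ 2 = m * (m + 2) + 1 := by ring
      omega
    rw [h9] at h8 ⊢
    have h10 : m + 1 - 1 = m := by omega
    rw [h10] at h8
    have hm : 0 < m := by omega
    have h11 : m * (2 * ((m + 1) * (m + 2))) ≤ m * J.index := by
      calc m * (2 * ((m + 1) * (m + 2))) = 2 * ((m + 1) * (m * (m + 2))) := by ring
        _ ≤ m * J.index := h8
    have h12 := Nat.le_of_mul_le_mul_left h11 hm
    have h13 : 2 * (m * (m + 2)) ≤ 2 * ((m + 1) * (m + 2)) := by
      have : m * (m + 2) ≤ (m + 1) * (m + 2) := Nat.mul_le_mul_right _ (by omega)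
      omega
    exact h13.trans h12
  · right
    have h6 : J = U ⊔ Subgroup.zpowers u := by rw [hJF, h5]
    exact ⟨by rw [h6]; exact index_of_card hC hn hZ (card_I hC hn), Or.inl h6⟩
  · right
    have h6 : J = cj s U ⊔ Subgroup.zpowers u := by rw [hJF, h5]
    exact ⟨by rw [h6]; exact index_of_card hC hn hZ (card_I' hC hn), Or.inr h6⟩

/-- The facts on the root groups `E = U`, `E = s U s⁻¹`: normalised by `T = C(u)`, inverted by `u`,
`T` transitive on the nontrivial elements, an element of `T` centralising one of them is `1` or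
`z`. -/
structure RootFacts (T : Subgroup C) (z u : C) (E : Subgroup C) : Prop where
  norm : ∀ τ ∈ T, ∀ v ∈ E, τ * v * τ⁻¹ ∈ E
  inv : ∀ v ∈ E, u * v * u⁻¹ = v⁻¹
  trans : ∀ v ∈ E, v ≠ 1 → ∀ w ∈ E, w ≠ 1 → ∃ τ ∈ T, τ * v * τ⁻¹ = w
  cent : ∀ v ∈ E, v ≠ 1 → ∀ τ ∈ T, τ * v = v * τ → τ = 1 ∨ τ = z

theorem rootFacts (hZ : Nat.card Z = 2) : RootFacts T z u U where
  norm := hn
  inv := fun v hv => inv_U hC.base hC.torus hn hC.u_mem (u_notMem_Z hC hn) (u_sq hC hn) hv
  trans := fun v hv hv1 w hw hw1 =>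
    T₁_conj_trans hC.base hC.torus hn (three_le hC hn) hv hv1 hw hw1
  cent := fun v hv hv1 τ hτ he => mem_Z hC hn hZ
    (mem_Z_of_T₁_ZU hC.base hC.torus hn hτ (hC.base.mem_ZU.2 (hC.cent_U v hv hv1 τ he)))

theorem rootFacts' (hZ : Nat.card Z = 2) : RootFacts T z u (cj s U) := by
  have h := rootFacts hC hn hZ
  have hs : ∀ τ ∈ T, s * τ * s⁻¹ ∈ T := hC.s_conj
  have hs' : ∀ τ ∈ T, s⁻¹ * τ * s ∈ T := fun τ hτ => by
    have h2 := hC.s_conj τ hτ
    rwa [hC.torus.s_inv] at h2 ⊢
  constructor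
  · exact fun τ hτ v hv => T_norm' hC hn hτ hv
  · intro v hv
    have hv' := mem_cj.1 hv
    have h1 := h.inv _ hv'
    -- `s u s⁻¹ = z u` acts in the same way
    have h2 : s * u * s⁻¹ = z * u := hC.s_u
    have h3 : u * v * u⁻¹ = s * (u * (s⁻¹ * v * s) * u⁻¹) * s⁻¹ := by
      have h4 : (z * u) * v * (z * u)⁻¹ = u * v * u⁻¹ := by
        have h5 := hC.Z_central z hC.t_mem (u * v * u⁻¹)
        calc (z * u) * v * (z * u)⁻¹ = z * (u * v * u⁻¹) * z⁻¹ := by group
          _ = (u * v * u⁻¹) * z * z⁻¹ := by rw [h5]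
          _ = u * v * u⁻¹ := by group
      rw [← h4, ← h2]
      group
    rw [h3, h1]
    group
  · intro v hv hv1 w hw hw1
    obtain ⟨τ, hτ, he⟩ := h.trans _ (mem_cj.1 hv)
      (fun h1 => hv1 (by
        have h2 : v = s * (s⁻¹ * v * s) * s⁻¹ := by group
        rw [h2, h1]; group)) _ (mem_cj.1 hw)
      (fun h1 => hw1 (by
        have h2 : w = s * (s⁻¹ * w * s) * s⁻¹ := by group
        rw [h2, h1]; group))
    refine ⟨s * τ * s⁻¹, hs τ hτ, ?_⟩
    calc s * τ * s⁻¹ * v * (s * τ * s⁻¹)⁻¹ = s * (τ * (s⁻¹ * v * s) * τ⁻¹) * s⁻¹ := by group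
      _ = s * (s⁻¹ * w * s) * s⁻¹ := by rw [he]
      _ = w := by group
  · intro v hv hv1 τ hτ he
    have h1 := h.cent _ (mem_cj.1 hv) (fun h1 => hv1 (by
        have h2 : v = s * (s⁻¹ * v * s) * s⁻¹ := by group
        rw [h2, h1]; group)) (s⁻¹ * τ * s) (hs' τ hτ) (by
        calc s⁻¹ * τ * s * (s⁻¹ * v * s) = s⁻¹ * (τ * v) * s := by group
          _ = s⁻¹ * (v * τ) * s := by rw [he]
          _ = s⁻¹ * v * s * (s⁻¹ * τ * s) := by group)
    rcases h1 with h2 | h2
    · left
      have h3 : τ = s * (s⁻¹ * τ * s) * s⁻¹ := by group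
      rw [h3, h2]; group
    · right
      have h3 : τ = s * (s⁻¹ * τ * s) * s⁻¹ := by group
      rw [h3, h2]
      exact conj_t hC s

end EpsOne

end

end Cfsg.Agent.Classification.QDW.GammaGam
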