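import Mathlib
import Cfsg.Agent.Classification.QDW.InstC
import Cfsg.Agent.Classification.QDW.GammaGam
import Cfsg.Agent.Classification.QDW.BetaPkg

/-!
# The field `pkg` of `Frame` for a centralizer of type `SL₂(q)⟨u⟩`

* `FF`: the image of `O(M) ∩ C(u)` in `C(u)/K u`;
* `pkg_pair`: the package for a pair `(t, u)`;
* `pkg_all`: the package for all pairs.
-/

set_option autoImplicit false
set_option linter.unusedSectionVars false
set_option linter.unusedVariables false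

namespace Cfsg.Agent.Classification.QDW.PkgAll

open Subgroup Cfsg Module
open Cfsg.Agent.Walter.SylowIn Cfsg.Agent.Walter.OddCoreIn Cfsg.Agent.Walter.Cover
open Cfsg.Agent.Classification.InvCent Cfsg.Agent.Classification.QDW.LineC
open Cfsg.Agent.Classification.QDW.Theta Cfsg.Agent.Classification.QDW.AlphaBeta
open Cfsg.Agent.Classification.QDW.BetaGam Cfsg.Agent.Classification.QDW.GammaOdd
open Cfsg.Agent.Classification.QDW.GammaGam Cfsg.Agent.Classification.QDW.InstC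

universe u v

variable {G : Type u} [Group G] [Finite G] {Γ : Type v} [Group Γ]

/-- `π` identifies `C(t)/K t` with `Γ`. -/
structure Loc (t : G) (π : C t →* Γ) : Prop where
  surj : Function.Surjective π
  ker : ∀ x : C t, π x = 1 ↔ (x : G) ∈ K t

theorem Loc.odd_ker {t : G} {π : C t →* Γ} (h : Loc t π) : Odd (Nat.card π.ker) := by
  have h1 : π.ker = (K t).subgroupOf (C t) := by
    ext x
    rw [MonoidHom.mem_ker, h.ker, mem_subgroupOf]
  rw [h1, Nat.card_congr (Subgroup.subgroupOfEquivOfLe (core_le_C t)).toEquiv,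
    ← Nat.not_even_iff_odd, even_iff_two_dvd]
  exact core_odd t

/-- Conjugation `C(t') → C(t)`, `x ↦ g⁻¹ x g`, for `t' = g t g⁻¹`. -/
def cjHom {g t t' : G} (h : g * t * g⁻¹ = t') : C t' →* C t where
  toFun x := ⟨g⁻¹ * x * g, by
    have h1 : (x : G) * t' = t' * x := mem_C.1 x.2
    rw [mem_C]
    subst h
    calc g⁻¹ * x * g * t = g⁻¹ * (x * (g * t * g⁻¹)) * g := by group
      _ = g⁻¹ * ((g * t * g⁻¹) * x) * g := by rw [h1]
      _ = t * (g⁻¹ * x * g) := by group⟩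
  map_one' := Subtype.ext (by simp)
  map_mul' x y := Subtype.ext (by
    show g⁻¹ * ((x : G) * y) * g = g⁻¹ * x * g * (g⁻¹ * y * g)
    group)

theorem cjHom_coe {g t t' : G} (h : g * t * g⁻¹ = t') (x : C t') :
    ((cjHom h x : C t) : G) = g⁻¹ * x * g := rfl

theorem Loc.cj {g t t' : G} {π : C t →* Γ} (hl : Loc t π) (h : g * t * g⁻¹ = t') :
    Loc t' (π.comp (cjHom h)) where
  surj := by
    intro γ
    obtain ⟨x, rfl⟩ := hl.surj γ
    have h1 : g * (x : G) * g⁻¹ ∈ C t' := by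
      have h2 : (x : G) * t = t * x := mem_C.1 x.2
      rw [mem_C, ← h]
      calc g * (x : G) * g⁻¹ * (g * t * g⁻¹) = g * (x * t) * g⁻¹ := by group
        _ = g * (t * x) * g⁻¹ := by rw [h2]
        _ = g * t * g⁻¹ * (g * (x : G) * g⁻¹) := by group
    refine ⟨⟨g * x * g⁻¹, h1⟩, ?_⟩
    show π (cjHom h ⟨g * x * g⁻¹, h1⟩) = π x
    congr 1
    refine Subtype.ext ?_
    rw [cjHom_coe]
    show g⁻¹ * (g * x * g⁻¹) * g = (x : G)
    group
  ker := by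
    intro x
    show π (cjHom h x) = 1 ↔ _
    rw [hl.ker, cjHom_coe]
    constructor
    · intro h1
      have h2 := conj_K h h1
      have h3 : g * (g⁻¹ * (x : G) * g) * g⁻¹ = x := by group
      rwa [h3] at h2
    · intro h1
      have h2 := conj_K (w := g⁻¹) (x := t') (y := t) (by rw [← h]; group) h1
      rwa [inv_inv] at h2

/-- Composition with an inner automorphism of `Γ`. -/
theorem Loc.inner {t : G} {π : C t →* Γ} (hl : Loc t π) (γ : Γ) :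
    Loc t ((MulAut.conj γ).toMonoidHom.comp π) where
  surj := (MulAut.conj γ).surjective.comp hl.surj
  ker := by
    intro x
    show MulAut.conj γ (π x) = 1 ↔ _
    rw [MulEquiv.map_eq_one_iff]
    exact hl.ker x

section Image

variable {t u : G} {M : Subgroup G} {πu : C u →* Γ}

/-- The image of `EE u M` in `Γ`. -/
def FF (πu : C u →* Γ) (M : Subgroup G) : Subgroup Γ := ((EE u M).subgroupOf (C u)).map πu

theorem mem_FF {f : Γ} : f ∈ FF πu M ↔ ∃ (y : C u), (y : G) ∈ EE u M ∧ πu y = f := by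
  constructor
  · rintro ⟨y, hy, rfl⟩
    exact ⟨y, hy, rfl⟩
  · rintro ⟨y, hy, rfl⟩
    exact ⟨y, hy, rfl⟩

theorem FF_odd : Odd (Nat.card (FF πu M)) := by
  have h1 : Nat.card (FF πu M) ∣ Nat.card (EE u M) := by
    refine (card_map_dvd _ πu).trans ?_
    rw [Nat.card_congr (Subgroup.subgroupOfEquivOfLe EE_le_C).toEquiv]
  have h2 : Odd (Nat.card (EE u M)) := by
    rw [← Nat.not_even_iff_odd, even_iff_two_dvd]
    exact EE_odd
  exact h2.of_dvd_nat h1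

/-- Lifting of the elements commuting with the image of `t`. -/
theorem exists_lift_T (h4 : Four t u) (hl : Loc u πu) (htu : t ∈ C u) {τ : Γ}
    (hτ : τ * πu ⟨t, htu⟩ = πu ⟨t, htu⟩ * τ) :
    ∃ g : C u, (g : G) ∈ C t ⊓ C u ∧ πu g = τ := by
  have htt : (⟨t, htu⟩ : C u) * ⟨t, htu⟩ = 1 := Subtype.ext h4.tt
  obtain ⟨g, hg, hgt⟩ := exists_lift_one πu hl.surj hl.odd_ker (a := (⟨t, htu⟩ : C u))
    (b := ⟨t, htu⟩) htt htt (γ := τ) (by rw [hτ, mul_inv_cancel_right])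
  refine ⟨g, mem_inf.2 ⟨?_, g.2⟩, hg⟩
  have h1 : (g : G) * t * (g : G)⁻¹ = t := congrArg Subtype.val hgt
  exact mem_C.2 (mul_inv_eq_iff_eq_mul.1 h1)

theorem FF_norm (h4 : Four t u) (hu : u ∈ M) (hc : Cov t M) (hb : K t ⊓ C u ≤ K u)
    (hl : Loc u πu) (htu : t ∈ C u) {τ : Γ} (hτ : τ * πu ⟨t, htu⟩ = πu ⟨t, htu⟩ * τ) {f : Γ}
    (hf : f ∈ FF πu M) : τ * f * τ⁻¹ ∈ FF πu M := by
  obtain ⟨g, hg, rfl⟩ := exists_lift_T h4 hl htu hτ
  obtain ⟨y, hy, rfl⟩ := mem_FF.1 hf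
  refine mem_FF.2 ⟨g * y * g⁻¹, ?_, by rw [map_mul, map_mul, map_inv]⟩
  exact conj_mem (le_normalizer_EE h4 hu hc hb) hg hy

theorem FF_inv (h4 : Four t u) (hc : Cov t M) (hb : K t ⊓ C u ≤ K u)
    (hl : Loc u πu) (htu : t ∈ C u) {f : Γ} (hf : f ∈ FF πu M) :
    πu ⟨t, htu⟩ * f * (πu ⟨t, htu⟩)⁻¹ = f⁻¹ := by
  obtain ⟨y, hy, rfl⟩ := mem_FF.1 hf
  have h1 := (hl.ker (y * (⟨t, htu⟩ * y * ⟨t, htu⟩⁻¹))).2 (inv_EE h4 hc hb hy)
  rw [map_mul, map_mul, map_mul, map_inv] at h1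
  exact (inv_eq_of_mul_eq_one_right h1).symm

theorem EE_le_of_FF (hl : Loc u πu) (h : FF πu M = ⊥) : EE u M ≤ K u := by
  intro y hy
  have h1 : πu ⟨y, EE_le_C hy⟩ ∈ FF πu M := mem_FF.2 ⟨⟨y, EE_le_C hy⟩, hy, rfl⟩
  rw [h, Subgroup.mem_bot] at h1
  exact (hl.ker _).1 h1

/-- The order of the root group. -/
theorem root_card_of (hl : Loc u πu) {q : ℕ} (hq : Nat.card (FF πu M) = q) :
    Nat.card (OO M ⊓ C u : Subgroup G) = q * Nat.card (OO M ⊓ K u : Subgroup G) := by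
  let φ : (OO M ⊓ C u : Subgroup G) →* Γ := πu.comp (Subgroup.inclusion inf_le_right)
  have h1 : φ.range = FF πu M := by
    ext f
    constructor
    · rintro ⟨x, rfl⟩
      exact mem_FF.2 ⟨⟨x, x.2.2⟩, mem_sup_left x.2, rfl⟩
    · intro hf
      obtain ⟨y, hy, rfl⟩ := mem_FF.1 hf
      obtain ⟨o, ho, k, hk, he⟩ := mem_EE.1 hy
      refine ⟨⟨o, ho⟩, ?_⟩
      have h2 : y = (⟨o, ho.2⟩ : C u) * ⟨k, core_le_C u hk⟩ := Subtype.ext he
      rw [h2, map_mul, (hl.ker ⟨k, core_le_C u hk⟩).2 hk, mul_one]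
      rfl
  have h2 : φ.ker = (OO M ⊓ K u).subgroupOf (OO M ⊓ C u) := by
    ext x
    rw [MonoidHom.mem_ker, mem_subgroupOf]
    show πu ⟨x, x.2.2⟩ = 1 ↔ _
    rw [hl.ker]
    exact ⟨fun h => mem_inf.2 ⟨x.2.1, h⟩, fun h => h.2⟩
  have h3 := φ.ker.card_mul_index
  rw [Subgroup.index_ker, h1, hq, h2, Nat.card_congr (Subgroup.subgroupOfEquivOfLe
    (inf_le_inf_left (OO M) (core_le_C u))).toEquiv] at h3
  rw [← h3, mul_comm]

variable {T E : Subgroup Γ}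

theorem root_trans_of (h4 : Four t u) (hl : Loc u πu) (htu : t ∈ C u)
    (hT : ∀ τ ∈ T, τ * πu ⟨t, htu⟩ = πu ⟨t, htu⟩ * τ)
    (hE : ∀ v ∈ E, v ≠ 1 → ∀ w ∈ E, w ≠ 1 → ∃ τ ∈ T, τ * v * τ⁻¹ = w) (hF : FF πu M = E) :
    ∀ x ∈ EE u M, ∀ y ∈ EE u M, x ∉ K u → y ∉ K u →
      ∃ g ∈ C t ⊓ C u, g * x * g⁻¹ * y⁻¹ ∈ K u := by
  intro x hx y hy hxK hyK
  have key : ∀ x (hx : x ∈ EE u M), x ∉ K u →
      πu ⟨x, EE_le_C hx⟩ ∈ E ∧ πu ⟨x, EE_le_C hx⟩ ≠ 1 := by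
    intro x hx hxK
    exact ⟨hF ▸ mem_FF.2 ⟨⟨x, EE_le_C hx⟩, hx, rfl⟩, fun h => hxK ((hl.ker _).1 h)⟩
  obtain ⟨τ, hτ, he⟩ := hE _ (key x hx hxK).1 (key x hx hxK).2 _ (key y hy hyK).1 (key y hy hyK).2
  obtain ⟨g, hg, rfl⟩ := exists_lift_T h4 hl htu (hT τ hτ)
  refine ⟨g, hg, ?_⟩
  refine (hl.ker (g * ⟨x, EE_le_C hx⟩ * g⁻¹ * (⟨y, EE_le_C hy⟩)⁻¹)).1 ?_
  rw [map_mul, map_mul, map_mul, map_inv, map_inv, he, mul_inv_cancel]

theorem root_stab_of (h4 : Four t u) (hl : Loc u πu) (htu : t ∈ C u) (huu : u ∈ C u)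
    (hT : ∀ γ : Γ, γ * πu ⟨t, htu⟩ = πu ⟨t, htu⟩ * γ → γ ∈ T)
    (hE : ∀ v ∈ E, v ≠ 1 → ∀ τ ∈ T, τ * v = v * τ → τ = 1 ∨ τ = πu ⟨u, huu⟩)
    (hF : FF πu M = E) :
    ∀ g ∈ C t ⊓ C u, ∀ x ∈ EE u M, x ∉ K u → g * x * g⁻¹ * x⁻¹ ∈ K u →
      g ∈ K u ∨ u⁻¹ * g ∈ K u := by
  intro g hg x hx hxK h
  have h1 : πu ⟨x, EE_le_C hx⟩ ∈ E := hF ▸ mem_FF.2 ⟨⟨x, EE_le_C hx⟩, hx, rfl⟩
  have h2 : πu ⟨x, EE_le_C hx⟩ ≠ 1 := fun h => hxK ((hl.ker _).1 h)
  have h3 : πu ⟨g, hg.2⟩ ∈ T := by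
    refine hT _ ?_
    rw [← map_mul, ← map_mul]
    congr 1
    exact Subtype.ext (mem_C.1 hg.1)
  have h4 := (hl.ker (⟨g, hg.2⟩ * ⟨x, EE_le_C hx⟩ * ⟨g, hg.2⟩⁻¹ * (⟨x, EE_le_C hx⟩)⁻¹)).2 h
  rw [map_mul, map_mul, map_mul, map_inv, map_inv] at h4
  have h5 : πu ⟨g, hg.2⟩ * πu ⟨x, EE_le_C hx⟩ = πu ⟨x, EE_le_C hx⟩ * πu ⟨g, hg.2⟩ :=
    mul_inv_eq_iff_eq_mul.1 (mul_inv_eq_one.1 h4)
  rcases hE _ h1 h2 _ h3 h5 with h6 | h6
  · exact Or.inl ((hl.ker ⟨g, hg.2⟩).1 h6)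
  · right
    refine (hl.ker (⟨u, huu⟩⁻¹ * ⟨g, hg.2⟩)).1 ?_
    rw [map_mul, map_inv, h6, inv_mul_cancel]

end Image

section Values

variable {X : Type*} [AddCommGroup X] [Module ℂ X] {ρ : Representation ℂ G X} {c : ℤ} {q : ℕ}
  {U : Subgroup Γ} {t t' g : G} {π : C t →* Γ}

/-- The value `c - q` at `t y`, `y` of odd order with image conjugate into `U`, not `1`. -/
def Val (ρ : Representation ℂ G X) (c : ℤ) (q : ℕ) (U : Subgroup Γ) (t : G) (π : C t →* Γ) : Prop :=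
  ∀ y : C t, Odd (orderOf (y : G)) → π y ≠ 1 → (∃ γ : Γ, γ * π y * γ⁻¹ ∈ U) →
    ρ.character (t * y) = (c : ℂ) - q

theorem orderOf_cj (g y : G) : orderOf (g * y * g⁻¹) = orderOf y :=
  InvCent.FusionCore.orderOf_conj g y

theorem Val.of (hl : Loc t π)
    (hv : ∀ y : C t, Odd (orderOf (y : G)) → π y ≠ 1 → π y ∈ U →
      ρ.character (t * y) = (c : ℂ) - q) : Val ρ c q U t π := by
  rintro y hy hy1 ⟨γ, hγ⟩
  obtain ⟨a, rfl⟩ := hl.surj γ
  have h1 := hv (a * y * a⁻¹) (by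
    have h2 : ((a * y * a⁻¹ : C t) : G) = a * y * (a : G)⁻¹ := rfl
    rw [h2, orderOf_cj]
    exact hy) (by
    rw [map_mul, map_mul, map_inv]
    intro h2
    exact hy1 (by
      rw [mul_inv_eq_one] at h2
      exact (mul_eq_left.1 h2))) (by rw [map_mul, map_mul, map_inv]; exact hγ)
  rw [← h1]
  have h2 : t * ((a * y * a⁻¹ : C t) : G) = (a : G) * (t * y) * (a : G)⁻¹ := by
    have h3 : (a : G) * t = t * a := mem_C.1 a.2
    show t * ((a : G) * y * (a : G)⁻¹) = _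
    calc t * ((a : G) * y * (a : G)⁻¹) = (t * a) * y * (a : G)⁻¹ := by group
      _ = _ := by rw [← h3]; group
  rw [h2, Representation.char_conj]

theorem Val.cj (hv : Val ρ c q U t π) (h : g * t * g⁻¹ = t') :
    Val ρ c q U t' (π.comp (cjHom h)) := by
  rintro y hy hy1 ⟨γ, hγ⟩
  have h1 := hv (cjHom h y) (by
    rw [cjHom_coe]
    have h2 := orderOf_cj g⁻¹ (y : G)
    rw [inv_inv] at h2
    rw [h2]
    exact hy) hy1 ⟨γ, hγ⟩
  rw [← h1, cjHom_coe]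
  have h2 : t' * (y : G) = g * (t * (g⁻¹ * y * g)) * g⁻¹ := by
    calc t' * (y : G) = (g * t * g⁻¹) * (y : G) := congrArg (· * (y : G)) h.symm
      _ = _ := by group
  rw [h2, Representation.char_conj]

theorem Val.inner (hv : Val ρ c q U t π) (γ₀ : Γ) :
    Val ρ c q U t ((MulAut.conj γ₀).toMonoidHom.comp π) := by
  rintro y hy hy1 ⟨γ, hγ⟩
  refine hv y hy (fun h => hy1 ?_) ⟨γ * γ₀, ?_⟩
  · show MulAut.conj γ₀ (π y) = 1
    rw [h, map_one]
  · have h1 : γ * (γ₀ * π y * γ₀⁻¹) * γ⁻¹ ∈ U := hγ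
    have h2 : γ * γ₀ * π y * (γ * γ₀)⁻¹ = γ * (γ₀ * π y * γ₀⁻¹) * γ⁻¹ := by group
    rwa [h2]

end Values

section Pair

variable {X : Type*} [AddCommGroup X] [Module ℂ X] [FiniteDimensional ℂ X]
  {ρ : Representation ℂ G X} {z : Γ} {p q n' : ℕ} {ε : ℤ} {Z T T' U : Subgroup Γ}
  {s s' υ : Γ} {b : Γ →* ℂˣ} {c : ℤ} {t u : G} {M : Subgroup G} {πt : C t →* Γ}

/-- The package for a pair. -/
theorem pkg_pair (hD : CData z q ε Z T T' U s s' υ b) (h4 : Four t u) (hu : u ∈ M)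
    (hc : Cov t M) (hf : ∀ x ∈ M, ∃ o ∈ OO M, ∃ n ∈ M ⊓ C t, x = o * n)
    (hb : K t ⊓ C u ≤ K u) (hb' : K u ⊓ C t ≤ K t)
    (hsw : ∃ g, g * t * g⁻¹ = u ∧ g * u * g⁻¹ = t)
    (hfl : ∃ w, w * t * w⁻¹ = t ∧ w * u * w⁻¹ = t * u)
    (hl : Loc t πt) (htz : ∀ ht : t ∈ C t, πt ⟨t, ht⟩ = z) (htu : ∀ hu : u ∈ C t, πt ⟨u, hu⟩ = υ)
    (hval : ε = 1 → Val ρ c q U t πt) (htr : ∀ y ∈ K t, ρ.character (t * y) = c)
    (hdim : (finrank ℂ X : ℤ) = (q ^ 2 - 1 : ℕ) + c + n') (hc0 : ε = 1 → 0 ≤ c)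
    (hlt : n' < q ^ 2 - 1)
    (hlb : ∀ Y : Subgroup G, Small t u Y → Cov t (normalizer (Y : Set G)) →
      finrank ℂ X ≤ finrank ℂ (fixed ρ Y) + n')
    (hp : p.Prime) (hpow : ∃ a, q = p ^ a) : ∃ N, Pkg p t u M N := by
  have hfin : Finite Γ := Finite.of_surjective πt hl.surj
  obtain ⟨g, hgt, hgu⟩ := id hsw
  have htC : t ∈ C t := self_mem_C t
  have huC : u ∈ C t := mem_C.2 h4.comm.symm
  have htu' : t ∈ C u := mem_C.2 h4.comm
  have huu' : u ∈ C u := self_mem_C u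
  set πu : C u →* Γ := πt.comp (cjHom hgt) with hπu
  have hlu : Loc u πu := hl.cj hgt
  have e1 : πu ⟨u, huu'⟩ = z := by
    rw [← htz htC]
    show πt (cjHom hgt ⟨u, huu'⟩) = _
    congr 1
    refine Subtype.ext ?_
    rw [cjHom_coe]
    show g⁻¹ * u * g = t
    rw [← hgt]; group
  have e2 : πu ⟨t, htu'⟩ = υ := by
    rw [← htu huC]
    show πt (cjHom hgt ⟨t, htu'⟩) = _
    congr 1
    refine Subtype.ext ?_
    rw [cjHom_coe]
    show g⁻¹ * t * g = u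
    rw [← hgu]; group
  have hC := hD.chyp
  have hF := FF_odd (πu := πu) (M := M)
  have hFn : ∀ τ ∈ T, ∀ f ∈ FF πu M, τ * f * τ⁻¹ ∈ FF πu M := fun τ hτ f hf =>
    FF_norm h4 hu hc hb hlu htu' (by rw [e2]; exact hC.T_comm _ hτ _ hC.u_mem) hf
  have hFi : ∀ f ∈ FF πu M, υ * f * υ⁻¹ = f⁻¹ := fun f hf => by
    have := FF_inv h4 hc hb hlu htu' hf
    rwa [e2] at this
  have alpha : FF πu M = ⊥ → ∃ N, Pkg p t u M N := fun h =>
    ⟨OO M, pkg_of_EE h4 hu hc hfl (EE_le_of_FF hlu h)⟩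
  rcases hC.eps with rfl | rfl
  · have hn := hD.norm₁ rfl
    have hZ := hD.card_Z
    obtain ⟨c, rfl⟩ := Int.eq_ofNat_of_zero_le (hc0 rfl)
    have h4' : ¬ 4 ∣ q - 1 := by
      obtain ⟨k, hk, hk'⟩ := hD.det.r_dvd
      have h1 := hC.one_lt_q
      rintro ⟨j, hj⟩
      obtain ⟨i, hi⟩ := hk
      omega
    -- both root groups
    have beta : ∀ E : Subgroup Γ, RootFacts T z υ E → FF πu M = E →
        (∀ v ∈ E, ∃ γ : Γ, γ * v * γ⁻¹ ∈ U) → Nat.card E = q → ∃ N, Pkg p t u M N := by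
      intro E hR hFE hEU hEq
      refine BetaPkg.BHyp.exists_pkg (ρ := ρ) (πt := πt) (q := q) (n' := n') (c := c) (ω := s)
        (I := U ⊔ zpowers υ) (P := N U) (I' := GammaOdd.cj s U ⊔ zpowers υ) (P' := cjS s (N U))
        { four := h4
          mem := hu
          cov := hc
          factor := hf
          bal := hb
          bal' := hb'
          swap := hsw
          surj := hl.surj
          ker := hl.ker
          gam := ?_
          gam' := ?_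
          dich := ?_
          root_card := ?_
          root_trans := ?_
          root_stab := ?_
          val := ?_
          trace := ?_
          dim := ?_
          lt := hlt
          lb := hlb
          prime := hp
          pow := hpow }
      · intro ht hu
        rw [htz, htu]
        exact gam hC hn hZ
      · intro ht hu
        rw [htz, htu]
        exact gam' hC hn hZ
      · intro hu
        rw [htu]
        exact dich hC hn hD.det hZ h4'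
      · exact root_card_of hlu (by rw [hFE, hEq])
      · exact root_trans_of (T := T) h4 hlu htu'
          (fun τ hτ => by rw [e2]; exact hC.T_comm _ hτ _ hC.u_mem) hR.trans hFE
      · exact root_stab_of (T := T) h4 hlu htu' huu'
          (fun γ hγ => by rw [e2] at hγ; exact GammaOdd.cent_u hC hn hγ.symm)
          (by rw [e1]; exact hR.cent) hFE
      · refine ⟨(c : ℂ) - q, fun x hx => ⟨fun hxK => ?_, fun hxK => ?_⟩⟩
        · have h1 := htr (g⁻¹ * x * g) (by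
            have h2 := conj_K (w := g⁻¹) (x := u) (y := t) (by rw [← hgt]; group) hxK
            rwa [inv_inv] at h2)
          have h2 : u * x = g * (t * (g⁻¹ * x * g)) * g⁻¹ := by rw [← hgt]; group
          rw [h2, Representation.char_conj, h1, Int.cast_natCast]
          ring
        · have h1 := ((hval rfl).cj hgt) ⟨x, EE_le_C hx⟩ ?_ ?_ ?_
          · rw [Int.cast_natCast] at h1
            exact h1
          · have h2 : orderOf x ∣ Nat.card (EE u M) := by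
              have := orderOf_dvd_natCard (⟨x, hx⟩ : EE u M)
              rwa [← Subgroup.orderOf_coe] at this
            have h3 : Odd (Nat.card (EE u M)) := by
              rw [← Nat.not_even_iff_odd, even_iff_two_dvd]
              exact EE_odd
            exact h3.of_dvd_nat h2
          · exact fun h => hxK ((hlu.ker _).1 h)
          · exact hEU _ (hFE ▸ mem_FF.2 ⟨⟨x, EE_le_C hx⟩, hx, rfl⟩)
      · intro y hy
        rw [htr y hy, Int.cast_natCast]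
      · have : (finrank ℂ X : ℤ) = ((q ^ 2 - 1 + c + n' : ℕ) : ℤ) := by
          rw [hdim]; push_cast; ring
        exact_mod_cast this
    rcases normed_inverted hC hn hZ hF hFn hFi with h | h | h
    · exact alpha h
    · exact beta U (rootFacts hC hn hZ) h (fun v hv => ⟨1, by simpa using hv⟩) hC.card_U
    · refine beta (GammaOdd.cj s U) (rootFacts' hC hn hZ) h (fun v hv => ⟨s⁻¹, ?_⟩)
        (by rw [card_cj, hC.card_U])
      rw [inv_inv]
      exact mem_cj.1 hv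
  · exact alpha (normed_inverted_neg hC (hD.norm₂ rfl) hF hFn hFi)

/-- A homomorphism adapted to the pair `(t, u)`. -/
theorem exists_loc (hC : CHyp z q ε Z T T' U s s' υ) (h4 : Four t u) {t₀ : G} {π₀ : C t₀ →* Γ}
    (hl : Loc t₀ π₀) (h0 : ∀ h : t₀ ∈ C t₀, π₀ ⟨t₀, h⟩ = z) (ho : ∃ g, g * t₀ * g⁻¹ = t)
    (hval : ε = 1 → Val ρ c q U t₀ π₀) :
    ∃ π : C t →* Γ, Loc t π ∧ (∀ ht : t ∈ C t, π ⟨t, ht⟩ = z) ∧
      (∀ hu : u ∈ C t, π ⟨u, hu⟩ = υ) ∧ (ε = 1 → Val ρ c q U t π) := by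
  obtain ⟨g, hg⟩ := ho
  have htC : t ∈ C t := self_mem_C t
  have huC : u ∈ C t := mem_C.2 h4.comm.symm
  have hl1 : Loc t (π₀.comp (cjHom hg)) := hl.cj hg
  set π₁ : C t →* Γ := π₀.comp (cjHom hg) with hπ₁
  have e1 : π₁ ⟨t, htC⟩ = z := by
    rw [← h0 (self_mem_C t₀)]
    show π₀ (cjHom hg ⟨t, htC⟩) = _
    congr 1
    refine Subtype.ext ?_
    rw [cjHom_coe]
    show g⁻¹ * t * g = t₀
    rw [← hg]; group
  have hodd : ∀ x : G, x * x = 1 → x ∈ K t → x = 1 := by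
    intro x hx hxK
    have h1 : orderOf x ∣ 2 := orderOf_dvd_of_pow_eq_one (by rw [sq, hx])
    rcases (Nat.dvd_prime Nat.prime_two).1 h1 with h2 | h2
    · exact orderOf_eq_one_iff.1 h2
    · exfalso
      have h3 := orderOf_dvd_natCard (⟨x, hxK⟩ : K t)
      rw [← Subgroup.orderOf_coe] at h3
      have h5 : orderOf x ∣ Nat.card (K t) := h3
      rw [h2] at h5
      exact core_odd t h5
  have e2 : orderOf (π₁ ⟨u, huC⟩) = 2 := by
    rw [orderOf_eq_prime_iff]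
    constructor
    · rw [← map_pow]
      have h1 : (⟨u, huC⟩ : C t) ^ 2 = 1 := Subtype.ext (by
        show u ^ 2 = 1
        rw [sq, h4.uu])
      rw [h1, map_one]
    · intro h1
      exact h4.u1 (hodd u h4.uu ((hl1.ker _).1 h1))
  have e3 : π₁ ⟨u, huC⟩ ≠ z := by
    intro h1
    have h2 : π₁ (⟨t, htC⟩ * ⟨u, huC⟩) = 1 := by
      rw [map_mul, e1, h1]
      have h3 := pow_orderOf_eq_one z
      rwa [hC.orderOf_t, sq] at h3
    have h3 : t * u ∈ K t := (hl1.ker _).1 h2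
    have h5 : t * u = 1 := hodd (t * u) (by
      calc t * u * (t * u) = t * (u * t) * u := by group
        _ = t * (t * u) * u := by rw [h4.comm]
        _ = (t * t) * (u * u) := by group
        _ = 1 := by rw [h4.tt, h4.uu, one_mul]) h3
    apply h4.ne
    calc t = t * (u * u) := by rw [h4.uu, mul_one]
      _ = (t * u) * u := by group
      _ = u := by rw [h5, one_mul]
  obtain ⟨γ, hγ⟩ := (FusionCore.eq_or_conj hC e2).resolve_left e3
  refine ⟨(MulAut.conj γ).toMonoidHom.comp π₁, hl1.inner γ, fun ht => ?_, fun hu => hγ,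
    fun h => ((hval h).cj hg).inner γ⟩
  show γ * π₁ ⟨t, ht⟩ * γ⁻¹ = z
  rw [e1]
  exact FusionCore.conj_t hC γ

/-- **The field `pkg` of `Frame`.** -/
theorem pkg_all (hD : CData z q ε Z T T' U s s' υ b) {t₀ : G} {π₀ : C t₀ →* Γ}
    (hl : Loc t₀ π₀) (h0 : ∀ h : t₀ ∈ C t₀, π₀ ⟨t₀, h⟩ = z)
    (hone : ∀ t : G, t * t = 1 → t ≠ 1 → ∃ g, g * t₀ * g⁻¹ = t)
    (hval : ε = 1 → ∀ y : C t₀, Odd (orderOf (y : G)) → π₀ y ≠ 1 → π₀ y ∈ U →
      ρ.character (t₀ * y) = (c : ℂ) - q)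
    (swap : ∀ t u : G, Four t u → ∃ g, g * t * g⁻¹ = u ∧ g * u * g⁻¹ = t)
    (flip : ∀ t u : G, Four t u → ∃ w, w * t * w⁻¹ = t ∧ w * u * w⁻¹ = t * u)
    (balance : ∀ t u : G, Four t u → K t ⊓ C u ≤ K u)
    (trace : ∀ t : G, t * t = 1 → t ≠ 1 → ∀ y ∈ K t, ρ.character (t * y) = c)
    (dim : (finrank ℂ X : ℤ) = (q ^ 2 - 1 : ℕ) + c + n') (hc0 : ε = 1 → 0 ≤ c)
    (lt : n' < q ^ 2 - 1)
    (lb : ∀ (t u : G) (Y : Subgroup G), Four t u → Small t u Y →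
      Cov t (normalizer (Y : Set G)) → finrank ℂ X ≤ finrank ℂ (fixed ρ Y) + n')
    (factor : ∀ (t u : G) (M : Subgroup G), Four t u → u ∈ M → Cov t M → M ≠ ⊤ →
      ∀ x ∈ M, ∃ o ∈ OO M, ∃ n ∈ M ⊓ C t, x = o * n)
    (hp : p.Prime) (hpow : ∃ a, q = p ^ a) :
    ∀ (t u : G) (M : Subgroup G), Four t u → u ∈ M → Cov t M → M ≠ ⊤ → ∃ N, Pkg p t u M N := by
  intro t u M h4 hu hc hM
  obtain ⟨π, h1, h2, h3, h5⟩ := exists_loc hD.chyp h4 hl h0 (hone t h4.tt h4.t1)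
    (fun h => Val.of hl (hval h))
  have h4' : Four u t := ⟨h4.uu, h4.tt, h4.comm.symm, h4.u1, h4.t1, h4.ne.symm⟩
  exact pkg_pair hD h4 hu hc (factor t u M h4 hu hc hM) (balance t u h4) (balance u t h4')
    (swap t u h4) (flip t u h4) h1 h2 h3 h5 (trace t h4.tt h4.t1) dim hc0 lt
    (fun Y hY hcov => lb t u Y h4 hY hcov) hp hpow

end Pair

end Cfsg.Agent.Classification.QDW.PkgAll
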