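import Mathlib
import Cfsg.Agent.Classification.QDW.PkgAll
import Cfsg.Agent.Classification.QDW.ThetaLB

/-!
# The fields `swap`, `flip`, `self` of `Frame`

`G` has one class of involutions and `C(t₀)/K t₀` is of type `SL₂(q)⟨u⟩`.
-/

set_option autoImplicit false
set_option linter.unusedSectionVars false
set_option linter.unusedVariables false

namespace Cfsg.Agent.Classification.QDW.FrameSmall

open Subgroup Cfsg Module
open Cfsg.Agent.Walter.SylowIn Cfsg.Agent.Walter.OddCoreIn Cfsg.Agent.Walter.Cover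
open Cfsg.Agent.Classification.InvCent
open Cfsg.Agent.Classification.QDW.Theta Cfsg.Agent.Classification.QDW.BetaGam
open Cfsg.Agent.Classification.QDW.PkgAll

universe u v

variable {G : Type u} [Group G] [Finite G] {Γ : Type v} [Group Γ]
  {z : Γ} {q : ℕ} {ε : ℤ} {Z T T' U : Subgroup Γ} {s s' υ : Γ} {t₀ : G} {π₀ : C t₀ →* Γ}

/-- The hypotheses: one class of involutions and `C(t₀)/K t₀ ≅ Γ` of type `GL₂(q)/Z₀`. -/
structure One (z : Γ) (q : ℕ) (ε : ℤ) (Z T T' U : Subgroup Γ) (s s' υ : Γ) (t₀ : G)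
    (π₀ : C t₀ →* Γ) : Prop where
  chyp : CHyp z q ε Z T T' U s s' υ
  loc : Loc t₀ π₀
  map_t : ∀ h : t₀ ∈ C t₀, π₀ ⟨t₀, h⟩ = z
  one : ∀ t : G, t * t = 1 → t ≠ 1 → ∃ g, g * t₀ * g⁻¹ = t

/-- The properties of `π : C t →* Γ` for a pair `(t, u)`. -/
structure PairHom (z υ : Γ) (t u : G) (π : C t →* Γ) : Prop where
  loc : Loc t π
  map_t : ∀ h : t ∈ C t, π ⟨t, h⟩ = z
  map_u : ∀ h : u ∈ C t, π ⟨u, h⟩ = υ

theorem Four.u_mem {t u : G} (h : Four t u) : u ∈ C t := mem_C.2 h.comm.symm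

theorem eq_one_of_mem_K {t x : G} (hx : x * x = 1) (hxK : x ∈ K t) : x = 1 := by
  have h1 : orderOf x ∣ 2 := orderOf_dvd_of_pow_eq_one (by rw [sq, hx])
  rcases (Nat.dvd_prime Nat.prime_two).1 h1 with h2 | h2
  · exact orderOf_eq_one_iff.1 h2
  · exfalso
    have h3 := orderOf_dvd_natCard (⟨x, hxK⟩ : K t)
    rw [← Subgroup.orderOf_coe] at h3
    have h5 : orderOf x ∣ Nat.card (K t) := h3
    rw [h2] at h5
    exact core_odd t h5

/-- For a transport `π : C t →* Γ` with `π t = z`, the image of an involution `v ≠ t` of `C(t)` is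
an involution different from `z`. -/
theorem orderOf_map {t v : G} {π : C t →* Γ} (hl : Loc t π) (hz : ∀ h : t ∈ C t, π ⟨t, h⟩ = z)
    (h4 : Four t v) : orderOf (π ⟨v, Four.u_mem h4⟩) = 2 ∧ π ⟨v, Four.u_mem h4⟩ ≠ z := by
  constructor
  · rw [orderOf_eq_prime_iff]
    constructor
    · rw [← map_pow]
      have h1 : (⟨v, Four.u_mem h4⟩ : C t) ^ 2 = 1 := Subtype.ext (by
        show v ^ 2 = 1
        rw [sq, h4.uu])
      rw [h1, map_one]
    · intro h1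
      exact h4.u1 (eq_one_of_mem_K h4.uu ((hl.ker _).1 h1))
  · intro h1
    have h2 : π (⟨t, self_mem_C t⟩⁻¹ * ⟨v, Four.u_mem h4⟩) = 1 := by
      rw [map_mul, map_inv, hz, h1, inv_mul_cancel]
    have h3 : t⁻¹ * v ∈ K t := (hl.ker _).1 h2
    rw [h4.inv_t] at h3
    exact h4.tu1 (eq_one_of_mem_K h4.tutu h3)

theorem One.exists_loc (h : One z q ε Z T T' U s s' υ t₀ π₀) {t u : G} (h4 : Four t u) :
    ∃ π : C t →* Γ, PairHom z υ t u π := by
  obtain ⟨g, hg⟩ := h.one t h4.tt h4.t1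
  have hl1 : Loc t (π₀.comp (cjHom hg)) := h.loc.cj hg
  set π₁ : C t →* Γ := π₀.comp (cjHom hg) with hπ₁
  have e1 : ∀ ht : t ∈ C t, π₁ ⟨t, ht⟩ = z := by
    intro ht
    rw [← h.map_t (self_mem_C t₀)]
    show π₀ (cjHom hg ⟨t, ht⟩) = _
    congr 1
    refine Subtype.ext ?_
    rw [cjHom_coe]
    show g⁻¹ * t * g = t₀
    rw [← hg]; group
  obtain ⟨e2, e3⟩ := orderOf_map hl1 e1 h4
  obtain ⟨γ, hγ⟩ := (FusionCore.eq_or_conj h.chyp e2).resolve_left e3
  refine ⟨(MulAut.conj γ).toMonoidHom.comp π₁, hl1.inner γ, fun ht => ?_, fun hu => hγ⟩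
  show γ * π₁ ⟨t, ht⟩ * γ⁻¹ = z
  rw [e1]
  exact FusionCore.conj_t h.chyp γ

/-- Lifting of a conjugation of involutions. -/
theorem PairHom.exists_conj {t u a b : G} {π : C t →* Γ} (hπ : PairHom z υ t u π)
    (ha : a * a = 1) (hb : b * b = 1) (haC : a ∈ C t) (hbC : b ∈ C t) {γ : Γ}
    (hγ : γ * π ⟨a, haC⟩ * γ⁻¹ = π ⟨b, hbC⟩) :
    ∃ c : C t, π c = γ ∧ (c : G) * a * (c : G)⁻¹ = b := by
  obtain ⟨c, hc, hca⟩ := exists_lift_one π hπ.loc.surj hπ.loc.odd_ker (a := (⟨a, haC⟩ : C t))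
    (b := ⟨b, hbC⟩) (Subtype.ext ha) (Subtype.ext hb) hγ
  exact ⟨c, hc, congrArg Subtype.val hca⟩

/-- `C(t)` is transitive on its involutions `≠ t`. -/
theorem One.trans (h : One z q ε Z T T' U s s' υ t₀ π₀) (t : G) : Trans t := by
  intro u v h4 h4'
  obtain ⟨π, hπ⟩ := h.exists_loc h4
  obtain ⟨e2, e3⟩ := orderOf_map hπ.loc hπ.map_t h4'
  obtain ⟨γ, hγ⟩ := (FusionCore.eq_or_conj h.chyp e2).resolve_left e3
  obtain ⟨c, -, hc⟩ := hπ.exists_conj (a := v) (b := u) h4'.uu h4.uu (Four.u_mem h4')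
    (Four.u_mem h4) (γ := γ) (by rw [hγ, hπ.map_u])
  refine ⟨(c : G)⁻¹, inv_mem c.2, ?_⟩
  rw [← hc]; group

/-- The field `flip`. -/
theorem One.flip (h : One z q ε Z T T' U s s' υ t₀ π₀) (t u : G) (h4 : Four t u) :
    ∃ w, w * t * w⁻¹ = t ∧ w * u * w⁻¹ = t * u := by
  obtain ⟨c, hc, hcu⟩ := h.trans t u (t * u) h4 h4.mulRight
  refine ⟨c, ?_, hcu⟩
  rw [mem_C.1 hc, mul_inv_cancel_right]

/-- The field `swap`. -/
theorem One.swap (h : One z q ε Z T T' U s s' υ t₀ π₀) (t u : G) (h4 : Four t u) :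
    ∃ g, g * t * g⁻¹ = u ∧ g * u * g⁻¹ = t := by
  obtain ⟨a, ha⟩ := h.one t h4.tt h4.t1
  obtain ⟨b, hb⟩ := h.one u h4.uu h4.u1
  have hk : (b * a⁻¹) * t * (b * a⁻¹)⁻¹ = u := by rw [← ha, ← hb]; group
  have h5 : Four u ((b * a⁻¹) * u * (b * a⁻¹)⁻¹) := by
    have := h4.conj (b * a⁻¹)
    rwa [hk] at this
  obtain ⟨c, hc, hct⟩ := h.trans u _ t h5 h4.symm
  refine ⟨c * (b * a⁻¹), ?_, ?_⟩
  · calc c * (b * a⁻¹) * t * (c * (b * a⁻¹))⁻¹ = c * ((b * a⁻¹) * t * (b * a⁻¹)⁻¹) * c⁻¹ := by group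
      _ = u := by rw [hk, mem_C.1 hc, mul_inv_cancel_right]
  · calc c * (b * a⁻¹) * u * (c * (b * a⁻¹))⁻¹ = c * ((b * a⁻¹) * u * (b * a⁻¹)⁻¹) * c⁻¹ := by group
      _ = t := hct

/-- The field `self`. -/
theorem One.self (h : One z q ε Z T T' U s s' υ t₀ π₀) (hZ : Nat.card Z = 2) (t u : G)
    (h4 : Four t u) (x : G) (hx : x * x = 1) (hx1 : x ≠ 1) (hxt : x * t = t * x)
    (hxu : x * u = u * x) : Mem3 t u x := by
  obtain ⟨π, hπ⟩ := h.exists_loc h4
  have hC := h.chyp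
  have hxC : x ∈ C t := mem_C.2 hxt
  have huC := Four.u_mem h4
  have huZ : υ ∉ Z := by
    intro h1
    have h2 := hC.s_u
    have h3 := hC.Z_central υ h1 s
    rw [h3, mul_assoc, mul_inv_cancel, mul_one] at h2
    have h5 := hC.orderOf_t
    have h2 : z = 1 := mul_right_cancel (h2.symm.trans (one_mul υ).symm)
    rw [h2, orderOf_one] at h5
    omega
  have hT : π ⟨x, hxC⟩ ∈ T := by
    refine hC.cent_T υ hC.u_mem huZ _ ?_
    rw [← hπ.map_u huC, ← map_mul, ← map_mul]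
    congr 1
    exact Subtype.ext hxu
  have h2 : π ⟨x, hxC⟩ * π ⟨x, hxC⟩ = 1 := by
    rw [← map_mul]
    have h1 : (⟨x, hxC⟩ : C t) * ⟨x, hxC⟩ = 1 := Subtype.ext hx
    rw [h1, map_one]
  -- if `π x = π a` then `x = a`
  have key : ∀ a (haC : a ∈ C t), a * a = 1 → x * a = a * x → π ⟨x, hxC⟩ = π ⟨a, haC⟩ → x = a := by
    intro a haC haa hxa he
    have h3 : x * a⁻¹ ∈ K t := by
      refine (hπ.loc.ker (⟨x, hxC⟩ * ⟨a, haC⟩⁻¹)).1 ?_
      rw [map_mul, map_inv, he, mul_inv_cancel]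
    rw [inv_eq_of_mul_eq_one_left haa] at h3
    have h5 := eq_one_of_mem_K (by
      calc x * a * (x * a) = x * (a * x) * a := by group
        _ = x * (x * a) * a := by rw [hxa]
        _ = (x * x) * (a * a) := by group
        _ = 1 := by rw [hx, haa, one_mul]) h3
    calc x = x * (a * a) := by rw [haa, mul_one]
      _ = (x * a) * a := by group
      _ = a := by rw [h5, one_mul]
  rcases hC.invol_T _ hT h2 with h3 | h3 | h3 | h3
  · exact absurd (key 1 (one_mem _) (one_mul 1) (by rw [mul_one, one_mul]) (by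
      rw [h3]; exact (map_one π).symm)) hx1
  · exact Or.inl (key t (self_mem_C t) h4.tt hxt (by rw [h3, hπ.map_t]))
  · exact Or.inr (Or.inl (key u huC h4.uu hxu (by rw [h3, hπ.map_u])))
  · refine Or.inr (Or.inr (key (t * u) (mul_mem (self_mem_C t) huC) h4.tutu ?_ ?_))
    · calc x * (t * u) = (x * t) * u := by group
        _ = t * (x * u) := by rw [hxt]; group
        _ = t * u * x := by rw [hxu]; group
    · have h5 : (⟨t * u, mul_mem (self_mem_C t) huC⟩ : C t) = ⟨t, self_mem_C t⟩ * ⟨u, huC⟩ := rfl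
      rw [h5, map_mul, hπ.map_t, hπ.map_u, h3]

/-- The field `core_bot`. -/
theorem core_bot [IsSimpleGroup G] {t : G} (htt : t * t = 1) (ht1 : t ≠ 1) (N : Subgroup G)
    (hN : N.Normal) (hodd : ¬ 2 ∣ Nat.card N) : N = ⊥ := by
  rcases hN.eq_bot_or_eq_top with h1 | h1
  · exact h1
  · exfalso
    apply hodd
    rw [h1, Subgroup.card_top]
    have h2 : orderOf t = 2 := by
      rw [orderOf_eq_prime_iff]
      exact ⟨by rw [sq, htt], ht1⟩
    rw [← h2]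
    exact orderOf_dvd_natCard t

end Cfsg.Agent.Classification.QDW.FrameSmall
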