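import Mathlib
import Cfsg.Agent.Classification.QDW.FrameSmall
import Cfsg.Agent.Classification.QDW.FrameLB
import Cfsg.Agent.Classification.QDW.FrameImg

/-!
# Assembly of `Frame`

`frame_of`: all fields of `Frame` from `General.Hyp`, `CData`, the values `DVal` of the character of
`ρ`, type D, the numbers and (F1).
-/

set_option autoImplicit false
set_option linter.unusedSectionVars false
set_option linter.unusedVariables false

namespace Cfsg.Agent.Classification.QDW.FrameOf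

open Subgroup Cfsg Module
open Cfsg.Agent.Walter.SylowIn Cfsg.Agent.Walter.OddCoreIn Cfsg.Agent.Walter.Cover
open Cfsg.Agent.Characters Cfsg.Agent.Classification.InvCent
open Cfsg.Agent.Classification.QDW.InstC Cfsg.Agent.Classification.QDW.InstGamma
open Cfsg.Agent.Classification.QDW.InstLB Cfsg.Agent.Classification.QDW.InstG
open Cfsg.Agent.Classification.QDW.RelH Cfsg.Agent.Classification.QDW.Theta
open Cfsg.Agent.Classification.QDW.FrameLB Cfsg.Agent.Classification.QDW.FrameSmall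
open Cfsg.Agent.Classification.RTwo

universe u v

variable {G : Type u} [Group G] {Q : Type v} [Group Q]

section Values

variable [Fintype G] [Fintype Q] {z : Q} {q : ℕ} {Z T T' U : Subgroup Q} {s s' u₀ : Q}
  {b : Q →* ℂˣ} {μ : U →* ℂˣ} {t : G} {π : C t →* Q} {ε : ℤ}

/-- `z` is a power of `z v`, `v` of odd order. -/
theorem z_mem_zpowers (hC : CHyp z q ε Z T T' U s s' u₀) {v : Q} (hv : Odd (orderOf v)) :
    z ∈ zpowers (z * v) := by
  have hzz : z * z = 1 := by
    have := pow_orderOf_eq_one z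
    rwa [hC.orderOf_t, sq] at this
  have hc : Commute z v := (hC.Z_central z hC.t_mem v).symm
  have h1 : (z * v) ^ orderOf v = z := by
    rw [hc.mul_pow, pow_orderOf_eq_one, mul_one, InstGamma.pow_odd_of_sq hzz hv]
  have h2 := pow_mem (Subgroup.mem_zpowers (z * v)) (orderOf v)
  rwa [h1] at h2

theorem odd_of_mem_U (hC : CHyp z q ε Z T T' U s s' u₀) {v : Q} (hv : v ∈ U) :
    Odd (orderOf v) := by
  have h1 : orderOf v ∣ Nat.card U := by
    rw [← Subgroup.orderOf_mk (H := U) v hv]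
    exact orderOf_dvd_natCard _
  rw [hC.card_U] at h1
  exact hC.odd_q.of_dvd_nat h1

/-- The value of the Steinberg character at `z v`. -/
theorem St_zU (hC : CHyp z q ε Z T T' U s s' u₀) (hμ : ∃ v : U, μ v ≠ 1) {v : Q} (hv : v ∈ U)
    (hv1 : v ≠ 1) : St hC μ (z * v) = 0 := by
  unfold St
  rw [hC.torus.R_ZU hC.base hμ _ hC.t_mem hv hv1]
  ring

/-- The value at `y`, `π y = z v`. -/
theorem val_zU {hC : CHyp z q ε Z T T' U s s' u₀} {X : G → ℂ} {σ c : ℤ}
    (hX : DVal hC μ π X σ c) (hμ : ∃ v : U, μ v ≠ 1) {y : C t} {v : Q} (hv : v ∈ U) (hv1 : v ≠ 1)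
    (hy : π y = z * v) : X y = σ * c := by
  have h1 := hX.val y (by rw [hy]; exact z_mem_zpowers hC (odd_of_mem_U hC hv))
  rw [hy, St_zU hC hμ hv hv1] at h1
  rw [h1]; ring

end Values

section Main

variable [Fintype G] [Fintype Q] {z : Q} {q : ℕ} {ε : ℤ} {Z T T' U : Subgroup Q} {s s' u₀ : Q}
  {b : Q →* ℂˣ} {μ : U →* ℂˣ} {t₀ : G} {π₀ : C t₀ →* Q}

/-- The data as `One`. -/
theorem one_of (H : General.Hyp t₀ z π₀) (hk : ∀ x : C t₀, π₀ x = 1 ↔ (x : G) ∈ K t₀)
    (h : CHyp z q ε Z T T' U s s' u₀) : One z q ε Z T T' U s s' u₀ t₀ π₀ where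
  chyp := h
  loc := ⟨H.surj, hk⟩
  map_t := H.map_t
  one := by
    intro t htt ht1
    have ho : orderOf t = 2 := orderOf_eq_prime (by rw [sq, htt]) ht1
    exact isConj_iff.1 (H.one_class t ho)

/-- **Assembly of `Frame`.** -/
theorem frame_of [IsSimpleGroup G] (H : General.Hyp t₀ z π₀)
    (hk : ∀ x : C t₀, π₀ x = 1 ↔ (x : G) ∈ K t₀)
    (hD : CData z q ε Z T T' U s s' u₀ b) (hq : 5 ≤ q) (hμ : ∃ v : U, μ v ≠ 1)
    {X : Type*} [AddCommGroup X] [Module ℂ X] [FiniteDimensional ℂ X] {ρ : Representation ℂ G X}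
    {σ c : ℤ} (hX : DVal hD.chyp μ π₀ ρ.character σ c) (hσ : σ = 1 ∨ σ = -1)
    (hσ1 : ε = 1 → σ = 1) (hc : c = 0 ∨ c = 1) (hconst : Const ρ)
    (hbal : ∀ t u : G, Four t u → K t ⊓ C u ≤ K u) {p n' : ℕ}
    (hdim : (finrank ℂ X : ℤ) = ((q ^ 2 - 1 : ℕ) : ℤ) + σ * (c + ε * q) + n')
    (hlt : n' < q ^ 2 - 1) (hlt1 : ε = 1 → (n' : ℤ) < q ^ 2 - q)
    (hsolv : ∀ Y : Subgroup G, ¬ 2 ∣ Nat.card Y → Group.IsSolvable Y)
    {F : Type*} [Field F] [Fintype F]
    (hj : ε = 1 → Fintype.card F = q ∧ ∃ j : Matrix.SpecialLinearGroup (Fin 2) F →* Q,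
      j (-1) = z ∧ ∀ a, j (Cfsg.Agent.Lib.SL2Hom.up a) ∈ U)
    (hfac : ∀ (t u : G) (M : Subgroup G), Four t u → u ∈ M → Cov t M → M ≠ ⊤ →
      ∀ x ∈ M, ∃ o ∈ OO M, ∃ n ∈ M ⊓ C t, x = o * n)
    (hp : p.Prime) (hpow : ∃ a, q = p ^ a) :
    Frame ρ p (q ^ 2 - 1) n' (σ * (c + ε * q)) := by
  have hO := one_of H hk hD.chyp
  have hC := hD.chyp
  have ht0 : t₀ * t₀ = 1 := by
    have := pow_orderOf_eq_one t₀
    rwa [H.orderOf_t, sq] at this
  have ht01 : t₀ ≠ 1 := by
    intro h1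
    have := H.orderOf_t
    rw [h1, orderOf_one] at this
    omega
  have hlb := lb_of_data H hk hD hq hμ hX hσ hc hconst hbal hdim
  have hval0 : ρ.character t₀ = σ * (c + ε * q) := hX.at_t H
  have htrace : ∀ t : G, t * t = 1 → t ≠ 1 → ∀ y ∈ K t,
      ρ.character (t * y) = ((σ * (c + ε * q) : ℤ) : ℂ) := by
    intro t htt ht1 y hy
    obtain ⟨g, hg⟩ := hO.one t htt ht1
    rw [hconst t t y htt ht1 hy (mem_zpowers t), ← hg, Representation.char_conj, hval0]
    push_cast
    ring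
  have hswap := swap_of H hk hD
  have hflip := flip_of H hk hC
  have hpkg := PkgAll.pkg_all (ρ := ρ) (p := p) (n' := n') (c := σ * (c + ε * q)) hD (π₀ := π₀)
    hO.loc H.map_t hO.one ?_ hswap hflip hbal htrace hdim ?_ hlt hlb hfac hp hpow
  · exact
      { core_bot := fun N hN h2 => core_bot ht0 ht01 N hN h2
        solvable := hsolv
        swap := hswap
        flip := hflip
        self := fun t u h4 => hO.self hD.card_Z t u h4
        balance := hbal
        trace := htrace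
        dim := hdim
        lt := hlt
        lb := hlb
        factor := hfac
        pkg := hpkg
        img := by
          intro t u D S h4 hDs hDC hKD hDS hS hSt hSu hSC hfin y hy hyC
          have hu : u ∈ C t := mem3_u.mem_C h4 mem3_t
          obtain ⟨π, hr, Hπ, hker, hπu⟩ := exists_pi H hk hC h4 hu
          have hv := dval_rel hX H hr
          refine FrameImg.img_of (F := F) hD h4 Hπ.surj hker (Hπ.map_t (self_mem_C t)) hπu ?_ hDs
            hDC hKD hDS hS hSt hSu hSC (hlb t u D h4 hDs (cov_of_le hDC)) hfin hy hyC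
          intro hε
          obtain ⟨hF, j, hj1, hj2⟩ := hj hε
          have hσ' := hσ1 hε
          subst hε
          subst hσ'
          refine ⟨hF, ⟨j, hj1, hj2⟩, hconst, hlt1 rfl, c + q, c, ?_, by ring, ?_, ?_⟩
          · rw [hdim, Nat.cast_sub (Nat.one_le_pow _ _ (by omega))]
            push_cast
            ring
          · have := htrace t h4.tt h4.t1 1 (one_mem _)
            rw [mul_one] at this
            rw [this]
            push_cast
            ring
          · intro y v hvU hv1 hy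
            have := val_zU hv hμ hvU hv1 hy
            rw [this]
            push_cast
            ring
        img' := by
          intro t u w S h4 hwt hwu hS hSt hSu hSw hSC y hy hyC
          have hu : u ∈ C t := mem3_u.mem_C h4 mem3_t
          obtain ⟨π, hr, Hπ, hker, hπu⟩ := exists_pi H hk hC h4 hu
          exact FrameImg.img'_of hD h4 Hπ.surj hker (Hπ.map_t (self_mem_C t)) hπu hwt hwu hS hSt
            hSu hSw hSC hy hyC }
  · intro hε y hy hy1 hyU
    have hσ' := hσ1 hε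
    subst hε
    subst hσ'
    have h1 : π₀ (General.tt t₀ * y) = z * π₀ y := by rw [map_mul, General.map_tt H]
    have h2 := val_zU hX hμ hyU hy1 h1
    have h3 : (General.tt t₀ * y : C t₀) = (⟨t₀ * (y : G), (General.tt t₀ * y).2⟩ : C t₀) := rfl
    have h4 : ρ.character (t₀ * y) = ((1 : ℤ) : ℂ) * c := h2
    rw [h4]
    push_cast
    ring
  · intro hε
    rw [hσ1 hε, hε]
    rcases hc with rfl | rfl <;> omega

/-- There is a pair `(t₀, u)`. -/
theorem exists_four (H : General.Hyp t₀ z π₀) (hC : CHyp z q ε Z T T' U s s' u₀) :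
    ∃ u, Four t₀ u := by
  obtain ⟨u, w, hG⟩ := exists_ghyp H hC
  have h1 : t₀ * t₀ = 1 := by
    have := pow_orderOf_eq_one t₀
    rwa [H.orderOf_t, sq] at this
  refine ⟨u, h1, congrArg Subtype.val hG.uu, (mem_C.1 u.2).symm, ?_, ?_, ?_⟩
  · intro h2
    have := H.orderOf_t
    rw [h2, orderOf_one] at this
    omega
  · intro h2
    have h3 : u = 1 := Subtype.ext h2
    have h4 := hG.map_u
    rw [h3, map_one] at h4
    have := hC.orderOf_u
    rw [← h4, orderOf_one] at this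
    omega
  · intro h2
    have h3 : u = General.tt t₀ := Subtype.ext h2.symm
    have h4 := hG.map_u
    rw [h3, General.map_tt H] at h4
    exact hC.u_ne h4.symm

/-- **The core of `C(t₀)` is trivial.** -/
theorem core_eq_bot [IsSimpleGroup G] (H : General.Hyp t₀ z π₀)
    (hk : ∀ x : C t₀, π₀ x = 1 ↔ (x : G) ∈ K t₀)
    (hD : CData z q ε Z T T' U s s' u₀ b) (hq : 5 ≤ q) (hμ : ∃ v : U, μ v ≠ 1)
    {X : Type*} [AddCommGroup X] [Module ℂ X] [FiniteDimensional ℂ X] {ρ : Representation ℂ G X}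
    {σ c : ℤ} (hX : DVal hD.chyp μ π₀ ρ.character σ c) (hσ : σ = 1 ∨ σ = -1)
    (hσ1 : ε = 1 → σ = 1) (hc : c = 0 ∨ c = 1) (hconst : Const ρ)
    (hbal : ∀ t u : G, Four t u → K t ⊓ C u ≤ K u) {p n' : ℕ}
    (hdim : (finrank ℂ X : ℤ) = ((q ^ 2 - 1 : ℕ) : ℤ) + σ * (c + ε * q) + n')
    (hlt : n' < q ^ 2 - 1) (hlt1 : ε = 1 → (n' : ℤ) < q ^ 2 - q)
    (hsolv : ∀ Y : Subgroup G, ¬ 2 ∣ Nat.card Y → Group.IsSolvable Y)
    {F : Type*} [Field F] [Fintype F]
    (hj : ε = 1 → Fintype.card F = q ∧ ∃ j : Matrix.SpecialLinearGroup (Fin 2) F →* Q,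
      j (-1) = z ∧ ∀ a, j (Cfsg.Agent.Lib.SL2Hom.up a) ∈ U)
    (hfac : ∀ (t u : G) (M : Subgroup G), Four t u → u ∈ M → Cov t M → M ≠ ⊤ →
      ∀ x ∈ M, ∃ o ∈ OO M, ∃ n ∈ M ⊓ C t, x = o * n)
    (hp : p.Prime) (hpow : ∃ a, q = p ^ a) : K t₀ = ⊥ := by
  obtain ⟨u, h4⟩ := exists_four H hD.chyp
  exact Frame.core_eq_bot (frame_of (p := p) H hk hD hq hμ hX hσ hσ1 hc hconst hbal hdim hlt hlt1
    hsolv hj hfac hp hpow) h4 hp

end Main

end Cfsg.Agent.Classification.QDW.FrameOf
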