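import Mathlib
import Cfsg.Agent.Classification.QDW.FrameOf
import Cfsg.Agent.Classification.QDW.FOne
import Cfsg.Agent.Classification.QDW.InstMain
import Cfsg.Agent.Classification.QDW.NumBridgeG

/-!
# Type D: the core of `C(t)` is trivial

`core_of_char`: a character `X` of the principal 2-block with the values of `X₂` or `X₃` and slack
`n' < q² - 1` (`< q² - q` for `ε = 1`). `pos`: `ε = 1`, `f ≠ q³`. `neg`: `ε = -1`, with the
near-tight theorem as a hypothesis.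
-/

set_option autoImplicit false
set_option linter.unusedSectionVars false
set_option linter.unusedVariables false

namespace Cfsg.Agent.Classification.QDW.TypeDEnd

open Subgroup Cfsg Module
open Cfsg.Agent.Walter.SylowIn Cfsg.Agent.Walter.OddCoreIn Cfsg.Agent.Walter.Cover
open Cfsg.Agent.Characters Cfsg.Agent.Classification.InvCent
open Cfsg.Agent.Classification.BGOrder Cfsg.Agent.Classification.BGSplit
  Cfsg.Agent.Classification.BGBlockB0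
open Cfsg.Agent.Classification.QDW.InstC Cfsg.Agent.Classification.QDW.InstGamma
open Cfsg.Agent.Classification.QDW.InstLB Cfsg.Agent.Classification.QDW.InstG
open Cfsg.Agent.Classification.QDW.InstMain
open Cfsg.Agent.Classification.QDW.RelH Cfsg.Agent.Classification.QDW.Theta
open Cfsg.Agent.Classification.QDW.FrameLB Cfsg.Agent.Classification.QDW.FrameOf
open Cfsg.Agent.Classification.QDW.NumBridge
open Cfsg.Agent.Classification.RTwo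

universe w v

variable {G : Type w} [Group G] [Fintype G] {Q : Type v} [Group Q] [Fintype Q]
  {z : Q} {q : ℕ} {ε : ℤ} {Z T T' U : Subgroup Q} {s s' u₀ : Q}
  {b : Q →* ℂˣ} {μ : U →* ℂˣ} {t₀ : G} {π₀ : C t₀ →* Q}

/-- A signed irreducible character with positive degree is a character. -/
theorem isIrr_of_pos {X : G → ℂ} (hX : SignedIrr X) {d : ℤ} (hd : X 1 = d) (hd0 : 0 < d) :
    IsIrrCharacter G X := by
  rcases hX with h | h
  · exact h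
  · exfalso
    obtain ⟨n, hn, hn'⟩ := Core.isIrr_apply_one h
    rw [Pi.neg_apply, hd] at hn'
    have h1 : -d = (n : ℤ) := by exact_mod_cast hn'
    omega

/-- **The core is trivial**, from one character. -/
theorem core_of_char [IsSimpleGroup G] (H : General.Hyp t₀ z π₀)
    (hk : ∀ x : C t₀, π₀ x = 1 ↔ (x : G) ∈ K t₀)
    (hD : CData z q ε Z T T' U s s' u₀ b) (hq : 5 ≤ q) (hμ : ∃ v : U, μ v ≠ 1)
    {M : Ideal AlgInt} (hM : IsPModular 2 M) {X : G → ℂ} (hX : InB (principalBlock M G) X)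
    {d c : ℤ} (hc : c = 0 ∨ c = 1)
    (hv : ∀ y : C t₀, z ∈ zpowers (π₀ y) → X y = c + ε * St hD.chyp μ (π₀ y))
    (hd : X 1 = d) (hd0 : 0 < d) {n' : ℕ} (hdim : d = ((q : ℤ) ^ 2 - 1) + (c + ε * q) + n')
    (hlt : n' < q ^ 2 - 1) (hlt1 : ε = 1 → (n' : ℤ) < q ^ 2 - q)
    (hbal : ∀ t u : G, Four t u → K t ⊓ C u ≤ K u)
    (hsolv : ∀ Y : Subgroup G, ¬ 2 ∣ Nat.card Y → Group.IsSolvable Y)
    {F : Type*} [Field F] [Fintype F]
    (hj : ε = 1 → Fintype.card F = q ∧ ∃ j : Matrix.SpecialLinearGroup (Fin 2) F →* Q,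
      j (-1) = z ∧ ∀ a, j (Cfsg.Agent.Lib.SL2Hom.up a) ∈ U)
    (hfac : ∀ (t u : G) (M : Subgroup G), Four t u → u ∈ M → Cov t M → M ≠ ⊤ →
      ∀ x ∈ M, ∃ o ∈ OO M, ∃ n ∈ M ⊓ C t, x = o * n)
    {p : ℕ} (hp : p.Prime) (hpow : ∃ a, q = p ^ a) : K t₀ = ⊥ := by
  have hXi := isIrr_of_pos hX.signedIrr hd hd0
  obtain ⟨n, ρ, hρ⟩ := Core.isIrr_isCharacter hXi
  have hdv : DVal hD.chyp μ π₀ ρ.character 1 c := by
    have h1 := dval (σ := 1) hX.signedIrr hv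
    rw [Int.cast_one, one_smul] at h1
    rw [hρ]
    exact h1
  have hconst : Const ρ := const_of ρ H hk hM (by rw [hρ]; exact hX)
  refine FrameOf.core_eq_bot (ρ := ρ) (p := p) H hk hD hq hμ hdv (Or.inl rfl) (fun _ => rfl) hc
    hconst hbal (n' := n') ?_ hlt hlt1 hsolv hj hfac hp hpow
  have h1 : ρ.character 1 = (finrank ℂ (Fin n → ℂ) : ℂ) := Representation.char_one ρ
  rw [hρ, hd] at h1
  have h2 : d = (finrank ℂ (Fin n → ℂ) : ℤ) := by exact_mod_cast h1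
  rw [← h2, hdim, Nat.cast_sub (Nat.one_le_pow _ _ (by omega))]
  push_cast
  ring

variable {M : Ideal AlgInt} {θ : T' →* ℂˣ} {n : ℕ} {χ : T →* ℂˣ} {X₂ X₃ X₄ X₅ : G → ℂ}
  {L : ℕ → G → ℂ} {f x : ℤ}

/-- (F1). -/
theorem factor (H : General.Hyp t₀ z π₀) (hk : ∀ x : C t₀, π₀ x = 1 ↔ (x : G) ∈ K t₀)
    (hD : CData z q ε Z T T' U s s' u₀ b) (hμ : ∃ v : U, μ v ≠ 1) (hM : IsPModular 2 M)
    (g : Gen hD.chyp b θ n) (c : Chi hD.chyp b χ)
    (S : SDFull M hD.chyp b θ n χ μ π₀ X₂ X₃ X₄ X₅ L f x)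
    (hNm : ∀ N : Subgroup Q, N.Normal → u₀ ∈ N → N = ⊤)
    (IH : FOne.Ind3.{w} hD.chyp μ (Nat.card G)) (hf0 : 0 < f) (hf : f < (q : ℤ) ^ 3)
    (t u : G) (Y : Subgroup G) (h4 : Four t u) (hu : u ∈ Y) (hcov : Cov t Y) (hY : Y ≠ ⊤) :
    ∀ x ∈ Y, ∃ o ∈ OO Y, ∃ n ∈ Y ⊓ C t, x = o * n := by
  have hj1 : ¬ 2 ^ (n - 1) ∣ 1 := by
    intro h1
    have h2 := Nat.le_of_dvd one_pos h1
    have h3 : 1 < 2 ^ (n - 1) := Nat.one_lt_two_pow (by have := g.three_le; omega)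
    omega
  exact FOne.factor_frame H hD.det hM hμ g c (fun x hx => (hk x).2 hx) hNm IH S.toSDRes
    (S.eqΦ 1 hj1) hf0 hf t h4.tt h4.t1 Y hcov hY

theorem not_four_dvd (hD : CData z q ε Z T T' U s s' u₀ b) : ¬ (4 : ℤ) ∣ q - ε := by
  obtain ⟨k, hk, hk'⟩ := hD.det.r_dvd
  rintro ⟨j, hj⟩
  obtain ⟨i, hi⟩ := hk
  rw [hj, hi] at hk'
  push_cast at hk'
  omega

/-- **Type D, `ε = 1`.** -/
theorem pos [IsSimpleGroup G] (H : General.Hyp t₀ z π₀)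
    (hk : ∀ x : C t₀, π₀ x = 1 ↔ (x : G) ∈ K t₀)
    (hD : CData z q 1 Z T T' U s s' u₀ b) (hq : 5 ≤ q) (hμ : ∃ v : U, μ v ≠ 1)
    (hM : IsPModular 2 M) (g : Gen hD.chyp b θ n) (c : Chi hD.chyp b χ)
    (S : SDFull M hD.chyp b θ n χ μ π₀ X₂ X₃ X₄ X₅ L f x)
    (hNm : ∀ N : Subgroup Q, N.Normal → u₀ ∈ N → N = ⊤)
    (IH : FOne.Ind3.{w} hD.chyp μ (Nat.card G))
    (hbal : ∀ t u : G, Four t u → K t ⊓ C u ≤ K u)
    (hsolv : ∀ Y : Subgroup G, ¬ 2 ∣ Nat.card Y → Group.IsSolvable Y)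
    {F : Type*} [Field F] [Fintype F] (hF : Fintype.card F = q)
    (hj : ∃ j : Matrix.SpecialLinearGroup (Fin 2) F →* Q,
      j (-1) = z ∧ ∀ a, j (Cfsg.Agent.Lib.SL2Hom.up a) ∈ U)
    {p : ℕ} (hp : p.Prime) (hpow : ∃ a, q = p ^ a) (hf : f ≠ (q : ℤ) ^ 3) : K t₀ = ⊥ := by
  have hN := NumBridgeG.num H (not_four_dvd hD) S.toSDRes
  obtain ⟨h1, h2, h3⟩ := hN.pos (lb₂ H hD hq hμ S) (lb₃ H hD hq hμ S)
  have hprod := hN.prod
  have hq' : (5 : ℤ) ≤ q := by exact_mod_cast hq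
  have hqq : (q : ℤ) ^ 2 - 1 = ((q ^ 2 - 1 : ℕ) : ℤ) := by
    rw [Nat.cast_sub (Nat.one_le_pow _ _ (by omega))]; push_cast; ring
  -- `f < q³`
  have hf3 : f < (q : ℤ) ^ 3 := by
    refine lt_of_le_of_ne ?_ hf
    by_contra hcon
    push Not at hcon
    have h4 : (q : ℤ) + 1 ≤ -x - (q : ℤ) ^ 2 := by linarith
    have h5 : (q : ℤ) ^ 3 - (q : ℤ) ^ 2 < f - (q : ℤ) ^ 2 := by linarith
    have h6 : ((q : ℤ) ^ 3 - (q : ℤ) ^ 2) * (q + 1) < (f - (q : ℤ) ^ 2) * (-x - (q : ℤ) ^ 2) := by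
      have h7 : 0 < (q : ℤ) ^ 3 - (q : ℤ) ^ 2 := by nlinarith
      calc ((q : ℤ) ^ 3 - (q : ℤ) ^ 2) * (q + 1) < (f - (q : ℤ) ^ 2) * (q + 1) :=
            mul_lt_mul_of_pos_right h5 (by linarith)
        _ ≤ (f - (q : ℤ) ^ 2) * (-x - (q : ℤ) ^ 2) :=
            mul_le_mul_of_nonneg_left h4 (by linarith)
    rw [hprod] at h6
    nlinarith
  have hf0 : 0 < f := by nlinarith
  have hfac := fun t u Y h4 hu hcov hY =>
    factor H hk hD hμ hM g c S hNm IH hf0 hf3 t u Y h4 hu hcov hY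
  rcases h3 with h3 | h3
  · -- `X₂`
    obtain ⟨n', hn'⟩ : ∃ n' : ℕ, (n' : ℤ) = f - q - ((q : ℤ) ^ 2 - 1) :=
      ⟨(f - q - ((q : ℤ) ^ 2 - 1)).toNat, Int.toNat_of_nonneg (by linarith)⟩
    refine core_of_char H hk hD hq hμ hM S.in₂ (d := f) (c := 0) (Or.inl rfl) (val₂ hμ S) S.one₂ hf0
      (n' := n') (by rw [hn']; ring) ?_ (fun _ => by rw [hn']; linarith) hbal hsolv
      (fun _ => ⟨hF, hj⟩) hfac hp hpow
    zify
    rw [← hqq, hn']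
    linarith
  · -- `X₃`
    obtain ⟨n', hn'⟩ : ∃ n' : ℕ, (n' : ℤ) = -x - q - 2 - ((q : ℤ) ^ 2 - 1) :=
      ⟨(-x - q - 2 - ((q : ℤ) ^ 2 - 1)).toNat, Int.toNat_of_nonneg (by linarith)⟩
    refine core_of_char H hk hD hq hμ hM S.in₃ (d := -1 - x) (c := 1) (Or.inr rfl) (val₃ S)
      (by rw [S.one₃]; push_cast; ring) (by nlinarith)
      (n' := n') (by rw [hn']; ring) ?_ (fun _ => by rw [hn']; linarith) hbal hsolv
      (fun _ => ⟨hF, hj⟩) hfac hp hpow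
    zify
    rw [← hqq, hn']
    linarith

/-- **Type D, `ε = -1`.** -/
theorem neg [IsSimpleGroup G] (H : General.Hyp t₀ z π₀)
    (hk : ∀ x : C t₀, π₀ x = 1 ↔ (x : G) ∈ K t₀)
    (hD : CData z q (-1) Z T T' U s s' u₀ b) (hq : 5 ≤ q) (hμ : ∃ v : U, μ v ≠ 1)
    (hM : IsPModular 2 M) (g : Gen hD.chyp b θ n) (c : Chi hD.chyp b χ)
    (S : SDFull M hD.chyp b θ n χ μ π₀ X₂ X₃ X₄ X₅ L f x)
    (hNm : ∀ N : Subgroup Q, N.Normal → u₀ ∈ N → N = ⊤)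
    (IH : FOne.Ind3.{w} hD.chyp μ (Nat.card G))
    (hbal : ∀ t u : G, Four t u → K t ⊓ C u ≤ K u)
    (hsolv : ∀ Y : Subgroup G, ¬ 2 ∣ Nat.card Y → Group.IsSolvable Y)
    {p : ℕ} (hp : p.Prime) (hpow : ∃ a, q = p ^ a)
    (hnear : f + q - ((q : ℤ) ^ 2 - 1) ≤ 2 * q ∨ -x + q - 2 - ((q : ℤ) ^ 2 - 1) ≤ 2 * q →
      K t₀ = ⊥) : K t₀ = ⊥ := by
  have hN := NumBridgeG.num H (not_four_dvd hD) S.toSDRes
  have hq' : (5 : ℤ) ≤ q := by exact_mod_cast hq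
  have hpp : IsPrimePow q := by
    obtain ⟨a, ha⟩ := hpow
    refine (isPrimePow_nat_iff q).2 ⟨p, a, hp, ?_, ha.symm⟩
    rcases Nat.eq_zero_or_pos a with h1 | h1
    · rw [h1, pow_zero] at ha; omega
    · exact h1
  have hqq : (q : ℤ) ^ 2 - 1 = ((q ^ 2 - 1 : ℕ) : ℤ) := by
    rw [Nat.cast_sub (Nat.one_le_pow _ _ (by omega))]; push_cast; ring
  by_cases hn : f + q - ((q : ℤ) ^ 2 - 1) ≤ 2 * q ∨ -x + q - 2 - ((q : ℤ) ^ 2 - 1) ≤ 2 * q
  · exact hnear hn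
  push Not at hn
  obtain ⟨hn2, hn3⟩ := hn
  rcases hN.neg hpp (lb₂ H hD hq hμ S) (lb₃ H hD hq hμ S) with ⟨-, -, -, h1⟩ | ⟨h1, h2, h3⟩ |
    ⟨-, -, h1⟩
  · exfalso; linarith
  · have hprod := hN.prod
    have hf3 : f < (q : ℤ) ^ 3 := by
      by_contra hcon
      push Not at hcon
      have h4 : (q : ℤ) + 1 < -x - (q : ℤ) ^ 2 := by linarith
      have h5 : (q : ℤ) ^ 3 - (q : ℤ) ^ 2 ≤ f - (q : ℤ) ^ 2 := by linarith
      have h7 : 0 < (q : ℤ) ^ 3 - (q : ℤ) ^ 2 := by nlinarith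
      have h6 : ((q : ℤ) ^ 3 - (q : ℤ) ^ 2) * (q + 1) <
          (f - (q : ℤ) ^ 2) * (-x - (q : ℤ) ^ 2) := by
        calc ((q : ℤ) ^ 3 - (q : ℤ) ^ 2) * (q + 1) <
              ((q : ℤ) ^ 3 - (q : ℤ) ^ 2) * (-x - (q : ℤ) ^ 2) :=
              mul_lt_mul_of_pos_left h4 h7
          _ ≤ (f - (q : ℤ) ^ 2) * (-x - (q : ℤ) ^ 2) :=
              mul_le_mul_of_nonneg_right h5 (by linarith)
      rw [hprod] at h6
      nlinarith
    have hf0 : 0 < f := by nlinarith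
    have hfac := fun t u Y h4 hu hcov hY =>
      factor H hk hD hμ hM g c S hNm IH hf0 hf3 t u Y h4 hu hcov hY
    have hε : ((-1 : ℤ) = 1) → False := by norm_num
    rcases h3 with h3 | h3
    · -- `X₂`
      obtain ⟨n', hn'⟩ : ∃ n' : ℕ, (n' : ℤ) = f + q - ((q : ℤ) ^ 2 - 1) :=
        ⟨(f + q - ((q : ℤ) ^ 2 - 1)).toNat, Int.toNat_of_nonneg (by linarith)⟩
      refine core_of_char (F := ZMod 2) H hk hD hq hμ hM S.in₂ (d := f) (c := 0) (Or.inl rfl) (val₂ hμ S) S.one₂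
        hf0 (n' := n') (by rw [hn']; ring) ?_ (fun h => (hε h).elim) hbal hsolv
        (fun h => (hε h).elim) hfac hp hpow
      zify
      rw [← hqq, hn']
      linarith
    · -- `X₃`
      obtain ⟨n', hn'⟩ : ∃ n' : ℕ, (n' : ℤ) = -x + q - 2 - ((q : ℤ) ^ 2 - 1) :=
        ⟨(-x + q - 2 - ((q : ℤ) ^ 2 - 1)).toNat, Int.toNat_of_nonneg (by linarith)⟩
      refine core_of_char (F := ZMod 2) H hk hD hq hμ hM S.in₃ (d := -1 - x) (c := 1) (Or.inr rfl) (val₃ S)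
        (by rw [S.one₃]; push_cast; ring) (by nlinarith)
        (n' := n') (by rw [hn']; ring) ?_ (fun h => (hε h).elim) hbal hsolv
        (fun h => (hε h).elim) hfac hp hpow
      zify
      rw [← hqq, hn']
      linarith
  · exfalso; linarith

end Cfsg.Agent.Classification.QDW.TypeDEnd
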