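import Mathlib
import Cfsg.Agent.Classification.QDW.Cube
import Cfsg.Agent.Classification.QDW.InstModel
import Cfsg.Agent.Classification.QDW.NearApp
import Cfsg.Agent.Classification.QDW.QDStep
import Cfsg.Agent.Classification.QDW.TypeDCube
import Cfsg.Agent.Classification.QDW.TypeDEnd
import Cfsg.Agent.Classification.QDW.NoSE
import Cfsg.Agent.StrongEmb.Main
import Cfsg.Agent.S0205

/-!
# The quasi-dihedral case without field automorphisms: the core of `C(t)` is central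
-/

set_option autoImplicit false
set_option linter.unusedSectionVars false

open Matrix

namespace Cfsg.Agent.Classification.QDW.QDCentral

open Cfsg Cfsg.Agent.Characters Cfsg.Agent.Classification.InvCent
open Cfsg.Agent.Classification.QDW.InstC Cfsg.Agent.Classification.QDW.Theta
open Cfsg.Agent.Classification.QDW.StructQ Cfsg.Agent.Classification.QDW.StructMain
open Cfsg.Agent.Classification.BGBlockB0 Cfsg.Agent.Classification.QDW.FOne
open Cfsg.Agent.Classification.RTwo Cfsg.Agent.Walter Cfsg.Agent.Lib.SL2Mat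
  Cfsg.Agent.Lib.AutSL2 Cfsg.Agent.TwoFusion.NormalSL2

universe u v

section Step

variable {G : Type u} [Group G] [Fintype G] {C₀ : Type v} [Group C₀] [Fintype C₀] {z : C₀} {q : ℕ}
  {ε : ℤ} {Z T T' U : Subgroup C₀} {s s' u₀ : C₀} {b : C₀ →* ℂˣ} {μ : U →* ℂˣ} {t : G}
  {π : (Subgroup.centralizer ({t} : Set G)) →* C₀}
  {F : Type*} [Field F] [Fintype F] {L₀ : Subgroup C₀}

/-- **The step of the induction.** -/
theorem step [IsSimpleGroup G] (H : General.Hyp t z π)
    (hO : ∀ N : Subgroup C₀, N.Normal → Odd (Nat.card N) → N = ⊥)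
    (hD : CData z q ε Z T T' U s s' u₀ b) (hq : 5 ≤ q) (hμ : ∃ v : U, μ v ≠ 1)
    (hNm : ∀ N : Subgroup C₀, N.Normal → u₀ ∈ N → N = ⊤)
    (hF : Fintype.card F = q)
    (hj : ε = 1 → ∃ j : SpecialLinearGroup (Fin 2) F →* C₀,
      j (-1) = z ∧ ∀ a, j (Cfsg.Agent.Lib.SL2Hom.up a) ∈ U)
    (hL₀ : L₀.index = 2) (e : L₀ ≃* SpecialLinearGroup (Fin 2) F) {hzL : z ∈ L₀}
    (hez : e ⟨z, hzL⟩ = -1) (IH : FOne.Ind3.{u} hD.chyp μ (Nat.card G)) :
    ∀ k, π k = 1 → ∀ c : Subgroup.centralizer ({t} : Set G), c * k = k * c := by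
  obtain ⟨M, hM⟩ := Cfsg.Agent.Blocks.ExistsModular.exists_isPModular Nat.prime_two
  obtain ⟨θ, n, g⟩ := exists_gen hD.chyp hD.det
  obtain ⟨χ, c⟩ := exists_chi hD.chyp hD.det
  obtain ⟨X₂, X₃, X₄, X₅, L, f, x, S⟩ := exists_sdFull H g c hD.det hμ hM
    (fun Y hY h1 => SDEnd.eq_one_of_degree (FOne.not_comm_of_hyp H hD.chyp) hY h1)
  have hk : ∀ x : Cover.C t, π x = 1 ↔ (x : G) ∈ K t := QDCube.ker_iff H hO
  have hpp : IsPrimePow q := hF ▸ FiniteField.isPrimePow_card F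
  obtain ⟨p, a, hp, ha, hpa⟩ := (isPrimePow_nat_iff q).1 hpp
  refine QDStep.step_of H hO hD hq hμ S ?_
    (TypeDCube.eq_cube_of_data H hk hD hq hpp hμ S)
  intro hbal
  have hsolv : ∀ Y : Subgroup G, ¬ 2 ∣ Nat.card Y → Group.IsSolvable Y := fun Y hY =>
    Cfsg.Agent.S0205.result (Nat.not_even_iff_odd.1 fun h => hY (even_iff_two_dvd.1 h))
  rcases hD.chyp.eps with rfl | rfl
  · by_cases hf : f = (q : ℤ) ^ 3
    · exact Or.inr (by rw [hf, one_mul])
    · exact Or.inl (TypeDEnd.pos H hk hD hq hμ hM g c S hNm IH hbal hsolv hF (hj rfl) hp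
        ⟨a, hpa.symm⟩ hf)
  · refine Or.inl (TypeDEnd.neg H hk hD hq hμ hM g c S hNm IH hbal hsolv hp ⟨a, hpa.symm⟩ ?_)
    intro h1
    rcases NearApp.near_or H hk hD hq hpp hμ hM S hbal hF hL₀ e hez
      with h2 | ⟨-, -, -, -, h3, h4, -⟩
    · exact h2
    · exfalso
      rcases h1 with h1 | h1 <;> linarith

end Step

section Main

open InstModel

variable {G : Type u} [Group G] [Finite G]

theorem index_L {H : Type*} [Group H] [Finite H] {S : Sylow 2 H} {L : Subgroup H} [hLn : L.Normal]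
    {F : Type*} [Field F] [Finite F] {e : L ≃* SpecialLinearGroup (Fin 2) F} {y : H}
    (h : QD S L e y) (hH : H1 L e = ⊤) : L.index = 2 := by
  rw [Subgroup.index_eq_two_iff]
  refine ⟨y, fun b => ?_⟩
  have h1 : b ∈ L ∨ b * y ∈ L := (h.cover b).1 (hH ▸ Subgroup.mem_top b)
  have h2 : b ∈ L → b * y ∉ L := fun hb hby => h.y_not_mem ((Subgroup.mul_mem_cancel_left L hb).1 hby)
  by_cases hb : b ∈ L
  · exact Or.inr ⟨hb, h2 hb⟩
  · exact Or.inl ⟨h1.resolve_left hb, hb⟩

theorem neg1_eq {F : Type*} [Field F] : neg1 F = -1 := by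
  apply ext_ent
  · rw [neg1_00]; simp [ent]
  · rw [neg1_01]; simp [ent]
  · rw [neg1_10]; simp [ent]
  · rw [neg1_11]; simp [ent]

/-- **The core of the centralizer of an involution is central**: quasi-dihedral Sylow 2-subgroups,
no field automorphisms. -/
theorem qd_central [IsSimpleGroup G] (S₀ : Sylow 2 G)
    (hS₀ : Cfsg.IsQuasiDihedral (S₀ : Subgroup G)) {t : G} (ht : orderOf t = 2)
    {S : Sylow 2 (Qt t)} {L : Subgroup (Qt t)} [L.Normal] {F : Type} [Field F] [Fintype F]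
    {e : L ≃* SpecialLinearGroup (Fin 2) F} {y : Qt t} (h : QD S L e y)
    (h3 : 3 < Fintype.card F) (hH1 : H1 L e = ⊤) :
    Cfsg.oddCore (Ct t) ≤ Subgroup.center (Ct t) := by
  have : Fact (Nat.Prime 2) := ⟨Nat.prime_two⟩
  let _ : Fintype G := Fintype.ofFinite G
  let _ : Fintype (Qt t) := Fintype.ofFinite _
  have hodd : Odd (Fintype.card F) := by
    rw [← Nat.card_eq_fintype_card]; exact odd_card h
  obtain ⟨S', y', hy', H⟩ := exists_model S₀ hS₀ ht hodd e
  obtain ⟨ε, Z, T, T', U, s, b, hD, hε, hj⟩ := CDataInst.exists_cdata hy' hH1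
  have hNm := FOneStruct.normal_of_u hD.chyp L e h3 hy'.y_mul_y
    (fun c => (hy'.cover c).1 (hH1 ▸ Subgroup.mem_top c)) (by
      by_contra hcon
      push Not at hcon
      have h5 := hy'.base.cent y' (fun l hl => hcon l hl)
      rcases (hy'.center y').1 h5 with h6 | h6
      · exact hy'.y_not_mem (h6 ▸ one_mem L)
      · exact hy'.y_not_mem (h6 ▸ z0_mem))
  have hO : ∀ N : Subgroup (Qt t), N.Normal → Odd (Nat.card N) → N = ⊥ :=
    FOneStruct.odd_normal_eq_bot H (fun x hx => (pt_eq_one_iff' x).2 hx)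
  have hS' : Cfsg.IsQuasiDihedral (S' : Subgroup (Qt t)) := by
    obtain ⟨i⟩ := Cube.nonempty_sylow H S' S₀
    exact Cfsg.Agent.TwoFusion.SylowTypeTransfer.isQuasiDihedral_of_mulEquiv i.symm hS₀
  obtain ⟨μ, hμ⟩ := hD.chyp.base.exists_mu
  have hq5 : 5 ≤ Fintype.card F := by
    obtain ⟨k, hk⟩ := hodd
    omega
  have hc := Cube.central_of_step (Cube.model_of hy' hH1 hε) hO hq5 hD.chyp μ
    (fun Y _ _ _ P hP => NoSE.not_isStronglyEmbedded_of (Cfsg.Agent.StrongEmb.Main.bender Y) P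
      (Or.inl hP)) S' hS'
    (fun Y _ _ _ t' π' H' IH => step H' hO hD hq5 hμ hNm rfl hj (index_L hy' hH1) e
      (hzL := z0_mem) (by
        have h1 : (⟨z0 e, z0_mem⟩ : L) = e.symm (neg1 F) := Subtype.ext rfl
        rw [h1, MulEquiv.apply_symm_apply]
        exact neg1_eq) IH) H
  intro x hx
  rw [Subgroup.mem_center_iff]
  exact hc x ((pt_eq_one_iff x).2 hx)

end Main

end Cfsg.Agent.Classification.QDW.QDCentral
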