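import Cfsg.Agent.Classification.InvCent.InstGU

/-!
# From `C/K ≅ GL₂(F)/Z` with a split central odd kernel `K` to `C ≅ GL₂(F)/Z₀` (and `GU₂`)
-/

set_option autoImplicit false
set_option linter.unusedSectionVars false

open Matrix

namespace Cfsg.Agent.Classification.QDW.EndIso

open Cfsg.Agent.Classification.InvCent Cfsg.Agent.Classification.InvCent.GLTwo
  Cfsg.Agent.Classification.InvCent.GUTwo Cfsg.Agent.Classification.InvCent.InstGU

section Abstract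

variable {C M : Type*} [Group C] [Group M]

/-- A retraction onto a normal subgroup splits the group. -/
theorem nonempty_prod (K : Subgroup C) [K.Normal] (ρ : C →* K) (hρ : ∀ k : K, ρ (k : C) = k) :
    Nonempty (C ≃* K × C ⧸ K) := by
  refine ⟨MulEquiv.ofBijective (ρ.prod (QuotientGroup.mk' K)) ⟨?_, ?_⟩⟩
  · rw [← MonoidHom.ker_eq_bot_iff, eq_bot_iff]
    intro x hx
    have h1 : ρ x = 1 := congrArg Prod.fst (MonoidHom.mem_ker.1 hx)
    have h2 : (x : C ⧸ K) = 1 := congrArg Prod.snd (MonoidHom.mem_ker.1 hx)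
    have h3 : x ∈ K := (QuotientGroup.eq_one_iff x).1 h2
    have h4 := hρ ⟨x, h3⟩
    rw [Subgroup.mem_bot]
    have h5 : (⟨x, h3⟩ : K) = 1 := h4.symm.trans h1
    exact congrArg Subtype.val h5
  · rintro ⟨k, x⟩
    obtain ⟨c, rfl⟩ := QuotientGroup.mk_surjective x
    refine ⟨c * ((ρ c)⁻¹ : K) * k, Prod.ext ?_ ?_⟩
    · change ρ (c * (((ρ c)⁻¹ : K) : C) * (k : C)) = k
      rw [map_mul, map_mul, hρ, hρ, mul_inv_cancel, one_mul]
    · change ((c * (((ρ c)⁻¹ : K) : C) * (k : C) : C) : C ⧸ K) = (c : C ⧸ K)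
      rw [QuotientGroup.eq]
      have : (c * (((ρ c)⁻¹ : K) : C) * (k : C))⁻¹ * c =
          (k : C)⁻¹ * ((((ρ c)⁻¹ : K) : C)⁻¹) := by group
      rw [this]
      exact K.mul_mem (K.inv_mem k.2) (K.inv_mem (SetLike.coe_mem _))

/-- A surjection between cyclic groups. -/
theorem exists_surjective {A B : Type*} [Group A] [Group B] [Finite A] [Finite B]
    (hA : IsCyclic A) (hB : IsCyclic B) (h : Nat.card B ∣ Nat.card A) :
    ∃ ψ : A →* B, Function.Surjective ψ := by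
  let f : Multiplicative (ZMod (Nat.card A)) →* Multiplicative (ZMod (Nat.card B)) :=
    AddMonoidHom.toMultiplicative (ZMod.castHom h (ZMod (Nat.card B))).toAddMonoidHom
  have hf : Function.Surjective f := by
    intro x
    obtain ⟨y, hy⟩ := ZMod.castHom_surjective h (Multiplicative.toAdd x)
    exact ⟨Multiplicative.ofAdd y, congrArg Multiplicative.ofAdd hy⟩
  let eA := zmodCyclicMulEquiv hA
  let eB := zmodCyclicMulEquiv hB
  refine ⟨(eB.toMonoidHom.comp f).comp eA.symm.toMonoidHom, ?_⟩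
  exact (eB.surjective.comp hf).comp eA.symm.surjective

/-- **Splitting**: `C/K ≅ M/Z`, both `K` and `Z` cyclic retracts, `|K| ∣ |Z|`. -/
theorem exists_quotient_equiv (K : Subgroup C) [K.Normal] [Finite K] (ρ : C →* K)
    (hρ : ∀ k : K, ρ (k : C) = k) (Z : Subgroup M) [Z.Normal] [Finite Z] (σ : M →* Z)
    (hσ : ∀ z : Z, σ (z : M) = z) (hK : IsCyclic K) (hZ : IsCyclic Z)
    (hd : Nat.card K ∣ Nat.card Z) (e : C ⧸ K ≃* M ⧸ Z) :
    ∃ (Z₀ : Subgroup M) (_ : Z₀.Normal), Z₀ ≤ Z ∧ Nonempty (C ≃* M ⧸ Z₀) := by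
  obtain ⟨ψ, hψ⟩ := exists_surjective hZ hK hd
  let f : M →* K × M ⧸ Z := (ψ.comp σ).prod (QuotientGroup.mk' Z)
  have hf : Function.Surjective f := by
    rintro ⟨k, x⟩
    obtain ⟨m, rfl⟩ := QuotientGroup.mk_surjective x
    obtain ⟨z, rfl⟩ := hψ k
    refine ⟨m * ((σ m)⁻¹ : Z) * z, Prod.ext ?_ ?_⟩
    · change ψ (σ (m * (((σ m)⁻¹ : Z) : M) * (z : M))) = ψ z
      rw [map_mul σ, map_mul σ, hσ, hσ, mul_inv_cancel, one_mul]
    · change ((m * (((σ m)⁻¹ : Z) : M) * (z : M) : M) : M ⧸ Z) = (m : M ⧸ Z)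
      rw [QuotientGroup.eq]
      have : (m * (((σ m)⁻¹ : Z) : M) * (z : M))⁻¹ * m =
          (z : M)⁻¹ * ((((σ m)⁻¹ : Z) : M)⁻¹) := by group
      rw [this]
      exact Z.mul_mem (Z.inv_mem z.2) (Z.inv_mem (SetLike.coe_mem _))
  refine ⟨f.ker, inferInstance, ?_, ?_⟩
  · intro m hm
    have h2 : (m : M ⧸ Z) = 1 := congrArg Prod.snd (MonoidHom.mem_ker.1 hm)
    exact (QuotientGroup.eq_one_iff m).1 h2
  · obtain ⟨e1⟩ := nonempty_prod K ρ hρ
    exact ⟨(e1.trans (MulEquiv.prodCongr (MulEquiv.refl K) e)).trans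
      (QuotientGroup.quotientKerEquivOfSurjective f hf).symm⟩

/-- The odd scalars are a direct factor. -/
theorem exists_retraction_scalar {D : Type*} [CommGroup D] [Finite D] (sc : D →* M) (δ : M →* D)
    (hδ : ∀ c, δ (sc c) = c ^ 2) (Z : Subgroup M)
    (h1 : ∀ z ∈ Z, ∃ c : D, Odd (orderOf c) ∧ z = sc c) (h2 : ∀ c : D, Odd (orderOf c) → sc c ∈ Z) :
    ∃ σ : M →* Z, ∀ z : Z, σ (z : M) = z := by
  have hpos : 0 < Nat.card D := Nat.card_pos
  obtain ⟨a, m, hm, ham⟩ := Nat.exists_eq_two_pow_mul_odd hpos.ne'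
  have hcop : Nat.Coprime (2 ^ (a + 1)) m := (Nat.Coprime.pow_left _ (Nat.coprime_two_left.2 hm))
  have htot : 0 < Nat.totient m := Nat.totient_pos.2 hm.pos
  let N : ℕ := 2 ^ a * (2 ^ (a + 1)) ^ (Nat.totient m - 1)
  have hN2 : 2 * N = (2 ^ (a + 1)) ^ Nat.totient m := by
    obtain ⟨k, hk⟩ : ∃ k, Nat.totient m = k + 1 := ⟨Nat.totient m - 1, by omega⟩
    simp only [N]
    rw [hk, Nat.add_sub_cancel, pow_succ (2 ^ (a + 1)) k]
    ring
  have hNm : 2 * N ≡ 1 [MOD m] := by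
    rw [hN2]
    exact Nat.ModEq.pow_totient hcop
  have hodd : ∀ g : M, Odd (orderOf (δ g ^ N)) := by
    intro g
    have h3 : (δ g ^ N) ^ m = 1 := by
      rw [← pow_mul]
      have h4 : Nat.card D ∣ N * m := by
        rw [ham]
        exact ⟨(2 ^ (a + 1)) ^ (Nat.totient m - 1), by simp only [N]; ring⟩
      obtain ⟨k, hk⟩ := h4
      rw [hk, pow_mul, pow_card_eq_one', one_pow]
    exact Odd.of_dvd_nat hm (orderOf_dvd_of_pow_eq_one h3)
  refine ⟨(sc.comp ((powMonoidHom N).comp δ)).codRestrict Z fun g => h2 _ (hodd g), ?_⟩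
  rintro ⟨z, hz⟩
  apply Subtype.ext
  obtain ⟨c, hc, rfl⟩ := h1 z hz
  change sc ((δ (sc c)) ^ N) = sc c
  congr 1
  rw [hδ, ← pow_mul]
  have h5 : orderOf c ∣ m := by
    have h6 : orderOf c ∣ 2 ^ a * m := by rw [← ham]; exact orderOf_dvd_natCard c
    exact (Nat.Coprime.pow_right a (Nat.coprime_two_right.2 hc)).dvd_of_dvd_mul_left h6
  have h7 : c ^ (2 * N) = c ^ 1 := pow_eq_pow_iff_modEq.2 (hNm.of_dvd h5)
  rw [h7, pow_one]

end Abstract

section Lin

variable {F : Type*} [Field F] [Fintype F]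

theorem scalar_mem_center (a : Fˣ) : dg a a ∈ Subgroup.center (GL (Fin 2) F) := by
  rw [dg_mem_center]

/-- the scalar embedding -/
noncomputable def scG (F : Type*) [Field F] : Fˣ →* GL (Fin 2) F where
  toFun c := dg c c
  map_one' := dg_one
  map_mul' a b := (dg_mul a a b b).symm

theorem scG_injective : Function.Injective (scG F) := fun _ _ h => (dg_injective h).1

theorem exists_retraction_GL (hF : Odd (Fintype.card F)) (Z : Subgroup (GL (Fin 2) F))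
    (hZc : Z ≤ Subgroup.center (GL (Fin 2) F)) (hZo : Odd (Nat.card Z))
    (hmax : ∀ z ∈ Subgroup.center (GL (Fin 2) F), Odd (orderOf z) → z ∈ Z) :
    (∃ σ : GL (Fin 2) F →* Z, ∀ z : Z, σ (z : GL (Fin 2) F) = z) ∧ IsCyclic Z := by
  have h2 : (2 : F) ≠ 0 := by
    apply Ring.two_ne_zero
    intro h
    have := FiniteField.even_card_iff_char_two.mp h
    have h2 := Nat.odd_iff.mp hF
    omega
  have hsc : ∀ z ∈ Z, ∃ c : Fˣ, Odd (orderOf c) ∧ z = scG F c := by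
    intro z hz
    obtain ⟨a, b, rfl⟩ := exists_dg h2 (center_le_Tor (hZc hz))
    have h3 := hZc hz
    rw [dg_mem_center] at h3
    subst h3
    refine ⟨a, ?_, rfl⟩
    have h4 : (dg a a : GL (Fin 2) F) ^ Nat.card Z = 1 :=
      congrArg Subtype.val (pow_card_eq_one' (x := (⟨dg a a, hz⟩ : Z)))
    have h5 : a ^ Nat.card Z = 1 := by
      rw [dg_pow, ← dg_one] at h4
      exact (dg_injective h4).1
    exact Odd.of_dvd_nat hZo (orderOf_dvd_of_pow_eq_one h5)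
  have hsc' : ∀ c : Fˣ, Odd (orderOf c) → scG F c ∈ Z := by
    intro c hc
    refine hmax _ (scalar_mem_center c) ?_
    exact (orderOf_injective _ scG_injective c).symm ▸ hc
  refine ⟨exists_retraction_scalar (scG F) GeneralLinearGroup.det (fun c => ?_) Z hsc hsc', ?_⟩
  · change GeneralLinearGroup.det (dg c c) = c ^ 2
    rw [det_dg, sq]
  · have h3 : IsCyclic (scG F).range := isCyclic_of_surjective (scG F).rangeRestrict
      (scG F).rangeRestrict_surjective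
    have h4 : Z ≤ (scG F).range := by
      intro z hz
      obtain ⟨c, -, rfl⟩ := hsc z hz
      exact ⟨c, rfl⟩
    exact isCyclic_of_injective (Subgroup.inclusion h4) (Subgroup.inclusion_injective h4)

/-- **`C ≅ GL₂(F)/Z₀`.** -/
theorem exists_equiv_GL {C : Type*} [Group C] [Finite C] (hF : Odd (Fintype.card F))
    (K : Subgroup C) [K.Normal] (ρ : C →* K) (hρ : ∀ k : K, ρ (k : C) = k) (hK : IsCyclic K)
    (Z : Subgroup (GL (Fin 2) F)) [Z.Normal]
    (hZc : Z ≤ Subgroup.center (GL (Fin 2) F)) (hZo : Odd (Nat.card Z))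
    (hmax : ∀ z ∈ Subgroup.center (GL (Fin 2) F), Odd (orderOf z) → z ∈ Z)
    (hd : Nat.card K ∣ Nat.card Z) (e : C ⧸ K ≃* GL (Fin 2) F ⧸ Z) :
    ∃ (Z₀ : Subgroup (GL (Fin 2) F)) (_ : Z₀.Normal), Z₀ ≤ Subgroup.center (GL (Fin 2) F) ∧
      Odd (Nat.card Z₀) ∧ Nonempty (C ≃* GL (Fin 2) F ⧸ Z₀) := by
  obtain ⟨⟨σ, hσ⟩, hZ⟩ := exists_retraction_GL hF Z hZc hZo hmax
  obtain ⟨Z₀, hn, hle, he⟩ := exists_quotient_equiv K ρ hρ Z σ hσ hK hZ hd e
  exact ⟨Z₀, hn, hle.trans hZc, Odd.of_dvd_nat hZo (Subgroup.card_dvd_of_le hle), he⟩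

end Lin

section Uni

variable {F : Type*} [Field F] [Fintype F] {q : ℕ} {σ : F →+* F} {κ : Fˣ}

theorem scN_apply (P : Par F q σ κ) (c : Nm F q) : scN P c = dgU P c c := rfl

theorem scN_injective (P : Par F q σ κ) : Function.Injective (scN P) :=
  fun _ _ h => (dgU_injective P h).1

theorem isCyclic_Nm : IsCyclic (Nm F q) := inferInstance

theorem exists_retraction_GU (P : Par F q σ κ) (Z : Subgroup (Cfsg.GU 2 F q))
    (hZc : Z ≤ Subgroup.center (Cfsg.GU 2 F q)) (hZo : Odd (Nat.card Z))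
    (hmax : ∀ z ∈ Subgroup.center (Cfsg.GU 2 F q), Odd (orderOf z) → z ∈ Z) :
    (∃ τ : Cfsg.GU 2 F q →* Z, ∀ z : Z, τ (z : Cfsg.GU 2 F q) = z) ∧ IsCyclic Z := by
  have hsc : ∀ z ∈ Z, ∃ c : Nm F q, Odd (orderOf c) ∧ z = scN P c := by
    intro z hz
    have h3 := hZc hz
    obtain ⟨a, b, rfl⟩ := exists_dgU P (mem_TH.1 (center_le_TH P h3))
    rw [dgU_mem_center] at h3
    subst h3
    refine ⟨a, ?_, rfl⟩
    have h4 : dgU P a a ^ Nat.card Z = 1 :=
      congrArg Subtype.val (pow_card_eq_one' (x := (⟨dgU P a a, hz⟩ : Z)))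
    have h5 : a ^ Nat.card Z = 1 := by
      rw [dgU_pow, ← dgU_one P] at h4
      exact (dgU_injective P h4).1
    exact Odd.of_dvd_nat hZo (orderOf_dvd_of_pow_eq_one h5)
  have hsc' : ∀ c : Nm F q, Odd (orderOf c) → scN P c ∈ Z := by
    intro c hc
    refine hmax _ ((dgU_mem_center P).2 rfl) ?_
    exact (orderOf_injective _ (scN_injective P) c).symm ▸ hc
  refine ⟨exists_retraction_scalar (scN P) (dtN P) (fun c => ?_) Z hsc hsc', ?_⟩
  · rw [scN_apply, dtN_dgU, sq]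
  · have h3 : IsCyclic (scN P).range := isCyclic_of_surjective (scN P).rangeRestrict
      (scN P).rangeRestrict_surjective
    have h4 : Z ≤ (scN P).range := by
      intro z hz
      obtain ⟨c, -, rfl⟩ := hsc z hz
      exact ⟨c, rfl⟩
    exact isCyclic_of_injective (Subgroup.inclusion h4) (Subgroup.inclusion_injective h4)

/-- **`C ≅ GU₂(q)/Z₀`.** -/
theorem exists_equiv_GU {C : Type*} [Group C] [Finite C] (P : Par F q σ κ)
    (K : Subgroup C) [K.Normal] (ρ : C →* K) (hρ : ∀ k : K, ρ (k : C) = k) (hK : IsCyclic K)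
    (Z : Subgroup (Cfsg.GU 2 F q)) [Z.Normal]
    (hZc : Z ≤ Subgroup.center (Cfsg.GU 2 F q)) (hZo : Odd (Nat.card Z))
    (hmax : ∀ z ∈ Subgroup.center (Cfsg.GU 2 F q), Odd (orderOf z) → z ∈ Z)
    (hd : Nat.card K ∣ Nat.card Z) (e : C ⧸ K ≃* Cfsg.GU 2 F q ⧸ Z) :
    ∃ (Z₀ : Subgroup (Cfsg.GU 2 F q)) (_ : Z₀.Normal), Z₀ ≤ Subgroup.center (Cfsg.GU 2 F q) ∧
      Odd (Nat.card Z₀) ∧ Nonempty (C ≃* Cfsg.GU 2 F q ⧸ Z₀) := by
  obtain ⟨⟨τ, hτ⟩, hZ⟩ := exists_retraction_GU P Z hZc hZo hmax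
  obtain ⟨Z₀, hn, hle, he⟩ := exists_quotient_equiv K ρ hρ Z τ hτ hK hZ hd e
  exact ⟨Z₀, hn, hle.trans hZc, Odd.of_dvd_nat hZo (Subgroup.card_dvd_of_le hle), he⟩

end Uni

end Cfsg.Agent.Classification.QDW.EndIso
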