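import Mathlib
import Cfsg.Agent.Classification.QDW.CoreConst
import Cfsg.Agent.Classification.QDW.ThetaDefs
import Cfsg.Agent.Classification.QDW.ThetaFour
import Cfsg.Agent.Classification.InvCent.FusionCore

/-!
# The elementary fields of `Frame`

`G` finite, one class of involutions, `π : C(t) →* C` onto with odd kernel (`Hyp t z π`), `C` of type
`GL₂(q)`, `GU₂(q)` (`CHyp`).

* `exists_hyp` : the same for every involution `x` instead of `t`;
* `exists_flip`, `exists_swap`, `exists_conj`, `self` : fusion in `⟨t, u⟩`;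
* `mem_K` : `K t = ker π` if `O(C) = 1`;
* `trace` : the values of characters of the principal 2-block on `x K x`;
* `frame_of` : `Frame` from its nonelementary fields.
-/

set_option autoImplicit false
set_option linter.unusedSectionVars false

namespace Cfsg.Agent.Classification.QDW.FrameBase

open Subgroup Cfsg Cfsg.Agent.Classification.RTwo.General Cfsg.Agent.Classification.InvCent
  Cfsg.Agent.Walter.OddCoreIn Cfsg.Agent.Walter.Cover Cfsg.Agent.Classification.QDW.Theta

universe w v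

section Transport

variable {G : Type w} [Group G] {C : Type v} [Group C] {t : G} {z : C}
  {π : (Subgroup.centralizer ({t} : Set G)) →* C}

theorem conj_mem_centralizer {g t x : G} (e : g * t * g⁻¹ = x) {y : G}
    (hy : y ∈ Subgroup.centralizer ({x} : Set G)) :
    g⁻¹ * y * g ∈ Subgroup.centralizer ({t} : Set G) := by
  rw [Subgroup.mem_centralizer_singleton_iff] at hy ⊢
  have h1 : t = g⁻¹ * x * g := by rw [← e]; group
  rw [h1]
  calc g⁻¹ * y * g * (g⁻¹ * x * g) = g⁻¹ * (y * x) * g := by group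
    _ = g⁻¹ * (x * y) * g := by rw [hy]
    _ = _ := by group

/-- The transported homomorphism. -/
def tr (π : (Subgroup.centralizer ({t} : Set G)) →* C) {g x : G} (e : g * t * g⁻¹ = x) :
    (Subgroup.centralizer ({x} : Set G)) →* C where
  toFun y := π ⟨g⁻¹ * (y : G) * g, conj_mem_centralizer e y.2⟩
  map_one' := by
    rw [← map_one π]
    congr 1
    exact Subtype.ext (by simp)
  map_mul' a b := by
    rw [← map_mul]
    congr 1
    apply Subtype.ext
    change g⁻¹ * ((a : G) * (b : G)) * g = g⁻¹ * (a : G) * g * (g⁻¹ * (b : G) * g)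
    group

theorem tr_apply {g x : G} (e : g * t * g⁻¹ = x) (y : Subgroup.centralizer ({x} : Set G)) :
    tr π e y = π ⟨g⁻¹ * (y : G) * g, conj_mem_centralizer e y.2⟩ := rfl

theorem tr_hyp [Finite G] (H : Hyp t z π) {g x : G} (e : g * t * g⁻¹ = x) : Hyp x z (tr π e) where
  orderOf_t := by
    rw [← e, ← H.orderOf_t]
    exact (SemiconjBy.orderOf_eq g (x := t) (y := g * t * g⁻¹) (by simp [SemiconjBy])).symm
  one_class := by
    intro y hy
    have h1 := H.one_class y hy
    have h2 : IsConj t x := isConj_iff.2 ⟨g, e⟩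
    exact h2.symm.trans h1
  surj := by
    intro c
    obtain ⟨y, rfl⟩ := H.surj c
    have hy := Subgroup.mem_centralizer_singleton_iff.1 y.2
    refine ⟨⟨g * (y : G) * g⁻¹, ?_⟩, ?_⟩
    · rw [Subgroup.mem_centralizer_singleton_iff, ← e]
      calc g * (y : G) * g⁻¹ * (g * t * g⁻¹) = g * ((y : G) * t) * g⁻¹ := by group
        _ = g * (t * (y : G)) * g⁻¹ := by rw [hy]
        _ = _ := by group
    · rw [tr_apply]
      congr 1
      exact Subtype.ext (by change g⁻¹ * (g * (y : G) * g⁻¹) * g = y; group)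
  odd_ker := by
    refine H.odd_ker.of_dvd_nat (Subgroup.card_dvd_of_injective
      (((MulAut.conj g⁻¹).toMonoidHom.comp
        ((Subgroup.centralizer ({x} : Set G)).subtype.comp (tr π e).ker.subtype)).codRestrict
          (Subgroup.centralizer ({t} : Set G)) (fun y => by
            change g⁻¹ * ((y : Subgroup.centralizer ({x} : Set G)) : G) * g⁻¹⁻¹ ∈ _
            rw [inv_inv]
            exact conj_mem_centralizer e y.1.2) |>.codRestrict π.ker (fun y => by
            have h1 := y.2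
            rw [MonoidHom.mem_ker, tr_apply] at h1
            rw [MonoidHom.mem_ker, ← h1]
            congr 1
            apply Subtype.ext
            change g⁻¹ * ((y : Subgroup.centralizer ({x} : Set G)) : G) * g⁻¹⁻¹ = _
            rw [inv_inv])) ?_)
    intro a b hab
    have h1 : g⁻¹ * ((a : Subgroup.centralizer ({x} : Set G)) : G) * g⁻¹⁻¹ =
        g⁻¹ * ((b : Subgroup.centralizer ({x} : Set G)) : G) * g⁻¹⁻¹ :=
      congrArg (fun y : π.ker => ((y : Subgroup.centralizer ({t} : Set G)) : G)) hab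
    have h2 := mul_right_cancel h1
    exact Subtype.ext (Subtype.ext (mul_left_cancel h2))
  map_t := by
    intro h
    rw [tr_apply, ← map_tt H]
    congr 1
    apply Subtype.ext
    change g⁻¹ * x * g = t
    rw [← e]
    group

theorem isConj_of_sq (H : Hyp t z π) {x : G} (hx : x * x = 1) (hx1 : x ≠ 1) :
    ∃ g, g * t * g⁻¹ = x := by
  obtain ⟨g, hg⟩ := isConj_iff.1 (H.one_class x (orderOf_eq_prime (by rw [sq, hx]) hx1))
  exact ⟨g, hg⟩

/-- The hypothesis for every involution. -/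
theorem exists_hyp [Finite G] (H : Hyp t z π) {x : G} (hx : x * x = 1) (hx1 : x ≠ 1) :
    ∃ π' : (Subgroup.centralizer ({x} : Set G)) →* C, Hyp x z π' := by
  obtain ⟨g, hg⟩ := isConj_of_sq H hx hx1
  exact ⟨_, tr_hyp H hg⟩

end Transport

section Fusion

variable {G : Type w} [Group G] [Finite G] {C : Type v} [Group C] {t : G} {z : C}
  {π : (Subgroup.centralizer ({t} : Set G)) →* C}
  {q : ℕ} {ε : ℤ} {Z T T' U : Subgroup C} {s s' u₀ : C}

/-- Elements of order dividing `2` of `C(t)` with the same image which commute are equal. -/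
theorem eq_of_map (H : Hyp t z π) {x y : Subgroup.centralizer ({t} : Set G)} (hx : x * x = 1)
    (hy : y * y = 1) (hxy : x * y = y * x) (h : π x = π y) : x = y := by
  have h1 : π (x * y) = 1 := by
    rw [map_mul, h, ← map_mul, hy, map_one]
  have h2 := eq_one_of_ker H h1 (m := 1) (by
    rw [pow_one, (show Commute x y from hxy).mul_pow, sq, sq, hx, hy, one_mul])
  rw [eq_inv_of_mul_eq_one_left h2]
  exact inv_eq_of_mul_eq_one_left hy

/-- Involutions of `C(t)` with the same image are conjugate in `C(t)`. -/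
theorem exists_conj_of_map (H : Hyp t z π) {x y : Subgroup.centralizer ({t} : Set G)}
    (hx : x * x = 1) (hy : y * y = 1) (h : π x = π y) :
    ∃ c : Subgroup.centralizer ({t} : Set G), π c = 1 ∧ c * x * c⁻¹ = y :=
  CoreConst.exists_conj_ker π H.odd_ker x y 1 (by rw [pow_one, sq, hx]) (by rw [pow_one, sq, hy]) h

theorem mem_cent {x : G} {y : G} (h : y * x = x * y) : y ∈ Subgroup.centralizer ({x} : Set G) :=
  Subgroup.mem_centralizer_singleton_iff.2 h

/-- The image of the second involution. -/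
theorem map_u (H : Hyp t z π) {u : G} (h4 : Four t u)
    (hu : u ∈ Subgroup.centralizer ({t} : Set G)) :
    orderOf (π ⟨u, hu⟩) = 2 ∧ π ⟨u, hu⟩ ≠ z := by
  have huu : (⟨u, hu⟩ : Subgroup.centralizer ({t} : Set G)) * ⟨u, hu⟩ = 1 := Subtype.ext h4.uu
  constructor
  · refine orderOf_eq_prime (by rw [sq, ← map_mul, huu, map_one]) fun h1 => ?_
    have h2 := eq_one_of_ker H h1 (m := 1) (by rw [pow_one, sq, huu])
    exact h4.u1 (congrArg Subtype.val h2)
  · intro h1
    have h2 := eq_of_map H huu (tt_mul_tt H) (tt_comm _).symm.eq (h1.trans (map_tt H).symm)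
    exact h4.ne (congrArg Subtype.val h2).symm

/-- `C(t)` is transitive on its noncentral involutions. -/
theorem exists_conj (H : Hyp t z π) (h : CHyp z q ε Z T T' U s s' u₀) {u v : G} (hu : Four t u)
    (hv : Four t v) : ∃ w, w * t * w⁻¹ = t ∧ w * u * w⁻¹ = v := by
  have huC : u ∈ Subgroup.centralizer ({t} : Set G) := mem_cent hu.comm.symm
  have hvC : v ∈ Subgroup.centralizer ({t} : Set G) := mem_cent hv.comm.symm
  obtain ⟨a, ha⟩ := (FusionCore.eq_or_conj h (map_u H hu huC).1).resolve_left (map_u H hu huC).2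
  obtain ⟨b, hb⟩ := (FusionCore.eq_or_conj h (map_u H hv hvC).1).resolve_left (map_u H hv hvC).2
  obtain ⟨x, hx⟩ := H.surj (b⁻¹ * a)
  have e1 : π (x * ⟨u, huC⟩ * x⁻¹) = π ⟨v, hvC⟩ := by
    rw [map_mul, map_mul, map_inv, hx]
    calc b⁻¹ * a * π ⟨u, huC⟩ * (b⁻¹ * a)⁻¹ = b⁻¹ * (a * π ⟨u, huC⟩ * a⁻¹) * b := by group
      _ = b⁻¹ * (b * π ⟨v, hvC⟩ * b⁻¹) * b := by rw [ha, hb]
      _ = _ := by group
  obtain ⟨c, -, hc⟩ := exists_conj_of_map H (x := x * ⟨u, huC⟩ * x⁻¹) (y := ⟨v, hvC⟩) (by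
      apply Subtype.ext
      change (x : G) * u * (x : G)⁻¹ * ((x : G) * u * (x : G)⁻¹) = 1
      calc (x : G) * u * (x : G)⁻¹ * ((x : G) * u * (x : G)⁻¹) = (x : G) * (u * u) * (x : G)⁻¹ := by
            group
        _ = 1 := by rw [hu.uu]; group) (Subtype.ext hv.uu) e1
  refine ⟨(c : G) * x, ?_, ?_⟩
  · have h1 := Subgroup.mem_centralizer_singleton_iff.1 (c * x).2
    have h2 : (c : G) * (x : G) * t = t * ((c : G) * (x : G)) := h1
    rw [h2, mul_inv_cancel_right]
  · have h1 := congrArg Subtype.val hc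
    change (c : G) * ((x : G) * u * (x : G)⁻¹) * (c : G)⁻¹ = v at h1
    rw [← h1]
    group

theorem exists_flip (H : Hyp t z π) (h : CHyp z q ε Z T T' U s s' u₀) {u : G} (hu : Four t u) :
    ∃ w, w * t * w⁻¹ = t ∧ w * u * w⁻¹ = t * u := exists_conj H h hu hu.mulRight

theorem exists_swap (H : Hyp t z π) (h : CHyp z q ε Z T T' U s s' u₀) {u : G} (hu : Four t u) :
    ∃ g, g * t * g⁻¹ = u ∧ g * u * g⁻¹ = t := by
  obtain ⟨g, hg⟩ := isConj_of_sq H hu.uu hu.u1
  have h1 := hu.conj g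
  rw [hg] at h1
  obtain ⟨w, hw1, hw2⟩ := exists_conj (tr_hyp H hg) h h1 hu.symm
  refine ⟨w * g, ?_, ?_⟩
  · calc w * g * t * (w * g)⁻¹ = w * (g * t * g⁻¹) * w⁻¹ := by group
      _ = u := by rw [hg, hw1]
  · calc w * g * u * (w * g)⁻¹ = w * (g * u * g⁻¹) * w⁻¹ := by group
      _ = t := hw2

/-- The involutions commuting with `t` and `u`. -/
theorem self (H : Hyp t z π) (h : CHyp z q ε Z T T' U s s' u₀) {u : G} (h4 : Four t u) {x : G}
    (hx : x * x = 1) (hx1 : x ≠ 1) (hxt : x * t = t * x) (hxu : x * u = u * x) : Mem3 t u x := by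
  have huC : u ∈ Subgroup.centralizer ({t} : Set G) := mem_cent h4.comm.symm
  have hxC : x ∈ Subgroup.centralizer ({t} : Set G) := mem_cent hxt
  have htC : t ∈ Subgroup.centralizer ({t} : Set G) := mem_cent rfl
  have htuC : t * u ∈ Subgroup.centralizer ({t} : Set G) := mul_mem htC huC
  obtain ⟨a, ha⟩ := (FusionCore.eq_or_conj h (map_u H h4 huC).1).resolve_left (map_u H h4 huC).2
  have hz : π ⟨t, htC⟩ = z := H.map_t htC
  have hcom : ∀ {c d : G} (hc : c ∈ Subgroup.centralizer ({t} : Set G))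
      (hd : d ∈ Subgroup.centralizer ({t} : Set G)), c * c = 1 → d * d = 1 → c * d = d * c →
      π ⟨c, hc⟩ = π ⟨d, hd⟩ → c = d := by
    intro c d hc hd h1 h2 h3 h5
    exact congrArg Subtype.val (eq_of_map H (x := ⟨c, hc⟩) (y := ⟨d, hd⟩) (Subtype.ext h1)
      (Subtype.ext h2) (Subtype.ext h3) h5)
  -- the conjugate of `π x` is in `T`
  have hu0Z : u₀ ∉ Z := by
    intro h1
    have h2 := h.s_u
    rw [h.Z_central u₀ h1 s, mul_inv_cancel_right] at h2
    have h3 : z = 1 := (mul_eq_right.1 h2.symm)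
    have h5 := h.orderOf_t
    rw [h3, orderOf_one] at h5
    omega
  have hmem : a * π ⟨x, hxC⟩ * a⁻¹ ∈ T := by
    refine h.cent_T u₀ h.u_mem hu0Z _ ?_
    rw [← ha]
    have h1 : π ⟨x, hxC⟩ * π ⟨u, huC⟩ = π ⟨u, huC⟩ * π ⟨x, hxC⟩ := by
      rw [← map_mul, ← map_mul]
      congr 1
      exact Subtype.ext hxu
    calc a * π ⟨x, hxC⟩ * a⁻¹ * (a * π ⟨u, huC⟩ * a⁻¹) =
        a * (π ⟨x, hxC⟩ * π ⟨u, huC⟩) * a⁻¹ := by group
      _ = a * (π ⟨u, huC⟩ * π ⟨x, hxC⟩) * a⁻¹ := by rw [h1]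
      _ = _ := by group
  have hsq : a * π ⟨x, hxC⟩ * a⁻¹ * (a * π ⟨x, hxC⟩ * a⁻¹) = 1 := by
    have h1 : π ⟨x, hxC⟩ * π ⟨x, hxC⟩ = 1 := by
      rw [← map_mul, ← map_one π]
      congr 1
      exact Subtype.ext hx
    calc a * π ⟨x, hxC⟩ * a⁻¹ * (a * π ⟨x, hxC⟩ * a⁻¹) =
        a * (π ⟨x, hxC⟩ * π ⟨x, hxC⟩) * a⁻¹ := by group
      _ = 1 := by rw [h1]; group
  have hzc : ∀ c : C, c * z * c⁻¹ = z := fun c => by
    rw [h.Z_central z h.t_mem c, mul_inv_cancel_right]
  have hback : ∀ {c d : C}, a * c * a⁻¹ = a * d * a⁻¹ → c = d := by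
    intro c d h1
    exact mul_left_cancel (mul_right_cancel h1)
  rcases h.invol_T _ hmem hsq with h1 | h1 | h1 | h1
  · exfalso
    have h2 : π ⟨x, hxC⟩ = 1 := hback (h1.trans (by group))
    have h3 := eq_one_of_ker H h2 (m := 1) (by rw [pow_one, sq]; exact Subtype.ext hx)
    exact hx1 (congrArg Subtype.val h3)
  · have h2 : π ⟨x, hxC⟩ = π ⟨t, htC⟩ := by
      rw [hz]
      exact hback (h1.trans (hzc a).symm)
    exact Or.inl (hcom hxC htC hx h4.tt hxt h2)
  · have h2 : π ⟨x, hxC⟩ = π ⟨u, huC⟩ := hback (h1.trans ha.symm)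
    exact Or.inr (Or.inl (hcom hxC huC hx h4.uu hxu h2))
  · have h2 : π ⟨x, hxC⟩ = π ⟨t * u, htuC⟩ := by
      have e : (⟨t * u, htuC⟩ : Subgroup.centralizer ({t} : Set G)) = ⟨t, htC⟩ * ⟨u, huC⟩ := rfl
      rw [e, map_mul, hz]
      refine hback (h1.trans ?_)
      calc z * u₀ = (a * z * a⁻¹) * (a * π ⟨u, huC⟩ * a⁻¹) := by rw [hzc, ha]
        _ = _ := by group
    refine Or.inr (Or.inr (hcom hxC htuC hx h4.tutu ?_ h2))
    rw [← mul_assoc, hxt, mul_assoc, hxu, mul_assoc]

end Fusion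

section Core

variable {G : Type w} [Group G] [Finite G] {C : Type v} [Group C] {t : G} {z : C}
  {π : (Subgroup.centralizer ({t} : Set G)) →* C}

/-- `K t` is the kernel of `π`. -/
theorem mem_K (H : Hyp t z π) (hO : ∀ N : Subgroup C, N.Normal → Odd (Nat.card N) → N = ⊥)
    (y : Subgroup.centralizer ({t} : Set G)) : (y : G) ∈ K t ↔ π y = 1 := by
  constructor
  · intro hy
    have h1 : ((pPrimeCore 2 (Subgroup.centralizer ({t} : Set G))).map π) = ⊥ := by
      refine hO _ (Subgroup.Normal.map (Lib.Cores.pPrimeCore_normal 2) π H.surj) ?_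
      have h2 : Odd (Nat.card (pPrimeCore 2 (Subgroup.centralizer ({t} : Set G)))) := by
        rw [← Nat.coprime_two_left]
        exact (Lib.Cores.pPrimeCore_coprime 2).symm
      exact h2.of_dvd_nat (Subgroup.card_map_dvd _ _)
    have h3 : y ∈ pPrimeCore 2 (Subgroup.centralizer ({t} : Set G)) := by
      obtain ⟨y', hy', e⟩ := hy
      have : y' = y := Subtype.ext e
      rwa [← this]
    have h4 : π y ∈ ((pPrimeCore 2 (Subgroup.centralizer ({t} : Set G))).map π) :=
      Subgroup.mem_map_of_mem π h3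
    rw [h1] at h4
    exact Subgroup.mem_bot.1 h4
  · intro hy
    have h1 : π.ker ≤ pPrimeCore 2 (Subgroup.centralizer ({t} : Set G)) := by
      refine Lib.Cores.le_pPrimeCore inferInstance ?_
      exact Nat.coprime_two_right.2 H.odd_ker
    exact Subgroup.mem_map_of_mem _ (h1 hy)

end Core

section Trace

variable {G : Type w} [Group G] [Finite G] {C : Type v} [Group C] {t : G} {z : C}
  {π : (Subgroup.centralizer ({t} : Set G)) →* C}

/-- `K x` is the kernel of the transported homomorphism. -/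
theorem mem_K' (H : Hyp t z π) (hO : ∀ N : Subgroup C, N.Normal → Odd (Nat.card N) → N = ⊥)
    {g x : G} (e : g * t * g⁻¹ = x) (y : Subgroup.centralizer ({x} : Set G)) :
    (y : G) ∈ K x ↔ π ⟨g⁻¹ * (y : G) * g, conj_mem_centralizer e y.2⟩ = 1 :=
  mem_K (tr_hyp H e) hO y

/-- The values of a character of the principal block at `x y`, `y ∈ K x`. -/
theorem trace (H : Hyp t z π) (hO : ∀ N : Subgroup C, N.Normal → Odd (Nat.card N) → N = ⊥)
    {M : Ideal AlgInt} (hM : IsPModular 2 M) {X : G → ℂ}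
    (hX : BGBlockB0.InB (principalBlock M G) X) {x : G} (hx : x * x = 1) (hx1 : x ≠ 1) {y : G}
    (hy : y ∈ K x) : X (x * y) = X t := by
  obtain ⟨g, e⟩ := isConj_of_sq H hx hx1
  have H' := tr_hyp H e
  have hyC : y ∈ Subgroup.centralizer ({x} : Set G) := core_le_C x hy
  have hy1 : tr π e ⟨y, hyC⟩ = 1 := (mem_K H' hO ⟨y, hyC⟩).1 hy
  have h1 : tr π e (tt x * ⟨y, hyC⟩) = tr π e (tt x) := by rw [map_mul, hy1, mul_one]
  have h2 := CoreConst.inB_eq_of_map H' M hM hX (tt x) (tt x * ⟨y, hyC⟩) (by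
    rw [map_tt H']; exact Subgroup.mem_zpowers z) h1.symm
  have h3 : X x = X (x * y) := h2
  rw [← h3, ← e]
  exact BGBlockB0.isClassFunction_signed hX.signedIrr t g

/-- Simple groups of even order have no nontrivial normal subgroups of odd order. -/
theorem core_bot [IsSimpleGroup G] {x : G} (hx : orderOf x = 2) (N : Subgroup G) (hN : N.Normal)
    (hodd : ¬ 2 ∣ Nat.card N) : N = ⊥ := by
  rcases hN.eq_bot_or_eq_top with h1 | h1
  · exact h1
  · exfalso
    apply hodd
    rw [h1, Subgroup.card_top, ← hx]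
    exact orderOf_dvd_natCard x

end Trace

section Frame

variable {G : Type w} [Group G] [Finite G] [IsSimpleGroup G] {Γ : Type v} [Group Γ] {t : G} {z : Γ}
  {π : (Subgroup.centralizer ({t} : Set G)) →* Γ}
  {q : ℕ} {ε : ℤ} {Z T T' U : Subgroup Γ} {s s' u₀ : Γ}

/-- **`Frame` from its nonelementary fields.** -/
theorem frame_of (H : Hyp t z π) (h : CHyp z q ε Z T T' U s s' u₀)
    (hO : ∀ N : Subgroup Γ, N.Normal → Odd (Nat.card N) → N = ⊥)
    (hFT : ∀ Y : Subgroup G, ¬ 2 ∣ Nat.card Y → Group.IsSolvable Y)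
    {M : Ideal AlgInt} (hM : IsPModular 2 M) {n : ℕ} {ρ : Representation ℂ G (Fin n → ℂ)}
    (hX : BGBlockB0.InB (principalBlock M G) ρ.character) {p d n' : ℕ} {c : ℤ}
    (ht : ρ.character t = c) (hd : ρ.character 1 = ((d + c + n' : ℤ) : ℂ)) (lt : n' < d)
    (balance : ∀ t u : G, Four t u → K t ⊓ C u ≤ K u)
    (lb : ∀ (t u : G) (Y : Subgroup G), Four t u → Small t u Y →
      Cov t (normalizer (Y : Set G)) →
      Module.finrank ℂ (Fin n → ℂ) ≤ Module.finrank ℂ (fixed ρ Y) + n')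
    (factor : ∀ (t u : G) (M : Subgroup G), Four t u → u ∈ M → Cov t M → M ≠ ⊤ →
      ∀ x ∈ M, ∃ o ∈ OO M, ∃ n ∈ M ⊓ C t, x = o * n)
    (pkg : ∀ (t u : G) (M : Subgroup G), Four t u → u ∈ M → Cov t M → M ≠ ⊤ →
      ∃ N, Pkg p t u M N)
    (img : ∀ (t u : G) (D S : Subgroup G), Four t u → Small t u D →
      C t ≤ normalizer (D : Set G) → K t ≤ D → D ≤ S → ¬ 2 ∣ Nat.card S →
      t ∈ normalizer (S : Set G) → u ∈ normalizer (S : Set G) →
      C t ⊓ C u ≤ normalizer (S : Set G) →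
      Module.finrank ℂ (fixed ρ D) ≤ Module.finrank ℂ (fixed ρ S) + n' →
      ∀ y ∈ S, y ∈ C t → ∃ k ∈ K t, ∃ z ∈ S, z ∈ C t ∧ z ∈ C u ∧ y = k * z)
    (img' : ∀ (t u w : G) (S : Subgroup G), Four t u → w * t * w⁻¹ = t → w * u * w⁻¹ = t * u →
      ¬ 2 ∣ Nat.card S → t ∈ normalizer (S : Set G) → u ∈ normalizer (S : Set G) →
      w ∈ normalizer (S : Set G) → C t ⊓ C u ≤ normalizer (S : Set G) →
      ∀ y ∈ S, y ∈ C t → ∃ k ∈ K t, ∃ z ∈ S, z ∈ C t ∧ z ∈ C u ∧ y = k * z) :
    Frame ρ p d n' c where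
  core_bot := core_bot H.orderOf_t
  solvable := hFT
  swap := fun t' u h4 => by
    obtain ⟨π', H'⟩ := exists_hyp H h4.tt h4.t1
    exact exists_swap H' h h4
  flip := fun t' u h4 => by
    obtain ⟨π', H'⟩ := exists_hyp H h4.tt h4.t1
    exact exists_flip H' h h4
  self := fun t' u h4 x hx hx1 hxt hxu => by
    obtain ⟨π', H'⟩ := exists_hyp H h4.tt h4.t1
    exact self H' h h4 hx hx1 hxt hxu
  balance := balance
  trace := fun x hx hx1 y hy => by
    rw [trace H hO hM hX hx hx1 hy, ht]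
  dim := by
    have h1 : ρ.character 1 = (Module.finrank ℂ (Fin n → ℂ) : ℂ) := by
      rw [Representation.char_one]
    rw [hd] at h1
    exact_mod_cast h1.symm
  lt := lt
  lb := lb
  factor := factor
  pkg := pkg
  img := img
  img' := img'

end Frame

end Cfsg.Agent.Classification.QDW.FrameBase
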