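import Mathlib
import Cfsg.Agent.Lib.PGroupCoprimeAction

/-!
# Coprime action inside a finite group: invariant Sylow subgroups

`D` a 2-subgroup (any `p`-subgroup) normalising the subgroup `X` of order prime to `p`.

* `exists_inv`: a `D`-invariant Sylow `r`-subgroup of `X`;
* `exists_inv_ge`: every `D`-invariant `r`-subgroup of `X` lies in a `D`-invariant Sylow `r`-subgroup of `X`;
* `exists_conj`: two of them are conjugate by an element of `X` centralising `D`;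
* `centralizer_sylow`: if `R` is a `D`-invariant Sylow `r`-subgroup of `X`, then `C_R(D)` is a Sylow `r`-subgroup of
  `C_X(D)`.
-/

set_option autoImplicit false

namespace Cfsg.Agent.Classification.QDW.FuCop

open Subgroup

variable {G : Type*} [Group G] [Finite G] {p r : ℕ} [Fact p.Prime] [Fact r.Prime] {D X R R' : Subgroup G}

/-- `R` is a Sylow `r`-subgroup of `X`, in the form of `Blocks.SylowIn`. -/
theorem syl_of_relIndex (hRX : R ≤ X) (hR : IsPGroup r R) (hi : ¬ r ∣ R.relIndex X) :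
    ∃ S : Sylow r X, (S : Subgroup X).map X.subtype = R := by
  rw [Blocks.SylowIn.exists_sylow_map_eq_iff]
  refine ⟨hRX, hR, fun Q hQX hQ hRQ => ?_⟩
  have h1 : R.relIndex Q = 1 := by
    obtain ⟨k, hk⟩ := (IsPGroup.iff_card).1 hQ
    have h2 : R.relIndex Q ∣ r ^ k := by rw [← hk]; exact Subgroup.relIndex_dvd_card R Q
    obtain ⟨j, -, hj⟩ := (Nat.dvd_prime_pow (Fact.out : r.Prime)).1 h2
    rcases Nat.eq_zero_or_pos j with h0 | h0
    · rw [hj, h0, pow_zero]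
    · exfalso
      apply hi
      refine (dvd_pow_self r h0.ne').trans ?_
      rw [← hj]
      exact Dvd.intro _ (Subgroup.relIndex_mul_relIndex R Q X hRQ hQX)
  exact le_antisymm (Subgroup.relIndex_eq_one.1 h1) hRQ

theorem relIndex_of_syl (h : ∃ S : Sylow r X, (S : Subgroup X).map X.subtype = R) :
    R ≤ X ∧ IsPGroup r R ∧ ¬ r ∣ R.relIndex X := by
  obtain ⟨S, rfl⟩ := h
  refine ⟨Subgroup.map_subtype_le _, S.isPGroup'.map _, ?_⟩
  have h1 : ((S : Subgroup X).map X.subtype).relIndex X = (S : Subgroup X).index := by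
    rw [Subgroup.relIndex, Subgroup.subgroupOf, Subgroup.comap_map_eq_self_of_injective X.subtype_injective]
  rw [h1]
  exact S.not_dvd_index

/-- A `D`-invariant Sylow `r`-subgroup of `X`. -/
theorem exists_inv (hD : IsPGroup p D) (hX : ¬ p ∣ Nat.card X) (hDX : ∀ b ∈ D, ∀ u ∈ X, b * u * b⁻¹ ∈ X)
    (r : ℕ) [Fact r.Prime] :
    ∃ R : Subgroup G, R ≤ X ∧ IsPGroup r R ∧ ¬ r ∣ R.relIndex X ∧ ∀ b ∈ D, ∀ u ∈ R, b * u * b⁻¹ ∈ R := by
  obtain ⟨S, hS, hDS⟩ := Lib.PGroupCoprimeAction.exists_invariant_sylow hD hX hDX r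
  obtain ⟨h1, h2, h3⟩ := relIndex_of_syl hS
  exact ⟨S, h1, h2, h3, hDS⟩

/-- Every `D`-invariant `r`-subgroup of `X` lies in a `D`-invariant Sylow `r`-subgroup of `X`. -/
theorem exists_inv_ge (hD : IsPGroup p D) (hX : ¬ p ∣ Nat.card X) (hDX : ∀ b ∈ D, ∀ u ∈ X, b * u * b⁻¹ ∈ X)
    {Q : Subgroup G} (hQX : Q ≤ X) (hQ : IsPGroup r Q) (hDQ : ∀ b ∈ D, ∀ u ∈ Q, b * u * b⁻¹ ∈ Q) :
    ∃ R : Subgroup G, R ≤ X ∧ IsPGroup r R ∧ ¬ r ∣ R.relIndex X ∧ (∀ b ∈ D, ∀ u ∈ R, b * u * b⁻¹ ∈ R) ∧ Q ≤ R := by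
  obtain ⟨S, hS, hDS, hQS⟩ := Lib.PGroupCoprimeAction.exists_invariant_sylow_ge hD hX hDX hQX hQ hDQ
  obtain ⟨h1, h2, h3⟩ := relIndex_of_syl hS
  exact ⟨S, h1, h2, h3, hDS, hQS⟩

/-- Two `D`-invariant Sylow `r`-subgroups of `X` are conjugate by an element of `X` centralising `D`. -/
theorem exists_conj (hD : IsPGroup p D) (hX : ¬ p ∣ Nat.card X) (hDX : ∀ b ∈ D, ∀ u ∈ X, b * u * b⁻¹ ∈ X)
    (hRX : R ≤ X) (hR : IsPGroup r R) (hRi : ¬ r ∣ R.relIndex X) (hDR : ∀ b ∈ D, ∀ u ∈ R, b * u * b⁻¹ ∈ R)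
    (hRX' : R' ≤ X) (hR' : IsPGroup r R') (hRi' : ¬ r ∣ R'.relIndex X)
    (hDR' : ∀ b ∈ D, ∀ u ∈ R', b * u * b⁻¹ ∈ R') :
    ∃ c ∈ X, (∀ b ∈ D, c * b = b * c) ∧ ∀ x, x ∈ R ↔ c * x * c⁻¹ ∈ R' := by
  obtain ⟨c, hc, hcR⟩ := Lib.PGroupCoprimeAction.exists_centralizer_conj hD hX hDX
    (syl_of_relIndex hRX hR hRi) (syl_of_relIndex hRX' hR' hRi') hDR hDR'
  rw [mem_inf, mem_centralizer_iff] at hc
  refine ⟨c, hc.1, fun b hb => (hc.2 b hb).symm, fun x => ?_⟩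
  rw [← hcR]
  constructor
  · intro hx
    exact ⟨x, hx, rfl⟩
  · rintro ⟨y, hy, hyx⟩
    have h1 : c * y * c⁻¹ = c * x * c⁻¹ := hyx
    have h2 : y = x := mul_left_cancel (mul_right_cancel h1)
    rw [← h2]
    exact hy

/-- If `R` is a `D`-invariant Sylow `r`-subgroup of `X`, then `C_R(D)` is a Sylow `r`-subgroup of `C_X(D)`. -/
theorem centralizer_sylow (hD : IsPGroup p D) (hX : ¬ p ∣ Nat.card X) (hDX : ∀ b ∈ D, ∀ u ∈ X, b * u * b⁻¹ ∈ X)
    (hRX : R ≤ X) (hR : IsPGroup r R) (hRi : ¬ r ∣ R.relIndex X) (hDR : ∀ b ∈ D, ∀ u ∈ R, b * u * b⁻¹ ∈ R) :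
    IsPGroup r (R ⊓ centralizer (D : Set G) : Subgroup G) ∧
      ¬ r ∣ (R ⊓ centralizer (D : Set G)).relIndex (X ⊓ centralizer (D : Set G)) := by
  refine ⟨hR.to_le inf_le_left, ?_⟩
  -- a Sylow subgroup `Q` of `C_X(D)`
  obtain ⟨T⟩ : Nonempty (Sylow r (X ⊓ centralizer (D : Set G) : Subgroup G)) := inferInstance
  obtain ⟨hQX, hQ, hQi⟩ := relIndex_of_syl ⟨T, rfl⟩
  set Q : Subgroup G := (T : Subgroup _).map (X ⊓ centralizer (D : Set G)).subtype with hQdef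
  have hDQ : ∀ b ∈ D, ∀ u ∈ Q, b * u * b⁻¹ ∈ Q := by
    intro b hb u hu
    have h1 : b * u = u * b := mem_centralizer_iff.1 (mem_inf.1 (hQX hu)).2 b hb
    rw [h1, mul_inv_cancel_right]
    exact hu
  obtain ⟨R', hRX', hR', hRi', hDR', hQR'⟩ := exists_inv_ge hD hX hDX (hQX.trans inf_le_left) hQ hDQ
  obtain ⟨c, hcX, hcD, hc⟩ := exists_conj hD hX hDX hRX' hR' hRi' hDR' hRX hR hRi hDR
  -- `c Q c⁻¹ ≤ C_R(D)`
  have h1 : Nat.card Q ∣ Nat.card (R ⊓ centralizer (D : Set G) : Subgroup G) := by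
    have h2 : Q.map (MulAut.conj c).toMonoidHom ≤ R ⊓ centralizer (D : Set G) := by
      rintro _ ⟨x, hx, rfl⟩
      refine mem_inf.2 ⟨(hc x).1 (hQR' hx), ?_⟩
      rw [mem_centralizer_iff]
      intro b hb
      have h3 : b * x = x * b := mem_centralizer_iff.1 (mem_inf.1 (hQX hx)).2 b hb
      have h4 := hcD b hb
      change b * (c * x * c⁻¹) = c * x * c⁻¹ * b
      have h5 : b * c⁻¹ = c⁻¹ * b := by
        rw [eq_inv_mul_iff_mul_eq, ← mul_assoc, h4, mul_inv_cancel_right]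
      calc b * (c * x * c⁻¹) = (b * c) * x * c⁻¹ := by group
        _ = c * (b * x) * c⁻¹ := by rw [← h4]; group
        _ = c * x * (b * c⁻¹) := by rw [h3]; group
        _ = c * x * c⁻¹ * b := by rw [h5]; group
    have h6 := Subgroup.card_dvd_of_le h2
    rwa [Nat.card_congr (Q.equivMapOfInjective _ (MulAut.conj c).injective).symm.toEquiv] at h6
  -- hence the index of `C_R(D)` divides that of `Q`
  have hle : R ⊓ centralizer (D : Set G) ≤ X ⊓ centralizer (D : Set G) := inf_le_inf_right _ hRX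
  have e1 : Nat.card (R ⊓ centralizer (D : Set G) : Subgroup G) *
      (R ⊓ centralizer (D : Set G)).relIndex (X ⊓ centralizer (D : Set G)) =
      Nat.card (X ⊓ centralizer (D : Set G) : Subgroup G) := by
    rw [← Subgroup.relIndex_bot_left, ← Subgroup.relIndex_bot_left]
    exact Subgroup.relIndex_mul_relIndex _ _ _ bot_le hle
  have e2 : Nat.card Q * Q.relIndex (X ⊓ centralizer (D : Set G)) =
      Nat.card (X ⊓ centralizer (D : Set G) : Subgroup G) := by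
    rw [← Subgroup.relIndex_bot_left, ← Subgroup.relIndex_bot_left]
    exact Subgroup.relIndex_mul_relIndex _ _ _ bot_le hQX
  intro hd
  apply hQi
  obtain ⟨k, hk⟩ := h1
  have hQ0 : 0 < Nat.card Q := Nat.card_pos
  rw [← e2, hk, mul_assoc] at e1
  have e3 := Nat.eq_of_mul_eq_mul_left hQ0 e1
  rw [← e3]
  exact dvd_mul_of_dvd_right hd k

end Cfsg.Agent.Classification.QDW.FuCop
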