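import Mathlib
import Cfsg.Agent.Classification.QDW.GlauberTwo

/-!
# The stabiliser of a character given by its Glauberman correspondent
-/

set_option autoImplicit false
set_option linter.unusedSectionVars false

namespace Cfsg.Agent.Classification.QDW.FuStab

open Cfsg Cfsg.Agent.Characters Cfsg.Agent.Classification.QDW.GlauberTwo
open scoped ComplexConjugate

universe u

/-- Two involutions whose product has odd order are conjugate by a power of the product. -/
theorem exists_conj_invol {Γ : Type u} [Group Γ] {a b : Γ} (ha : a * a = 1) (hb : b * b = 1)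
    (hodd : Odd (orderOf (a * b))) : ∃ y ∈ Subgroup.zpowers (a * b), y⁻¹ * a * y = b := by
  obtain ⟨k, hk⟩ := hodd
  have ha' : a⁻¹ = a := inv_eq_of_mul_eq_one_left ha
  have hb' : b⁻¹ = b := inv_eq_of_mul_eq_one_left hb
  have hinv : a * (a * b) * a⁻¹ = (a * b)⁻¹ := by
    rw [mul_inv_rev, hb', ha', ← mul_assoc, ha, one_mul]
  refine ⟨(a * b) ^ (k + 1), Subgroup.npow_mem_zpowers _ _, ?_⟩
  have h1 : ((a * b) ^ (k + 1))⁻¹ = a * (a * b) ^ (k + 1) * a⁻¹ := by
    rw [← conj_pow, hinv, inv_pow]
  rw [h1, inv_mul_cancel_right, mul_assoc, ← pow_add]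
  have h3 : (a * b) ^ (k + 1 + (k + 1)) = a * b := by
    have h4 : k + 1 + (k + 1) = orderOf (a * b) + 1 := by omega
    rw [h4, pow_succ, pow_orderOf_eq_one, one_mul]
  rw [h3, ← mul_assoc, ha, one_mul]

section Equivariance

variable {Γ : Type u} [Group Γ] {Y : Subgroup Γ} {s : Γ}

theorem isIrr_comp [Finite Γ] {ψ : Γ → ℂ} (hψ : IsIrrCharacter Γ ψ) (α : Γ ≃* Γ) :
    IsIrrCharacter Γ (fun x => ψ (α x)) :=
  Core.isIrr_comp α.toMonoidHom α.surjective hψ

theorem apply_s_ne_zero [Finite Γ] (h : Setup Y s) {ψ : Γ → ℂ} (hψ : IsIrrCharacter Γ ψ)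
    (hψY : IsIrrCharacter Y (fun y : Y => ψ y)) : ψ s ≠ 0 := by
  intro h0
  rcases signed h hψ hψY with h1 | h1
  · apply Core.isIrr_apply_one_ne_zero h1
    show ψ (s * 1) = 0
    rw [mul_one, h0]
  · apply Core.isIrr_apply_one_ne_zero h1
    show -ψ (s * 1) = 0
    rw [mul_one, h0, neg_zero]

/-- Equivariance of the Glauberman correspondence. -/
theorem inv_iff [Finite Γ] (h : Setup Y s) (α : Γ ≃* Γ) (hs : α s = s)
    (hY : ∀ x, α x ∈ Y ↔ x ∈ Y) {ψ : Γ → ℂ} (hψ : IsIrrCharacter Γ ψ)
    (hψY : IsIrrCharacter Y (fun y : Y => ψ y)) :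
    (∀ y ∈ Y, ψ (α y) = ψ y) ↔ ∀ w ∈ Fix Y s, ψ (s * α w) = ψ (s * w) := by
  classical
  let _ : Fintype Γ := Fintype.ofFinite _
  let _ : Fintype Y := Fintype.ofFinite _
  let _ : Fintype (Fix Y s) := Fintype.ofFinite _
  have hφ := isIrr_comp hψ α
  have hcψ := Core.isIrr_isClassFunction hψ
  have hcφ := Core.isIrr_isClassFunction hφ
  have hval : ∀ w, ψ (s * α w) = ψ (α (s * w)) := fun w => by rw [map_mul, hs]
  have hself : classInner (fun w : Fix Y s => ψ (s * w)) (fun w : Fix Y s => ψ (s * w)) = 1 := by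
    have h1 := classInner_eq h hcψ hcψ
    rw [Core.classInner_irr_self hψ, Core.classInner_irr_self hψY] at h1
    linear_combination -2 * h1
  constructor
  · intro h1 w hw
    -- ψ ∘ α is ψ or ψ * sgn
    have h2 := classInner_add_sgn h hcφ hcψ
    have h3 : (fun y : Y => ψ (α y)) = fun y : Y => ψ y := by
      funext y
      exact h1 y y.2
    simp only [h3] at h2
    rw [Core.classInner_irr_self hψY] at h2
    have h5 : (fun x => ψ (α x)) = ψ := by
      by_contra hne
      rw [Core.classInner_irr_ne hφ hψ hne, zero_add] at h2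
      have h6 : (fun x => ψ (α x)) = ψ * sgn Y := by
        by_contra hne'
        rw [Core.classInner_irr_ne hφ (isIrr_mul_sgn h hψ) hne'] at h2
        exact zero_ne_one h2
      have h7 := congrFun h6 s
      simp only [Pi.mul_apply, hs, sgn_of_not_mem h.not_mem] at h7
      have h8 : ψ s = 0 := by linear_combination h7 / 2
      exact apply_s_ne_zero h hψ hψY h8
    rw [hval]
    exact congrFun h5 (s * w)
  · intro h1 y hy
    have h2 : (fun w : Fix Y s => ψ (α (s * w))) = fun w : Fix Y s => ψ (s * w) := by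
      funext w
      rw [← hval]
      exact h1 w w.2
    have h3 := restrict_eq_of_inner_ne_zero h hφ hψ (by
      rw [h2, hself]
      exact one_ne_zero) ⟨y, hy⟩
    exact h3

end Equivariance

end Cfsg.Agent.Classification.QDW.FuStab
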