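import Mathlib
import Cfsg.Agent.Classification.QDW.FuDefs
import Cfsg.Agent.Classification.QDW.FuStab

/-!
# Case U: equivariance of the correspondence `GC`
-/

set_option autoImplicit false
set_option linter.unusedSectionVars false

namespace Cfsg.Agent.Classification.QDW.FuEquiv

open Cfsg Cfsg.Agent.Classification.InvCent Cfsg.Agent.Classification.QDW.Inertia
open Cfsg.Agent.Classification.QDW.GlauberTwo Cfsg.Agent.Classification.QDW.CaseU

universe u

/-- `M = R⟨u⟩`, and `g` an element with `g u g⁻¹ = c₀ u`, `c₀` central of square one. -/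
structure EHyp {N : Type u} [Group N] (R M : Subgroup N) (u g c₀ : N) : Prop where
  normal : R.Normal
  odd : Odd (Nat.card R)
  uu : u * u = 1
  u_ne : u ≠ 1
  le : R ≤ M
  mem : u ∈ M
  cover : ∀ x ∈ M, x ∈ R ∨ u * x ∈ R
  cc : c₀ * c₀ = 1
  comm : ∀ x, Commute c₀ x
  gu : g * u * g⁻¹ = c₀ * u

variable {N : Type u} [Group N] {R M : Subgroup N} {u g c₀ : N}

namespace EHyp

theorem not_mem (h : EHyp R M u g c₀) : u ∉ R := by
  intro hs
  obtain ⟨k, hk⟩ := h.odd
  have h1 : u ^ Nat.card R = 1 := congrArg Subtype.val (pow_card_eq_one' (x := (⟨u, hs⟩ : R)))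
  rw [hk, pow_succ, pow_mul, pow_two, h.uu, one_pow, one_mul] at h1
  exact h.u_ne h1

theorem setup (h : EHyp R M u g c₀) : Setup (R.subgroupOf M) ⟨u, h.mem⟩ where
  normal := by
    have := h.normal
    exact Subgroup.Normal.subgroupOf this M
  odd := by
    rw [Nat.card_congr (Subgroup.subgroupOfEquivOfLe h.le).toEquiv]
    exact h.odd
  sq := Subtype.ext h.uu
  not_mem := fun h1 => h.not_mem (Subgroup.mem_subgroupOf.1 h1)
  cover := by
    rintro ⟨x, hx⟩ hxR
    rw [Subgroup.mem_subgroupOf] at hxR ⊢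
    exact (h.cover x hx).resolve_left hxR

theorem uinv (h : EHyp R M u g c₀) : u⁻¹ = u := inv_eq_of_mul_eq_one_left h.uu

theorem mul_mem_iff (h : EHyp R M u g c₀) {x y : N} (hx : x ∈ M) (hy : y ∈ M) :
    x * y ∈ R ↔ (x ∈ R ↔ y ∈ R) := by
  have hn := h.normal
  by_cases hx' : x ∈ R
  · rw [R.mul_mem_cancel_left hx']
    simp [hx']
  · by_cases hy' : y ∈ R
    · rw [R.mul_mem_cancel_right hy']
      simp [hx', hy']
    · have h1 := (h.cover x hx).resolve_left hx'
      have h2 := (h.cover y hy).resolve_left hy'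
      have h3 : x * y = (u * (u * x) * u⁻¹) * (u * y) := by
        have : u * (u * x) * u⁻¹ * (u * y) = (u * u) * x * y := by group
        rw [this, h.uu, one_mul]
      have h4 : x * y ∈ R := by
        rw [h3]
        exact R.mul_mem (hn.conj_mem _ h1 u) h2
      simp [hx', hy', h4]

open scoped Classical in
/-- The automorphism of `M` induced by `g`. -/
noncomputable def αfun (h : EHyp R M u g c₀) : M →* M where
  toFun x := ⟨(if (x : N) ∈ R then 1 else c₀) * (g * x * g⁻¹), by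
    have hn := h.normal
    by_cases hx : (x : N) ∈ R
    · rw [if_pos hx, one_mul]
      exact h.le (hn.conj_mem _ hx g)
    · rw [if_neg hx]
      have h1 := (h.cover x x.2).resolve_left hx
      have h2 : c₀ * (g * x * g⁻¹) = u * (g * (u * x) * g⁻¹) := by
        have h3 : g * (u * x) * g⁻¹ = (g * u * g⁻¹) * (g * x * g⁻¹) := by group
        rw [h3, h.gu, ← mul_assoc u, ← mul_assoc u, ← (h.comm u).eq, mul_assoc c₀, h.uu, mul_one]
      rw [h2]
      exact M.mul_mem h.mem (h.le (hn.conj_mem _ h1 g))⟩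
  map_one' := by
    apply Subtype.ext
    show (if ((1 : M) : N) ∈ R then (1 : N) else c₀) * (g * ((1 : M) : N) * g⁻¹) = 1
    rw [if_pos (show ((1 : M) : N) ∈ R from R.one_mem)]
    simp
  map_mul' := by
    intro x y
    apply Subtype.ext
    show (if ((x * y : M) : N) ∈ R then (1 : N) else c₀) * (g * ((x * y : M) : N) * g⁻¹) =
      (if (x : N) ∈ R then (1 : N) else c₀) * (g * x * g⁻¹) *
        ((if (y : N) ∈ R then (1 : N) else c₀) * (g * y * g⁻¹))
    have h1 := h.mul_mem_iff x.2 y.2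
    have h2 : ((x * y : M) : N) = x * y := rfl
    rw [h2]
    have h3 : g * ((x : N) * y) * g⁻¹ = (g * x * g⁻¹) * (g * y * g⁻¹) := by group
    rw [h3]
    have hc := (h.comm (g * x * g⁻¹)).eq
    generalize g * (x : N) * g⁻¹ = X at hc ⊢
    generalize g * (y : N) * g⁻¹ = Y
    by_cases hx : (x : N) ∈ R <;> by_cases hy : (y : N) ∈ R
    · rw [if_pos (h1.2 (by simp [hx, hy])), if_pos hx, if_pos hy, one_mul, one_mul, one_mul]
    · rw [if_neg (fun h4 => hy ((h1.1 h4).1 hx)), if_pos hx, if_neg hy, one_mul,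
        ← mul_assoc, ← mul_assoc, hc]
    · rw [if_neg (fun h4 => hx ((h1.1 h4).2 hy)), if_neg hx, if_pos hy, one_mul, mul_assoc]
    · rw [if_pos (h1.2 (by simp [hx, hy])), if_neg hx, if_neg hy, one_mul,
        mul_assoc c₀, ← mul_assoc X c₀, ← hc, mul_assoc c₀, ← mul_assoc c₀ c₀, h.cc, one_mul]

theorem αfun_of_mem (h : EHyp R M u g c₀) {x : M} (hx : (x : N) ∈ R) :
    ((h.αfun x : M) : N) = g * x * g⁻¹ := by
  classical
  show (if (x : N) ∈ R then (1 : N) else c₀) * (g * x * g⁻¹) = _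
  rw [if_pos hx, one_mul]

theorem αfun_u_mul (h : EHyp R M u g c₀) {y : N} (hy : y ∈ R) :
    ((h.αfun ⟨u * y, M.mul_mem h.mem (h.le hy)⟩ : M) : N) = u * (g * y * g⁻¹) := by
  classical
  have h1 : u * y ∉ R := by
    rw [R.mul_mem_cancel_right hy]
    exact h.not_mem
  show (if u * y ∈ R then (1 : N) else c₀) * (g * (u * y) * g⁻¹) = _
  rw [if_neg h1]
  have h3 : g * (u * y) * g⁻¹ = (g * u * g⁻¹) * (g * y * g⁻¹) := by group
  rw [h3, h.gu]
  generalize g * y * g⁻¹ = Y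
  rw [← mul_assoc, ← mul_assoc, h.cc, one_mul]

theorem αfun_injective (h : EHyp R M u g c₀) : Function.Injective h.αfun := by
  rw [injective_iff_map_eq_one]
  intro x hx
  have hn := h.normal
  rcases h.cover x x.2 with hxR | hxR
  · have h1 := congrArg Subtype.val hx
    rw [h.αfun_of_mem hxR] at h1
    have h2 : (x : N) = 1 := by
      have h3 : g * (x : N) * g⁻¹ = 1 := h1
      rw [mul_inv_eq_one, mul_eq_left] at h3
      exact h3
    exact Subtype.ext h2
  · exfalso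
    have h0 : x = ⟨u * (u * x), M.mul_mem h.mem (h.le hxR)⟩ := by
      apply Subtype.ext
      show (x : N) = u * (u * x)
      rw [← mul_assoc, h.uu, one_mul]
    have h1 : ((h.αfun x : M) : N) = 1 := by rw [hx]; rfl
    rw [h0, h.αfun_u_mul hxR] at h1
    apply h.not_mem
    rw [mul_eq_one_iff_eq_inv.1 h1]
    exact R.inv_mem (hn.conj_mem _ hxR g)

variable [Finite N]

/-- The automorphism of `M` induced by `g`. -/
noncomputable def α (h : EHyp R M u g c₀) : M ≃* M :=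
  MulEquiv.ofBijective h.αfun (Finite.injective_iff_bijective.1 h.αfun_injective)

theorem α_apply (h : EHyp R M u g c₀) (x : M) : h.α x = h.αfun x := rfl

/-- **Equivariance**, in terms of an extension `ψ` of `θ` to `M`. -/
theorem inv_iff (h : EHyp R M u g c₀) {ψ : M → ℂ} (hψ : IsIrrCharacter M ψ)
    (hψR : IsIrrCharacter R (fun y : R => ψ ⟨y, h.le y.2⟩)) :
    (∀ x : R, ψ ⟨g * x * g⁻¹, h.le (h.normal.conj_mem x x.2 g)⟩ = ψ ⟨x, h.le x.2⟩) ↔
      ∀ x : Fx u R, ψ ⟨u * (g * x * g⁻¹), M.mul_mem h.mem (h.le (h.normal.conj_mem x x.2.1 g))⟩ =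
        ψ ⟨u * x, M.mul_mem h.mem (h.le x.2.1)⟩ := by
  have hs : h.α ⟨u, h.mem⟩ = ⟨u, h.mem⟩ := by
    apply Subtype.ext
    have h1 := h.αfun_u_mul R.one_mem
    simp only [mul_one, mul_inv_cancel] at h1
    exact h1
  have hψR' : IsIrrCharacter (R.subgroupOf M) (fun y : R.subgroupOf M => ψ y) := by
    have h1 := Characters.Core.isIrr_comp (Subgroup.subgroupOfEquivOfLe h.le).toMonoidHom
      (Subgroup.subgroupOfEquivOfLe h.le).surjective hψR
    exact h1
  have key := FuStab.inv_iff h.setup h.α hs (by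
    intro x
    rw [Subgroup.mem_subgroupOf, Subgroup.mem_subgroupOf]
    have hn := h.normal
    constructor
    · intro h1
      by_contra h2
      have h3 := (h.cover x x.2).resolve_left h2
      have h0 : x = ⟨u * (u * x), M.mul_mem h.mem (h.le h3)⟩ := by
        apply Subtype.ext
        show (x : N) = u * (u * x)
        rw [← mul_assoc, h.uu, one_mul]
      rw [h.α_apply, h0, h.αfun_u_mul h3, R.mul_mem_cancel_right (hn.conj_mem _ h3 g)] at h1
      exact h.not_mem h1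
    · intro h1
      rw [h.α_apply, h.αfun_of_mem h1]
      exact hn.conj_mem _ h1 g) hψ hψR'
  constructor
  · intro h1 x
    have h2 := key.1 (fun y hy => by
      have hy' : (y : N) ∈ R := Subgroup.mem_subgroupOf.1 hy
      have h3 := h1 ⟨y, hy'⟩
      have h4 : h.α y = ⟨g * y * g⁻¹, h.le (h.normal.conj_mem y hy' g)⟩ := by
        apply Subtype.ext
        rw [h.α_apply, h.αfun_of_mem hy']
      rw [h4, h3]) ⟨x, h.le x.2.1⟩ (mem_fix.2 ⟨Subgroup.mem_subgroupOf.2 x.2.1, by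
        apply Subtype.ext
        exact (Subgroup.mem_centralizer_singleton_iff.1 x.2.2).symm⟩)
    have h5 : (⟨u, h.mem⟩ : M) * h.α ⟨x, h.le x.2.1⟩ =
        ⟨u * (g * x * g⁻¹), M.mul_mem h.mem (h.le (h.normal.conj_mem x x.2.1 g))⟩ := by
      apply Subtype.ext
      show u * ((h.α ⟨x, h.le x.2.1⟩ : M) : N) = _
      rw [h.α_apply, h.αfun_of_mem (x := ⟨x, h.le x.2.1⟩) x.2.1]
    rw [h5] at h2
    exact h2
  · intro h1 x
    have h2 := key.2 (fun w hw => by
      obtain ⟨hw1, hw2⟩ := mem_fix.1 hw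
      have hwR : (w : N) ∈ R := Subgroup.mem_subgroupOf.1 hw1
      have hwF : (w : N) ∈ Fx u R := ⟨hwR, Subgroup.mem_centralizer_singleton_iff.2
        (congrArg Subtype.val hw2.eq).symm⟩
      have h3 := h1 ⟨w, hwF⟩
      have h5 : (⟨u, h.mem⟩ : M) * h.α w =
          ⟨u * (g * w * g⁻¹), M.mul_mem h.mem (h.le (h.normal.conj_mem w hwR g))⟩ := by
        apply Subtype.ext
        show u * ((h.α w : M) : N) = _
        rw [h.α_apply, h.αfun_of_mem hwR]
      rw [h5, h3]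
      rfl) ⟨x, h.le x.2⟩ (Subgroup.mem_subgroupOf.2 x.2)
    rw [h.α_apply] at h2
    have h4 : h.αfun ⟨x, h.le x.2⟩ = ⟨g * x * g⁻¹, h.le (h.normal.conj_mem x x.2 g)⟩ := by
      apply Subtype.ext
      rw [h.αfun_of_mem (x := ⟨x, h.le x.2⟩) x.2]
    rw [h4] at h2
    exact h2

end EHyp

section GC

variable {N : Type u} [Group N] [Finite N] {H : Type*} [Group H] {π : N →* H} {z u₀ s₀ s₀' : H}
  {Z T T' U L₀ Tr E : Subgroup H} {t u s : N} {Au Atu P R D : Subgroup N} {r mr q m : ℕ} {ε : ℤ}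

/-- `g` with `g u g⁻¹ ∈ {u, t u}` normalises `C_R(u)`. -/
theorem conj_mem_Fx (fu : Fu π z u₀ s₀ Tr E t u s Au Atu P R D r mr) {g : N}
    (hg : Commute u g ∨ g * u * g⁻¹ = t * u) {x : N} (hx : x ∈ Fx u R) :
    g * x * g⁻¹ ∈ Fx u R := by
  obtain ⟨hx1, hx2⟩ := Subgroup.mem_inf.1 hx
  rw [Subgroup.mem_centralizer_singleton_iff] at hx2
  refine Subgroup.mem_inf.2 ⟨fu.R_normal.conj_mem _ hx1 g, ?_⟩
  rw [Subgroup.mem_centralizer_singleton_iff]
  rcases hg with hg | hg
  · have h1 : Commute u (g * x * g⁻¹) := (hg.mul_right hx2.symm).mul_right hg.inv_right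
    exact h1.eq.symm
  · have hux : Commute u x := hx2.symm
    have h1 : Commute (g * u * g⁻¹) (g * x * g⁻¹) := by
      show g * u * g⁻¹ * (g * x * g⁻¹) = g * x * g⁻¹ * (g * u * g⁻¹)
      have e1 : g * u * g⁻¹ * (g * x * g⁻¹) = g * (u * x) * g⁻¹ := by group
      have e2 : g * x * g⁻¹ * (g * u * g⁻¹) = g * (x * u) * g⁻¹ := by group
      rw [e1, e2, hux.eq]
    rw [hg] at h1
    have h2 : Commute (t * (t * u)) (g * x * g⁻¹) := (fu.t_comm _).mul_left h1
    rw [← mul_assoc, fu.tt, one_mul] at h2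
    exact h2.eq.symm

/-- **The stabiliser of `θ` in terms of its correspondent `χ`**, for elements `g` with
`g u g⁻¹ ∈ {u, t u}`. -/
theorem mem_stab_iff [hRn : R.Normal] (fu : Fu π z u₀ s₀ Tr E t u s Au Atu P R D r mr)
    (hu1 : u ≠ 1) {χ : Fx u R →* ℂˣ} {θ : R → ℂ} (h : GC R u θ χ) {g : N}
    (hg : Commute u g ∨ g * u * g⁻¹ = t * u) :
    g ∈ stab R θ ↔ ∀ x y : Fx u R, (y : N) = g * x * g⁻¹ → χ y = χ x := by
  obtain ⟨hθ, M, hR, hu, ψ, c, hM, hψ, hψθ, hc, hψχ⟩ := h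
  have hodd : Odd (Nat.card R) := by
    have := Subgroup.card_dvd_of_le fu.R_le
    exact Odd.of_dvd_nat fu.oddK this
  obtain ⟨c₀, hc₀, hc₀c, hgc⟩ : ∃ c₀ : N, c₀ * c₀ = 1 ∧ (∀ x, Commute c₀ x) ∧
      g * u * g⁻¹ = c₀ * u := by
    rcases hg with hg | hg
    · refine ⟨1, one_mul 1, fun x => Commute.one_left x, ?_⟩
      rw [← hg.eq, mul_inv_cancel_right, one_mul]
    · exact ⟨t, fu.tt, fu.t_comm, hg⟩
  have he : EHyp R M u g c₀ := ⟨hRn, hodd, fu.uu, hu1, hR, hu, hM, hc₀, hc₀c, hgc⟩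
  have hψR : IsIrrCharacter R (fun y : R => ψ ⟨y, he.le y.2⟩) := by
    have h1 : (fun y : R => ψ ⟨y, he.le y.2⟩) = θ := funext hψθ
    rw [h1]
    exact hθ
  have key := he.inv_iff hψ hψR
  have hc0 : c ≠ 0 := by
    rcases hc with rfl | rfl
    · exact one_ne_zero
    · exact neg_ne_zero.2 one_ne_zero
  have h1 : g ∈ stab R θ ↔
      ∀ x : R, ψ ⟨g * x * g⁻¹, he.le (he.normal.conj_mem x x.2 g)⟩ = ψ ⟨x, he.le x.2⟩ := by
    rw [mem_stab]
    refine forall_congr' fun x => ?_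
    rw [← hψθ x, ← hψθ ⟨g * x * g⁻¹, hRn.conj_mem x x.2 g⟩]
  rw [h1, key]
  constructor
  · intro h2 x y hyx
    have h3 := h2 x
    rw [hψχ x] at h3
    have h4 : ψ ⟨u * (g * x * g⁻¹), M.mul_mem he.mem (he.le (he.normal.conj_mem x x.2.1 g))⟩ =
        c * (χ y : ℂ) := by
      rw [← hψχ y]
      congr 1
      apply Subtype.ext
      show u * (g * x * g⁻¹) = u * y
      rw [hyx]
    rw [h4] at h3
    exact Units.ext (mul_left_cancel₀ hc0 h3)
  · intro h2 x
    have h3 := h2 x ⟨g * x * g⁻¹, conj_mem_Fx fu hg x.2⟩ rfl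
    rw [hψχ x, ← h3, ← hψχ ⟨g * x * g⁻¹, conj_mem_Fx fu hg x.2⟩]

end GC

end Cfsg.Agent.Classification.QDW.FuEquiv
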