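import Mathlib
import Cfsg.Agent.Classification.QDW.FuDefs
import Cfsg.Agent.Classification.QDW.FuStab
import Cfsg.Agent.Classification.QDW.FuEquiv

/-!
# Case U: the image `J` of the stabiliser of `π_χ` in `H`

`J` contains `Tr` and `E`, but not `L₀ = SL₂(q)` (helper81's step 3).
-/

set_option autoImplicit false
set_option linter.unusedSectionVars false

namespace Cfsg.Agent.Classification.QDW.CaseU

open Cfsg Cfsg.Agent.Classification.InvCent Cfsg.Agent.Classification.QDW.Inertia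

universe u

/-- the image of the stabilizer of `θ` in `H` -/
noncomputable def Jim {N : Type*} [Group N] {H : Type*} [Group H] (π : N →* H) {R : Subgroup N}
    [R.Normal] (θ : R → ℂ) : Subgroup H :=
  (stab R θ).map π

section Index

variable {N : Type u} [Group N] [Finite N] {H : Type*} [Group H] {π : N →* H} {z u₀ s₀ s₀' : H}
  {Z T T' U L₀ Tr E : Subgroup H} {t u s : N} {Au Atu P R D : Subgroup N} {r mr q m : ℕ} {ε : ℤ}

theorem Fu.fx_eq (fu : Fu π z u₀ s₀ Tr E t u s Au Atu P R D r mr) : Fx u R = P ⊓ R := by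
  ext x
  rw [Fx, Subgroup.mem_inf, Subgroup.mem_inf, Subgroup.mem_centralizer_singleton_iff]
  constructor
  · rintro ⟨h1, h2⟩
    exact ⟨fu.fix_le x h1 h2.symm, h1⟩
  · rintro ⟨h1, h2⟩
    exact ⟨h2, (fu.P_comm x h1).eq.symm⟩

theorem Fu.mr_pos' (fu : Fu π z u₀ s₀ Tr E t u s Au Atu P R D r mr) : 0 < mr := by
  obtain ⟨k, hk⟩ := fu.mr_eq
  rw [hk]
  exact pow_pos fu.prime.pos _

/-- The index computation: `|P ∩ R : P ∩ R ∩ A| = mr` and `|P ∩ R ∩ A : P₀| = mr`. -/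
theorem index_aux {P R A B : Subgroup N} {mr : ℕ} (hmr : 0 < mr)
    (hA : (P ⊓ A).relIndex P = mr) (hB : (P ⊓ B).relIndex P = mr)
    (hR : (P ⊓ R).relIndex P = mr) (h0 : (P ⊓ R ⊓ A ⊓ B).relIndex P = mr ^ 3) :
    (P ⊓ R ⊓ A).relIndex (P ⊓ R) = mr ∧ (P ⊓ R ⊓ A ⊓ B).relIndex (P ⊓ R ⊓ A) = mr := by
  have hAP : A.relIndex P = mr := by
    rw [← hA, inf_comm, Subgroup.inf_relIndex_right]
  have hBP : B.relIndex P = mr := by
    rw [← hB, inf_comm, Subgroup.inf_relIndex_right]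
  have h1 : (P ⊓ R ⊓ A ⊓ B).relIndex (P ⊓ R ⊓ A) ≤ mr := by
    rw [inf_comm (P ⊓ R ⊓ A) B, Subgroup.inf_relIndex_right, ← hBP]
    exact Subgroup.relIndex_le_of_le_right (inf_le_left.trans inf_le_left) (by rw [hBP]; omega)
  have h2 : (P ⊓ R ⊓ A).relIndex (P ⊓ R) ≤ mr := by
    rw [inf_comm (P ⊓ R) A, Subgroup.inf_relIndex_right, ← hAP]
    exact Subgroup.relIndex_le_of_le_right inf_le_left (by rw [hAP]; omega)
  have h3 : (P ⊓ R ⊓ A ⊓ B).relIndex (P ⊓ R ⊓ A) * (P ⊓ R ⊓ A).relIndex (P ⊓ R) *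
      (P ⊓ R).relIndex P = mr ^ 3 := by
    rw [Subgroup.relIndex_mul_relIndex _ _ _ inf_le_left inf_le_left,
      Subgroup.relIndex_mul_relIndex _ _ _ (inf_le_left.trans inf_le_left) inf_le_left, h0]
  rw [hR] at h3
  set x := (P ⊓ R ⊓ A ⊓ B).relIndex (P ⊓ R ⊓ A)
  set y := (P ⊓ R ⊓ A).relIndex (P ⊓ R)
  have h4 : x * y = mr * mr := by
    apply Nat.eq_of_mul_eq_mul_right hmr
    rw [h3]
    ring
  constructor
  · by_contra hne
    have h5 : y < mr := lt_of_le_of_ne h2 hne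
    have h6 : x * y < mr * mr := by
      calc x * y ≤ mr * y := Nat.mul_le_mul_right _ h1
        _ < mr * mr := Nat.mul_lt_mul_of_pos_left h5 hmr
    omega
  · by_contra hne
    have h5 : x < mr := lt_of_le_of_ne h1 hne
    have h6 : x * y < mr * mr := by
      calc x * y ≤ x * mr := Nat.mul_le_mul_left _ h2
        _ < mr * mr := Nat.mul_lt_mul_of_pos_right h5 hmr
    omega

theorem Fu.sup_eq (fu : Fu π z u₀ s₀ Tr E t u s Au Atu P R D r mr) :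
    (P ⊓ R ⊓ Au) ⊔ (P ⊓ R ⊓ Atu) = P ⊓ R := by
  have hmr := Fu.mr_pos' fu
  have h0' : (P ⊓ R ⊓ Atu ⊓ Au).relIndex P = mr ^ 3 := by
    rw [← fu.idx_0]
    rw [inf_assoc (P ⊓ R), inf_comm Atu Au, ← inf_assoc]
  obtain ⟨h1, -⟩ := index_aux hmr fu.idx_u fu.idx_tu fu.idx_t fu.idx_0
  obtain ⟨-, h2⟩ := index_aux hmr fu.idx_tu fu.idx_u fu.idx_t h0'
  have hle : (P ⊓ R ⊓ Au) ⊔ (P ⊓ R ⊓ Atu) ≤ P ⊓ R := sup_le inf_le_left inf_le_left
  have h3 : (P ⊓ R ⊓ Au).relIndex (P ⊓ R ⊓ Atu) = mr := by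
    rw [← h2]
    have h4 : P ⊓ R ⊓ Atu ⊓ Au = (P ⊓ R ⊓ Au) ⊓ (P ⊓ R ⊓ Atu) := by
      ext x
      simp only [Subgroup.mem_inf]
      tauto
    rw [h4, Subgroup.inf_relIndex_right]
  have h4 : (P ⊓ R ⊓ Au).relIndex ((P ⊓ R ⊓ Au) ⊔ (P ⊓ R ⊓ Atu)) *
      ((P ⊓ R ⊓ Au) ⊔ (P ⊓ R ⊓ Atu)).relIndex (P ⊓ R) = mr := by
    rw [Subgroup.relIndex_mul_relIndex _ _ _ le_sup_left hle, h1]
  have h5 : mr ≤ (P ⊓ R ⊓ Au).relIndex ((P ⊓ R ⊓ Au) ⊔ (P ⊓ R ⊓ Atu)) := by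
    rw [← h3]
    apply Subgroup.relIndex_le_of_le_right le_sup_right
    intro h6
    rw [h6, zero_mul] at h4
    omega
  have h6 : ((P ⊓ R ⊓ Au) ⊔ (P ⊓ R ⊓ Atu)).relIndex (P ⊓ R) = 1 := by
    by_contra hne
    have h7 : ((P ⊓ R ⊓ Au) ⊔ (P ⊓ R ⊓ Atu)).relIndex (P ⊓ R) ≠ 0 := by
      intro h8
      rw [h8, mul_zero] at h4
      omega
    have h8 : 2 ≤ ((P ⊓ R ⊓ Au) ⊔ (P ⊓ R ⊓ Atu)).relIndex (P ⊓ R) := by omega
    nlinarith
  exact le_antisymm hle (Subgroup.relIndex_eq_one.1 h6)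

/-- A character of `C_R(u)` trivial on `Au` and on `Atu` is trivial. -/
theorem Fu.eq_one (fu : Fu π z u₀ s₀ Tr E t u s Au Atu P R D r mr) {χ : Fx u R →* ℂˣ}
    (h1 : ∀ x : Fx u R, (x : N) ∈ Au → χ x = 1) (h2 : ∀ x : Fx u R, (x : N) ∈ Atu → χ x = 1) :
    χ = 1 := by
  have h3 : P ⊓ R ≤ χ.ker.map (Fx u R).subtype := by
    rw [← fu.sup_eq]
    refine sup_le ?_ ?_
    · rintro x ⟨hx, hxA⟩
      have hx' : x ∈ Fx u R := by rw [fu.fx_eq]; exact hx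
      exact ⟨⟨x, hx'⟩, h1 ⟨x, hx'⟩ hxA, rfl⟩
    · rintro x ⟨hx, hxA⟩
      have hx' : x ∈ Fx u R := by rw [fu.fx_eq]; exact hx
      exact ⟨⟨x, hx'⟩, h2 ⟨x, hx'⟩ hxA, rfl⟩
  ext x
  have hx : (x : N) ∈ P ⊓ R := by
    rw [← fu.fx_eq]
    exact x.2
  obtain ⟨y, hy, hyx⟩ := h3 hx
  have h4 : y = x := Subtype.ext hyx
  rw [← h4, MonoidHom.mem_ker.1 hy]
  rfl

/-- `P` acts trivially on `P / (P ∩ A)` if this group is cyclic. -/
theorem comm_mem {P A : Subgroup N} (hA : ∀ g ∈ P, ∀ x ∈ A, g * x * g⁻¹ ∈ A)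
    (hcyc : ∃ g ∈ P, ∀ x ∈ P, ∃ k : ℕ, x * (g ^ k)⁻¹ ∈ A) {p x : N} (hp : p ∈ P) (hx : x ∈ P) :
    p * x * p⁻¹ * x⁻¹ ∈ A := by
  obtain ⟨g, hg, hgen⟩ := hcyc
  obtain ⟨l, hl⟩ := hgen p hp
  obtain ⟨k, hk⟩ := hgen x hx
  set b := p * (g ^ l)⁻¹ with hb
  set a := x * (g ^ k)⁻¹ with ha
  have hp' : p = b * g ^ l := by rw [hb]; group
  have hx' : x = a * g ^ k := by rw [ha]; group
  have h1 : p * x * p⁻¹ * x⁻¹ = b * (g ^ l * a * (g ^ l)⁻¹) * (g ^ k * b⁻¹ * (g ^ k)⁻¹) * a⁻¹ := by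
    have h2 : g ^ l * g ^ k = g ^ k * g ^ l := by rw [← pow_add, ← pow_add, add_comm]
    have h3 : g ^ k * (g ^ l)⁻¹ = (g ^ l)⁻¹ * g ^ k := by
      rw [mul_inv_eq_iff_eq_mul, mul_assoc, ← h2, inv_mul_cancel_left]
    calc p * x * p⁻¹ * x⁻¹ = b * g ^ l * a * (g ^ k * (g ^ l)⁻¹) * b⁻¹ * (g ^ k)⁻¹ * a⁻¹ := by
          rw [hp', hx']; group
      _ = _ := by rw [h3]; group
  rw [h1]
  exact A.mul_mem (A.mul_mem (A.mul_mem hl (hA _ (P.pow_mem hg l) _ hk))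
    (hA _ (P.pow_mem hg k) _ (A.inv_mem hl))) (A.inv_mem hk)

/-- The main statement, for a correspondence satisfying equivariance and injectivity. -/
theorem J_ge_aux (geo : Geo z q ε Z T T' U s₀ s₀' u₀ L₀ Tr E r) [hRn : R.Normal]
    (fu : Fu π z u₀ s₀ Tr E t u s Au Atu P R D r mr) {χ : Fx u R →* ℂˣ}
    (hχ : IsX R u Au χ ∨ IsX R u Atu χ) {θ : R → ℂ}
    (hst : ∀ g : N, Commute u g → (∀ x y : Fx u R, (y : N) = g * x * g⁻¹ → χ y = χ x) →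
      g ∈ stab R θ)
    (hst' : ∀ g : N, g * u * g⁻¹ = t * u → g ∈ stab R θ →
      ∀ x y : Fx u R, (y : N) = g * x * g⁻¹ → χ y = χ x) :
    Tr ≤ Jim π θ ∧ E ≤ Jim π θ ∧ ¬ L₀ ≤ Jim π θ := by
  -- elements commuting with `u` that act trivially on `P ∩ R` modulo `Au ∩ Atu`
  have key : ∀ g, Commute u g → (∀ x ∈ P ⊓ R, g * x * g⁻¹ * x⁻¹ ∈ Au ⊓ Atu) →
      g ∈ stab R θ := by
    intro g hg hx
    apply hst g hg
    intro x y hyx
    have hxPR : (x : N) ∈ P ⊓ R := by rw [← fu.fx_eq]; exact x.2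
    have h1 := hx x hxPR
    rw [← hyx] at h1
    have h2 : χ (y * x⁻¹) = 1 := by
      rcases hχ with h3 | h3
      · exact h3.triv _ h1.1
      · exact h3.triv _ h1.2
    rwa [map_mul, map_inv, mul_inv_eq_one] at h2
  have hTr : Tr ≤ Jim π θ := by
    rw [← fu.map_P]
    rintro _ ⟨p, hp, rfl⟩
    refine ⟨p, key p (fu.P_comm p hp) ?_, rfl⟩
    intro x hx
    exact ⟨comm_mem (fun g hg => fu.Au_conj g (fu.P_comm g hg)) fu.cyc_u hp hx.1,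
      comm_mem (fun g hg => fu.Atu_conj g (fu.P_comm g hg)) fu.cyc_tu hp hx.1⟩
  have hD : ∀ d ∈ D, d ∈ stab R θ := by
    intro d hd
    refine key d (fu.D_comm d hd) ?_
    intro x hx
    have h1 := fu.D_P d hd x hx.1
    exact ⟨h1.1.2, h1.2⟩
  have hE : E ≤ Jim π θ := by
    rw [← fu.map_D]
    rintro _ ⟨d, hd, rfl⟩
    exact ⟨d, hD d hd, rfl⟩
  refine ⟨hTr, hE, fun hL => ?_⟩
  -- `s₀` is in the image
  have hs : s₀ ∈ Jim π θ := (sup_le hL hE) geo.s_mem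
  obtain ⟨g, hg, hgs⟩ := hs
  -- correct `g` by an element of the kernel
  have htu : ∀ x, Commute t x := fu.t_comm
  have hb : (t * u) * (t * u) = 1 := by
    have : t * u * (t * u) = (t * t) * (u * u) := by
      rw [mul_assoc, ← mul_assoc u t u, ← (htu u).eq, mul_assoc t u u, ← mul_assoc, ← mul_assoc,
        mul_assoc (t * t)]
    rw [this, fu.tt, fu.uu, one_mul]
  have ha : (g * u * g⁻¹) * (g * u * g⁻¹) = 1 := by
    have : (g * u * g⁻¹) * (g * u * g⁻¹) = g * (u * u) * g⁻¹ := by group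
    rw [this, fu.uu]
    group
  have hker : (g * u * g⁻¹) * (t * u) ∈ π.ker := by
    rw [MonoidHom.mem_ker]
    have h1 : π (g * u * g⁻¹) = π (t * u) := by
      rw [← fu.su, map_mul, map_mul, map_inv, map_mul, map_mul, map_inv, hgs, fu.map_s]
    rw [map_mul, h1, ← map_mul, hb, map_one]
  have hodd : Odd (orderOf ((g * u * g⁻¹) * (t * u))) := by
    have h1 : orderOf ((g * u * g⁻¹) * (t * u)) ∣ Nat.card π.ker := by
      have := orderOf_dvd_natCard (⟨_, hker⟩ : π.ker)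
      rwa [← Subgroup.orderOf_coe] at this
    exact Odd.of_dvd_nat fu.oddK h1
  obtain ⟨y, hy, hyab⟩ := FuStab.exists_conj_invol ha hb hodd
  have hstab : (g * u * g⁻¹) * (t * u) ∈ stab R θ :=
    mul_mem (mul_mem (mul_mem hg (hD u fu.u_D)) (inv_mem hg)) (mul_mem (hD t fu.t_D) (hD u fu.u_D))
  have hyst : y ∈ stab R θ := (Subgroup.zpowers_le.2 hstab) hy
  set g' := y⁻¹ * g with hg'
  have hg'st : g' ∈ stab R θ := mul_mem (inv_mem hyst) hg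
  have hg'u : g' * u * g'⁻¹ = t * u := by
    rw [← hyab, hg']
    group
  -- `g' s⁻¹` commutes with `u`
  have hc : Commute u (g' * s⁻¹) := by
    have h1 : (g' * s⁻¹) * (t * u) * (g' * s⁻¹)⁻¹ = t * u := by
      rw [← fu.su]
      have : g' * s⁻¹ * (s * u * s⁻¹) * (g' * s⁻¹)⁻¹ = g' * u * g'⁻¹ := by group
      rw [this, hg'u, fu.su]
    have h2 : (g' * s⁻¹) * (t * u) * (g' * s⁻¹)⁻¹ = t * ((g' * s⁻¹) * u * (g' * s⁻¹)⁻¹) := by
      rw [← mul_assoc (g' * s⁻¹) t u, ← (htu (g' * s⁻¹)).eq]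
      group
    rw [h2] at h1
    have h3 := mul_left_cancel h1
    exact (mul_inv_eq_iff_eq_mul.1 h3).symm
  have hact : ∀ A B : Subgroup N, (∀ x, x ∈ B ↔ s * x * s⁻¹ ∈ A) →
      (∀ g, Commute u g → ∀ x ∈ A, g * x * g⁻¹ ∈ A) → IsX R u A χ →
      ∀ x : Fx u R, (x : N) ∈ B → χ x = 1 := by
    intro A B hAB hA hXA x hx
    have hmem : g' * x * g'⁻¹ ∈ Fx u R := by
      refine ⟨hRn.conj_mem _ x.2.1 g', ?_⟩
      have hux : Commute u (x : N) := by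
        have := x.2.2
        exact (Subgroup.mem_centralizer_singleton_iff.1 this).symm
      show g' * x * g'⁻¹ ∈ Subgroup.centralizer ({u} : Set N)
      rw [Subgroup.mem_centralizer_singleton_iff]
      have h1 : Commute (g' * u * g'⁻¹) (g' * x * g'⁻¹) := by
        show g' * u * g'⁻¹ * (g' * x * g'⁻¹) = g' * x * g'⁻¹ * (g' * u * g'⁻¹)
        have e1 : g' * u * g'⁻¹ * (g' * x * g'⁻¹) = g' * (u * x) * g'⁻¹ := by group
        have e2 : g' * x * g'⁻¹ * (g' * u * g'⁻¹) = g' * (x * u) * g'⁻¹ := by group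
        rw [e1, e2, hux.eq]
      rw [hg'u] at h1
      have h2 : Commute (t * (t * u)) (g' * x * g'⁻¹) := (htu _).mul_left h1
      rw [← mul_assoc, fu.tt, one_mul] at h2
      exact h2.eq.symm
    have h1 := hst' g' hg'u hg'st x ⟨_, hmem⟩ rfl
    rw [← h1]
    apply hXA.triv
    show g' * x * g'⁻¹ ∈ A
    have h2 : g' * x * g'⁻¹ = (g' * s⁻¹) * (s * x * s⁻¹) * (g' * s⁻¹)⁻¹ := by group
    rw [h2]
    exact hA _ hc _ ((hAB x).1 hx)
  rcases hχ with h1 | h1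
  · exact h1.ne_one (fu.eq_one h1.triv (hact Au Atu fu.s_Atu fu.Au_conj h1))
  · exact h1.ne_one (fu.eq_one (hact Atu Au fu.s_Au fu.Atu_conj h1) h1.triv)

theorem Geo.z_ne (geo : Geo z q ε Z T T' U s₀ s₀' u₀ L₀ Tr E r) : z ≠ 1 := by
  intro h1
  have := geo.chyp.orderOf_t
  rw [h1, orderOf_one] at this
  omega

theorem Fu.u_ne' (geo : Geo z q ε Z T T' U s₀ s₀' u₀ L₀ Tr E r)
    (fu : Fu π z u₀ s₀ Tr E t u s Au Atu P R D r mr) : u ≠ 1 := by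
  intro h1
  have h2 := fu.su
  rw [h1, mul_one, mul_one, mul_inv_cancel] at h2
  apply geo.z_ne
  rw [← fu.map_t, ← h2, map_one]

/-- The image `J` of the stabiliser of `π_χ` contains `Tr` and `E`, and does not contain
`L₀ = SL₂(q)`. -/
theorem J_ge (geo : Geo z q ε Z T T' U s₀ s₀' u₀ L₀ Tr E r) [R.Normal]
    (fu : Fu π z u₀ s₀ Tr E t u s Au Atu P R D r mr) {χ : Fx u R →* ℂˣ}
    (hχ : IsX R u Au χ ∨ IsX R u Atu χ) {θ : R → ℂ} (h : GC R u θ χ) :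
    Tr ≤ Jim π θ ∧ E ≤ Jim π θ ∧ ¬ L₀ ≤ Jim π θ :=
  J_ge_aux geo fu hχ (fun _ hg hx => (FuEquiv.mem_stab_iff fu (Fu.u_ne' geo fu) h (Or.inl hg)).2 hx)
    (fun _ hg hst => (FuEquiv.mem_stab_iff fu (Fu.u_ne' geo fu) h (Or.inr hg)).1 hst)

end Index

end Cfsg.Agent.Classification.QDW.CaseU
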