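import Mathlib

/-!
# The numbers of the field case `U` (quasi-dihedral, `ε = 1`)

`q = p ^ n ≡ 3 mod 4`, `α = X₂(1) - q²`, `z = X₃(1) - q² + 1`, `α z = q² (q² - 1)`.  If the degrees
`(q+1) x` satisfy the degree formula and the two averages then `X₃(1) = q³ + ...`, i.e. `z = q+1`.
No integrality of `k` is used.
-/

set_option autoImplicit false

namespace Cfsg.Agent.Classification.QDW.FuNum

/-- The stripping lemma: what the degree formula says about the prime-to-`q` part and the `p`-part. -/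
theorem core {p n : ℕ} (hp : p.Prime) {q : ℤ} (hq : q = (p : ℤ) ^ n) (hn : 0 < n)
    {τ i N a X : ℤ} (hτ : τ = 1 ∨ τ = -1) (hN : N = q * i + τ) (hX : 0 < X) (hi : i ≠ 0)
    (hqτ : q + τ ≠ 0)
    (h : a * q * N ^ 2 = (q + 1) ^ 3 * (q + τ) * i * (q ^ 2 * i - 1) * X) :
    ∃ e₁ w N₁ e M : ℤ, 0 < e₁ ∧ 0 < e ∧ q + τ = e₁ * w ∧ N = e₁ * N₁ ∧ N₁ = e * M ∧ e ∣ q + 1 ∧
      IsCoprime N₁ w ∧ M ^ 2 ∣ e * X ∧ (q ∣ X ∨ q * M ^ 2 ≤ |i| * e * X) := by
  have hpp : Prime (p : ℤ) := Nat.prime_iff_prime_int.1 hp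
  have hp1 : (1 : ℤ) < p := by exact_mod_cast hp.one_lt
  have hττ : τ * τ = 1 := by rcases hτ with h | h <;> rw [h] <;> norm_num
  have hq1 : 1 < q := by rw [hq]; exact one_lt_pow₀ hp1 hn.ne'
  have hpq : (p : ℤ) ∣ q := by rw [hq]; exact dvd_pow_self _ hn.ne'
  -- `e₁`
  have hg1 : (0 : ℤ) < Int.gcd N (q + τ) := by
    have := Int.gcd_pos_of_ne_zero_right N hqτ
    exact_mod_cast this
  obtain ⟨N₁, hN₁⟩ := Int.gcd_dvd_left N (q + τ)
  obtain ⟨w, hw⟩ := Int.gcd_dvd_right N (q + τ)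
  set e₁ : ℤ := (Int.gcd N (q + τ) : ℤ) with he₁
  have hcop1 : IsCoprime N₁ w := by
    have h1 := Int.gcd_eq_gcd_ab N (q + τ)
    rw [← he₁] at h1
    refine ⟨Int.gcdA N (q + τ), Int.gcdB N (q + τ), ?_⟩
    have h2 : e₁ * (Int.gcdA N (q + τ) * N₁ + Int.gcdB N (q + τ) * w) = e₁ * 1 := by
      calc e₁ * (Int.gcdA N (q + τ) * N₁ + Int.gcdB N (q + τ) * w)
          = (e₁ * N₁) * Int.gcdA N (q + τ) + (e₁ * w) * Int.gcdB N (q + τ) := by ring
        _ = N * Int.gcdA N (q + τ) + (q + τ) * Int.gcdB N (q + τ) := by rw [← hN₁, ← hw]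
        _ = e₁ * 1 := by rw [← h1, mul_one]
    exact mul_left_cancel₀ hg1.ne' h2
  -- `e`
  have hq1' : q + 1 ≠ 0 := by omega
  have hg2 : (0 : ℤ) < Int.gcd N₁ (q + 1) := by
    have := Int.gcd_pos_of_ne_zero_right N₁ hq1'
    exact_mod_cast this
  obtain ⟨M, hM⟩ := Int.gcd_dvd_left N₁ (q + 1)
  obtain ⟨w', hw'⟩ := Int.gcd_dvd_right N₁ (q + 1)
  set e : ℤ := (Int.gcd N₁ (q + 1) : ℤ) with he
  have hcop2 : IsCoprime M w' := by
    have h1 := Int.gcd_eq_gcd_ab N₁ (q + 1)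
    rw [← he] at h1
    refine ⟨Int.gcdA N₁ (q + 1), Int.gcdB N₁ (q + 1), ?_⟩
    have h2 : e * (Int.gcdA N₁ (q + 1) * M + Int.gcdB N₁ (q + 1) * w') = e * 1 := by
      calc e * (Int.gcdA N₁ (q + 1) * M + Int.gcdB N₁ (q + 1) * w')
          = (e * M) * Int.gcdA N₁ (q + 1) + (e * w') * Int.gcdB N₁ (q + 1) := by ring
        _ = N₁ * Int.gcdA N₁ (q + 1) + (q + 1) * Int.gcdB N₁ (q + 1) := by rw [← hM, ← hw']
        _ = e * 1 := by rw [← h1, mul_one]
    exact mul_left_cancel₀ hg2.ne' h2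
  -- coprimality facts
  have hNi : IsCoprime N i := by
    refine ⟨τ, -(τ * q), ?_⟩
    rw [hN]; linear_combination hττ
  have hNq : IsCoprime N q := by
    refine ⟨τ, -(τ * i), ?_⟩
    rw [hN]; linear_combination hττ
  have hN₁N : N₁ ∣ N := ⟨e₁, by rw [hN₁]; ring⟩
  have hMN₁ : M ∣ N₁ := ⟨e, by rw [hM]; ring⟩
  -- first stripping
  have hkey : q ^ 2 * i - 1 = e₁ * (q * N₁ - τ * w) := by
    have : q ^ 2 * i - 1 = q * N - τ * (q + τ) := by rw [hN]; linear_combination hττ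
    rw [this, hN₁, hw]; ring
  have hA : a * q * N₁ ^ 2 = (q + 1) ^ 3 * w * i * (q * N₁ - τ * w) * X := by
    have h1 : e₁ ^ 2 * (a * q * N₁ ^ 2) =
        e₁ ^ 2 * ((q + 1) ^ 3 * w * i * (q * N₁ - τ * w) * X) := by
      calc e₁ ^ 2 * (a * q * N₁ ^ 2) = a * q * (e₁ * N₁) ^ 2 := by ring
        _ = a * q * N ^ 2 := by rw [← hN₁]
        _ = (q + 1) ^ 3 * (q + τ) * i * (q ^ 2 * i - 1) * X := h
        _ = (q + 1) ^ 3 * (e₁ * w) * i * (e₁ * (q * N₁ - τ * w)) * X := by rw [hkey, ← hw]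
        _ = _ := by ring
    exact mul_left_cancel₀ (pow_ne_zero 2 hg1.ne') h1
  have hcop3 : IsCoprime N₁ (w * i * (q * N₁ - τ * w)) := by
    refine IsCoprime.mul_right (IsCoprime.mul_right hcop1 (hNi.of_isCoprime_of_dvd_left hN₁N)) ?_
    have hτw : IsCoprime N₁ (-(τ * w)) := by
      obtain ⟨u, v, huv⟩ := hcop1
      refine ⟨u, -(τ * v), ?_⟩
      linear_combination huv + v * w * hττ
    have e : q * N₁ - τ * w = -(τ * w) + N₁ * q := by ring
    rw [e]
    exact hτw.add_mul_left_right q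
  have hB : N₁ ^ 2 ∣ (q + 1) ^ 3 * X := by
    have h1 : N₁ ^ 2 ∣ (w * i * (q * N₁ - τ * w)) * ((q + 1) ^ 3 * X) :=
      ⟨a * q, by linear_combination -hA⟩
    exact (hcop3.pow_left).dvd_of_dvd_mul_left h1
  -- second stripping
  have hC : M ^ 2 ∣ e * X := by
    obtain ⟨c, hc⟩ := hB
    have h1 : e ^ 2 * (w' ^ 3 * (e * X)) = e ^ 2 * (M ^ 2 * c) := by
      calc e ^ 2 * (w' ^ 3 * (e * X)) = (e * w') ^ 3 * X := by ring
        _ = (q + 1) ^ 3 * X := by rw [← hw']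
        _ = N₁ ^ 2 * c := hc
        _ = (e * M) ^ 2 * c := by rw [← hM]
        _ = _ := by ring
    have h2 := mul_left_cancel₀ (pow_ne_zero 2 hg2.ne') h1
    have h3 : M ^ 2 ∣ w' ^ 3 * (e * X) := ⟨c, h2⟩
    exact (hcop2.pow (m := 2) (n := 3)).dvd_of_dvd_mul_left h3
  refine ⟨e₁, w, N₁, e, M, hg1, hg2, hw, hN₁, hM, ⟨w', hw'⟩, hcop1, hC, ?_⟩
  -- the `p`-part
  by_cases hqX : q ∣ X
  · exact Or.inl hqX
  right
  have hD : q ∣ i * X := by
    have h1 : q ∣ ((q + 1) ^ 3 * (q + τ) * (q ^ 2 * i - 1)) * (i * X) :=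
      ⟨a * N ^ 2, by linear_combination -h⟩
    have hc1 : IsCoprime q (q + 1) := ⟨-1, 1, by ring⟩
    have hc2 : IsCoprime q (q + τ) := ⟨-τ, τ, by linear_combination hττ⟩
    have hc3 : IsCoprime q (q ^ 2 * i - 1) := ⟨q * i, -1, by ring⟩
    exact ((hc1.pow_right.mul_right hc2).mul_right hc3).dvd_of_dvd_mul_left h1
  -- write `X = p ^ v * X'`
  obtain ⟨v, X', hX'p, hXe⟩ : ∃ (v : ℕ) (X' : ℤ), ¬ (p : ℤ) ∣ X' ∧ X = (p : ℤ) ^ v * X' := by
    have hfin : FiniteMultiplicity (p : ℤ) X :=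
      Int.finiteMultiplicity_iff.2 ⟨by simpa using hp.one_lt.ne', hX.ne'⟩
    obtain ⟨c, hc, hc'⟩ := hfin.exists_eq_pow_mul_and_not_dvd
    exact ⟨_, c, hc', hc⟩
  have hppos : (0 : ℤ) < (p : ℤ) ^ v := pow_pos (by linarith) _
  have hX'pos : 0 < X' := by
    by_contra hcon
    push Not at hcon
    have : X ≤ 0 := by rw [hXe]; exact mul_nonpos_of_nonneg_of_nonpos hppos.le hcon
    linarith
  have hvn : v < n := by
    by_contra hcon
    push Not at hcon
    exact hqX (by rw [hq, hXe]; exact (pow_dvd_pow _ hcon).mul_right _)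
  have hi' : (p : ℤ) ^ (n - v) ∣ i := by
    have h1 : (p : ℤ) ^ v * (p : ℤ) ^ (n - v) ∣ (p : ℤ) ^ v * (X' * i) := by
      rw [← pow_add, Nat.add_sub_cancel' hvn.le, ← hq]
      convert hD using 1
      rw [hXe]; ring
    have h2 := (mul_dvd_mul_iff_left hppos.ne').1 h1
    have h3 : IsCoprime ((p : ℤ) ^ (n - v)) X' :=
      IsCoprime.pow_left ((Prime.coprime_iff_not_dvd hpp).2 hX'p)
    exact h3.dvd_of_dvd_mul_left h2
  have hile : (p : ℤ) ^ (n - v) ≤ |i| := Int.le_of_dvd (abs_pos.2 hi) ((dvd_abs _ _).2 hi')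
  have hqle : q ≤ |i| * (p : ℤ) ^ v := by
    calc q = (p : ℤ) ^ (n - v) * (p : ℤ) ^ v := by
          rw [← pow_add, Nat.sub_add_cancel hvn.le, hq]
      _ ≤ |i| * (p : ℤ) ^ v := mul_le_mul_of_nonneg_right hile hppos.le
  have hMp : IsCoprime (M ^ 2) ((p : ℤ) ^ v) := by
    refine IsCoprime.pow ?_
    refine (hNq.of_isCoprime_of_dvd_left (hMN₁.trans hN₁N)).of_isCoprime_of_dvd_right hpq
  have hM2 : M ^ 2 ∣ e * X' := by
    have h1 : M ^ 2 ∣ (p : ℤ) ^ v * (e * X') := by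
      convert hC using 1
      rw [hXe]; ring
    exact hMp.dvd_of_dvd_mul_left h1
  have hMle : M ^ 2 ≤ e * X' := Int.le_of_dvd (mul_pos hg2 hX'pos) hM2
  calc q * M ^ 2 ≤ (|i| * (p : ℤ) ^ v) * M ^ 2 := mul_le_mul_of_nonneg_right hqle (sq_nonneg _)
    _ ≤ (|i| * (p : ℤ) ^ v) * (e * X') :=
        mul_le_mul_of_nonneg_left hMle (mul_nonneg (abs_nonneg _) hppos.le)
    _ = |i| * e * X := by rw [hXe]; ring

theorem isCoprime_two_pow {m : ℤ} (hm : Odd m) (k : ℕ) : IsCoprime ((2 : ℤ) ^ k) m := by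
  obtain ⟨j, hj⟩ := hm
  exact IsCoprime.pow_left ⟨-j, 1, by rw [hj]; ring⟩

theorem two_adic {q T h e₁ e Δ : ℤ} {k : ℕ} (hT : T = 2 ^ k) (hTq : q + 1 = T * h) (hh : Odd h)
    (hq4 : q % 4 = 3) (he₁ : e₁ ∣ q - 1) (he : e ∣ q + 1) (h1 : e₁ ∣ Δ) (h2 : e ∣ Δ)
    (h4 : 4 * T ∣ Δ) : 2 * (e₁ * e) ∣ Δ := by
  obtain ⟨m, hm, hm1⟩ : ∃ m : ℤ, Odd m ∧ q - 1 = 2 * m := by
    refine ⟨(q - 1) / 2, ?_, ?_⟩
    · rw [Int.odd_iff]; omega
    · omega
  rw [hm1] at he₁
  rw [hTq] at he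
  obtain ⟨a₁, o₁, ha₁, ho₁, e1⟩ := exists_dvd_and_dvd_of_dvd_mul he₁
  obtain ⟨a₂, o₂, ha₂, ho₂, e2⟩ := exists_dvd_and_dvd_of_dvd_mul he
  have hmh : IsCoprime m h := by
    -- `T h - 2 m = 2`
    have h5 : T * h - 2 * m = 2 := by rw [← hTq, ← hm1]; ring
    obtain ⟨j, hj⟩ := hm
    refine ⟨1 + 2 * j , -j * T, ?_⟩
    linear_combination (-j) * h5 + hj
  have hT4 : 4 * T = 2 ^ (k + 2) := by rw [hT]; ring
  have c1 : IsCoprime (4 * T) o₁ := by
    rw [hT4]; exact (isCoprime_two_pow hm _).of_isCoprime_of_dvd_right ho₁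
  have c2 : IsCoprime (4 * T) o₂ := by
    rw [hT4]; exact (isCoprime_two_pow hh _).of_isCoprime_of_dvd_right ho₂
  have c3 : IsCoprime o₁ o₂ :=
    (hmh.of_isCoprime_of_dvd_left ho₁).of_isCoprime_of_dvd_right ho₂
  have d1 : o₁ ∣ Δ := (Dvd.intro_left a₁ e1.symm).trans h1
  have d2 : o₂ ∣ Δ := (Dvd.intro_left a₂ e2.symm).trans h2
  have d3 : 4 * T * (o₁ * o₂) ∣ Δ := (c1.mul_right c2).mul_dvd h4 (c3.mul_dvd d1 d2)
  refine dvd_trans ?_ d3
  have : 2 * (a₁ * a₂) ∣ 4 * T := by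
    have h6 := mul_dvd_mul (dvd_refl (2:ℤ)) (mul_dvd_mul ha₁ ha₂)
    rwa [← mul_assoc 2 2 T] at h6
  calc 2 * (e₁ * e) = (2 * (a₁ * a₂)) * (o₁ * o₂) := by rw [e1, e2]; ring
    _ ∣ 4 * T * (o₁ * o₂) := mul_dvd_mul this (dvd_refl _)


/-! ### exponential inequalities -/

theorem nine_mul_le {n : ℕ} (hn : 3 ≤ n) : 9 * n ≤ 3 ^ n := by
  induction n, hn using Nat.le_induction with
  | base => norm_num
  | succ m hm ih => rw [pow_succ]; omega

theorem sq_lt {n : ℕ} (hn : 3 ≤ n) : (2 * n + 1) ^ 2 < 2 * 3 ^ n := by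
  induction n, hn using Nat.le_induction with
  | base => norm_num
  | succ m hm ih => rw [pow_succ 3]; nlinarith

theorem sq_le {n : ℕ} (hn : 4 ≤ n) : (2 * n + 1) ^ 2 ≤ 3 ^ n := by
  induction n, hn using Nat.le_induction with
  | base => norm_num
  | succ m hm ih => rw [pow_succ 3]; nlinarith

theorem four_mul_lt {k : ℕ} (hk : 2 ≤ k) : 4 * k < 3 ^ k + 1 := by
  induction k, hk using Nat.le_induction with
  | base => norm_num
  | succ m hm ih => rw [pow_succ]; omega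

/-- The parameters. -/
structure Par (p n : ℕ) (q f mr : ℤ) : Prop where
  prime : p.Prime
  eq : q = (p : ℤ) ^ n
  mod4 : q % 4 = 3
  three_le : 3 ≤ f
  f_le : f ≤ n
  mr_le : 2 * (n : ℤ) + 1 ≤ mr

section

variable {p n : ℕ} {q f mr : ℤ}

theorem Par.n_ge (h : Par p n q f mr) : 3 ≤ n := by
  have h1 := h.three_le; have h2 := h.f_le; omega

theorem Par.p_ge (h : Par p n q f mr) : 3 ≤ p := by
  have h1 := h.prime.two_le
  rcases Nat.lt_or_ge p 3 with h2 | h2
  · exfalso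
    have hp : p = 2 := by omega
    have h3 := h.eq
    have h4 := h.mod4
    have hn := h.n_ge
    obtain ⟨m, rfl⟩ : ∃ m, n = m + 2 := ⟨n - 2, by omega⟩
    rw [hp, pow_add] at h3
    push_cast at h3
    omega
  · exact h2

theorem Par.pow_le (h : Par p n q f mr) : (3 : ℤ) ^ n ≤ q := by
  rw [h.eq]
  exact pow_le_pow_left₀ (by norm_num) (by exact_mod_cast h.p_ge) _

theorem Par.nine_f_le (h : Par p n q f mr) : 9 * f ≤ q := by
  have h1 := h.pow_le
  have h2 : (9 * n : ℤ) ≤ 3 ^ n := by exact_mod_cast nine_mul_le h.n_ge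
  have := h.f_le
  linarith

theorem Par.q_ge (h : Par p n q f mr) : 27 ≤ q := by
  have := h.nine_f_le; have := h.three_le; linarith

theorem Par.odd_n (h : Par p n q f mr) : Odd n := by
  by_contra hcon
  rw [Nat.not_odd_iff_even] at hcon
  obtain ⟨m, hm⟩ := hcon
  have h1 := h.eq
  have h2 := h.mod4
  rw [hm, pow_add] at h1
  rcases Int.emod_two_eq_zero_or_one ((p : ℤ) ^ m) with h3 | h3
  · have : (2 : ℤ) ∣ (p : ℤ) ^ m := Int.dvd_of_emod_eq_zero h3
    obtain ⟨c, hc⟩ := this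
    rw [hc] at h1
    have : q = 4 * (c * c) := by rw [h1]; ring
    omega
  · obtain ⟨c, hc⟩ : ∃ c : ℤ, (p : ℤ) ^ m = 2 * c + 1 := ⟨(p : ℤ) ^ m / 2, by omega⟩
    rw [hc] at h1
    have : q = 4 * (c * c + c) + 1 := by rw [h1]; ring
    omega

/-- `p ^ ((n+1)/2)` does not divide a positive integer `≤ 2 f + 1`. -/
theorem Par.not_dvd (h : Par p n q f mr) {x : ℤ} (hx0 : 0 < x) (hx : x ≤ 2 * f + 1) :
    ¬ (p : ℤ) ^ (n + 1) ∣ x ^ 2 := by
  intro hd
  obtain ⟨k, hk⟩ := h.odd_n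
  have hn := h.n_ge
  have e : n + 1 = (k + 1) * 2 := by omega
  rw [e, pow_mul] at hd
  have h1 : (p : ℤ) ^ (k + 1) ∣ x := (Int.pow_dvd_pow_iff two_ne_zero).1 hd
  have h2 := Int.le_of_dvd hx0 h1
  have h3 : (3 : ℤ) ^ (k + 1) ≤ (p : ℤ) ^ (k + 1) :=
    pow_le_pow_left₀ (by norm_num) (by exact_mod_cast h.p_ge) _
  have h4 : (4 * (k + 1 : ℕ) : ℤ) < 3 ^ (k + 1) + 1 := by exact_mod_cast four_mul_lt (by omega)
  have h5 := h.f_le
  rw [hk] at h5
  push_cast at h4 h5
  linarith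

/-- `q` does not divide `x ^ 2`. -/
theorem Par.not_dvd_sq (h : Par p n q f mr) {x : ℤ} (hx0 : 0 < x) (hx : x ≤ 2 * f + 1) :
    ¬ q ∣ x ^ 2 := by
  intro hd
  apply h.not_dvd hx0 hx
  have hpp : Prime (p : ℤ) := Nat.prime_iff_prime_int.1 h.prime
  obtain ⟨k, hk⟩ := h.odd_n
  rw [h.eq, hk] at hd
  have h1 : (p : ℤ) ^ k ∣ x := by
    have : ((p : ℤ) ^ k) ^ 2 ∣ x ^ 2 := by
      rw [← pow_mul]
      exact (pow_dvd_pow _ (by omega)).trans hd
    exact (Int.pow_dvd_pow_iff two_ne_zero).1 this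
  obtain ⟨c, hc⟩ := h1
  have hp0 : (p : ℤ) ^ (2 * k) ≠ 0 := pow_ne_zero _ hpp.ne_zero
  have h2 : (p : ℤ) ^ (2 * k) * (p : ℤ) ∣ (p : ℤ) ^ (2 * k) * c ^ 2 := by
    have e2 : (p : ℤ) ^ (2 * k) * c ^ 2 = x ^ 2 := by rw [hc]; ring
    rw [e2, ← pow_succ]; exact hd
  have h3 : (p : ℤ) ∣ c ^ 2 := (mul_dvd_mul_iff_left hp0).1 h2
  have h4 : (p : ℤ) ∣ c := hpp.dvd_of_dvd_pow h3
  obtain ⟨d, hd'⟩ := h4
  refine ⟨d ^ 2, ?_⟩
  rw [hc, hd', hk]; ring

theorem Par.mr_ge (h : Par p n q f mr) : 2 * f + 1 ≤ mr := by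
  have := h.f_le; have := h.mr_le; linarith

theorem Par.x_le (h : Par p n q f mr) {x D : ℤ}
    (hD : D ≤ 2 * (q ^ 2 - 1)) (hx : x * (q ^ 2 - 1) * (mr - 1) ≤ D * mr * f) :
    x ≤ 2 * f + 1 := by
  have h1 := h.three_le
  have h2 := h.mr_ge
  have hq := h.q_ge
  have hq2 : 0 < q ^ 2 - 1 := by nlinarith
  by_contra hcon
  push Not at hcon
  have h3 : (q ^ 2 - 1) * (x * (mr - 1)) ≤ (q ^ 2 - 1) * (2 * mr * f) := by
    calc (q ^ 2 - 1) * (x * (mr - 1)) = x * (q ^ 2 - 1) * (mr - 1) := by ring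
      _ ≤ D * mr * f := hx
      _ ≤ 2 * (q ^ 2 - 1) * mr * f := by
          have : 0 ≤ mr * f := mul_nonneg (by linarith) (by linarith)
          nlinarith
      _ = _ := by ring
  have h4 := le_of_mul_le_mul_left h3 hq2
  nlinarith

theorem Par.x_le_f (h : Par p n q f mr) {x D : ℤ}
    (hD : D < q ^ 2 - 1) (hx : x * (q ^ 2 - 1) * (mr - 1) ≤ D * mr * f) : x ≤ f := by
  have h1 := h.three_le
  have h2 := h.mr_ge
  have hq := h.q_ge
  have hq2 : 0 < q ^ 2 - 1 := by nlinarith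
  by_contra hcon
  push Not at hcon
  have h3 : (q ^ 2 - 1) * (x * (mr - 1)) < (q ^ 2 - 1) * (mr * f) := by
    calc (q ^ 2 - 1) * (x * (mr - 1)) = x * (q ^ 2 - 1) * (mr - 1) := by ring
      _ ≤ D * mr * f := hx
      _ = D * (mr * f) := by ring
      _ < (q ^ 2 - 1) * (mr * f) := by
          have : 0 < mr * f := mul_pos (by linarith) (by linarith)
          exact mul_lt_mul_of_pos_right hD this
  have h4 := lt_of_mul_lt_mul_left h3 hq2.le
  nlinarith

theorem Par.D_ge (h : Par p n q f mr) {x D : ℤ} (hfx : f ≤ x)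
    (hx : x * (q ^ 2 - 1) * (mr - 1) ≤ D * mr * f) : (q ^ 2 - 1) * (mr - 1) ≤ D * mr := by
  have h1 := h.three_le
  have h2 := h.mr_ge
  have hq := h.q_ge
  have hq2 : 0 < q ^ 2 - 1 := by nlinarith
  have h3 : f * ((q ^ 2 - 1) * (mr - 1)) ≤ f * (D * mr) := by
    calc f * ((q ^ 2 - 1) * (mr - 1)) ≤ x * ((q ^ 2 - 1) * (mr - 1)) :=
          mul_le_mul_of_nonneg_right hfx (mul_nonneg hq2.le (by linarith))
      _ = x * (q ^ 2 - 1) * (mr - 1) := by ring
      _ ≤ D * mr * f := hx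
      _ = _ := by ring
  exact le_of_mul_le_mul_left h3 (by linarith)

end

section

variable {p n : ℕ} {q f mr : ℤ}

/-- Case `0 < v_p(α) < 2n`: the degree formula gives `p ^ (n+1) ∣ x²`. -/
theorem case_one (h : Par p n q f mr) {α y a x : ℤ} (hy : y = q ^ 2 + α)
    (hpα : (p : ℤ) ∣ α) (hqα : ¬ q ^ 2 ∣ α)
    (hdeg : a * q * f * (y - q) ^ 2 = (q + 1) ^ 3 * (q - 1) * y * (y - 1) * x ^ 2) :
    (p : ℤ) ^ (n + 1) ∣ x ^ 2 := by
  have hpp : Prime (p : ℤ) := Nat.prime_iff_prime_int.1 h.prime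
  have hn := h.n_ge
  have hα0 : α ≠ 0 := fun h0 => hqα (h0 ▸ dvd_zero _)
  obtain ⟨b, c, hc, hαe⟩ : ∃ (b : ℕ) (c : ℤ), ¬ (p : ℤ) ∣ c ∧ α = (p : ℤ) ^ b * c := by
    have hfin : FiniteMultiplicity (p : ℤ) α :=
      Int.finiteMultiplicity_iff.2 ⟨by simpa using h.prime.one_lt.ne', hα0⟩
    obtain ⟨c, hc, hc'⟩ := hfin.exists_eq_pow_mul_and_not_dvd
    exact ⟨_, c, hc', hc⟩
  have hb1 : 1 ≤ b := by
    by_contra hcon
    have : b = 0 := by omega
    rw [this, pow_zero, one_mul] at hαe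
    exact hc (hαe ▸ hpα)
  have hb2 : b < 2 * n := by
    by_contra hcon
    push Not at hcon
    apply hqα
    rw [h.eq, hαe, ← pow_mul]
    exact (pow_dvd_pow _ (by omega)).mul_right _
  have hq2 : q ^ 2 = (p : ℤ) ^ (2 * n) := by rw [h.eq, ← pow_mul, mul_comm]
  have hp0 : (p : ℤ) ^ b ≠ 0 := pow_ne_zero _ hpp.ne_zero
  -- `y = p ^ b * y'`
  obtain ⟨y', hy', hy'p⟩ : ∃ y' : ℤ, y = (p : ℤ) ^ b * y' ∧ ¬ (p : ℤ) ∣ y' := by
    refine ⟨(p : ℤ) ^ (2 * n - b) + c, ?_, ?_⟩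
    · rw [hy, hq2, hαe, mul_add, ← pow_add, Nat.add_sub_cancel' hb2.le]
    · intro hd
      exact hc ((dvd_add_right (dvd_pow_self _ (by omega))).1 hd)
  -- `p ^ (b + n + 1) ∣ q (y - q) ^ 2`
  have hd1 : (p : ℤ) ^ (b + n + 1) ∣ q * (y - q) ^ 2 := by
    rcases Nat.lt_or_ge b n with hbn | hbn
    · have h1 : (p : ℤ) ^ b ∣ y - q := by
        refine dvd_sub (Dvd.intro _ hy'.symm) ?_
        rw [h.eq]; exact pow_dvd_pow _ hbn.le
      have h2 : (p : ℤ) ^ n * ((p : ℤ) ^ b) ^ 2 ∣ q * (y - q) ^ 2 :=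
        mul_dvd_mul (by rw [h.eq]) (pow_dvd_pow_of_dvd h1 2)
      refine dvd_trans ?_ h2
      rw [← pow_mul, ← pow_add]
      exact pow_dvd_pow _ (by omega)
    · have h1 : (p : ℤ) ^ n ∣ y - q := by
        refine dvd_sub ((pow_dvd_pow _ hbn).trans (Dvd.intro _ hy'.symm)) ?_
        rw [h.eq]
      have h2 : (p : ℤ) ^ n * ((p : ℤ) ^ n) ^ 2 ∣ q * (y - q) ^ 2 :=
        mul_dvd_mul (by rw [h.eq]) (pow_dvd_pow_of_dvd h1 2)
      refine dvd_trans ?_ h2
      rw [← pow_mul, ← pow_add]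
      exact pow_dvd_pow _ (by omega)
  have hd2 : (p : ℤ) ^ b * (p : ℤ) ^ (n + 1) ∣
      (p : ℤ) ^ b * (((q + 1) ^ 3 * (q - 1) * (y - 1) * y') * x ^ 2) := by
    have e1 : (p : ℤ) ^ b * (((q + 1) ^ 3 * (q - 1) * (y - 1) * y') * x ^ 2) =
        a * f * (q * (y - q) ^ 2) := by
      calc (p : ℤ) ^ b * (((q + 1) ^ 3 * (q - 1) * (y - 1) * y') * x ^ 2)
          = (q + 1) ^ 3 * (q - 1) * ((p : ℤ) ^ b * y') * (y - 1) * x ^ 2 := by ring
        _ = (q + 1) ^ 3 * (q - 1) * y * (y - 1) * x ^ 2 := by rw [← hy']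
        _ = _ := by rw [← hdeg]; ring
    rw [e1, ← pow_add, ← add_assoc]
    exact hd1.mul_left _
  have hd3 := (mul_dvd_mul_iff_left hp0).1 hd2
  have hpq : (p : ℤ) ∣ q := by rw [h.eq]; exact dvd_pow_self _ (by omega)
  have hpy : (p : ℤ) ∣ y := by
    rw [hy']; exact (dvd_pow_self _ (by omega)).mul_right _
  have hU : IsCoprime ((p : ℤ) ^ (n + 1)) ((q + 1) ^ 3 * (q - 1) * (y - 1) * y') := by
    apply IsCoprime.pow_left
    have c1 : IsCoprime (p : ℤ) (q + 1) := by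
      obtain ⟨d, hd⟩ := hpq
      exact ⟨-d, 1, by rw [hd]; ring⟩
    have c2 : IsCoprime (p : ℤ) (q - 1) := by
      obtain ⟨d, hd⟩ := hpq
      exact ⟨d, -1, by rw [hd]; ring⟩
    have c3 : IsCoprime (p : ℤ) (y - 1) := by
      obtain ⟨d, hd⟩ := hpy
      exact ⟨d, -1, by rw [hd]; ring⟩
    have c4 : IsCoprime (p : ℤ) y' := (Prime.coprime_iff_not_dvd hpp).2 hy'p
    exact ((c1.pow_right.mul_right c2).mul_right c3).mul_right c4
  exact hU.dvd_of_dvd_mul_left hd3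

theorem dvd_of_eq' {a b b' : ℤ} (h : a ∣ b) (e : b' = b) : a ∣ b' := e ▸ h

/-! ### size arguments, `α = q² c` -/

theorem two_neg {q f c e E M : ℤ} (hq : 27 ≤ q) (hf : 3 ≤ f) (hqf : 9 * f ≤ q) (hc : c ≤ -4)
    (hE : 0 < E) (hEle : 2 * E ≤ (q - 1) - c) (hele : e ≤ -(c + 2))
    (heq : e ≤ q + 1) (hN : q * (c + 1) - 1 = E * M) (hMX : M ^ 2 ≤ e * f)
    (hM2 : q * M ^ 2 ≤ -(c + 1) * e * f) : False := by
  obtain ⟨I, hI⟩ : ∃ I : ℤ, c = -1 - I := ⟨-1 - c, by ring⟩
  obtain ⟨m, hm⟩ : ∃ m : ℤ, M = -m := ⟨-M, by ring⟩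
  subst hI hm
  have hI3 : 3 ≤ I := by linarith
  have hN' : q * I + 1 = E * m := by linear_combination -hN
  have hmpos : 0 < m := by
    by_contra hcon
    push Not at hcon
    have h1 := mul_nonpos_of_nonneg_of_nonpos hE.le hcon
    have h2 : 0 < q * I := mul_pos (by linarith) (by linarith)
    linarith
  have hMX' : m ^ 2 ≤ e * f := by linarith [neg_sq m]
  have hM2' : q * m ^ 2 ≤ I * e * f := by
    have h1 : q * m ^ 2 = q * (-m) ^ 2 := by ring
    have h2 : -(-1 - I + 1) * e * f = I * e * f := by ring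
    linarith
  have hele' : e ≤ I - 1 := by linarith
  have hkey : 2 * (q * I + 1) ≤ m * (q + I) := by
    calc 2 * (q * I + 1) = (2 * E) * m := by rw [hN']; ring
      _ ≤ (q + I) * m := mul_le_mul_of_nonneg_right (by linarith) hmpos.le
      _ = _ := by ring
  rcases lt_or_ge I q with hIq | hIq
  · have hMI : I < m := by
      by_contra hcon
      push Not at hcon
      have h5 : m * (q + I) ≤ I * (q + I) := mul_le_mul_of_nonneg_right hcon (by linarith)
      have h6 : I * (q + I) ≤ I * (q + q) := mul_le_mul_of_nonneg_left (by linarith) (by linarith)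
      linarith
    have h6 : q * I ^ 2 ≤ I * I * f := by
      calc q * I ^ 2 ≤ q * m ^ 2 := by
            apply mul_le_mul_of_nonneg_left _ (by linarith)
            exact pow_le_pow_left₀ (by linarith) hMI.le 2
        _ ≤ I * e * f := hM2'
        _ ≤ I * I * f := by
            apply mul_le_mul_of_nonneg_right _ (by linarith)
            apply mul_le_mul_of_nonneg_left _ (by linarith)
            linarith
    have h7 : 0 < I ^ 2 := pow_pos (by linarith) 2
    have h8 : I ^ 2 * q ≤ I ^ 2 * f := by linarith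
    have := le_of_mul_le_mul_left h8 h7
    linarith
  · have hMq : q < m := by
      by_contra hcon
      push Not at hcon
      have h5 : m * (q + I) ≤ q * (q + I) := mul_le_mul_of_nonneg_right hcon (by linarith)
      have h6 : q * (q + I) ≤ q * (I + I) := mul_le_mul_of_nonneg_left (by linarith) (by linarith)
      linarith
    have h6 : (q + 1) * (q + 1) ≤ (q + 1) * f := by
      calc (q + 1) * (q + 1) ≤ m * m :=
            mul_le_mul (by linarith) (by linarith) (by linarith) (by linarith)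
        _ = m ^ 2 := by ring
        _ ≤ e * f := hMX'
        _ ≤ (q + 1) * f := mul_le_mul_of_nonneg_right heq (by linarith)
    have := le_of_mul_le_mul_left h6 (by linarith)
    linarith

theorem two_small {q c e E M X : ℤ} (hq : 27 ≤ q) (hc : 0 < c) (hcq : c < q - 1)
    (hE : 0 < E) (hEle : 2 * E ≤ (q - 1) - c) (hele : e ≤ c + 2) (hX : 0 < X)
    (hN : q * (c + 1) - 1 = E * M) (hM2 : q * M ^ 2 ≤ (c + 1) * e * X) : 2 * q ≤ X := by
  obtain ⟨i, hi⟩ : ∃ i : ℤ, c = i - 1 := ⟨c + 1, by ring⟩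
  subst hi
  have hi2 : 2 ≤ i := by linarith
  have hNi : q * i - 1 = E * M := by linear_combination hN
  have hqi : q * 2 ≤ q * i := mul_le_mul_of_nonneg_left hi2 (by linarith)
  have hMpos : 0 < M := by
    by_contra hcon
    push Not at hcon
    have := mul_nonpos_of_nonneg_of_nonpos hE.le hcon
    linarith
  have hkey : 2 * (q * i - 1) ≤ M * (q - i) := by
    calc 2 * (q * i - 1) = (2 * E) * M := by rw [hNi]; ring
      _ ≤ (q - i) * M := mul_le_mul_of_nonneg_right (by linarith) hMpos.le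
      _ = _ := by ring
  have hM2i : 2 * i ≤ M := by
    by_contra hcon
    push Not at hcon
    have h5 : M * (q - i) ≤ (2 * i) * (q - i) :=
      mul_le_mul_of_nonneg_right hcon.le (by linarith)
    have h6 : 0 < (i - 1) * (i + 1) := mul_pos (by linarith) (by linarith)
    nlinarith
  have h6 : (2 * i ^ 2) * (2 * q) ≤ (2 * i ^ 2) * X := by
    calc (2 * i ^ 2) * (2 * q) = q * (2 * i) ^ 2 := by ring
      _ ≤ q * M ^ 2 := by
          apply mul_le_mul_of_nonneg_left _ (by linarith)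
          exact pow_le_pow_left₀ (by linarith) hM2i 2
      _ ≤ (i - 1 + 1) * e * X := hM2
      _ ≤ (i - 1 + 1) * (2 * i) * X := by
          apply mul_le_mul_of_nonneg_right _ hX.le
          apply mul_le_mul_of_nonneg_left _ (by linarith)
          linarith
      _ = _ := by ring
  exact le_of_mul_le_mul_left h6 (by positivity)

theorem two_big {q f c e E M : ℤ} (hq : 27 ≤ q) (hf : 3 ≤ f) (hqf : 9 * f ≤ q) (hcq : q - 1 < c)
    (hE : 0 < E) (hEle : 2 * E ≤ c - (q - 1)) (heq : e ≤ q + 1)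
    (hN : q * (c + 1) - 1 = E * M) (hMX : M ^ 2 ≤ e * f) : False := by
  obtain ⟨i, hi⟩ : ∃ i : ℤ, c = i - 1 := ⟨c + 1, by ring⟩
  subst hi
  have hi2 : q < i := by linarith
  have hNi : q * i - 1 = E * M := by linear_combination hN
  have hqi : q * q ≤ q * i := mul_le_mul_of_nonneg_left hi2.le (by linarith)
  have hqq : q * 27 ≤ q * q := mul_le_mul_of_nonneg_left hq (by linarith)
  have hMpos : 0 < M := by
    by_contra hcon
    push Not at hcon
    have := mul_nonpos_of_nonneg_of_nonpos hE.le hcon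
    linarith
  have hkey : 2 * (q * i - 1) ≤ M * (i - q) := by
    calc 2 * (q * i - 1) = (2 * E) * M := by rw [hNi]; ring
      _ ≤ (i - q) * M := mul_le_mul_of_nonneg_right (by linarith) hMpos.le
      _ = _ := by ring
  have hMq : q < M := by
    by_contra hcon
    push Not at hcon
    have h5 : M * (i - q) ≤ q * (i - q) := mul_le_mul_of_nonneg_right hcon (by linarith)
    nlinarith
  have h6 : (q + 1) * (q + 1) ≤ (q + 1) * f := by
    calc (q + 1) * (q + 1) ≤ M * M :=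
          mul_le_mul (by linarith) (by linarith) (by linarith) (by linarith)
      _ = M ^ 2 := by ring
      _ ≤ e * f := hMX
      _ ≤ (q + 1) * f := mul_le_mul_of_nonneg_right heq (by linarith)
  have := le_of_mul_le_mul_left h6 (by linarith)
  linarith

/-- The output of `core` for `α = q² c`. -/
theorem tool_two (h : Par p n q f mr) {T g : ℤ} {k : ℕ} (hT : T = 2 ^ k) (hTq : q + 1 = T * g)
    (hg : Odd g) {c : ℤ} (hi : c + 1 ≠ 0) (hΔ : 4 * T ∣ (q - 1) - c) {X a : ℤ} (hX : 0 < X)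
    (hqX : ¬ q ∣ X) (ha : a * q * (q * (c + 1) - 1) ^ 2 =
      (q + 1) ^ 3 * (q - 1) * (c + 1) * (q ^ 2 * (c + 1) - 1) * X) :
    ∃ e E M : ℤ, 0 < e ∧ 0 < E ∧ q * (c + 1) - 1 = E * M ∧ e ∣ q + 1 ∧ e ∣ c + 2 ∧
      2 * E ∣ (q - 1) - c ∧ M ^ 2 ≤ e * X ∧ q * M ^ 2 ≤ |c + 1| * e * X := by
  have hq := h.q_ge
  obtain ⟨e₁, w, N₁, e, M, he₁, he, hw, hN, hN₁, heq, -, hMX, hor⟩ :=
    core h.prime h.eq (by have := h.n_ge; omega) (τ := -1) (i := c + 1)
      (N := q * (c + 1) - 1) (a := a) (X := X) (Or.inr rfl) (by ring) hX hi (by omega)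
      (by rw [ha]; ring)
  have hN' : q * (c + 1) - 1 = (e₁ * e) * M := by rw [hN, hN₁]; ring
  have he₁q : e₁ ∣ q - 1 := ⟨w, by rw [← hw]; ring⟩
  have he₁N : e₁ ∣ q * (c + 1) - 1 := ⟨N₁, hN⟩
  have heN : e ∣ q * (c + 1) - 1 := ⟨e₁ * M, by rw [hN']; ring⟩
  have d1 : e₁ ∣ c := dvd_of_eq' (dvd_sub he₁N (he₁q.mul_right (c + 1))) (by ring)
  have d2 : e ∣ c + 2 := dvd_of_eq' (dvd_sub (heq.mul_right (c + 1)) heN) (by ring)
  have d3 : e₁ ∣ (q - 1) - c := dvd_sub he₁q d1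
  have d4 : e ∣ (q - 1) - c := dvd_of_eq' (dvd_sub heq d2) (by ring)
  exact ⟨e, e₁ * e, M, he, mul_pos he₁ he, hN', heq, d2,
    two_adic hT hTq hg h.mod4 he₁q heq d3 d4 hΔ, Int.le_of_dvd (mul_pos he hX) hMX,
    hor.resolve_left hqX⟩

/-- The case `α = q² c`. -/
theorem case_two (h : Par p n q f mr) {T g : ℤ} {k : ℕ} (hT : T = 2 ^ k) (hTq : q + 1 = T * g)
    (hg : Odd g) {c z a x : ℤ} (hcz : c * z = q ^ 2 - 1) (hα : 4 * T ∣ q ^ 2 * c - (q - 1))
    (hfx : f ≤ x) (hx : x ≤ 2 * f + 1)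
    (hdeg : a * q * f * (q * (c + 1) - 1) ^ 2 =
      (q + 1) ^ 3 * (q - 1) * (c + 1) * (q ^ 2 * (c + 1) - 1) * x ^ 2)
    (h3 : x * (q ^ 2 - 1) * (mr - 1) ≤ |z + q ^ 2 - q - 2| * mr * f) : z = q + 1 := by
  have hq := h.q_ge
  have hf3 := h.three_le
  have h4 := h.mod4
  have hq2 : 0 < q ^ 2 - 1 := by nlinarith
  have hc0 : c ≠ 0 := by rintro rfl; rw [zero_mul] at hcz; linarith
  have hTpos : 0 < T := by rw [hT]; positivity
  -- congruences
  have hceven : (2 : ℤ) ∣ c := by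
    have h1 : (2 : ℤ) ∣ q ^ 2 * c - (q - 1) := dvd_trans ⟨2 * T, by ring⟩ hα
    have h2 : (2 : ℤ) ∣ q - 1 := by omega
    have h5 : (2 : ℤ) ∣ q ^ 2 * c := dvd_of_eq' (dvd_add h1 h2) (by ring)
    have h6 : IsCoprime (2 : ℤ) (q ^ 2) := by
      apply IsCoprime.pow_right
      exact ⟨-((q - 1) / 2), 1, by omega⟩
    exact h6.dvd_of_dvd_mul_left h5
  have hΔ : 4 * T ∣ (q - 1) - c := by
    have h1 : 4 * T ∣ (q ^ 2 - 1) * c := by
      obtain ⟨d, hd⟩ := hceven
      obtain ⟨m, hm⟩ : ∃ m : ℤ, q - 1 = 2 * m := ⟨(q - 1) / 2, by omega⟩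
      refine ⟨m * g * d, ?_⟩
      calc (q ^ 2 - 1) * c = (q - 1) * (q + 1) * c := by ring
        _ = (2 * m) * (T * g) * (2 * d) := by rw [hm, hTq, hd]
        _ = _ := by ring
    exact dvd_of_eq' (dvd_sub h1 hα) (by ring)
  by_cases hΔ0 : (q - 1) - c = 0
  · -- `k = 1`
    have hc : c = q - 1 := by linarith
    rw [hc] at hcz
    have h1 : (q - 1) * z = (q - 1) * (q + 1) := by rw [hcz]; ring
    exact mul_left_cancel₀ (by omega) h1
  exfalso
  have hi : c + 1 ≠ 0 := by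
    intro h0
    obtain ⟨d, hd⟩ := hceven
    omega
  have hx0 : 0 < x := by linarith
  have hqf := h.nine_f_le
  -- the tool with `X = f` if `x ≤ f`
  have toolf : x ≤ f → ∃ e E M : ℤ, 0 < e ∧ 0 < E ∧ q * (c + 1) - 1 = E * M ∧ e ∣ q + 1 ∧
      e ∣ c + 2 ∧ 2 * E ∣ (q - 1) - c ∧ M ^ 2 ≤ e * f ∧ q * M ^ 2 ≤ |c + 1| * e * f := by
    intro hxf
    have hxe : x = f := le_antisymm hxf hfx
    refine tool_two h hT hTq hg hi hΔ (a := a) (by linarith) (fun hd => ?_) ?_
    · have := Int.le_of_dvd (by linarith) hd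
      linarith
    · have e1 : f * (a * q * (q * (c + 1) - 1) ^ 2) =
          f * ((q + 1) ^ 3 * (q - 1) * (c + 1) * (q ^ 2 * (c + 1) - 1) * f) := by
        rw [hxe] at hdeg
        linear_combination hdeg
      exact mul_left_cancel₀ (by omega) e1
  rcases lt_or_gt_of_ne hc0 with hcneg | hcpos
  · -- `c < 0`
    have hzneg : z < 0 := by
      by_contra hcon
      push Not at hcon
      have := mul_nonpos_of_nonpos_of_nonneg hcneg.le hcon
      linarith
    have hc2' : c ≤ -2 := by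
      obtain ⟨d, hd⟩ := hceven
      omega
    have hz2 : -(q ^ 2 - 1) ≤ 2 * z := by
      have : c * z ≥ (-2) * z := mul_le_mul_of_nonpos_right hc2' hzneg.le
      linarith
    have hqq : q * 27 ≤ q * q := mul_le_mul_of_nonneg_left hq (by linarith)
    have hD : |z + q ^ 2 - q - 2| = z + q ^ 2 - q - 2 := abs_of_nonneg (by nlinarith)
    rw [hD] at h3
    have hxf := h.x_le_f (by linarith) h3
    have hc3 : c ≤ -4 := by
      obtain ⟨d, hd⟩ := hceven
      by_contra hcon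
      have hc : c = -2 := by omega
      rw [hc] at hcz
      have h5 := h.D_ge hfx h3
      have h6 := h.mr_ge
      have h7 : z = -((q ^ 2 - 1)) + -z := by linarith
      have h8 : (z + q ^ 2 - q - 2) * 2 ≤ q ^ 2 - 1 := by linarith
      have h9 : (z + q ^ 2 - q - 2) * 2 * mr ≤ (q ^ 2 - 1) * mr :=
        mul_le_mul_of_nonneg_right h8 (by linarith)
      have h10 : (q ^ 2 - 1) * (2 * (mr - 1)) ≤ (q ^ 2 - 1) * mr := by linarith
      have := le_of_mul_le_mul_left h10 hq2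
      linarith
    obtain ⟨e, E, M, he, hE, hN, heq, hec, hEd, hMX, hM2⟩ := toolf hxf
    have habs : |c + 1| = -(c + 1) := abs_of_neg (by linarith)
    rw [habs] at hM2
    exact two_neg hq hf3 hqf hc3 hE (Int.le_of_dvd (by linarith) hEd)
      (Int.le_of_dvd (by linarith) ((dvd_neg).2 hec)) (Int.le_of_dvd (by linarith) heq) hN hMX hM2
  · -- `0 < c`
    have hzpos : 0 < z := by
      by_contra hcon
      push Not at hcon
      have := mul_nonpos_of_nonneg_of_nonpos hcpos.le hcon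
      linarith
    rcases lt_or_gt_of_ne (fun h0 => hΔ0 (by linarith) : c ≠ q - 1) with hcq | hcq
    · -- `c < q - 1`
      obtain ⟨e, E, M, he, hE, hN, heq, hec, hEd, hMX, hM2⟩ :=
        tool_two h hT hTq hg hi hΔ (X := x ^ 2) (a := a * f) (by positivity)
          (h.not_dvd_sq hx0 hx) (by rw [← hdeg]; ring)
      have habs : |c + 1| = c + 1 := abs_of_pos (by linarith)
      rw [habs] at hM2
      have h9 := two_small hq hcpos hcq hE (Int.le_of_dvd (by linarith) hEd)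
        (Int.le_of_dvd (by linarith) hec) (by positivity) hN hM2
      have h10 : x ^ 2 ≤ (2 * n + 1) ^ 2 :=
        pow_le_pow_left₀ hx0.le (by have := h.f_le; linarith) 2
      have h11 : ((2 * n + 1) ^ 2 : ℤ) < 2 * 3 ^ n := by exact_mod_cast sq_lt h.n_ge
      have := h.pow_le
      linarith
    · -- `q - 1 < c`
      have hzq : z < q + 1 := by
        by_contra hcon
        push Not at hcon
        have : q * (q + 1) ≤ c * z := mul_le_mul (by linarith) hcon (by linarith) hcpos.le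
        nlinarith
      have hqq : q * 27 ≤ q * q := mul_le_mul_of_nonneg_left hq (by linarith)
      have hD : |z + q ^ 2 - q - 2| = z + q ^ 2 - q - 2 := abs_of_nonneg (by nlinarith)
      rw [hD] at h3
      have hxf := h.x_le_f (by linarith) h3
      obtain ⟨e, E, M, he, hE, hN, heq, hec, hEd, hMX, hM2⟩ := toolf hxf
      have hEle : 2 * E ≤ c - (q - 1) :=
        Int.le_of_dvd (by linarith) (dvd_of_eq' ((dvd_neg).2 hEd) (by ring))
      exact two_big hq hf3 hqf hcq hE hEle (Int.le_of_dvd (by linarith) heq) hN hMX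

end

/-! ### size arguments, `z = q² c` -/

theorem three_small {q c c₁ e₁ w e M X : ℤ} (hq : 27 ≤ q) (hc : 0 < c)
    (he₁ : 0 < e₁) (he : 0 < e) (hw : q + 1 = e₁ * w) (hc₁ : c = e₁ * c₁) (hew : e ≤ w - c₁)
    (hee : e ≤ e₁) (hN₁ : q * c₁ + w = e * M) (hX : 0 < X)
    (hM2 : q * M ^ 2 ≤ (c + 1) * e * X) : q < X := by
  have hc₁pos : 0 < c₁ := by
    by_contra hcon
    push Not at hcon
    have := mul_nonpos_of_nonneg_of_nonpos he₁.le hcon
    linarith
  have hwpos : 0 < w := by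
    by_contra hcon
    push Not at hcon
    have := mul_nonpos_of_nonneg_of_nonpos he₁.le hcon
    linarith
  have hqc : 0 < q * c₁ := mul_pos (by linarith) hc₁pos
  have hMpos : 0 < M := by
    by_contra hcon
    push Not at hcon
    have := mul_nonpos_of_nonneg_of_nonpos he.le hcon
    linarith
  have hkey : q * c₁ + w ≤ (w - c₁) * M := by
    rw [hN₁]; exact mul_le_mul_of_nonneg_right hew hMpos.le
  have hMc : c + 1 < M := by
    by_contra hcon
    push Not at hcon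
    have h5 : (w - c₁) * M ≤ (w - c₁) * (c + 1) :=
      mul_le_mul_of_nonneg_left hcon (by linarith)
    have h6 : (w - c₁) * (c + 1) = q * c₁ + w - c * c₁ := by
      have e2 : w * c = (q + 1) * c₁ := by rw [hw, hc₁]; ring
      linear_combination e2
    have h7 : 0 < c * c₁ := mul_pos hc hc₁pos
    linarith
  have hec : e ≤ c := by
    calc e ≤ e₁ := hee
      _ = e₁ * 1 := (mul_one _).symm
      _ ≤ e₁ * c₁ := mul_le_mul_of_nonneg_left (by linarith) he₁.le
      _ = c := hc₁.symm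
  have h6 : (c + 1) * (q * (c + 1)) ≤ (c + 1) * (c * X) := by
    calc (c + 1) * (q * (c + 1)) = q * (c + 1) ^ 2 := by ring
      _ ≤ q * M ^ 2 := by
          apply mul_le_mul_of_nonneg_left _ (by linarith)
          exact pow_le_pow_left₀ (by linarith) hMc.le 2
      _ ≤ (c + 1) * e * X := hM2
      _ ≤ (c + 1) * c * X := by
          apply mul_le_mul_of_nonneg_right _ hX.le
          exact mul_le_mul_of_nonneg_left hec (by linarith)
      _ = _ := by ring
  have h7 := le_of_mul_le_mul_left h6 (by linarith)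
  have h8 : c * q < c * X := by linarith
  exact lt_of_mul_lt_mul_left h8 hc.le

theorem three_big {q f c₁ e₁ w e M : ℤ} (hq : 27 ≤ q) (hf : 3 ≤ f) (hqf : 9 * f ≤ q)
    (he₁ : 0 < e₁) (he : 0 < e) (hw : q + 1 = e₁ * w)
    (hew : e ≤ c₁ - w) (heq : e ≤ q + 1) (hN₁ : q * c₁ + w = e * M)
    (hMX : M ^ 2 ≤ e * f) : False := by
  have hwpos : 0 < w := by
    by_contra hcon
    push Not at hcon
    have := mul_nonpos_of_nonneg_of_nonpos he₁.le hcon
    linarith
  have hc₁pos : 0 < c₁ := by linarith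
  have hqc : 0 < q * c₁ := mul_pos (by linarith) hc₁pos
  have hMpos : 0 < M := by
    by_contra hcon
    push Not at hcon
    have := mul_nonpos_of_nonneg_of_nonpos he.le hcon
    linarith
  have hkey : q * c₁ + w ≤ (c₁ - w) * M := by
    rw [hN₁]; exact mul_le_mul_of_nonneg_right hew hMpos.le
  have hMq : q < M := by
    by_contra hcon
    push Not at hcon
    have h5 : (c₁ - w) * M ≤ (c₁ - w) * q := mul_le_mul_of_nonneg_left hcon (by linarith)
    have h6 : 0 < q * w := mul_pos (by linarith) hwpos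
    linarith
  have h6 : (q + 1) * (q + 1) ≤ (q + 1) * f := by
    calc (q + 1) * (q + 1) ≤ M * M :=
          mul_le_mul (by linarith) (by linarith) (by linarith) (by linarith)
      _ = M ^ 2 := by ring
      _ ≤ e * f := hMX
      _ ≤ (q + 1) * f := mul_le_mul_of_nonneg_right heq (by linarith)
  have := le_of_mul_le_mul_left h6 (by linarith)
  linarith

theorem three_neg {q f c c₁ e₁ w e M : ℤ} (hq : 27 ≤ q) (hf : 3 ≤ f) (hqf : 9 * f ≤ q)
    (hc : c ≤ -8) (he₁ : 0 < e₁) (he : 0 < e) (hw : q + 1 = e₁ * w) (hc₁ : c = e₁ * c₁)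
    (hew : e ≤ w - c₁) (hee : e ≤ e₁) (heq : e ≤ q + 1) (hN₁ : q * c₁ + w = e * M)
    (hMX : M ^ 2 ≤ e * f) (hM2 : q * M ^ 2 ≤ -(c + 1) * e * f) : False := by
  obtain ⟨C, hC⟩ : ∃ C : ℤ, c₁ = -C := ⟨-c₁, by ring⟩
  obtain ⟨m, hm⟩ : ∃ m : ℤ, M = -m := ⟨-M, by ring⟩
  obtain ⟨A, hA⟩ : ∃ A : ℤ, c = -A := ⟨-c, by ring⟩
  subst hC hm hA
  have hA' : A = e₁ * C := by linear_combination -hc₁
  have hwpos : 0 < w := by
    by_contra hcon
    push Not at hcon
    have := mul_nonpos_of_nonneg_of_nonpos he₁.le hcon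
    linarith
  have hCpos : 0 < C := by
    by_contra hcon
    push Not at hcon
    have := mul_nonpos_of_nonneg_of_nonpos he₁.le hcon
    linarith
  have hwq : w ≤ q + 1 := by
    calc w = 1 * w := (one_mul w).symm
      _ ≤ e₁ * w := mul_le_mul_of_nonneg_right (by linarith) hwpos.le
      _ = q + 1 := hw.symm
  have hN' : q * C - w = e * m := by linear_combination -hN₁
  have hMX' : m ^ 2 ≤ e * f := by linarith [neg_sq m]
  have hM2' : q * m ^ 2 ≤ (A - 1) * e * f := by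
    have h1 : q * m ^ 2 = q * (-m) ^ 2 := by ring
    have h2 : -(-A + 1) * e * f = (A - 1) * e * f := by ring
    linarith
  have hCA : 1 * C ≤ A := by
    rw [hA']; exact mul_le_mul_of_nonneg_right (by linarith) hCpos.le
  have heA : e ≤ A := by
    calc e ≤ e₁ := hee
      _ = e₁ * 1 := (mul_one _).symm
      _ ≤ e₁ * C := mul_le_mul_of_nonneg_left (by linarith) he₁.le
      _ = A := hA'.symm
  have hmpos : 0 < m := by
    by_contra hcon
    push Not at hcon
    have h1 := mul_nonpos_of_nonneg_of_nonpos he.le hcon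
    -- `q C ≤ w ≤ q + 1`, so `C = 1`
    have h2 : q * C ≤ q + 1 := by linarith
    have h3 : C = 1 := by
      by_contra h4
      have h5 : 2 ≤ C := by omega
      have : q * 2 ≤ q * C := mul_le_mul_of_nonneg_left h5 (by linarith)
      linarith
    rw [h3, mul_one] at hA' hN'
    -- `e₁ = A ≥ 8`, so `w ≤ (q+1)/8`
    have h6 : 8 * w ≤ e₁ * w := mul_le_mul_of_nonneg_right (by linarith) hwpos.le
    linarith
  have hkey : q * C - w ≤ (w + C) * m := by
    rw [hN']; exact mul_le_mul_of_nonneg_right (by linarith) hmpos.le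
  rcases le_or_gt C w with hCw | hCw
  · -- `A ≤ 2 m + 2`
    have hAm : A ≤ 2 * m + 2 := by
      have h5 : (w + C) * m ≤ (w + w) * m := mul_le_mul_of_nonneg_right (by linarith) hmpos.le
      have e3 : (q + 1) * C = A * w := by rw [hw, hA']; ring
      have h6 : w * A ≤ w * (2 * m + 2) := by linarith
      exact le_of_mul_le_mul_left h6 hwpos
    have hm3 : 3 ≤ m := by linarith
    have h7 : q * m ^ 2 ≤ (2 * m + 1) * (2 * m + 2) * f := by
      calc q * m ^ 2 ≤ (A - 1) * e * f := hM2'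
        _ ≤ (2 * m + 1) * (2 * m + 2) * f := by
            apply mul_le_mul_of_nonneg_right _ (by linarith)
            exact mul_le_mul (by linarith) (by linarith) he.le (by linarith)
    have h8 : (2 * m + 1) * (2 * m + 2) ≤ 7 * m ^ 2 := by nlinarith
    have h9 : m ^ 2 * q ≤ m ^ 2 * (7 * f) := by
      calc m ^ 2 * q = q * m ^ 2 := by ring
        _ ≤ (2 * m + 1) * (2 * m + 2) * f := h7
        _ ≤ (7 * m ^ 2) * f := mul_le_mul_of_nonneg_right h8 (by linarith)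
        _ = _ := by ring
    have := le_of_mul_le_mul_left h9 (by positivity)
    linarith
  · -- `2 m ≥ q`
    have h2m : q ≤ 2 * m := by
      by_contra hcon
      push Not at hcon
      have h5 : (w + C) * m ≤ (C + C) * m := mul_le_mul_of_nonneg_right (by linarith) hmpos.le
      have h6 : C * (2 * m + 1) ≤ C * q := mul_le_mul_of_nonneg_left (by linarith) hCpos.le
      linarith
    have h6 : q * q ≤ 4 * ((q + 1) * f) := by
      calc q * q ≤ (2 * m) * (2 * m) := mul_le_mul h2m h2m (by linarith) (by linarith)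
        _ = 4 * m ^ 2 := by ring
        _ ≤ 4 * (e * f) := by linarith
        _ ≤ 4 * ((q + 1) * f) := by
            have := mul_le_mul_of_nonneg_right heq (by linarith : (0 : ℤ) ≤ f)
            linarith
    have h7 : (q + 1) * (9 * f) ≤ (q + 1) * q := mul_le_mul_of_nonneg_left hqf (by linarith)
    have h8 : 27 * q ≤ q * q := mul_le_mul_of_nonneg_right hq (by linarith)
    nlinarith

section

variable {p n : ℕ} {q f mr : ℤ}

/-- The output of `core` for `z = q² c`. -/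
theorem tool_three (h : Par p n q f mr) {c : ℤ} (hi : c + 1 ≠ 0) {X a : ℤ} (hX : 0 < X)
    (hqX : ¬ q ∣ X) (ha : a * q * (q * (c + 1) + 1) ^ 2 =
      (q + 1) ^ 4 * (c + 1) * (q ^ 2 * (c + 1) - 1) * X) :
    ∃ c₁ e₁ w e M : ℤ, 0 < e₁ ∧ 0 < e ∧ q + 1 = e₁ * w ∧ c = e₁ * c₁ ∧ e ∣ w - c₁ ∧ e ∣ e₁ ∧
      e ∣ q + 1 ∧ q * c₁ + w = e * M ∧ M ^ 2 ≤ e * X ∧ q * M ^ 2 ≤ |c + 1| * e * X := by
  have hq := h.q_ge
  obtain ⟨e₁, w, N₁, e, M, he₁, he, hw, hN, hN₁, heq, hcop, hMX, hor⟩ :=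
    core h.prime h.eq (by have := h.n_ge; omega) (τ := 1) (i := c + 1)
      (N := q * (c + 1) + 1) (a := a) (X := X) (Or.inl rfl) (by ring) hX hi (by omega)
      (by rw [ha]; ring)
  have he₁N : e₁ ∣ q * (c + 1) + 1 := ⟨N₁, hN⟩
  have he₁q : e₁ ∣ q + 1 := ⟨w, hw⟩
  have d1 : e₁ ∣ q * c := dvd_of_eq' (dvd_sub he₁N he₁q) (by ring)
  have c1 : IsCoprime e₁ q := by
    have : IsCoprime (q + 1) q := ⟨1, -1, by ring⟩
    exact this.of_isCoprime_of_dvd_left he₁q
  obtain ⟨c₁, hc₁⟩ := c1.dvd_of_dvd_mul_left d1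
  have hN₁' : N₁ = q * c₁ + w := by
    have : e₁ * N₁ = e₁ * (q * c₁ + w) := by
      rw [← hN]
      calc q * (c + 1) + 1 = q * c + (q + 1) := by ring
        _ = q * (e₁ * c₁) + e₁ * w := by rw [← hc₁, ← hw]
        _ = _ := by ring
    exact mul_left_cancel₀ he₁.ne' this
  have heN : e ∣ q * c₁ + w := ⟨M, by rw [← hN₁', hN₁]⟩
  have d2 : e ∣ w - c₁ := dvd_of_eq' (dvd_sub heN (heq.mul_right c₁)) (by ring)
  have c2 : IsCoprime e w := hcop.of_isCoprime_of_dvd_left ⟨M, hN₁⟩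
  have d3 : e ∣ e₁ := by
    rw [hw, mul_comm] at heq
    exact c2.dvd_of_dvd_mul_left heq
  exact ⟨c₁, e₁, w, e, M, he₁, he, hw, hc₁, d2, d3, by rw [hw]; exact d3.mul_right w,
    by rw [← hN₁', hN₁], Int.le_of_dvd (mul_pos he hX) hMX, hor.resolve_left hqX⟩

/-- The case `z = q² c`. -/
theorem case_three (h : Par p n q f mr) {T g : ℤ} {k : ℕ} (hT : T = 2 ^ k) (hTq : q + 1 = T * g)
    (hg : Odd g) {α c a x : ℤ} (hcα : α * c = q ^ 2 - 1) (hz : 4 * T ∣ q ^ 2 * c - (q + 1))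
    (hfx : f ≤ x) (hx : x ≤ 2 * f + 1)
    (hdeg : a * q * f * (q * (c + 1) + 1) ^ 2 =
      (q + 1) ^ 4 * (c + 1) * (q ^ 2 * (c + 1) - 1) * x ^ 2)
    (h2 : x * (q ^ 2 - 1) * (mr - 1) ≤ |α + q ^ 2 - q| * mr * f) : False := by
  have hq := h.q_ge
  have hf3 := h.three_le
  have h4 := h.mod4
  have hq2 : 0 < q ^ 2 - 1 := by nlinarith
  have hqq : q * 27 ≤ q * q := mul_le_mul_of_nonneg_left hq (by linarith)
  have hc0 : c ≠ 0 := by rintro rfl; rw [mul_zero] at hcα; linarith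
  have hx0 : 0 < x := by linarith
  have hqf := h.nine_f_le
  have hmr : 7 ≤ mr := by have := h.mr_le; have := h.n_ge; linarith [(by exact_mod_cast this : (3:ℤ) ≤ n)]
  -- the tool with `X = f` if `x ≤ f`
  have toolf : c + 1 ≠ 0 → x ≤ f → ∃ c₁ e₁ w e M : ℤ, 0 < e₁ ∧ 0 < e ∧ q + 1 = e₁ * w ∧
      c = e₁ * c₁ ∧ e ∣ w - c₁ ∧ e ∣ e₁ ∧
      e ∣ q + 1 ∧ q * c₁ + w = e * M ∧ M ^ 2 ≤ e * f ∧ q * M ^ 2 ≤ |c + 1| * e * f := by
    intro hi hxf
    have hxe : x = f := le_antisymm hxf hfx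
    refine tool_three h hi (a := a) (by linarith) (fun hd => ?_) ?_
    · have := Int.le_of_dvd (by linarith) hd
      linarith
    · have e1 : f * (a * q * (q * (c + 1) + 1) ^ 2) =
          f * ((q + 1) ^ 4 * (c + 1) * (q ^ 2 * (c + 1) - 1) * f) := by
        rw [hxe] at hdeg
        linear_combination hdeg
      exact mul_left_cancel₀ (by omega) e1
  rcases lt_or_gt_of_ne hc0 with hcneg | hcpos
  · -- `c < 0`
    have hαneg : α < 0 := by
      by_contra hcon
      push Not at hcon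
      have := mul_nonpos_of_nonneg_of_nonpos hcon hcneg.le
      linarith
    have hα1 : -(q ^ 2 - 1) ≤ α := by
      have : α * c ≥ α * (-1) := mul_le_mul_of_nonpos_left (by linarith) hαneg.le
      linarith
    have hc8 : c ≤ -8 := by
      by_contra hcon
      push Not at hcon
      have h5 : α * c ≤ α * (-7) := mul_le_mul_of_nonpos_left (by linarith) hαneg.le
      have h6 : |α + q ^ 2 - q| * 7 ≤ 6 * (q ^ 2 - 1) := by
        rcases abs_cases (α + q ^ 2 - q) with ⟨h7, -⟩ | ⟨h7, -⟩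
        · rw [h7]; linarith
        · rw [h7]; nlinarith
      have h8 := h.D_ge hfx h2
      have h9 : |α + q ^ 2 - q| * 7 * mr ≤ 6 * (q ^ 2 - 1) * mr :=
        mul_le_mul_of_nonneg_right h6 (by linarith)
      have h10 : (q ^ 2 - 1) * (7 * (mr - 1)) ≤ (q ^ 2 - 1) * (6 * mr) := by linarith
      have h11 := le_of_mul_le_mul_left h10 hq2
      -- `mr = 7`: strictness
      have h12 : |α + q ^ 2 - q| * 7 < 6 * (q ^ 2 - 1) := by
        rcases abs_cases (α + q ^ 2 - q) with ⟨h7, -⟩ | ⟨h7, -⟩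
        · rw [h7]; linarith
        · rw [h7]; nlinarith
      have h13 : |α + q ^ 2 - q| * 7 * mr < 6 * (q ^ 2 - 1) * mr :=
        mul_lt_mul_of_pos_right h12 (by linarith)
      have h14 : (q ^ 2 - 1) * (7 * (mr - 1)) < (q ^ 2 - 1) * (6 * mr) := by linarith
      have h15 := lt_of_mul_lt_mul_left h14 hq2.le
      linarith
    have hα2 : -(q ^ 2 - 1) ≤ 8 * α := by
      have : α * c ≥ α * (-8) := mul_le_mul_of_nonpos_left hc8 hαneg.le
      linarith
    have hD : |α + q ^ 2 - q| = α + q ^ 2 - q := abs_of_nonneg (by nlinarith)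
    rw [hD] at h2
    have hxf := h.x_le_f (by linarith) h2
    obtain ⟨c₁, e₁, w, e, M, he₁, he, hw, hc₁, hew, hee, heq, hN₁, hMX, hM2⟩ :=
      toolf (by linarith) hxf
    have habs : |c + 1| = -(c + 1) := abs_of_neg (by linarith)
    rw [habs] at hM2
    have hwc : 0 < w - c₁ := by
      have h5 : e₁ * (w - c₁) = q + 1 - c := by rw [hw, hc₁]; ring
      by_contra hcon
      push Not at hcon
      have := mul_nonpos_of_nonneg_of_nonpos he₁.le hcon
      linarith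
    exact three_neg hq hf3 hqf hc8 he₁ he hw hc₁ (Int.le_of_dvd hwc hew)
      (Int.le_of_dvd he₁ hee) (Int.le_of_dvd (by linarith) heq) hN₁ hMX hM2
  · -- `0 < c`
    have hαpos : 0 < α := by
      by_contra hcon
      push Not at hcon
      have := mul_nonpos_of_nonpos_of_nonneg hcon hcpos.le
      linarith
    rcases lt_trichotomy c (q + 1) with hcq | hcq | hcq
    · -- `c < q + 1`
      obtain ⟨c₁, e₁, w, e, M, he₁, he, hw, hc₁, hew, hee, heq, hN₁, hMX, hM2⟩ :=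
        tool_three h (c := c) (by linarith) (X := x ^ 2) (a := a * f) (by positivity)
          (h.not_dvd_sq hx0 hx) (by rw [← hdeg]; ring)
      have habs : |c + 1| = c + 1 := abs_of_pos (by linarith)
      rw [habs] at hM2
      have hwc : 0 < w - c₁ := by
        have h5 : e₁ * (w - c₁) = q + 1 - c := by rw [hw, hc₁]; ring
        by_contra hcon
        push Not at hcon
        have := mul_nonpos_of_nonneg_of_nonpos he₁.le hcon
        linarith
      have h9 := three_small hq hcpos he₁ he hw hc₁ (Int.le_of_dvd hwc hew)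
        (Int.le_of_dvd he₁ hee) hN₁ (by positivity) hM2
      have h10 : x ^ 2 ≤ (2 * n + 1) ^ 2 :=
        pow_le_pow_left₀ hx0.le (by have := h.f_le; linarith) 2
      rcases Nat.lt_or_ge n 4 with hn4 | hn4
      · have hn3 : n = 3 := by have := h.n_ge; omega
        subst hn3
        have hp5 : p = 3 := by
          by_contra hp3
          have hp5 : 4 ≤ p := by have := h.p_ge; omega
          have h11 : (4 : ℤ) ^ 3 ≤ q := by
            rw [h.eq]
            exact pow_le_pow_left₀ (by norm_num) (by exact_mod_cast hp5) _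
          norm_num at h10 h11
          linarith
        have hq27 : q = 27 := by rw [h.eq, hp5]; norm_num
        subst hq27
        have hT4 : T = 4 := by
          obtain ⟨j, hj⟩ := hg
          match k, hT with
          | 0, hT => rw [hT] at hTq; omega
          | 1, hT => rw [hT] at hTq; omega
          | 2, hT => rw [hT]; norm_num
          | (k' + 3), hT =>
            exfalso
            rw [hT, pow_add] at hTq
            have : (28 : ℤ) = 8 * ((2 : ℤ) ^ k' * g) := by linear_combination hTq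
            omega
        rw [hT4] at hz
        have hc27 : c ≤ 27 := by linarith
        obtain ⟨d, hd⟩ := hz
        interval_cases c <;> omega
      · have h11 : ((2 * n + 1) ^ 2 : ℤ) ≤ 3 ^ n := by exact_mod_cast sq_le hn4
        have := h.pow_le
        linarith
    · -- `c = q + 1`
      subst hcq
      apply h.not_dvd_sq hx0 hx
      have h5 : q ∣ ((q + 1) ^ 4 * (q + 1 + 1) * (q ^ 2 * (q + 1 + 1) - 1)) * x ^ 2 :=
        ⟨a * f * (q * (q + 1 + 1) + 1) ^ 2, by rw [← hdeg]; ring⟩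
      have c1 : IsCoprime q (q + 1) := ⟨-1, 1, by ring⟩
      have c2 : IsCoprime q (q + 1 + 1) := by
        obtain ⟨m, hm⟩ : ∃ m : ℤ, q = 2 * m + 1 := ⟨q / 2, by omega⟩
        exact ⟨m + 1, -m, by rw [hm]; ring⟩
      have c3 : IsCoprime q (q ^ 2 * (q + 1 + 1) - 1) := ⟨q * (q + 1 + 1), -1, by ring⟩
      exact ((c1.pow_right.mul_right c2).mul_right c3).dvd_of_dvd_mul_left h5
    · -- `q + 1 < c`
      have hαq : α < q - 1 := by
        by_contra hcon
        push Not at hcon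
        have h5 : (q - 1) * (q + 1) < α * c :=
          lt_of_lt_of_le (mul_lt_mul_of_pos_left hcq (by linarith))
            (mul_le_mul_of_nonneg_right hcon hcpos.le)
        have h6 : (q - 1) * (q + 1) = q ^ 2 - 1 := by ring
        linarith
      have hqq' : q * q = q ^ 2 := by ring
      have hD : |α + q ^ 2 - q| = α + q ^ 2 - q := abs_of_nonneg (by linarith)
      rw [hD] at h2
      have hxf := h.x_le_f (by linarith) h2
      obtain ⟨c₁, e₁, w, e, M, he₁, he, hw, hc₁, hew, hee, heq, hN₁, hMX, hM2⟩ :=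
        toolf (by linarith) hxf
      have hwc : 0 < c₁ - w := by
        have h5 : e₁ * (c₁ - w) = c - (q + 1) := by rw [hw, hc₁]; ring
        by_contra hcon
        push Not at hcon
        have := mul_nonpos_of_nonneg_of_nonpos he₁.le hcon
        linarith
      exact three_big hq hf3 hqf he₁ he hw
        (Int.le_of_dvd hwc (dvd_of_eq' ((dvd_neg).2 hew) (by ring)))
        (Int.le_of_dvd (by linarith) heq) hN₁ hMX

theorem min_le {q α z : ℤ} (hq : 27 ≤ q) (hαz : α * z = q ^ 2 * (q ^ 2 - 1)) :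
    |α + q ^ 2 - q| ≤ 2 * (q ^ 2 - 1) ∨ |z + q ^ 2 - q - 2| ≤ 2 * (q ^ 2 - 1) := by
  have hqq : 27 * q ≤ q ^ 2 := by nlinarith
  obtain ⟨s, hs⟩ : ∃ s : ℤ, s = q ^ 2 := ⟨_, rfl⟩
  rw [← hs] at hαz hqq ⊢
  have hs0 : 0 < s * (s - 1) := mul_pos (by linarith) (by linarith)
  by_contra hcon
  push Not at hcon
  obtain ⟨h5, h6⟩ := hcon
  rcases lt_or_ge α 0 with hneg | hpos
  · have hzneg : z < 0 := by
      by_contra hcon
      push Not at hcon
      have h7 := mul_nonpos_of_nonpos_of_nonneg hneg.le hcon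
      linarith
    have h7 : s ≤ -α := by
      rcases abs_cases (α + s - q) with ⟨h7, -⟩ | ⟨h7, -⟩
      · rw [h7] at h5; linarith
      · rw [h7] at h5; linarith
    have h8 : s ≤ -z := by
      rcases abs_cases (z + s - q - 2) with ⟨h7, -⟩ | ⟨h7, -⟩
      · rw [h7] at h6; linarith
      · rw [h7] at h6; linarith
    have h9 : s * s ≤ (-α) * (-z) := mul_le_mul h7 h8 (by linarith) (by linarith)
    linarith
  · have hzpos : 0 ≤ z := by
      by_contra hcon
      push Not at hcon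
      have h7 := mul_nonpos_of_nonneg_of_nonpos hpos hcon.le
      linarith
    rw [abs_of_nonneg (by linarith)] at h5 h6
    have h7 : s + q - 2 ≤ α := by linarith
    have h8 : s + q ≤ z := by linarith
    have h9 : (s + q - 2) * (s + q) ≤ α * z :=
      mul_le_mul h7 h8 (by linarith) (by linarith)
    have h10 : 0 < q * s := mul_pos (by linarith) (by linarith)
    have h11 : q * 27 ≤ q * s := mul_le_mul_of_nonneg_left (by linarith) (by linarith)
    have h12 : (s + q - 2) * (s + q) = s * (s - 1) + 2 * (q * s) + (q ^ 2 - s) - 2 * q := by ring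
    linarith

/-- **The number lemma of case `U`.**  `y = X₂(1)`, `z = X₃(1) - q² + 1`. -/
theorem main (h : Par p n q f mr) {T g : ℤ} {k : ℕ} (hT : T = 2 ^ k) (hTq : q + 1 = T * g)
    (hg : Odd g) {α z y a x : ℤ} (hαz : α * z = q ^ 2 * (q ^ 2 - 1))
    (hα : 4 * T ∣ α - (q - 1)) (hz : 4 * T ∣ z - (q + 1)) (hy : y = q ^ 2 + α) (hfx : f ≤ x)
    (hdeg : a * q * f * (y - q) ^ 2 = (q + 1) ^ 3 * (q - 1) * y * (y - 1) * x ^ 2)
    (h2 : x * (q ^ 2 - 1) * (mr - 1) ≤ |y - q| * mr * f)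
    (h3 : x * (q ^ 2 - 1) * (mr - 1) ≤ |z + q ^ 2 - q - 2| * mr * f) : z = q + 1 := by
  have hq := h.q_ge
  have hf3 := h.three_le
  have hq2 : 0 < q ^ 2 - 1 := by nlinarith
  have hqq : q * 27 ≤ q * q := mul_le_mul_of_nonneg_left hq (by linarith)
  have hx0 : 0 < x := by linarith
  have hpp : Prime (p : ℤ) := Nat.prime_iff_prime_int.1 h.prime
  have hD2 : y - q = α + q ^ 2 - q := by rw [hy]; ring
  rw [hD2] at h2
  -- `x ≤ 2 f + 1`
  have hx : x ≤ 2 * f + 1 := by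
    rcases min_le hq hαz with h5 | h5
    · exact h.x_le h5 h2
    · exact h.x_le h5 h3
  by_cases hpα : (p : ℤ) ∣ α
  · by_cases hqα : q ^ 2 ∣ α
    · -- `α = q² c`
      obtain ⟨c, hc⟩ := hqα
      have hq20 : q ^ 2 ≠ 0 := by positivity
      have hcz : c * z = q ^ 2 - 1 := by
        have : q ^ 2 * (c * z) = q ^ 2 * (q ^ 2 - 1) := by rw [← hαz, hc]; ring
        exact mul_left_cancel₀ hq20 this
      refine case_two h hT hTq hg hcz (by rw [← hc]; exact hα) hfx hx (a := a) ?_ h3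
      have e1 : q ^ 2 * (a * q * f * (q * (c + 1) - 1) ^ 2) =
          q ^ 2 * ((q + 1) ^ 3 * (q - 1) * (c + 1) * (q ^ 2 * (c + 1) - 1) * x ^ 2) := by
        rw [hy, hc] at hdeg
        linear_combination hdeg
      exact mul_left_cancel₀ hq20 e1
    · exact absurd (case_one h hy hpα hqα hdeg) (h.not_dvd hx0 hx)
  · -- `z = q² c`
    exfalso
    have hcop : IsCoprime (q ^ 2) α := by
      rw [h.eq, ← pow_mul]
      exact IsCoprime.pow_left ((Prime.coprime_iff_not_dvd hpp).2 hpα)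
    have hqz : q ^ 2 ∣ z := hcop.dvd_of_dvd_mul_left ⟨q ^ 2 - 1, hαz⟩
    obtain ⟨c, hc⟩ := hqz
    have hq20 : q ^ 2 ≠ 0 := by positivity
    have hcα : α * c = q ^ 2 - 1 := by
      have : q ^ 2 * (α * c) = q ^ 2 * (q ^ 2 - 1) := by rw [← hαz, hc]; ring
      exact mul_left_cancel₀ hq20 this
    refine case_three h hT hTq hg hcα (by rw [← hc]; exact hz) hfx hx (a := a) ?_ h2
    have e1 : c * y = q ^ 2 * (c + 1) - 1 := by rw [hy]; linear_combination hcα
    have e2 : c * (y - q) = (q - 1) * (q * (c + 1) + 1) := by rw [hy]; linear_combination hcα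
    have e3 : c * (y - 1) = (q ^ 2 - 1) * (c + 1) := by rw [hy]; linear_combination hcα
    have e4 : (q - 1) ^ 2 * (a * q * f * (q * (c + 1) + 1) ^ 2) =
        (q - 1) ^ 2 * ((q + 1) ^ 4 * (c + 1) * (q ^ 2 * (c + 1) - 1) * x ^ 2) := by
      calc (q - 1) ^ 2 * (a * q * f * (q * (c + 1) + 1) ^ 2)
          = a * q * f * ((q - 1) * (q * (c + 1) + 1)) ^ 2 := by ring
        _ = a * q * f * (c * (y - q)) ^ 2 := by rw [← e2]
        _ = c ^ 2 * (a * q * f * (y - q) ^ 2) := by ring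
        _ = c ^ 2 * ((q + 1) ^ 3 * (q - 1) * y * (y - 1) * x ^ 2) := by rw [hdeg]
        _ = (q + 1) ^ 3 * (q - 1) * (c * y) * (c * (y - 1)) * x ^ 2 := by ring
        _ = (q + 1) ^ 3 * (q - 1) * (q ^ 2 * (c + 1) - 1) * ((q ^ 2 - 1) * (c + 1)) * x ^ 2 := by
            rw [e1, e3]
        _ = _ := by ring
    exact mul_left_cancel₀ (pow_ne_zero 2 (by omega)) e4

end

end Cfsg.Agent.Classification.QDW.FuNum
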