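import Mathlib

/-!
# Elimination of the intermediate values of `k` (bb 3034 (2), helper481)

`InS q m n` : `n` lies in the semigroup generated by `2(q+1)`, `2q + (q-1)(2^m - 1)`, `(q-1)2^(m+1)`,
where `2^(m+1)` is the 2-part of `q+1`.  `no_mid` : for `1 < k < q` odd, `k ∣ q²-1`,
`q+1-k ∣ (q+1)²` the two numbers `(q²-1)(q-k)/(2k)` and `(q+1)²(k-1)/(2(q+1-k))` are not both in the
semigroup.
-/

set_option autoImplicit false

namespace Cfsg.Agent.Classification.QDW.NumSlack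

/-- The semigroup of the degrees of the characters of `PGL₂(q)` vanishing on 2-singular elements. -/
def InS (q : ℤ) (m : ℕ) (n : ℤ) : Prop :=
  ∃ x y z : ℕ, n = x * (2 * (q + 1)) + y * (2 * q + (q - 1) * (2 ^ m - 1)) +
    z * ((q - 1) * 2 ^ (m + 1))

theorem InS.exists_form {q : ℤ} {m : ℕ} {n : ℤ} (h : InS q m n) :
    ∃ N j : ℤ, 0 ≤ j ∧ 2 ^ m * j ≤ N ∧ n = N * (q + 1) - 2 ^ (m + 1) * j := by
  obtain ⟨x, y, z, rfl⟩ := h
  refine ⟨2 * x + (1 + 2 ^ m) * y + 2 ^ (m + 1) * z, y + 2 * z, by positivity, ?_, ?_⟩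
  · have h1 : (0 : ℤ) ≤ 2 * x + y := by positivity
    have h2 : 2 ^ m * ((y : ℤ) + 2 * z) + (2 * x + y) =
      2 * x + (1 + 2 ^ m) * y + 2 ^ (m + 1) * z := by ring
    omega
  · ring

theorem InS.add {q : ℤ} {m : ℕ} {n n' : ℤ} (h : InS q m n) (h' : InS q m n') :
    InS q m (n + n') := by
  obtain ⟨x, y, z, rfl⟩ := h
  obtain ⟨x', y', z', rfl⟩ := h'
  exact ⟨x + x', y + y', z + z', by push_cast; ring⟩

theorem InS.zero {q : ℤ} {m : ℕ} : InS q m 0 := ⟨0, 0, 0, by simp⟩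

set_option maxHeartbeats 1000000 in
theorem no_mid_aux {q k w : ℤ} {m : ℕ} (hm : 1 ≤ m) (hw : Odd w) (hw0 : 0 < w)
    (hq : q + 1 = 2 ^ (m + 1) * w) (hk1 : 1 < k) (hkq : k < q) (hko : Odd k)
    (hk : k ∣ q ^ 2 - 1) (hd : q + 1 - k ∣ (q + 1) ^ 2) {N₂ j₂ N₃ j₃ : ℤ}
    (hj₂ : 0 ≤ j₂) (hN₂ : 2 ^ m * j₂ ≤ N₂)
    (s₂ : (q ^ 2 - 1) * (q - k) = 2 * k * (N₂ * (q + 1) - 2 ^ (m + 1) * j₂))
    (hj₃ : 0 ≤ j₃) (hN₃ : 2 ^ m * j₃ ≤ N₃)
    (s₃ : (q + 1) ^ 2 * (k - 1) = 2 * (q + 1 - k) * (N₃ * (q + 1) - 2 ^ (m + 1) * j₃)) :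
    False := by
  have hc : (0 : ℤ) < 2 ^ m := by positivity
  obtain ⟨c, hcc⟩ : ∃ c : ℤ, (2 : ℤ) ^ m = c := ⟨_, rfl⟩
  have h2c : (2 : ℤ) ^ (m + 1) = 2 * c := by rw [pow_succ, hcc]; ring
  have hce : Even c := by
    rw [← hcc]
    exact (Int.even_pow.2 ⟨even_two, by omega⟩)
  have hcop : ∀ x : ℤ, Odd x → IsCoprime x c := by
    intro x hx
    rw [← hcc]
    refine IsCoprime.pow_right ?_
    obtain ⟨y, rfl⟩ := hx
    exact ⟨1, -y, by ring⟩
  have hcop2 : ∀ x : ℤ, Odd x → IsCoprime x 2 := by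
    intro x hx
    obtain ⟨y, rfl⟩ := hx
    exact ⟨1, -y, by ring⟩
  rw [hcc] at hN₂ hN₃ hc
  rw [h2c] at hq s₂ s₃
  obtain ⟨g, hg0, k', w', hkw, hkk, hww⟩ : ∃ g : ℤ, 0 < g ∧ ∃ k' w' : ℤ, IsCoprime k' w' ∧
      k = g * k' ∧ w = g * w' := by
    have hgpos : 0 < Int.gcd k w := Int.gcd_pos_of_ne_zero_left _ (by omega)
    obtain ⟨k', w', h1, h2, h3⟩ := Int.exists_gcd_one hgpos
    refine ⟨Int.gcd k w, by exact_mod_cast hgpos, k', w', Int.isCoprime_iff_gcd_eq_one.2 h1,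
      by rw [mul_comm]; exact h2, by rw [mul_comm]; exact h3⟩
  subst hkk hww
  have hk'0 : 0 < k' := (mul_pos_iff_of_pos_left hg0).1 (by linarith)
  have hw'0 : 0 < w' := (mul_pos_iff_of_pos_left hg0).1 hw0
  -- parities
  have hko' : Odd k' := (Int.odd_mul.1 hko).2
  have hgo : Odd g := (Int.odd_mul.1 hko).1
  -- `w₁ = (q - 1) / 2`, `q`
  obtain ⟨w₁, hw₁⟩ : ∃ w₁ : ℤ, w₁ = c * (g * w') - 1 := ⟨_, rfl⟩
  have hqv : q = 2 * w₁ + 1 := by rw [hw₁]; linarith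
  have hw₁0 : 0 < w₁ := by linarith
  -- `d = g d₁`
  obtain ⟨d₁, hd₁⟩ : ∃ d₁ : ℤ, d₁ = 2 * c * w' - k' := ⟨_, rfl⟩
  have hdd : q + 1 - g * k' = g * d₁ := by rw [hq, hd₁]; ring
  have hd₁0 : 0 < d₁ := by
    have : 0 < g * d₁ := by rw [← hdd]; linarith
    exact (mul_pos_iff_of_pos_left hg0).1 this
  have hd₁o : Odd d₁ := by
    rw [hd₁]
    exact Even.sub_odd ⟨c * w', by ring⟩ hko'
  -- `k' ∣ w₁`
  have hk'w₁ : k' ∣ w₁ := by
    have h1 : g * k' ∣ (w₁ * (g * w')) * (2 * (2 * c)) := by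
      have : q ^ 2 - 1 = (w₁ * (g * w')) * (2 * (2 * c)) := by
        have : q ^ 2 - 1 = (q - 1) * (q + 1) := by ring
        rw [this, hq, hqv]; ring
      rw [← this]; exact hk
    have h2 : IsCoprime (g * k') (2 * (2 * c)) :=
      (hcop2 _ hko).mul_right ((hcop2 _ hko).mul_right (hcop _ hko))
    have h3 := h2.dvd_of_dvd_mul_right h1
    have h4 : k' ∣ w₁ * w' := by
      have : g * k' ∣ g * (w₁ * w') := by
        rw [show g * (w₁ * w') = w₁ * (g * w') by ring]; exact h3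
      exact (mul_dvd_mul_iff_left hg0.ne').1 this
    exact hkw.dvd_of_dvd_mul_right h4
  obtain ⟨x, hx⟩ := hk'w₁
  have hx0 : 0 < x := (mul_pos_iff_of_pos_left hk'0).1 (by rw [← hx]; exact hw₁0)
  -- `d₁ ∣ g`
  have hd₁g : d₁ ∣ g := by
    have h1 : g * d₁ ∣ (g * w') ^ 2 * ((2 * c) * (2 * c)) := by
      have : (q + 1) ^ 2 = (g * w') ^ 2 * ((2 * c) * (2 * c)) := by rw [hq]; ring
      rw [← this, ← hdd]; exact hd
    have hdo : Odd (g * d₁) := hgo.mul hd₁o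
    have h2' : IsCoprime (g * d₁) (2 * c) := (hcop2 _ hdo).mul_right (hcop _ hdo)
    have h2 : IsCoprime (g * d₁) ((2 * c) * (2 * c)) := h2'.mul_right h2'
    have h3 := h2.dvd_of_dvd_mul_right h1
    have h4 : d₁ ∣ g * w' ^ 2 := by
      have : g * d₁ ∣ g * (g * w' ^ 2) := by
        rw [show g * (g * w' ^ 2) = (g * w') ^ 2 by ring]; exact h3
      exact (mul_dvd_mul_iff_left hg0.ne').1 this
    have h5 : IsCoprime d₁ w' := by
      rw [hd₁, show 2 * c * w' - k' = -k' + w' * (2 * c) by ring]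
      exact IsCoprime.add_mul_left_left hkw.neg_left (2 * c)
    exact h5.pow_right.dvd_of_dvd_mul_right h4
  obtain ⟨e, he⟩ := hd₁g
  have he0 : 0 < e := (mul_pos_iff_of_pos_left hd₁0).1 (by rw [← he]; exact hg0)
  -- slack 2
  have t₂ : x * w' * (q - g * k') = N₂ * (g * w') - j₂ := by
    have h1 : (4 * c * g * k') * (x * w' * (q - g * k')) =
        (4 * c * g * k') * (N₂ * (g * w') - j₂) := by
      have h2 : q ^ 2 - 1 = 4 * c * g * k' * x * w' := by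
        have : q ^ 2 - 1 = (q - 1) * (q + 1) := by ring
        rw [this, hq, hqv, hx]; ring
      calc (4 * c * g * k') * (x * w' * (q - g * k'))
          = (q ^ 2 - 1) * (q - g * k') := by rw [h2]; ring
        _ = _ := by rw [s₂, hq]; ring
    exact mul_left_cancel₀ (by positivity) h1
  obtain ⟨j', hj'⟩ : ∃ j' : ℤ, j' = N₂ * g - x * (q - g * k') := ⟨_, rfl⟩
  have hj₂j' : j₂ = w' * j' := by rw [hj']; linarith
  have hj'0 : 0 ≤ j' := (mul_nonneg_iff_of_pos_left hw'0).1 (hj₂j' ▸ hj₂)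
  obtain ⟨i, hi⟩ : ∃ i : ℤ, g * i = k' * j' + 1 := by
    refine ⟨N₂ * k' + w₁ * k' + (3 * c * w' - 2 * c ^ 2 * g * w' ^ 2), ?_⟩
    have h1 : k' * (x * (q - g * k')) = w₁ * (q - g * k') := by rw [hx]; ring
    have h2 : w₁ * q = 1 - g * (3 * c * w' - 2 * c ^ 2 * g * w' ^ 2) := by
      rw [hqv, hw₁]; ring
    rw [hj']
    have h3 : k' * (N₂ * g - x * (q - g * k')) = k' * N₂ * g - w₁ * (q - g * k') := by
      rw [← h1]; ring
    rw [h3, mul_sub, h2]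
    ring
  have hB₂ : k' * j' ≤ q - g * k' := by
    have h1 : j₂ * w₁ ≤ N₂ * (g * w') - j₂ := by
      have h0 := mul_le_mul_of_nonneg_right hN₂ hw0.le
      rw [hw₁]
      linarith
    rw [← t₂, hj₂j', hx] at h1
    have h2 : (x * w') * (k' * j') ≤ (x * w') * (q - g * k') := by linarith
    exact le_of_mul_le_mul_left h2 (by positivity)
  have hi1 : 1 ≤ i := by
    have : 0 < g * i := by rw [hi]; positivity
    exact (mul_pos_iff_of_pos_left hg0).1 this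
  have hid : i ≤ d₁ := by
    have h1 : g * i ≤ g * d₁ := by rw [hi, ← hdd]; linarith
    exact le_of_mul_le_mul_left h1 hg0
  have hdiv : k' ∣ 2 * i - d₁ := by
    have h1 : k' ∣ g * (2 * i - d₁) := by
      refine ⟨2 * j' + g - 2 * x, ?_⟩
      have h2 : g * d₁ = 2 * w₁ + 2 - g * k' := by rw [← hdd, hqv]; ring
      have h3 : g * (2 * i - d₁) = 2 * (g * i) - g * d₁ := by ring
      rw [h3, hi, h2, hx]
      ring
    have h2 : IsCoprime k' g := ⟨-j', i, by linarith⟩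
    exact h2.dvd_of_dvd_mul_left h1
  have hk'd : k' < d₁ := by
    have hne : 2 * i - d₁ ≠ 0 := by
      intro h0
      obtain ⟨y, hy⟩ := hd₁o
      omega
    have h1 : k' ≤ |2 * i - d₁| := by
      have := Int.le_of_dvd (abs_pos.2 hne) ((dvd_abs _ _).2 hdiv)
      exact this
    have h2 : |2 * i - d₁| ≤ d₁ := by rw [abs_le]; constructor <;> linarith
    refine lt_of_le_of_ne (h1.trans h2) fun h3 => ?_
    have h4 : k' = c * w' := by linarith
    have h5 : Even k' := by rw [h4]; exact hce.mul_right _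
    exact (Int.not_even_iff_odd.2 hko') h5
  -- slack 3
  have t₃ : c * (e * w' ^ 2) * (g * k' - 1) = N₃ * (g * w') - j₃ := by
    have h1 : (4 * c * g * d₁) * (c * (e * w' ^ 2) * (g * k' - 1)) =
        (4 * c * g * d₁) * (N₃ * (g * w') - j₃) := by
      calc (4 * c * g * d₁) * (c * (e * w' ^ 2) * (g * k' - 1))
          = 4 * c ^ 2 * g * (d₁ * e) * w' ^ 2 * (g * k' - 1) := by ring
        _ = (q + 1) ^ 2 * (g * k' - 1) := by rw [← he, hq]; ring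
        _ = _ := by rw [s₃, hdd, hq]; ring
    exact mul_left_cancel₀ (by positivity) h1
  obtain ⟨j'', hj''⟩ : ∃ j'' : ℤ, j'' = N₃ * d₁ - c * w' * (g * k' - 1) := ⟨_, rfl⟩
  have hj₃j'' : j₃ = e * w' * j'' := by
    have h1 : N₃ * (g * w') = N₃ * (d₁ * e * w') := by rw [← he]
    rw [hj'']
    linarith
  have hj''0 : 0 ≤ j'' := by
    have : 0 < e * w' := by positivity
    exact (mul_nonneg_iff_of_pos_left this).1 (hj₃j'' ▸ hj₃)
  have hdiv' : d₁ ∣ 2 * j'' - k' := by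
    refine ⟨2 * N₃ - g * k' + 1 - e * k' ^ 2, ?_⟩
    have h1 : 2 * c * w' = d₁ + k' := by rw [hd₁]; ring
    have h2 : 2 * j'' - k' = 2 * N₃ * d₁ - (2 * c * w') * (g * k' - 1) - k' := by
      rw [hj'']; ring
    have h3 : g * k' * k' = d₁ * e * k' * k' := by rw [← he]
    rw [h2, h1]
    linear_combination (-1 : ℤ) * h3
  have hB₃ : j'' < k' := by
    by_contra h0
    push Not at h0
    have h1 : j₃ * w₁ ≤ N₃ * (g * w') - j₃ := by
      have h0 := mul_le_mul_of_nonneg_right hN₃ hw0.le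
      rw [hw₁]
      linarith
    rw [← t₃, hj₃j''] at h1
    have h2 : (e * w') * (j'' * w₁) ≤ (e * w') * (c * w' * (g * k' - 1)) := by linarith
    have h3 := le_of_mul_le_mul_left h2 (by positivity)
    have h4 : k' * w₁ ≤ j'' * w₁ := mul_le_mul_of_nonneg_right h0 hw₁0.le
    have h5 : k' * w₁ ≤ c * w' * (g * k' - 1) := h4.trans h3
    rw [hw₁] at h5
    have h6 : c * w' ≤ k' := by linarith
    linarith
  have hne : 2 * j'' - k' ≠ 0 := by
    intro h0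
    obtain ⟨y, hy⟩ := hko'
    omega
  have h1 : d₁ ≤ |2 * j'' - k'| := Int.le_of_dvd (abs_pos.2 hne) ((dvd_abs _ _).2 hdiv')
  have h2 : |2 * j'' - k'| ≤ k' := by rw [abs_le]; constructor <;> linarith
  linarith

/-- **No intermediate value of `k`** (bb 3034 (2)). -/
theorem no_mid {q k w : ℤ} {m : ℕ} (hm : 1 ≤ m) (hw : Odd w) (hw0 : 0 < w)
    (hq : q + 1 = 2 ^ (m + 1) * w) (hk1 : 1 < k) (hkq : k < q) (hko : Odd k)
    (hk : k ∣ q ^ 2 - 1) (hd : q + 1 - k ∣ (q + 1) ^ 2) {n₂ n₃ : ℤ}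
    (h₂ : InS q m n₂) (e₂ : 2 * k * n₂ = (q ^ 2 - 1) * (q - k))
    (h₃ : InS q m n₃) (e₃ : 2 * (q + 1 - k) * n₃ = (q + 1) ^ 2 * (k - 1)) : False := by
  obtain ⟨N₂, j₂, hj₂, hN₂, rfl⟩ := h₂.exists_form
  obtain ⟨N₃, j₃, hj₃, hN₃, rfl⟩ := h₃.exists_form
  exact no_mid_aux hm hw hw0 hq hk1 hkq hko hk hd hj₂ hN₂ e₂.symm hj₃ hN₃ e₃.symm

end Cfsg.Agent.Classification.QDW.NumSlack
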