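import Mathlib

/-!
# A fact on modules for `SL₂(q)` in characteristic `p`

`F` is a finite field, `SL(2, F)` acts on a finite elementary abelian `p`-group `M`, `-1` acts as
`-1`. `D ≤ M` is a subgroup centralized by the upper unipotent elements `up r`, on which the torus
acts transitively on nonzero elements. If `lo s • v + lo (-s) • v ∈ D` for some `v ≠ 0`, `s ≠ 0`,
then `tor (1 + t) • v + tor (1 - t) • v = 2 v` for all `t ≠ ± 1` (`key`). If `|F| ≡ 3 mod 4`,
`|F| > 7`, and `D ≃ F` with `tor (b ^ 2)` acting as `b ^ 4` or as `b ^ (-4)`, this is impossible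
(`claim`).
-/

set_option autoImplicit false
set_option linter.unusedSectionVars false

namespace Cfsg.Agent.Classification.QDW.SLModule

open Matrix

section Mat

variable {F : Type*} [Field F]

/-- Upper unipotent elements. -/
def up (r : F) : SpecialLinearGroup (Fin 2) F := ⟨!![1, r; 0, 1], by simp⟩

/-- Lower unipotent elements. -/
def lo (s : F) : SpecialLinearGroup (Fin 2) F := ⟨!![1, 0; s, 1], by simp⟩

/-- The split torus. -/
def tor (a : Fˣ) : SpecialLinearGroup (Fin 2) F := ⟨!![(a : F), 0; 0, ((a⁻¹ : Fˣ) : F)], by simp⟩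

/-- The Weyl element. -/
def wl : SpecialLinearGroup (Fin 2) F := ⟨!![0, -1; 1, 0], by simp⟩

theorem up_coe (r : F) : (up r).1 = !![1, r; 0, 1] := rfl
theorem lo_coe (r : F) : (lo r).1 = !![1, 0; r, 1] := rfl
theorem tor_coe (a : Fˣ) : (tor a).1 = !![(a : F), 0; 0, (a : F)⁻¹] := by
  show !![(a : F), 0; 0, ((a⁻¹ : Fˣ) : F)] = _
  rw [Units.val_inv_eq_inv_val]
theorem wl_coe : (wl : SpecialLinearGroup (Fin 2) F).1 = !![0, -1; 1, 0] := rfl
theorem mul_coe (A B : SpecialLinearGroup (Fin 2) F) : (A * B).1 = A.1 * B.1 := rfl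
theorem one_coe : (1 : SpecialLinearGroup (Fin 2) F).1 = !![1, 0; 0, 1] := by
  rw [← Matrix.one_fin_two]
  rfl
theorem neg_one_coe : (-1 : SpecialLinearGroup (Fin 2) F).1 = !![-1, 0; 0, -1] := by
  rw [Matrix.SpecialLinearGroup.coe_neg, Matrix.SpecialLinearGroup.coe_one, Matrix.one_fin_two]
  ext i j
  fin_cases i <;> fin_cases j <;> simp

theorem mk_congr {a b c d a' b' c' d' : F} (h1 : a = a') (h2 : b = b') (h3 : c = c')
    (h4 : d = d') : !![a, b; c, d] = !![a', b'; c', d'] := by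
  rw [h1, h2, h3, h4]

theorem up_zero : up (0 : F) = 1 := Subtype.ext (by rw [up_coe, one_coe])

theorem up_add (r r' : F) : up (r + r') = up r * up r' := by
  apply Subtype.ext
  rw [mul_coe, up_coe, up_coe, up_coe, Matrix.mul_fin_two]
  apply mk_congr <;> ring

theorem tor_mul (a b : Fˣ) : tor (a * b) = tor a * tor b := by
  apply Subtype.ext
  rw [mul_coe, tor_coe, tor_coe, tor_coe, Matrix.mul_fin_two, Units.val_mul, mul_inv]
  apply mk_congr <;> ring

theorem tor_one : tor (1 : Fˣ) = 1 := by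
  apply Subtype.ext
  rw [tor_coe, one_coe, Units.val_one, inv_one]

theorem tor_comm (a b : Fˣ) : tor a * tor b = tor b * tor a := by
  rw [← tor_mul, ← tor_mul, mul_comm]

theorem tor_neg_one : tor (-1 : Fˣ) = -1 := by
  apply Subtype.ext
  rw [tor_coe, neg_one_coe, Units.val_neg, Units.val_one, inv_neg, inv_one]

theorem tor_up (a : Fˣ) (r : F) : tor a * up r = up ((a : F) ^ 2 * r) * tor a := by
  have ha := a.ne_zero
  apply Subtype.ext
  rw [mul_coe, mul_coe, tor_coe, up_coe, up_coe, Matrix.mul_fin_two, Matrix.mul_fin_two]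
  apply mk_congr
  · ring
  · field_simp
    ring
  · ring
  · ring

theorem lo_wl (s : F) : lo s * wl = wl * up (-s) := by
  apply Subtype.ext
  rw [mul_coe, mul_coe, lo_coe, up_coe, wl_coe, Matrix.mul_fin_two, Matrix.mul_fin_two]
  apply mk_congr <;> ring

theorem tor_wl (a : Fˣ) : tor a * wl = wl * tor a⁻¹ := by
  apply Subtype.ext
  rw [mul_coe, mul_coe, tor_coe, tor_coe, wl_coe, Matrix.mul_fin_two, Matrix.mul_fin_two,
    Units.val_inv_eq_inv_val, inv_inv]
  apply mk_congr <;> ring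

theorem wl_sq : (wl : SpecialLinearGroup (Fin 2) F) * wl = -1 := by
  apply Subtype.ext
  rw [mul_coe, wl_coe, neg_one_coe, Matrix.mul_fin_two]
  apply mk_congr <;> ring

theorem lo_up (r s : F) (b : Fˣ) (hb : (b : F) = 1 + r * s) :
    lo s * up r = up (r / b) * tor b⁻¹ * lo (s / b) := by
  have hb0 : (b : F) ≠ 0 := b.ne_zero
  apply Subtype.ext
  rw [mul_coe, mul_coe, mul_coe, lo_coe, lo_coe, up_coe, up_coe, tor_coe, Matrix.mul_fin_two,
    Matrix.mul_fin_two, Matrix.mul_fin_two, Units.val_inv_eq_inv_val, inv_inv]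
  apply mk_congr
  · field_simp
    rw [hb]
    ring
  · field_simp
    ring
  · field_simp
    ring
  · rw [hb]
    ring

theorem lo_eq (s : Fˣ) : lo (s : F) = up ((s : F)⁻¹) * wl * tor s * up ((s : F)⁻¹) := by
  have hs := s.ne_zero
  apply Subtype.ext
  rw [mul_coe, mul_coe, mul_coe, lo_coe, up_coe, wl_coe, tor_coe, Matrix.mul_fin_two,
    Matrix.mul_fin_two, Matrix.mul_fin_two]
  apply mk_congr <;> field_simp <;> ring

end Mat

section Nakayama

variable {M : Type*} [AddCommGroup M] [Finite M] {p : ℕ} [Fact p.Prime] {Y G : Type*} [Group Y]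
  [Group G] [DistribMulAction G M]

/-- A `p`-group acting on a nontrivial elementary abelian `p`-group `J` has a nonzero invariant
functional. -/
theorem exists_functional (hY : IsPGroup p Y) (f : Y →* G) (hp : ∀ m : M, p • m = 0)
    (J : AddSubgroup M) (hJ : ∀ y : Y, ∀ m ∈ J, f y • m ∈ J) (hne : J ≠ ⊥) :
    ∃ l : J →+ ZMod p, l ≠ 0 ∧ ∀ (y : Y) (m : J), l ⟨f y • (m : M), hJ y m m.2⟩ = l m := by
  classical
  let _ : Module (ZMod p) J := AddCommGroup.zmodModule (fun x => Subtype.ext (by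
    rw [AddSubgroup.coe_nsmul, AddSubgroup.coe_zero]; exact hp x))
  -- a nonzero functional
  obtain ⟨v, hv⟩ : ∃ v : J, v ≠ 0 := by
    by_contra hcon
    push Not at hcon
    apply hne
    rw [eq_bot_iff]
    intro x hx
    have := hcon ⟨x, hx⟩
    exact congrArg Subtype.val this
  obtain ⟨l₀, hl₀⟩ : ∃ l : J →+ ZMod p, l ≠ 0 := by
    by_contra hcon
    push Not at hcon
    apply hv
    rw [← Module.forall_dual_apply_eq_zero_iff (ZMod p)]
    intro φ
    have := hcon φ.toAddMonoidHom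
    exact DFunLike.congr_fun this v
  have hfin : Finite (J →+ ZMod p) := DFunLike.finite _
  -- the action on functionals
  let act : Y → (J →+ ZMod p) → (J →+ ZMod p) := fun y l =>
    { toFun := fun m => l ⟨f y⁻¹ • (m : M), hJ y⁻¹ m m.2⟩
      map_zero' := by
        have : (⟨f y⁻¹ • ((0 : J) : M), hJ y⁻¹ _ (0 : J).2⟩ : J) = 0 :=
          Subtype.ext (smul_zero (f y⁻¹))
        rw [this, map_zero]
      map_add' := fun a b => by
        rw [← map_add]
        congr 1
        exact Subtype.ext (smul_add (f y⁻¹) (a : M) (b : M)) }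
  let _ : MulAction Y (J →+ ZMod p) :=
    { smul := act
      one_smul := fun l => by
        ext m
        show l ⟨f 1⁻¹ • (m : M), _⟩ = l m
        congr 1
        refine Subtype.ext ?_
        show f 1⁻¹ • (m : M) = m
        rw [inv_one, map_one, one_smul]
      mul_smul := fun y y' l => by
        ext m
        show l ⟨f (y * y')⁻¹ • (m : M), _⟩ = l ⟨f y'⁻¹ • (f y⁻¹ • (m : M)), _⟩
        congr 1
        refine Subtype.ext ?_
        show f (y * y')⁻¹ • (m : M) = f y'⁻¹ • (f y⁻¹ • (m : M))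
        rw [_root_.mul_inv_rev, map_mul, mul_smul] }
  have hdvd : p ∣ Nat.card (J →+ ZMod p) := by
    have h1 : addOrderOf l₀ = p := by
      have h2 : addOrderOf l₀ ∣ p := addOrderOf_dvd_of_nsmul_eq_zero (by
        ext m
        rw [AddMonoidHom.nsmul_apply, AddMonoidHom.zero_apply, nsmul_eq_mul, CharP.cast_eq_zero,
          zero_mul])
      rcases (Nat.dvd_prime Fact.out).1 h2 with h3 | h3
      · exact absurd (AddMonoid.addOrderOf_eq_one_iff.1 h3) hl₀
      · exact h3
    have h2 := addOrderOf_dvd_natCard l₀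
    rwa [h1] at h2
  have h0 : (0 : J →+ ZMod p) ∈ MulAction.fixedPoints Y (J →+ ZMod p) := by
    intro y
    ext m
    rfl
  obtain ⟨l, hl, hne⟩ := hY.exists_fixed_point_of_prime_dvd_card_of_fixed_point _ hdvd h0
  refine ⟨l, hne.symm, fun y m => ?_⟩
  have h1 := DFunLike.congr_fun (hl y⁻¹) m
  have h2 : l ⟨f (y⁻¹)⁻¹ • (m : M), hJ _ m m.2⟩ = l m := h1
  rw [← h2]
  congr 1
  refine Subtype.ext ?_
  show f y • (m : M) = f y⁻¹⁻¹ • (m : M)
  rw [inv_inv]

/-- `J` is not generated by the elements `y m - m`. -/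
theorem not_le_closure (hY : IsPGroup p Y) (f : Y →* G) (hp : ∀ m : M, p • m = 0)
    (J : AddSubgroup M) (hJ : ∀ y : Y, ∀ m ∈ J, f y • m ∈ J) (hne : J ≠ ⊥) :
    ¬ J ≤ AddSubgroup.closure {z | ∃ y : Y, ∃ m ∈ J, z = f y • m - m} := by
  intro hle
  obtain ⟨l, hl, hinv⟩ := exists_functional hY f hp J hJ hne
  apply hl
  have h1 : ∀ z ∈ AddSubgroup.closure {z | ∃ y : Y, ∃ m ∈ J, z = f y • m - m},
      ∃ hz : z ∈ J, l ⟨z, hz⟩ = 0 := by
    intro z hz
    induction hz using AddSubgroup.closure_induction with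
    | mem z hz =>
      obtain ⟨y, m, hm, rfl⟩ := hz
      refine ⟨J.sub_mem (hJ y m hm) hm, ?_⟩
      have h2 : (⟨f y • m - m, J.sub_mem (hJ y m hm) hm⟩ : J) = ⟨f y • m, hJ y m hm⟩ - ⟨m, hm⟩ := rfl
      rw [h2, map_sub, hinv y ⟨m, hm⟩, sub_self]
    | zero => exact ⟨J.zero_mem, map_zero l⟩
    | add a b _ _ ha hb =>
      obtain ⟨ha1, ha2⟩ := ha
      obtain ⟨hb1, hb2⟩ := hb
      refine ⟨J.add_mem ha1 hb1, ?_⟩
      have h2 : (⟨a + b, J.add_mem ha1 hb1⟩ : J) = ⟨a, ha1⟩ + ⟨b, hb1⟩ := rfl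
      rw [h2, map_add, ha2, hb2, add_zero]
    | neg a _ ha =>
      obtain ⟨ha1, ha2⟩ := ha
      refine ⟨J.neg_mem ha1, ?_⟩
      have h2 : (⟨-a, J.neg_mem ha1⟩ : J) = -⟨a, ha1⟩ := rfl
      rw [h2, map_neg, ha2, neg_zero]
  ext m
  obtain ⟨h3, h2⟩ := h1 m (hle m.2)
  exact h2

end Nakayama

section Key

variable {F : Type*} [Field F]

/-- The upper unipotent group. -/
def upHom (F : Type*) [Field F] : Multiplicative F →* SpecialLinearGroup (Fin 2) F where
  toFun r := up r.toAdd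
  map_one' := up_zero
  map_mul' _ _ := up_add _ _

theorem isPGroup_up {p : ℕ} [CharP F p] : IsPGroup p (Multiplicative F) := by
  intro r
  refine ⟨1, ?_⟩
  rw [pow_one]
  show Multiplicative.ofAdd (p • r.toAdd) = 1
  rw [nsmul_eq_mul, CharP.cast_eq_zero, zero_mul]
  rfl

variable [Finite F] {p : ℕ} [Fact p.Prime] [CharP F p] {M : Type*} [AddCommGroup M] [Finite M]
  [DistribMulAction (SpecialLinearGroup (Fin 2) F) M]

/-- The group generated by the images of `wl D` under the upper unipotent elements. -/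
def JJ (F : Type*) [Field F] {M : Type*} [AddCommGroup M]
    [DistribMulAction (SpecialLinearGroup (Fin 2) F) M] (D : AddSubgroup M) : AddSubgroup M :=
  AddSubgroup.closure {z | ∃ r : F, ∃ d ∈ D, z = up r • wl (F := F) • d}

/-- The commutator of `JJ` and of the upper unipotent group. -/
def II (F : Type*) [Field F] {M : Type*} [AddCommGroup M]
    [DistribMulAction (SpecialLinearGroup (Fin 2) F) M] (D : AddSubgroup M) : AddSubgroup M :=
  AddSubgroup.closure {z | ∃ y : Multiplicative F, ∃ m ∈ JJ F D, z = upHom F y • m - m}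

theorem smul_closure {G : Type*} [Group G] [DistribMulAction G M] (g : G) {S T : Set M}
    (h : ∀ x ∈ S, g • x ∈ AddSubgroup.closure T) {x : M} (hx : x ∈ AddSubgroup.closure S) :
    g • x ∈ AddSubgroup.closure T := by
  induction hx using AddSubgroup.closure_induction with
  | mem x hx => exact h x hx
  | zero => rw [smul_zero]; exact zero_mem _
  | add a b _ _ ha hb => rw [smul_add]; exact add_mem ha hb
  | neg a _ ha => rw [smul_neg]; exact neg_mem ha

theorem up_JJ (D : AddSubgroup M) (r : F) {m : M} (hm : m ∈ JJ F D) : up r • m ∈ JJ F D := by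
  refine smul_closure _ ?_ hm
  rintro x ⟨r', d, hd, rfl⟩
  refine AddSubgroup.subset_closure ⟨r + r', d, hd, ?_⟩
  rw [up_add, mul_smul]

theorem tor_JJ {D : AddSubgroup M} (hDtor : ∀ a : Fˣ, ∀ d ∈ D, tor a • d ∈ D) (a : Fˣ) {m : M}
    (hm : m ∈ JJ F D) : tor a • m ∈ JJ F D := by
  refine smul_closure _ ?_ hm
  rintro x ⟨r', d, hd, rfl⟩
  refine AddSubgroup.subset_closure ⟨(a : F) ^ 2 * r', tor a⁻¹ • d, hDtor _ d hd, ?_⟩
  rw [← mul_smul, tor_up, mul_smul, ← mul_smul _ _ d, tor_wl, mul_smul wl]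

theorem up_II (D : AddSubgroup M) (r : F) {m : M} (hm : m ∈ II F D) : up r • m ∈ II F D := by
  refine smul_closure _ ?_ hm
  rintro x ⟨y, m, hm, rfl⟩
  refine AddSubgroup.subset_closure ⟨y, up r • m, up_JJ D r hm, ?_⟩
  show _ = up y.toAdd • up r • m - up r • m
  show up r • (up y.toAdd • m - m) = _
  rw [smul_sub, ← mul_smul, ← mul_smul, ← up_add, ← up_add, add_comm]

theorem tor_II {D : AddSubgroup M} (hDtor : ∀ a : Fˣ, ∀ d ∈ D, tor a • d ∈ D) (a : Fˣ) {m : M}
    (hm : m ∈ II F D) : tor a • m ∈ II F D := by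
  refine smul_closure _ ?_ hm
  rintro x ⟨y, m, hm, rfl⟩
  refine AddSubgroup.subset_closure ⟨Multiplicative.ofAdd ((a : F) ^ 2 * y.toAdd), tor a • m,
    tor_JJ hDtor a hm, ?_⟩
  show tor a • (up y.toAdd • m - m) = up ((a : F) ^ 2 * y.toAdd) • tor a • m - tor a • m
  rw [smul_sub, ← mul_smul, tor_up, mul_smul]

/-- `wl D` meets the commutator trivially. -/
theorem wl_II (hp : ∀ m : M, p • m = 0) {D : AddSubgroup M}
    (hDtor : ∀ a : Fˣ, ∀ d ∈ D, tor a • d ∈ D)
    (htr : ∀ v ∈ D, v ≠ 0 → ∀ v' ∈ D, v' ≠ 0 → ∃ a : Fˣ, tor a • v = v') {d : M} (hd : d ∈ D)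
    (hI : wl (F := F) • d ∈ II F D) : d = 0 := by
  by_contra hd0
  have h1 : ∀ d' ∈ D, wl (F := F) • d' ∈ II F D := by
    intro d' hd'
    by_cases h2 : d' = 0
    · rw [h2, smul_zero]
      exact zero_mem _
    · obtain ⟨a, ha⟩ := htr d hd hd0 d' hd' h2
      have h3 := tor_II hDtor a⁻¹ hI
      rwa [← mul_smul, tor_wl, inv_inv, mul_smul, ha] at h3
  have h2 : JJ F D ≤ II F D := by
    refine (AddSubgroup.closure_le _).2 ?_
    rintro x ⟨r, d', hd', rfl⟩
    exact up_II D r (h1 d' hd')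
  refine not_le_closure (p := p) isPGroup_up (upHom F) hp (JJ F D) (fun y m hm => up_JJ D _ hm) ?_ h2
  intro h3
  have h4 : wl (F := F) • d ∈ JJ F D :=
    AddSubgroup.subset_closure ⟨0, d, hd, by rw [up_zero, one_smul]⟩
  rw [h3, AddSubgroup.mem_bot] at h4
  exact hd0 ((smul_eq_zero_iff_eq (wl (F := F))).1 h4)

theorem lo_wl_fix {D : AddSubgroup M} (hDup : ∀ r : F, ∀ d ∈ D, up r • d = d) (x : F) {d : M}
    (hd : d ∈ D) : lo x • wl (F := F) • d = wl (F := F) • d := by
  rw [← mul_smul, lo_wl, mul_smul, hDup _ d hd]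

/-- The key fact. -/
theorem key (hp : ∀ m : M, p • m = 0) (h2 : (2 : F) ≠ 0)
    (hneg : ∀ m : M, (-1 : SpecialLinearGroup (Fin 2) F) • m = -m) (D : AddSubgroup M)
    (hDup : ∀ r : F, ∀ d ∈ D, up r • d = d) (hDtor : ∀ a : Fˣ, ∀ d ∈ D, tor a • d ∈ D)
    (htr : ∀ v ∈ D, v ≠ 0 → ∀ v' ∈ D, v' ≠ 0 → ∃ a : Fˣ, tor a • v = v')
    {v : M} (hv : v ∈ D) {s : Fˣ}
    (hs : lo (s : F) • v + lo (-(s : F)) • v ∈ D) (a b : Fˣ) (hab : (a : F) + b = 2) :
    tor a • v + tor b • v = v + v := by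
  have hs0 : (s : F) ≠ 0 := s.ne_zero
  set v₁ := tor s • v with hv₁
  have hv₁D : v₁ ∈ D := hDtor s v hv
  set w := wl (F := F) • v₁ with hw
  have e1 : lo (s : F) • v = up ((s : F)⁻¹) • w := by
    rw [lo_eq, mul_smul, hDup _ v hv, mul_smul, mul_smul]
  have e2 : lo (-(s : F)) • v = -(up (-(s : F)⁻¹) • w) := by
    have h3 := lo_eq (-s)
    rw [Units.val_neg, inv_neg] at h3
    have h4 : tor (-s) = tor (-1) * tor s := by rw [← tor_mul, neg_one_mul]
    rw [h3, mul_smul, hDup _ v hv, mul_smul, mul_smul, h4, tor_neg_one, mul_smul, hneg, smul_neg,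
      smul_neg]
  set d := lo (s : F) • v + lo (-(s : F)) • v with hd
  have e3 : up (2 * (s : F)⁻¹) • w = w + d := by
    have h3 : up ((s : F)⁻¹) • d = d := hDup _ d hs
    have h4 : up ((s : F)⁻¹) • d = up (2 * (s : F)⁻¹) • w - w := by
      have h5 : ∀ x y : F, up x • up y • w = up (x + y) • w := fun x y => by
        rw [up_add, mul_smul]
      rw [hd, e1, e2, smul_add, smul_neg, h5, h5, add_neg_cancel, up_zero, one_smul, two_mul,
        sub_eq_add_neg]
    rw [← h3, h4]
    abel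
  set r : F := 2 * (s : F)⁻¹ with hr
  have hr0 : r ≠ 0 := mul_ne_zero h2 (inv_ne_zero hs0)
  have e4 : up (-r) • w = w - d := by
    have h3 : up (-r) • (up r • w) = w := by rw [← mul_smul, ← up_add, neg_add_cancel, up_zero, one_smul]
    rw [e3, smul_add, hDup _ d hs] at h3
    rw [eq_sub_iff_add_eq, h3]
  set s' : F := (a - 1) / r with hs'
  have hrs : r * s' = a - 1 := by rw [hs']; field_simp
  have hw' : ∀ x : F, lo x • w = w := fun x => lo_wl_fix hDup x hv₁D
  have e5 : lo s' • (up r • w) = up (r / a) • tor a⁻¹ • w := by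
    rw [← mul_smul, lo_up r s' a (by rw [hrs]; ring), mul_smul, hw', mul_smul]
  have e6 : lo s' • (up (-r) • w) = up (-r / b) • tor b⁻¹ • w := by
    rw [← mul_smul, lo_up (-r) s' b (by linear_combination hab + hrs), mul_smul, hw', mul_smul]
  have e7 : lo s' • (up r • w) + lo s' • (up (-r) • w) = w + w := by
    rw [e3, e4, smul_add, smul_sub, hw']
    abel
  rw [e5, e6] at e7
  have hwa : ∀ c : Fˣ, tor c⁻¹ • w = wl (F := F) • tor c • v₁ := by
    intro c
    rw [hw, ← mul_smul, tor_wl, inv_inv, mul_smul]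
  rw [hwa, hwa] at e7
  have hJ : ∀ c : Fˣ, wl (F := F) • tor c • v₁ ∈ JJ F D := fun c =>
    AddSubgroup.subset_closure ⟨0, tor c • v₁, hDtor c v₁ hv₁D, by rw [up_zero, one_smul]⟩
  have hI : ∀ (x : F) (c : Fˣ), up x • wl (F := F) • tor c • v₁ - wl (F := F) • tor c • v₁ ∈
      II F D := fun x c => AddSubgroup.subset_closure ⟨Multiplicative.ofAdd x, _, hJ c, rfl⟩
  have e8 : wl (F := F) • (v₁ + v₁ - (tor a • v₁ + tor b • v₁)) ∈ II F D := by
    have h3 : wl (F := F) • (v₁ + v₁ - (tor a • v₁ + tor b • v₁)) =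
        (up (r / a) • wl (F := F) • tor a • v₁ - wl (F := F) • tor a • v₁) +
        (up (-r / b) • wl (F := F) • tor b • v₁ - wl (F := F) • tor b • v₁) := by
      rw [smul_sub, smul_add, ← hw, ← e7, smul_add]
      abel
    rw [h3]
    exact add_mem (hI _ _) (hI _ _)
  have e9 := wl_II hp hDtor htr (sub_mem (add_mem hv₁D hv₁D)
    (add_mem (hDtor a v₁ hv₁D) (hDtor b v₁ hv₁D))) e8
  rw [sub_eq_zero] at e9
  have h3 : tor s • (tor a • v + tor b • v) = tor s • (v + v) := by
    rw [smul_add, smul_add, ← hv₁, e9, ← mul_smul, ← mul_smul, tor_comm s a, tor_comm s b, mul_smul,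
      mul_smul]
  exact smul_left_cancel _ h3

end Key

section Arith

variable {F : Type*} [Field F] [Fintype F]

/-- If `|F| ≡ 3 mod 4` every unit is up to sign a square. -/
theorem exists_sq (hF : Fintype.card F % 4 = 3) (c : Fˣ) : ∃ e : Fˣ, c = e ^ 2 ∨ c = -(e ^ 2) := by
  classical
  have h1 : ¬ IsSquare (-1 : F) := fun h => FiniteField.isSquare_neg_one_iff.1 h hF
  have key : ∀ c : Fˣ, IsSquare (c : F) → ∃ e : Fˣ, c = e ^ 2 := by
    rintro c ⟨e, he⟩
    have he0 : e ≠ 0 := by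
      rintro rfl
      rw [mul_zero] at he
      exact c.ne_zero he
    exact ⟨Units.mk0 e he0, Units.ext (by rw [Units.val_pow_eq_pow_val, Units.val_mk0, he, sq])⟩
  by_cases h2 : IsSquare (c : F)
  · obtain ⟨e, he⟩ := key c h2
    exact ⟨e, Or.inl he⟩
  · have h3 : IsSquare ((-c : Fˣ) : F) := by
      have h0 : (-(c : F)) ≠ 0 := neg_ne_zero.2 c.ne_zero
      rw [Units.val_neg, ← quadraticChar_one_iff_isSquare h0, ← neg_one_mul, map_mul,
        quadraticChar_neg_one_iff_not_isSquare.2 h1, quadraticChar_neg_one_iff_not_isSquare.2 h2]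
      norm_num
    obtain ⟨e, he⟩ := key (-c) h3
    exact ⟨e, Or.inr (by rw [← he, neg_neg])⟩

/-- If `|F| ≡ 3 mod 4` every unit is up to sign a fourth power. -/
theorem exists_four (hF : Fintype.card F % 4 = 3) (c : Fˣ) :
    ∃ e : Fˣ, c = (e ^ 2) ^ 2 ∨ c = -((e ^ 2) ^ 2) := by
  obtain ⟨d, hd⟩ := exists_sq hF c
  obtain ⟨e, he⟩ := exists_sq hF d
  refine ⟨e, ?_⟩
  have h1 : d ^ 2 = (e ^ 2) ^ 2 := by
    rcases he with he | he <;> rw [he]
    rw [neg_sq]
  rwa [h1] at hd

theorem card_quartic [DecidableEq F] (a b c : F) :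
    (Finset.univ.filter fun t : F => t ^ 4 + a * t ^ 2 + b * t + c = 0).card ≤ 4 := by
  let f : Polynomial F := Polynomial.X ^ 4 + Polynomial.C a * Polynomial.X ^ 2 +
    Polynomial.C b * Polynomial.X + Polynomial.C c
  have hdeg : f.natDegree ≤ 4 := by
    show (Polynomial.X ^ 4 + Polynomial.C a * Polynomial.X ^ 2 +
      Polynomial.C b * Polynomial.X + Polynomial.C c).natDegree ≤ 4
    compute_degree
  have hcoef : f.coeff 4 = 1 := by
    show (Polynomial.X ^ 4 + Polynomial.C a * Polynomial.X ^ 2 +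
      Polynomial.C b * Polynomial.X + Polynomial.C c).coeff 4 = 1
    compute_degree <;> norm_num
  have hf0 : f ≠ 0 := by
    intro h
    rw [h, Polynomial.coeff_zero] at hcoef
    exact zero_ne_one hcoef
  have h1 : (Finset.univ.filter fun t : F => t ^ 4 + a * t ^ 2 + b * t + c = 0) ⊆
      f.roots.toFinset := by
    intro t ht
    rw [Multiset.mem_toFinset, Polynomial.mem_roots hf0, Polynomial.IsRoot.def]
    have := (Finset.mem_filter.1 ht).2
    show (Polynomial.X ^ 4 + Polynomial.C a * Polynomial.X ^ 2 +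
      Polynomial.C b * Polynomial.X + Polynomial.C c).eval t = 0
    simpa using this
  exact (Finset.card_le_card h1).trans ((Multiset.toFinset_card_le _).trans
    ((Polynomial.card_roots' f).trans hdeg))

theorem card_quadratic [DecidableEq F] (a b : F) :
    (Finset.univ.filter fun t : F => t ^ 2 + a * t + b = 0).card ≤ 2 := by
  let f : Polynomial F := Polynomial.X ^ 2 + Polynomial.C a * Polynomial.X + Polynomial.C b
  have hdeg : f.natDegree ≤ 2 := by
    show (Polynomial.X ^ 2 + Polynomial.C a * Polynomial.X + Polynomial.C b).natDegree ≤ 2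
    compute_degree
  have hcoef : f.coeff 2 = 1 := by
    show (Polynomial.X ^ 2 + Polynomial.C a * Polynomial.X + Polynomial.C b).coeff 2 = 1
    compute_degree <;> norm_num
  have hf0 : f ≠ 0 := by
    intro h
    rw [h, Polynomial.coeff_zero] at hcoef
    exact zero_ne_one hcoef
  have h1 : (Finset.univ.filter fun t : F => t ^ 2 + a * t + b = 0) ⊆ f.roots.toFinset := by
    intro t ht
    rw [Multiset.mem_toFinset, Polynomial.mem_roots hf0, Polynomial.IsRoot.def]
    have := (Finset.mem_filter.1 ht).2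
    show (Polynomial.X ^ 2 + Polynomial.C a * Polynomial.X + Polynomial.C b).eval t = 0
    simpa using this
  exact (Finset.card_le_card h1).trans ((Multiset.toFinset_card_le _).trans
    ((Polynomial.card_roots' f).trans hdeg))

/-- The signed squares. -/
theorem arith_plus (h2 : (2 : F) ≠ 0) (hq : 7 < Fintype.card F)
    (h : ∀ t : F, t ≠ 1 → t ≠ -1 → ∃ e e' : F, (e = 1 ∨ e = -1) ∧ (e' = 1 ∨ e' = -1) ∧
      e * (1 + t) ^ 2 + e' * (1 - t) ^ 2 = 2) : False := by
  classical
  have hsub : (Finset.univ : Finset F) ⊆ {1} ∪ ({-1} ∪ ({0} ∪ ({1 / 2} ∪ ({-1 / 2} ∪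
      Finset.univ.filter fun t : F => t ^ 2 + 0 * t + 2 = 0)))) := by
    intro t _
    simp only [Finset.mem_union, Finset.mem_singleton, Finset.mem_filter, Finset.mem_univ,
      true_and]
    by_cases h1 : t = 1
    · exact Or.inl h1
    by_cases h1' : t = -1
    · exact Or.inr (Or.inl h1')
    obtain ⟨e, e', he, he', h3⟩ := h t h1 h1'
    rcases he with rfl | rfl <;> rcases he' with rfl | rfl
    · have h4 : 2 * (t * t) = 0 := by linear_combination h3
      have h5 := (mul_eq_zero.1 h4).resolve_left h2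
      exact Or.inr (Or.inr (Or.inl (mul_self_eq_zero.1 h5)))
    · have h4 : 2 * (2 * t - 1) = 0 := by linear_combination h3
      have h5 := (mul_eq_zero.1 h4).resolve_left h2
      refine Or.inr (Or.inr (Or.inr (Or.inl ?_)))
      rw [eq_div_iff h2]
      linear_combination h5
    · have h4 : 2 * (2 * t + 1) = 0 := by linear_combination -h3
      have h5 := (mul_eq_zero.1 h4).resolve_left h2
      refine Or.inr (Or.inr (Or.inr (Or.inr (Or.inl ?_))))
      rw [eq_div_iff h2]
      linear_combination h5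
    · have h4 : 2 * (t ^ 2 + 0 * t + 2) = 0 := by linear_combination -h3
      exact Or.inr (Or.inr (Or.inr (Or.inr (Or.inr ((mul_eq_zero.1 h4).resolve_left h2)))))
  have h1 := Finset.card_le_card hsub
  rw [Finset.card_univ] at h1
  have h3 := card_quadratic (F := F) 0 2
  have u1 := Finset.card_union_le ({1} : Finset F) ({-1} ∪ ({0} ∪ ({1 / 2} ∪ ({-1 / 2} ∪
      Finset.univ.filter fun t : F => t ^ 2 + 0 * t + 2 = 0))))
  have u2 := Finset.card_union_le ({-1} : Finset F) ({0} ∪ ({1 / 2} ∪ ({-1 / 2} ∪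
      Finset.univ.filter fun t : F => t ^ 2 + 0 * t + 2 = 0)))
  have u3 := Finset.card_union_le ({0} : Finset F) ({1 / 2} ∪ ({-1 / 2} ∪
      Finset.univ.filter fun t : F => t ^ 2 + 0 * t + 2 = 0))
  have u4 := Finset.card_union_le ({1 / 2} : Finset F) ({-1 / 2} ∪
      Finset.univ.filter fun t : F => t ^ 2 + 0 * t + 2 = 0)
  have u5 := Finset.card_union_le ({-1 / 2} : Finset F)
      (Finset.univ.filter fun t : F => t ^ 2 + 0 * t + 2 = 0)
  simp only [Finset.card_singleton] at u1 u2 u3 u4 u5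
  omega

/-- The signed inverse squares. -/
theorem arith_minus (h2 : (2 : F) ≠ 0) (hF : Fintype.card F % 4 = 3) (hq : 7 < Fintype.card F)
    (h : ∀ t : F, t ≠ 1 → t ≠ -1 → ∃ e e' : F, (e = 1 ∨ e = -1) ∧ (e' = 1 ∨ e' = -1) ∧
      e * ((1 + t) ^ 2)⁻¹ + e' * ((1 - t) ^ 2)⁻¹ = 2) : False := by
  classical
  have h' : ∀ t : F, t ≠ 1 → t ≠ -1 → ∃ e e' : F, (e = 1 ∨ e = -1) ∧ (e' = 1 ∨ e' = -1) ∧
      e * (1 - t) ^ 2 + e' * (1 + t) ^ 2 = 2 * (1 + t) ^ 2 * (1 - t) ^ 2 := by
    intro t h1 h1'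
    obtain ⟨e, e', he, he', h3⟩ := h t h1 h1'
    refine ⟨e, e', he, he', ?_⟩
    have n1 : 1 + t ≠ 0 := fun h4 => h1' (by linear_combination h4)
    have n2 : 1 - t ≠ 0 := fun h4 => h1 (by linear_combination -h4)
    field_simp at h3
    linear_combination h3
  by_cases hq17 : 17 < Fintype.card F
  · have hsub : (Finset.univ : Finset F) ⊆ {1} ∪ ({-1} ∪ ({0} ∪
        ((Finset.univ.filter fun t : F => t ^ 2 + 0 * t + (-3) = 0) ∪
        ((Finset.univ.filter fun t : F => t ^ 4 + (-2) * t ^ 2 + 2 * t + 1 = 0) ∪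
        ((Finset.univ.filter fun t : F => t ^ 4 + (-2) * t ^ 2 + (-2) * t + 1 = 0) ∪
        (Finset.univ.filter fun t : F => t ^ 4 + (-1) * t ^ 2 + 0 * t + 2 = 0)))))) := by
      intro t _
      simp only [Finset.mem_union, Finset.mem_singleton, Finset.mem_filter, Finset.mem_univ,
        true_and]
      by_cases h1 : t = 1
      · exact Or.inl h1
      by_cases h1' : t = -1
      · exact Or.inr (Or.inl h1')
      obtain ⟨e, e', he, he', h3⟩ := h' t h1 h1'
      rcases he with rfl | rfl <;> rcases he' with rfl | rfl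
      · have h4 : 2 * (t * t * (t ^ 2 + 0 * t + (-3))) = 0 := by linear_combination -h3
        have h5 := (mul_eq_zero.1 h4).resolve_left h2
        rcases mul_eq_zero.1 h5 with h6 | h6
        · exact Or.inr (Or.inr (Or.inl (mul_self_eq_zero.1 h6)))
        · exact Or.inr (Or.inr (Or.inr (Or.inl h6)))
      · have h4 : 2 * (t ^ 4 + (-2) * t ^ 2 + 2 * t + 1) = 0 := by linear_combination -h3
        have h5 := (mul_eq_zero.1 h4).resolve_left h2
        exact Or.inr (Or.inr (Or.inr (Or.inr (Or.inl h5))))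
      · have h4 : 2 * (t ^ 4 + (-2) * t ^ 2 + (-2) * t + 1) = 0 := by linear_combination -h3
        have h5 := (mul_eq_zero.1 h4).resolve_left h2
        exact Or.inr (Or.inr (Or.inr (Or.inr (Or.inr (Or.inl h5)))))
      · have h4 : 2 * (t ^ 4 + (-1) * t ^ 2 + 0 * t + 2) = 0 := by linear_combination -h3
        have h5 := (mul_eq_zero.1 h4).resolve_left h2
        exact Or.inr (Or.inr (Or.inr (Or.inr (Or.inr (Or.inr h5)))))
    have h1 := Finset.card_le_card hsub
    rw [Finset.card_univ] at h1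
    have h3 := card_quadratic (F := F) 0 (-3)
    have h4 := card_quartic (F := F) (-2) 2 1
    have h5 := card_quartic (F := F) (-2) (-2) 1
    have h6 := card_quartic (F := F) (-1) 0 2
    have u1 := fun A B : Finset F => Finset.card_union_le A B
    have e1 := u1 {1} ({-1} ∪ ({0} ∪
        ((Finset.univ.filter fun t : F => t ^ 2 + 0 * t + (-3) = 0) ∪
        ((Finset.univ.filter fun t : F => t ^ 4 + (-2) * t ^ 2 + 2 * t + 1 = 0) ∪
        ((Finset.univ.filter fun t : F => t ^ 4 + (-2) * t ^ 2 + (-2) * t + 1 = 0) ∪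
        (Finset.univ.filter fun t : F => t ^ 4 + (-1) * t ^ 2 + 0 * t + 2 = 0))))))
    have e2 := u1 {-1} ({0} ∪
        ((Finset.univ.filter fun t : F => t ^ 2 + 0 * t + (-3) = 0) ∪
        ((Finset.univ.filter fun t : F => t ^ 4 + (-2) * t ^ 2 + 2 * t + 1 = 0) ∪
        ((Finset.univ.filter fun t : F => t ^ 4 + (-2) * t ^ 2 + (-2) * t + 1 = 0) ∪
        (Finset.univ.filter fun t : F => t ^ 4 + (-1) * t ^ 2 + 0 * t + 2 = 0)))))
    have e3 := u1 {0}
        ((Finset.univ.filter fun t : F => t ^ 2 + 0 * t + (-3) = 0) ∪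
        ((Finset.univ.filter fun t : F => t ^ 4 + (-2) * t ^ 2 + 2 * t + 1 = 0) ∪
        ((Finset.univ.filter fun t : F => t ^ 4 + (-2) * t ^ 2 + (-2) * t + 1 = 0) ∪
        (Finset.univ.filter fun t : F => t ^ 4 + (-1) * t ^ 2 + 0 * t + 2 = 0))))
    have e4 := u1 (Finset.univ.filter fun t : F => t ^ 2 + 0 * t + (-3) = 0)
        ((Finset.univ.filter fun t : F => t ^ 4 + (-2) * t ^ 2 + 2 * t + 1 = 0) ∪
        ((Finset.univ.filter fun t : F => t ^ 4 + (-2) * t ^ 2 + (-2) * t + 1 = 0) ∪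
        (Finset.univ.filter fun t : F => t ^ 4 + (-1) * t ^ 2 + 0 * t + 2 = 0)))
    have e5 := u1 (Finset.univ.filter fun t : F => t ^ 4 + (-2) * t ^ 2 + 2 * t + 1 = 0)
        ((Finset.univ.filter fun t : F => t ^ 4 + (-2) * t ^ 2 + (-2) * t + 1 = 0) ∪
        (Finset.univ.filter fun t : F => t ^ 4 + (-1) * t ^ 2 + 0 * t + 2 = 0))
    have e6 := u1 (Finset.univ.filter fun t : F => t ^ 4 + (-2) * t ^ 2 + (-2) * t + 1 = 0)
        (Finset.univ.filter fun t : F => t ^ 4 + (-1) * t ^ 2 + 0 * t + 2 = 0)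
    simp only [Finset.card_singleton] at e1 e2 e3
    omega
  · have hc : Fintype.card F = 11 ∨ Fintype.card F = 15 := by omega
    have hc11 : Fintype.card F = 11 := by
      rcases hc with hc | hc
      · exact hc
      · exfalso
        obtain ⟨p, hp⟩ := CharP.exists F
        obtain ⟨n, hpp, hn⟩ := FiniteField.card F p
        rw [hc] at hn
        have h5 : p ∣ 15 := by
          rw [hn]
          exact dvd_pow_self p n.ne_zero
        have h6 : p = 3 ∨ p = 5 := by
          have h7 : p ∣ 3 * 5 := h5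
          rcases (Nat.Prime.dvd_mul hpp).1 h7 with h8 | h8
          · exact Or.inl ((Nat.prime_dvd_prime_iff_eq hpp Nat.prime_three).1 h8)
          · exact Or.inr ((Nat.prime_dvd_prime_iff_eq hpp Nat.prime_five).1 h8)
        have h8 : (n : ℕ) < 3 := by
          by_contra h9
          push Not at h9
          have h10 : p ^ 3 ≤ p ^ (n : ℕ) := Nat.pow_le_pow_right hpp.pos h9
          rcases h6 with rfl | rfl <;> omega
        have h11 : (n : ℕ) = 1 ∨ (n : ℕ) = 2 := by
          have := n.pos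
          omega
        rcases h6 with rfl | rfl <;> rcases h11 with h11 | h11 <;> rw [h11] at hn <;> omega
    have h11 : (11 : F) = 0 := by
      have := FiniteField.cast_card_eq_zero F
      rw [hc11] at this
      exact_mod_cast this
    have hsmall : ∀ (m k l : ℤ), m * k + 11 * l = 1 → ((m : F) : F) ≠ 0 := by
      intro m k l hmk h0
      have h5 : ((m * k + 11 * l : ℤ) : F) = ((1 : ℤ) : F) := by rw [hmk]
      push_cast at h5
      rw [h0, h11] at h5
      simp at h5
    have t1 : (2 : F) ≠ 1 := by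
      intro h5
      have : (1 : F) = 0 := by linear_combination h5
      exact one_ne_zero this
    have t2 : (2 : F) ≠ -1 := by
      intro h5
      have := hsmall 3 4 (-1) (by norm_num)
      apply this
      push_cast
      linear_combination h5
    obtain ⟨e, e', he, he', h3⟩ := h' 2 t1 t2
    rcases he with rfl | rfl <;> rcases he' with rfl | rfl
    · refine hsmall 8 7 (-5) (by norm_num) ?_
      push_cast
      linear_combination -h3
    · refine hsmall 26 3 (-7) (by norm_num) ?_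
      push_cast
      linear_combination -h3
    · refine hsmall 10 10 (-9) (by norm_num) ?_
      push_cast
      linear_combination -h3
    · refine hsmall 28 2 (-5) (by norm_num) ?_
      push_cast
      linear_combination -h3

end Arith

section Claim

variable {F : Type*} [Field F] [Fintype F] {p : ℕ} [Fact p.Prime] [CharP F p] {M : Type*}
  [AddCommGroup M] [Finite M] [DistribMulAction (SpecialLinearGroup (Fin 2) F) M]

theorem two_ne_zero (hF : Fintype.card F % 4 = 3) : (2 : F) ≠ 0 := by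
  intro h
  have h1 := FiniteField.cast_card_eq_zero F
  have h2 : (Fintype.card F : F) = ((2 * (Fintype.card F / 2) + 1 : ℕ) : F) := by
    congr 1
    omega
  rw [h2] at h1
  push_cast at h1
  rw [h, zero_mul, zero_add] at h1
  exact one_ne_zero h1

theorem claim_aux (hF : Fintype.card F % 4 = 3) (hp : ∀ m : M, p • m = 0)
    (hneg : ∀ m : M, (-1 : SpecialLinearGroup (Fin 2) F) • m = -m) (D : AddSubgroup M)
    (hDup : ∀ r : F, ∀ d ∈ D, up r • d = d) (θ : F ≃+ D) (κ : Fˣ →* Fˣ) (hκ1 : κ (-1) = 1)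
    (hκ2 : ∀ c : Fˣ, ∃ e : Fˣ, c = κ (e ^ 2) ∨ c = - κ (e ^ 2))
    (hθ : ∀ (e : Fˣ) (z : F), tor (e ^ 2) • (θ z : M) = θ ((κ (e ^ 2) : F) * z))
    {v : M} (hv : v ∈ D) (hv0 : v ≠ 0) {s : F} (hs0 : s ≠ 0)
    (hs : lo s • v + lo (-s) • v ∈ D) (a b : Fˣ) (hab : (a : F) + b = 2) :
    ∃ e e' : F, (e = 1 ∨ e = -1) ∧ (e' = 1 ∨ e' = -1) ∧ e * κ a + e' * κ b = 2 := by
  have hneg' : ∀ (a : Fˣ) (m : M), tor (-a) • m = -(tor a • m) := by
    intro a m
    have h4 : tor (-a) = tor (-1) * tor a := by rw [← tor_mul, neg_one_mul]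
    rw [h4, tor_neg_one, mul_smul, hneg]
  have htheta : ∀ a : Fˣ, ∃ e : F, (e = 1 ∨ e = -1) ∧
      ∀ z : F, tor a • (θ z : M) = θ (e * κ a * z) := by
    intro a
    obtain ⟨e, rfl | rfl⟩ := exists_sq hF a
    · exact ⟨1, Or.inl rfl, fun z => by rw [hθ, one_mul]⟩
    · refine ⟨-1, Or.inr rfl, fun z => ?_⟩
      have h1 : κ (-(e ^ 2)) = κ (e ^ 2) := by
        rw [← neg_one_mul (e ^ 2), map_mul, hκ1, one_mul]
      rw [hneg', hθ, h1, mul_assoc, neg_one_mul, map_neg, AddSubgroup.coe_neg]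
  have hD : ∀ d ∈ D, ∃ z : F, (θ z : M) = d := by
    intro d hd
    obtain ⟨z, hz⟩ := θ.surjective ⟨d, hd⟩
    exact ⟨z, congrArg Subtype.val hz⟩
  have hDtor : ∀ a : Fˣ, ∀ d ∈ D, tor a • d ∈ D := by
    intro a d hd
    obtain ⟨z, rfl⟩ := hD d hd
    obtain ⟨e, -, he⟩ := htheta a
    rw [he]
    exact (θ _).2
  have htr : ∀ v ∈ D, v ≠ 0 → ∀ v' ∈ D, v' ≠ 0 → ∃ a : Fˣ, tor a • v = v' := by
    intro v hv hv0 v' hv' hv'0
    obtain ⟨z, rfl⟩ := hD v hv
    obtain ⟨z', rfl⟩ := hD v' hv'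
    have hz : z ≠ 0 := by
      rintro rfl
      exact hv0 (by rw [map_zero]; rfl)
    have hz' : z' ≠ 0 := by
      rintro rfl
      exact hv'0 (by rw [map_zero]; rfl)
    obtain ⟨e, he⟩ := hκ2 (Units.mk0 (z' / z) (div_ne_zero hz' hz))
    have hzz : z' = z' / z * z := by field_simp
    rcases he with he | he
    · refine ⟨e ^ 2, ?_⟩
      have h1 : z' / z = (κ (e ^ 2) : F) := by rw [← he, Units.val_mk0]
      rw [hθ, ← h1, ← hzz]
    · refine ⟨-(e ^ 2), ?_⟩
      have h1 : z' / z = -(κ (e ^ 2) : F) := by rw [← Units.val_neg, ← he, Units.val_mk0]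
      rw [hneg', hθ]
      have h2 : (κ (e ^ 2) : F) * z = -z' := by
        rw [hzz, h1]
        ring
      rw [h2, map_neg, AddSubgroup.coe_neg, neg_neg]
  have h1 := key hp (two_ne_zero hF) hneg D hDup hDtor htr hv (s := Units.mk0 s hs0)
    (by rw [Units.val_mk0]; exact hs) a b hab
  obtain ⟨z, rfl⟩ := hD v hv
  have hz : z ≠ 0 := by
    rintro rfl
    exact hv0 (by rw [map_zero]; rfl)
  obtain ⟨e, he, he1⟩ := htheta a
  obtain ⟨e', he', he1'⟩ := htheta b
  refine ⟨e, e', he, he', ?_⟩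
  rw [he1, he1', ← AddSubgroup.coe_add, ← AddSubgroup.coe_add, ← map_add, ← map_add] at h1
  have h2 := θ.injective (Subtype.ext h1)
  have h3 : (e * κ a + e' * κ b) * z = 2 * z := by linear_combination h2
  exact mul_right_cancel₀ hz h3

/-- The claim, the torus acting on `D` as on the upper unipotent group. -/
theorem claim_plus (hF : Fintype.card F % 4 = 3) (hq : 7 < Fintype.card F)
    (hp : ∀ m : M, p • m = 0)
    (hneg : ∀ m : M, (-1 : SpecialLinearGroup (Fin 2) F) • m = -m) (D : AddSubgroup M)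
    (hDup : ∀ r : F, ∀ d ∈ D, up r • d = d) (θ : F ≃+ D)
    (hθ : ∀ (e : Fˣ) (z : F), tor (e ^ 2) • (θ z : M) = θ ((e : F) ^ 4 * z))
    {v : M} (hv : v ∈ D) (hv0 : v ≠ 0) {s : F} (hs0 : s ≠ 0) :
    lo s • v + lo (-s) • v ∉ D := by
  intro hs
  refine arith_plus (two_ne_zero hF) hq fun t h1 h1' => ?_
  have n1 : 1 + t ≠ 0 := fun h4 => h1' (by linear_combination h4)
  have n2 : 1 - t ≠ 0 := fun h4 => h1 (by linear_combination -h4)
  have h2 := claim_aux (p := p) hF hp hneg D hDup θ (powMonoidHom 2) (by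
      rw [powMonoidHom_apply, neg_one_sq]) (fun c => exists_four hF c) (fun e z => by
      rw [hθ, powMonoidHom_apply]
      congr 3
      rw [← pow_mul, Units.val_pow_eq_pow_val]) hv hv0 hs0 hs (Units.mk0 _ n1) (Units.mk0 _ n2)
      (by rw [Units.val_mk0, Units.val_mk0]; ring)
  obtain ⟨e, e', he, he', h3⟩ := h2
  refine ⟨e, e', he, he', ?_⟩
  rwa [powMonoidHom_apply, powMonoidHom_apply, Units.val_pow_eq_pow_val, Units.val_pow_eq_pow_val,
    Units.val_mk0, Units.val_mk0] at h3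

/-- The claim, the torus acting on `D` as on the lower unipotent group. -/
theorem claim_minus (hF : Fintype.card F % 4 = 3) (hq : 7 < Fintype.card F)
    (hp : ∀ m : M, p • m = 0)
    (hneg : ∀ m : M, (-1 : SpecialLinearGroup (Fin 2) F) • m = -m) (D : AddSubgroup M)
    (hDup : ∀ r : F, ∀ d ∈ D, up r • d = d) (θ : F ≃+ D)
    (hθ : ∀ (e : Fˣ) (z : F), tor (e ^ 2) • (θ z : M) = θ (((e : F) ^ 4)⁻¹ * z))
    {v : M} (hv : v ∈ D) (hv0 : v ≠ 0) {s : F} (hs0 : s ≠ 0) :
    lo s • v + lo (-s) • v ∉ D := by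
  intro hs
  refine arith_minus (two_ne_zero hF) hF hq fun t h1 h1' => ?_
  have n1 : 1 + t ≠ 0 := fun h4 => h1' (by linear_combination h4)
  have n2 : 1 - t ≠ 0 := fun h4 => h1 (by linear_combination -h4)
  let κ : Fˣ →* Fˣ := invMonoidHom.comp (powMonoidHom 2)
  have hκ : ∀ c, κ c = (c ^ 2)⁻¹ := fun c => rfl
  have h2 := claim_aux (p := p) hF hp hneg D hDup θ κ (by
      rw [hκ, neg_one_sq, inv_one]) (fun c => by
        obtain ⟨e, he⟩ := exists_four hF c⁻¹
        refine ⟨e, ?_⟩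
        rw [hκ]
        rcases he with he | he
        · exact Or.inl (by rw [← he, inv_inv])
        · refine Or.inr ?_
          have h5 : (e ^ 2) ^ 2 = -c⁻¹ := by rw [he, neg_neg]
          rw [h5, inv_neg, neg_neg, inv_inv]) (fun e z => by
      rw [hθ, hκ, Units.val_inv_eq_inv_val]
      congr 4
      rw [← pow_mul, Units.val_pow_eq_pow_val]) hv hv0 hs0 hs (Units.mk0 _ n1) (Units.mk0 _ n2)
      (by rw [Units.val_mk0, Units.val_mk0]; ring)
  obtain ⟨e, e', he, he', h3⟩ := h2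
  refine ⟨e, e', he, he', ?_⟩
  rwa [hκ, hκ, Units.val_inv_eq_inv_val, Units.val_inv_eq_inv_val, Units.val_pow_eq_pow_val,
    Units.val_pow_eq_pow_val, Units.val_mk0, Units.val_mk0] at h3

end Claim

end Cfsg.Agent.Classification.QDW.SLModule
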