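import Mathlib
import Cfsg.Agent.Classification.QDW.FrameOf
import Cfsg.Agent.Classification.QDW.FOne
import Cfsg.Agent.Classification.QDW.InstMain
import Cfsg.Agent.Classification.QDW.NumBridgeG
import Cfsg.Agent.Classification.QDW.NumChoice
import Cfsg.Agent.Classification.QDW.NearApp

/-!
# Type D: the end

`core_eq_bot_of_char`: `X` an irreducible character of the principal 2-block of `G` with values
`c + ε St` on the elements having an involution as a power, `X(1) = (q² - 1) + (c + ε q) + n'`,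
`n' < q² - 1`, `n' < q² - q` if `ε = 1`, `0 < X₂(1) < q³`, type D: then `K t = ⊥`.

`core_eq_bot`: type D, and `X₂(1) ≠ q³` if `ε = 1`: then `K t = ⊥`.
-/

set_option autoImplicit false
set_option linter.unusedSectionVars false

namespace Cfsg.Agent.Classification.QDW.TypeDFinal

open Subgroup Cfsg Module
open Cfsg.Agent.Walter.SylowIn Cfsg.Agent.Walter.OddCoreIn Cfsg.Agent.Walter.Cover
open Cfsg.Agent.Characters Cfsg.Agent.Classification.InvCent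
open Cfsg.Agent.Classification.QDW.InstC Cfsg.Agent.Classification.QDW.InstGamma
open Cfsg.Agent.Classification.QDW.InstLB Cfsg.Agent.Classification.QDW.InstG
open Cfsg.Agent.Classification.QDW.RelH Cfsg.Agent.Classification.QDW.Theta
open Cfsg.Agent.Classification.RTwo
open Cfsg.Agent.Classification.BGBlockB0 Cfsg.Agent.Classification.BGOrder

universe u v

variable {G : Type u} [Group G] [Fintype G] [IsSimpleGroup G] {Q : Type v} [Group Q] [Fintype Q]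
  {z : Q} {q : ℕ} {ε : ℤ} {Z T T' U : Subgroup Q} {s s' u₀ : Q} {b : Q →* ℂˣ} {μ : U →* ℂˣ}
  {t : G} {π : C t →* Q} {θ : T' →* ℂˣ} {n : ℕ} {χ : T →* ℂˣ} {M : Ideal AlgInt}
  {X₂ X₃ X₄ X₅ : G → ℂ} {L : ℕ → G → ℂ} {f x : ℤ}

/-- (F1) for the triples, from the induction hypothesis. -/
theorem factor (H : General.Hyp t z π) (hk : ∀ x : C t, π x = 1 ↔ (x : G) ∈ K t)
    (hD : CData z q ε Z T T' U s s' u₀ b)
    (hNm : ∀ N : Subgroup Q, N.Normal → u₀ ∈ N → N = ⊤) (hM : IsPModular 2 M)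
    (hμ : ∃ v : U, μ v ≠ 1) (g : Gen hD.chyp b θ n) (hχ : Chi hD.chyp b χ)
    (IH : FOne.Ind3.{u} hD.chyp μ (Nat.card G))
    (S : SDFull M hD.chyp b θ n χ μ π X₂ X₃ X₄ X₅ L f x)
    (hf0 : 0 < f) (hf : f < (q : ℤ) ^ 3) :
    ∀ (a b : G) (X : Subgroup G), Four a b → b ∈ X → Cov a X → X ≠ ⊤ →
      ∀ x ∈ X, ∃ o ∈ OO X, ∃ n ∈ X ⊓ C a, x = o * n := by
  intro a b X h4 _ hcov hX
  refine FOne.factor_frame H hD.det hM hμ g hχ (fun x hx => (hk x).2 hx) hNm IH S.toSDRes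
    (S.eqΦ 1 ?_) hf0 hf a h4.tt h4.t1 X hcov hX
  intro h1
  have h2 := Nat.le_of_dvd one_pos h1
  have h3 : 1 < 2 ^ (n - 1) := Nat.one_lt_two_pow (by have := g.three_le; omega)
  omega

/-- **Type D, from one character.** -/
theorem core_eq_bot_of_char (hFT : ∀ Y : Subgroup G, ¬ 2 ∣ Nat.card Y → Group.IsSolvable Y)
    (H : General.Hyp t z π) (hk : ∀ x : C t, π x = 1 ↔ (x : G) ∈ K t)
    (hD : CData z q ε Z T T' U s s' u₀ b) (hq : 5 ≤ q) {F : Type*} [Field F] [Fintype F]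
    (hj : ε = 1 → Fintype.card F = q ∧ ∃ j : Matrix.SpecialLinearGroup (Fin 2) F →* Q,
      j (-1) = z ∧ ∀ a, j (Cfsg.Agent.Lib.SL2Hom.up a) ∈ U)
    (hNm : ∀ N : Subgroup Q, N.Normal → u₀ ∈ N → N = ⊤) {p : ℕ} (hp : p.Prime)
    (hpow : ∃ a, q = p ^ a) (hM : IsPModular 2 M) (hμ : ∃ v : U, μ v ≠ 1)
    (g : Gen hD.chyp b θ n) (hχ : Chi hD.chyp b χ) (IH : FOne.Ind3.{u} hD.chyp μ (Nat.card G))
    (S : SDFull M hD.chyp b θ n χ μ π X₂ X₃ X₄ X₅ L f x)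
    (hf0 : 0 < f) (hf : f < (q : ℤ) ^ 3) (hbal : ∀ t u : G, Four t u → K t ⊓ C u ≤ K u)
    {X : G → ℂ} (inX : InB (principalBlock M G) X) (hX : IsIrrCharacter G X) {c : ℤ}
    (hc : c = 0 ∨ c = 1) (hv : ∀ y : C t, z ∈ zpowers (π y) → X y = c + ε * St hD.chyp μ (π y))
    {n' : ℕ} (hd : X 1 = (((q : ℤ) ^ 2 - 1 + (c + ε * q) + n' : ℤ) : ℂ))
    (hlt : (n' : ℤ) < (q : ℤ) ^ 2 - 1) (hlt' : ε = 1 → (n' : ℤ) < (q : ℤ) ^ 2 - q) :
    K t = ⊥ := by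
  classical
  obtain ⟨m, ρ, -, rfl⟩ := (Core.isIrrCharacter_def).1 hX
  have hq2 : ((q ^ 2 - 1 : ℕ) : ℤ) = (q : ℤ) ^ 2 - 1 := by
    rw [Nat.cast_sub (Nat.one_le_pow _ _ (by omega))]
    push_cast
    ring
  have hDV : DVal hD.chyp μ π ρ.character 1 c :=
    ⟨isClassFunction_signed inX.signedIrr, fun y hy => by rw [hv y hy, Int.cast_one, one_mul]⟩
  have hconst := FrameLB.const_of ρ H hk hM inX
  have hdim : (finrank ℂ (Fin m → ℂ) : ℤ) = ((q ^ 2 - 1 : ℕ) : ℤ) + 1 * (c + ε * q) + n' := by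
    rw [Representation.char_one] at hd
    rw [hq2, one_mul]
    exact_mod_cast hd
  have hlt2 : n' < q ^ 2 - 1 := by
    have h1 : (n' : ℤ) < ((q ^ 2 - 1 : ℕ) : ℤ) := by rw [hq2]; exact hlt
    exact_mod_cast h1
  exact FrameOf.core_eq_bot (F := F) H hk hD hq hμ hDV (Or.inl rfl) (fun _ => rfl) hc hconst hbal
    hdim hlt2 hlt' hFT hj (factor H hk hD hNm hM hμ g hχ IH S hf0 hf) hp hpow

/-- `4 ∤ q - ε`. -/
theorem not_four_dvd (hD : CData z q ε Z T T' U s s' u₀ b) : ¬ (4 : ℤ) ∣ q - ε := by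
  intro h1
  obtain ⟨z₀, ⟨k, hk0⟩, h3⟩ := hD.chyp.card_Z
  rw [hD.card_Z, hk0] at h3
  push_cast at h3
  omega

theorem isIrr_of_pos {X : G → ℂ} (hX : SignedIrr X) {d : ℤ} (hd : X 1 = d) (hd0 : 0 < d) :
    IsIrrCharacter G X := by
  rcases hX with h1 | h1
  · exact h1
  · exfalso
    obtain ⟨n, -, hn⟩ := Core.isIrr_apply_one h1
    rw [Pi.neg_apply, hd] at hn
    have h2 : -d = (n : ℤ) := by exact_mod_cast hn
    omega

/-- **Type D implies `K t = ⊥`, unless `f = q³`, `ε = 1`.** -/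
theorem core_eq_bot (hFT : ∀ Y : Subgroup G, ¬ 2 ∣ Nat.card Y → Group.IsSolvable Y)
    (H : General.Hyp t z π) (hk : ∀ x : C t, π x = 1 ↔ (x : G) ∈ K t)
    (hD : CData z q ε Z T T' U s s' u₀ b) (hq : 5 ≤ q) {F : Type*} [Field F] [Fintype F]
    (hF : Fintype.card F = q)
    (hj : ε = 1 → ∃ j : Matrix.SpecialLinearGroup (Fin 2) F →* Q,
      j (-1) = z ∧ ∀ a, j (Cfsg.Agent.Lib.SL2Hom.up a) ∈ U)
    (hL : ε = -1 → ∃ (L₀ : Subgroup Q) (e : L₀ ≃* Matrix.SpecialLinearGroup (Fin 2) F)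
      (hz : z ∈ L₀), L₀.index = 2 ∧ e ⟨z, hz⟩ = -1)
    (hNm : ∀ N : Subgroup Q, N.Normal → u₀ ∈ N → N = ⊤) (hM : IsPModular 2 M)
    (hμ : ∃ v : U, μ v ≠ 1)
    (g : Gen hD.chyp b θ n) (hχ : Chi hD.chyp b χ) (IH : FOne.Ind3.{u} hD.chyp μ (Nat.card G))
    (S : SDFull M hD.chyp b θ n χ μ π X₂ X₃ X₄ X₅ L f x)
    (hbal : ∀ t u : G, Four t u → K t ⊓ C u ≤ K u) (hne : ε = 1 → f ≠ (q : ℤ) ^ 3) :
    K t = ⊥ := by
  classical
  -- the prime
  obtain ⟨p, hchar⟩ := CharP.exists F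
  obtain ⟨a, hp, ha⟩ := FiniteField.card F p
  rw [hF] at ha
  have hpp : IsPrimePow q := ⟨p, a, hp.prime, a.pos, ha.symm⟩
  have hN := NumBridgeG.num H (not_four_dvd hD) S.toSDRes
  have lb₂ := InstMain.lb₂ H hD hq hμ S
  have lb₃ := InstMain.lb₃ H hD hq hμ S
  have hq' : (5 : ℤ) ≤ q := by exact_mod_cast hq
  rcases hD.chyp.eps with hε | hε
  · -- `ε = 1`
    subst hε
    obtain ⟨hf0, hf3, hor⟩ := NumChoice.choice_pos hN lb₂ lb₃ (hne rfl)
    have hj' : (1 : ℤ) = 1 → Fintype.card F = q ∧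
        ∃ j : Matrix.SpecialLinearGroup (Fin 2) F →* Q,
        j (-1) = z ∧ ∀ a, j (Cfsg.Agent.Lib.SL2Hom.up a) ∈ U := fun h => ⟨hF, hj h⟩
    rcases hor with ⟨n', h1, h2⟩ | ⟨n', h1, h2⟩
    · have hd : X₂ 1 = (((q : ℤ) ^ 2 - 1 + (0 + 1 * q) + n' : ℤ) : ℂ) := by
        rw [S.one₂, h1]
      exact core_eq_bot_of_char hFT H hk hD hq hj' hNm hp ⟨a, ha⟩ hM hμ g hχ IH S hf0 hf3 hbal
        S.in₂ (isIrr_of_pos S.in₂.signedIrr S.one₂ hf0) (c := 0) (Or.inl rfl)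
        (InstMain.val₂ hμ S) hd (by nlinarith) (fun _ => h2)
    · have hd : X₃ 1 = (((q : ℤ) ^ 2 - 1 + (1 + 1 * q) + n' : ℤ) : ℂ) := by
        rw [S.one₃, ← h1]
        push_cast
        ring
      exact core_eq_bot_of_char hFT H hk hD hq hj' hNm hp ⟨a, ha⟩ hM hμ g hχ IH S hf0 hf3 hbal
        S.in₃ (isIrr_of_pos S.in₃.signedIrr hd (by nlinarith)) (c := 1) (Or.inr rfl)
        (InstMain.val₃ S) hd (by nlinarith) (fun _ => h2)
  · -- `ε = -1`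
    subst hε
    obtain ⟨L₀, e, hz, hL₀, hez⟩ := hL rfl
    rcases NearApp.near_or H hk hD hq hpp hμ hM S hbal hF hL₀ e hez with
      h1 | ⟨hf0, -, hf3, hx, h5, h6, hor⟩
    · exact h1
    have hj' : (-1 : ℤ) = 1 → Fintype.card F = q ∧
        ∃ j : Matrix.SpecialLinearGroup (Fin 2) F →* Q,
        j (-1) = z ∧ ∀ a, j (Cfsg.Agent.Lib.SL2Hom.up a) ∈ U := fun h => absurd h (by norm_num)
    rcases hor with h7 | h7
    · obtain ⟨n', hn'⟩ := Int.eq_ofNat_of_zero_le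
        (a := f + q - ((q : ℤ) ^ 2 - 1)) (by linarith)
      have hd : X₂ 1 = (((q : ℤ) ^ 2 - 1 + (0 + -1 * q) + n' : ℤ) : ℂ) := by
        rw [S.one₂]
        congr 1
        linarith
      exact core_eq_bot_of_char hFT H hk hD hq hj' hNm hp ⟨a, ha⟩ hM hμ g hχ IH S hf0 hf3 hbal
        S.in₂ (isIrr_of_pos S.in₂.signedIrr S.one₂ hf0) (c := 0) (Or.inl rfl)
        (InstMain.val₂ hμ S) hd (by linarith) (fun h => absurd h (by norm_num))
    · obtain ⟨n', hn'⟩ := Int.eq_ofNat_of_zero_le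
        (a := -x + q - 2 - ((q : ℤ) ^ 2 - 1)) (by linarith)
      have hd0 : X₃ 1 = ((-1 - x : ℤ) : ℂ) := by
        rw [S.one₃]
        push_cast
        ring
      have hd : X₃ 1 = (((q : ℤ) ^ 2 - 1 + (1 + -1 * q) + n' : ℤ) : ℂ) := by
        rw [hd0]
        congr 1
        linarith
      exact core_eq_bot_of_char hFT H hk hD hq hj' hNm hp ⟨a, ha⟩ hM hμ g hχ IH S hf0 hf3 hbal
        S.in₃ (isIrr_of_pos S.in₃.signedIrr hd0 (by linarith)) (c := 1) (Or.inr rfl)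
        (InstMain.val₃ S) hd (by linarith) (fun h => absurd h (by norm_num))

end Cfsg.Agent.Classification.QDW.TypeDFinal
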