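import Mathlib

/-!
# Lines over the projective line (step (b) of case U, `F' ≠ 1`)

`N` acts on an additive group `M` of prime exponent `r` and doubly transitively on a set `Ω`
(the projective line over `F`), `l z ≤ M` is a line (a subgroup of order `r`) for every `z`, and
the whole configuration is equivariant. `N0` fixes all points, and the elements of `Y` fix the
point `inf`, fix `l inf` elementwise and induce the translations of `F`. If
`(w - 1) ^ 2 (1 + u)` annihilates the lines `l y`, `y ≠ 0, ∞`, then all lines are equal.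
-/

namespace Cfsg.Agent.Classification.QDW.ULines

open Finset

section Const

variable {F M ι : Type*} [Field F] [AddCommGroup M] [DecidableEq ι]

/-- A linear functional equation on `F` with values in a group of exponent prime to `|F|` only has
constant solutions. -/
theorem const_of_sum_eq_zero [Finite F] {r : ℕ} (hpr : Nat.Coprime (Nat.card F) r)
    (hr : ∀ m : M, r • m = 0) (α : ι → F) (s : Finset ι) (hα : Set.InjOn α s) :
    ∀ (f : ι → F → M), (∀ y a, ∑ i ∈ s, f i (α i * y + a) = 0) →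
      ∀ i ∈ s, ∀ x x', f i x = f i x' := by
  induction s using Finset.induction_on with
  | empty => intro f _ i hi; simp at hi
  | insert j s hj ih =>
    intro f hf
    have hα' : Set.InjOn α s := hα.mono (by simp)
    have key : ∀ i ∈ s, ∀ x x', f i x = f i x' := by
      intro i hi
      have hij : α i - α j ≠ 0 := by
        intro h
        have h1 : i = j := hα (by simp [hi]) (by simp) (sub_eq_zero.1 h)
        exact hj (h1 ▸ hi)
      have h1 : ∀ h x x', f i (x + (α i - α j) * h) - f i x =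
          f i (x' + (α i - α j) * h) - f i x' := by
        intro h x x'
        refine ih hα' (fun i x => f i (x + (α i - α j) * h) - f i x) ?_ i hi x x'
        intro y a
        have h2 := hf (y + h) (a - α j * h)
        have h3 := hf y a
        rw [Finset.sum_insert hj] at h2 h3
        have h4 : α j * (y + h) + (a - α j * h) = α j * y + a := by ring
        rw [h4] at h2
        rw [Finset.sum_sub_distrib, sub_eq_zero]
        have h5 : ∀ i ∈ s, f i (α i * (y + h) + (a - α j * h)) =
            f i (α i * y + a + (α i - α j) * h) := by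
          intro i _
          congr 1
          ring
        rw [Finset.sum_congr rfl h5] at h2
        exact add_left_cancel (h2.trans h3.symm)
      have h2 : ∀ d x x', f i (x + d) - f i x = f i (x' + d) - f i x' := by
        intro d x x'
        have h3 := h1 (d / (α i - α j)) x x'
        rwa [mul_div_cancel₀ _ hij] at h3
      have h3 : ∀ d x (k : ℕ), f i (x + k • d) = f i x + k • (f i (0 + d) - f i 0) := by
        intro d x k
        induction k with
        | zero => simp
        | succ k ihk =>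
          rw [succ_nsmul, ← add_assoc, succ_nsmul, ← add_assoc, ← ihk, ← h2 d (x + k • d) 0]
          abel
      have h4 : ∀ d, f i (0 + d) - f i 0 = 0 := by
        intro d
        have h5 := h3 d 0 (Nat.card F)
        rw [card_nsmul_eq_zero', add_zero] at h5
        have h6 : Nat.card F • (f i (0 + d) - f i 0) = 0 := by
          have := h5.symm
          rwa [add_eq_left] at this
        have h7 : addOrderOf (f i (0 + d) - f i 0) ∣ 1 := by
          rw [← hpr]
          exact Nat.dvd_gcd (addOrderOf_dvd_iff_nsmul_eq_zero.2 h6)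
            (addOrderOf_dvd_iff_nsmul_eq_zero.2 (hr _))
        simpa using h7
      intro x x'
      have h5 := h4 x
      have h6 := h4 x'
      rw [zero_add, sub_eq_zero] at h5 h6
      rw [h5, h6]
    intro i hi x x'
    rcases Finset.mem_insert.1 hi with rfl | hi
    · have h1 := hf 0 x
      have h2 := hf 0 x'
      rw [Finset.sum_insert hj] at h1 h2
      simp only [mul_zero, zero_add] at h1 h2
      rw [Finset.sum_congr rfl fun k hk => key k hk x x'] at h1
      exact add_right_cancel (h1.trans h2.symm)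
    · exact key i hi x x'

end Const

section Eigen

variable {N M ι : Type*} [AddCommGroup M] [DecidableEq ι]

/-- Joint eigenvectors belonging to different systems of eigenvalues are independent. -/
theorem eq_zero_of_sum_eq_zero {r : ℕ} (hrp : r.Prime) (hr : ∀ m : M, r • m = 0)
    (ρ : N → M →+ M) (κ : ι → N → ℤ) (s : Finset ι)
    (hκ : ∀ i ∈ s, ∀ j ∈ s, i ≠ j → ∃ x, ¬ (r : ℤ) ∣ κ i x - κ j x) :
    ∀ v : ι → M, (∀ i ∈ s, ∀ x, ρ x (v i) = κ i x • v i) → ∑ i ∈ s, v i = 0 →
      ∀ i ∈ s, v i = 0 := by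
  induction s using Finset.induction_on with
  | empty => intro v _ _ i hi; simp at hi
  | insert j s hj ih =>
    intro v hv hsum
    have hκ' : ∀ i ∈ s, ∀ j ∈ s, i ≠ j → ∃ x, ¬ (r : ℤ) ∣ κ i x - κ j x := fun i hi k hk =>
      hκ i (Finset.mem_insert_of_mem hi) k (Finset.mem_insert_of_mem hk)
    have key : ∀ i ∈ s, v i = 0 := by
      intro i hi
      obtain ⟨x, hx⟩ := hκ i (Finset.mem_insert_of_mem hi) j (Finset.mem_insert_self _ _)
        (fun h => hj (h ▸ hi))
      have h1 : (κ i x - κ j x) • v i = 0 := by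
        refine ih hκ' (fun i => (κ i x - κ j x) • v i) ?_ ?_ i hi
        · intro i hi y
          rw [map_zsmul, hv i (Finset.mem_insert_of_mem hi), smul_smul, smul_smul, mul_comm]
        · have h2 := congrArg (ρ x) hsum
          rw [map_zero, map_sum, Finset.sum_congr rfl fun i hi => hv i hi x] at h2
          have h3 := congrArg (fun m => κ j x • m) hsum
          simp only [smul_zero, Finset.smul_sum] at h3
          have h4 : ∑ i ∈ insert j s, (κ i x - κ j x) • v i = 0 := by
            simp only [sub_smul]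
            rw [Finset.sum_sub_distrib, h2, h3, sub_zero]
          rw [Finset.sum_insert hj, sub_self, zero_smul, zero_add] at h4
          exact h4
      have h2 : (r : ℤ) • v i = 0 := by
        rw [natCast_zsmul]
        exact hr _
      have h3 : IsCoprime (r : ℤ) (κ i x - κ j x) := by
        rw [Prime.coprime_iff_not_dvd (Nat.prime_iff_prime_int.1 hrp)]
        exact hx
      obtain ⟨a, b, hab⟩ := h3
      have h4 : (a * (r : ℤ) + b * (κ i x - κ j x)) • v i = 0 := by
        rw [add_smul, mul_smul, mul_smul, h1, h2, smul_zero, smul_zero, add_zero]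
      rwa [hab, one_smul] at h4
    intro i hi
    rcases Finset.mem_insert.1 hi with rfl | hi
    · rw [Finset.sum_insert hj, Finset.sum_congr rfl key, Finset.sum_const_zero, add_zero] at hsum
      exact hsum
    · exact key i hi

end Eigen

/-- The configuration of lines over the projective line. -/
structure Hyp (r : ℕ) {F N M Ω : Type*} [Field F] [Group N] [AddCommGroup M]
    (ρ : N →* AddMonoid.End M) (σ : N →* Equiv.Perm Ω) (inf : Ω) (pt : F → Ω) (N0 Y : Subgroup N)
    (l : Ω → AddSubgroup M) (u w : N) (c : F) : Prop where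
  prime : r.Prime
  coprime : Nat.Coprime (Nat.card F) r
  exponent : ∀ m : M, r • m = 0
  pt_inj : Function.Injective pt
  pt_ne : ∀ x, pt x ≠ inf
  two : ∀ a b a' b' : Ω, a ≠ b → a' ≠ b' → ∃ n, σ n a = a' ∧ σ n b = b'
  l_map : ∀ n z m, m ∈ l z → ρ n m ∈ l (σ n z)
  l_card : ∀ z, Nat.card (l z) = r
  N0_norm : ∀ n x, x ∈ N0 → n * x * n⁻¹ ∈ N0
  N0_fix : ∀ x ∈ N0, ∀ z, σ x z = z
  Y_fix : ∀ y ∈ Y, ∀ m ∈ l inf, ρ y m = m
  Y_trans : ∀ x, ∃ y ∈ Y, σ y (pt 0) = pt x
  Y_pt : ∀ y ∈ Y, ∀ x, σ y (pt 0) = pt x → ∀ a, σ y (pt a) = pt (a + x)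
  Y_N0 : ∀ y ∈ Y, σ y (pt 0) = pt 0 → y ∈ N0
  u_pt : ∀ a, σ u (pt a) = pt (-a)
  w_pt : ∀ a, σ w (pt a) = pt (c * a)
  u_Y : ∀ y ∈ Y, u * y * u⁻¹ ∈ Y
  w_Y : ∀ y ∈ Y, w * y * w⁻¹ ∈ Y
  u_fix : ∀ m ∈ l (pt 0), ρ u m = m
  w_fix : ∀ m ∈ l (pt 0), ρ w m = m
  two_ne : (2 : F) ≠ 0
  c_ne : c ≠ 0
  c_sq : c ^ 2 ≠ 1
  c_four : c ^ 4 ≠ 1
  inf_ne : l (pt 0) ≠ l inf
  rel : ∀ x, x ≠ 0 → ∀ m ∈ l (pt x),
    ρ w (ρ w m) + ρ w (ρ w (ρ u m)) - 2 • (ρ w m + ρ w (ρ u m)) + (m + ρ u m) = 0

variable {r : ℕ} {F N M Ω : Type*} [Field F] [Group N] [AddCommGroup M]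
  {ρ : N →* AddMonoid.End M} {σ : N →* Equiv.Perm Ω} {inf : Ω} {pt : F → Ω} {N0 Y : Subgroup N}
  {l : Ω → AddSubgroup M} {u w : N} {c : F}

namespace Hyp

theorem exists_gen (h : Hyp r ρ σ inf pt N0 Y l u w c) (z : Ω) :
    ∃ m ∈ l z, m ≠ 0 := by
  by_contra hcon
  push Not at hcon
  have h1 : l z = ⊥ := by
    rw [eq_bot_iff]
    intro m hm
    exact (AddSubgroup.mem_bot).2 (hcon m hm)
  have h3 := h.l_card z
  rw [h1, AddSubgroup.card_bot] at h3
  exact h.prime.one_lt.ne h3

theorem exists_smul (h : Hyp r ρ σ inf pt N0 Y l u w c) {z : Ω} {m m' : M} (hm : m ∈ l z)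
    (hm0 : m ≠ 0) (hm' : m' ∈ l z) : ∃ k : ℤ, m' = k • m := by
  have : Finite (l z) := by
    apply Nat.finite_of_card_ne_zero
    rw [h.l_card]
    exact h.prime.pos.ne'
  have h1 : AddSubgroup.zmultiples m = l z := by
    have h2 : AddSubgroup.zmultiples m ≤ l z := by
      rw [AddSubgroup.zmultiples_le]
      exact hm
    apply AddSubgroup.eq_of_le_of_card_ge h2
    rw [h.l_card, Nat.card_zmultiples]
    have h3 : addOrderOf m ∣ r := addOrderOf_dvd_iff_nsmul_eq_zero.2 (h.exponent m)
    rcases (Nat.dvd_prime h.prime).1 h3 with h4 | h4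
    · exact absurd (AddMonoid.addOrderOf_eq_one_iff.1 h4) hm0
    · exact h4.ge
  rw [← h1] at hm'
  obtain ⟨k, hk⟩ := AddSubgroup.mem_zmultiples_iff.1 hm'
  exact ⟨k, hk.symm⟩

theorem ρ_inv (_h : Hyp r ρ σ inf pt N0 Y l u w c) (n : N) (m : M) : ρ n⁻¹ (ρ n m) = m := by
  have h1 : (ρ n⁻¹ * ρ n) m = m := by rw [← map_mul, inv_mul_cancel, map_one]; rfl
  exact h1

theorem mem_iff (h : Hyp r ρ σ inf pt N0 Y l u w c) (n : N) (z : Ω) (m : M) :
    ρ n m ∈ l (σ n z) ↔ m ∈ l z := by
  refine ⟨fun h1 => ?_, h.l_map n z m⟩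
  have h2 := h.l_map n⁻¹ _ _ h1
  rw [h.ρ_inv] at h2
  have h3 : (σ n⁻¹ * σ n) z = z := by rw [← map_mul, inv_mul_cancel, map_one]; rfl
  have h4 : σ n⁻¹ (σ n z) = z := h3
  rwa [h4] at h2

/-- `N0` acts on each line by scalars. -/
theorem exists_scalar (h : Hyp r ρ σ inf pt N0 Y l u w c) (z : Ω) {x : N} (hx : x ∈ N0) :
    ∃ k : ℤ, ∀ m ∈ l z, ρ x m = k • m := by
  obtain ⟨m, hm, hm0⟩ := h.exists_gen z
  have h1 : ρ x m ∈ l z := by
    have h2 := h.l_map x z m hm
    rwa [h.N0_fix x hx] at h2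
  obtain ⟨k, hk⟩ := h.exists_smul hm hm0 h1
  refine ⟨k, fun m' hm' => ?_⟩
  obtain ⟨j, rfl⟩ := h.exists_smul hm hm0 hm'
  rw [map_zsmul, hk, smul_smul, smul_smul, mul_comm]

/-- `N0` acts in the same way on `l z` and on `l z'`. -/
def Same (ρ : N →* AddMonoid.End M) (N0 : Subgroup N) (l : Ω → AddSubgroup M) (z z' : Ω) : Prop :=
  ∀ x ∈ N0, ∀ k : ℤ, (∀ m ∈ l z, ρ x m = k • m) → ∀ m ∈ l z', ρ x m = k • m

theorem same_map (h : Hyp r ρ σ inf pt N0 Y l u w c) (n : N) {z z' : Ω}
    (hs : Same ρ N0 l z z') : Same ρ N0 l (σ n z) (σ n z') := by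
  intro x hx k hk m hm
  have hx' : n⁻¹ * x * n ∈ N0 := by
    have := h.N0_norm n⁻¹ x hx
    rwa [inv_inv] at this
  have h1 : ∀ m, ρ n (ρ (n⁻¹ * x * n) m) = ρ x (ρ n m) := by
    intro m
    have h2 : (ρ n * ρ (n⁻¹ * x * n)) m = (ρ x * ρ n) m := by
      rw [← map_mul, ← map_mul]
      congr 2
      group
    exact h2
  have h2 : ∀ m ∈ l z, ρ (n⁻¹ * x * n) m = k • m := by
    intro m hm
    have h3 := hk _ (h.l_map n z m hm)
    rw [← h1, ← map_zsmul] at h3
    have h4 := congrArg (ρ n⁻¹) h3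
    rwa [h.ρ_inv, h.ρ_inv] at h4
  have h3 := hs _ hx' k h2
  have h4 : m = ρ n (ρ n⁻¹ m) := by
    have := h.ρ_inv n⁻¹ m
    rw [inv_inv] at this
    exact this.symm
  have h5 : ρ n⁻¹ m ∈ l z' := by
    rw [← h.mem_iff n, ← h4]
    exact hm
  rw [h4, ← h1, h3 _ h5, map_zsmul]

/-- The six values. -/
def co (c : F) : Fin 6 → F := ![c ^ 2, -c ^ 2, c, -c, 1, -1]

theorem co_injective (h : Hyp r ρ σ inf pt N0 Y l u w c) : Function.Injective (co c) := by
  have h2 := h.two_ne
  have hc := h.c_ne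
  have hneg : ∀ a : F, a ≠ 0 → a ≠ -a := by
    intro a ha h3
    have h4 : (2 : F) * a = 0 := by linear_combination h3
    rcases mul_eq_zero.1 h4 with h5 | h5
    · exact h2 h5
    · exact ha h5
  have h1 : c ≠ 1 := fun h3 => h.c_sq (by rw [h3, one_pow])
  have h1' : c ≠ -1 := fun h3 => h.c_sq (by rw [h3]; ring)
  have h3 : c ^ 2 ≠ 1 := h.c_sq
  have h4 : c ^ 2 ≠ -1 := fun h5 => h.c_four (by
    have : c ^ 4 = (c ^ 2) ^ 2 := by ring
    rw [this, h5]; ring)
  have h5 : c ^ 2 ≠ c := fun h6 => h1 (by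
    have : c * (c - 1) = 0 := by linear_combination h6
    rcases mul_eq_zero.1 this with h7 | h7
    · exact absurd h7 hc
    · exact sub_eq_zero.1 h7)
  have h6 : c ^ 2 ≠ -c := fun h6 => h1' (by
    have : c * (c + 1) = 0 := by linear_combination h6
    rcases mul_eq_zero.1 this with h7 | h7
    · exact absurd h7 hc
    · exact eq_neg_of_add_eq_zero_left h7)
  have hc2 : c ^ 2 ≠ 0 := pow_ne_zero 2 hc
  have e1 := hneg _ hc2
  have e2 := hneg _ hc
  have e3 := hneg (1 : F) one_ne_zero
  have m1 : -c ^ 2 ≠ c := fun h => h6 (by linear_combination -h)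
  have m2 : -c ^ 2 ≠ -c := fun h => h5 (by linear_combination -h)
  have m3 : -c ^ 2 ≠ 1 := fun h => h4 (by linear_combination -h)
  have m4 : -c ^ 2 ≠ -1 := fun h => h3 (by linear_combination -h)
  have m5 : -c ≠ 1 := fun h => h1' (by linear_combination -h)
  have m6 : -c ≠ -1 := fun h => h1 (by linear_combination -h)
  intro i j hij
  fin_cases i <;> fin_cases j <;>
    first
    | rfl
    | exact absurd hij e1
    | exact absurd hij.symm e1
    | exact absurd hij e2
    | exact absurd hij.symm e2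
    | exact absurd hij e3
    | exact absurd hij.symm e3
    | exact absurd hij h1
    | exact absurd hij.symm h1
    | exact absurd hij h1'
    | exact absurd hij.symm h1'
    | exact absurd hij h3
    | exact absurd hij.symm h3
    | exact absurd hij h4
    | exact absurd hij.symm h4
    | exact absurd hij h5
    | exact absurd hij.symm h5
    | exact absurd hij h6
    | exact absurd hij.symm h6
    | exact absurd hij m1
    | exact absurd hij.symm m1
    | exact absurd hij m2
    | exact absurd hij.symm m2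
    | exact absurd hij m3
    | exact absurd hij.symm m3
    | exact absurd hij m4
    | exact absurd hij.symm m4
    | exact absurd hij m5
    | exact absurd hij.symm m5
    | exact absurd hij m6
    | exact absurd hij.symm m6

theorem addOrderOf_eq (h : Hyp r ρ σ inf pt N0 Y l u w c) {m : M} (hm0 : m ≠ 0) :
    addOrderOf m = r := by
  have h3 : addOrderOf m ∣ r := addOrderOf_dvd_iff_nsmul_eq_zero.2 (h.exponent m)
  rcases (Nat.dvd_prime h.prime).1 h3 with h4 | h4
  · exact absurd (AddMonoid.addOrderOf_eq_one_iff.1 h4) hm0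
  · exact h4

theorem eq_of_mem (h : Hyp r ρ σ inf pt N0 Y l u w c) {z z' : Ω} {m : M} (hm : m ∈ l z)
    (hm' : m ∈ l z') (hm0 : m ≠ 0) : l z = l z' := by
  have key : ∀ z, m ∈ l z → l z = AddSubgroup.zmultiples m := by
    intro z hz
    apply le_antisymm
    · intro x hx
      obtain ⟨k, rfl⟩ := h.exists_smul hz hm0 hx
      exact AddSubgroup.zsmul_mem_zmultiples m k
    · rw [AddSubgroup.zmultiples_le]
      exact hz
  rw [key z hm, key z' hm']

/-- The coefficients. -/
def cf : Fin 6 → ℤ := ![1, 1, -2, -2, 1, 1]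

/-- The configuration does not exist. -/
theorem false [Finite F] (h : Hyp r ρ σ inf pt N0 Y l u w c) : False := by
  classical
  by_cases hall : ∀ z z', Same ρ N0 l z z'
  · obtain ⟨m0, hm0, hm00⟩ := h.exists_gen (pt 0)
    have hY0 : ∀ y ∈ Y, y ∈ N0 → ρ y m0 = m0 := by
      intro y hy hy0
      have h1 : ∀ m ∈ l inf, ρ y m = (1 : ℤ) • m := fun m hm => by
        rw [one_smul]
        exact h.Y_fix y hy m hm
      have h2 := hall inf (pt 0) y hy0 1 h1 m0 hm0
      rwa [one_smul] at h2
    choose nn hnY hn0 using h.Y_trans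
    obtain ⟨f, hfdef⟩ : ∃ f : F → M, ∀ x, f x = ρ (nn x) m0 := ⟨_, fun _ => rfl⟩
    have hmul : ∀ a b m, ρ (a * b) m = ρ a (ρ b m) := by
      intro a b m
      rw [map_mul]
      rfl
    have smul : ∀ a b m, σ (a * b) m = σ a (σ b m) := by
      intro a b m
      rw [map_mul]
      rfl
    have hf : ∀ y ∈ Y, ∀ x, σ y (pt 0) = pt x → ρ y m0 = f x := by
      intro y hy x hx
      have h1 : (nn x)⁻¹ * y ∈ N0 := by
        refine h.Y_N0 _ (Y.mul_mem (Y.inv_mem (hnY x)) hy) ?_
        rw [smul, hx, map_inv, Equiv.Perm.inv_eq_iff_eq, hn0]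
      have h2 := hY0 _ (Y.mul_mem (Y.inv_mem (hnY x)) hy) h1
      have h3 := congrArg (ρ (nn x)) h2
      rw [← hmul, mul_inv_cancel_left] at h3
      rw [h3, hfdef]
    have hadd : ∀ a x, ρ (nn a) (f x) = f (x + a) := by
      intro a x
      rw [hfdef x, ← hmul]
      apply hf _ (Y.mul_mem (hnY a) (hnY x))
      rw [smul, hn0, h.Y_pt _ (hnY a) a (hn0 a)]
    have hu0 : σ u⁻¹ (pt 0) = pt 0 := by
      rw [map_inv, Equiv.Perm.inv_eq_iff_eq, h.u_pt, neg_zero]
    have hw0 : σ w⁻¹ (pt 0) = pt 0 := by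
      rw [map_inv, Equiv.Perm.inv_eq_iff_eq, h.w_pt, mul_zero]
    have hu : ∀ x, ρ u (f x) = f (-x) := by
      intro x
      rw [hfdef x]
      have h1 : ρ u (ρ (nn x) m0) = ρ (u * nn x * u⁻¹) m0 := by
        conv_rhs => rw [← h.u_fix m0 hm0]
        rw [← hmul, ← hmul]
        congr 2
        group
      rw [h1]
      apply hf _ (h.u_Y _ (hnY x))
      rw [smul, hu0, smul, hn0, h.u_pt]
    have hw : ∀ x, ρ w (f x) = f (c * x) := by
      intro x
      rw [hfdef x]
      have h1 : ρ w (ρ (nn x) m0) = ρ (w * nn x * w⁻¹) m0 := by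
        conv_rhs => rw [← h.w_fix m0 hm0]
        rw [← hmul, ← hmul]
        congr 2
        group
      rw [h1]
      apply hf _ (h.w_Y _ (hnY x))
      rw [smul, hw0, smul, hn0, h.w_pt]
    have hfl : ∀ x, f x ∈ l (pt x) := by
      intro x
      rw [hfdef, ← hn0 x]
      exact h.l_map _ _ _ hm0
    have hrel : ∀ x, f (c * (c * x)) + f (c * (c * -x)) - 2 • (f (c * x) + f (c * -x)) +
        (f x + f (-x)) = 0 := by
      intro x
      by_cases hx : x = 0
      · rw [hx]
        simp only [neg_zero, mul_zero]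
        abel
      · have h1 := h.rel x hx (f x) (hfl x)
        rw [hu, hw, hw, hw, hw] at h1
        exact h1
    have hconst := const_of_sum_eq_zero h.coprime h.exponent (co c) Finset.univ
      (h.co_injective.injOn) (fun i x => cf i • f x) (by
        intro y a
        have h1 := congrArg (ρ (nn a)) (hrel y)
        rw [map_zero, map_add, map_sub, map_nsmul, map_add, map_add, map_add, hadd, hadd, hadd,
          hadd, hadd, hadd] at h1
        rw [Fin.sum_univ_six]
        show (1 : ℤ) • f (c ^ 2 * y + a) + (1 : ℤ) • f (-c ^ 2 * y + a) +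
          (-2 : ℤ) • f (c * y + a) + (-2 : ℤ) • f (-c * y + a) + (1 : ℤ) • f (1 * y + a) +
          (1 : ℤ) • f (-1 * y + a) = 0
        rw [show c ^ 2 * y + a = c * (c * y) + a by ring,
          show -c ^ 2 * y + a = c * (c * -y) + a by ring,
          show -c * y + a = c * -y + a by ring, one_mul, neg_one_mul, ← h1]
        abel)
    have h1 := hconst 4 (Finset.mem_univ _) 1 0
    have h2 : f 1 = f 0 := by
      have h3 : (1 : ℤ) • f 1 = (1 : ℤ) • f 0 := h1
      rwa [one_smul, one_smul] at h3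
    have h3 : f 0 = m0 := by
      rw [hfdef]
      exact hY0 _ (hnY 0) (h.Y_N0 _ (hnY 0) (hn0 0))
    have h4 : l (pt 1) = l (pt 0) := by
      apply h.eq_of_mem (hfl 1) _ (by rw [h2, h3]; exact hm00)
      rw [h2]
      exact hfl 0
    obtain ⟨n, hn, hn'⟩ := h.two (pt 0) (pt 1) (pt 0) inf
      (fun h5 => zero_ne_one (h.pt_inj h5)) (h.pt_ne 0)
    apply h.inf_ne
    have h5 : ρ n m0 ∈ l (pt 0) := by
      have := h.l_map n (pt 0) m0 hm0
      rwa [hn] at this
    have h6 : ρ n m0 ∈ l inf := by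
      have := h.l_map n (pt 1) m0 (by rw [h4]; exact hm0)
      rwa [hn'] at this
    apply h.eq_of_mem h5 h6
    intro h7
    apply hm00
    have := h.ρ_inv n m0
    rw [h7, map_zero] at this
    exact this.symm
  · push Not at hall
    obtain ⟨z, z', hzz⟩ := hall
    have hzz' : z ≠ z' := by
      rintro rfl
      exact hzz fun x _ k hk => hk
    have hne : ∀ a b, a ≠ b → ¬ Same ρ N0 l a b := by
      intro a b hab hs
      obtain ⟨n, hn, hn'⟩ := h.two a b z z' hab hzz'
      have h1 := h.same_map n hs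
      rw [hn, hn'] at h1
      exact hzz h1
    have hκ : ∀ z (x : N0), ∃ k : ℤ, ∀ m ∈ l z, ρ x m = k • m :=
      fun z x => h.exists_scalar z x.2
    choose κ hκ using hκ
    have hdiff : ∀ a b, a ≠ b → ∃ x : N0, ¬ (r : ℤ) ∣ κ a x - κ b x := by
      intro a b hab
      by_contra hcon
      push Not at hcon
      apply hne a b hab
      intro x hx k hk m hm
      obtain ⟨ma, hma, hma0⟩ := h.exists_gen a
      have h1 : k • ma = κ a ⟨x, hx⟩ • ma := (hk ma hma).symm.trans (hκ a ⟨x, hx⟩ ma hma)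
      have h2 : (r : ℤ) ∣ k - κ a ⟨x, hx⟩ := by
        rw [← h.addOrderOf_eq hma0, addOrderOf_dvd_iff_zsmul_eq_zero, sub_smul, h1, sub_self]
      have h4 : (r : ℤ) ∣ k - κ b ⟨x, hx⟩ := by
        have := dvd_add h2 (hcon ⟨x, hx⟩)
        rwa [sub_add_sub_cancel] at this
      have h5 : (k - κ b ⟨x, hx⟩) • m = 0 := by
        obtain ⟨j, hj⟩ := h4
        rw [hj, mul_comm, mul_smul, natCast_zsmul, h.exponent, smul_zero]
      rw [hκ b ⟨x, hx⟩ m hm]
      rw [sub_smul, sub_eq_zero] at h5
      exact h5.symm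
    obtain ⟨m, hm, hm0⟩ := h.exists_gen (pt 1)
    have hum : ρ u m ∈ l (pt (-1)) := by
      have := h.l_map u _ m hm
      rwa [h.u_pt] at this
    have hwl : ∀ {x m}, m ∈ l (pt x) → ρ w m ∈ l (pt (c * x)) := by
      intro x m hm
      have := h.l_map w _ m hm
      rwa [h.w_pt] at this
    have h1 := eq_zero_of_sum_eq_zero h.prime h.exponent (fun (x : N0) => (ρ x : M →+ M))
      (fun (i : Fin 6) x => κ (pt (co c i)) x) Finset.univ
      (fun i _ j _ hij => hdiff _ _ fun h2 => hij (h.co_injective (h.pt_inj h2)))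
      ![ρ w (ρ w m), ρ w (ρ w (ρ u m)), -(2 • ρ w m), -(2 • ρ w (ρ u m)), m, ρ u m] (by
        intro i _ x
        apply hκ
        have e0 : ρ w (ρ w m) ∈ l (pt (c ^ 2)) := by
          have := hwl (hwl hm)
          rwa [mul_one, ← pow_two] at this
        have e1 : ρ w (ρ w (ρ u m)) ∈ l (pt (-c ^ 2)) := by
          have := hwl (hwl hum)
          rwa [show c * (c * -1) = -c ^ 2 by ring] at this
        have e2 : ρ w m ∈ l (pt c) := by
          have := hwl hm
          rwa [mul_one] at this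
        have e3 : ρ w (ρ u m) ∈ l (pt (-c)) := by
          have := hwl hum
          rwa [show c * -1 = -c by ring] at this
        fin_cases i
        · exact e0
        · exact e1
        · exact neg_mem (nsmul_mem e2 2)
        · exact neg_mem (nsmul_mem e3 2)
        · exact hm
        · exact hum) (by
        rw [Fin.sum_univ_six]
        show ρ w (ρ w m) + ρ w (ρ w (ρ u m)) + -(2 • ρ w m) + -(2 • ρ w (ρ u m)) + m + ρ u m = 0
        rw [← h.rel 1 one_ne_zero m hm]
        abel) 4 (Finset.mem_univ _)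
    exact hm0 h1

end Hyp

end Cfsg.Agent.Classification.QDW.ULines
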