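import Mathlib
import Cfsg.Agent.Classification.InvCent.WrChiVal
import Cfsg.Agent.Classification.QDW.WrInst
import Cfsg.Agent.Classification.QDW.WrCore

/-!
# The wreathed case: the fields of `CoreHyp`, `PosCore` coming from the group `G`

`G` has one class of involutions, `π : C(t) → C` is onto with odd kernel, `C` of type
`GL₂(q)/Z₀` or `GU₂(q)/Z₀`, `4 ∣ r`, `Z` a 2-group.

* `ZG`: the preimage of `Z` in `G`; `HP y v`: `y` lies in the corresponding subgroup of `C(v)`;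
* `exists_n`: an element interchanging `t` and `u'`;
* `exists_coreHyp`: `CoreHyp` and the fields `W_K1`, `chi_W`, `swap`, `swap'` of `PosCore`.
-/

set_option autoImplicit false
set_option linter.unusedSectionVars false

namespace Cfsg.Agent.Classification.QDW.WrChiG

open Cfsg Cfsg.Agent.Classification.InvCent Cfsg.Agent.Classification.QDW.WrDefs
  Cfsg.Agent.Classification.QDW.WrInst Cfsg.Agent.Classification.RTwo.General
  Cfsg.Agent.Characters Cfsg.Agent.Classification.BGBlockB0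

universe v w

section Base

variable {G : Type v} [Group G] {C : Type w} [Group C] {t : G}
  {π : (Subgroup.centralizer ({t} : Set G)) →* C} {Z : Subgroup C}

/-- The preimage of `Z` in `G`. -/
def ZG (π : (Subgroup.centralizer ({t} : Set G)) →* C) (Z : Subgroup C) : Subgroup G :=
  (Z.comap π).map (Subgroup.centralizer ({t} : Set G)).subtype

theorem mem_ZG {g : G} : g ∈ ZG π Z ↔
    ∃ h : g ∈ Subgroup.centralizer ({t} : Set G), π ⟨g, h⟩ ∈ Z := by
  constructor
  · rintro ⟨x, hx, rfl⟩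
    exact ⟨x.2, hx⟩
  · rintro ⟨h, h1⟩
    exact ⟨⟨g, h⟩, h1, rfl⟩

theorem mem_ZG_coe {g : Subgroup.centralizer ({t} : Set G)} :
    (g : G) ∈ ZG π Z ↔ π g ∈ Z := by
  rw [mem_ZG]
  exact ⟨fun ⟨_, h⟩ => h, fun h => ⟨g.2, h⟩⟩

theorem ZG_conj (hZ : ∀ z ∈ Z, ∀ c : C, c * z = z * c) {g x : G} (hg : g * t * g⁻¹ = t)
    (hx : x ∈ ZG π Z) : g⁻¹ * x * g ∈ ZG π Z := by
  obtain ⟨h1, h2⟩ := mem_ZG.1 hx
  have hgt : g ∈ Subgroup.centralizer ({t} : Set G) := by
    rw [Subgroup.mem_centralizer_singleton_iff]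
    exact mul_inv_eq_iff_eq_mul.1 hg
  refine mem_ZG.2 ⟨mul_mem (mul_mem (inv_mem hgt) h1) hgt, ?_⟩
  have h3 : (⟨g⁻¹ * x * g, mul_mem (mul_mem (inv_mem hgt) h1) hgt⟩ :
      Subgroup.centralizer ({t} : Set G)) = (⟨g, hgt⟩)⁻¹ * ⟨x, h1⟩ * ⟨g, hgt⟩ := rfl
  rw [h3, map_mul, map_mul, map_inv, mul_assoc, ← hZ _ h2 (π ⟨g, hgt⟩), inv_mul_cancel_left]
  exact h2

/-- `y` lies in the preimage of `Z_v` in `C(v)`. -/
def HP (π : (Subgroup.centralizer ({t} : Set G)) →* C) (Z : Subgroup C) (y v : G) : Prop :=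
  ∃ n : G, n * t * n⁻¹ = v ∧ n⁻¹ * y * n ∈ ZG π Z

theorem HP_iff (hZ : ∀ z ∈ Z, ∀ c : C, c * z = z * c) {y v n : G} (hn : n * t * n⁻¹ = v) :
    HP π Z y v ↔ n⁻¹ * y * n ∈ ZG π Z := by
  constructor
  · rintro ⟨m, hm, h1⟩
    have h2 : m⁻¹ * n * t * (m⁻¹ * n)⁻¹ = t := by
      calc m⁻¹ * n * t * (m⁻¹ * n)⁻¹ = m⁻¹ * (n * t * n⁻¹) * m := by group
        _ = m⁻¹ * (m * t * m⁻¹) * m := by rw [hn, hm]
        _ = t := by group
    have h3 := ZG_conj hZ h2 h1
    have h4 : (m⁻¹ * n)⁻¹ * (m⁻¹ * y * m) * (m⁻¹ * n) = n⁻¹ * y * n := by group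
    rwa [h4] at h3
  · intro h1
    exact ⟨n, hn, h1⟩

theorem HP_t (hZ : ∀ z ∈ Z, ∀ c : C, c * z = z * c) {y : G} : HP π Z y t ↔ y ∈ ZG π Z := by
  rw [HP_iff hZ (n := 1) (by group)]
  simp

theorem HP_conj (g y v : G) : HP π Z (g⁻¹ * y * g) v ↔ HP π Z y (g * v * g⁻¹) := by
  constructor
  · rintro ⟨n, hn, h1⟩
    refine ⟨g * n, by rw [← hn]; group, ?_⟩
    have h2 : (g * n)⁻¹ * y * (g * n) = n⁻¹ * (g⁻¹ * y * g) * n := by group
    rwa [h2]
  · rintro ⟨n, hn, h1⟩
    refine ⟨g⁻¹ * n, ?_, ?_⟩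
    · have h2 : g⁻¹ * n * t * (g⁻¹ * n)⁻¹ = g⁻¹ * (n * t * n⁻¹) * g := by group
      rw [h2, hn]; group
    · have h2 : (g⁻¹ * n)⁻¹ * (g⁻¹ * y * g) * (g⁻¹ * n) = n⁻¹ * y * n := by group
      rwa [h2]

theorem HP_self {v n : G} (hn : n * t * n⁻¹ = v) (ht : t ∈ ZG π Z) : HP π Z v v := by
  refine ⟨n, hn, ?_⟩
  have h2 : n⁻¹ * v * n = t := by rw [← hn]; group
  rwa [h2]

theorem HP_pow {x v : G} (j : ℕ) (hx : HP π Z x v) : HP π Z (x ^ j) v := by
  obtain ⟨m, hm, h3⟩ := hx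
  refine ⟨m, hm, ?_⟩
  have h5 : m⁻¹ * x ^ j * m = (m⁻¹ * x * m) ^ j := by
    have := conj_pow (i := j) (a := m⁻¹) (b := x)
    rw [inv_inv] at this
    exact this.symm
  rw [h5]
  exact pow_mem h3 j

/-- `n` interchanges `t` and `v`. -/
structure Swap (t v n : G) : Prop where
  t_v : n * t * n⁻¹ = v
  v_t : n * v * n⁻¹ = t

theorem Swap.inv {v n : G} (h : Swap t v n) : Swap t v n⁻¹ := by
  constructor
  · rw [← h.v_t]; group
  · rw [← h.t_v]; group

theorem Swap.comm_t {v n y : G} (h : Swap t v n) (hy : y * v = v * y) :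
    n⁻¹ * y * n * t = t * (n⁻¹ * y * n) := by
  have h1 : t = n⁻¹ * v * n := by rw [← h.t_v]; group
  calc n⁻¹ * y * n * t = n⁻¹ * (y * v) * n := by rw [h1]; group
    _ = n⁻¹ * (v * y) * n := by rw [hy]
    _ = t * (n⁻¹ * y * n) := by rw [h1]; group

theorem Swap.comm_v {v n y : G} (h : Swap t v n) (hy : y * t = t * y) :
    n⁻¹ * y * n * v = v * (n⁻¹ * y * n) := by
  have h1 : v = n⁻¹ * t * n := by rw [← h.v_t]; group
  calc n⁻¹ * y * n * v = n⁻¹ * (y * t) * n := by rw [h1]; group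
    _ = n⁻¹ * (t * y) * n := by rw [hy]
    _ = v * (n⁻¹ * y * n) := by rw [h1]; group

end Base

section Main

variable {G : Type v} [Group G] [Finite G] {C : Type w} [Group C] [Finite C] {t : G} {z : C}
  {π : (Subgroup.centralizer ({t} : Set G)) →* C} {q : ℕ} {ε : ℤ} {Z T T' U : Subgroup C}
  {s s' u : C} {r : ℕ} {b : C →* ℂˣ} {u' w : Subgroup.centralizer ({t} : Set G)}

theorem over_of (h : Hyp t z π) : Over π (tt t) z where
  surj := h.surj
  odd := h.odd_ker
  central g := (tt_comm g).symm.eq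
  sq := tt_mul_tt h
  map := map_tt h

theorem t_mem_ZG (h : Hyp t z π) (hC : CHyp z q ε Z T T' U s s' u) : t ∈ ZG π Z := by
  have h1 : ((tt t : Subgroup.centralizer ({t} : Set G)) : G) ∈ ZG π Z :=
    mem_ZG_coe.2 (by rw [map_tt h]; exact hC.t_mem)
  exact h1

/-- The only involution of the preimage of `Z` is `t`. -/
theorem invol_ZG (h : Hyp t z π) (hC : CHyp z q ε Z T T' U s s' u) {x : G} (hx : x ∈ ZG π Z)
    (hxx : x * x = 1) : x = 1 ∨ x = t := by
  have : Fintype C := Fintype.ofFinite C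
  obtain ⟨h1, h2⟩ := mem_ZG.1 hx
  have h3 : (⟨x, h1⟩ : Subgroup.centralizer ({t} : Set G)) * ⟨x, h1⟩ = 1 := Subtype.ext hxx
  have h4 : π ⟨x, h1⟩ * π ⟨x, h1⟩ = 1 := by rw [← map_mul, h3, map_one]
  rcases hC.invol_Z h2 h4 with h5 | h5
  · left
    exact congrArg Subtype.val (eq_one_of_sq h.odd_ker h5 h3)
  · right
    have h6 : (⟨x, h1⟩ : Subgroup.centralizer ({t} : Set G)) * tt t = 1 := by
      refine eq_one_of_sq h.odd_ker (π := π) ?_ ?_
      · rw [map_mul, h5, map_tt h, z_mul_z h]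
      · have hc := tt_comm (⟨x, h1⟩ : Subgroup.centralizer ({t} : Set G))
        calc (⟨x, h1⟩ : Subgroup.centralizer ({t} : Set G)) * tt t * (⟨x, h1⟩ * tt t) =
            ⟨x, h1⟩ * (tt t * ⟨x, h1⟩) * tt t := by group
          _ = (⟨x, h1⟩ * ⟨x, h1⟩) * (tt t * tt t) := by rw [hc.eq]; group
          _ = 1 := by rw [h3, tt_mul_tt h, one_mul]
    have h7 : x * t = 1 := congrArg Subtype.val h6
    have h8 : t⁻¹ = t := inv_eq_of_mul_eq_one_left (t_mul_t h)
    rw [← h8]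
    exact eq_inv_of_mul_eq_one_left h7

theorem invol_HP (h : Hyp t z π) (hC : CHyp z q ε Z T T' U s s' u) {x v : G}
    (hx : HP π Z x v) (hxx : x * x = 1) : x = 1 ∨ x = v := by
  obtain ⟨n, hn, h1⟩ := hx
  have h2 : n⁻¹ * x * n * (n⁻¹ * x * n) = 1 := by
    have h3 : n⁻¹ * x * n * (n⁻¹ * x * n) = n⁻¹ * (x * x) * n := by group
    rw [h3, hxx]; group
  rcases invol_ZG h hC h1 h2 with h3 | h3
  · left
    have h4 : x = n * (n⁻¹ * x * n) * n⁻¹ := by group
    rw [h4, h3]; group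
  · right
    have h4 : x = n * (n⁻¹ * x * n) * n⁻¹ := by group
    rw [h4, h3, hn]

/-- An element interchanging `t` and `u'`. -/
theorem exists_n (h : Hyp t z π) (hC : CHyp z q ε Z T T' U s s' u)
    (hp : Pair π (tt t) s u u' w) : ∃ n : G, Swap t (u' : G) n := by
  have : Fintype C := Fintype.ofFinite C
  have hu2 : (u' : G) * u' = 1 := congrArg Subtype.val hp.sq
  have hu1 : (u' : G) ≠ 1 := by
    intro h1
    have h2 : u' = 1 := Subtype.ext h1
    have h3 := hp.map_u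
    rw [h2, map_one] at h3
    exact u_notMem hC (by rw [← h3]; exact one_mem Z)
  obtain ⟨c, hc⟩ := isConj_iff.1 (h.one_class u' (orderOf_eq_prime (by rw [sq]; exact hu2) hu1))
  have hutc : (u' : G) * t = t * u' := Subgroup.mem_centralizer_singleton_iff.1 u'.2
  have hx : c⁻¹ * t * c ∈ Subgroup.centralizer ({t} : Set G) := by
    rw [Subgroup.mem_centralizer_singleton_iff]
    have h1 : t = c⁻¹ * u' * c := by rw [← hc]; group
    calc c⁻¹ * t * c * t = c⁻¹ * t * c * (c⁻¹ * u' * c) := by rw [← h1]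
      _ = c⁻¹ * (t * u') * c := by group
      _ = c⁻¹ * (u' * t) * c := by rw [hutc]
      _ = (c⁻¹ * u' * c) * (c⁻¹ * t * c) := by group
      _ = t * (c⁻¹ * t * c) := by rw [← h1]
  set x : Subgroup.centralizer ({t} : Set G) := ⟨c⁻¹ * t * c, hx⟩ with hxd
  have htt := t_mul_t h
  have hxx : x * x = 1 := Subtype.ext (by
    change c⁻¹ * t * c * (c⁻¹ * t * c) = 1
    have h1 : c⁻¹ * t * c * (c⁻¹ * t * c) = c⁻¹ * (t * t) * c := by group
    rw [h1, htt]; group)
  have hx1 : x ≠ 1 := by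
    intro h1
    have h2 : c⁻¹ * t * c = 1 := congrArg Subtype.val h1
    apply t_ne_one h
    have h3 : t = c * (c⁻¹ * t * c) * c⁻¹ := by group
    rw [h3, h2]; group
  have hxt : x ≠ tt t := by
    intro h1
    have h2 : c⁻¹ * t * c = t := congrArg Subtype.val h1
    have h3 : (u' : G) = t := by
      rw [← hc]
      have h4 : c * t * c⁻¹ = c * (c⁻¹ * t * c) * c⁻¹ := by rw [h2]
      rw [h4]; group
    have h4 : u' = tt t := Subtype.ext h3
    have h5 := hp.map_u
    rw [h4, map_tt h] at h5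
    exact hC.u_ne h5.symm
  have hnI : π x ∈ nInv z := by
    rw [mem_nInv]
    constructor
    · refine orderOf_eq_prime (by rw [sq, ← map_mul, hxx, map_one]) fun h1 => hx1 ?_
      exact eq_one_of_sq h.odd_ker h1 hxx
    · intro h1
      apply hxt
      have h6 : x * tt t = 1 := by
        refine eq_one_of_sq h.odd_ker (π := π) ?_ ?_
        · rw [map_mul, h1, map_tt h, z_mul_z h]
        · have hc := tt_comm x
          calc x * tt t * (x * tt t) = x * (tt t * x) * tt t := by group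
            _ = (x * x) * (tt t * tt t) := by rw [hc.eq]; group
            _ = 1 := by rw [hxx, tt_mul_tt h, one_mul]
      have h8 : (tt t)⁻¹ = tt t := inv_eq_of_mul_eq_one_left (tt_mul_tt h)
      rw [← h8]
      exact eq_inv_of_mul_eq_one_left h6
  obtain ⟨g, hg⟩ := hC.nInv_isConj hnI
  obtain ⟨d, rfl⟩ := h.surj g
  have h1 : π (d * x * d⁻¹) = π u' := by
    rw [map_mul, map_mul, map_inv, ← hg, hp.map_u]; group
  have h2 : d * x * d⁻¹ * (d * x * d⁻¹) = 1 := by
    have h3 : d * x * d⁻¹ * (d * x * d⁻¹) = d * (x * x) * d⁻¹ := by group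
    rw [h3, hxx]; group
  obtain ⟨k, -, hk⟩ := exists_conj h.odd_ker h2 hp.sq h1
  set e : Subgroup.centralizer ({t} : Set G) := k * d with he
  have hex : e * x * e⁻¹ = u' := by rw [he, ← hk]; group
  have hex' : (e : G) * (c⁻¹ * t * c) * (e : G)⁻¹ = u' := congrArg Subtype.val hex
  have hext : (e : G)⁻¹ * t * e = t := by
    have h3 : (e : G) * t = t * e := Subgroup.mem_centralizer_singleton_iff.1 e.2
    rw [mul_assoc, ← h3, inv_mul_cancel_left]
  refine ⟨c * (e : G)⁻¹, ?_, ?_⟩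
  · have h3 : c * (e : G)⁻¹ * t * (c * (e : G)⁻¹)⁻¹ = c * ((e : G)⁻¹ * t * e) * c⁻¹ := by group
    rw [h3, hext, hc]
  · rw [← hex']; group

/-- The element interchanging `t` and `t u'`. -/
theorem swap_tu (h : Hyp t z π) (hp : Pair π (tt t) s u u' w) {n : G} (hn : Swap t (u' : G) n) :
    Swap t (t * u') ((w : G) * n * (w : G)⁻¹) ∧ ((w : G) * n * (w : G)⁻¹) * u' *
      ((w : G) * n * (w : G)⁻¹)⁻¹ = u' := by
  have hw : (w : G) * u' * (w : G)⁻¹ = t * u' := congrArg Subtype.val hp.conj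
  have hwt : (w : G) * t = t * w := Subgroup.mem_centralizer_singleton_iff.1 w.2
  have hwt' : (w : G)⁻¹ * t * w = t := by rw [mul_assoc, ← hwt, inv_mul_cancel_left]
  have htt := t_mul_t h
  have hw' : (w : G)⁻¹ * u' * w = t * u' := by
    have h1 : (u' : G) = t * (w * u' * (w : G)⁻¹) := by rw [hw, ← mul_assoc, htt, one_mul]
    calc (w : G)⁻¹ * u' * w = (w : G)⁻¹ * (t * (w * u' * (w : G)⁻¹)) * w := by rw [← h1]
      _ = ((w : G)⁻¹ * t * w) * u' := by group
      _ = t * u' := by rw [hwt']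
  have hw2 : (w : G)⁻¹ * (t * u') * w = u' := by
    rw [← hw]; group
  have hntu : n * (t * u') * n⁻¹ = t * u' := by
    have h1 : n * (t * u') * n⁻¹ = (n * t * n⁻¹) * (n * u' * n⁻¹) := by group
    rw [h1, hn.t_v, hn.v_t]
    exact Subgroup.mem_centralizer_singleton_iff.1 u'.2
  have hwtt : (w : G) * t * (w : G)⁻¹ = t := by rw [hwt]; group
  refine ⟨⟨?_, ?_⟩, ?_⟩
  · calc (w : G) * n * (w : G)⁻¹ * t * ((w : G) * n * (w : G)⁻¹)⁻¹ =
        w * (n * ((w : G)⁻¹ * t * w) * n⁻¹) * (w : G)⁻¹ := by group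
      _ = t * u' := by rw [hwt', hn.t_v, hw]
  · calc (w : G) * n * (w : G)⁻¹ * (t * u') * ((w : G) * n * (w : G)⁻¹)⁻¹ =
        w * (n * ((w : G)⁻¹ * (t * u') * w) * n⁻¹) * (w : G)⁻¹ := by group
      _ = t := by rw [hw2, hn.v_t, hwtt]
  · calc (w : G) * n * (w : G)⁻¹ * u' * ((w : G) * n * (w : G)⁻¹)⁻¹ =
        w * (n * ((w : G)⁻¹ * u' * w) * n⁻¹) * (w : G)⁻¹ := by group
      _ = w * (t * u') * (w : G)⁻¹ := by rw [hw', hntu]
      _ = (w * t * (w : G)⁻¹) * (w * u' * (w : G)⁻¹) := by group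
      _ = u' := by rw [hwtt, hw, ← mul_assoc, htt, one_mul]

/-- The subgroup `H_v` of `C(t)`: the elements of `M` lying in the preimage of `Z_v`. -/
def Hn (π : (Subgroup.centralizer ({t} : Set G)) →* C) (Z : Subgroup C)
    (M : Subgroup (Subgroup.centralizer ({t} : Set G))) (n : G) :
    Subgroup (Subgroup.centralizer ({t} : Set G)) :=
  M ⊓ (ZG π Z).comap ((MulAut.conj n⁻¹).toMonoidHom.comp
    (Subgroup.centralizer ({t} : Set G)).subtype)

theorem mem_Hn {M : Subgroup (Subgroup.centralizer ({t} : Set G))} {n : G}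
    {y : Subgroup.centralizer ({t} : Set G)} :
    y ∈ Hn π Z M n ↔ y ∈ M ∧ n⁻¹ * y * n ∈ ZG π Z := by
  unfold Hn
  rw [Subgroup.mem_inf, Subgroup.mem_comap]
  simp

theorem mem_Hn' (hC : CHyp z q ε Z T T' U s s' u)
    {M : Subgroup (Subgroup.centralizer ({t} : Set G))} {n v : G} (hn : n * t * n⁻¹ = v)
    {y : Subgroup.centralizer ({t} : Set G)} :
    y ∈ Hn π Z M n ↔ y ∈ M ∧ HP π Z y v := by
  rw [mem_Hn, HP_iff hC.Z_central hn]

/-- The elements of odd order of `M = C(u')`. -/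
def WW (h : Hyp t z π) (hC : CHyp z q ε Z T T' U s s' u) (hp : Pair π (tt t) s u u' w) :
    Subgroup (Subgroup.centralizer ({t} : Set G)) where
  carrier := {y | y * u' = u' * y ∧ Odd (orderOf y)}
  one_mem' := ⟨by rw [one_mul, mul_one], by rw [orderOf_one]; exact odd_one⟩
  inv_mem' := by
    rintro y ⟨h1, h2⟩
    refine ⟨?_, by rwa [orderOf_inv]⟩
    have h3 : Commute y u' := h1
    exact h3.inv_left
  mul_mem' := by
    rintro x y ⟨h1, h2⟩ ⟨h3, h4⟩
    refine ⟨?_, ?_⟩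
    · have h5 : Commute x u' := h1
      have h6 : Commute y u' := h3
      exact h5.mul_left h6
    · have hx := map_mem (over_of h) hC hp h1
      have hy := map_mem (over_of h) hC hp h3
      have hc : Commute (π x) (π y) := hC.T_comm _ hx _ hy
      have h5 : (x * y) ^ (orderOf x * orderOf y * Nat.card π.ker) = 1 := by
        rw [pow_mul]
        refine pow_card_ker π ?_
        rw [map_pow, map_mul, hc.mul_pow, pow_mul, ← map_pow, pow_orderOf_eq_one, map_one,
          one_pow, one_mul, mul_comm, pow_mul, ← map_pow, pow_orderOf_eq_one, map_one, one_pow]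
      exact ((h2.mul h4).mul h.odd_ker).of_dvd_nat (orderOf_dvd_of_pow_eq_one h5)

theorem mem_WW {h : Hyp t z π} {hC : CHyp z q ε Z T T' U s s' u}
    {hp : Pair π (tt t) s u u' w} {y : Subgroup.centralizer ({t} : Set G)} :
    y ∈ WW h hC hp ↔ y * u' = u' * y ∧ Odd (orderOf y) := Iff.rfl

theorem WW_odd (h : Hyp t z π) (hC : CHyp z q ε Z T T' U s s' u)
    (hp : Pair π (tt t) s u u' w) : Odd (Nat.card (WW h hC hp)) := by
  by_contra hcon
  rw [Nat.not_odd_iff_even, even_iff_two_dvd] at hcon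
  have : Fact (Nat.Prime 2) := ⟨Nat.prime_two⟩
  obtain ⟨x, hx⟩ := exists_prime_orderOf_dvd_card' 2 hcon
  have h1 := (mem_WW.1 x.2).2
  rw [Subgroup.orderOf_coe, hx] at h1
  exact absurd h1 (by decide)

theorem odd_of_ker (h : Hyp t z π) {x : Subgroup.centralizer ({t} : Set G)} (hx : π x = 1) :
    Odd (orderOf x) :=
  h.odd_ker.of_dvd_nat (orderOf_dvd_of_pow_eq_one (pow_card_ker π hx))

theorem odd_of_map (h : Hyp t z π) {x : Subgroup.centralizer ({t} : Set G)}
    (hx : Odd (orderOf (π x))) : Odd (orderOf x) := by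
  have h1 : π (x ^ orderOf (π x)) = 1 := by rw [map_pow, pow_orderOf_eq_one]
  have h2 := pow_card_ker π h1
  rw [← pow_mul] at h2
  exact (hx.mul h.odd_ker).of_dvd_nat (orderOf_dvd_of_pow_eq_one h2)

/-- Conjugation by an element interchanging `t` and `u'`. -/
theorem conj_n {n : G} (hn : Swap t (u' : G) n)
    {y : Subgroup.centralizer ({t} : Set G)} (hy : y * u' = u' * y) :
    ∃ y' : Subgroup.centralizer ({t} : Set G), (y' : G) = n⁻¹ * y * n ∧ y' * u' = u' * y' := by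
  have h1 : (y : G) * u' = u' * y := congrArg Subtype.val hy
  have h2 : (y : G) * t = t * y := Subgroup.mem_centralizer_singleton_iff.1 y.2
  refine ⟨⟨n⁻¹ * y * n, ?_⟩, rfl, Subtype.ext (hn.comm_v h2)⟩
  rw [Subgroup.mem_centralizer_singleton_iff]
  exact hn.comm_t h1

/-- Conjugation by an element interchanging `t` and `t u'`. -/
theorem conj_n' (h : Hyp t z π) {n : G}
    (hn : Swap t (t * u' : G) n)
    {y : Subgroup.centralizer ({t} : Set G)} (hy : y * u' = u' * y) :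
    ∃ y' : Subgroup.centralizer ({t} : Set G), (y' : G) = n⁻¹ * y * n ∧ y' * u' = u' * y' := by
  have h1 : (y : G) * u' = u' * y := congrArg Subtype.val hy
  have h2 : (y : G) * t = t * y := Subgroup.mem_centralizer_singleton_iff.1 y.2
  have h3 : (y : G) * (t * u') = t * u' * y := by
    rw [← mul_assoc, h2, mul_assoc, h1, mul_assoc]
  have h4 : n⁻¹ * y * n * t = t * (n⁻¹ * y * n) := hn.comm_t h3
  have h5 := hn.comm_v h2
  have htt := t_mul_t h
  refine ⟨⟨n⁻¹ * y * n, ?_⟩, rfl, Subtype.ext ?_⟩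
  · rw [Subgroup.mem_centralizer_singleton_iff]
    exact h4
  · change n⁻¹ * y * n * u' = u' * (n⁻¹ * y * n)
    have h6 : (u' : G) = t * (t * u') := by rw [← mul_assoc, htt, one_mul]
    calc n⁻¹ * y * n * u' = n⁻¹ * y * n * (t * (t * u')) := by rw [← h6]
      _ = (n⁻¹ * y * n * t) * (t * u') := by group
      _ = t * ((n⁻¹ * y * n) * (t * u')) := by rw [h4]; group
      _ = t * (t * u') * (n⁻¹ * y * n) := by rw [h5]; group
      _ = u' * (n⁻¹ * y * n) := by rw [← h6]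

/-- `v ∈ ⟨x ^ (r / 2)⟩` for `v = u'` or `v = t u'` if `lam x ≠ 1`. -/
theorem exists_pow_half (h : Hyp t z π) (hC : CHyp z q ε Z T T' U s s' u)
    (hD : DetHyp q ε T T' U s s' u r b) (hp : Pair π (tt t) s u u' w)
    {x : Subgroup.centralizer ({t} : Set G)} (hx : x * u' = u' * x) (hl : lam π r b x ≠ 1) :
    ∃ m : ℕ, (x ^ (r / 2)) ^ m = u' ∨ (x ^ (r / 2)) ^ m = tt t * u' := by
  obtain ⟨n, hn, h1⟩ := exists_odd hC hD
  have hxT := map_mem (over_of h) hC hp hx
  have h2 : (π x ^ (r / 2)) ^ n * (π x ^ (r / 2)) ^ n = 1 := by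
    rw [← pow_mul, ← pow_add]
    have h3 : r / 2 * n + r / 2 * n = r * n := by
      conv_rhs => rw [half hD]
      ring
    rw [h3, h1 _ hxT]
  have h3 : b ((π x ^ (r / 2)) ^ n) ≠ 1 := by
    intro h4
    apply hl
    obtain ⟨m, hm⟩ := hn
    rw [lam_apply]
    rw [map_pow, map_pow, hm, pow_succ, pow_mul, sq, b_sq hD, one_pow, one_mul] at h4
    exact h4
  -- lifting
  have key : ∀ v : Subgroup.centralizer ({t} : Set G), v * v = 1 → x * v = v * x →
      (π x ^ (r / 2)) ^ n = π v → ∃ m : ℕ, (x ^ (r / 2)) ^ m = v := by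
    intro v hv hxv he
    have h4 : π ((x ^ (r / 2)) ^ n * v) = 1 := by
      rw [map_mul, map_pow, map_pow, he, ← map_mul, hv, map_one]
    have h5 := pow_card_ker π h4
    have h6 : Commute ((x ^ (r / 2)) ^ n) v := ((show Commute x v from hxv).pow_left _).pow_left _
    obtain ⟨m, hm⟩ := h.odd_ker
    have h7 : v ^ Nat.card π.ker = v := by
      rw [hm, pow_succ, pow_mul, sq, hv, one_pow, one_mul]
    rw [h6.mul_pow, h7, ← pow_mul] at h5
    refine ⟨n * Nat.card π.ker, ?_⟩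
    have h8 : v⁻¹ = v := inv_eq_of_mul_eq_one_left hv
    rw [← h8]
    exact eq_inv_of_mul_eq_one_left h5
  have htu : x * (tt t * u') = tt t * u' * x := by
    rw [← mul_assoc, ← (tt_comm x).eq, mul_assoc, hx, mul_assoc]
  have htu2 : tt t * u' * (tt t * u') = 1 := by
    calc tt t * u' * (tt t * u') = tt t * (u' * tt t) * u' := by group
      _ = (tt t * tt t) * (u' * u') := by rw [← (tt_comm u').eq]; group
      _ = 1 := by rw [tt_mul_tt h, hp.sq, one_mul]
  rcases hC.invol_T _ (pow_mem (pow_mem hxT _) _) h2 with h4 | h4 | h4 | h4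
  · exact absurd (by rw [h4, map_one]) h3
  · exact absurd (by rw [h4, WrChar.b_z hC hD]) h3
  · obtain ⟨m, hm⟩ := key u' hp.sq hx (by rw [h4, hp.map_u])
    exact ⟨m, Or.inl hm⟩
  · obtain ⟨m, hm⟩ := key (tt t * u') htu2 htu (by rw [h4, map_mul, hp.map_u, map_tt h])
    exact ⟨m, Or.inr hm⟩

/-- An element of the preimage of `Z` in `M` having `t` as an odd power of its `r / 2`-th
power. -/
theorem exists_zeta (h : Hyp t z π) (hC : CHyp z q ε Z T T' U s s' u)
    (hD : DetHyp q ε T T' U s s' u r b) (hp : Pair π (tt t) s u u' w) :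
    ∃ (g : Subgroup.centralizer ({t} : Set G)) (m : ℕ), g * u' = u' * g ∧ π g ∈ Z ∧
      (g ^ (r / 2)) ^ m = tt t := by
  have : Fintype C := Fintype.ofFinite C
  obtain ⟨k, hk, hc⟩ := WrChar.card_Z hC hD
  have hcyc : IsCyclic T' := hC.T'_cyclic
  have : IsCyclic Z := isCyclic_of_injective (Subgroup.inclusion hC.Z_le_T')
    (Subgroup.inclusion_injective hC.Z_le_T')
  obtain ⟨ζ, hζ⟩ := IsCyclic.exists_generator (α := Z)
  have ho : orderOf (ζ : C) = r * k := by
    rw [Subgroup.orderOf_coe, orderOf_eq_card_of_forall_mem_zpowers hζ, hc]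
  have hT : (ζ : C) ∈ T := hC.Z_le_T ζ.2
  rw [← map_M (over_of h) hC hp] at hT
  obtain ⟨g, hg, hgζ⟩ := hT
  have hg' := mem_cent.1 hg
  have hr0 : 0 < r := by
    obtain ⟨m, -, hm⟩ := hD.r_pow
    rw [hm]; positivity
  have hk0 : 0 < k := hk.pos
  have h1 : ((ζ : C) ^ (r / 2)) ^ k * ((ζ : C) ^ (r / 2)) ^ k = 1 := by
    rw [← pow_mul, ← pow_add]
    have h3 : r / 2 * k + r / 2 * k = r * k := by
      conv_rhs => rw [half hD]
      ring
    rw [h3, ← ho, pow_orderOf_eq_one]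
  have h2 : ((ζ : C) ^ (r / 2)) ^ k ≠ 1 := by
    intro h3
    rw [← pow_mul] at h3
    have h4 := orderOf_dvd_of_pow_eq_one h3
    rw [ho] at h4
    have h5 : 0 < r / 2 := by
      have := half hD
      omega
    have h6 := Nat.le_of_dvd (Nat.mul_pos h5 hk0) h4
    have h7 : r / 2 * k < r * k := Nat.mul_lt_mul_of_pos_right (by omega) hk0
    omega
  have h3 : ((ζ : C) ^ (r / 2)) ^ k = z :=
    (hC.invol_Z (pow_mem (pow_mem ζ.2 _) _) h1).resolve_left h2
  have h4 : π ((g ^ (r / 2)) ^ k * tt t) = 1 := by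
    rw [map_mul, map_pow, map_pow, map_tt h]
    have h5 : π g = ζ := hgζ
    rw [h5, h3, z_mul_z h]
  have h5 := pow_card_ker π h4
  have h6 : Commute ((g ^ (r / 2)) ^ k) (tt t) := ((tt_comm g).symm.pow_left _).pow_left _
  obtain ⟨m, hm⟩ := h.odd_ker
  have h7 : (tt t) ^ Nat.card π.ker = tt t := by
    rw [hm, pow_succ, pow_mul, sq, tt_mul_tt h, one_pow, one_mul]
  rw [h6.mul_pow, h7, ← pow_mul] at h5
  refine ⟨g, k * Nat.card π.ker, hg', ?_, ?_⟩
  · have h8 : π g = ζ := hgζ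
    rw [h8]
    exact ζ.2
  · have h8 : (tt t)⁻¹ = tt t := inv_eq_of_mul_eq_one_left (tt_mul_tt h)
    rw [← h8]
    exact eq_inv_of_mul_eq_one_left h5

theorem u_ne_t (h : Hyp t z π) (hC : CHyp z q ε Z T T' U s s' u)
    (hp : Pair π (tt t) s u u' w) : (u' : G) ≠ t := by
  intro h1
  have h2 : u' = tt t := Subtype.ext h1
  have h3 := hp.map_u
  rw [h2, map_tt h] at h3
  exact hC.u_ne h3.symm

theorem u_ne_one (hC : CHyp z q ε Z T T' U s s' u)
    (hp : Pair π (tt t) s u u' w) : (u' : G) ≠ 1 := by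
  intro h1
  have h2 : u' = 1 := Subtype.ext h1
  have h3 := hp.map_u
  rw [h2, map_one] at h3
  exact u_notMem hC (by rw [← h3]; exact one_mem Z)

theorem lam_ne_of_pow {x v : Subgroup.centralizer ({t} : Set G)}
    (hv : b (π v) ≠ 1) {m : ℕ} (hm : (x ^ (r / 2)) ^ m = v) : lam π r b x ≠ 1 := by
  intro h1
  apply hv
  rw [lam_apply] at h1
  rw [← hm, map_pow, map_pow, map_pow, map_pow, h1, one_pow]

theorem xHyp (h : Hyp t z π) (hC : CHyp z q ε Z T T' U s s' u)
    (hD : DetHyp q ε T T' U s s' u r b) (h4 : 4 ∣ r) (hp : Pair π (tt t) s u u' w)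
    {n n' : G} (hn : Swap t (u' : G) n) (hn' : Swap t (t * u' : G) n') :
    WrX.XHyp (Subgroup.centralizer ({u'} : Set (Subgroup.centralizer ({t} : Set G))))
      (Hn π Z (Subgroup.centralizer ({u'} : Set (Subgroup.centralizer ({t} : Set G)))) n)
      (Hn π Z (Subgroup.centralizer ({u'} : Set (Subgroup.centralizer ({t} : Set G)))) n')
      (lam π r b) (tt t) u' w := by
  have hut := u_ne_t h hC hp
  have hu1 := u_ne_one hC hp
  have htt := t_mul_t h
  have huu : (u' : G) * u' = 1 := congrArg Subtype.val hp.sq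
  have hwc : (w : G) * u' * (w : G)⁻¹ = t * u' := congrArg Subtype.val hp.conj
  have hb1 : b u ≠ 1 := by
    rw [hD.b_u]
    exact WrFun.neg_one_ne
  have hb2 : b (z * u) ≠ 1 := by
    rw [map_mul, WrChar.b_z hC hD, one_mul]
    exact hb1
  refine ⟨mem_cent.2 (tt_comm u').eq, tt_mul_tt h, lam_tau (over_of h) hC hD, ?_, inf_le_left, ?_,
    ?_, lam_u hD h4 hp, ?_, ?_, ?_, ?_⟩
  · intro h1
    obtain ⟨-, h2⟩ := (mem_Hn' hC hn.t_v).1 h1
    rcases invol_HP h hC h2 htt with h3 | h3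
    · exact t_ne_one h h3
    · exact hut h3.symm
  · intro x hx y hy
    have hx' := mem_cent.1 hx
    have hy' := mem_cent.1 hy
    refine mem_Hn.2 ⟨mul_mem (mul_mem (mul_mem hx hy) (inv_mem hx)) (inv_mem hy), ?_⟩
    obtain ⟨x₁, hx₁, hx₂⟩ := conj_n hn hx'
    obtain ⟨y₁, hy₁, hy₂⟩ := conj_n hn hy'
    have h1 : ((x₁ * y₁ * x₁⁻¹ * y₁⁻¹ : Subgroup.centralizer ({t} : Set G)) : G) =
        n⁻¹ * ((x * y * x⁻¹ * y⁻¹ : Subgroup.centralizer ({t} : Set G)) : G) * n := by
      push_cast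
      rw [hx₁, hy₁]
      group
    rw [← h1, mem_ZG_coe, map_mul, map_mul, map_mul, map_inv, map_inv,
      hC.T_comm _ (map_mem (over_of h) hC hp hx₂) _ (map_mem (over_of h) hC hp hy₂)]
    have h2 : π y₁ * π x₁ * (π x₁)⁻¹ * (π y₁)⁻¹ = 1 := by group
    rw [h2]
    exact one_mem Z
  · refine mem_Hn.2 ⟨mem_cent.2 rfl, ?_⟩
    have h1 : n⁻¹ * (u' : G) * n = t := by rw [← hn.t_v]; group
    rw [h1]
    exact t_mem_ZG h hC
  · refine mem_Hn.2 ⟨mem_cent.2 ?_, ?_⟩
    · rw [(tt_comm u').eq, mul_assoc, (tt_comm u').eq]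
    · have h1 : n'⁻¹ * ((tt t * u' : Subgroup.centralizer ({t} : Set G)) : G) * n' = t := by
        have h2 : ((tt t * u' : Subgroup.centralizer ({t} : Set G)) : G) = t * u' := rfl
        rw [h2, ← hn'.t_v]; group
      rw [h1]
      exact t_mem_ZG h hC
  · intro y
    rw [mem_Hn' hC hn'.t_v, mem_Hn' hC hn.t_v]
    have h1 : ((w⁻¹ * y * w : Subgroup.centralizer ({t} : Set G)) : G) =
        (w : G)⁻¹ * y * w := rfl
    rw [h1, HP_conj, hwc]
    have h2 := (wrHyp (over_of h) hC hD hp)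
    constructor
    · rintro ⟨h3, h5⟩
      exact ⟨h2.conj_mem y h3, h5⟩
    · rintro ⟨h3, h5⟩
      refine ⟨?_, h5⟩
      have h6 := h2.conj_mem' _ h3
      have h7 : w * (w⁻¹ * y * w) * w⁻¹ = y := by group
      rwa [h7] at h6
  · obtain ⟨g, m, hg1, hg2, hg3⟩ := exists_zeta h hC hD hp
    obtain ⟨x, hx, hx'⟩ := conj_n hn.inv hg1
    rw [inv_inv] at hx
    refine ⟨x, mem_Hn.2 ⟨mem_cent.2 hx', ?_⟩, ?_⟩
    · have h1 : n⁻¹ * (x : G) * n = g := by rw [hx]; group
      rw [h1, mem_ZG_coe]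
      exact hg2
    · refine lam_ne_of_pow (v := u') (by rw [hp.map_u]; exact hb1) (m := m) ?_
      apply Subtype.ext
      have h1 : ((g : G) ^ (r / 2)) ^ m = t := congrArg Subtype.val hg3
      push_cast
      rw [hx, conj_pow, conj_pow, h1, hn.t_v]
  · intro x hxu hxv
    by_contra hl
    obtain ⟨hxM, h1⟩ := (mem_Hn' hC hn.t_v).1 hxu
    obtain ⟨-, h2⟩ := (mem_Hn' hC hn'.t_v).1 hxv
    obtain ⟨m, hm | hm⟩ := exists_pow_half h hC hD hp (mem_cent.1 hxM) hl
    · have h3 : (x : G) ^ (r / 2 * m) = u' := by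
        rw [pow_mul]
        exact congrArg Subtype.val hm
      have h5 := HP_pow (r / 2 * m) h2
      rw [h3] at h5
      rcases invol_HP h hC h5 huu with h6 | h6
      · exact hu1 h6
      · apply t_ne_one h
        have h7 : t * u' = 1 * u' := by rw [one_mul]; exact h6.symm
        exact mul_right_cancel h7
    · have h3 : (x : G) ^ (r / 2 * m) = t * u' := by
        rw [pow_mul]
        exact congrArg Subtype.val hm
      have h5 := HP_pow (r / 2 * m) h1
      rw [h3] at h5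
      have h8 : (t * u' : G) * (t * u') = 1 := by
        have h9 : (u' : G) * t = t * u' := Subgroup.mem_centralizer_singleton_iff.1 u'.2
        calc (t * u' : G) * (t * u') = t * (u' * t) * u' := by group
          _ = (t * t) * (u' * u') := by rw [h9]; group
          _ = 1 := by rw [htt, huu, one_mul]
      rcases invol_HP h hC h5 h8 with h6 | h6
      · apply hut
        have h7 : t⁻¹ = t := inv_eq_of_mul_eq_one_left htt
        exact (inv_eq_of_mul_eq_one_right h6).symm.trans h7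
      · apply t_ne_one h
        have h7 : t * u' = 1 * u' := by rw [one_mul]; exact h6
        exact mul_right_cancel h7

/-- The index of `H_u` in `M`. -/
theorem index_Hn (h : Hyp t z π) (hC : CHyp z q ε Z T T' U s s' u)
    (hp : Pair π (tt t) s u u' w) {n : G} (hn : Swap t (u' : G) n) :
    (((Hn π Z (Subgroup.centralizer ({u'} : Set (Subgroup.centralizer ({t} : Set G)))) n).relIndex
      (Subgroup.centralizer ({u'} : Set (Subgroup.centralizer ({t} : Set G)))) : ℕ) : ℤ) =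
      q - ε := by
  classical
  set M := Subgroup.centralizer ({u'} : Set (Subgroup.centralizer ({t} : Set G))) with hM
  have hmem : ∀ y : M, n⁻¹ * ((y : Subgroup.centralizer ({t} : Set G)) : G) * n ∈
      Subgroup.centralizer ({t} : Set G) := by
    intro y
    obtain ⟨y', hy', -⟩ := conj_n hn (mem_cent.1 y.2)
    rw [← hy']
    exact y'.2
  let f : M →* C :=
    { toFun := fun y => π ⟨n⁻¹ * ((y : Subgroup.centralizer ({t} : Set G)) : G) * n, hmem y⟩
      map_one' := by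
        rw [← map_one π]
        congr 1
        exact Subtype.ext (by simp)
      map_mul' := fun x y => by
        rw [← map_mul]
        congr 1
        exact Subtype.ext (by simp [mul_assoc]) }
  have hf : ∀ y : M, f y = π ⟨n⁻¹ * ((y : Subgroup.centralizer ({t} : Set G)) : G) * n, hmem y⟩ :=
    fun _ => rfl
  have h1 : (Hn π Z M n).subgroupOf M = Z.comap f := by
    ext y
    rw [Subgroup.mem_subgroupOf, mem_Hn, Subgroup.mem_comap, hf, mem_ZG]
    exact ⟨fun h2 => h2.2.2, fun h2 => ⟨y.2, hmem y, h2⟩⟩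
  have h2 : f.range = T := by
    ext x
    constructor
    · rintro ⟨y, rfl⟩
      obtain ⟨y', hy', hy''⟩ := conj_n hn (mem_cent.1 y.2)
      rw [hf]
      have h3 : (⟨n⁻¹ * ((y : Subgroup.centralizer ({t} : Set G)) : G) * n, hmem y⟩ :
          Subgroup.centralizer ({t} : Set G)) = y' := Subtype.ext hy'.symm
      rw [h3]
      exact map_mem (over_of h) hC hp hy''
    · intro hx
      rw [← map_M (over_of h) hC hp] at hx
      obtain ⟨y, hy, hyx⟩ := hx
      obtain ⟨y', hy', hy''⟩ := conj_n hn.inv (mem_cent.1 hy)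
      rw [inv_inv] at hy'
      refine ⟨⟨y', mem_cent.2 hy''⟩, ?_⟩
      rw [hf, ← hyx]
      congr 1
      refine Subtype.ext ?_
      change n⁻¹ * (y' : G) * n = y
      rw [hy']; group
  have h3 : (Hn π Z M n).relIndex M = Z.relIndex T := by
    have h4 : (Hn π Z M n).relIndex M = ((Hn π Z M n).subgroupOf M).index := rfl
    rw [h4, h1, Subgroup.index_comap, h2]
  have h4 : Nat.card Z * Z.relIndex T = Nat.card T := by
    have h5 := Subgroup.relIndex_mul_relIndex (⊥ : Subgroup C) Z T bot_le hC.Z_le_T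
    rwa [Subgroup.relIndex_bot_left, Subgroup.relIndex_bot_left] at h5
  have h5 := hC.card_T
  have h6 : (Nat.card Z : ℤ) ≠ 0 := by exact_mod_cast Nat.card_pos.ne'
  rw [h3]
  apply mul_left_cancel₀ h6
  rw [← h5, ← h4]
  push_cast
  rfl

/-- The character `χ` on the elements `x` of `M` with `lam x ≠ 1`. -/
theorem chi_aux [Fintype G] [Fintype C] (h : Hyp t z π) (hC : CHyp z q ε Z T T' U s s' u)
    (hp : Pair π (tt t) s u u' w) {μ : U →* ℂˣ} {χ : G → ℂ} (hcl : IsClassFunction G χ)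
    (hχ : ∀ g : Subgroup.centralizer ({t} : Set G), z ∈ Subgroup.zpowers ((π g) ^ (r / 2)) →
      χ g = Torus.R T hC.base μ (fun _ => 1) (π g)) {n v : G} (hn : Swap t v n)
    {x x' : Subgroup.centralizer ({t} : Set G)} (hx' : (x' : G) = n⁻¹ * x * n)
    (hxu : x' * u' = u' * x') {m : ℕ} (hm : ((x : G) ^ (r / 2)) ^ m = v) :
    (HP π Z x v → χ x = 1 + ε * q) ∧ (¬ HP π Z x v → χ x = 2) := by
  have h1 : χ x = χ x' := by
    rw [hx', ← hcl x n⁻¹]
    congr 1
    group
  have h2 : ((x' : G) ^ (r / 2)) ^ m = t := by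
    have h3 : n⁻¹ * (x : G) * n = n⁻¹ * (x : G) * n⁻¹⁻¹ := by group
    rw [hx', h3, conj_pow, conj_pow, hm, ← hn.inv.v_t]
  have h3 : (x' ^ (r / 2)) ^ m = tt t := Subtype.ext h2
  have h4 : z ∈ Subgroup.zpowers ((π x') ^ (r / 2)) := by
    refine ⟨m, ?_⟩
    change (π x' ^ (r / 2)) ^ (m : ℤ) = z
    rw [zpow_natCast, ← map_pow, ← map_pow, h3, map_tt h]
  have h5 := map_mem (over_of h) hC hp hxu
  have h6 : HP π Z x v ↔ π x' ∈ Z := by
    rw [HP_iff hC.Z_central hn.t_v, ← hx', mem_ZG_coe]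
  rw [h1, hχ x' h4, h6]
  constructor
  · intro h7
    rw [hC.torus.R_Z hC.base _ h7, mul_one]
  · intro h7
    rw [hC.torus.R_T hC.base _ h5 h7]
    norm_num

/-- A nontrivial irreducible character of a simple group is faithful. -/
theorem faithful [Fintype G] [IsSimpleGroup G] {χ : G → ℂ} (hχ : IsIrrCharacter G χ) {x : G}
    (hx : χ x ≠ χ 1) {k : G} (hk : χ k = χ 1) : k = 1 := by
  obtain ⟨m, ρ, hρ, rfl⟩ := hχ
  have h1 : ∀ y : G, ρ.character y = ρ.character 1 → y ∈ MonoidHom.ker (ρ : G →* _) := by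
    intro y hy
    rw [MonoidHom.mem_ker]
    refine (Values.character_eq_finrank_iff ρ y).1 ?_
    rw [hy, Representation.char_one]
  rcases (MonoidHom.normal_ker (ρ : G →* _)).eq_bot_or_eq_top with h2 | h2
  · have h3 := h1 k hk
    rwa [h2, Subgroup.mem_bot] at h3
  · exfalso
    apply hx
    have h3 : x ∈ MonoidHom.ker (ρ : G →* _) := by rw [h2]; trivial
    rw [MonoidHom.mem_ker] at h3
    change LinearMap.trace ℂ _ (ρ x) = LinearMap.trace ℂ _ (ρ 1)
    rw [map_one]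
    exact congrArg _ h3

/-- The fields of `PosCore` coming from the group `G`. -/
structure GPos (q : ℕ) (K W Hu Hv K1 : Subgroup G) (t : G) (χ : G → ℂ) : Prop where
  W_K1 : ∀ y ∈ W, y ∈ K1 → y ∈ K
  chi_W : ∀ y ∈ W, y ∉ K → χ (t * y) = 2
  swap : ∀ y ∈ W, ∃ y' ∈ W, χ y' = χ y ∧ (y' ∈ K ↔ y ∈ Hu) ∧ (y' ∈ Hu ↔ y ∈ K) ∧
    (y' ∈ Hv ↔ y ∈ Hv)
  swap' : ∀ y ∈ W, ∃ y' ∈ W, χ y' = χ y ∧ (y' ∈ K ↔ y ∈ Hv) ∧ (y' ∈ Hv ↔ y ∈ K) ∧
    (y' ∈ Hu ↔ y ∈ Hu)

/-- **The fields of `CoreHyp`, `PosCore` coming from the group `G`.** -/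
theorem exists_coreHyp [Fintype G] [Fintype C] [IsSimpleGroup G] (h : Hyp t z π)
    (hC : CHyp z q ε Z T T' U s s' u) (hD : DetHyp q ε T T' U s s' u r b) (h4 : 4 ∣ r)
    (hq : 3 ≤ q) (hZ : ∀ ζ ∈ Z, Odd (orderOf ζ) → ζ = 1) (hp : Pair π (tt t) s u u' w) :
    ∃ (Hu Hv W : Subgroup (Subgroup.centralizer ({t} : Set G)))
      (χ : Subgroup.centralizer ({t} : Set G) → ℂ),
      WrCore.CoreHyp q ε π.ker
        (Subgroup.centralizer ({u'} : Set (Subgroup.centralizer ({t} : Set G)))) W Hu Hv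
        (lam π r b) (tt t) u' w χ ∧
      GPos q π.ker W Hu Hv (Z.comap π) (tt t) χ := by
  classical
  obtain ⟨μ, hμ⟩ := hC.base.exists_mu
  obtain ⟨P, hP⟩ := Blocks.ExistsModular.exists_isPModular Nat.prime_two
  obtain ⟨χ, -, hχ1, hχt, hχo, hχ0⟩ := WrChiVal.exists_chi_QS h hC hD h4 hq hμ hP
  obtain ⟨n, hn⟩ := exists_n h hC hp
  obtain ⟨hn', hnu⟩ := swap_tu h hp hn
  set n' := (w : G) * n * (w : G)⁻¹ with hn'd
  have hcl := Core.isIrr_isClassFunction χ.2
  set M := Subgroup.centralizer ({u'} : Set (Subgroup.centralizer ({t} : Set G))) with hM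
  have hxh := xHyp h hC hD h4 hp hn hn'
  have hwr := wrHyp (over_of h) hC hD hp
  have htt := t_mul_t h
  have huu : (u' : G) * u' = 1 := congrArg Subtype.val hp.sq
  have hut := u_ne_t h hC hp
  have hu1 := u_ne_one hC hp
  have hutc : (u' : G) * t = t * u' := Subgroup.mem_centralizer_singleton_iff.1 u'.2
  have htu2 : (t * u' : G) * (t * u') = 1 := by
    calc (t * u' : G) * (t * u') = t * (u' * t) * u' := by group
      _ = (t * t) * (u' * u') := by rw [hutc]; group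
      _ = 1 := by rw [htt, huu, one_mul]
  have htu1 : (t * u' : G) ≠ 1 := by
    intro h1
    apply hut
    have h7 : t⁻¹ = t := inv_eq_of_mul_eq_one_left htt
    exact (inv_eq_of_mul_eq_one_right h1).symm.trans h7
  have htuu : (t * u' : G) ≠ u' := by
    intro h1
    apply t_ne_one h
    have h7 : t * u' = 1 * u' := by rw [one_mul]; exact h1
    exact mul_right_cancel h7
  have hKiff : ∀ y ∈ WW h hC hp, (y ∈ π.ker ↔ (y : G) ∈ ZG π Z) := by
    intro y hy
    rw [mem_ZG_coe, MonoidHom.mem_ker]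
    constructor
    · intro h1
      rw [h1]
      exact one_mem Z
    · intro h1
      refine hZ _ h1 (hy.2.of_dvd_nat (orderOf_map_dvd π y))
  have hmu : ∀ y ∈ WW h hC hp, ∀ y' : Subgroup.centralizer ({t} : Set G), ∀ g : G,
      (y' : G) = g⁻¹ * y * g → y' * u' = u' * y' → y' ∈ WW h hC hp ∧ χ.1 y' = χ.1 y := by
    intro y hy y' g h1 h2
    refine ⟨⟨h2, ?_⟩, ?_⟩
    · have h3 : orderOf y' = orderOf y := by
        rw [← Subgroup.orderOf_coe y', ← Subgroup.orderOf_coe y, h1]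
        have h4 : g⁻¹ * (y : G) * g = MulAut.conj g⁻¹ (y : G) := by simp
        rw [h4]
        exact orderOf_injective (MulAut.conj g⁻¹).toMonoidHom (MulAut.conj g⁻¹).injective _
      rw [h3]
      exact hy.2
    · rw [h1, ← hcl y g⁻¹]
      congr 1
      group
  have hmM : ∀ y : Subgroup.centralizer ({t} : Set G), y ∈ WW h hC hp → y ∈ M :=
    fun y hy => mem_cent.2 hy.1
  refine ⟨Hn π Z M n, Hn π Z M n', WW h hC hp, fun g => χ.1 g, ?_, ?_⟩
  · refine ⟨hwr, hxh, hq, hC.eps, fun g => (tt_comm g).eq, hp.sq, ?_, index_Hn h hC hp hn,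
      Core.isCharacter_comp (Subgroup.subtype _) (Core.isIrr_isCharacter χ.2), hχ1, hχt, ?_, ?_, ?_,
      hmM, WW_odd h hC hp, ?_, ?_, ?_⟩
    · intro g
      rw [hM, mem_cent]
      exact ⟨Eq.symm, Eq.symm⟩
    · intro k hk
      change χ.1 ((tt t * k : Subgroup.centralizer ({t} : Set G)) : G) = χ.1 t
      have h1 : π (tt t * k) = z * 1 := by
        rw [map_mul, map_tt h, MonoidHom.mem_ker.1 hk]
      have h2 := hχo (tt t * k) 1 h1 (by rw [orderOf_one]; exact odd_one)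
      rw [hC.torus.R_Z hC.base _ (one_mem Z), mul_one] at h2
      exact h2.trans hχt.symm
    · intro k _ hk
      refine Subtype.ext (faithful χ.2 (x := t) ?_ hk)
      change (χ : G → ℂ) t ≠ (χ : G → ℂ) 1
      rw [hχt, hχ1]
      intro h1
      have h2 : (q : ℂ) ^ 2 = 1 := by linear_combination -h1
      have h3 : q ^ 2 = 1 := by exact_mod_cast h2
      nlinarith
    · intro x hx hl
      have hxc := mem_cent.1 hx
      obtain ⟨m, hm | hm⟩ := exists_pow_half h hC hD hp hxc hl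
      · have hm' : ((x : G) ^ (r / 2)) ^ m = u' := congrArg Subtype.val hm
        obtain ⟨x', hx', hxu⟩ := conj_n hn hxc
        obtain ⟨h1, h2⟩ := chi_aux h hC hp hcl hχ0 hn hx' hxu hm'
        have h3 : x ∉ Hn π Z M n' := by
          intro h5
          have h6 := HP_pow (r / 2 * m) ((mem_Hn' hC hn'.t_v).1 h5).2
          rw [pow_mul, hm'] at h6
          rcases invol_HP h hC h6 huu with h7 | h7
          · exact hu1 h7
          · exact htuu h7.symm
        rw [if_neg h3]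
        by_cases h5 : HP π Z (x : G) u'
        · rw [if_pos ((mem_Hn' hC hn.t_v).2 ⟨hx, h5⟩)]
          refine (h1 h5).trans ?_
          push_cast
          ring
        · rw [if_neg (fun h6 => h5 ((mem_Hn' hC hn.t_v).1 h6).2)]
          refine (h2 h5).trans ?_
          ring
      · have hm' : ((x : G) ^ (r / 2)) ^ m = t * u' := congrArg Subtype.val hm
        obtain ⟨x', hx', hxu⟩ := conj_n' h hn' hxc
        obtain ⟨h1, h2⟩ := chi_aux h hC hp hcl hχ0 hn' hx' hxu hm'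
        have h3 : x ∉ Hn π Z M n := by
          intro h5
          have h6 := HP_pow (r / 2 * m) ((mem_Hn' hC hn.t_v).1 h5).2
          rw [pow_mul, hm'] at h6
          rcases invol_HP h hC h6 htu2 with h7 | h7
          · exact htu1 h7
          · exact htuu h7
        rw [if_neg h3]
        by_cases h5 : HP π Z (x : G) (t * u')
        · rw [if_pos ((mem_Hn' hC hn'.t_v).2 ⟨hx, h5⟩)]
          refine (h1 h5).trans ?_
          push_cast
          ring
        · rw [if_neg (fun h6 => h5 ((mem_Hn' hC hn'.t_v).1 h6).2)]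
          refine (h2 h5).trans ?_
          ring
    · rintro x ⟨hx, hxM⟩
      exact ⟨mem_cent.1 hxM, odd_of_ker h hx⟩
    · intro y hy
      have h1 := hwr.conj_mem y (hmM y hy)
      exact (hmu y hy _ (w : G) rfl (mem_cent.1 h1)).1
    · intro x hx y hy
      exact ⟨mem_cent.1 (mul_mem (mul_mem (mul_mem hx hy) (inv_mem hx)) (inv_mem hy)),
        odd_of_ker h (hwr.comm x hx y hy)⟩
  · refine ⟨?_, ?_, ?_, ?_⟩
    · intro y hy hyK
      rw [hKiff y hy, mem_ZG_coe]
      exact hyK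
    · intro y hy hyK
      have h1 : π (tt t * y) = z * π y := by rw [map_mul, map_tt h]
      have h2 := hχo (tt t * y) (π y) h1 (hy.2.of_dvd_nat (orderOf_map_dvd π y))
      refine h2.trans ?_
      rw [hC.torus.R_T hC.base _ (map_mem (over_of h) hC hp hy.1)
        (fun h5 => hyK ((hKiff y hy).2 (mem_ZG_coe.2 h5)))]
      norm_num
    · intro y hy
      obtain ⟨y', hy', hyu⟩ := conj_n hn hy.1
      obtain ⟨h1, h2⟩ := hmu y hy y' n hy' hyu
      refine ⟨y', h1, h2, ?_, ?_, ?_⟩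
      · rw [hKiff y' h1, hy', mem_Hn]
        exact ⟨fun h3 => ⟨hmM y hy, h3⟩, fun h3 => h3.2⟩
      · rw [mem_Hn' hC hn.t_v, hy', HP_conj, hn.v_t, HP_t hC.Z_central, hKiff y hy]
        exact ⟨fun h3 => h3.2, fun h3 => ⟨hmM y' h1, h3⟩⟩
      · have h3 : n * (t * u') * n⁻¹ = t * u' := by
          have h5 : n * (t * u') * n⁻¹ = (n * t * n⁻¹) * (n * u' * n⁻¹) := by group
          rw [h5, hn.t_v, hn.v_t, hutc]
        rw [mem_Hn' hC hn'.t_v, mem_Hn' hC hn'.t_v, hy', HP_conj, h3]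
        exact ⟨fun h3 => ⟨hmM y hy, h3.2⟩, fun h3 => ⟨hmM y' h1, h3.2⟩⟩
    · intro y hy
      obtain ⟨y', hy', hyu⟩ := conj_n' h hn' hy.1
      obtain ⟨h1, h2⟩ := hmu y hy y' n' hy' hyu
      refine ⟨y', h1, h2, ?_, ?_, ?_⟩
      · rw [hKiff y' h1, hy', mem_Hn]
        exact ⟨fun h3 => ⟨hmM y hy, h3⟩, fun h3 => h3.2⟩
      · rw [mem_Hn' hC hn'.t_v, hy', HP_conj, hn'.v_t, HP_t hC.Z_central, hKiff y hy]
        exact ⟨fun h3 => h3.2, fun h3 => ⟨hmM y' h1, h3⟩⟩
      · rw [mem_Hn' hC hn.t_v, mem_Hn' hC hn.t_v, hy', HP_conj, hnu]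
        exact ⟨fun h3 => ⟨hmM y hy, h3.2⟩, fun h3 => ⟨hmM y' h1, h3.2⟩⟩

end Main

end Cfsg.Agent.Classification.QDW.WrChiG
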