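import Mathlib
import Cfsg.Prelude.Def_Characters
import Cfsg.Agent.Characters.Core
import Cfsg.Agent.Characters.Linear
import Cfsg.Agent.Characters.Central
import Cfsg.Agent.CharactersDeep.IndFun
import Cfsg.Agent.CharactersDeep.AbelianQuotient
import Cfsg.Agent.OddOrderCharacters.NormTwo
import Cfsg.Agent.Classification.QDW.WrTI

/-!
# The wreathed case: characters attached to the irreducible characters of `M`

The same as `WrTI`, for arbitrary irreducible characters `ξ : M → ℂ` (field automorphisms allowed).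

* `TIHyp`: `M`, `lam`, `w` and the TI-property of `M - ker lam`;
* `difF`: `ξ - ξ lam`; `conjF`: the conjugate `s ↦ ξ (w⁻¹ s w)`; `mulF`: `ξ lam`;
* `indFun_difF_apply`, `classInner_indFun_difF`, `exists_att`, `att_ne`, `exists_att_constituent`,
  `att_neg`;
* `count`: if `ψ(1) ≥ N ξ(1)` for the attached characters and `χ(1) - χ(t) = 2 N Σ ξ(1)`, then the
  `(-1)`-part of `χ` is the sum of the attached characters.
-/

set_option autoImplicit false
set_option linter.unusedSectionVars false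

namespace Cfsg.Agent.Classification.QDW.WrTIF

open Cfsg Cfsg.Agent.Characters
open Cfsg.Agent.CharactersDeep
open scoped ComplexConjugate

universe u

variable {C : Type u} [Group C]

/-- The TI-hypothesis. -/
structure TIHyp (M : Subgroup C) (lam : C →* ℂˣ) (w : C) : Prop where
  lam_sq : ∀ g : C, lam g * lam g = 1
  conj_mem : ∀ x, x ∈ M → w⁻¹ * x * w ∈ M
  conj_mem' : ∀ x, x ∈ M → w * x * w⁻¹ ∈ M
  w_notMem : w ∉ M
  ti : ∀ s ∈ M, lam s ≠ 1 → ∀ g : C, g⁻¹ * s * g ∈ M → g ∈ M ∨ w⁻¹ * g ∈ M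

/-- `ξ - ξ lam`. -/
noncomputable def difF (M : Subgroup C) (lam : C →* ℂˣ) (ξ : M → ℂ) : M → ℂ :=
  fun s => ξ s - ξ s * (lam (s : C) : ℂ)

/-- `ξ lam`. -/
noncomputable def mulF (M : Subgroup C) (lam : C →* ℂˣ) (ξ : M → ℂ) : M → ℂ :=
  fun s => ξ s * (lam (s : C) : ℂ)

/-- The conjugate `s ↦ ξ (w⁻¹ s w)`. -/
def conjF {M : Subgroup C} {w : C} (hw : ∀ x, x ∈ M → w⁻¹ * x * w ∈ M) (ξ : M → ℂ) : M → ℂ :=
  fun s => ξ ⟨w⁻¹ * s * w, hw s s.2⟩

/-- The irreducible character `ψ` of `C` is attached to `ξ`: `Ind (ξ - ξ lam) = ± (ψ - ψ lam)`. -/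
def Att [Fintype C] (M : Subgroup C) (lam : C →* ℂˣ) (ξ : M → ℂ) (ψ : C → ℂ) : Prop :=
  IsIrrCharacter C ψ ∧ ∃ σ : ℂ, (σ = 1 ∨ σ = -1) ∧
    indFun M (difF M lam ξ) = fun g => σ * (ψ g - ψ g * (lam g : ℂ))

variable {M : Subgroup C} {lam : C →* ℂˣ} {w : C}

/-- `ξ` is not equivalent to its conjugate. -/
def Free (h : TIHyp M lam w) (ξ : M → ℂ) : Prop :=
  ξ ≠ conjF h.conj_mem ξ ∧ ξ ≠ mulF M lam ξ ∧ ξ ≠ mulF M lam (conjF h.conj_mem ξ)

/-- `ξ`, `ξ'` are inequivalent. -/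
def Ineq (h : TIHyp M lam w) (ξ ξ' : M → ℂ) : Prop :=
  ξ ≠ ξ' ∧ ξ ≠ mulF M lam ξ' ∧ ξ ≠ conjF h.conj_mem ξ' ∧ ξ ≠ mulF M lam (conjF h.conj_mem ξ')

section Dif

theorem difF_apply (ξ : M → ℂ) (s : M) : difF M lam ξ s = ξ s - ξ s * (lam (s : C) : ℂ) := rfl

theorem mulF_apply (ξ : M → ℂ) (s : M) : mulF M lam ξ s = ξ s * (lam (s : C) : ℂ) := rfl

theorem difF_eq_zero {ξ : M → ℂ} {s : M} (hs : lam (s : C) = 1) : difF M lam ξ s = 0 := by
  rw [difF_apply, hs, Units.val_one, mul_one, sub_self]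

theorem difF_eq {ξ : M → ℂ} (h2 : ∀ g : C, lam g * lam g = 1) {s : M} (hs : lam (s : C) ≠ 1) :
    difF M lam ξ s = 2 * ξ s := by
  rw [difF_apply, WrTI.lam_val h2 hs]
  ring

theorem difF_eq_sub (ξ : M → ℂ) : difF M lam ξ = ξ - mulF M lam ξ := rfl

theorem difF_conj {ξ : M → ℂ} (hξ : IsClassFunction M ξ) (s m : M) :
    difF M lam ξ (m⁻¹ * s * m) = difF M lam ξ s := by
  rw [difF_apply, difF_apply]
  have h1 : ξ (m⁻¹ * s * m) = ξ s := by
    have := hξ s m⁻¹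
    rwa [inv_inv] at this
  have h2 : lam ((m⁻¹ * s * m : M) : C) = lam (s : C) := by
    rw [Subgroup.coe_mul, Subgroup.coe_mul, Subgroup.coe_inv, WrTI.lam_conj]
  rw [h1, h2]

theorem difF_conjF (h : TIHyp M lam w) (ξ : M → ℂ) (s : M) :
    difF M lam (conjF h.conj_mem ξ) s = difF M lam ξ ⟨w⁻¹ * s * w, h.conj_mem s s.2⟩ := by
  rw [difF_apply, difF_apply]
  show _ = _ - _ * ((lam (w⁻¹ * (s : C) * w) : ℂˣ) : ℂ)
  rw [WrTI.lam_conj]
  rfl

theorem isIrr_mulF [Finite C] (lam : C →* ℂˣ) {ξ : M → ℂ} (hξ : IsIrrCharacter M ξ) :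
    IsIrrCharacter M (mulF M lam ξ) := by
  have := Fintype.ofFinite M
  have h := AbelianQuotient.isIrr_linear_mul (lam.comp M.subtype) hξ
  have h2 : ((fun g : M => ((lam.comp M.subtype) g : ℂ)) * ξ) = mulF M lam ξ := by
    funext g
    rw [Pi.mul_apply, mul_comm]
    rfl
  rwa [h2] at h

theorem isIrr_conjF [Finite C] (h : TIHyp M lam w) {ξ : M → ℂ} (hξ : IsIrrCharacter M ξ) :
    IsIrrCharacter M (conjF h.conj_mem ξ) := by
  let f : M →* M :=
    { toFun := fun g => ⟨w⁻¹ * g * w, h.conj_mem g g.2⟩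
      map_one' := Subtype.ext (by simp)
      map_mul' := fun a b => Subtype.ext (by simp [mul_assoc]) }
  have hf : Function.Surjective f := by
    apply Finite.injective_iff_surjective.1
    intro a b hab
    have h1 : w⁻¹ * (a : C) * w = w⁻¹ * b * w := congrArg Subtype.val hab
    exact Subtype.ext (mul_left_cancel (mul_right_cancel h1))
  exact Core.isIrr_comp f hf hξ

theorem mulF_mulF (h2 : ∀ g : C, lam g * lam g = 1) (ξ : M → ℂ) :
    mulF M lam (mulF M lam ξ) = ξ := by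
  funext s
  rw [mulF_apply, mulF_apply, mul_assoc, ← Units.val_mul, h2, Units.val_one, mul_one]

theorem conjF_mulF (h : TIHyp M lam w) (ξ : M → ℂ) :
    conjF h.conj_mem (mulF M lam ξ) = mulF M lam (conjF h.conj_mem ξ) := by
  funext s
  show ξ _ * ((lam (w⁻¹ * (s : C) * w) : ℂˣ) : ℂ) = ξ _ * (lam (s : C) : ℂ)
  rw [WrTI.lam_conj]

open scoped Classical in
/-- The values of the induced function on `M - ker lam`. -/
theorem indFun_difF_apply [Fintype C] (h : TIHyp M lam w) {ξ : M → ℂ}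
    (hξ : IsClassFunction M ξ) {s : M} (hs : lam (s : C) ≠ 1) :
    indFun M (difF M lam ξ) s = difF M lam ξ s + difF M lam (conjF h.conj_mem ξ) s := by
  have hwM : w ∉ M := h.w_notMem
  have hM0 : (Nat.card M : ℂ) ≠ 0 := Core.card_ne_zero_complex
  let _ : Fintype M := Fintype.ofFinite _
  have key : ∀ x : C, extendByZero M (difF M lam ξ) (x⁻¹ * s * x) =
      (if x ∈ M then difF M lam ξ s else 0) +
        (if w⁻¹ * x ∈ M then difF M lam (conjF h.conj_mem ξ) s else 0) := by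
    intro x
    by_cases hx : x ∈ M
    · have hx' : w⁻¹ * x ∉ M := by
        intro h1
        have h2 := M.mul_mem h1 (M.inv_mem hx)
        rw [mul_assoc, mul_inv_cancel, mul_one] at h2
        exact hwM (by simpa using M.inv_mem h2)
      rw [if_pos hx, if_neg hx', add_zero]
      have h3 : x⁻¹ * (s : C) * x = ((⟨x, hx⟩⁻¹ * s * ⟨x, hx⟩ : M) : C) := rfl
      rw [h3, Core.extendByZero_of_mem M _ (Subtype.prop _)]
      exact difF_conj hξ s ⟨x, hx⟩
    · by_cases hx' : w⁻¹ * x ∈ M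
      · rw [if_neg hx, if_pos hx', zero_add, difF_conjF h]
        have h3 : x⁻¹ * (s : C) * x = (((⟨w⁻¹ * x, hx'⟩ : M)⁻¹ * ⟨w⁻¹ * s * w, h.conj_mem s s.2⟩ *
            ⟨w⁻¹ * x, hx'⟩ : M) : C) := by
          show _ = (w⁻¹ * x)⁻¹ * (w⁻¹ * (s : C) * w) * (w⁻¹ * x)
          group
        rw [h3, Core.extendByZero_of_mem M _ (Subtype.prop _)]
        exact difF_conj hξ _ ⟨w⁻¹ * x, hx'⟩
      · rw [if_neg hx, if_neg hx', add_zero]
        apply Core.extendByZero_of_notMem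
        intro h1
        rcases h.ti s s.2 hs x h1 with h2 | h2
        · exact hx h2
        · exact hx' h2
  rw [Core.indFun_apply, Finset.sum_congr rfl fun x _ => key x, Finset.sum_add_distrib]
  have hc1 : ∑ x : C, (if x ∈ M then difF M lam ξ s else 0) = Nat.card M * difF M lam ξ s := by
    rw [← Finset.sum_filter, Finset.sum_const, nsmul_eq_mul]
    congr 2
    rw [Nat.card_eq_fintype_card, Fintype.card_subtype]
  have hc2 : ∑ x : C, (if w⁻¹ * x ∈ M then difF M lam (conjF h.conj_mem ξ) s else 0) =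
      Nat.card M * difF M lam (conjF h.conj_mem ξ) s := by
    rw [Fintype.sum_equiv (Equiv.mulLeft w⁻¹) (fun x : C => if w⁻¹ * x ∈ M then
      difF M lam (conjF h.conj_mem ξ) s else 0) (fun x : C => if x ∈ M then
      difF M lam (conjF h.conj_mem ξ) s else 0) (fun x => rfl)]
    rw [← Finset.sum_filter, Finset.sum_const, nsmul_eq_mul]
    congr 2
    rw [Nat.card_eq_fintype_card, Fintype.card_subtype]
  rw [hc1, hc2]
  field_simp

open scoped Classical in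
/-- Inner products of the functions `ξ - ξ lam`. -/
theorem classInner_difF [Fintype M] [Finite C] (h2 : ∀ g : C, lam g * lam g = 1) {ξ ξ' : M → ℂ}
    (hξ : IsIrrCharacter M ξ) (hξ' : IsIrrCharacter M ξ') :
    classInner (difF M lam ξ) (difF M lam ξ') =
      2 * (if ξ = ξ' then 1 else 0) - 2 * (if ξ = mulF M lam ξ' then 1 else 0) := by
  have k1 := isIrr_mulF lam hξ
  have k2 := isIrr_mulF lam hξ'
  rw [difF_eq_sub, difF_eq_sub, Core.classInner_sub_left, Core.classInner_sub_right,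
    Core.classInner_sub_right, Core.classInner_irr hξ hξ', Core.classInner_irr hξ k2,
    Core.classInner_irr k1 hξ', Core.classInner_irr k1 k2]
  have e1 : mulF M lam ξ = mulF M lam ξ' ↔ ξ = ξ' := by
    constructor
    · intro h
      rw [← mulF_mulF h2 ξ, h, mulF_mulF h2]
    · rintro rfl
      rfl
  have e2 : mulF M lam ξ = ξ' ↔ ξ = mulF M lam ξ' := by
    constructor
    · rintro rfl
      rw [mulF_mulF h2]
    · rintro rfl
      rw [mulF_mulF h2]
  simp only [e1, e2]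
  ring

/-- Inner product with a function that only matters on `M - ker lam`. -/
theorem classInner_difF_congr [Fintype M] (ξ : M → ℂ) {f g : M → ℂ}
    (hfg : ∀ s : M, lam (s : C) ≠ 1 → f s = g s) :
    classInner (difF M lam ξ) f = classInner (difF M lam ξ) g := by
  rw [Core.classInner_def, Core.classInner_def]
  congr 1
  refine Finset.sum_congr rfl fun s _ => ?_
  by_cases hs : lam (s : C) = 1
  · rw [difF_eq_zero hs, zero_mul, zero_mul]
  · rw [hfg s hs]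

open scoped Classical in
/-- Inner products of the induced functions. -/
theorem classInner_indFun_difF [Fintype C] [Fintype M] (h : TIHyp M lam w) {ξ ξ' : M → ℂ}
    (hξ : IsIrrCharacter M ξ) (hξ' : IsIrrCharacter M ξ') :
    classInner (indFun M (difF M lam ξ)) (indFun M (difF M lam ξ')) =
      2 * (if ξ = ξ' then 1 else 0) - 2 * (if ξ = mulF M lam ξ' then 1 else 0) +
      (2 * (if ξ = conjF h.conj_mem ξ' then 1 else 0) -
        2 * (if ξ = mulF M lam (conjF h.conj_mem ξ') then 1 else 0)) := by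
  rw [IndFun.classInner_indFun M _ _ (IndFun.isClassFunction_indFun M _)]
  rw [classInner_difF_congr (g := difF M lam ξ' + difF M lam (conjF h.conj_mem ξ')) ξ
    (fun s hs => by
      rw [Pi.add_apply]
      exact indFun_difF_apply h (Core.isIrr_isClassFunction hξ') hs)]
  rw [Core.classInner_add_right, classInner_difF h.lam_sq hξ hξ',
    classInner_difF h.lam_sq hξ (isIrr_conjF h hξ')]

theorem isGeneralized_indFun_difF [Fintype C] {ξ : M → ℂ} (hξ : IsIrrCharacter M ξ) :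
    IsGeneralizedCharacter C (indFun M (difF M lam ξ)) := by
  rw [difF_eq_sub, IndFun.indFun_sub]
  exact ⟨_, _, IndFun.isCharacter_indFun M (Core.isIrr_isCharacter hξ),
    IndFun.isCharacter_indFun M (Core.isIrr_isCharacter (isIrr_mulF lam hξ)), rfl⟩

theorem indFun_difF_one [Fintype C] (ξ : M → ℂ) : indFun M (difF M lam ξ) 1 = 0 := by
  rw [Core.indFun_apply, Finset.sum_eq_zero, mul_zero]
  intro x _
  have h1 : x⁻¹ * 1 * x = ((1 : M) : C) := by simp
  rw [h1, Core.extendByZero_of_mem M _ (Subtype.prop _)]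
  exact difF_eq_zero (by simp)

theorem indFun_difF_mul_lam [Fintype C] (h2 : ∀ g : C, lam g * lam g = 1) (ξ : M → ℂ) (g : C) :
    indFun M (difF M lam ξ) g * (lam g : ℂ) = -indFun M (difF M lam ξ) g := by
  have hcl : IsClassFunction C (fun g => (lam g : ℂ)) := by
    intro a b
    show ((lam (b * a * b⁻¹) : ℂˣ) : ℂ) = (lam a : ℂ)
    rw [map_mul, map_mul, map_inv, mul_comm (lam b), mul_inv_cancel_right]
  have h1 := congrFun (IndFun.indFun_mul M (difF M lam ξ) (fun g => (lam g : ℂ)) hcl) g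
  rw [Pi.mul_apply] at h1
  have h3 : (fun s : M => difF M lam ξ s * (lam (s : C) : ℂ)) = -difF M lam ξ := by
    funext s
    by_cases hs : lam (s : C) = 1
    · rw [difF_eq_zero hs, zero_mul, Pi.neg_apply, difF_eq_zero hs, neg_zero]
    · rw [WrTI.lam_val h2 hs, Pi.neg_apply]
      ring
  rw [h1, h3, IndFun.indFun_neg, Pi.neg_apply]

theorem norm_indFun_difF [Fintype C] (h : TIHyp M lam w) {ξ : M → ℂ} (hξ : IsIrrCharacter M ξ)
    (hf : Free h ξ) : classInner (indFun M (difF M lam ξ)) (indFun M (difF M lam ξ)) = 2 := by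
  classical
  let _ : Fintype M := Fintype.ofFinite _
  rw [classInner_indFun_difF h hξ hξ, if_pos rfl, if_neg hf.2.1, if_neg hf.1, if_neg hf.2.2]
  norm_num

/-- Every free irreducible character of `M` has an attached irreducible character. -/
theorem exists_att [Fintype C] (h : TIHyp M lam w) {ξ : M → ℂ} (hξ : IsIrrCharacter M ξ)
    (hf : Free h ξ) :
    ∃ ψ : C → ℂ, IsIrrCharacter C ψ ∧ ψ ≠ (fun g => ψ g * (lam g : ℂ)) ∧
      indFun M (difF M lam ξ) = fun g => ψ g - ψ g * (lam g : ℂ) :=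
  WrTI.exists_irr_sub h.lam_sq (isGeneralized_indFun_difF hξ) (norm_indFun_difF h hξ hf)
    (indFun_difF_one ξ) (indFun_difF_mul_lam h.lam_sq ξ)

/-- Inequivalent free characters have different attached characters. -/
theorem att_ne [Fintype C] (h : TIHyp M lam w) {ξ ξ' : M → ℂ} (hξ : IsIrrCharacter M ξ)
    (hξ' : IsIrrCharacter M ξ') (hf : Free h ξ) (hne : Ineq h ξ ξ') {ψ ψ' : C → ℂ}
    (ha : Att M lam ξ ψ) (ha' : Att M lam ξ' ψ') : ψ ≠ ψ' := by
  classical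
  let _ : Fintype M := Fintype.ofFinite _
  rintro rfl
  obtain ⟨-, σ, hσ, h1⟩ := ha
  obtain ⟨-, σ', hσ', h2⟩ := ha'
  have hss : σ' * σ' = 1 := by rcases hσ' with rfl | rfl <;> norm_num
  have h3 : indFun M (difF M lam ξ) = (σ * σ') • indFun M (difF M lam ξ') := by
    rw [h1, h2]
    funext g
    rw [Pi.smul_apply, smul_eq_mul]
    calc σ * (ψ g - ψ g * (lam g : ℂ)) = σ * (σ' * σ') * (ψ g - ψ g * (lam g : ℂ)) := by
          rw [hss, mul_one]
      _ = _ := by ring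
  have h4 := norm_indFun_difF h hξ hf
  rw [h3, Core.classInner_smul_left, ← h3, ← Core.classInner_conj_symm,
    classInner_indFun_difF h hξ hξ', if_neg hne.1, if_neg hne.2.1, if_neg hne.2.2.1,
    if_neg hne.2.2.2] at h4
  norm_num at h4

/-- A character of `C` not orthogonal to `Ind (ξ - ξ lam)` has an attached constituent. -/
theorem exists_att_constituent [Fintype C] (h : TIHyp M lam w) {ξ : M → ℂ}
    (hξ : IsIrrCharacter M ξ) (hf : Free h ξ) {χ : C → ℂ}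
    (ha : classInner χ (indFun M (difF M lam ξ)) ≠ 0) :
    ∃ ψ : C → ℂ, Att M lam ξ ψ ∧ classInner χ ψ ≠ 0 := by
  obtain ⟨ψ, hψ, -, h1⟩ := exists_att h hξ hf
  have h2 : (fun g => ψ g - ψ g * (lam g : ℂ)) = ψ - fun g => ψ g * (lam g : ℂ) := rfl
  by_cases h3 : classInner χ ψ = 0
  · refine ⟨fun g => ψ g * (lam g : ℂ), ⟨WrTI.isIrr_mul_lam lam hψ, -1, Or.inr rfl, ?_⟩, ?_⟩
    · rw [h1]
      funext g
      have h4 : (lam g : ℂ) * (lam g : ℂ) = 1 := by
        rw [← Units.val_mul, h.lam_sq, Units.val_one]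
      linear_combination (-ψ g) * h4
    · intro h4
      apply ha
      rw [h1, h2, Core.classInner_sub_right, h3, h4, sub_zero]
  · exact ⟨ψ, ⟨hψ, 1, Or.inl rfl, by rw [h1]; funext g; rw [one_mul]⟩, h3⟩

end Dif

section Central

theorem indFun_difF_mul [Fintype C] {t : C} (ht : ∀ g : C, t * g = g * t) (htM : t ∈ M)
    (htl : lam t = 1) {ξ : M → ℂ} (hξt : ∀ s : M, ξ (s * ⟨t, htM⟩) = -ξ s) (g : C) :
    indFun M (difF M lam ξ) (g * t) = -indFun M (difF M lam ξ) g := by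
  rw [Core.indFun_apply, Core.indFun_apply, ← mul_neg, ← Finset.sum_neg_distrib]
  congr 1
  refine Finset.sum_congr rfl fun x _ => ?_
  have h1 : x⁻¹ * (g * t) * x = x⁻¹ * g * x * t := by
    rw [mul_assoc, mul_assoc, ht x]
    group
  rw [h1]
  by_cases hx : x⁻¹ * g * x ∈ M
  · rw [Core.extendByZero_of_mem M _ hx, Core.extendByZero_of_mem M _ (M.mul_mem hx htM),
      difF_apply, difF_apply]
    have h2 : (⟨x⁻¹ * g * x * t, M.mul_mem hx htM⟩ : M) = ⟨x⁻¹ * g * x, hx⟩ * ⟨t, htM⟩ := rfl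
    rw [h2, hξt]
    show _ - _ * ((lam (x⁻¹ * g * x * t) : ℂˣ) : ℂ) = _
    rw [map_mul, htl, mul_one]
    ring
  · rw [Core.extendByZero_of_notMem M _ hx, Core.extendByZero_of_notMem M, neg_zero]
    intro h2
    exact hx (by simpa using M.mul_mem h2 (M.inv_mem htM))

/-- The central involution `t` acts as `-1` on the attached characters if it does so on `ξ`. -/
theorem att_neg [Fintype C] (h : TIHyp M lam w) {t : C} (ht : ∀ g : C, t * g = g * t)
    (ht2 : t * t = 1) (htM : t ∈ M) (htl : lam t = 1) {ξ : M → ℂ} (hξ : IsIrrCharacter M ξ)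
    (hf : Free h ξ) (hξt : ∀ s : M, ξ (s * ⟨t, htM⟩) = -ξ s) {ψ : C → ℂ}
    (ha : Att M lam ξ ψ) (g : C) : ψ (g * t) = -ψ g := by
  obtain ⟨hψ, σ, hσ, h1⟩ := ha
  rcases WrTI.exists_sign ht ht2 hψ with h2 | h2
  · exfalso
    have h3 : indFun M (difF M lam ξ) = 0 := by
      funext g
      have h4 := indFun_difF_mul ht htM htl hξt g
      have h5 : indFun M (difF M lam ξ) (g * t) = indFun M (difF M lam ξ) g := by
        rw [h1]
        show σ * (ψ (g * t) - ψ (g * t) * ((lam (g * t) : ℂˣ) : ℂ)) = _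
        rw [h2, map_mul, htl, mul_one]
      rw [h5] at h4
      have h6 : (2 : ℂ) * indFun M (difF M lam ξ) g = 0 := by linear_combination h4
      simpa using h6
    have h4 := norm_indFun_difF h hξ hf
    rw [h3, Core.classInner_zero_left] at h4
    norm_num at h4
  · exact h2 g

/-- The weighted counting theorem. -/
theorem count [Fintype C] (h : TIHyp M lam w) {t : C} (ht : ∀ g : C, t * g = g * t)
    (ht2 : t * t = 1) (htM : t ∈ M) (htl : lam t = 1) {χ : C → ℂ} (hχ : IsCharacter C χ)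
    (X : Finset (M → ℂ)) (hirr : ∀ ξ ∈ X, IsIrrCharacter M ξ) (hfree : ∀ ξ ∈ X, Free h ξ)
    (hineq : ∀ ξ ∈ X, ∀ ξ' ∈ X, ξ ≠ ξ' → Ineq h ξ ξ')
    (hXt : ∀ ξ ∈ X, ∀ s : M, ξ (s * ⟨t, htM⟩) = -ξ s)
    (ha : ∀ ξ ∈ X, classInner χ (indFun M (difF M lam ξ)) ≠ 0) {N : ℕ} (hN : 0 < N)
    (b : (M → ℂ) → ℕ) (hb : ∀ ξ ∈ X, 0 < b ξ)
    (hdeg : ∀ ξ ∈ X, ∀ ψ : C → ℂ, Att M lam ξ ψ → ∀ n : ℕ, ψ 1 = n → N * b ξ ≤ n)
    (htot : χ 1 - χ t = 2 * N * ∑ ξ ∈ X, (b ξ : ℂ)) :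
    ∃ Ψ : (M → ℂ) → C → ℂ, (∀ ξ ∈ X, Att M lam ξ (Ψ ξ) ∧ Ψ ξ 1 = N * b ξ ∧
      ∀ g, Ψ ξ (g * t) = -Ψ ξ g) ∧ ∀ g, χ g - χ (g * t) = 2 * ∑ ξ ∈ X, Ψ ξ g := by
  classical
  have := Core.finite_irr (G := C)
  let _ : Fintype (IrrCharacter C) := Fintype.ofFinite _
  obtain ⟨m, hm⟩ := Core.exists_nat_comb hχ
  -- the attached constituents
  have hex : ∀ ξ : M → ℂ, ∃ φ : IrrCharacter C, ξ ∈ X →
      (Att M lam ξ (φ : C → ℂ) ∧ classInner χ (φ : C → ℂ) ≠ 0) := by
    intro ξ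
    by_cases hξ : ξ ∈ X
    · obtain ⟨ψ, h1, h2⟩ := exists_att_constituent h (hirr ξ hξ) (hfree ξ hξ) (ha ξ hξ)
      exact ⟨⟨ψ, h1.1⟩, fun _ => ⟨h1, h2⟩⟩
    · exact ⟨⟨1, Core.isIrr_one⟩, fun h1 => absurd h1 hξ⟩
  choose φ hφ using hex
  have hdegs : ∀ ψ : IrrCharacter C, ∃ n : ℕ, (ψ : C → ℂ) 1 = n := fun ψ =>
    ⟨_, (Core.isIrr_apply_one ψ.2).choose_spec.2⟩
  choose d hd using hdegs
  have hmul : ∀ ψ : IrrCharacter C, classInner χ (ψ : C → ℂ) = m ψ := by
    intro ψ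
    rw [hm]
    exact Core.classInner_sum_nsmul_irr m ψ
  have hmφ : ∀ ξ ∈ X, 1 ≤ m (φ ξ) := by
    intro ξ hξ
    have h1 := (hφ ξ hξ).2
    rw [hmul] at h1
    exact Nat.one_le_iff_ne_zero.2 (by exact_mod_cast h1)
  have hinj : Set.InjOn φ (X : Set (M → ℂ)) := by
    intro ξ hξ ξ' hξ' he
    by_contra hne
    exact att_ne h (hirr ξ hξ) (hirr ξ' hξ') (hfree ξ hξ) (hineq ξ hξ ξ' hξ' hne) (hφ ξ hξ).1
      (hφ ξ' hξ').1 (congrArg Subtype.val he)
  set S : Finset (IrrCharacter C) :=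
    Finset.univ.filter fun ψ => ∀ g, (ψ : C → ℂ) (g * t) = -(ψ : C → ℂ) g with hS
  have hYS : X.image φ ⊆ S := by
    intro ψ hψ
    obtain ⟨ξ, hξ, rfl⟩ := Finset.mem_image.1 hψ
    rw [hS, Finset.mem_filter]
    exact ⟨Finset.mem_univ _, fun g => att_neg h ht ht2 htM htl (hirr ξ hξ) (hfree ξ hξ) (hXt ξ hξ)
      (hφ ξ hξ).1 g⟩
  -- the `(-1)`-part
  have hE : ∀ g, χ g - χ (g * t) = 2 * ∑ ψ ∈ S, (m ψ : ℂ) * (ψ : C → ℂ) g := by
    intro g
    have h1 : ∀ g, χ g = ∑ ψ : IrrCharacter C, (m ψ : ℂ) * (ψ : C → ℂ) g := by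
      intro g
      conv_lhs => rw [hm]
      rw [Finset.sum_apply]
      refine Finset.sum_congr rfl fun ψ _ => ?_
      rw [Pi.smul_apply, nsmul_eq_mul]
    rw [h1, h1, ← Finset.sum_sub_distrib, hS, Finset.sum_filter, Finset.mul_sum]
    refine Finset.sum_congr rfl fun ψ _ => ?_
    split_ifs with h2
    · rw [h2]
      ring
    · rcases WrTI.exists_sign ht ht2 ψ.2 with h3 | h3
      · rw [h3]
        ring
      · exact absurd h3 h2
  have hsum : ∑ ψ ∈ S, m ψ * d ψ = ∑ ξ ∈ X, N * b ξ := by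
    have h1 := hE 1
    rw [one_mul, htot] at h1
    have h2 : ((∑ ξ ∈ X, N * b ξ : ℕ) : ℂ) = ((∑ ψ ∈ S, m ψ * d ψ : ℕ) : ℂ) := by
      push_cast
      have h3 : (2 : ℂ) * ((N : ℂ) * ∑ ξ ∈ X, (b ξ : ℂ)) =
          2 * ∑ ψ ∈ S, (m ψ : ℂ) * (d ψ : ℂ) := by
        rw [← mul_assoc, h1]
        congr 1
        exact Finset.sum_congr rfl fun ψ _ => by rw [hd]
      rw [← Finset.mul_sum]
      exact mul_left_cancel₀ two_ne_zero h3
    exact_mod_cast h2.symm
  have hsplit := Finset.sum_sdiff hYS (f := fun ψ => m ψ * d ψ)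
  have himg : ∑ ψ ∈ X.image φ, m ψ * d ψ = ∑ ξ ∈ X, m (φ ξ) * d (φ ξ) :=
    Finset.sum_image (fun a ha b hb hab => hinj ha hb hab)
  have hterm' : ∀ ξ ∈ X, N * b ξ ≤ m (φ ξ) * d (φ ξ) := by
    intro ξ hξ
    have h1 := hdeg ξ hξ _ (hφ ξ hξ).1 _ (hd (φ ξ))
    calc N * b ξ ≤ d (φ ξ) := h1
      _ = 1 * d (φ ξ) := (one_mul _).symm
      _ ≤ m (φ ξ) * d (φ ξ) := Nat.mul_le_mul_right _ (hmφ ξ hξ)
  have hYsum : ∑ ξ ∈ X, N * b ξ ≤ ∑ ξ ∈ X, m (φ ξ) * d (φ ξ) := Finset.sum_le_sum hterm'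
  have hzero : ∑ ψ ∈ S \ X.image φ, m ψ * d ψ = 0 := by omega
  have hYeq : ∑ ξ ∈ X, N * b ξ = ∑ ξ ∈ X, m (φ ξ) * d (φ ξ) := by omega
  have hterm : ∀ ξ ∈ X, N * b ξ = m (φ ξ) * d (φ ξ) :=
    (Finset.sum_eq_sum_iff_of_le hterm').1 hYeq
  have hone : ∀ ξ ∈ X, m (φ ξ) = 1 ∧ d (φ ξ) = N * b ξ := by
    intro ξ hξ
    have h1 := hterm ξ hξ
    have h2 := hdeg ξ hξ _ (hφ ξ hξ).1 _ (hd (φ ξ))
    have h3 := hmφ ξ hξ
    have h0 : 0 < N * b ξ := Nat.mul_pos hN (hb ξ hξ)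
    have h4 : m (φ ξ) = 1 := by
      by_contra h5
      have h6 : 2 ≤ m (φ ξ) := by omega
      have h7 : 2 * d (φ ξ) ≤ m (φ ξ) * d (φ ξ) := Nat.mul_le_mul_right _ h6
      omega
    rw [h4, one_mul] at h1
    exact ⟨h4, h1.symm⟩
  refine ⟨fun ξ => (φ ξ : C → ℂ), fun ξ hξ => ⟨(hφ ξ hξ).1, ?_, fun g =>
    att_neg h ht ht2 htM htl (hirr ξ hξ) (hfree ξ hξ) (hXt ξ hξ) (hφ ξ hξ).1 g⟩, fun g => ?_⟩
  · show (φ ξ : C → ℂ) 1 = N * b ξ
    rw [hd, (hone ξ hξ).2]
    push_cast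
    rfl
  · rw [hE g, ← Finset.sum_sdiff hYS]
    have h1 : ∑ ψ ∈ S \ X.image φ, (m ψ : ℂ) * (ψ : C → ℂ) g = 0 := by
      refine Finset.sum_eq_zero fun ψ hψ => ?_
      have h2 := (Finset.sum_eq_zero_iff.1 hzero) ψ hψ
      have h3 : d ψ ≠ 0 := by
        intro h4
        have h5 := Core.isIrr_apply_one_ne_zero ψ.2
        rw [hd, h4, Nat.cast_zero] at h5
        exact h5 rfl
      have h4 : m ψ = 0 := by
        rcases Nat.mul_eq_zero.1 h2 with h5 | h5
        · exact h5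
        · exact absurd h5 h3
      rw [h4, Nat.cast_zero, zero_mul]
    rw [h1, zero_add, Finset.sum_image (fun a ha b hb hab => hinj ha hb hab)]
    congr 1
    refine Finset.sum_congr rfl fun ξ hξ => ?_
    rw [(hone ξ hξ).1, Nat.cast_one, one_mul]

end Central

end Cfsg.Agent.Classification.QDW.WrTIF
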