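import Mathlib
import Cfsg.Prelude.Def_Characters
import Cfsg.Agent.Characters.Core
import Cfsg.Agent.Characters.Clifford
import Cfsg.Agent.Characters.SchurBound
import Cfsg.Agent.CharactersDeep.IndFun
import Cfsg.Agent.Classification.QDW.CoreConst
import Cfsg.Agent.Classification.QDW.Coef

/-!
# The tight case, `ε = 1`: `A_t ∩ A_u = 1`

* `sum_irr`: the sum of an irreducible character over a normal subgroup;
* `side`: `θ = ∑ Ind_B^C η_i`, `η_i(1) = ξ_i(1)`: the part `R` of `θ` on the points different from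
  `∞`, `0` of `C / B` satisfies `|R(y)| ≤ (∑ ξ_i(1)) (fix(y) - 2)` and has a large average on `A`;
* `inf_eq_bot_of_avg`: the counting argument.
-/

set_option autoImplicit false
set_option linter.unusedSectionVars false
set_option linter.unusedVariables false

namespace Cfsg.Agent.Classification.QDW.WrTight

open Cfsg Cfsg.Agent.Characters
open Cfsg.Agent.CharactersDeep
open scoped ComplexConjugate

universe u

section Avg

/-- **The counting argument.** -/
theorem inf_eq_bot_of_avg {W : Type*} [Group W] [Finite W] {A : Fin 3 → Subgroup W}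
    [∀ i, Fintype (A i)] {P : Fin 3 → W → ℝ} {R : W → ℝ} {c μ : ℝ} (hc : 0 < c)
    (hR : ∀ i y, R y ≤ c * P i y) (hm : ∀ i, ∀ y ∈ A i, P i y = μ)
    (havg : ∀ i j, i ≠ j → c * ∑ y : A i, P j y ≤ ∑ y : A i, R y)
    (hRs : ∀ i j, ∑ y : A i, R y = ∑ y : A j, R y)
    (hPs : ∀ i j, i ≠ j → ∑ y : A i, P j y = ∑ y : A j, P i y)
    (h1 : ∀ y, (∀ i, P i y = μ) → R y = c * μ → y = 1) :
    ∀ i j, i ≠ j → A i ⊓ A j = ⊥ := by
  have key : ∀ i j, i ≠ j → ∀ y ∈ A j, R y = c * P i y := by
    intro i j hij y hy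
    have h2 := havg i j hij
    rw [hRs i j, hPs i j hij, Finset.mul_sum] at h2
    have h3 : ∀ y : A j, y ∈ Finset.univ → R y ≤ c * P i y := fun y _ => hR i y
    have h4 := (Finset.sum_eq_sum_iff_of_le h3).1 (le_antisymm (Finset.sum_le_sum h3) h2)
    exact h4 ⟨y, hy⟩ (Finset.mem_univ _)
  intro i j hij
  rw [eq_bot_iff]
  rintro y ⟨hyi, hyj⟩
  rw [Subgroup.mem_bot]
  have hi := hm i y hyi
  have hj := hm j y hyj
  have hRy : R y = c * μ := by rw [key i j hij y hyj, hi]
  refine h1 y (fun k => ?_) hRy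
  by_cases hki : k = i
  · rw [hki, hi]
  by_cases hkj : k = j
  · rw [hkj, hj]
  have h2 := key k j hkj y hyj
  rw [hRy] at h2
  exact (mul_left_cancel₀ hc.ne' h2).symm

end Avg

section Sum

variable {M : Type u} [Group M] [Finite M]

/-- The sum of an irreducible character over a normal subgroup. -/
theorem sum_irr (A : Subgroup M) [A.Normal] [Fintype A] {ξ : M → ℂ} (hξ : IsIrrCharacter M ξ) :
    (∀ a ∈ A, ξ a = ξ 1) ∨ ∑ a : A, ξ a = 0 := by
  obtain ⟨χ₀, χ₁, h0, h1, he, -, hinv, hz⟩ :=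
    CoreConst.exists_fixed_moved A (Core.isIrr_isCharacter hξ)
  rcases Coef.eq_zero_of_irr_add hξ h0 h1 he with h | h
  · right
    have h2 : ξ = χ₁ := by rw [he, h, zero_add]
    rw [h2]
    have h3 := hz 1
    simpa using h3
  · left
    intro a ha
    have h2 : ξ = χ₀ := by rw [he, h, add_zero]
    rw [h2]
    have h3 := hinv 1 a ha
    simpa using h3

/-- The sum of a character over the group. -/
theorem sum_char [Fintype M] {χ : M → ℂ} (hχ : IsCharacter M χ) :
    0 ≤ (∑ a : M, χ a).re := by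
  obtain ⟨n, hn⟩ := Core.classInner_isNat hχ Core.isCharacter_one
  rw [Core.classInner_def] at hn
  have h1 : ∑ a : M, χ a = (Nat.card M : ℂ) * n := by
    rw [← hn, ← mul_assoc, mul_inv_cancel₀ Core.card_ne_zero_complex, one_mul]
    simp
  rw [h1]
  have h2 : ((Nat.card M : ℂ) * n).re = (Nat.card M : ℝ) * n := by
    rw [← Nat.cast_mul, ← Nat.cast_mul]
    exact Complex.natCast_re _
  rw [h2]
  positivity

end Sum

section Side

variable {C : Type u} [Group C] [Fintype C]

open scoped Classical in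
/-- The points different from `∞` and `0`. -/
noncomputable def rest (B : Subgroup C) (w : C) : Finset C :=
  Finset.univ.filter fun x => x ∉ B ∧ w⁻¹ * x ∉ B

open scoped Classical in
/-- The number of `x` with `x⁻¹ y x ∈ B`. -/
noncomputable def cnt (B : Subgroup C) (y : C) : ℕ :=
  (Finset.univ.filter fun x : C => x⁻¹ * y * x ∈ B).card

/-- The part of the induced character on the rest. -/
noncomputable def rho (B : Subgroup C) (w : C) (η : B → ℂ) (y : C) : ℂ :=
  indFun B η y - (extendByZero B η y + extendByZero B η (w⁻¹ * y * w))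

variable {B : Subgroup C} {w : C}

theorem ext_conj {η : B → ℂ} (hη : IsClassFunction B η) {x y : C} (hx : x ∈ B) :
    extendByZero B η (x⁻¹ * y * x) = extendByZero B η y := by
  by_cases hy : y ∈ B
  · have h1 : x⁻¹ * y * x ∈ B := mul_mem (mul_mem (inv_mem hx) hy) hx
    rw [Core.extendByZero_of_mem B η h1, Core.extendByZero_of_mem B η hy]
    have h2 := hη ⟨y, hy⟩ ⟨x, hx⟩⁻¹
    rw [← h2]
    congr 1
    exact Subtype.ext (by simp)
  · have h1 : x⁻¹ * y * x ∉ B := by
      intro h2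
      apply hy
      have h3 : y = x * (x⁻¹ * y * x) * x⁻¹ := by group
      rw [h3]
      exact mul_mem (mul_mem hx h2) (inv_mem hx)
    rw [Core.extendByZero_of_notMem B η h1, Core.extendByZero_of_notMem B η hy]

/-- Splitting a sum over `C` into the parts `B`, `w B` and the rest. -/
theorem sum_split [Fintype B] (hw : w ∉ B) {E : Type*} [AddCommMonoid E] (F : C → E) :
    ∑ x : C, F x = ∑ x : B, F x + ∑ x : B, F (w * x) + ∑ x ∈ rest B w, F x := by
  classical
  have h1 : (Finset.univ : Finset C) = (Finset.univ.filter fun x => x ∈ B) ∪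
      (Finset.univ.filter fun x => w⁻¹ * x ∈ B) ∪ rest B w := by
    ext x
    simp only [rest, Finset.mem_union, Finset.mem_filter, Finset.mem_univ, true_and]
    tauto
  have hd1 : Disjoint (Finset.univ.filter fun x => x ∈ B)
      (Finset.univ.filter fun x => w⁻¹ * x ∈ B) := by
    rw [Finset.disjoint_left]
    intro x hx hx'
    simp only [Finset.mem_filter, Finset.mem_univ, true_and] at hx hx'
    apply hw
    have h2 : w = (w⁻¹ * x * x⁻¹)⁻¹ := by group
    rw [h2]
    exact inv_mem (mul_mem hx' (inv_mem hx))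
  have hd2 : Disjoint ((Finset.univ.filter fun x => x ∈ B) ∪
      (Finset.univ.filter fun x => w⁻¹ * x ∈ B)) (rest B w) := by
    rw [Finset.disjoint_left]
    intro x hx hx'
    simp only [rest, Finset.mem_union, Finset.mem_filter, Finset.mem_univ, true_and] at hx hx'
    tauto
  rw [h1, Finset.sum_union hd2, Finset.sum_union hd1]
  congr 1
  congr 1
  · refine (Finset.sum_subtype _ (fun x => ?_) F)
    simp
  · refine Finset.sum_bij' (fun x hx => (⟨w⁻¹ * x, (Finset.mem_filter.1 hx).2⟩ : B))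
      (fun x _ => w * (x : C)) (fun x _ => Finset.mem_univ _) (fun x _ => ?_) (fun x _ => ?_)
      (fun x _ => ?_) (fun x _ => ?_)
    · simp
    · simp
    · simp
    · simp

theorem card_mul_rho (hw : w ∉ B) {η : B → ℂ} (hη : IsClassFunction B η) (y : C) :
    (Nat.card B : ℂ) * rho B w η y = ∑ x ∈ rest B w, extendByZero B η (x⁻¹ * y * x) := by
  have h0 : (Nat.card B : ℂ) ≠ 0 := Core.card_ne_zero_complex
  let _ : Fintype B := Fintype.ofFinite B
  rw [rho, Core.indFun_apply, sum_split hw, mul_sub, ← mul_assoc, mul_inv_cancel₀ h0, one_mul]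
  have h1 : ∑ x : B, extendByZero B η ((x : C)⁻¹ * y * x) =
      (Nat.card B : ℂ) * extendByZero B η y := by
    rw [Finset.sum_congr rfl fun x _ => ext_conj hη x.2, Finset.sum_const, Finset.card_univ,
      ← Nat.card_eq_fintype_card, nsmul_eq_mul]
  have h2 : ∑ x : B, extendByZero B η ((w * (x : C))⁻¹ * y * (w * x)) =
      (Nat.card B : ℂ) * extendByZero B η (w⁻¹ * y * w) := by
    have h3 : ∀ x : B, extendByZero B η ((w * (x : C))⁻¹ * y * (w * x)) =
        extendByZero B η (w⁻¹ * y * w) := by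
      intro x
      have h4 : (w * (x : C))⁻¹ * y * (w * x) = (x : C)⁻¹ * (w⁻¹ * y * w) * x := by group
      rw [h4, ext_conj hη x.2]
    rw [Finset.sum_congr rfl fun x _ => h3 x, Finset.sum_const, Finset.card_univ,
      ← Nat.card_eq_fintype_card, nsmul_eq_mul]
  rw [h1, h2]
  ring

theorem card_rest (hw : w ∉ B) : (rest B w).card + 2 * Nat.card B = Nat.card C := by
  let _ : Fintype B := Fintype.ofFinite B
  have h1 := sum_split hw (fun _ : C => (1 : ℕ))
  simp only [Finset.sum_const, Finset.card_univ, smul_eq_mul, mul_one] at h1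
  rw [Nat.card_eq_fintype_card, Nat.card_eq_fintype_card, h1]
  ring

open scoped Classical in
theorem cnt_eq (hw : w ∉ B) {y : C} (hy : y ∈ B) (hy' : w⁻¹ * y * w ∈ B) :
    cnt B y = 2 * Nat.card B + ((rest B w).filter fun x => x⁻¹ * y * x ∈ B).card := by
  let _ : Fintype B := Fintype.ofFinite B
  have h1 := sum_split hw (fun x : C => if x⁻¹ * y * x ∈ B then (1 : ℕ) else 0)
  have h2 : ∑ x : B, (if (x : C)⁻¹ * y * x ∈ B then (1 : ℕ) else 0) = Nat.card B := by
    rw [Finset.sum_congr rfl (fun x _ => if_pos (mul_mem (mul_mem (inv_mem x.2) hy) x.2)),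
      Finset.sum_const, Finset.card_univ, ← Nat.card_eq_fintype_card, smul_eq_mul, mul_one]
  have h3 : ∑ x : B, (if (w * (x : C))⁻¹ * y * (w * x) ∈ B then (1 : ℕ) else 0) = Nat.card B := by
    have h4 : ∀ x : B, (w * (x : C))⁻¹ * y * (w * x) ∈ B := by
      intro x
      have h5 : (w * (x : C))⁻¹ * y * (w * x) = (x : C)⁻¹ * (w⁻¹ * y * w) * x := by group
      rw [h5]
      exact mul_mem (mul_mem (inv_mem x.2) hy') x.2
    rw [Finset.sum_congr rfl (fun x _ => if_pos (h4 x)),
      Finset.sum_const, Finset.card_univ, ← Nat.card_eq_fintype_card, smul_eq_mul, mul_one]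
  rw [h2, h3, ← Finset.card_filter, ← Finset.card_filter] at h1
  rw [cnt, h1]
  ring

/-- The bound for `rho`. -/
theorem norm_rho_le (hw : w ∉ B) {η : B → ℂ} (hη : IsCharacter B η) {d : ℕ} (hd : η 1 = d)
    {y : C} (hy : y ∈ B) (hy' : w⁻¹ * y * w ∈ B) {f : ℝ}
    (hf : (cnt B y : ℝ) = Nat.card B * (2 + f)) : ‖rho B w η y‖ ≤ d * f := by
  classical
  have h0 : (0 : ℝ) < Nat.card B := by exact_mod_cast Nat.card_pos
  have h1 : ‖(Nat.card B : ℂ) * rho B w η y‖ ≤ Nat.card B * (d * f) := by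
    rw [card_mul_rho hw (Core.isCharacter_isClassFunction hη)]
    refine (norm_sum_le _ _).trans ?_
    have h2 : ∀ x ∈ rest B w, ‖extendByZero B η (x⁻¹ * y * x)‖ ≤
        if x⁻¹ * y * x ∈ B then (d : ℝ) else 0 := by
      intro x _
      by_cases hx : x⁻¹ * y * x ∈ B
      · rw [if_pos hx, Core.extendByZero_of_mem B η hx]
        exact SchurBound.norm_le hη hd _
      · rw [if_neg hx, Core.extendByZero_of_notMem B η hx, norm_zero]
    refine (Finset.sum_le_sum h2).trans (le_of_eq ?_)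
    rw [← Finset.sum_filter, Finset.sum_const, nsmul_eq_mul]
    have h3 := cnt_eq hw hy hy'
    have h4 : (cnt B y : ℝ) = 2 * Nat.card B +
        ((rest B w).filter fun x => x⁻¹ * y * x ∈ B).card := by exact_mod_cast h3
    have h5 : (((rest B w).filter fun x => x⁻¹ * y * x ∈ B).card : ℝ) = Nat.card B * f := by
      linarith
    rw [h5]
    ring
  rw [norm_mul, Complex.norm_natCast] at h1
  exact le_of_mul_le_mul_left h1 h0

/-- The average of `rho` over a subgroup of the kernel of the action. -/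
theorem sum_rho_nonneg (hw : w ∉ B) {η : B → ℂ} (hη : IsCharacter B η) {K A : Subgroup C}
    [Fintype A] (hK : K.Normal) (hKB : K ≤ B) (hAK : A ≤ K) :
    0 ≤ (∑ a : A, rho B w η a).re := by
  have h0 : (0 : ℝ) < Nat.card B := by exact_mod_cast Nat.card_pos
  have h1 : 0 ≤ ((Nat.card B : ℂ) * ∑ a : A, rho B w η a).re := by
    rw [Finset.mul_sum, Finset.sum_congr rfl fun (a : A) _ =>
      card_mul_rho hw (Core.isCharacter_isClassFunction hη) (a : C), Finset.sum_comm,
      Complex.re_sum]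
    refine Finset.sum_nonneg fun x _ => ?_
    -- the character `a ↦ η (x⁻¹ a x)` of `A`
    let F : A →* B :=
      { toFun := fun a => ⟨x⁻¹ * a * x, hKB (by
          have h2 := hK.conj_mem a (hAK a.2) x⁻¹
          rwa [inv_inv] at h2)⟩
        map_one' := Subtype.ext (by simp)
        map_mul' := fun a b => Subtype.ext (by simp [mul_assoc]) }
    have h2 : ∀ a : A, extendByZero B η (x⁻¹ * a * x) = η (F a) := fun a =>
      Core.extendByZero_of_mem B η (F a).2
    rw [Finset.sum_congr rfl fun (a : A) _ => h2 a]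
    exact sum_char (Core.isCharacter_comp F hη)
  have h2 : ((Nat.card B : ℂ) * ∑ a : A, rho B w η a).re =
      (Nat.card B : ℝ) * (∑ a : A, rho B w η a).re := by
    rw [← Complex.ofReal_natCast, Complex.re_ofReal_mul]
  rw [h2] at h1
  exact nonneg_of_mul_nonneg_right h1 h0

/-- The value of `rho` on the kernel if `K` is in the kernel of `η`. -/
theorem rho_of_ker (hw : w ∉ B) {η : B → ℂ} (hη : IsCharacter B η) {K : Subgroup C}
    (hK : K.Normal) (hKB : K ≤ B) {q : ℕ} (hq : Nat.card C = (q + 1) * Nat.card B)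
    (hker : ∀ k (hk : k ∈ K), η ⟨k, hKB hk⟩ = η 1) {y : C} (hy : y ∈ K) :
    rho B w η y = ((q : ℂ) - 1) * η 1 := by
  have h0 : (Nat.card B : ℂ) ≠ 0 := Core.card_ne_zero_complex
  apply mul_left_cancel₀ h0
  rw [card_mul_rho hw (Core.isCharacter_isClassFunction hη)]
  have h1 : ∀ x ∈ rest B w, extendByZero B η (x⁻¹ * y * x) = η 1 := by
    intro x _
    have h2 := hK.conj_mem y hy x⁻¹
    rw [inv_inv] at h2
    rw [Core.extendByZero_of_mem B η (hKB h2)]
    exact hker _ h2
  rw [Finset.sum_congr rfl h1, Finset.sum_const, nsmul_eq_mul]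
  have h2 := card_rest hw
  rw [hq] at h2
  have h3 : ((rest B w).card : ℂ) = (q - 1) * Nat.card B := by
    have h4 : ((rest B w).card : ℂ) + 2 * Nat.card B = (q + 1) * Nat.card B := by
      exact_mod_cast h2
    linear_combination h4
  rw [h3]
  ring

/-- **One side.** -/
theorem side {K M W A : Subgroup C} [Fintype A] (hK : K.Normal) (hKB : K ≤ B) (hMB : M ≤ B)
    (hWM : W ≤ M) (hAW : A ≤ W) (hAK : A ≤ K) (hw : w ∉ B) (hwW : ∀ y ∈ W, w⁻¹ * y * w ∈ W)
    (hAM : ∀ m ∈ M, ∀ a ∈ A, m * a * m⁻¹ ∈ A) {q : ℕ}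
    (hq : Nat.card C = (q + 1) * Nat.card B) {ι : Type*} [Fintype ι] {ξ : ι → M → ℂ}
    (hξ : ∀ i, IsIrrCharacter M (ξ i)) {η : ι → B → ℂ} (hη : ∀ i, IsCharacter B (η i))
    (h1 : ∀ i, η i 1 = ξ i 1)
    (hsum : ∀ i, ∀ y ∈ W, extendByZero B (η i) y + extendByZero B (η i) (w⁻¹ * y * w) =
      extendByZero M (ξ i) y + extendByZero M (ξ i) (w⁻¹ * y * w))
    (hker : ∀ i, (∀ a (ha : a ∈ A), ξ i ⟨a, hWM (hAW ha)⟩ = ξ i 1) →
      ∀ k (hk : k ∈ K), η i ⟨k, hKB hk⟩ = η i 1) {R : C → ℂ}
    (hR : ∀ y ∈ W, R y = ∑ i, indFun B (η i) y -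
      (∑ i, extendByZero M (ξ i) y + ∑ i, extendByZero M (ξ i) (w⁻¹ * y * w))) :
    (∀ y ∈ W, ∀ f : ℝ, (cnt B y : ℝ) = Nat.card B * (2 + f) →
      ‖R y‖ ≤ (∑ i, (ξ i 1).re) * f) ∧
    ((q : ℝ) - 1) * (∑ a : A, ∑ i, extendByZero M (ξ i) a).re ≤ (∑ a : A, R a).re := by
  have hRr : ∀ y ∈ W, R y = ∑ i, rho B w (η i) y := by
    intro y hy
    rw [hR y hy, ← Finset.sum_add_distrib, ← Finset.sum_sub_distrib]
    refine Finset.sum_congr rfl fun i _ => ?_
    rw [rho, hsum i y hy]
  constructor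
  · intro y hy f hf
    rw [hRr y hy]
    refine (norm_sum_le _ _).trans ?_
    rw [Finset.sum_mul]
    refine Finset.sum_le_sum fun i _ => ?_
    obtain ⟨d, hd⟩ := Core.isCharacter_apply_one (hη i)
    have h2 := norm_rho_le hw (hη i) hd (hMB (hWM hy)) (hMB (hWM (hwW y hy))) hf
    rw [← h1 i, hd, Complex.natCast_re]
    exact h2
  · have h2 : ∀ a : A, R a = ∑ i, rho B w (η i) a := fun a => hRr a (hAW a.2)
    have e1 : ∑ a : A, R a = ∑ i, ∑ a : A, rho B w (η i) a := by
      rw [Finset.sum_congr rfl fun (a : A) _ => h2 a, Finset.sum_comm]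
    have e2 : ∑ a : A, ∑ i, extendByZero M (ξ i) (a : C) =
        ∑ i, ∑ a : A, extendByZero M (ξ i) (a : C) := Finset.sum_comm
    rw [e1, e2, Complex.re_sum, Complex.re_sum, Finset.mul_sum]
    refine Finset.sum_le_sum fun i _ => ?_
    -- the sum of `ξ i` over `A`
    have hAM' : (A.subgroupOf M).Normal := ⟨fun a ha m => by
      rw [Subgroup.mem_subgroupOf] at ha ⊢
      exact hAM m m.2 a ha⟩
    let _ : Fintype (A.subgroupOf M) := Fintype.ofFinite _
    have hAle : A ≤ M := hAW.trans hWM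
    have h3 : ∑ a : A, extendByZero M (ξ i) a = ∑ a : A.subgroupOf M, ξ i a := by
      refine Fintype.sum_equiv (Subgroup.subgroupOfEquivOfLe hAle).symm.toEquiv _ _ fun a => ?_
      exact Core.extendByZero_of_mem M (ξ i) (hAle a.2)
    rw [h3]
    rcases sum_irr (A.subgroupOf M) (hξ i) with h4 | h4
    · -- `A` in the kernel
      have h5 : ∀ a (ha : a ∈ A), ξ i ⟨a, hWM (hAW ha)⟩ = ξ i 1 := fun a ha => h4 ⟨a, _⟩ ha
      have h6 := hker i h5
      have h7 : ∀ a : A, rho B w (η i) a = ((q : ℂ) - 1) * η i 1 := fun a =>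
        rho_of_ker hw (hη i) hK hKB hq h6 (hAK a.2)
      rw [Finset.sum_congr rfl fun (a : A) _ => h7 a,
        Finset.sum_congr rfl fun (a : A.subgroupOf M) _ => h4 a a.2,
        Finset.sum_const, Finset.sum_const, Finset.card_univ, Finset.card_univ,
        ← Nat.card_eq_fintype_card, ← Nat.card_eq_fintype_card,
        Nat.card_congr (Subgroup.subgroupOfEquivOfLe hAle).toEquiv, h1 i, nsmul_eq_mul,
        nsmul_eq_mul]
      obtain ⟨d, -, hd⟩ := Core.isIrr_apply_one (hξ i)
      rw [hd]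
      apply le_of_eq
      have h8 : ((Nat.card A : ℂ) * (((q : ℂ) - 1) * d)) =
          (((Nat.card A : ℝ) * (((q : ℝ) - 1) * d) : ℝ) : ℂ) := by push_cast; ring
      have h9 : ((Nat.card A : ℂ) * d) = (((Nat.card A : ℝ) * d : ℝ) : ℂ) := by push_cast; ring
      rw [h8, h9, Complex.ofReal_re, Complex.ofReal_re]
      ring
    · rw [h4, Complex.zero_re, mul_zero]
      exact sum_rho_nonneg hw (hη i) hK hKB hAK

end Side

end Cfsg.Agent.Classification.QDW.WrTight
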